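import Mathlib

set_option autoImplicit false

namespace Cfsg.Agent.Lib.Helper77

open scoped Pointwise

/-- Membership in a conjugate subgroup. -/
theorem mem_conj_smul_iff {G : Type*} [Group G] (g x : G) (M : Subgroup G) :
    x ∈ MulAut.conj g • M ↔ g⁻¹ * x * g ∈ M := by
  rw [Subgroup.mem_pointwise_smul_iff_inv_smul_mem]
  simp [MulAut.smul_def]

/-- A finite group is not the union of the conjugates of a proper subgroup. -/
theorem exists_not_mem_conj {G : Type*} [Group G] [Finite G] (M : Subgroup G) (hM : M ≠ ⊤) :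
    ∃ x : G, ∀ g : G, x ∉ MulAut.conj g • M := by
  classical
  by_contra hcon
  push Not at hcon
  letI : Fintype G := Fintype.ofFinite G
  letI : Fintype (G ⧸ M) := Fintype.ofFinite _
  letI : ∀ g : G, Fintype (MulAction.fixedBy (G ⧸ M) g) := fun g => Fintype.ofFinite _
  letI : Fintype (MulAction.orbitRel.Quotient G (G ⧸ M)) := Fintype.ofFinite _
  have key := MulAction.sum_card_fixedBy_eq_card_orbits_mul_card_group G (G ⧸ M)
  have hΩ : Fintype.card (MulAction.orbitRel.Quotient G (G ⧸ M)) = 1 := by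
    rw [Fintype.card_eq_one_iff]
    refine ⟨Quotient.mk'' (QuotientGroup.mk 1), fun y => ?_⟩
    induction y using Quotient.inductionOn' with
    | h y =>
      apply Quotient.sound'
      obtain ⟨g, hg⟩ := MulAction.exists_smul_eq G (QuotientGroup.mk 1 : G ⧸ M) y
      exact ⟨g, hg⟩
  rw [hΩ, one_mul] at key
  have h1 : ∀ g : G, 1 ≤ Fintype.card (MulAction.fixedBy (G ⧸ M) g) := by
    intro g
    obtain ⟨a, ha⟩ := hcon g
    rw [mem_conj_smul_iff] at ha
    apply Fintype.card_pos_iff.mpr
    refine ⟨⟨QuotientGroup.mk a, ?_⟩⟩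
    rw [MulAction.mem_fixedBy]
    change (QuotientGroup.mk (g * a) : G ⧸ M) = QuotientGroup.mk a
    rw [QuotientGroup.eq]
    have : (g * a)⁻¹ * a = (a⁻¹ * g * a)⁻¹ := by group
    rw [this]
    exact M.inv_mem ha
  have h2 : 2 ≤ Fintype.card (MulAction.fixedBy (G ⧸ M) (1 : G)) := by
    have hall : ∀ y : G ⧸ M, y ∈ MulAction.fixedBy (G ⧸ M) (1 : G) := fun y => by
      rw [MulAction.mem_fixedBy, one_smul]
    rw [Fintype.card_congr (Equiv.subtypeUnivEquiv hall), ← Nat.card_eq_fintype_card]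
    change 2 ≤ M.index
    have h0 : M.index ≠ 0 := Subgroup.index_ne_zero_of_finite
    have h1' : M.index ≠ 1 := fun h => hM (Subgroup.index_eq_one.mp h)
    omega
  have hlt : ∑ _g : G, 1 < ∑ g : G, Fintype.card (MulAction.fixedBy (G ⧸ M) g) := by
    apply Finset.sum_lt_sum
    · intro g _; exact h1 g
    · exact ⟨1, Finset.mem_univ _, h2⟩
  rw [key] at hlt
  simp at hlt

end Cfsg.Agent.Lib.Helper77
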