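import Mathlib
import Cfsg.Agent.Lib.Helper01.CoprimeSylow
import Cfsg.Agent.Lib.Helper16.Maschke

set_option autoImplicit false

namespace Cfsg.Agent.Lib.Helper77

open Cfsg.Agent.Lib.Helper01

/-- Coprime action given as a `MulDistribMulAction`: an invariant Sylow subgroup exists. -/
theorem exists_invariant_sylow_of_coprime {A G : Type*} [Group A] [Finite A] [Group G] [Finite G]
    [MulDistribMulAction A G] (hcop : (Nat.card A).Coprime (Nat.card G))
    (hsol : Group.IsSolvable A ∨ Group.IsSolvable G) (p : ℕ) [Fact p.Prime] :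
    ∃ P : Sylow p G, ∀ a : A, ∀ x ∈ P, a • x ∈ P := by
  classical
  let φ : A →* MulAut G := MulDistribMulAction.toMulAut A G
  haveI : Finite (G ⋊[φ] A) := Finite.of_equiv _ SemidirectProduct.equivProd.symm
  let K : Subgroup (G ⋊[φ] A) := (SemidirectProduct.inl : G →* G ⋊[φ] A).range
  let A' : Subgroup (G ⋊[φ] A) := (SemidirectProduct.inr : A →* G ⋊[φ] A).range
  have hKn : K.Normal := by
    show ((SemidirectProduct.inl : G →* G ⋊[φ] A).range).Normal
    rw [SemidirectProduct.range_inl_eq_ker_rightHom]; infer_instance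
  have hAK : A' ≤ Subgroup.normalizer (K : Set (G ⋊[φ] A)) := by
    rw [Subgroup.normalizer_eq_top]; exact le_top
  have eK : G ≃* K := MonoidHom.ofInjective SemidirectProduct.inl_injective
  have eA : A ≃* A' := MonoidHom.ofInjective SemidirectProduct.inr_injective
  have hcop' : (Nat.card A').Coprime (Nat.card K) := by
    rw [← Nat.card_congr eK.toEquiv, ← Nat.card_congr eA.toEquiv]; exact hcop
  have hsol' : Group.IsSolvable A' ∨ Group.IsSolvable K := by
    rcases hsol with h | h
    · left; exact Group.isSolvable_of_surjective (f := eA.toMonoidHom) eA.surjective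
    · right; exact Group.isSolvable_of_surjective (f := eK.toMonoidHom) eK.surjective
  obtain ⟨P, ⟨hPK, hPp, hPidx⟩, hPA⟩ := exists_invariant_isSylowIn p hAK hcop' hsol'
  let P₀ : Subgroup G := P.comap (SemidirectProduct.inl : G →* G ⋊[φ] A)
  have hP₀ : IsPGroup p P₀ := hPp.comap_of_injective _ SemidirectProduct.inl_injective
  have hidx : ¬ p ∣ P₀.index := by
    have : P₀.index = P.relIndex K := Subgroup.index_comap P _
    rw [this]; exact hPidx
  refine ⟨hP₀.toSylow hidx, ?_⟩
  intro a x hx
  have hx' : (SemidirectProduct.inl x : G ⋊[φ] A) ∈ P := hx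
  show (SemidirectProduct.inl (a • x) : G ⋊[φ] A) ∈ P
  have h1 : (SemidirectProduct.inl (a • x) : G ⋊[φ] A)
      = SemidirectProduct.inr a * SemidirectProduct.inl x * (SemidirectProduct.inr a)⁻¹ := by
    have := SemidirectProduct.inl_aut (φ := φ) a x
    rw [← map_inv, ← this]; rfl
  rw [h1]
  have ha : (SemidirectProduct.inr a : G ⋊[φ] A) ∈ Subgroup.normalizer (P : Set (G ⋊[φ] A)) :=
    hPA ⟨a, rfl⟩
  exact (Subgroup.mem_normalizer_iff.mp ha _).mp hx'

/-- A retraction onto any subgroup of an elementary abelian `p`-group. -/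
theorem exists_retraction_of_elementary {V : Type*} [CommGroup V] {p : ℕ} [Fact p.Prime]
    (hp : ∀ v : V, v ^ p = 1) (U : Subgroup V) :
    ∃ π : V →* V, (∀ v, π v ∈ U) ∧ ∀ u ∈ U, π u = u := by
  letI : Module (ZMod p) (Additive V) :=
    AddCommGroup.zmodModule (n := p) (G := Additive V) (fun x => congrArg Additive.ofMul (hp x.toMul))
  let U' : Submodule (ZMod p) (Additive V) :=
    AddSubgroup.toZModSubmodule p (Subgroup.toAddSubgroup U)
  obtain ⟨W', hW'⟩ := Submodule.exists_isCompl U'
  let proj := Submodule.projectionOnto U' W' hW'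
  let π' : Additive V →+ Additive V := (U'.subtype.comp proj).toAddMonoidHom
  refine ⟨MonoidHom.toAdditive.symm π', ?_, ?_⟩
  · intro v
    have : (proj (Additive.ofMul v) : Additive V) ∈ U' := (proj (Additive.ofMul v)).2
    exact this
  · intro u hu
    have hu' : Additive.ofMul u ∈ U' := hu
    have := Submodule.projectionOnto_apply_left hW' ⟨Additive.ofMul u, hu'⟩
    have h2 : ((proj (Additive.ofMul u) : U') : Additive V) = Additive.ofMul u := by
      have h3 : proj (Additive.ofMul u) = ⟨Additive.ofMul u, hu'⟩ := this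
      rw [h3]
    exact congrArg Additive.toMul h2

/-- Maschke: an invariant subgroup of an elementary abelian `p`-group under a coprime action
has an invariant complement. -/
theorem exists_invariant_compl {A V : Type*} [Group A] [Finite A] [CommGroup V] [Finite V]
    [MulDistribMulAction A V] {p : ℕ} [Fact p.Prime] (hp : ∀ v : V, v ^ p = 1)
    (hcop : (Nat.card A).Coprime (Nat.card V)) (U : Subgroup V)
    (hU : ∀ a : A, ∀ u ∈ U, a • u ∈ U) :
    ∃ W : Subgroup V, (∀ a : A, ∀ w ∈ W, a • w ∈ W) ∧ U ⊓ W = ⊥ ∧ U ⊔ W = ⊤ := by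
  classical
  letI : Fintype A := Fintype.ofFinite A
  obtain ⟨π, hπU, hπid⟩ := exists_retraction_of_elementary hp U
  have hcop' : (Fintype.card A).Coprime (Nat.card V) := by
    rw [← Nat.card_eq_fintype_card]; exact hcop
  obtain ⟨θ, hθU, hθid, hθeq⟩ :=
    Cfsg.Agent.Lib.Helper16.exists_equivariant_retraction hcop' U hU π hπU hπid
  refine ⟨θ.ker, ?_, ?_, ?_⟩
  · intro a w hw
    rw [MonoidHom.mem_ker] at hw ⊢
    rw [hθeq, hw, smul_one]
  · rw [eq_bot_iff]
    intro u hu
    obtain ⟨hu1, hu2⟩ := Subgroup.mem_inf.mp hu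
    rw [MonoidHom.mem_ker] at hu2
    rw [Subgroup.mem_bot, ← hθid u hu1, hu2]
  · rw [eq_top_iff]
    intro v _
    have h1 : v = θ v * ((θ v)⁻¹ * v) := by group
    rw [h1]
    refine Subgroup.mul_mem_sup (hθU v) ?_
    rw [MonoidHom.mem_ker, map_mul, map_inv, hθid _ (hθU v), inv_mul_cancel]

end Cfsg.Agent.Lib.Helper77
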