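import Mathlib
import Cfsg.Agent.Lib.Helper71.BG1310Defs

/-!
# Keystone 131013 (K-BG1310-M) of helper71's pack for BG 13.10/13.11

`card_prime_of`: LEAF M with LEAF G (`NR.wielandt`) and the clause `E₁ ≠ ⊥` of LEAF E (`NR.structure`) as
explicit hypotheses.  Glue: `NR.card_prime c hII hnot := card_prime_of c (fun hX hX1 _ hS₀ hS₀c hfpf =>
NR.wielandt c hX hX1 hS₀ hS₀c hfpf) (NR.structure c).2.2.2.2.2.2.2 hII hnot`.
-/

set_option autoImplicit false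
set_option linter.style.haveILetI false
set_option linter.unusedSectionVars false

namespace Cfsg.Agent.Lib.Helper77.BG1310

open Cfsg Cfsg.Agent.Lib.Helper55 Cfsg.Agent.Lib.Helper31.BG134 Cfsg.Agent.Lib.Helper71.BG1310

variable {G : Type*} [Group G] [Finite G]

/-- a nontrivial subgroup contains a subgroup of prime order -/
theorem exists_prime_card_le {H : Subgroup G} (hH : H ≠ ⊥) :
    ∃ P : Subgroup G, P ≤ H ∧ (Nat.card P).Prime ∧ P ≠ ⊥ := by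
  have h1 : Nat.card H ≠ 1 := by
    intro h
    exact hH (Subgroup.card_eq_one.1 h)
  obtain ⟨q, hq, hqd⟩ := Nat.exists_prime_and_dvd h1
  haveI : Fact q.Prime := ⟨hq⟩
  obtain ⟨x, hx⟩ := exists_prime_orderOf_dvd_card' q hqd
  have hxo : orderOf (x : G) = q := by rw [Subgroup.orderOf_coe]; exact hx
  refine ⟨Subgroup.zpowers (x : G), ?_, ?_, ?_⟩
  · rw [Subgroup.zpowers_le]; exact x.2
  · rw [Nat.card_zpowers, hxo]; exact hq
  · intro h
    have : Nat.card (Subgroup.zpowers (x : G)) = 1 := by rw [h]; exact Subgroup.card_bot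
    rw [Nat.card_zpowers, hxo] at this
    exact hq.one_lt.ne' this

/-- LEAF M from LEAF G and `E₁ ≠ ⊥`. -/
theorem card_prime_of {M E E₁ E₃ : Subgroup G} (c : NR M E E₁ E₃)
    (hW : ∀ {X : Subgroup G}, X ≤ E₁ → X ≠ ⊥ → ∀ {S₀ : Subgroup G}, S₀ ≤ E₃ → (Nat.card S₀).Prime →
      (∀ x ∈ X, x ≠ 1 → S₀ ⊓ Subgroup.centralizer ({x} : Set G) = ⊥) →
      Nat.card ↥(CP M E₁ ⊓ CP M E₃) ^ Nat.card X * Nat.card ↥(sigmaCore M) =
        Nat.card ↥(CP M E₁) ^ Nat.card X * Nat.card ↥(CP M E₃))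
    (hE₁1 : E₁ ≠ ⊥)
    (hII : ∀ x ∈ E₁, x ≠ 1 → E₃ ⊓ Subgroup.centralizer ({x} : Set G) = ⊥)
    (hnot : ¬ CP M E₁ ≤ CP M E₃) : (Nat.card E₁).Prime := by
  obtain ⟨S₀, hS₀, hS₀c, -⟩ := exists_prime_card_le c.hE₃1
  obtain ⟨P, hP, hPc, hP1⟩ := exists_prime_card_le hE₁1
  have hfpf : ∀ x ∈ E₁, x ≠ 1 → S₀ ⊓ Subgroup.centralizer ({x} : Set G) = ⊥ := by
    intro x hx hx1
    rw [eq_bot_iff, ← hII x hx hx1]
    exact inf_le_inf_right _ hS₀
  have h1 := hW (le_refl E₁) hE₁1 hS₀ hS₀c hfpf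
  have h2 := hW hP hP1 hS₀ hS₀c (fun x hx hx1 => hfpf x (hP hx) hx1)
  -- arithmetic
  have hle : CP M E₁ ⊓ CP M E₃ ≤ CP M E₁ := inf_le_left
  obtain ⟨a, ha⟩ := Subgroup.card_dvd_of_le hle
  have hc13 : 0 < Nat.card ↥(CP M E₁ ⊓ CP M E₃) := Nat.card_pos
  have hc3 : 0 < Nat.card ↥(CP M E₃) := Nat.card_pos
  have ha2 : 2 ≤ a := by
    by_contra hlt
    have ha01 : a = 0 ∨ a = 1 := by omega
    rcases ha01 with h0 | h1'
    · rw [h0, mul_zero] at ha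
      have : 0 < Nat.card ↥(CP M E₁) := Nat.card_pos
      omega
    · rw [h1', mul_one] at ha
      have heq : CP M E₁ ⊓ CP M E₃ = CP M E₁ := Subgroup.eq_of_le_of_card_ge hle (le_of_eq ha)
      exact hnot (heq ▸ inf_le_right)
  rw [ha, mul_pow, mul_assoc] at h1 h2
  have e1 : Nat.card ↥(sigmaCore M) = a ^ Nat.card E₁ * Nat.card ↥(CP M E₃) :=
    Nat.eq_of_mul_eq_mul_left (pow_pos hc13 _) h1
  have e2 : Nat.card ↥(sigmaCore M) = a ^ Nat.card P * Nat.card ↥(CP M E₃) :=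
    Nat.eq_of_mul_eq_mul_left (pow_pos hc13 _) h2
  have e3 : a ^ Nat.card E₁ = a ^ Nat.card P :=
    Nat.eq_of_mul_eq_mul_right hc3 (e1.symm.trans e2)
  have e4 : Nat.card E₁ = Nat.card P := Nat.pow_right_injective ha2 e3
  rw [e4]
  exact hPc

end Cfsg.Agent.Lib.Helper77.BG1310
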