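import Mathlib
import Cfsg.Agent.S1431
import Cfsg.Agent.S1443
import Cfsg.Agent.Lib.Helper71.BG11a

/-!
# K-151-I (keystone 135511, pack of helper12 for S1355/S1364)

`K ≠ 1` a Hall `κ(M)`-subgroup, `q ∣ |K*|`, `S` a Sylow `q`-subgroup of `M_σ` normal in `M`: `S` is not cyclic.
-/

set_option autoImplicit false
set_option linter.style.haveILetI false
set_option linter.unusedVariables false

namespace Cfsg.Agent.Lib.Helper77.BG151

open Cfsg

/-- in a cyclic `q`-group every element of order `q` is a power of any non-identity element -/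
theorem mem_zpowers_of_orderOf_eq_prime {S : Type*} [Group S] [Finite S] [IsCyclic S] (q : ℕ)
    [Fact q.Prime] (hS : IsPGroup q S) (x y : S) (hx : orderOf x = q) (hy : y ≠ 1) :
    x ∈ Subgroup.zpowers y := by
  classical
  haveI : Fintype S := Fintype.ofFinite S
  have hq : q.Prime := Fact.out
  obtain ⟨j, hj⟩ := (IsPGroup.iff_orderOf.mp hS) y
  have hj0 : j ≠ 0 := by
    rintro rfl
    rw [pow_zero, orderOf_eq_one_iff] at hj
    exact hy hj
  obtain ⟨i, rfl⟩ : ∃ i, j = i + 1 := ⟨j - 1, by omega⟩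
  set z : S := y ^ (q ^ i) with hz
  have hzo : orderOf z = q := by
    rw [hz, orderOf_pow' y (pow_ne_zero i hq.ne_zero), hj, Nat.gcd_eq_right (pow_dvd_pow q (Nat.le_succ i)),
      pow_succ, Nat.mul_div_cancel_left _ (pow_pos hq.pos i)]
  have hzy : Subgroup.zpowers z ≤ Subgroup.zpowers y := by
    rw [Subgroup.zpowers_le]
    exact Subgroup.pow_mem _ (Subgroup.mem_zpowers y) _
  apply hzy
  -- the `q`-torsion of a cyclic group has at most `q` elements
  have hT := IsCyclic.card_pow_eq_one_le (α := S) hq.pos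
  have hsub : (Finset.univ.filter fun a : S => a ∈ Subgroup.zpowers z) ⊆
      Finset.univ.filter fun a : S => a ^ q = 1 := by
    intro a ha
    rw [Finset.mem_filter] at ha ⊢
    refine ⟨Finset.mem_univ _, ?_⟩
    obtain ⟨n, rfl⟩ := ha.2
    rw [← zpow_natCast, ← zpow_mul, mul_comm, zpow_mul, zpow_natCast, ← hzo, pow_orderOf_eq_one, one_zpow]
  have hcardz : (Finset.univ.filter fun a : S => a ∈ Subgroup.zpowers z).card = q := by
    rw [← hzo, ← Nat.card_zpowers, Nat.card_eq_fintype_card, Fintype.card_subtype]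
  have heq := Finset.eq_of_subset_of_card_le hsub (by rw [hcardz]; exact hT)
  have hxT : x ∈ Finset.univ.filter fun a : S => a ^ q = 1 := by
    rw [Finset.mem_filter]
    exact ⟨Finset.mem_univ _, by rw [← hx]; exact pow_orderOf_eq_one x⟩
  rw [← heq, Finset.mem_filter] at hxT
  exact hxT.2

/-- leaf D of the pack, proved directly (coprime action on a cyclic `q`-group, `q` odd) -/
theorem le_centralizer_of_cyclic' {X : Type*} [Group X] [Finite X] (q : ℕ) [Fact q.Prime]
    (hq2 : q ≠ 2) (S K : Subgroup X) (hS : IsPGroup q S) (hSc : IsCyclic S)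
    (hK : K ≤ Subgroup.normalizer (S : Set X)) (hcop : (Nat.card K).Coprime q)
    (y : X) (hyS : y ∈ S) (hy1 : y ≠ 1) (hyK : K ≤ Subgroup.centralizer ({y} : Set X)) :
    K ≤ Subgroup.centralizer (S : Set X) := by
  have hbot : Cfsg.IsElementaryAbelian q (⊥ : Subgroup X) := by
    refine ⟨⟨⟨?_⟩⟩, ?_⟩
    · rintro ⟨a, ha⟩ ⟨b, hb⟩
      apply Subtype.ext
      rw [Subgroup.mem_bot] at ha hb
      subst ha; subst hb; rfl
    · intro a ha
      rw [Subgroup.mem_bot] at ha
      rw [ha, one_pow]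
  apply Cfsg.Agent.S1443.result q hq2 S ⊥ K hS bot_le hbot hK hcop
  intro x hx hxq
  have hxS : x ∈ S := hx.1
  have hmem : (⟨x, hxS⟩ : S) ∈ Subgroup.zpowers (⟨y, hyS⟩ : S) := by
    apply mem_zpowers_of_orderOf_eq_prime q hS
    · rw [← hxq]
      exact (Subgroup.orderOf_mk x hxS)
    · intro h
      exact hy1 (congrArg Subtype.val h)
  obtain ⟨n, hn⟩ := hmem
  have hxn : x = y ^ n := by
    have := congrArg Subtype.val hn
    simpa using this.symm
  intro k hk
  rw [Subgroup.mem_centralizer_iff]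
  intro z hz
  rw [Set.mem_singleton_iff] at hz
  subst hz
  have hky := Subgroup.mem_centralizer_iff.mp (hyK hk) y rfl
  rw [hxn]
  exact ((Commute.zpow_left (show Commute y k from hky) n)).eq

/-- **K-151-I** (135511). -/
theorem not_isCyclic_of_normal_sylow {G : Type*} [Group G] [Finite G]
    (hG : IsMinSimpleOddOrder G) {M : Subgroup G} (hM : IsCoatom M) {K : Subgroup G}
    (hK : IsPiHallOf (kappa M) K M) (hK1 : K ≠ ⊥) (q : ℕ) (hq : q.Prime)
    (hqd : q ∣ Nat.card ↥(sigmaCore M ⊓ Subgroup.centralizer (K : Set G)))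
    (S : Subgroup G) (hSσ : S ≤ sigmaCore M) (hSq : IsPGroup q S)
    (hSyl : ¬ q ∣ S.relIndex (sigmaCore M)) (hSn : M ≤ Subgroup.normalizer (S : Set G)) :
    ¬ IsCyclic S := by
  intro hcyc
  haveI : Fact q.Prime := ⟨hq⟩
  have hσM : sigmaCore M ≤ M := Cfsg.Agent.Lib.Helper71.BG11.sigmaCore_le M
  -- `q ∈ σ(M)`, `q ∤ |K|`, `q ≠ 2`
  have hqσ : q ∈ sigma M := Cfsg.Agent.Lib.Helper71.BG11.sigmaCore_pi hG hM hq
    (dvd_trans hqd (Subgroup.card_dvd_of_le inf_le_left))
  have hqK : ¬ q ∣ Nat.card K := fun h => (hK.2.1 q hq h).2.2.1 hqσ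
  have hcop : (Nat.card K).Coprime q := (Nat.Coprime.symm ((Nat.Prime.coprime_iff_not_dvd hq).2 hqK))
  have hq2 : q ≠ 2 := by
    rintro rfl
    have hodd : Odd (Nat.card G) := hG.1
    have h2 : 2 ∣ Nat.card G := dvd_trans hqd (Subgroup.card_subgroup_dvd_card _)
    exact (Nat.not_even_iff_odd.mpr hodd) (even_iff_two_dvd.mpr h2)
  -- an element of order `q` of `K*`
  obtain ⟨y', hy'⟩ := exists_prime_orderOf_dvd_card' (G := ↥(sigmaCore M ⊓ Subgroup.centralizer (K : Set G))) q hqd
  set y : G := (y' : G) with hy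
  have hyo : orderOf y = q := by rw [hy, Subgroup.orderOf_coe]; exact hy'
  have hy1 : y ≠ 1 := by
    intro h
    rw [h, orderOf_one] at hyo
    exact hq.one_lt.ne hyo
  have hyσ : y ∈ sigmaCore M := y'.2.1
  have hyC : y ∈ Subgroup.centralizer (K : Set G) := y'.2.2
  -- `y ∈ S`
  have hSnσ : sigmaCore M ≤ Subgroup.normalizer (S : Set G) := le_trans hσM hSn
  have hPnormal : (S.subgroupOf (sigmaCore M)).Normal :=
    (Subgroup.normal_subgroupOf_iff_le_normalizer hSσ).2 hSnσ
  let P : Sylow q ↥(sigmaCore M) := IsPGroup.toSylow (hSq.comap_subtype (K := sigmaCore M)) hSyl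
  have hPcoe : (P : Subgroup ↥(sigmaCore M)) = S.subgroupOf (sigmaCore M) := rfl
  have hPn : (P : Subgroup ↥(sigmaCore M)).Normal := by rw [hPcoe]; exact hPnormal
  have hyS : y ∈ S := by
    have hyq : IsPGroup q (Subgroup.zpowers (⟨y, hyσ⟩ : ↥(sigmaCore M))) := by
      rw [IsPGroup.iff_card]
      refine ⟨1, ?_⟩
      rw [Nat.card_zpowers, pow_one, ← hyo]
      exact (Subgroup.orderOf_mk y hyσ)
    obtain ⟨P', hP'⟩ := hyq.exists_le_sylow
    haveI := Sylow.unique_of_normal P hPn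
    have hPP' : P' = P := Subsingleton.elim _ _
    have : (⟨y, hyσ⟩ : ↥(sigmaCore M)) ∈ (P : Subgroup ↥(sigmaCore M)) := by
      rw [← hPP']
      exact hP' (Subgroup.mem_zpowers _)
    rw [hPcoe, Subgroup.mem_subgroupOf] at this
    exact this
  -- `K` centralizes `S`
  have hKn : K ≤ Subgroup.normalizer (S : Set G) := le_trans hK.1 hSn
  have hyK : K ≤ Subgroup.centralizer ({y} : Set G) := by
    intro k hk
    rw [Subgroup.mem_centralizer_iff]
    intro z hz
    rw [Set.mem_singleton_iff] at hz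
    subst hz
    exact ((Subgroup.mem_centralizer_iff.mp hyC) k hk).symm
  have hKS := le_centralizer_of_cyclic' q hq2 S K hSq hcyc hKn hcop y hyS hy1 hyK
  -- so `S ≤ K*`, against S1431 (3)
  have hSKs : S ≤ sigmaCore M ⊓ Subgroup.centralizer (K : Set G) := by
    refine le_inf hSσ ?_
    intro s hs
    rw [Subgroup.mem_centralizer_iff]
    intro k hk
    exact ((Subgroup.mem_centralizer_iff.mp (hKS hk)) s hs).symm
  obtain ⟨-, -, h3, -⟩ := Cfsg.Agent.S1431.result hG M hM K hK hK1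
  obtain ⟨-, -, hnot⟩ := h3 q hq hqd P
  apply hnot
  rw [hPcoe, Subgroup.map_subgroupOf_eq_of_le hSσ]
  exact hSKs

end Cfsg.Agent.Lib.Helper77.BG151
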