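import Mathlib

/-!
# Keystone 137703 (K-137N-B) of helper31's pack for BG 13.7 (nonabelian case)

One nonabelian Sylow `q`-subgroup makes all of them nonabelian.
-/

set_option autoImplicit false
set_option linter.style.haveILetI false

namespace Cfsg.Agent.Lib.Helper77.BG137

variable {G : Type*} [Group G] [Finite G]

/-- KEYSTONE 137703  K-137N-B. -/
theorem sylow_all_nonabelian {q : ℕ} [Fact q.Prime]
    (h : ¬ ∀ S : Sylow q G, IsMulCommutative (S : Subgroup G)) :
    ∀ S : Sylow q G, ¬ IsMulCommutative (S : Subgroup G) := by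
  intro S hS
  apply h
  intro S0
  obtain ⟨g, hg⟩ := MulAction.exists_smul_eq G S0 S
  refine ⟨⟨fun x y => ?_⟩⟩
  have hx : g * (x : G) * g⁻¹ ∈ (S : Subgroup G) := by
    rw [← hg, Sylow.coe_subgroup_smul, Subgroup.mem_pointwise_smul_iff_inv_smul_mem]
    simp only [MulAut.smul_def, MulAut.conj_inv_apply]
    have : g⁻¹ * (g * (x : G) * g⁻¹) * g = (x : G) := by group
    rw [this]
    exact x.2
  have hy : g * (y : G) * g⁻¹ ∈ (S : Subgroup G) := by
    rw [← hg, Sylow.coe_subgroup_smul, Subgroup.mem_pointwise_smul_iff_inv_smul_mem]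
    simp only [MulAut.smul_def, MulAut.conj_inv_apply]
    have : g⁻¹ * (g * (y : G) * g⁻¹) * g = (y : G) := by group
    rw [this]
    exact y.2
  have hc := hS.is_comm.comm (⟨_, hx⟩ : ↥(S : Subgroup G)) ⟨_, hy⟩
  have hc' : g * (x : G) * g⁻¹ * (g * (y : G) * g⁻¹) = g * (y : G) * g⁻¹ * (g * (x : G) * g⁻¹) :=
    congrArg Subtype.val hc
  apply Subtype.ext
  show (x : G) * (y : G) = (y : G) * (x : G)
  have e1 : g * (x : G) * g⁻¹ * (g * (y : G) * g⁻¹) = g * ((x : G) * (y : G)) * g⁻¹ := by group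
  have e2 : g * (y : G) * g⁻¹ * (g * (x : G) * g⁻¹) = g * ((y : G) * (x : G)) * g⁻¹ := by group
  rw [e1, e2] at hc'
  exact mul_left_cancel (mul_right_cancel hc')

end Cfsg.Agent.Lib.Helper77.BG137
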