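import Mathlib
import Cfsg.Agent.Lib.Helper11.BG144Defs
import Cfsg.Agent.Lib.Helper71.BG11a
import Cfsg.Agent.S1378

/-!
# Keystone 137403 (K-144-B) of helper11's pack for BG 14.4

The supporting maximal subgroup of an element `x ∈ M_σ - 1` with `C_G(x) ⊄ M`.
-/

set_option autoImplicit false
set_option linter.style.haveILetI false
set_option linter.unusedSectionVars false

namespace Cfsg.Agent.Lib.Helper77.BG144

open Cfsg Subgroup Cfsg.Agent.Lib.Helper11.BG144

variable {G : Type*} [Group G] [Finite G]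

theorem mem_cent_singleton {x g : G} : g ∈ centralizer ({x} : Set G) ↔ x * g = g * x := by
  rw [mem_centralizer_iff]
  constructor
  · intro h; exact h x (Set.mem_singleton x)
  · intro h y hy
    rw [Set.mem_singleton_iff] at hy
    rw [hy]; exact h

/-- a prime cannot lie in `κ(N)` and in `τ₂(N)` -/
theorem not_kappa_of_tau2 {N : Subgroup G} {q : ℕ} (h2 : q ∈ tau2 N) (hk : q ∈ kappa N) : False := by
  obtain ⟨hq, -, -, hrk⟩ := h2
  apply hrk
  intro A hA hexp
  have hpg : IsPGroup q A := by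
    intro a
    refine ⟨1, ?_⟩
    rw [pow_one]
    apply Subtype.ext
    have := hexp a a.2
    simpa using this
  obtain ⟨P, hAP⟩ := hpg.exists_le_sylow
  obtain ⟨hcyc, -⟩ := hk.2.2.2 P
  haveI : IsCyclic ↥(P : Subgroup ↥N) := hcyc
  have hAc : IsCyclic ↥A :=
    isCyclic_of_injective (Subgroup.inclusion hAP) (Subgroup.inclusion_injective hAP)
  obtain ⟨g, hg⟩ := hAc.exists_generator
  have hcard : Nat.card ↥A = orderOf g := (orderOf_eq_card_of_forall_mem_zpowers hg).symm
  have hgq : g ^ q = 1 := by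
    apply Subtype.ext
    have := hexp g g.2
    simpa using this
  have hdvd : orderOf g ∣ q := orderOf_dvd_of_pow_eq_one hgq
  rw [hcard, pow_one]
  exact Nat.le_of_dvd hq.pos hdvd

/-- K-144-B (137403). -/
theorem exists_supp (hG : IsMinSimpleOddOrder G) (hQ : HQ G) (h32 : H1432 G) : HB G := by
  haveI : IsSimpleGroup G := hG.2.1
  intro M hM x hx hx1 hCM
  have hMσM : sigmaCore M ≤ M := Cfsg.Agent.Lib.Helper71.BG11.sigmaCore_le M
  have hxM : x ∈ M := hMσM hx
  -- primes of the order of `x` are in `σ(M)`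
  have hxord : orderOf x ∣ Nat.card (sigmaCore M) := Subgroup.orderOf_dvd_natCard _ hx
  have hσM : ∀ p : ℕ, p.Prime → p ∣ orderOf x → p ∈ sigma M := fun p hp hpd =>
    Cfsg.Agent.Lib.Helper71.BG11.sigmaCore_pi hG hM hp (hpd.trans hxord)
  have ho1 : orderOf x ≠ 1 := fun h => hx1 (orderOf_eq_one_iff.1 h)
  have ho0 : orderOf x ≠ 0 := (orderOf_pos x).ne'
  obtain ⟨q, hq, hqd⟩ := Nat.exists_prime_and_dvd ho1
  have hqσ : q ∈ sigma M := hσM q hq hqd
  -- the subgroup `Y` of order `q`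
  set y : G := x ^ (orderOf x / q) with hy
  have hyo : orderOf y = q := orderOf_pow_orderOf_div ho0 hqd
  set Y : Subgroup G := Subgroup.zpowers y with hYdef
  have hYc : Nat.card Y = q := by rw [hYdef, Nat.card_zpowers, hyo]
  have hYp : IsPGroup q Y := by
    haveI : Fact q.Prime := ⟨hq⟩
    exact IsPGroup.of_card (n := 1) (by rw [hYc, pow_one])
  have hY1 : Y ≠ ⊥ := by
    intro h
    rw [h, Subgroup.card_bot] at hYc
    exact hq.one_lt.ne' hYc.symm
  have hYM : Y ≤ M := by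
    rw [hYdef, Subgroup.zpowers_le]
    exact M.pow_mem hxM _
  have hYtop : Y ≠ ⊤ := fun h => hM.1 (top_le_iff.1 (h ▸ hYM))
  have hCY : centralizer ({x} : Set G) ≤ normalizer (Y : Set G) := by
    refine le_trans ?_ (Subgroup.centralizer_le_normalizer _)
    intro n hn
    rw [mem_cent_singleton] at hn
    rw [mem_centralizer_iff]
    intro z hz
    obtain ⟨j, rfl⟩ := Subgroup.mem_zpowers_iff.1 hz
    have hc : Commute x n := hn
    exact ((hc.pow_left _).zpow_left j).eq
  have hNtop : normalizer (Y : Set G) ≠ ⊤ := by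
    intro h
    rw [Subgroup.normalizer_eq_top_iff] at h
    rcases h.eq_bot_or_eq_top with h3 | h3
    · exact hY1 h3
    · exact hYtop h3
  obtain ⟨N, hN, hNY⟩ : ∃ N, IsCoatom N ∧ normalizer (Y : Set G) ≤ N := by
    rcases eq_top_or_exists_le_coatom (normalizer (Y : Set G)) with h | h
    · exact absurd h hNtop
    · exact h
  have hCN : centralizer ({x} : Set G) ≤ N := hCY.trans hNY
  have hNM : N ≠ M := fun h => hCM (h ▸ hCN)
  obtain ⟨hqτ, hnil, hinf, hcompl, hncj⟩ := hQ M hM q hq hqσ Y hYp hY1 hYM N hN hNM hNY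
  have hxx : x ∈ centralizer ({x} : Set G) := mem_cent_singleton.2 rfl
  have hxN : x ∈ N := hCN hxx
  have hNnorm : N ≤ normalizer (sigmaCore N : Set G) :=
    Cfsg.Agent.Lib.Helper71.BG11.le_normalizer_sigmaCore N
  -- the splitting of `C_G(x)`
  have hsplit : ∀ n ∈ centralizer ({x} : Set G), ∃ e ∈ M ⊓ centralizer ({x} : Set G),
      ∃ a ∈ sigmaCore N ⊓ centralizer ({x} : Set G), n = e * a := by
    intro n hn
    obtain ⟨e, he, a, ha, hnea⟩ := hcompl.2.2.2 n (hCN hn)
    have heM : e ∈ M := (Subgroup.mem_inf.1 he).1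
    have hnx : x * n = n * x := mem_cent_singleton.1 hn
    -- `w = a x a⁻¹ x⁻¹` lies in `N_σ ∩ M`
    have hw1 : a * x * a⁻¹ * x⁻¹ ∈ sigmaCore N := by
      have h1 : x * a⁻¹ * x⁻¹ ∈ sigmaCore N :=
        (Subgroup.mem_normalizer_iff.1 (hNnorm hxN) a⁻¹).1 ((sigmaCore N).inv_mem ha)
      have h2 : a * x * a⁻¹ * x⁻¹ = a * (x * a⁻¹ * x⁻¹) := by group
      rw [h2]
      exact (sigmaCore N).mul_mem ha h1
    have hw2 : a * x * a⁻¹ * x⁻¹ ∈ M := by
      have h1 : a * x * a⁻¹ = e⁻¹ * x * e := by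
        have h3 : x * (e * a) = e * a * x := by rw [← hnea]; exact hnx
        calc a * x * a⁻¹ = e⁻¹ * (e * a * x) * a⁻¹ := by group
          _ = e⁻¹ * (x * (e * a)) * a⁻¹ := by rw [h3]
          _ = e⁻¹ * x * e := by group
      rw [h1]
      exact M.mul_mem (M.mul_mem (M.mul_mem (M.inv_mem heM) hxM) heM) (M.inv_mem hxM)
    have hw : a * x * a⁻¹ * x⁻¹ = 1 := by
      have : a * x * a⁻¹ * x⁻¹ ∈ sigmaCore N ⊓ M := Subgroup.mem_inf.2 ⟨hw1, hw2⟩
      rw [hinf] at this
      exact Subgroup.mem_bot.1 this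
    have hax : x * a = a * x := by
      have h1 : a * x = x * a := by
        calc a * x = (a * x * a⁻¹ * x⁻¹) * (x * a) := by group
          _ = x * a := by rw [hw, one_mul]
      exact h1.symm
    have hex : x * e = e * x := by
      have h3 : x * (e * a) = e * a * x := by rw [← hnea]; exact hnx
      have h4 : x * e * a = e * x * a := by
        calc x * e * a = x * (e * a) := by group
          _ = e * a * x := h3
          _ = e * (a * x) := by group
          _ = e * (x * a) := by rw [hax]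
          _ = e * x * a := by group
      exact mul_right_cancel h4
    exact ⟨e, Subgroup.mem_inf.2 ⟨heM, mem_cent_singleton.2 hex⟩, a,
      Subgroup.mem_inf.2 ⟨ha, mem_cent_singleton.2 hax⟩, hnea⟩
  -- `R ≠ 1`
  have hR : sigmaCore N ⊓ centralizer ({x} : Set G) ≠ ⊥ := by
    intro hbot
    apply hCM
    intro n hn
    obtain ⟨e, he, a, ha, rfl⟩ := hsplit n hn
    rw [hbot, Subgroup.mem_bot] at ha
    rw [ha, mul_one]
    exact (Subgroup.mem_inf.1 he).1
  obtain ⟨r, hrR, hr1⟩ : ∃ r ∈ sigmaCore N ⊓ centralizer ({x} : Set G), r ≠ 1 := by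
    by_contra h
    push Not at h
    exact hR ((Subgroup.eq_bot_iff_forall _).2 h)
  have hrσ : r ∈ sigmaCore N := (Subgroup.mem_inf.1 hrR).1
  have hrx : x * r = r * x := mem_cent_singleton.1 (Subgroup.mem_inf.1 hrR).2
  have hxr : x ∈ N ⊓ centralizer ({r} : Set G) :=
    Subgroup.mem_inf.2 ⟨hxN, mem_cent_singleton.2 hrx.symm⟩
  have hnotσN : ∀ p : ℕ, p.Prime → p ∣ orderOf x → p ∉ sigma N := by
    intro p hp hpd hpN
    obtain ⟨g, hg⟩ := (Cfsg.Agent.S1378.result hG).2 M N hM hN ⟨p, hσM p hp hpd, hpN⟩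
    exact hncj g hg
  rcases h32 N hN r hrσ hr1 x hxr hx1 hnotσN with ⟨hκ, -⟩ | ⟨hτ, -, hcent, huniq⟩
  · exact (not_kappa_of_tau2 hqτ (hκ q hq hqd)).elim
  · exact ⟨N, ⟨hN, hcent, huniq, hNM, hncj, hnil, hinf, hcompl, hτ, hR, hsplit⟩⟩

end Cfsg.Agent.Lib.Helper77.BG144
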