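import Mathlib
import Cfsg.Agent.Lib.Helper31.BG147Defs
import Cfsg.Agent.Lib.Helper55.Basic
import Cfsg.Agent.Lib.Helper55.BG1213a
import Cfsg.Agent.Lib.Helper75.BG14DP
import Cfsg.Agent.Lib.Helper71.BG11a

/-!
# K-1369-N (keystone 136902, pack of helper31 for S1369): `Ẑ = K K* - (K ∪ K*)` is TI with normalizer `K K*`
for any Hall `κ(M)`-subgroup `K ≠ 1` (not assumed abelian).
-/

set_option autoImplicit false
set_option linter.style.haveILetI false
set_option linter.unusedVariables false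

namespace Cfsg.Agent.Lib.Helper77.BG147

open Cfsg Subgroup Cfsg.Agent.Lib.Helper55 Cfsg.Agent.Lib.Helper11.BG14D Cfsg.Agent.Lib.Helper31.BG147

variable {G : Type*} [Group G] [Finite G]

/-- decomposition of an element of `KY - (K ∪ Y)` into commuting parts -/
theorem parts_of_mem {K Y : Subgroup G} (hc : Y ≤ centralizer (K : Set G)) {z : G}
    (hz : z ∈ (↑(K ⊔ Y) : Set G) \ ((K : Set G) ∪ ↑Y)) :
    ∃ x ∈ K, ∃ y ∈ Y, x ≠ 1 ∧ y ≠ 1 ∧ z = x * y ∧ x * y = y * x := by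
  have hcomm : ∀ a ∈ K, ∀ b ∈ Y, a * b = b * a := by
    intro a ha b hb
    exact ((Subgroup.mem_centralizer_iff.mp (hc hb)) a ha)
  obtain ⟨x, hx, y, hy, rfl⟩ := exists_mul_of_mem_sup_of_commute hcomm hz.1
  refine ⟨x, hx, y, hy, ?_, ?_, rfl, hcomm x hx y hy⟩
  · rintro rfl
    apply hz.2
    right
    simpa using hy
  · rintro rfl
    apply hz.2
    left
    simpa using hx

/-- the orders of `K` and of `K*` are coprime -/
theorem coprime_card_Ks (hG : IsMinSimpleOddOrder G) {M K : Subgroup G} (hM : IsCoatom M)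
    (hK : IsPiHallOf (kappa M) K M) : (Nat.card K).Coprime (Nat.card (Ks M K)) := by
  apply Nat.coprime_of_dvd
  intro p hp hpK hpY
  have h1 : p ∈ kappa M := hK.2.1 p hp hpK
  have h2 : p ∣ Nat.card (sigmaCore M) :=
    dvd_trans hpY (Subgroup.card_dvd_of_le (inf_le_left : Ks M K ≤ sigmaCore M))
  exact h1.2.2.1 (Cfsg.Agent.Lib.Helper71.BG11.sigmaCore_pi hG hM hp h2)

/-- **K-1369-N** (136902). -/
theorem zhat_normalizer (hG : IsMinSimpleOddOrder G) (h31 : H1431 G) {M K : Subgroup G} (hM : IsCoatom M)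
    (hK : IsPiHallOf (kappa M) K M) (hK1 : K ≠ ⊥) {z g : G} (hz : z ∈ Zhat M K)
    (hg : g * z * g⁻¹ ∈ Zhat M K) : g ∈ K ⊔ Ks M K := by
  have hc : Ks M K ≤ centralizer (K : Set G) := inf_le_right
  have hcop := coprime_card_Ks hG hM hK
  obtain ⟨x, hx, y, hy, hx1, hy1, hzxy, hxy⟩ := parts_of_mem hc hz
  obtain ⟨x', hx', y', hy', hx'1, hy'1, hgz, hxy'⟩ := parts_of_mem hc hg
  obtain ⟨h1, h2, -, -⟩ := h31 M hM K hK hK1
  -- uniqueness of the coprime parts
  have hpK : ∀ a ∈ K, a ^ Nat.card K = 1 := by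
    intro a ha
    have := pow_card_eq_one' (G := K) (x := ⟨a, ha⟩)
    exact congrArg Subtype.val this
  have hpY : ∀ a ∈ Ks M K, a ^ Nat.card (Ks M K) = 1 := by
    intro a ha
    have := pow_card_eq_one' (G := Ks M K) (x := ⟨a, ha⟩)
    exact congrArg Subtype.val this
  have hconj_pow : ∀ (a : G) (n : ℕ), (g * a * g⁻¹) ^ n = g * a ^ n * g⁻¹ := by
    intro a n
    exact conj_pow
  have e1 : (g * x * g⁻¹) ^ Nat.card K = 1 := by
    rw [hconj_pow, hpK x hx]; group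
  have e2 : (g * y * g⁻¹) ^ Nat.card (Ks M K) = 1 := by
    rw [hconj_pow, hpY y hy]; group
  have e3 : (g * x * g⁻¹) * (g * y * g⁻¹) = (g * y * g⁻¹) * (g * x * g⁻¹) := by
    calc (g * x * g⁻¹) * (g * y * g⁻¹) = g * (x * y) * g⁻¹ := by group
      _ = g * (y * x) * g⁻¹ := by rw [hxy]
      _ = (g * y * g⁻¹) * (g * x * g⁻¹) := by group
  have e4 : (g * x * g⁻¹) * (g * y * g⁻¹) = x' * y' := by
    rw [← hgz, hzxy]; group
  obtain ⟨hxx', hyy'⟩ := Cfsg.Agent.Lib.Helper75.BG14D.eq_of_mul_eq_mul_of_coprime hcop e1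
    (hpK x' hx') e2 (hpY y' hy') e3 hxy' e4
  -- `g ∈ M`
  have hyM : y ∈ M := Cfsg.Agent.Lib.Helper71.BG11.sigmaCore_le M hy.1
  have hgM : g ∈ M := by
    by_contra hgM
    have hbot := h1 g hgM
    have hmem : y' ∈ (sigmaCore M ⊓ centralizer (K : Set G)) ⊓ M.map (MulAut.conj g).toMonoidHom := by
      refine ⟨hy', ?_⟩
      rw [← hyy']
      exact ⟨y, hyM, by simp [MulAut.conj_apply]⟩
    rw [hbot, Subgroup.mem_bot] at hmem
    exact hy'1 hmem
  -- `g ∈ K K*`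
  by_contra hgN
  have hbot := h2 g hgM hgN
  have hmem : x' ∈ K ⊓ K.map (MulAut.conj g).toMonoidHom := by
    refine ⟨hx', ?_⟩
    rw [← hxx']
    exact ⟨x, hx, by simp [MulAut.conj_apply]⟩
  rw [hbot, Subgroup.mem_bot] at hmem
  exact hx'1 hmem

end Cfsg.Agent.Lib.Helper77.BG147
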