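import Mathlib
import Cfsg.Agent.S1430
import Cfsg.Agent.Lib.Helper16.BG1363Defs
import Cfsg.Agent.Lib.Helper55.Basic
import Cfsg.Agent.Lib.Helper90.BG14DW1
import Cfsg.Agent.Lib.Helper36.BG14P2K
import Cfsg.Agent.Lib.Helper31.BG12a

/-!
# K-1363-B (keystone 136302, pack of helper16 for S1363): `NU.basic`

`r ∉ σ(M)`; `U K ≤ N_G(R) ≤ H`; `H` is not conjugate to `M`.
-/

set_option autoImplicit false
set_option linter.style.haveILetI false
set_option linter.unusedVariables false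

namespace Cfsg.Agent.Lib.Helper77.BG1363

open Cfsg Subgroup Cfsg.Agent.Lib.Helper55 Cfsg.Agent.Lib.Helper11.BG14D Cfsg.Agent.Lib.Helper16.BG1363

variable {G : Type*} [Group G] [Finite G]

/-- **K-1363-B** (136302). -/
theorem NU.basic (hG : IsMinSimpleOddOrder G) {M K U R H : Subgroup G} {r : ℕ} (c : NU M K U R H r) :
    r ∉ sigma M ∧ U ⊔ K ≤ H ∧ ∀ g : G, H ≠ M.map (MulAut.conj g).toMonoidHom := by
  haveI : Fact r.Prime := ⟨c.hr⟩
  have hUM : U ≤ M := c.hKU.compl.1
  have hRM : R ≤ M := le_trans c.hRU hUM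
  -- `r ∣ |R| ∣ |U|`
  have hrR : r ∣ Nat.card R := by
    obtain ⟨n, hn⟩ := IsPGroup.iff_card.mp c.hRp
    have hn0 : n ≠ 0 := by
      rintro rfl
      rw [pow_zero] at hn
      exact c.hR1 (Subgroup.card_eq_one.mp hn)
    rw [hn]
    exact dvd_pow_self r hn0
  have hrU : r ∣ Nat.card U := dvd_trans hrR (Subgroup.card_dvd_of_le c.hRU)
  have hrM : r ∉ sigma M :=
    (Cfsg.Agent.Lib.Helper36.BG14.not_mem_of_dvd_card_U hG c.hM c.hKU.hall c.hKU.compl c.hr hrU).1
  -- `U` is abelian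
  obtain ⟨hUab, -⟩ := Cfsg.Agent.Lib.Helper90.BG14D.free_action hG
    (fun M hM K hK hK1 => Cfsg.Agent.S1430.result hG M hM K hK hK1) M c.hM K U c.hKU c.hK1
  have hUc : U ≤ centralizer (U : Set G) := Subgroup.le_centralizer_iff_isMulCommutative.2 hUab
  have hUcomm : ∀ a ∈ U, ∀ b ∈ U, a * b = b * a := fun a ha b hb =>
    ((Subgroup.mem_centralizer_iff.mp (hUc hb)) a ha)
  -- `U` normalizes every subgroup of `U`
  have hUnorm : ∀ T : Subgroup G, T ≤ U → U ≤ normalizer (T : Set G) := by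
    intro T hT u hu
    rw [Subgroup.mem_normalizer_iff]
    intro x
    constructor
    · intro hx
      have : u * x * u⁻¹ = x := by rw [hUcomm u hu x (hT hx)]; group
      rw [this]; exact hx
    · intro hx
      have h1 := hUcomm u⁻¹ (U.inv_mem hu) (u * x * u⁻¹) (hT hx)
      have h2 : x = u⁻¹ * (u * x * u⁻¹) * u := by group
      rw [h2, h1]
      have : u * x * u⁻¹ * u⁻¹ * u = u * x * u⁻¹ := by group
      rw [this]; exact hx
  have hUN : U ≤ normalizer (R : Set G) := hUnorm R c.hRU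
  -- `K` normalizes `R`
  have hKN : K ≤ normalizer (R : Set G) := by
    intro k hk
    rw [← cj_eq_self_iff]
    have h1 : cj k R ≤ U := by
      intro y hy
      rw [mem_cj] at hy
      have hkU := c.hKU.normal hk
      have h0 := (Subgroup.mem_normalizer_iff.mp hkU (k⁻¹ * y * k)).mp (c.hRU hy)
      have e : k * (k⁻¹ * y * k) * k⁻¹ = y := by group
      rwa [e] at h0
    have hQp : IsPGroup r (R ⊔ cj k R : Subgroup G) :=
      IsPGroup.to_sup_of_normal_right' c.hRp (isPGroup_cj c.hRp) (le_trans c.hRU (hUnorm _ h1))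
    have hQ := c.hRsyl (R ⊔ cj k R) (sup_le hRM (le_trans h1 hUM)) hQp le_sup_left
    have h2 : cj k R ≤ R := le_of_le_of_eq le_sup_right hQ
    exact Subgroup.eq_of_le_of_card_ge h2 (by rw [card_cj])
  have hUKH : U ⊔ K ≤ H := sup_le (le_trans hUN c.hNH) (le_trans hKN c.hNH)
  refine ⟨hrM, hUKH, ?_⟩
  intro g hHg
  apply hrM
  have hRH : R ≤ H := le_trans c.hRU (le_trans le_sup_left hUKH)
  -- `R` is (the image of) a Sylow `r`-subgroup of `M`
  obtain ⟨P₀, hP₀⟩ := (c.hRp.comap_subtype (K := M)).exists_le_sylow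
  have hQR : (P₀ : Subgroup ↥M).map M.subtype = R := by
    apply c.hRsyl
    · exact Subgroup.map_subtype_le _
    · exact P₀.2.map _
    · intro x hx
      exact ⟨⟨x, hRM hx⟩, hP₀ (Subgroup.mem_subgroupOf.mpr hx), rfl⟩
  have hcardP₀ : Nat.card (P₀ : Subgroup ↥M) = Nat.card R := by
    rw [← hQR]
    exact (Subgroup.card_map_of_injective M.subtype_injective).symm
  have hidx₀ : ¬ r ∣ (P₀ : Subgroup ↥M).index := P₀.not_dvd_index
  have hM1 : Nat.card R * (P₀ : Subgroup ↥M).index = Nat.card M := by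
    rw [← hcardP₀]; exact Subgroup.card_mul_index _
  -- the same in `H`
  have hcardH : Nat.card H = Nat.card M := by rw [hHg]; exact card_cj g M
  have hcardRH : Nat.card (R.subgroupOf H) = Nat.card R :=
    Nat.card_congr (Subgroup.subgroupOfEquivOfLe hRH).toEquiv
  have hH1 : Nat.card R * (R.subgroupOf H).index = Nat.card H := by
    rw [← hcardRH]; exact Subgroup.card_mul_index _
  have hRpos : 0 < Nat.card R := Nat.card_pos
  have hidx : (R.subgroupOf H).index = (P₀ : Subgroup ↥M).index := by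
    apply Nat.eq_of_mul_eq_mul_left hRpos
    rw [hH1, hM1, hcardH]
  have hnd : ¬ r ∣ (R.subgroupOf H).index := by rw [hidx]; exact hidx₀
  let P : Sylow r ↥H := IsPGroup.toSylow (c.hRp.comap_subtype (K := H)) hnd
  have hPmap : (P : Subgroup ↥H).map H.subtype = R := Subgroup.map_subgroupOf_eq_of_le hRH
  have hσH : r ∈ sigma H := by
    refine ⟨c.hr, dvd_trans hrR (Subgroup.card_dvd_of_le hRH), P, ?_⟩
    rw [hPmap]
    exact c.hNH
  have h3 := Cfsg.Agent.Lib.Helper31.BG12.mem_sigma_cj hσH g⁻¹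
  rw [hHg] at h3
  have h4 : cj g⁻¹ (M.map (MulAut.conj g).toMonoidHom) = M := cj_inv_cj g M
  rw [h4] at h3
  exact h3

end Cfsg.Agent.Lib.Helper77.BG1363
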