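import Mathlib

/-!
# K-CD3 leaf MAXK (keystone 446031, S4460, architect helper1)
-/

set_option autoImplicit false

universe u

open scoped commutatorElement

namespace Cfsg.Agent.Lib.Helper77.CD3

/-- 446031 K-CD3-MAXK: a maximal normal subgroup with nonabelian quotient (finiteness; Mathlib only). -/
theorem exists_max_normal_nonabelian {G : Type u} [Group G] [Finite G]
    (hnab : ∃ a b : G, a * b ≠ b * a) :
    ∃ K : Subgroup G, K.Normal ∧ ¬ commutator G ≤ K ∧
      ∀ K' : Subgroup G, K'.Normal → K < K' → commutator G ≤ K' := by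
  classical
  have hSne : ({K | K.Normal ∧ ¬ commutator G ≤ K} : Set (Subgroup G)).Nonempty := by
    refine ⟨⊥, inferInstance, ?_⟩
    rw [le_bot_iff]
    intro h
    obtain ⟨a, b, hab⟩ := hnab
    apply hab
    have hmem : ⁅a, b⁆ ∈ commutator G :=
      Subgroup.commutator_mem_commutator (Subgroup.mem_top a) (Subgroup.mem_top b)
    rw [h, Subgroup.mem_bot, commutatorElement_eq_one_iff_mul_comm] at hmem
    exact hmem
  obtain ⟨K, hKS, hKmax⟩ :=
    (Set.toFinite ({K | K.Normal ∧ ¬ commutator G ≤ K} : Set (Subgroup G))).exists_maximal hSne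
  refine ⟨K, hKS.1, hKS.2, fun K' hK' hlt => ?_⟩
  by_contra hc
  have hK'S : K' ∈ ({K | K.Normal ∧ ¬ commutator G ≤ K} : Set (Subgroup G)) := ⟨hK', hc⟩
  exact absurd (hKmax hK'S hlt.le) (not_le_of_gt hlt)

end Cfsg.Agent.Lib.Helper77.CD3
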