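import Mathlib

set_option autoImplicit false

namespace Cfsg.Agent.Lib.Helper77

open Equiv
open scoped commutatorElement

set_option maxRecDepth 100000 in
/-- The Klein four subgroup of `Perm (Fin 4)`, as the set of even permutations squaring to one. -/
def kleinFour : Subgroup (Perm (Fin 4)) where
  carrier := {σ | σ * σ = 1 ∧ Perm.sign σ = 1}
  one_mem' := by decide
  mul_mem' := by
    intro a b ha hb
    revert a b
    decide
  inv_mem' := by
    intro a ha
    revert a
    decide

theorem mem_kleinFour (σ : Perm (Fin 4)) : σ ∈ kleinFour ↔ (σ * σ = 1 ∧ Perm.sign σ = 1) := Iff.rfl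

set_option maxRecDepth 100000 in
theorem comm_mem_klein : ∀ a b : Perm (Fin 4), Perm.sign a = 1 → Perm.sign b = 1 →
    (⁅a, b⁆ * ⁅a, b⁆ = 1 ∧ Perm.sign ⁅a, b⁆ = 1) := by
  decide

set_option maxRecDepth 100000 in
theorem klein_comm : ∀ a b : Perm (Fin 4), (a * a = 1 ∧ Perm.sign a = 1) →
    (b * b = 1 ∧ Perm.sign b = 1) → ⁅a, b⁆ = 1 := by
  decide

/-- The symmetric group of degree 4 is solvable. -/
theorem solvable_perm_fin4 : Group.IsSolvable (Perm (Fin 4)) := by
  rw [Group.isSolvable_def]
  refine ⟨3, ?_⟩
  have h1 : derivedSeries (Perm (Fin 4)) 1 ≤ alternatingGroup (Fin 4) := by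
    rw [derivedSeries_one, commutator_def, Subgroup.commutator_le]
    intro a _ b _
    rw [Perm.mem_alternatingGroup, map_commutatorElement]
    exact (commutatorElement_eq_one_iff_commute).mpr (Commute.all _ _)
  have h2 : derivedSeries (Perm (Fin 4)) 2 ≤ kleinFour := by
    rw [derivedSeries_succ]
    refine (Subgroup.commutator_mono h1 h1).trans ?_
    rw [Subgroup.commutator_le]
    intro a ha b hb
    exact comm_mem_klein a b (Perm.mem_alternatingGroup.mp ha) (Perm.mem_alternatingGroup.mp hb)
  rw [derivedSeries_succ, eq_bot_iff]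
  refine (Subgroup.commutator_mono h2 h2).trans ?_
  rw [Subgroup.commutator_le]
  intro a ha b hb
  rw [Subgroup.mem_bot]
  exact klein_comm a b ha hb

/-- The symmetric group on a type with at most 4 elements is solvable. -/
theorem solvable_perm_of_card_le_four {α : Type*} [Finite α] (h : Nat.card α ≤ 4) :
    Group.IsSolvable (Perm α) := by
  classical
  have : Fintype α := Fintype.ofFinite α
  rw [Nat.card_eq_fintype_card] at h
  let e : α ↪ Fin 4 := (Fintype.equivFin α).toEmbedding.trans (Fin.castLEEmb h)
  have := solvable_perm_fin4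
  exact Group.isSolvable_of_isSolvable_injective (Perm.viaEmbeddingHom_injective e)

/-- A subgroup of `Perm α` all of whose elements fix every point outside a set of at most
four elements is solvable. -/
theorem solvable_of_support_subset {α : Type*} [DecidableEq α] (T : Finset α) (hT : T.card ≤ 4)
    (H : Subgroup (Perm α)) (hH : ∀ σ ∈ H, ∀ x, σ x ≠ x → x ∈ T) : Group.IsSolvable H := by
  have : Group.IsSolvable (Perm {x // x ∈ T}) :=
    solvable_perm_of_card_le_four (by simpa using hT)
  have hle : H ≤ (Perm.ofSubtype (p := fun x => x ∈ T)).range := by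
    intro σ hσ
    have h1 : ∀ x, (σ x ∈ T) ↔ (x ∈ T) := by
      intro x
      by_cases hx : σ x = x
      · rw [hx]
      · have hxT : x ∈ T := hH σ hσ x hx
        have hσxT : σ x ∈ T := by
          apply hH σ hσ (σ x)
          intro h2
          exact hx (σ.injective h2)
        exact ⟨fun _ => hxT, fun _ => hσxT⟩
    refine ⟨Perm.subtypePerm σ h1, ?_⟩
    exact Perm.ofSubtype_subtypePerm h1 (hH σ hσ)
  have : Group.IsSolvable (Perm.ofSubtype (p := fun x => x ∈ T)).range :=
    Group.isSolvable_of_surjective (f := (Perm.ofSubtype (p := fun x => x ∈ T)).rangeRestrict)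
      (MonoidHom.rangeRestrict_surjective _)
  exact Group.isSolvable_of_isSolvable_injective (Subgroup.inclusion_injective hle)

end Cfsg.Agent.Lib.Helper77
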