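import Mathlib
import Cfsg.Agent.Lib.Helper64.MarggrafC
import Cfsg.Agent.Lib.Helper64.Miller1

/-!
# Keystone 292817 (K-SylTwo-A8d) of helper6's pack for S2928

A 4-transitive group on 8 points with a Jordan set of size 4 induces every even permutation.
-/

set_option autoImplicit false
set_option linter.style.haveILetI false
set_option linter.unusedSectionVars false
set_option linter.unusedVariables false

namespace Cfsg.Agent.Lib.Helper77.SylTwo

open Equiv Equiv.Perm MulAction
open Cfsg.Agent.Lib.Helper64.Marggraf (IsJ)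

variable {M β : Type*} [Group M] [Finite M] [MulAction M β] [FaithfulSMul M β] [Fintype β]
  [DecidableEq β]

/-- **K-SylTwo-A8d.** -/
theorem a8_alt_of_four (h8 : Fintype.card β = 8) (h4 : IsMultiplyPretransitive M β 4) (B : Set β)
    (hB : B.ncard = 4) (hJ : IsJ M B) :
    ∀ σ : Perm β, Perm.sign σ = 1 → ∃ m : M, MulAction.toPerm m = σ := by
  classical
  set G : Subgroup (Perm β) := (MulAction.toPermHom M β).range with hG
  have hG4 : IsMultiplyPretransitive G β 4 := by
    refine ⟨fun x y => ?_⟩
    obtain ⟨m, hm⟩ := h4.exists_smul_eq x y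
    refine ⟨⟨MulAction.toPerm m, ⟨m, rfl⟩⟩, ?_⟩
    ext i
    have := congrArg (fun f : Fin 4 ↪ β => f i) hm
    simp only [Function.Embedding.smul_apply] at this
    rw [Function.Embedding.smul_apply]
    exact this
  -- two distinct points of `B`
  have hBfin : B.Finite := Set.toFinite B
  obtain ⟨x, hx, y, hy, hxy⟩ : ∃ x ∈ B, ∃ y ∈ B, x ≠ y := by
    have h1 : 1 < B.ncard := by omega
    exact (Set.one_lt_ncard hBfin).1 h1
  obtain ⟨g, hgfix, hgx⟩ := hJ x hx y hy
  have hz1 : MulAction.toPerm g ≠ (1 : Perm β) := by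
    intro h
    have := congrArg (fun p : Perm β => p x) h
    simp only [MulAction.toPerm_apply, Perm.one_apply] at this
    exact hxy (this.symm.trans hgx)
  have hT : ∀ w, (MulAction.toPerm g : Perm β) w ≠ w → w ∈ hBfin.toFinset := by
    intro w hw
    rw [Set.Finite.mem_toFinset]
    by_contra hwB
    exact hw (hgfix w hwB)
  have hcard : hBfin.toFinset.card = 4 := by
    rw [← Set.ncard_eq_toFinset_card B hBfin, hB]
  have hle := Cfsg.Agent.Lib.Helper64.alt_le_of_small_support G hG4 (by norm_num) (by omega)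
    (MulAction.toPerm g) ⟨g, rfl⟩ hz1 hBfin.toFinset hT (by omega) (by omega)
  intro σ hσ
  have hmem : σ ∈ alternatingGroup β := Perm.mem_alternatingGroup.2 hσ
  obtain ⟨m, hm⟩ := hle hmem
  exact ⟨m, hm⟩

end Cfsg.Agent.Lib.Helper77.SylTwo
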