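import Mathlib
import Cfsg.Agent.Lib.Helper06.SylTwo.Defs

/-!
# Keystone 292806 (K-SylTwo-C6) of helper6's pack for S2928

The support of a nontrivial subgroup `K` normalized by a group `G ≥ K` that is transitive on `Δ` and fixes the
other points is `Δ`.
-/

set_option autoImplicit false

namespace Cfsg.Agent.Lib.Helper77.SylTwo

open Equiv Equiv.Perm
open Cfsg.Agent.Lib.Helper06.SylTwo

variable {α : Type*} [Fintype α] [DecidableEq α]

/-- **K-SylTwo-C6.** -/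
theorem suppSet_eq (𝒲 : Set (Subgroup (Perm α))) (G K : Subgroup (Perm α)) (Δ : Set α)
    (hJK : JK 𝒲 G Δ) (hKG : K ≤ G) (hGK : G ≤ Subgroup.normalizer (K : Set (Perm α))) (hK1 : K ≠ ⊥) :
    suppSet K = Δ := by
  have hsub : suppSet K ⊆ Δ := by
    rintro x ⟨k, hk, hkx⟩
    by_contra hx
    exact hkx (hJK.fix k (hKG hk) x hx)
  apply Set.Subset.antisymm hsub
  intro y hy
  obtain ⟨k, hk, hk1⟩ : ∃ k ∈ K, k ≠ 1 := by
    by_contra h
    push Not at h
    exact hK1 ((Subgroup.eq_bot_iff_forall K).2 h)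
  obtain ⟨x0, hx0⟩ : ∃ x0, k x0 ≠ x0 := by
    by_contra h
    push Not at h
    exact hk1 (Equiv.ext h)
  have hx0Δ : x0 ∈ Δ := hsub ⟨k, hk, hx0⟩
  obtain ⟨g, hg, hgy⟩ := hJK.trans x0 hx0Δ y hy
  have hmem : g * k * g⁻¹ ∈ K := (Subgroup.mem_normalizer_iff.1 (hGK hg) k).1 hk
  refine ⟨g * k * g⁻¹, hmem, ?_⟩
  rw [← hgy]
  have e : (g * k * g⁻¹) (g x0) = g (k x0) := by
    have h1 : g⁻¹ (g x0) = x0 := by
      rw [← Perm.mul_apply, inv_mul_cancel, Perm.one_apply]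
    rw [Perm.mul_apply, Perm.mul_apply, h1]
  rw [e]
  intro h
  exact hx0 (g.injective h)

end Cfsg.Agent.Lib.Helper77.SylTwo
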