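import Cfsg.Agent.Lib.Helper50.MinusInndiag
import Cfsg.Agent.Lib.Helper50.SpinorCrit
import Cfsg.Agent.Lib.Helper07.OrthT
import Cfsg.Agent.Lib.Helper30.S2718R

/-!
# Keystone 271908 (K-S2719-C2) of helper19's pack for S2719

Minus type, odd characteristic: a similarity with nonsquare multiplier and `det = μ^(m+1)`.
-/

set_option autoImplicit false
set_option linter.style.haveILetI false
set_option linter.unusedSectionVars false
set_option linter.unusedVariables false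
set_option linter.unusedSimpArgs false

namespace Cfsg.Agent.Lib.Helper77.S2719K

open Module Matrix Cfsg.Agent.Lib.Helper43 Cfsg.Agent.Lib.Helper08 Cfsg.Agent.Lib.Helper50
  Cfsg.Agent.Lib.Helper07.OG

universe u

section minus

variable {F : Type u} [Field F] [Fintype F] {m : ℕ}

theorem exists_sim_aux (hodd : Odd (Fintype.card F)) (a b : F)
    (hab : ∀ z₁ z₂ : F, z₁ ^ 2 + a * z₁ * z₂ + b * z₂ ^ 2 = 0 → z₁ = 0 ∧ z₂ = 0)
    (Q : QuadraticForm F ((Fin m ⊕ Fin m) ⊕ Fin 2 → F))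
    (hcoe : ⇑Q = Cfsg.quadFormMinus m F a b)
    {u0 : (Fin m ⊕ Fin m) ⊕ Fin 2 → F} (hu0 : Q u0 = 1) :
    ∃ d : ↥(Cfsg.Geo.quadSimilarityGroup (F := F) ⇑Q),
      ¬ IsSquare ((multFun Q d : Fˣ) : F) ∧ delta Q hu0 (m + 1) d = 1 := by
  classical
  have h2 : (2 : F) ≠ 0 := two_ne_zero_of_odd_card rfl hodd
  obtain ⟨ζ, hζ⟩ := exists_nonsquare_of_two_ne_zero h2
  have hζ0 : ζ ≠ 0 := fun h => hζ (h ▸ ⟨0, by ring⟩)
  obtain ⟨c₁, c₂, hc⟩ := Cfsg.Agent.Lib.Helper08.exists_norm_eq a b hab ζ hζ0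
  have hc' : c₁ ^ 2 + a * c₁ * c₂ + b * c₂ ^ 2 = ((Units.mk0 ζ hζ0 : Fˣ) : F) := hc
  have hmem : minusGL m a b (Units.mk0 ζ hζ0) c₁ c₂ hc' ∈
      Cfsg.Geo.quadSimilarityGroup (F := F) ⇑Q := by
    rw [hcoe]; exact minusGL_mem m a b _ c₁ c₂ hc'
  have hmult : multFun Q ⟨_, hmem⟩ = Units.mk0 ζ hζ0 :=
    multFun_unique Q hu0 ⟨_, hmem⟩ _ (fun v => by
      have h1 := quadFormMinus_minusMat m a b ζ c₁ c₂ hc v
      rw [← hcoe] at h1
      exact h1)
  have hδ : delta Q hu0 (m + 1) ⟨_, hmem⟩ = (-1) ^ (m + 1) := by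
    apply Units.ext
    rw [delta_apply, hmult]
    simp only [Units.val_mul, Units.val_pow_eq_pow_val, Units.val_inv_eq_inv_val, detGO_val,
      Units.val_mk0, Units.val_neg, Units.val_one]
    change (minusMat m a b ζ c₁ c₂).det * _ = _
    rw [det_minusMat, hc, inv_pow]
    have hz : ζ ^ (m + 1) ≠ 0 := pow_ne_zero _ hζ0
    field_simp
    ring
  rcases Nat.even_or_odd m with hme | hmo
  · -- `m` even: multiply by a reflection
    have hu : Q u0 ≠ 0 := by rw [hu0]; exact one_ne_zero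
    refine ⟨inclGO Q (Cfsg.Agent.Lib.Helper43.reflO Q u0) * ⟨_, hmem⟩, ?_, ?_⟩
    · have h1 : multFun Q (inclGO Q (Cfsg.Agent.Lib.Helper43.reflO Q u0) * ⟨_, hmem⟩) =
          multFun Q (inclGO Q (Cfsg.Agent.Lib.Helper43.reflO Q u0)) * multFun Q ⟨_, hmem⟩ :=
        (mult Q hu0).map_mul _ _
      rw [h1, multFun_inclGO Q hu0, one_mul, hmult]
      exact hζ
    · rw [map_mul, hδ, (Even.add_one hme).neg_one_pow]
      have h3 : delta Q hu0 (m + 1) (inclGO Q (Cfsg.Agent.Lib.Helper43.reflO Q u0)) = -1 := by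
        apply Units.ext
        rw [delta_apply, multFun_inclGO Q hu0]
        simp only [Units.val_mul, Units.val_pow_eq_pow_val, Units.val_inv_eq_inv_val, detGO_val,
          Units.val_neg, Units.val_one, inv_one, one_pow, mul_one]
        rw [inclGO_val, Cfsg.Agent.Lib.Helper43.reflO_val Q u0 hu]
        exact Cfsg.Agent.Lib.Helper19.reflectionMatrix_det Q u0 hu
      rw [h3]
      simp
  · -- `m` odd
    refine ⟨⟨_, hmem⟩, ?_, ?_⟩
    · rw [hmult]; exact hζ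
    · rw [hδ, (Odd.add_one hmo).neg_one_pow]

/-- K-S2719-C2. -/
theorem exists_sim_nonsquare_delta_one (hodd : Odd (Fintype.card F)) (hm : 3 ≤ m) (a b : F)
    (hab : ∀ z₁ z₂ : F, z₁ ^ 2 + a * z₁ * z₂ + b * z₂ ^ 2 = 0 → z₁ = 0 ∧ z₂ = 0)
    {u0 : (Fin m ⊕ Fin m) ⊕ Fin 2 → F} (hu0 : (qdataMinus43 m a b hab).qf u0 = 1) :
    ∃ d : ↥(Cfsg.Geo.quadSimilarityGroup (F := F) ⇑(qdataMinus43 m a b hab).qf),
      ¬ IsSquare ((multFun (qdataMinus43 m a b hab).qf d : Fˣ) : F) ∧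
      delta (qdataMinus43 m a b hab).qf hu0 (m + 1) d = 1 :=
  exists_sim_aux hodd a b hab (qdataMinus43 m a b hab).qf rfl hu0

end minus

end Cfsg.Agent.Lib.Helper77.S2719K
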