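import Cfsg.Agent.Lib.Helper73.UNdDefs

/-!
# K-UNd-AR1 (keystone 595406, pack of helper73 for S5954): `ZMod r` arithmetic

`cU_pos`, `cU_dvd_iff` (the order of `-q` modulo an odd prime `r` is `cU (ord_r q)`),
`orderOf_eq_two_iff`, `orderOf_sq`, `cU_eq`, with the signatures of
`notes/S5954_keystones.lean.txt`.
-/

set_option autoImplicit false
set_option linter.style.haveILetI false
set_option linter.unusedVariables false

namespace Cfsg.Agent.Lib.Helper77.UNd

open Cfsg.Agent.Lib.Helper73.UNd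

variable {q : ℕ}

theorem cU_pos (i : ℕ) (hi : 1 ≤ i) : 1 ≤ cU i := by
  unfold cU
  split_ifs with h0 h2 <;> omega

theorem zmod_neg_one_ne_one (r : ℕ) [Fact r.Prime] (hr2 : r ≠ 2) : (-1 : ZMod r) ≠ 1 := by
  haveI : Fact (2 < r) := ⟨lt_of_le_of_ne (Fact.out : r.Prime).two_le (Ne.symm hr2)⟩
  exact ZMod.neg_one_ne_one

theorem zmod_natCast_ne_zero (r : ℕ) [Fact r.Prime] (hrq : ¬ r ∣ q) : (q : ZMod r) ≠ 0 := by
  intro h
  exact hrq ((ZMod.natCast_eq_zero_iff q r).1 h)

theorem orderOf_pos_of_ne_zero (r : ℕ) [Fact r.Prime] (x : ZMod r) (hx : x ≠ 0) :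
    0 < orderOf x := by
  have : IsOfFinOrder x := by
    rw [isOfFinOrder_iff_pow_eq_one]
    refine ⟨r - 1, ?_, ZMod.pow_card_sub_one_eq_one hx⟩
    have := (Fact.out : r.Prime).two_le
    omega
  exact this.orderOf_pos

/-- key: `(-x)^k = 1 ↔ cU (orderOf x) ∣ k` -/
theorem neg_pow_eq_one_iff (r : ℕ) [Fact r.Prime] (hr2 : r ≠ 2) (x : ZMod r) (hx : x ≠ 0)
    (k : ℕ) : (-x) ^ k = 1 ↔ cU (orderOf x) ∣ k := by
  have hne := zmod_neg_one_ne_one r hr2
  have hpos : 0 < orderOf x := orderOf_pos_of_ne_zero r x hx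
  set i := orderOf x with hi
  -- general fact: (-x)^k = 1 → i ∣ 2k
  have h2k : (-x) ^ k = 1 → i ∣ 2 * k := by
    intro h
    rw [hi, orderOf_dvd_iff_pow_eq_one]
    calc x ^ (2 * k) = (x ^ 2) ^ k := by rw [pow_mul]
      _ = ((-x) ^ 2) ^ k := by rw [neg_sq]
      _ = ((-x) ^ k) ^ 2 := by rw [← pow_mul, ← pow_mul, mul_comm]
      _ = 1 := by rw [h, one_pow]
  have heven : Even k → ((-x) ^ k = 1 ↔ i ∣ k) := by
    intro hk
    rw [hk.neg_pow, hi, orderOf_dvd_iff_pow_eq_one]
  have hodd : Odd k → ((-x) ^ k = 1 ↔ x ^ k = -1) := by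
    intro hk
    rw [hk.neg_pow, neg_eq_iff_eq_neg]
  unfold cU
  split_ifs with h0 h2
  · -- i % 4 = 0
    have h4 : 4 ∣ i := Nat.dvd_of_mod_eq_zero h0
    constructor
    · intro h
      have h1 := dvd_trans h4 (h2k h)
      have hke : Even k := by
        rw [Nat.even_iff]; omega
      exact (heven hke).1 h
    · intro h
      have h1 := dvd_trans h4 h
      have hke : Even k := by
        rw [Nat.even_iff]; omega
      exact (heven hke).2 h
  · -- i % 4 = 2
    have hm : i = 2 * (i / 2) := by omega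
    have hmodd : Odd (i / 2) := by rw [Nat.odd_iff]; omega
    -- x^(i/2) = -1
    have hxm : x ^ (i / 2) = -1 := by
      have hsq : x ^ (i / 2) * x ^ (i / 2) = 1 := by
        rw [← pow_add, ← two_mul, ← hm, hi, pow_orderOf_eq_one]
      have hne1 : x ^ (i / 2) ≠ 1 := by
        intro h
        have h1 := orderOf_dvd_of_pow_eq_one h
        have h2 := Nat.le_of_dvd (by omega) h1
        omega
      rcases mul_self_eq_one_iff.1 hsq with h | h
      · exact absurd h hne1
      · exact h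
    have hnm : (-x) ^ (i / 2) = 1 := by
      rw [hmodd.neg_pow, hxm, neg_neg]
    constructor
    · intro h
      have h1 := h2k h
      rw [hm] at h1
      exact (Nat.mul_dvd_mul_iff_left (by norm_num)).1 h1
    · rintro ⟨c, rfl⟩
      rw [pow_mul, hnm, one_pow]
  · -- i odd
    have hiodd : Odd i := by rw [Nat.odd_iff]; omega
    have hcop : Nat.Coprime i 2 := (Nat.coprime_comm.1 (Nat.coprime_two_left.2 hiodd))
    constructor
    · intro h
      have h1 := h2k h
      have h3 : i ∣ k := hcop.dvd_of_dvd_mul_left h1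
      -- k must be even
      have hke : Even k := by
        by_contra hko
        rw [Nat.not_even_iff_odd] at hko
        have h4 := (hodd hko).1 h
        have h5 : x ^ k = 1 := by
          rw [← orderOf_dvd_iff_pow_eq_one]; exact h3
        rw [h5] at h4
        exact hne h4.symm
      exact Nat.Coprime.mul_dvd_of_dvd_of_dvd (Nat.coprime_comm.1 hcop) hke.two_dvd h3
    · rintro ⟨c, rfl⟩
      have : Even (2 * i * c) := by rw [mul_assoc]; exact even_two_mul _
      rw [heven this]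
      exact ⟨2 * c, by ring⟩

theorem cU_dvd_iff (r : ℕ) [Fact r.Prime] (hr2 : r ≠ 2) (hrq : ¬ r ∣ q) (k : ℕ) :
    ((r : ℤ) ∣ (q : ℤ) ^ k - (-1) ^ k) ↔ cU (orderOf (q : ZMod r)) ∣ k := by
  rw [← neg_pow_eq_one_iff r hr2 (q : ZMod r) (zmod_natCast_ne_zero r hrq) k]
  rw [← ZMod.intCast_zmod_eq_zero_iff_dvd]
  push_cast
  rw [sub_eq_zero, neg_pow (q : ZMod r) k]
  have hunit : ((-1 : ZMod r) ^ k) * ((-1 : ZMod r) ^ k) = 1 := by
    rw [← mul_pow]; simp
  constructor
  · intro h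
    rw [h]; exact hunit
  · intro h
    calc (q : ZMod r) ^ k = ((-1 : ZMod r) ^ k * (-1 : ZMod r) ^ k) * (q : ZMod r) ^ k := by
          rw [hunit, one_mul]
      _ = (-1 : ZMod r) ^ k * ((-1 : ZMod r) ^ k * (q : ZMod r) ^ k) := by ring
      _ = (-1) ^ k := by rw [h, mul_one]

theorem orderOf_eq_two_iff (r : ℕ) [Fact r.Prime] (hr2 : r ≠ 2) :
    orderOf (q : ZMod r) = 2 ↔ r ∣ q + 1 := by
  have hne := zmod_neg_one_ne_one r hr2
  rw [← ZMod.natCast_eq_zero_iff]
  push_cast
  constructor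
  · intro h
    have h1 : (q : ZMod r) ^ 2 = 1 := by rw [← h]; exact pow_orderOf_eq_one _
    have h2 : (q : ZMod r) ≠ 1 := by
      intro h3
      rw [h3, orderOf_one] at h
      omega
    rw [sq] at h1
    rcases mul_self_eq_one_iff.1 h1 with h3 | h3
    · exact absurd h3 h2
    · rw [h3]; ring
  · intro h
    have h1 : (q : ZMod r) = -1 := eq_neg_of_add_eq_zero_left h
    rw [h1]
    exact orderOf_neg_one.trans (by
      rw [if_neg]
      rw [ZMod.ringChar_zmod_n]; exact hr2)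

theorem orderOf_sq (r : ℕ) [Fact r.Prime] (hrq : ¬ r ∣ q) :
    orderOf ((q ^ 2 : ℕ) : ZMod r) =
      if Even (orderOf (q : ZMod r)) then orderOf (q : ZMod r) / 2 else orderOf (q : ZMod r) := by
  push_cast
  rw [orderOf_pow' _ (two_ne_zero)]
  split_ifs with h
  · have : Nat.gcd (orderOf (q : ZMod r)) 2 = 2 := Nat.gcd_eq_right h.two_dvd
    rw [this]
  · rw [Nat.not_even_iff_odd] at h
    have : Nat.gcd (orderOf (q : ZMod r)) 2 = 1 := (Nat.coprime_comm.1 (Nat.coprime_two_left.2 h))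
    rw [this, Nat.div_one]

theorem cU_eq (r : ℕ) [Fact r.Prime] (hrq : ¬ r ∣ q) :
    (orderOf (q : ZMod r) % 4 = 2 ∧ cU (orderOf (q : ZMod r)) = orderOf ((q ^ 2 : ℕ) : ZMod r)) ∨
    (orderOf (q : ZMod r) % 4 ≠ 2 ∧
      cU (orderOf (q : ZMod r)) = 2 * orderOf ((q ^ 2 : ℕ) : ZMod r)) := by
  rw [orderOf_sq r hrq]
  generalize orderOf (q : ZMod r) = i
  unfold cU
  by_cases h2 : i % 4 = 2
  · left
    refine ⟨h2, ?_⟩
    have he : Even i := by rw [Nat.even_iff]; omega
    rw [if_pos he, if_neg (by omega), if_pos h2]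
  · right
    refine ⟨h2, ?_⟩
    by_cases h0 : i % 4 = 0
    · have he : Even i := by rw [Nat.even_iff]; omega
      rw [if_pos he, if_pos h0]; omega
    · have he : ¬ Even i := by rw [Nat.even_iff]; omega
      rw [if_neg he, if_neg h0, if_neg h2]

end Cfsg.Agent.Lib.Helper77.UNd
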