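import Mathlib
import Cfsg.Agent.Lib.Helper01.CoprimeSylow2

set_option autoImplicit false

namespace Cfsg.Agent.Lib.Helper77

open Cfsg.Agent.Lib.Helper01
open scoped Pointwise

variable {G : Type*} [Group G]

theorem card_mul_relIndex {H K : Subgroup G} (h : H ≤ K) :
    Nat.card H * H.relIndex K = Nat.card K := by
  have := Subgroup.relIndex_mul_relIndex (⊥ : Subgroup G) H K bot_le h
  rwa [Subgroup.relIndex_bot_left, Subgroup.relIndex_bot_left] at this

/-- `G = P K` with `K` normal and `P ∩ K = 1`: the number of Sylow `p`-subgroups times the order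
of `C_K(P)` is the order of `K`. -/
theorem card_sylow_mul_card_centralizer [Finite G] {p : ℕ} [Fact p.Prime] (K : Subgroup G)
    [K.Normal] (P : Sylow p G) (hsup : (P : Subgroup G) ⊔ K = ⊤)
    (hinf : (P : Subgroup G) ⊓ K = ⊥) :
    Nat.card (Sylow p G) *
      Nat.card (K ⊓ Subgroup.centralizer ((P : Subgroup G) : Set G) : Subgroup G) = Nat.card K := by
  have htrans : MulAction.IsPretransitive K (Sylow p G) := by
    refine ⟨fun P₁ P₂ => ?_⟩
    have key : ∀ P' : Sylow p G, ∃ k : K, k • P = P' := by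
      intro P'
      obtain ⟨g, hg⟩ := MulAction.exists_smul_eq G P P'
      have hgtop : g ∈ ((K ⊔ (P : Subgroup G) : Subgroup G) : Set G) := by
        rw [sup_comm, hsup]; exact Subgroup.mem_top g
      rw [Subgroup.normal_mul] at hgtop
      obtain ⟨k, hk, a, ha, rfl⟩ := Set.mem_mul.mp hgtop
      refine ⟨⟨k, hk⟩, ?_⟩
      rw [← hg, mul_smul]
      have : a • P = P := Sylow.smul_eq_iff_mem_normalizer.mpr (Subgroup.le_normalizer ha)
      rw [this]
      rfl
    obtain ⟨k₁, hk₁⟩ := key P₁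
    obtain ⟨k₂, hk₂⟩ := key P₂
    refine ⟨k₂ * k₁⁻¹, ?_⟩
    rw [← hk₁, ← hk₂, mul_smul, inv_smul_smul]
  have h1 : (MulAction.stabilizer K P).index = Nat.card (Sylow p G) :=
    MulAction.index_stabilizer_of_transitive K P
  have h2 : MulAction.stabilizer K P =
      (K ⊓ Subgroup.centralizer ((P : Subgroup G) : Set G)).subgroupOf K := by
    ext k
    rw [MulAction.mem_stabilizer_iff, Subgroup.mem_subgroupOf, Subgroup.mem_inf]
    have hk : (k • P = P) ↔ ((k : G) • P = P) := Iff.rfl
    rw [hk, Sylow.smul_eq_iff_mem_normalizer]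
    constructor
    · intro hn
      refine ⟨k.2, ?_⟩
      rw [Subgroup.mem_centralizer_iff]
      intro a ha
      have h3 : (k : G) * a * (k : G)⁻¹ * a⁻¹ ∈ (P : Subgroup G) ⊓ K := by
        refine Subgroup.mem_inf.mpr ⟨?_, ?_⟩
        · exact Subgroup.mul_mem _ ((Subgroup.mem_normalizer_iff.mp hn a).mp ha)
            (Subgroup.inv_mem _ ha)
        · have : a * (k : G)⁻¹ * a⁻¹ ∈ K :=
            ‹K.Normal›.conj_mem _ (K.inv_mem k.2) a
          have h4 := K.mul_mem k.2 this
          have e : (k : G) * (a * (k : G)⁻¹ * a⁻¹) = (k : G) * a * (k : G)⁻¹ * a⁻¹ := by group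
          rwa [e] at h4
      rw [hinf, Subgroup.mem_bot] at h3
      have e : a * (k : G) = ((k : G) * a * (k : G)⁻¹ * a⁻¹)⁻¹ * ((k : G) * a) := by group
      rw [e, h3, inv_one, one_mul]
    · rintro ⟨-, hc⟩
      exact Subgroup.centralizer_le_normalizer _ hc
  have h3 := Subgroup.card_mul_index (MulAction.stabilizer K P)
  rw [h1, h2, Nat.card_congr (Subgroup.subgroupOfEquivOfLe
    (inf_le_left : K ⊓ Subgroup.centralizer ((P : Subgroup G) : Set G) ≤ K)).toEquiv] at h3
  rw [mul_comm]; exact h3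

/-- conjugation action of a subgroup `A` on a subgroup `Q` that it normalizes. -/
@[reducible] def conjMulAction (A Q : Subgroup G) (h : A ≤ Subgroup.normalizer (Q : Set G)) : MulAction A Q where
  smul a x := ⟨a * x * (a : G)⁻¹, (Subgroup.mem_normalizer_iff.mp (h a.2) x).mp x.2⟩
  one_smul x := Subtype.ext (by show (1 : G) * x * (1 : G)⁻¹ = x; simp)
  mul_smul a b x := Subtype.ext (by
    show ((a : G) * b) * x * ((a : G) * b)⁻¹ = a * (b * x * (b : G)⁻¹) * (a : G)⁻¹
    group)

/-- fixed points of a `p`-group `A` acting on `Q` by conjugation. -/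
theorem card_modEq_card_inf_centralizer [Finite G] {p : ℕ} [Fact p.Prime] (A Q : Subgroup G)
    (hA : IsPGroup p A) (h : A ≤ Subgroup.normalizer (Q : Set G)) :
    Nat.card Q ≡ Nat.card (Q ⊓ Subgroup.centralizer (A : Set G) : Subgroup G) [MOD p] := by
  letI := conjMulAction A Q h
  have h1 := hA.card_modEq_card_fixedPoints Q
  have h2 : Nat.card (MulAction.fixedPoints A Q) =
      Nat.card (Q ⊓ Subgroup.centralizer (A : Set G) : Subgroup G) := by
    refine Nat.card_congr ⟨fun x => ⟨x.1.1, ?_⟩, fun y => ⟨⟨y.1, (Subgroup.mem_inf.mp y.2).1⟩, ?_⟩,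
      fun x => rfl, fun y => rfl⟩
    · refine Subgroup.mem_inf.mpr ⟨x.1.2, ?_⟩
      rw [Subgroup.mem_centralizer_iff]
      intro a ha
      have := x.2 ⟨a, ha⟩
      have h3 : a * (x.1 : G) * a⁻¹ = x.1 := congrArg Subtype.val this
      calc a * (x.1 : G) = a * (x.1 : G) * a⁻¹ * a := by group
        _ = (x.1 : G) * a := by rw [h3]
    · intro a
      apply Subtype.ext
      show (a : G) * y.1 * (a : G)⁻¹ = y.1
      have := Subgroup.mem_centralizer_iff.mp (Subgroup.mem_inf.mp y.2).2 a a.2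
      rw [this]; group
  rw [h2] at h1
  exact h1

/-- A `q`-subgroup of `M` has order dividing that of a "Sylow in" `M`. -/
theorem card_le_of_isSylowIn [Finite G] {q : ℕ} [Fact q.Prime] {S T M : Subgroup G}
    (hS : IsSylowIn q S M) (hT : T ≤ M) (hTq : IsPGroup q T) : Nat.card T ≤ Nat.card S := by
  have hT' : IsPGroup q (T.subgroupOf M) := hTq.comap_subtype
  obtain ⟨R, hR⟩ := hT'.exists_le_sylow
  have h1 : Nat.card (T.subgroupOf M) ≤ Nat.card (R : Subgroup M) := Subgroup.card_le_of_le hR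
  have h2 : Nat.card (R : Subgroup M) = Nat.card (hS.toSylow : Subgroup M) := by
    rw [Sylow.card_eq_multiplicity, Sylow.card_eq_multiplicity]
  have h3 : Nat.card (hS.toSylow : Subgroup M) = Nat.card S := by
    have : (hS.toSylow : Subgroup M) = S.subgroupOf M := rfl
    rw [this]
    exact Nat.card_congr (Subgroup.subgroupOfEquivOfLe hS.1).toEquiv
  have h4 : Nat.card (T.subgroupOf M) = Nat.card T :=
    Nat.card_congr (Subgroup.subgroupOfEquivOfLe hT).toEquiv
  omega

/-- Coprime action: for an `A`-invariant Sylow `q`-subgroup `Q` of `K`, `C_Q(A)` is a Sylow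
`q`-subgroup of `C_K(A)`. -/
theorem isSylowIn_inf_centralizer [Finite G] {A K Q : Subgroup G} (q : ℕ) [Fact q.Prime]
    (hAK : A ≤ Subgroup.normalizer (K : Set G)) (hcop : (Nat.card A).Coprime (Nat.card K))
    (hsolv : Group.IsSolvable A ∨ Group.IsSolvable K)
    (hQ : IsSylowIn q Q K) (hAQ : A ≤ Subgroup.normalizer (Q : Set G)) :
    IsSylowIn q (Q ⊓ Subgroup.centralizer (A : Set G)) (K ⊓ Subgroup.centralizer (A : Set G)) := by
  set C : Subgroup G := K ⊓ Subgroup.centralizer (A : Set G) with hC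
  -- a Sylow `q`-subgroup `S` of `C`
  let S₀ : Sylow q C := default
  have hS := isSylowIn_map S₀
  set S : Subgroup G := (S₀ : Subgroup C).map C.subtype with hSdef
  have hSK : S ≤ K := hS.1.trans inf_le_left
  have hSA : A ≤ Subgroup.normalizer (S : Set G) := by
    intro a ha
    rw [Subgroup.mem_normalizer_iff]
    intro x
    have hcomm : ∀ y ∈ S, a * y * a⁻¹ = y := by
      intro y hy
      have hyc : y ∈ Subgroup.centralizer (A : Set G) := (Subgroup.mem_inf.mp (hS.1 hy)).2
      have := Subgroup.mem_centralizer_iff.mp hyc a ha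
      rw [this]; group
    constructor
    · intro hx
      rw [hcomm x hx]; exact hx
    · intro hx
      have := hcomm _ hx
      have e : x = a⁻¹ * (a * x * a⁻¹) * a := by group
      have h2 : a * x * a⁻¹ = x := by
        have h3 : a * (a * x * a⁻¹) * a⁻¹ = a * x * a⁻¹ := this
        have h4 : a * x * a⁻¹ = a⁻¹ * (a * (a * x * a⁻¹) * a⁻¹) * a := by group
        rw [h3] at h4
        rw [h4]; group
      rw [← h2]; exact hx
  obtain ⟨Q', hQ', hSQ', hAQ'⟩ :=
    exists_invariant_isSylowIn_ge q hAK hcop hsolv hSK hS.2.1 hSA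
  obtain ⟨c, hc, hcQ⟩ := exists_centralizer_conj hAK hcop hsolv hAQ' hAQ (hQ'.exists_conj hQ)
  -- `c S c⁻¹ ≤ Q ⊓ C_G(A)`
  have hcC : c ∈ C := hc
  have h1 : MulAut.conj c • S ≤ Q ⊓ Subgroup.centralizer (A : Set G) := by
    refine le_inf ?_ ?_
    · rw [← hcQ]
      exact Subgroup.pointwise_smul_le_pointwise_smul_iff.mpr hSQ'
    · have h2 : MulAut.conj c • S ≤ MulAut.conj c • C :=
        Subgroup.pointwise_smul_le_pointwise_smul_iff.mpr hS.1
      rw [Subgroup.conj_smul_eq_self_of_mem hcC] at h2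
      exact h2.trans inf_le_right
  have hQC_le : Q ⊓ Subgroup.centralizer (A : Set G) ≤ C :=
    inf_le_inf_right _ hQ.1
  have hQCq : IsPGroup q (Q ⊓ Subgroup.centralizer (A : Set G) : Subgroup G) :=
    hQ.2.1.to_le inf_le_left
  have h2 : Nat.card (Q ⊓ Subgroup.centralizer (A : Set G) : Subgroup G) ≤ Nat.card S :=
    card_le_of_isSylowIn hS hQC_le hQCq
  have h3 : Nat.card (MulAut.conj c • S : Subgroup G) = Nat.card S := card_conj_smul c S
  have h4 : MulAut.conj c • S = Q ⊓ Subgroup.centralizer (A : Set G) :=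
    Subgroup.eq_of_le_of_card_ge h1 (by rw [h3]; exact h2)
  rw [← h4]
  exact hS.conj (Subgroup.le_normalizer hcC)

/-- `G = P K` with `K` a normal `p'`-subgroup: every `q`-part of the number of Sylow
`p`-subgroups is congruent to `1` modulo `p`. -/
theorem qpart_card_sylow_mod [Finite G] {p : ℕ} [hp : Fact p.Prime] (K : Subgroup G) [K.Normal]
    (P : Sylow p G) (hsup : (P : Subgroup G) ⊔ K = ⊤) (hpK : ¬ p ∣ Nat.card K)
    (q : ℕ) (hq : q.Prime) :
    q ^ ((Nat.card (Sylow p G)).factorization q) % p = 1 := by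
  haveI : Fact q.Prime := ⟨hq⟩
  have hAK : (P : Subgroup G) ≤ Subgroup.normalizer (K : Set G) := by
    rw [Subgroup.normalizer_eq_top]; exact le_top
  obtain ⟨k, hk⟩ := P.isPGroup'.exists_card_eq
  have hcop : (Nat.card (P : Subgroup G)).Coprime (Nat.card K) := by
    rw [hk]
    exact Nat.Coprime.pow_left _ ((Nat.Prime.coprime_iff_not_dvd hp.out).mpr hpK)
  have hinf : (P : Subgroup G) ⊓ K = ⊥ := (Subgroup.disjoint_of_coprime_natCard hcop).eq_bot
  haveI : Group.IsNilpotent (P : Subgroup G) := P.isPGroup'.isNilpotent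
  have hsolv : Group.IsSolvable (P : Subgroup G) ∨ Group.IsSolvable K := Or.inl inferInstance
  obtain ⟨Q, hQ, hAQ⟩ := exists_invariant_isSylowIn q hAK hcop hsolv
  have hQC := isSylowIn_inf_centralizer q hAK hcop hsolv hQ hAQ
  have hF1 := card_sylow_mul_card_centralizer K P hsup hinf
  set n := Nat.card (Sylow p G) with hn
  set C : Subgroup G := K ⊓ Subgroup.centralizer ((P : Subgroup G) : Set G) with hC
  set QC : Subgroup G := Q ⊓ Subgroup.centralizer ((P : Subgroup G) : Set G) with hQCdef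
  have e1 : Nat.card Q * Q.relIndex K = Nat.card K := card_mul_relIndex hQ.1
  have e2 : Nat.card QC * QC.relIndex C = Nat.card C := card_mul_relIndex hQC.1
  have e3 : Nat.card QC * QC.relIndex Q = Nat.card Q := card_mul_relIndex inf_le_left
  have hmod : Nat.card Q ≡ Nat.card QC [MOD p] :=
    card_modEq_card_inf_centralizer (P : Subgroup G) Q P.isPGroup' hAQ
  obtain ⟨a, ha⟩ := hQ.2.1.exists_card_eq
  have htdvd : QC.relIndex Q ∣ q ^ a := by rw [← ha, ← e3]; exact Dvd.intro_left _ rfl
  obtain ⟨b, -, hb⟩ := (Nat.dvd_prime_pow hq).mp htdvd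
  have hQCpos : 0 < Nat.card QC := Nat.card_pos
  have hnpos : 0 < n := Nat.card_pos
  -- `n * rC = t * rK`
  have key : n * QC.relIndex C = QC.relIndex Q * Q.relIndex K := by
    have h1 : Nat.card QC * (n * QC.relIndex C) = Nat.card QC * (QC.relIndex Q * Q.relIndex K) := by
      calc Nat.card QC * (n * QC.relIndex C) = n * (Nat.card QC * QC.relIndex C) := by ring
        _ = n * Nat.card C := by rw [e2]
        _ = Nat.card K := hF1
        _ = Nat.card Q * Q.relIndex K := e1.symm
        _ = Nat.card QC * QC.relIndex Q * Q.relIndex K := by rw [e3]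
        _ = Nat.card QC * (QC.relIndex Q * Q.relIndex K) := by ring
    exact Nat.eq_of_mul_eq_mul_left hQCpos h1
  have hrC : QC.relIndex C ≠ 0 := by
    intro h; rw [h, mul_zero] at e2
    have : 0 < Nat.card C := Nat.card_pos
    omega
  have hrK : Q.relIndex K ≠ 0 := by
    intro h; rw [h, mul_zero] at e1
    have : 0 < Nat.card K := Nat.card_pos
    omega
  have ht : QC.relIndex Q ≠ 0 := by rw [hb]; exact pow_ne_zero _ hq.ne_zero
  have hfac : n.factorization q = b := by
    have h1 : (n * QC.relIndex C).factorization q = (QC.relIndex Q * Q.relIndex K).factorization q := by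
      rw [key]
    rw [Nat.factorization_mul hnpos.ne' hrC, Nat.factorization_mul ht hrK] at h1
    simp only [Finsupp.coe_add, Pi.add_apply] at h1
    rw [Nat.factorization_eq_zero_of_not_dvd hQC.2.2, Nat.factorization_eq_zero_of_not_dvd hQ.2.2,
      hb, Nat.Prime.factorization_pow hq] at h1
    simpa using h1
  rw [hfac, ← hb]
  -- `t ≡ 1 mod p`
  have hQCcop : (Nat.card QC).Coprime p := by
    have hdvd : Nat.card QC ∣ Nat.card K :=
      (Subgroup.card_dvd_of_le (inf_le_left : QC ≤ Q)).trans (Subgroup.card_dvd_of_le hQ.1)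
    exact (Nat.Coprime.coprime_dvd_left hdvd
      ((Nat.Prime.coprime_iff_not_dvd hp.out).mpr hpK).symm)
  have h5 : Nat.card QC * QC.relIndex Q ≡ Nat.card QC * 1 [MOD p] := by
    rw [e3, mul_one]; exact hmod
  have h6 : QC.relIndex Q ≡ 1 [MOD p] :=
    Nat.ModEq.cancel_left_of_coprime (by rw [Nat.gcd_comm]; exact hQCcop) h5
  have h7 := h6
  unfold Nat.ModEq at h7
  rw [h7]
  exact Nat.mod_eq_of_lt hp.out.one_lt

end Cfsg.Agent.Lib.Helper77
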