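import Mathlib

set_option autoImplicit false

namespace Cfsg.Agent.Lib.Helper77

/-- Fibre counting for a map out of a transitive `G`-set whose fibres are permuted by `G`. -/
theorem card_eq_card_range_mul_card_fiber {G X Y : Type*} [Group G] [MulAction G X] [Finite X]
    [MulAction.IsPretransitive G X] (f : X → Y)
    (hf : ∀ (g : G) (x x' : X), f x = f x' → f (g • x) = f (g • x')) (x₀ : X) :
    Nat.card X = Nat.card (Set.range f) * Nat.card {x // f x = f x₀} := by
  classical
  have e1 : X ≃ Σ y : Set.range f, {x // Set.rangeFactorization f x = y} :=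
    (Equiv.sigmaFiberEquiv (Set.rangeFactorization f)).symm
  have e2 : ∀ y : Set.range f,
      Nonempty ({x // Set.rangeFactorization f x = y} ≃ {x // f x = f x₀}) := by
    intro y
    obtain ⟨xy, hxy⟩ := y.2
    obtain ⟨g, hg⟩ := MulAction.exists_smul_eq G x₀ xy
    refine ⟨⟨fun x => ⟨g⁻¹ • x.1, ?_⟩, fun x => ⟨g • x.1, ?_⟩, ?_, ?_⟩⟩
    · have h1 : f x.1 = f (g • x₀) := by
        have := congrArg Subtype.val x.2
        simp only [Set.rangeFactorization_coe] at this
        rw [this, hg, hxy]
      have := hf g⁻¹ _ _ h1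
      rwa [inv_smul_smul] at this
    · apply Subtype.ext
      simp only [Set.rangeFactorization_coe]
      rw [hf g _ _ x.2, hg, hxy]
    · intro x; apply Subtype.ext; simp
    · intro x; apply Subtype.ext; simp
  have e3 : X ≃ Set.range f × {x // f x = f x₀} :=
    e1.trans ((Equiv.sigmaCongrRight (fun y => Classical.choice (e2 y))).trans (Equiv.sigmaEquivProd _ _))
  rw [Nat.card_congr e3, Nat.card_prod]

end Cfsg.Agent.Lib.Helper77
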