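import Mathlib
import Cfsg.Agent.Lib.Helper77.Fiber
import Cfsg.Agent.Lib.Helper77.ConjUnion

set_option autoImplicit false

namespace Cfsg.Agent.Lib.Helper77

open scoped Pointwise

section
variable {G : Type*} [Group G] [Finite G] {p : ℕ} [Fact p.Prime]

/-- If `L` contains a Sylow `p`-subgroup of `G`, the Sylow `p`-subgroups of `L` are those of `G`
contained in `L`. -/
theorem card_sylow_subgroup_eq (L : Subgroup G) (P : Sylow p G) (hP : (P : Subgroup G) ≤ L) :
    Nat.card (Sylow p L) = Nat.card {Q : Sylow p G // (Q : Subgroup G) ≤ L} := by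
  symm
  refine Nat.card_congr (Equiv.ofBijective
    (fun Q : {Q : Sylow p G // (Q : Subgroup G) ≤ L} => Q.1.subtype Q.2) ⟨?_, ?_⟩)
  · intro Q Q' h
    exact Subtype.ext (Sylow.subtype_injective h)
  · intro R
    obtain ⟨l, hl⟩ := MulAction.exists_smul_eq L (P.subtype hP) R
    refine ⟨⟨l • P, Sylow.smul_le hP l⟩, ?_⟩
    change (l • P).subtype (Sylow.smul_le hP l) = R
    rw [← Sylow.smul_subtype hP l, hl]

/-- Group isomorphisms preserve the number of Sylow subgroups. -/
theorem card_sylow_congr {H : Type*} [Group H] (e : G ≃* H) :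
    Nat.card (Sylow p G) = Nat.card (Sylow p H) := by
  refine Nat.card_congr (Equiv.ofBijective
    (fun Q : Sylow p G => Q.mapSurjective (f := e.toMonoidHom) e.surjective)
    ⟨?_, Sylow.mapSurjective_surjective (f := e.toMonoidHom) e.surjective p⟩)
  intro Q Q' h
  have h1 : (Q : Subgroup G).map e.toMonoidHom = (Q' : Subgroup G).map e.toMonoidHom := by
    have := congrArg (fun R : Sylow p H => R.toSubgroup) h
    simpa using this
  exact Sylow.ext (Subgroup.map_injective e.injective h1)

/-- Passing to the quotient by a normal `p`-subgroup does not change the number of Sylow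
`p`-subgroups. -/
theorem card_sylow_quotient_pgroup (D : Subgroup G) [D.Normal] (hD : IsPGroup p D) :
    Nat.card (Sylow p (G ⧸ D)) = Nat.card (Sylow p G) := by
  symm
  have hf : Function.Surjective (QuotientGroup.mk' D) := QuotientGroup.mk'_surjective _
  refine Nat.card_congr (Equiv.ofBijective
    (fun P : Sylow p G => P.mapSurjective hf) ⟨?_, Sylow.mapSurjective_surjective hf p⟩)
  intro P Q h
  have h1 : (P : Subgroup G).map (QuotientGroup.mk' D) = (Q : Subgroup G).map (QuotientGroup.mk' D) := by
    have := congrArg (fun R : Sylow p (G ⧸ D) => R.toSubgroup) h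
    simpa using this
  have h2 : (P : Subgroup G) ⊔ D = (Q : Subgroup G) ⊔ D := by
    have := congrArg (Subgroup.comap (QuotientGroup.mk' D)) h1
    rwa [Subgroup.comap_map_eq, Subgroup.comap_map_eq, QuotientGroup.ker_mk'] at this
  rw [sup_eq_left.mpr (hD.le_sylow_of_normal P), sup_eq_left.mpr (hD.le_sylow_of_normal Q)] at h2
  exact Sylow.ext h2

/-- The intersection of a Sylow `p`-subgroup with a normal subgroup `K` is (the image of)
a Sylow `p`-subgroup of `K`. -/
theorem exists_sylow_map_eq_inf (K : Subgroup G) [K.Normal] (P : Sylow p G) :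
    ∃ S : Sylow p K, (S : Subgroup K).map K.subtype = (P : Subgroup G) ⊓ K := by
  have hD : IsPGroup p (((P : Subgroup G) ⊓ K).subgroupOf K) := by
    have h1 : IsPGroup p ((P : Subgroup G) ⊓ K : Subgroup G) := P.isPGroup'.to_le inf_le_left
    exact h1.comap_of_injective K.subtype K.subtype_injective
  obtain ⟨S, hS⟩ := hD.exists_le_sylow
  have hS' : IsPGroup p ((S : Subgroup K).map K.subtype) := S.isPGroup'.map K.subtype
  obtain ⟨Q, hQ⟩ := hS'.exists_le_sylow
  obtain ⟨g, hg⟩ := MulAction.exists_smul_eq G P Q
  have hle1 : (P : Subgroup G) ⊓ K ≤ (S : Subgroup K).map K.subtype := by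
    have := Subgroup.map_mono (f := K.subtype) hS
    rwa [Subgroup.subgroupOf_map_subtype, inf_assoc, inf_idem] at this
  have hle2 : (S : Subgroup K).map K.subtype ≤ MulAut.conj g • ((P : Subgroup G) ⊓ K) := by
    rw [Subgroup.smul_inf, Subgroup.Normal.conj_smul_eq_self g K]
    refine le_inf ?_ (Subgroup.map_subtype_le _)
    rw [← Sylow.coe_subgroup_smul, hg]
    exact hQ
  have hcard : Nat.card ((S : Subgroup K).map K.subtype) ≤ Nat.card ((P : Subgroup G) ⊓ K : Subgroup G) := by
    have h1 := Subgroup.card_le_of_le hle2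
    rwa [← Nat.card_congr (Subgroup.equivSMul (MulAut.conj g) ((P : Subgroup G) ⊓ K)).toEquiv] at h1
  exact ⟨S, (Subgroup.eq_of_le_of_card_ge hle1 hcard).symm⟩

omit [Finite G] [Fact p.Prime] in
/-- The map sending a Sylow subgroup of `K` to its image in `G` is injective. -/
theorem sylow_map_subtype_injective (K : Subgroup G) :
    Function.Injective (fun S : Sylow p K => (S : Subgroup K).map K.subtype) := by
  intro S T h
  exact Sylow.ext (Subgroup.map_injective K.subtype_injective h)

/-- **Hall's formula, first step.** `n_p(G) = n_p(G/K) · n_p(PK)`. -/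
theorem card_sylow_eq_quotient_mul (K : Subgroup G) [K.Normal] (P : Sylow p G) :
    Nat.card (Sylow p G) =
      Nat.card (Sylow p (G ⧸ K)) * Nat.card (Sylow p ((P : Subgroup G) ⊔ K : Subgroup G)) := by
  have hf : Function.Surjective (QuotientGroup.mk' K) := QuotientGroup.mk'_surjective _
  let f : Sylow p G → Sylow p (G ⧸ K) := fun Q => Q.mapSurjective hf
  have hperm : ∀ (g : G) (Q Q' : Sylow p G), f Q = f Q' → f (g • Q) = f (g • Q') := by
    intro g Q Q' h
    have h1 : (Q : Subgroup G).map (QuotientGroup.mk' K) = (Q' : Subgroup G).map (QuotientGroup.mk' K) := by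
      have := congrArg (fun R : Sylow p (G ⧸ K) => R.toSubgroup) h
      simpa [f] using this
    have e : ∀ R : Sylow p G, ((g • R : Sylow p G) : Subgroup G).map (QuotientGroup.mk' K) =
        MulAut.conj (QuotientGroup.mk g : G ⧸ K) • (R : Subgroup G).map (QuotientGroup.mk' K) := by
      intro R
      ext y
      rw [mem_conj_smul_iff, Subgroup.mem_map, Subgroup.mem_map]
      constructor
      · rintro ⟨x, hx, rfl⟩
        rw [Sylow.coe_subgroup_smul, mem_conj_smul_iff] at hx
        exact ⟨g⁻¹ * x * g, hx, by simp⟩
      · rintro ⟨q, hq, hqy⟩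
        refine ⟨g * q * g⁻¹, ?_, ?_⟩
        · rw [Sylow.coe_subgroup_smul, mem_conj_smul_iff]
          have : g⁻¹ * (g * q * g⁻¹) * g = q := by group
          rw [this]; exact hq
        · have : (QuotientGroup.mk' K) (g * q * g⁻¹) =
              (QuotientGroup.mk g : G ⧸ K) * (QuotientGroup.mk' K) q * (QuotientGroup.mk g : G ⧸ K)⁻¹ := by
            simp
          rw [this, hqy]
          group
    apply Sylow.ext
    simp only [f, Sylow.coe_mapSurjective]
    rw [e, e, h1]
  have key := card_eq_card_range_mul_card_fiber (G := G) f hperm P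
  have hrange : Nat.card (Set.range f) = Nat.card (Sylow p (G ⧸ K)) := by
    have : Set.range f = Set.univ := Set.range_eq_univ.mpr (Sylow.mapSurjective_surjective hf p)
    rw [this]
    exact Nat.card_congr (Equiv.Set.univ _)
  have hfiber : Nat.card {Q : Sylow p G // f Q = f P} =
      Nat.card (Sylow p ((P : Subgroup G) ⊔ K : Subgroup G)) := by
    rw [card_sylow_subgroup_eq _ P le_sup_left]
    refine Nat.card_congr (Equiv.subtypeEquivRight ?_)
    intro Q
    constructor
    · intro h
      have h1 : (Q : Subgroup G).map (QuotientGroup.mk' K) = (P : Subgroup G).map (QuotientGroup.mk' K) := by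
        have := congrArg (fun R : Sylow p (G ⧸ K) => R.toSubgroup) h
        simpa [f] using this
      calc (Q : Subgroup G) ≤ ((Q : Subgroup G).map (QuotientGroup.mk' K)).comap (QuotientGroup.mk' K) :=
            Subgroup.le_comap_map _ _
        _ = (P : Subgroup G) ⊔ K := by
            rw [h1, Subgroup.comap_map_eq, QuotientGroup.ker_mk']
    · intro h
      have h1 : (Q : Subgroup G).map (QuotientGroup.mk' K) ≤ (P : Subgroup G).map (QuotientGroup.mk' K) := by
        have := Subgroup.map_mono (f := QuotientGroup.mk' K) h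
        rwa [Subgroup.map_sup, QuotientGroup.map_mk'_self, sup_bot_eq] at this
      apply Sylow.ext
      exact ((f Q).is_maximal' (f P).isPGroup' h1).symm
  rw [key, hrange, hfiber]

/-- **Hall's formula, second step.** `n_p(G) = n_p(K) · n_p(N_G(P ∩ K))`. -/
theorem card_sylow_eq_normal_mul (K : Subgroup G) [K.Normal] (P : Sylow p G) :
    Nat.card (Sylow p G) =
      Nat.card (Sylow p K) *
        Nat.card (Sylow p (Subgroup.normalizer (((P : Subgroup G) ⊓ K : Subgroup G) : Set G))) := by
  let f : Sylow p G → Subgroup G := fun Q => (Q : Subgroup G) ⊓ K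
  have hperm : ∀ (g : G) (Q Q' : Sylow p G), f Q = f Q' → f (g • Q) = f (g • Q') := by
    intro g Q Q' h
    have e : ∀ R : Sylow p G, f (g • R) = MulAut.conj g • f R := by
      intro R
      simp only [f]
      rw [Subgroup.smul_inf, Subgroup.Normal.conj_smul_eq_self g K, Sylow.coe_subgroup_smul]
    rw [e, e, h]
  have key := card_eq_card_range_mul_card_fiber (G := G) f hperm P
  have hrange : Nat.card (Set.range f) = Nat.card (Sylow p K) := by
    have : Set.range f = Set.range (fun S : Sylow p K => (S : Subgroup K).map K.subtype) := by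
      ext D
      constructor
      · rintro ⟨Q, rfl⟩
        obtain ⟨S, hS⟩ := exists_sylow_map_eq_inf K Q
        exact ⟨S, hS⟩
      · rintro ⟨S, rfl⟩
        have hS' : IsPGroup p ((S : Subgroup K).map K.subtype) := S.isPGroup'.map K.subtype
        obtain ⟨Q, hQ⟩ := hS'.exists_le_sylow
        obtain ⟨T, hT⟩ := exists_sylow_map_eq_inf K Q
        refine ⟨Q, ?_⟩
        change (Q : Subgroup G) ⊓ K = _
        rw [← hT]
        have hle : (S : Subgroup K).map K.subtype ≤ (T : Subgroup K).map K.subtype := by
          rw [hT]; exact le_inf hQ (Subgroup.map_subtype_le _)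
        have hle' : (S : Subgroup K) ≤ T := (Subgroup.map_le_map_iff_of_injective K.subtype_injective).mp hle
        rw [S.is_maximal' T.isPGroup' hle']
    rw [this]
    exact Nat.card_congr (Equiv.ofInjective _ (sylow_map_subtype_injective K)).symm
  have hPN : (P : Subgroup G) ≤ Subgroup.normalizer (((P : Subgroup G) ⊓ K : Subgroup G) : Set G) := by
    rw [Subgroup.le_normalizer_iff]
    intro h hh k hk
    exact ⟨(P : Subgroup G).mul_mem ((P : Subgroup G).mul_mem hh hk.1) ((P : Subgroup G).inv_mem hh),
      ‹K.Normal›.conj_mem k hk.2 h⟩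
  have hfiber : Nat.card {Q : Sylow p G // f Q = f P} =
      Nat.card (Sylow p (Subgroup.normalizer (((P : Subgroup G) ⊓ K : Subgroup G) : Set G))) := by
    rw [card_sylow_subgroup_eq _ P hPN]
    refine Nat.card_congr (Equiv.subtypeEquivRight ?_)
    intro Q
    constructor
    · intro h
      change (Q : Subgroup G) ⊓ K = (P : Subgroup G) ⊓ K at h
      rw [← h, Subgroup.le_normalizer_iff]
      intro q hq k hk
      exact ⟨(Q : Subgroup G).mul_mem ((Q : Subgroup G).mul_mem hq hk.1) ((Q : Subgroup G).inv_mem hq),
        ‹K.Normal›.conj_mem k hk.2 q⟩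
    · intro h
      change (Q : Subgroup G) ⊓ K = (P : Subgroup G) ⊓ K
      -- D = P ⊓ K is a normal p-subgroup of M, hence contained in Q
      obtain ⟨S, hS⟩ := exists_sylow_map_eq_inf K P
      obtain ⟨T, hT⟩ := exists_sylow_map_eq_inf K Q
      rw [← hT, ← hS]
      generalize hD : (P : Subgroup G) ⊓ K = D at *
      generalize hM : Subgroup.normalizer (D : Set G) = M at *
      have hDM : D ≤ M := hM ▸ Subgroup.le_normalizer
      have hDn : (D.subgroupOf M).Normal := by
        subst hM; exact Subgroup.normal_in_normalizer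
      have hDp : IsPGroup p (D.subgroupOf M) := by
        have h1 : IsPGroup p D := P.isPGroup'.to_le (hD ▸ inf_le_left)
        exact h1.comap_of_injective M.subtype M.subtype_injective
      have h1 := hDp.le_sylow_of_normal (Q.subtype h)
      have hDQ : D ≤ Q := by
        intro d hd
        have := h1 (show (⟨d, hDM hd⟩ : M) ∈ D.subgroupOf M from hd)
        exact this
      have hle : (S : Subgroup K).map K.subtype ≤ (T : Subgroup K).map K.subtype := by
        rw [hT, hS]; exact le_inf hDQ (hD ▸ inf_le_right)
      have hle' : (S : Subgroup K) ≤ T := (Subgroup.map_le_map_iff_of_injective K.subtype_injective).mp hle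
      rw [S.is_maximal' T.isPGroup' hle']
  rw [key, hrange, hfiber]

end

end Cfsg.Agent.Lib.Helper77
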