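import Mathlib

set_option autoImplicit false

/-! Tools on Sylow subgroups of finite simple groups: faithful action on the set of Sylow
subgroups, Burnside's transfer criterion, automizer of a cyclic subgroup. -/

namespace Cfsg.Agent.Lib.Helper77

open Subgroup

variable {S : Type*} [Group S]

/-- If a simple group has more than one Sylow `p`-subgroup, its conjugation action on them is
faithful. -/
theorem sylow_faithful [Finite S] [IsSimpleGroup S] (p : ℕ) [Fact p.Prime]
    (hne : Nat.card (Sylow p S) ≠ 1) (g : S) (hg : ∀ X : Sylow p S, g • X = X) : g = 1 := by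
  have hK : (MulAction.toPermHom S (Sylow p S)).ker.Normal := MonoidHom.normal_ker _
  have hmem : ∀ x : S, x ∈ (MulAction.toPermHom S (Sylow p S)).ker ↔ ∀ X : Sylow p S, x • X = X := by
    intro x
    rw [MonoidHom.mem_ker]
    constructor
    · intro h X
      have := congrArg (fun σ : Equiv.Perm (Sylow p S) => σ X) h
      simpa using this
    · intro h
      refine Equiv.ext (fun X => ?_)
      simpa using h X
  rcases hK.eq_bot_or_eq_top with h | h
  · have : g ∈ (MulAction.toPermHom S (Sylow p S)).ker := (hmem g).mpr hg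
    rw [h] at this
    exact Subgroup.mem_bot.mp this
  · exfalso
    apply hne
    have hsub : Subsingleton (Sylow p S) := by
      refine ⟨fun X Y => ?_⟩
      obtain ⟨x, hx⟩ := MulAction.exists_smul_eq S X Y
      rw [← hx]
      exact ((hmem x).mp (by rw [h]; trivial) X).symm
    obtain ⟨X⟩ : Nonempty (Sylow p S) := inferInstance
    exact Nat.card_eq_one_iff_unique.mpr ⟨hsub, ⟨X⟩⟩

/-- In a finite simple group with more than one Sylow `p`-subgroup, no nontrivial subgroup lies
in all the Sylow `p`-subgroups. -/
theorem eq_bot_of_le_all_sylow [Finite S] [IsSimpleGroup S] (p : ℕ) [Fact p.Prime]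
    (hne : Nat.card (Sylow p S) ≠ 1) (D : Subgroup S) (hD : ∀ X : Sylow p S, D ≤ X) : D = ⊥ := by
  have hK : (⨅ X : Sylow p S, (X : Subgroup S)).Normal := by
    constructor
    intro n hn g
    rw [Subgroup.mem_iInf] at hn ⊢
    intro X
    have h1 := hn (g⁻¹ • X)
    rw [Sylow.coe_subgroup_smul, Subgroup.mem_pointwise_smul_iff_inv_smul_mem] at h1
    simpa [MulAut.smul_def] using h1
  have hle : D ≤ ⨅ X : Sylow p S, (X : Subgroup S) := le_iInf hD
  rcases hK.eq_bot_or_eq_top with h | h
  · rw [h] at hle
    exact le_bot_iff.mp hle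
  · exfalso
    apply hne
    have hall : ∀ X : Sylow p S, (X : Subgroup S) = ⊤ := by
      intro X
      refine top_le_iff.mp ?_
      rw [← h]
      exact iInf_le _ X
    have hsub : Subsingleton (Sylow p S) :=
      ⟨fun X Y => Sylow.ext ((hall X).trans (hall Y).symm)⟩
    obtain ⟨X⟩ : Nonempty (Sylow p S) := inferInstance
    exact Nat.card_eq_one_iff_unique.mpr ⟨hsub, ⟨X⟩⟩

/-- A commutative group has exactly one Sylow `p`-subgroup. -/
theorem card_sylow_eq_one_of_comm [Finite S] (p : ℕ) [Fact p.Prime]
    (hc : ∀ a b : S, a * b = b * a) : Nat.card (Sylow p S) = 1 := by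
  have hsub : Subsingleton (Sylow p S) := by
    refine ⟨fun X Y => ?_⟩
    obtain ⟨x, hx⟩ := MulAction.exists_smul_eq S X Y
    rw [← hx]
    symm
    rw [Sylow.smul_eq_iff_mem_normalizer, Subgroup.mem_set_normalizer_iff]
    intro h
    have : x * h * x⁻¹ = h := by rw [hc x h, mul_inv_cancel_right]
    rw [this]
  obtain ⟨X⟩ : Nonempty (Sylow p S) := inferInstance
  exact Nat.card_eq_one_iff_unique.mpr ⟨hsub, ⟨X⟩⟩

/-- Burnside's transfer theorem against simplicity. -/
theorem false_of_normalizer_le_centralizer [Finite S] [IsSimpleGroup S]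
    (hG : ∃ a b : S, a * b ≠ b * a) (p : ℕ) [Fact p.Prime] (P : Sylow p S)
    (hP : normalizer ((P : Subgroup S) : Set S) ≤ centralizer ((P : Subgroup S) : Set S))
    (hne : (P : Subgroup S) ≠ ⊥) : False := by
  have hc := MonoidHom.ker_transferSylow_isComplement' P hP
  have hn : (MonoidHom.transferSylow P hP).ker.Normal := MonoidHom.normal_ker _
  rcases hn.eq_bot_or_eq_top with h | h
  · rw [h, Subgroup.isComplement'_bot_left] at hc
    obtain ⟨a, b, hab⟩ := hG
    apply hab
    have ha : a ∈ (P : Subgroup S) := by rw [hc]; trivial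
    have hb : b ∈ (P : Subgroup S) := by rw [hc]; trivial
    exact (hP (Subgroup.le_normalizer ha) b hb).symm
  · rw [h, Subgroup.isComplement'_top_left] at hc
    exact hne hc

/-- The automizer `N(P)/C(P)` of a finite cyclic subgroup has order dividing `φ(|P|)`. -/
theorem relIndex_centralizer_normalizer_dvd_totient (P : Subgroup S) [Finite P] [IsCyclic P] :
    (centralizer (P : Set S)).relIndex (normalizer (P : Set S)) ∣ Nat.totient (Nat.card P) := by
  have key := Subgroup.card_dvd_of_injective _
    (QuotientGroup.kerLift_injective P.normalizerMonoidHom)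
  rw [Subgroup.normalizerMonoidHom_ker, ← Subgroup.index, ← Subgroup.relIndex] at key
  rwa [IsCyclic.card_mulAut] at key

/-- A Sylow subgroup of a group of order `p * m` with `p ∤ m` has order `p`. -/
theorem card_sylow_of_card_eq_prime_mul [Finite S] (p m : ℕ) [Fact p.Prime]
    (h : Nat.card S = p * m) (hm : ¬ p ∣ m) (R : Sylow p S) :
    Nat.card (R : Subgroup S) = p := by
  have hp : p.Prime := Fact.out
  rw [Sylow.card_eq_multiplicity, h, Nat.factorization_mul hp.ne_zero
    (by rintro rfl; exact hm (dvd_zero p))]
  simp [hp.factorization_self, Nat.factorization_eq_zero_of_not_dvd hm]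

/-- A finite simple noncommutative group of order `p * m` with `m` coprime to `p * (p - 1)`
does not exist (Burnside's transfer theorem). -/
theorem false_of_card_eq_prime_mul [Finite S] [IsSimpleGroup S]
    (hG : ∃ a b : S, a * b ≠ b * a) (p m : ℕ) (hp : p.Prime)
    (h : Nat.card S = p * m) (hm : ¬ p ∣ m) (hcop : Nat.Coprime (p - 1) m) : False := by
  haveI : Fact p.Prime := ⟨hp⟩
  obtain ⟨R⟩ : Nonempty (Sylow p S) := inferInstance
  have hR : Nat.card (R : Subgroup S) = p := card_sylow_of_card_eq_prime_mul p m h hm R
  haveI hcyc : IsCyclic (R : Subgroup S) := isCyclic_of_prime_card hR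
  have hRC : (R : Subgroup S) ≤ centralizer ((R : Subgroup S) : Set S) := by
    intro x hx y hy
    have := (hcyc.isMulCommutative.is_comm.comm (⟨x, hx⟩ : (R : Subgroup S)) ⟨y, hy⟩)
    exact (congrArg Subtype.val this).symm
  have hidx : (R : Subgroup S).index = m := by
    have := (R : Subgroup S).card_mul_index
    rw [hR, h] at this
    exact Nat.eq_of_mul_eq_mul_left hp.pos this
  have h1 : (centralizer ((R : Subgroup S) : Set S)).relIndex
      (normalizer ((R : Subgroup S) : Set S)) ∣ p - 1 := by
    have := relIndex_centralizer_normalizer_dvd_totient (R : Subgroup S)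
    rwa [hR, Nat.totient_prime hp] at this
  have h2 : (centralizer ((R : Subgroup S) : Set S)).relIndex
      (normalizer ((R : Subgroup S) : Set S)) ∣ m := by
    rw [← hidx]
    exact (Subgroup.relIndex_dvd_index_of_le (Subgroup.centralizer_le_normalizer _)).trans (Subgroup.index_dvd_of_le hRC)
  have h3 : (centralizer ((R : Subgroup S) : Set S)).relIndex
      (normalizer ((R : Subgroup S) : Set S)) = 1 :=
    Nat.eq_one_of_dvd_coprimes hcop h1 h2
  apply false_of_normalizer_le_centralizer hG p R (Subgroup.relIndex_eq_one.mp h3)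
  intro hbot
  rw [hbot, Subgroup.card_bot] at hR
  exact hp.one_lt.ne hR

end Cfsg.Agent.Lib.Helper77
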