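import Cfsg.Agent.Lib.Helper72.OQFDefs
import Cfsg.Agent.Lib.Helper50.DotForm
import Cfsg.Agent.Lib.Helper50.PgoCongr
import Cfsg.Agent.Lib.Helper08.GOPlus
import Cfsg.Agent.Lib.Helper08.GOOdd

/-!
# K-OQF-A1 (keystone 597716, pack of helper72 for S5977/S5978)

The order of the isometry group of the sum of `d` squares over the quadratic extension
`QuadraticAlgebra F δ 0` (`= Helper14.SpU.LL δ`, a reducible abbreviation) of a finite field `F` of odd
order `q`: it is `oDot q d`.
-/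

set_option autoImplicit false
set_option linter.style.haveILetI false
set_option linter.unusedVariables false

namespace Cfsg.Agent.Lib.Helper77.OQF

open Cfsg Matrix Cfsg.Agent.Lib.Helper72.OQF Cfsg.Agent.Lib.Helper50

section iso
variable {ι κ : Type} [Fintype ι] [DecidableEq ι] [Fintype κ] [DecidableEq κ]
variable {K : Type*} [Field K]

theorem mem_isometryGroup_iff (Q : (ι → K) → K) (g : GL ι K) :
    g ∈ Cfsg.isometryGroup K Q ↔ ∀ u, Q (g.val *ᵥ u) = Q u := by
  constructor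
  · intro h u
    exact h u 0
  · intro h u _
    exact h u

theorem glCongr_mem_isometryGroup (e : (ι → K) ≃ₗ[K] (κ → K)) (Q : (ι → K) → K)
    (Q' : (κ → K) → K) (h : ∀ v, Q' (e v) = Q v) (g : GL ι K) :
    glCongr e g ∈ Cfsg.isometryGroup K Q' ↔ g ∈ Cfsg.isometryGroup K Q := by
  rw [mem_isometryGroup_iff, mem_isometryGroup_iff]
  constructor
  · intro hc v
    have := hc (e v)
    rw [glCongr_mulVec_apply, h, h] at this
    exact this
  · intro hc u
    obtain ⟨v, rfl⟩ := e.surjective u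
    rw [glCongr_mulVec_apply, h, h]
    exact hc v

theorem card_isometryGroup_congr (e : (ι → K) ≃ₗ[K] (κ → K)) (Q : (ι → K) → K)
    (Q' : (κ → K) → K) (h : ∀ v, Q' (e v) = Q v) :
    Nat.card (Cfsg.isometryGroup K Q) = Nat.card (Cfsg.isometryGroup K Q') :=
  Nat.card_congr ((glCongr e).toEquiv.subtypeEquiv
    (fun g => (glCongr_mem_isometryGroup e Q Q' h g).symm))

/-- scaling a form by a nonzero constant does not change its isometry group -/
theorem isometryGroup_smul (Q : (ι → K) → K) (c : K) (hc : c ≠ 0) :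
    Cfsg.isometryGroup K (fun v => c * Q v) = Cfsg.isometryGroup K Q := by
  ext g
  rw [mem_isometryGroup_iff, mem_isometryGroup_iff]
  constructor
  · intro h u
    exact mul_left_cancel₀ hc (h u)
  · intro h u
    show c * Q _ = c * Q u
    rw [h u]

/-- scaling the first hyperbolic coordinates turns `c x₀² + Σ xᵢ yᵢ` into `c (x₀² + Σ xᵢ yᵢ)` -/
noncomputable def oddScale (m : ℕ) (c : K) (hc : c ≠ 0) :
    (Unit ⊕ (Fin m ⊕ Fin m) → K) ≃ₗ[K] (Unit ⊕ (Fin m ⊕ Fin m) → K) :=
  LinearEquiv.piCongrRight (fun j : Unit ⊕ (Fin m ⊕ Fin m) =>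
    LinearEquiv.smulOfNeZero K K (Sum.elim (fun _ => (1 : K)) (Sum.elim (fun _ => c⁻¹)
      (fun _ => (1 : K))) j)
      (by rcases j with j | j | j <;> simp [hc]))

theorem oddScale_apply (m : ℕ) (c : K) (hc : c ≠ 0) (v : Unit ⊕ (Fin m ⊕ Fin m) → K)
    (j : Unit ⊕ (Fin m ⊕ Fin m)) :
    oddScale m c hc v j = (Sum.elim (fun _ => (1 : K)) (Sum.elim (fun _ => c⁻¹)
      (fun _ => (1 : K))) j) * v j := rfl

theorem quadFormOdd_oddScale (m : ℕ) (c : K) (hc : c ≠ 0) (v : Unit ⊕ (Fin m ⊕ Fin m) → K) :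
    Cfsg.quadFormOdd m K (oddScale m c hc v) = c⁻¹ * oddForm m c v := by
  unfold Cfsg.quadFormOdd oddForm
  simp only [oddScale_apply, Sum.elim_inl, Sum.elim_inr, one_mul]
  rw [mul_add, Finset.mul_sum, ← mul_assoc, inv_mul_cancel₀ hc, one_mul]
  congr 1
  apply Finset.sum_congr rfl
  intro i _
  ring

end iso

section field
variable {L : Type*} [Field L] [Fintype L]

theorem two_ne_zero_of_odd_card (hodd : Odd (Fintype.card L)) : (2 : L) ≠ 0 := by
  apply Ring.two_ne_zero
  intro h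
  rw [FiniteField.even_card_iff_char_two] at h
  rw [Nat.odd_iff] at hodd
  omega

theorem isSquare_neg_one_of_card_sq {q : ℕ} (hq : Fintype.card L = q ^ 2) (hodd : Odd q) :
    IsSquare (-1 : L) := by
  rw [FiniteField.isSquare_neg_one_iff, hq]
  obtain ⟨k, rfl⟩ := hodd
  have : (2 * k + 1) ^ 2 = 4 * (k * k + k) + 1 := by ring
  rw [this]
  omega

/-- even number of squares over a field of order `q²`, `q` odd: plus type -/
theorem card_dot_even {q : ℕ} (hq : Fintype.card L = q ^ 2) (hodd : Odd q) (m : ℕ) (hm : 1 ≤ m) :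
    Nat.card (Cfsg.isometryGroup L (⇑(dotQF (2 * m) L))) = gOplus (q ^ 2) m := by
  have hoddL : Odd (Fintype.card L) := by rw [hq]; exact hodd.pow
  have h2 : (2 : L) ≠ 0 := two_ne_zero_of_odd_card hoddL
  have hsq : IsSquare ((-1 : L) ^ m) := (isSquare_neg_one_of_card_sq hq hodd).pow m
  obtain ⟨φ, hφ⟩ := (dotQF_type h2 m).1 hsq
  rw [card_isometryGroup_congr φ (⇑(dotQF (2 * m) L)) (Cfsg.quadFormPlus m L) hφ,
    Cfsg.Agent.Lib.Helper08.card_GOplus hq m hm]
  rfl

/-- odd number of squares over a field of order `q²`, `q` odd -/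
theorem card_dot_odd {q : ℕ} (hq : Fintype.card L = q ^ 2) (hodd : Odd q) (m : ℕ) :
    Nat.card (Cfsg.isometryGroup L (⇑(dotQF (2 * m + 1) L))) = gOodd (q ^ 2) m := by
  have hoddL : Odd (q ^ 2) := hodd.pow
  have hoddL' : Odd (Fintype.card L) := by rw [hq]; exact hoddL
  have h2 : (2 : L) ≠ 0 := two_ne_zero_of_odd_card hoddL'
  have hn : Module.finrank L (Fin (2 * m + 1) → L) = 2 * m + 1 := Module.finrank_fin_fun L
  rcases witt_type (2 * m + 1) (dotQF (2 * m + 1) L) hn (dotQF_QND h2 _) with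
    ⟨m', hm', -⟩ | ⟨k, ζ, hk, -, -⟩ | ⟨k, c, hk, hc, hp⟩
  · omega
  · omega
  · obtain rfl : k = m := by omega
    obtain ⟨φ, hφ⟩ := hp
    have hc' : c⁻¹ ≠ 0 := inv_ne_zero hc
    have key : ∀ v, Cfsg.quadFormOdd k L ((φ.trans (oddScale k c hc)) v) =
        (fun v => c⁻¹ * (dotQF (2 * k + 1) L) v) v := by
      intro v
      rw [LinearEquiv.trans_apply, quadFormOdd_oddScale, hφ]
    rw [← isometryGroup_smul (⇑(dotQF (2 * k + 1) L)) c⁻¹ hc',
      card_isometryGroup_congr (φ.trans (oddScale k c hc)) _ (Cfsg.quadFormOdd k L) key,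
      Cfsg.Agent.Lib.Helper08.card_GOodd hq hoddL k]
    rfl

end field

section main
variable {F : Type*} [Field F]

/-- **K-OQF-A1.** -/
theorem card_dot [Fintype F] {q : ℕ} (hq : Fintype.card F = q) (hodd : Odd q) (d : ℕ) (hd : 2 ≤ d)
    (δ : F) [Fact (∀ r : F, r ^ 2 ≠ δ + 0 * r)] :
    Nat.card (Cfsg.isometryGroup (QuadraticAlgebra F δ 0)
      (⇑(Cfsg.Agent.Lib.Helper50.dotQF d (QuadraticAlgebra F δ 0)))) = oDot q d := by
  letI : Fintype (QuadraticAlgebra F δ 0) :=
    Fintype.ofEquiv (F × F) (QuadraticAlgebra.equivProd δ 0).symm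
  have hL : Fintype.card (QuadraticAlgebra F δ 0) = q ^ 2 := by
    rw [Fintype.card_congr (QuadraticAlgebra.equivProd δ 0), Fintype.card_prod, sq, hq]
  unfold oDot
  rcases Nat.even_or_odd' d with ⟨m, rfl | rfl⟩
  · rw [if_pos (even_two_mul m), card_dot_even hL hodd m (by omega)]
    congr 1
    omega
  · rw [if_neg (by rw [Nat.not_even_iff_odd]; exact odd_two_mul_add_one m), card_dot_odd hL hodd m]
    congr 1
    omega

end main

end Cfsg.Agent.Lib.Helper77.OQF
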