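import Cfsg.Agent.Lib.Helper77.StOpM1Core

/-!
# K-StOp-M1 (keystone 254813, S2548, architect helper49): the elements of `N = ⟨S⟩ T` are monomial

Final form (exact spec signature).  The matrices of the reflections `sShort`, `sCross` (the part
of leaf R0a that is needed) are proved here, so this file depends on `StOpDefs` only.
-/

set_option autoImplicit false
set_option linter.unusedSectionVars false
set_option linter.unusedVariables false

namespace Cfsg.Agent.Lib.Helper77.StOp

open Cfsg Cfsg.Agent.Lib.Helper49.StOp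

variable {m : ℕ} {F : Type*} [Field F]

/-- a permutation of the index set preserving `quadFormPlus` gives an isometry -/
theorem m1_exists_of_perm (σ : Equiv.Perm (OI m))
    (hQ : ∀ u : OI m → F, Cfsg.quadFormPlus m F (u ∘ σ) = Cfsg.quadFormPlus m F u) :
    ∃ g : OG m F, mat g = σ.permMatrix F := by
  refine exists_of_isometry (σ.permMatrix F) (σ⁻¹.permMatrix F) ?_ ?_ ?_
  · rw [← Matrix.permMatrix_mul, inv_mul_cancel, Matrix.permMatrix_one]
  · rw [← Matrix.permMatrix_mul, mul_inv_cancel, Matrix.permMatrix_one]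
  · intro u
    rw [Matrix.permMatrix_mulVec]
    exact hQ u

theorem m1_mat_sShort (i j : Fin m) : mat (sShort m F i j) = sShortMat m F i j := by
  refine mat_ofMat _ (m1_exists_of_perm (swapE m i j) ?_)
  intro u
  unfold Cfsg.quadFormPlus
  exact Equiv.sum_comp (Equiv.swap i j) (fun a => u (Sum.inl a) * u (Sum.inr a))

theorem m1_crossE_term (i j : Fin m) (hij : i ≠ j) (u : OI m → F) (a : Fin m) :
    u (crossE m i j (eI a)) * u (crossE m i j (fI a))
      = u (eI (Equiv.swap i j a)) * u (fI (Equiv.swap i j a)) := by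
  have hji : j ≠ i := fun h => hij h.symm
  show u (Equiv.swap (eI i) (fI j) (Equiv.swap (eI j) (fI i) (eI a)))
      * u (Equiv.swap (eI i) (fI j) (Equiv.swap (eI j) (fI i) (fI a))) = _
  by_cases hai : a = i
  · subst hai
    have e1 : (eI a : OI m) ≠ eI j := fun e => hij (Sum.inl.inj e)
    have e2 : (fI a : OI m) ≠ fI j := fun e => hij (Sum.inr.inj e)
    rw [Equiv.swap_apply_of_ne_of_ne e1 (by simp), Equiv.swap_apply_left,
      Equiv.swap_apply_right, Equiv.swap_apply_of_ne_of_ne e1.symm (by simp),
      Equiv.swap_apply_left, mul_comm]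
  · by_cases haj : a = j
    · subst haj
      have e1 : (eI a : OI m) ≠ eI i := fun e => hji (Sum.inl.inj e)
      have e2 : (fI a : OI m) ≠ fI i := fun e => hji (Sum.inr.inj e)
      rw [Equiv.swap_apply_left, Equiv.swap_apply_of_ne_of_ne (by simp) e2.symm,
        Equiv.swap_apply_of_ne_of_ne (by simp) e2, Equiv.swap_apply_right,
        Equiv.swap_apply_right, mul_comm]
    · have e1 : (eI a : OI m) ≠ eI i := fun e => hai (Sum.inl.inj e)
      have e2 : (fI a : OI m) ≠ fI i := fun e => hai (Sum.inr.inj e)
      have e3 : (eI a : OI m) ≠ eI j := fun e => haj (Sum.inl.inj e)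
      have e4 : (fI a : OI m) ≠ fI j := fun e => haj (Sum.inr.inj e)
      rw [Equiv.swap_apply_of_ne_of_ne e3 (by simp), Equiv.swap_apply_of_ne_of_ne e1 (by simp),
        Equiv.swap_apply_of_ne_of_ne (by simp) e2, Equiv.swap_apply_of_ne_of_ne (by simp) e4,
        Equiv.swap_apply_of_ne_of_ne hai haj]

theorem m1_mat_sCross (i j : Fin m) : mat (sCross m F i j) = sCrossMat m F i j := by
  refine mat_ofMat _ (m1_exists_of_perm (crossE m i j) ?_)
  intro u
  by_cases hij : i = j
  · subst hij
    have : crossE m i i = 1 := by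
      unfold crossE
      exact Equiv.swap_mul_self _ _
    rw [this]
    rfl
  · unfold Cfsg.quadFormPlus
    show ∑ a : Fin m, u (crossE m i j (eI a)) * u (crossE m i j (fI a)) = _
    rw [Finset.sum_congr rfl (fun a _ => m1_crossE_term i j hij u a)]
    exact Equiv.sum_comp (Equiv.swap i j) (fun a => u (Sum.inl a) * u (Sum.inr a))

/-- **LEAF M1 (254813).** -/
theorem exists_monWith (n : OG m F) (hn : n ∈ Nsub m F) :
    ∃ σ : Equiv.Perm (OI m), MonWith m F n σ :=
  exists_monWith_of m1_mat_sShort m1_mat_sCross n hn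

end Cfsg.Agent.Lib.Helper77.StOp
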