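import Mathlib
import Cfsg.Prelude.Def_GeometricClasses
import Cfsg.Agent.Lib.Helper69.SLTDefs

/-!
# Keystone 597903 (K-SLT-3a) of helper69's pack for S5979

A transvection `1 + E_{ij}`: determinant one, order dividing `p`, not scalar, fixed space of codimension one.
-/

set_option autoImplicit false
set_option linter.style.haveILetI false
set_option linter.unusedSectionVars false

namespace Cfsg.Agent.Lib.Helper77.SLT

open Matrix Cfsg.Agent.Lib.Helper69.SLT

variable {F : Type*} [Field F]

theorem transvection_pow {ι : Type} [Fintype ι] [DecidableEq ι] {i j : ι} (hij : i ≠ j) (c : F)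
    (k : ℕ) : (Matrix.transvection i j c) ^ k = Matrix.transvection i j ((k : F) * c) := by
  induction k with
  | zero => simp [Matrix.transvection_zero]
  | succ k ih =>
    rw [pow_succ, ih, Matrix.transvection_mul_transvection_same i j hij]
    congr 1
    push_cast
    ring

/-- 597903 K-SLT-3a. -/
theorem exists_transvection {ι : Type} [Fintype ι] [DecidableEq ι] {p : ℕ} [Fact p.Prime] [CharP F p]
    (hι : 2 ≤ Fintype.card ι) :
    ∃ x : GL ι F, Matrix.GeneralLinearGroup.det x = 1 ∧ x ^ p = 1 ∧
      (∀ z : F, (x : Matrix ι ι F) ≠ z • (1 : Matrix ι ι F)) ∧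
      eigDim (x : Matrix ι ι F) 1 + 1 = Fintype.card ι := by
  obtain ⟨i, j, hij⟩ := Fintype.exists_pair_of_one_lt_card (by omega : 1 < Fintype.card ι)
  have hinv1 : Matrix.transvection i j (1 : F) * Matrix.transvection i j (-1 : F) = 1 := by
    rw [Matrix.transvection_mul_transvection_same i j hij, add_neg_cancel, Matrix.transvection_zero]
  have hinv2 : Matrix.transvection i j (-1 : F) * Matrix.transvection i j (1 : F) = 1 := by
    rw [Matrix.transvection_mul_transvection_same i j hij, neg_add_cancel, Matrix.transvection_zero]
  refine ⟨⟨Matrix.transvection i j 1, Matrix.transvection i j (-1), hinv1, hinv2⟩, ?_, ?_, ?_, ?_⟩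
  · apply Units.ext
    rw [Matrix.GeneralLinearGroup.val_det_apply]
    exact Matrix.det_transvection_of_ne i j hij 1
  · apply Units.ext
    rw [Units.val_pow_eq_pow_val]
    show (Matrix.transvection i j (1 : F)) ^ p = 1
    rw [transvection_pow hij, CharP.cast_eq_zero, zero_mul, Matrix.transvection_zero]
  · intro z h
    have h1 := congrFun (congrFun h i) j
    change (Matrix.transvection i j (1 : F)) i j = (z • (1 : Matrix ι ι F)) i j at h1
    simp [Matrix.transvection, Matrix.one_apply_ne hij] at h1
  · show eigDim (Matrix.transvection i j (1 : F)) 1 + 1 = Fintype.card ι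
    have hker : Module.End.eigenspace (Matrix.toLin' (Matrix.transvection i j (1 : F))) 1 =
        LinearMap.ker (LinearMap.proj j : (ι → F) →ₗ[F] F) := by
      ext v
      rw [mem_eigenspace_toLin', LinearMap.mem_ker, LinearMap.proj_apply, one_smul,
        Matrix.transvection, Matrix.add_mulVec, Matrix.one_mulVec, Matrix.single_mulVec, one_mul]
      constructor
      · intro h
        have h1 := congrFun h i
        simpa using h1
      · intro h
        rw [h]
        simp
    have hsurj : LinearMap.range (LinearMap.proj j : (ι → F) →ₗ[F] F) = ⊤ := by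
      rw [LinearMap.range_eq_top]
      intro c
      exact ⟨fun _ => c, rfl⟩
    have hrk := LinearMap.finrank_range_add_finrank_ker (LinearMap.proj j : (ι → F) →ₗ[F] F)
    rw [hsurj, finrank_top, Module.finrank_self, Module.finrank_fintype_fun_eq_card] at hrk
    unfold eigDim
    rw [hker]
    omega

end Cfsg.Agent.Lib.Helper77.SLT
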