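import Mathlib

/-!
# Keystone 597911 (K-SLT-A) of helper69's pack for S5979

If the 2-part of `n` is smaller than the 2-part of `q - 1`, then `-1` is an `n`-th power in the field with `q`
elements.
-/

set_option autoImplicit false
set_option linter.style.haveILetI false
set_option linter.unusedVariables false

namespace Cfsg.Agent.Lib.Helper77.SLT

variable {F : Type*} [Field F]

theorem two_dvd_div_gcd (N n : ℕ) (hN : N ≠ 0) (hn : n ≠ 0)
    (hv : padicValNat 2 n < padicValNat 2 N) : 2 ∣ N / N.gcd n := by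
  haveI : Fact (Nat.Prime 2) := ⟨Nat.prime_two⟩
  have hgN : N.gcd n ∣ N := Nat.gcd_dvd_left N n
  have hgn : N.gcd n ∣ n := Nat.gcd_dvd_right N n
  obtain ⟨N1, hN1⟩ := hgN
  have hg0 : N.gcd n ≠ 0 := fun h => hN (by rw [hN1, h, zero_mul])
  have hdiv : N / N.gcd n = N1 := Nat.div_eq_of_eq_mul_right (Nat.pos_of_ne_zero hg0) hN1
  rw [hdiv]
  by_contra hodd
  have hcop : Nat.Coprime (2 ^ padicValNat 2 N) N1 :=
    Nat.Coprime.pow_left _ ((Nat.Prime.coprime_iff_not_dvd Nat.prime_two).2 hodd)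
  have h1 : 2 ^ padicValNat 2 N ∣ N.gcd n * N1 := by
    rw [← hN1]
    exact pow_padicValNat_dvd
  have h2 : 2 ^ padicValNat 2 N ∣ N.gcd n := hcop.dvd_of_dvd_mul_right h1
  have h3 : 2 ^ padicValNat 2 N ∣ n := h2.trans hgn
  have h4 := (padicValNat_dvd_iff_le hn).1 h3
  omega

/-- 597911 K-SLT-A. -/
theorem exists_pow_eq_neg_one [Fintype F] (hodd : Odd (Fintype.card F)) (n : ℕ) (hn : 0 < n)
    (hv : padicValNat 2 n < padicValNat 2 (Fintype.card F - 1)) : ∃ l : Fˣ, (l : F) ^ n = -1 := by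
  classical
  haveI : Fact (Nat.Prime 2) := ⟨Nat.prime_two⟩
  have hcard : Nat.card Fˣ = Fintype.card F - 1 := by
    rw [Nat.card_eq_fintype_card, Fintype.card_units]
  have hN0 : Fintype.card F - 1 ≠ 0 := by
    intro h
    rw [h] at hv
    simp at hv
  have h2 : 2 ∣ Nat.card (powMonoidHom n : Fˣ →* Fˣ).range := by
    rw [IsCyclic.card_powMonoidHom_range, hcard]
    exact two_dvd_div_gcd _ _ hN0 hn.ne' hv
  obtain ⟨y, hy⟩ := exists_prime_orderOf_dvd_card' 2 h2
  obtain ⟨l, hl⟩ := y.2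
  have hy2 : orderOf (y : Fˣ) = 2 := by rw [Subgroup.orderOf_coe]; exact hy
  refine ⟨l, ?_⟩
  have hl' : (l : F) ^ n = ((y : Fˣ) : F) := by
    rw [← hl, powMonoidHom_apply, Units.val_pow_eq_pow_val]
  rw [hl']
  have hsq : ((y : Fˣ) : F) ^ 2 = 1 := by
    have : (y : Fˣ) ^ 2 = 1 := by rw [← hy2]; exact pow_orderOf_eq_one _
    rw [← Units.val_pow_eq_pow_val, this, Units.val_one]
  have hne : ((y : Fˣ) : F) ≠ 1 := by
    intro h
    have h1 : (y : Fˣ) = 1 := Units.ext h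
    rw [h1, orderOf_one] at hy2
    omega
  have hm : (((y : Fˣ) : F) - 1) * (((y : Fˣ) : F) + 1) = 0 := by linear_combination hsq
  rcases mul_eq_zero.1 hm with h | h
  · exact absurd (sub_eq_zero.1 h) hne
  · exact eq_neg_of_add_eq_zero_left h

end Cfsg.Agent.Lib.Helper77.SLT
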