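import Cfsg.Agent.Lib.Helper69.StNDefs

set_option autoImplicit false

/-!
# K-StN leaf D1 (keystone 240110, S2401, architect helper69): the torus `Htor X` is commutative
-/

namespace Cfsg.Agent.Lib.Helper77.StN

open Cfsg.Agent.Lib.Helper69.StN

variable {n : ℕ} {K : Type*} [Field K] {S : Type*} [Group S] {X : Fin n → Fin n → K → S}

/-- a torus generator acts diagonally -/
theorem hh_acts_one (hA : HasActsW X) {i j : Fin n} (hij : i ≠ j) {u : K} (hu : u ≠ 0) :
    ∃ d : Fin n → K, Acts X (hh X i j u) 1 d := by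
  have h1 := hA i j hij u hu
  have h2 := hA i j hij (-1) (neg_ne_zero.mpr one_ne_zero)
  have h3 := Acts.mul h1 h2
  rw [Equiv.swap_mul_self] at h3
  exact ⟨_, h3⟩

/-- a torus generator centralises every torus generator -/
theorem hh_conj_hh (hX : IsSt X) (hA : HasActsW X) (hM : HasHhMul X) {i j k l : Fin n}
    (hij : i ≠ j) (hkl : k ≠ l) {u v : K} (hu : u ≠ 0) (hv : v ≠ 0) :
    hh X i j u * hh X k l v * (hh X i j u)⁻¹ = hh X k l v := by
  obtain ⟨d, hd⟩ := hh_acts_one hA hij hu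
  rw [hX.conj_hh_of_acts hd hkl hv]
  simp only [Equiv.Perm.coe_one, id_eq]
  have hc : d k * (d l)⁻¹ ≠ 0 := mul_ne_zero (hd.1 k) (inv_ne_zero (hd.1 l))
  rw [mul_comm (d k * (d l)⁻¹) v, hM k l hkl v _ hv hc, mul_inv_cancel_right]

/-- **LEAF D1 (240110).** -/
theorem Htor_comm (hX : IsSt X) (hA : HasActsW X) (hM : HasHhMul X) :
    ∀ a ∈ Htor X, ∀ b ∈ Htor X, a * b = b * a := by
  have h1 : ∀ g ∈ {g : S | ∃ i j, ∃ u : K, i ≠ j ∧ u ≠ 0 ∧ g = hh X i j u},
      ∀ g' ∈ {g : S | ∃ i j, ∃ u : K, i ≠ j ∧ u ≠ 0 ∧ g = hh X i j u}, Commute g g' := by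
    rintro _ ⟨i, j, u, hij, hu, rfl⟩ _ ⟨k, l, v, hkl, hv, rfl⟩
    exact mul_inv_eq_iff_eq_mul.mp (hh_conj_hh hX hA hM hij hkl hu hv)
  have key : ∀ g ∈ {g : S | ∃ i j, ∃ u : K, i ≠ j ∧ u ≠ 0 ∧ g = hh X i j u},
      ∀ b ∈ Htor X, Commute g b := by
    intro g hg b hb
    unfold Htor at hb
    induction hb using Subgroup.closure_induction with
    | mem x hx => exact h1 g hg x hx
    | one => exact Commute.one_right g
    | mul x y _ _ hx hy => exact hx.mul_right hy
    | inv x _ hx => exact hx.inv_right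
  intro a ha b hb
  have : Commute a b := by
    unfold Htor at ha
    induction ha using Subgroup.closure_induction with
    | mem x hx => exact key x hx b hb
    | one => exact Commute.one_left b
    | mul x y _ _ hx hy => exact hx.mul_left hy
    | inv x _ hx => exact hx.inv_left
  exact this

end Cfsg.Agent.Lib.Helper77.StN
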