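import Mathlib
import Cfsg.Agent.Lib.Helper72.A4ODefs

/-!
# K-A4O leaf L8a (keystone 406808, S4068, architect helper72)
-/

set_option autoImplicit false

namespace Cfsg.Agent.Lib.Helper77.A4O

open Cfsg.Agent.Lib.Helper72.A4O

universe u

/-- 406808 A4O-L8a (EASY-MEDIUM): in `SL₂(F) × A` (char 2, `A` of odd order) EPO forces `A` trivial:
`(u, a)` with `u = !![1,1;0,1]` (order 2) and `a ≠ 1` has even order `> 2`. -/
theorem eq_one_of_epo_prod {F : Type} [Field F] [Fintype F] [CharP F 2] {A : Type} [CommGroup A] [Finite A]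
    (hA : Odd (Nat.card A)) (hep : EPO (Matrix.SpecialLinearGroup (Fin 2) F × A)) (a : A) : a = 1 := by
  classical
  by_contra ha
  have h11 : (1 : F) + 1 = 0 := CharTwo.add_self_eq_zero 1
  obtain ⟨u, hu⟩ : ∃ u : Matrix.SpecialLinearGroup (Fin 2) F, (u : Matrix (Fin 2) (Fin 2) F) = !![1, 1; 0, 1] :=
    ⟨⟨!![1, 1; 0, 1], by simp [Matrix.det_fin_two]⟩, rfl⟩
  have hu2 : u ^ 2 = 1 := by
    apply Subtype.ext
    rw [Matrix.SpecialLinearGroup.coe_pow, hu, pow_two, Matrix.SpecialLinearGroup.coe_one]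
    ext i j
    fin_cases i <;> fin_cases j <;> simp [Matrix.mul_apply, Fin.sum_univ_two, h11]
  have hu1 : u ≠ 1 := by
    intro h
    have h2 := congrArg (fun M : Matrix.SpecialLinearGroup (Fin 2) F =>
      (M : Matrix (Fin 2) (Fin 2) F) 0 1) h
    simp [hu] at h2
  have hou : orderOf u = 2 := orderOf_eq_prime hu2 hu1
  have hoa : Odd (orderOf a) := hA.of_dvd_nat (orderOf_dvd_natCard a)
  have hoa1 : orderOf a ≠ 1 := fun h => ha (orderOf_eq_one_iff.mp h)
  have hg : orderOf ((u, a) : Matrix.SpecialLinearGroup (Fin 2) F × A) = 2 * orderOf a := by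
    rw [Prod.orderOf, hou]
    exact Nat.Coprime.lcm_eq_mul (Nat.coprime_two_left.mpr hoa)
  have hne : ((u, a) : Matrix.SpecialLinearGroup (Fin 2) F × A) ≠ 1 :=
    fun h => ha (congrArg Prod.snd h)
  have hp := hep _ hne
  rw [hg] at hp
  rcases Nat.prime_mul_iff.mp hp with ⟨_, h⟩ | ⟨_, h⟩
  · exact hoa1 h
  · norm_num at h

end Cfsg.Agent.Lib.Helper77.A4O
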