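import Mathlib
import Cfsg.Agent.Lib.Helper30.BG159Defs2
import Cfsg.Agent.Lib.Helper78.BG15KPrime
import Cfsg.Agent.Lib.Helper13.BG12A
import Cfsg.Agent.S1432
import Cfsg.Agent.S1367
import Cfsg.Agent.S1354
import Cfsg.Agent.S1350

/-!
# K-1376 leaf D (keystone 137604, S1376, architect helper30): `K` acts fixed-point-freely on `M_σ`
-/

set_option autoImplicit false

namespace Cfsg.Agent.Lib.Helper77.BG159

open Cfsg Subgroup Cfsg.Agent.Lib.Helper30.BG159

variable {G : Type*} [Group G] [Finite G]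

/-- `Ns ≠ M` in a configuration: `κ(Ns)` is nonempty, `κ(M)` is empty -/
theorem cfg_Ns_ne (hG : IsMinSimpleOddOrder G) {M N Ns K U : Subgroup G} {x : G}
    (h : Cfg M N Ns K U x) : M ≠ Ns := by
  intro hMN
  have hKs : sigmaCore N ⊓ centralizer (K : Set G) ≠ ⊥ :=
    (Cfsg.Agent.S1354.result hG N h.hN K h.hKU.cyclic h.hKU.hall).1
  apply hKs
  have hH := h.hKstH
  rw [← hMN, h.hκ] at hH
  rw [← Subgroup.card_eq_one]
  by_contra hne
  obtain ⟨p, hp, hpd⟩ := Nat.exists_prime_and_dvd hne
  exact hH.2.1 p hp hpd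

/-- **LEAF D (137604).** -/
theorem K_fpf (hG : IsMinSimpleOddOrder G) {M N Ns K U : Subgroup G} {x : G}
    (h : Cfg M N Ns K U x) :
    ∀ k ∈ K, k ≠ 1 → ∀ y ∈ sigmaCore M, k * y = y * k → y = 1 := by
  intro k hk hk1 y hy hky
  by_contra hy1
  have hKMN : K ≤ M ⊓ N := by rw [h.hMN]; exact le_sup_right
  have hkM : k ∈ M := (hKMN hk).1
  have hKE : K ≤ M ⊓ Ns := fun z hz => by
    have := h.hKF hz
    obtain ⟨w, -, rfl⟩ := this
    exact w.2
  have hkc : k ∈ centralizer ({y} : Set G) := by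
    rw [Subgroup.mem_centralizer_singleton_iff]
    exact hky
  -- no prime divisor of the order of `k` lies in `σ(M)`
  have hσ : ∀ p : ℕ, p.Prime → p ∣ orderOf k → p ∉ sigma M := by
    intro p hp hpd hpσ
    have hHall := (Cfsg.Agent.S1350.result hG M h.hM).1
    have hidx : (sigmaCore M).relIndex M = Nat.card ↥(M ⊓ Ns) :=
      Cfsg.Agent.Lib.Helper13.BG12.relIndex_eq_card_of_complIn h.hE
    apply hHall.2.2 p hp hpσ
    rw [hidx]
    have h1 : orderOf k ∣ Nat.card ↥(M ⊓ Ns) := by
      have := orderOf_dvd_natCard (⟨k, hKE hk⟩ : ↥(M ⊓ Ns))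
      rwa [← Subgroup.orderOf_coe] at this
    exact hpd.trans h1
  have hprime := (Cfsg.Agent.Lib.Helper78.BG15.card_prime_of_sigmaDecomposition hG h.hN h.hKU
    h.hK1 h.hU1).1
  rcases Cfsg.Agent.S1432.result hG M h.hM y hy hy1 k ⟨hkM, hkc⟩ hk1 hσ with h1 | h2
  · -- a prime of `κ(M) = ∅`
    have hne : orderOf k ≠ 1 := fun h0 => hk1 (orderOf_eq_one_iff.mp h0)
    obtain ⟨p, hp, hpd⟩ := Nat.exists_prime_and_dvd hne
    have := h1.1 p hp hpd
    rw [h.hκ] at this
    exact this
  · -- `M` is the unique maximal subgroup over `C_G(k) = C_G(K)`, but so is `Ns`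
    have hKz : K = Subgroup.zpowers k := by
      have hfact : Fact (Nat.card K).Prime := ⟨hprime⟩
      have hz : Subgroup.zpowers (⟨k, hk⟩ : K) = ⊤ :=
        zpowers_eq_top_of_prime_card (p := Nat.card K) rfl (fun h0 => hk1 (by
          have := congrArg Subtype.val h0
          simpa using this))
      apply le_antisymm
      · intro z hz'
        have : (⟨z, hz'⟩ : K) ∈ Subgroup.zpowers (⟨k, hk⟩ : K) := by rw [hz]; trivial
        obtain ⟨n, hn⟩ := Subgroup.mem_zpowers_iff.mp this
        refine Subgroup.mem_zpowers_iff.mpr ⟨n, ?_⟩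
        have := congrArg Subtype.val hn
        simpa using this
      · rw [Subgroup.zpowers_le]
        exact hk
    have hCK : centralizer (K : Set G) = centralizer ({k} : Set G) := by
      rw [hKz]
      apply le_antisymm
      · exact Subgroup.centralizer_le (Set.singleton_subset_iff.mpr (Subgroup.mem_zpowers k))
      · intro g hg
        rw [Subgroup.mem_centralizer_singleton_iff] at hg
        rw [Subgroup.mem_centralizer_iff]
        intro z hz
        obtain ⟨n, rfl⟩ := Subgroup.mem_zpowers_iff.mp hz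
        exact ((show Commute g k from hg).zpow_right n).eq.symm
    have h67 := (Cfsg.Agent.S1367.result hG N h.hN K U h.hKU h.hK1 Ns h.hNs h.hKst h.hKstH).2
      K le_rfl hprime
    have : M = Ns := h67.2 M h.hM (by rw [hCK]; exact h2.2.2.1)
    exact cfg_Ns_ne hG h this

end Cfsg.Agent.Lib.Helper77.BG159
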