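import Cfsg.Agent.Lib.Helper77.CentShape

set_option autoImplicit false
set_option linter.style.haveILetI false

/-! Element-level data describing an involution centralizer of shape `2^{1+4}_- : A5` in a group with
one class of involutions; the data is transported along isomorphisms and yields the structural
statement. -/

namespace Cfsg.Agent.Lib.Helper77.CentShape

/-- The data: an involution to which all involutions are conjugate, with centralizer of order at
most 1920 containing injective images of the extraspecial group and of the alternating group. -/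
def CentData (G : Type*) [Group G] : Prop :=
  ∃ t : G, orderOf t = 2 ∧ (∀ x : G, orderOf x = 2 → IsConj x t) ∧
    Nat.card (Subgroup.centralizer ({t} : Set G)) ≤ 1920 ∧
    ∃ (φ : E32 →* G) (ψ : alternatingGroup (Fin 5) →* G),
      Function.Injective φ ∧ Function.Injective ψ ∧ (∀ q, φ q * t = t * φ q) ∧
      (∀ x, ψ x * t = t * ψ x) ∧ ∀ x q, ∃ q', ψ x * φ q * (ψ x)⁻¹ = φ q'

theorem CentData.transport {G : Type*} {G' : Type*} [Group G] [Group G'] (e : G ≃* G')
    (hd : CentData G) : CentData G' := by
  obtain ⟨t, ht, hall, hcard, φ, ψ, hφ, hψ, hφt, hψt, hn⟩ := hd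
  refine ⟨e t, ?_, ?_, ?_, e.toMonoidHom.comp φ, e.toMonoidHom.comp ψ, ?_, ?_, ?_, ?_, ?_⟩
  · rw [MulEquiv.orderOf_eq e t, ht]
  · intro x hx
    have h1 : orderOf (e.symm x) = 2 := by rw [MulEquiv.orderOf_eq e.symm x, hx]
    have h2 := e.toMonoidHom.map_isConj (hall _ h1)
    simpa using h2
  · have : Nat.card (Subgroup.centralizer ({e t} : Set G')) =
        Nat.card (Subgroup.centralizer ({t} : Set G)) := by
      apply Nat.card_congr
      refine (Equiv.subtypeEquiv e.toEquiv ?_).symm
      intro g
      rw [Subgroup.mem_centralizer_singleton_iff, Subgroup.mem_centralizer_singleton_iff]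
      show g * t = t * g ↔ e g * e t = e t * e g
      rw [← map_mul, ← map_mul, e.injective.eq_iff]
    rw [this]
    exact hcard
  · exact e.injective.comp hφ
  · exact e.injective.comp hψ
  · intro q
    show e (φ q) * e t = e t * e (φ q)
    rw [← map_mul, ← map_mul, hφt]
  · intro x
    show e (ψ x) * e t = e t * e (ψ x)
    rw [← map_mul, ← map_mul, hψt]
  · intro x q
    obtain ⟨q', hq'⟩ := hn x q
    refine ⟨q', ?_⟩
    show e (ψ x) * e (φ q) * (e (ψ x))⁻¹ = e (φ q')
    rw [← map_inv, ← map_mul, ← map_mul, hq']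

theorem CentData.result {G : Type*} [Group G] [Finite G] (hd : CentData G) :
    (∀ x y : G, orderOf x = 2 → orderOf y = 2 → IsConj x y) ∧
    ∃ t : G, orderOf t = 2 ∧ ∃ (Q : Subgroup ↥(Subgroup.centralizer ({t} : Set G))) (_ : Q.Normal),
      Cfsg.IsExtraspecial 2 Q ∧ Nat.card Q = 32 ∧
      (∀ E : Subgroup Q, Cfsg.IsElementaryAbelian 2 E → Nat.card E ≤ 2 ^ 2) ∧
      (∃ H : Subgroup ↥(Subgroup.centralizer ({t} : Set G)), Q.IsComplement' H) ∧
      Nonempty (↥(Subgroup.centralizer ({t} : Set G)) ⧸ Q ≃* ↥(alternatingGroup (Fin 5))) := by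
  obtain ⟨t, ht, hall, hcard, φ, ψ, hφ, hψ, hφt, hψt, hn⟩ := hd
  refine ⟨fun x y hx hy => (hall x hx).trans (hall y hy).symm, t, ht, ?_⟩
  exact shape t hcard φ hφ hφt ψ hψ hψt hn

end Cfsg.Agent.Lib.Helper77.CentShape
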