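import Mathlib
import Cfsg.Prelude.Def_Transfer
import Cfsg.Agent.Lib.Helper44.ExtraCocycle
import Cfsg.Agent.Lib.Helper93.XSTransport

set_option autoImplicit false
set_option linter.style.haveILetI false

/-! An abstract recognition of an involution centralizer of shape `2^{1+4}_- : A5`: a centralizer of
order at most 1920 containing injective images of the extraspecial group of order 32 of minus type
and of the alternating group of degree 5, the second normalizing the first. -/

namespace Cfsg.Agent.Lib.Helper77.CentShape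

open Cfsg.Agent.Lib.Helper44

/-- The cocycle matrix of the extraspecial group of order 32 of minus type. -/
def Nm : Matrix (Fin 4) (Fin 4) (ZMod 2) := !![1, 1, 0, 0; 0, 1, 0, 0; 0, 0, 0, 1; 0, 0, 0, 0]

/-- The extraspecial group of order 32 of minus type. -/
abbrev E32 : Type := CExt Nm

theorem card_E32 : Nat.card E32 = 32 := by
  rw [CExt.card_eq]
  simp

theorem det_ne : (Nm + Nm.transpose).det ≠ 0 := by
  decide

theorem E32_extraspecial : Cfsg.IsExtraspecial 2 E32 := CExt.isExtraspecial Nm det_ne

/-- The quadratic form. -/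
def qf (u : Fin 4 → ZMod 2) : ZMod 2 := CExt.bf Nm u u

theorem qf_key : ∀ u v : Fin 4 → ZMod 2, u ≠ 0 → v ≠ 0 → u ≠ v →
    ¬ (qf u = 0 ∧ qf v = 0 ∧ qf (u + v) = 0) := by
  decide

theorem sq_c (a : E32) : (a ^ 2).c = qf a.v := by
  rw [pow_two, CExt.mul_c]
  unfold qf
  have : a.c + a.c = 0 := CharTwo.add_self_eq_zero _
  rw [this, zero_add]

theorem E32_elemAb (E : Subgroup E32) (hE : Cfsg.IsElementaryAbelian 2 E) : Nat.card E ≤ 4 := by
  classical
  obtain ⟨-, hsq⟩ := hE
  have hq : ∀ a ∈ E, qf a.v = 0 := by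
    intro a ha
    rw [← sq_c, hsq a ha]
    rfl
  set S : Set (Fin 4 → ZMod 2) := (fun a : E32 => a.v) '' (E : Set E32) with hS
  have key : ∀ x ∈ E, ∀ y ∈ E, x.v ≠ 0 → y.v ≠ 0 → x.v ≠ y.v → False := by
    intro x hx y hy hx0 hy0 hxy
    apply qf_key x.v y.v hx0 hy0 hxy
    refine ⟨hq x hx, hq y hy, ?_⟩
    have := hq (x * y) (E.mul_mem hx hy)
    rwa [CExt.mul_v] at this
  have hS2 : S.ncard ≤ 2 := by
    by_contra h3
    push Not at h3
    obtain ⟨u, v, w, hu, hv, hw, huv, huw, hvw⟩ := (Set.two_lt_ncard_iff (Set.toFinite S)).mp h3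
    obtain ⟨x, hx, rfl⟩ := hu
    obtain ⟨y, hy, rfl⟩ := hv
    obtain ⟨z, hz, rfl⟩ := hw
    simp only at huv huw hvw
    by_cases hx0 : x.v = 0
    · exact key y hy z hz (fun e => huv (hx0.trans e.symm)) (fun e => huw (hx0.trans e.symm)) hvw
    · by_cases hy0 : y.v = 0
      · exact key x hx z hz hx0 (fun e => hvw (hy0.trans e.symm)) huw
      · exact key x hx y hy hx0 hy0 huv
  let f : E → S × ZMod 2 := fun a => (⟨(a : E32).v, ⟨a, a.2, rfl⟩⟩, (a : E32).c)
  have hf : Function.Injective f := by
    intro a b hab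
    simp only [f, Prod.mk.injEq] at hab
    exact Subtype.ext (CExt.ext (congrArg Subtype.val hab.1) hab.2)
  have h1 : Nat.card E ≤ Nat.card (S × ZMod 2) := Nat.card_le_card_of_injective f hf
  rw [Nat.card_prod, Nat.card_coe_set_eq, Nat.card_zmod] at h1
  omega

section shape
variable {G : Type*} [Group G] [Finite G] (t : G)
  (hcard : Nat.card (Subgroup.centralizer ({t} : Set G)) ≤ 1920)
  (φ : E32 →* G) (hφ : Function.Injective φ) (hφt : ∀ q, φ q * t = t * φ q)
  (ψ : alternatingGroup (Fin 5) →* G) (hψ : Function.Injective ψ) (hψt : ∀ h, ψ h * t = t * ψ h)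
  (hnorm : ∀ h q, ∃ q', ψ h * φ q * (ψ h)⁻¹ = φ q')

/-- The first homomorphism into the centralizer. -/
def φC : E32 →* Subgroup.centralizer ({t} : Set G) :=
  φ.codRestrict _ (fun q => by
    rw [Subgroup.mem_centralizer_singleton_iff]
    exact (hφt q))

/-- The second homomorphism into the centralizer. -/
def ψC : alternatingGroup (Fin 5) →* Subgroup.centralizer ({t} : Set G) :=
  ψ.codRestrict _ (fun q => by
    rw [Subgroup.mem_centralizer_singleton_iff]
    exact (hψt q))

include hcard hφ hψ hnorm hφt hψt in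
theorem shape :
    ∃ (Q : Subgroup ↥(Subgroup.centralizer ({t} : Set G))) (_ : Q.Normal),
      Cfsg.IsExtraspecial 2 Q ∧ Nat.card Q = 32 ∧
      (∀ E : Subgroup Q, Cfsg.IsElementaryAbelian 2 E → Nat.card E ≤ 2 ^ 2) ∧
      (∃ H : Subgroup ↥(Subgroup.centralizer ({t} : Set G)), Q.IsComplement' H) ∧
      Nonempty (↥(Subgroup.centralizer ({t} : Set G)) ⧸ Q ≃* ↥(alternatingGroup (Fin 5))) := by
  classical
  set C := Subgroup.centralizer ({t} : Set G) with hC
  set f := φC t φ hφt with hf
  set g := ψC t ψ hψt with hg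
  have hfinj : Function.Injective f := by
    intro a b hab
    exact hφ (congrArg Subtype.val hab)
  have hginj : Function.Injective g := by
    intro a b hab
    exact hψ (congrArg Subtype.val hab)
  have hfg : ∀ h q, ∃ q', g h * f q * (g h)⁻¹ = f q' := by
    intro h q
    obtain ⟨q', e⟩ := hnorm h q
    exact ⟨q', Subtype.ext e⟩
  haveI : IsSimpleGroup (alternatingGroup (Fin 5)) := alternatingGroup.isSimpleGroup (by simp)
  have hcA : Nat.card (alternatingGroup (Fin 5)) = 60 := by
    rw [nat_card_alternatingGroup]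
    simp [Nat.factorial]
  -- the elements of A5 mapped into the image of `f`
  let K' : Subgroup (alternatingGroup (Fin 5)) := f.range.comap g
  have hK'n : K'.Normal := by
    constructor
    intro n hn x
    rw [Subgroup.mem_comap] at hn ⊢
    obtain ⟨q, hq⟩ := hn
    obtain ⟨q', e⟩ := hfg x q
    refine ⟨q', ?_⟩
    rw [map_mul, map_mul, map_inv, ← hq, e]
  have hK' : K' = ⊥ := by
    rcases hK'n.eq_bot_or_eq_top with h | h
    · exact h
    · exfalso
      -- then A5 embeds into E32
      have hle : ∀ x, g x ∈ f.range := by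
        intro x
        have : x ∈ K' := by rw [h]; exact Subgroup.mem_top x
        exact this
      have : Nat.card (alternatingGroup (Fin 5)) ≤ Nat.card f.range :=
        Nat.card_le_card_of_injective (fun x => (⟨g x, hle x⟩ : f.range))
          (fun a b hab => hginj (congrArg Subtype.val hab))
      rw [hcA, ← Nat.card_congr (MonoidHom.ofInjective hfinj).toEquiv, card_E32] at this
      omega
  have hdisj : ∀ q h, f q = g h → q = 1 ∧ h = 1 := by
    intro q h e
    have hh : h ∈ K' := ⟨q, e⟩
    rw [hK', Subgroup.mem_bot] at hh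
    subst hh
    rw [map_one] at e
    exact ⟨(map_eq_one_iff f hfinj).mp e, rfl⟩
  -- the product map
  let m : E32 × alternatingGroup (Fin 5) → C := fun p => f p.1 * g p.2
  have hm : Function.Injective m := by
    rintro ⟨q, h⟩ ⟨q', h'⟩ e
    simp only [m] at e
    have e2 : f (q'⁻¹ * q) = g (h' * h⁻¹) := by
      rw [map_mul, map_mul, map_inv, map_inv]
      calc (f q')⁻¹ * f q = (f q')⁻¹ * (f q * g h) * (g h)⁻¹ := by group
        _ = (f q')⁻¹ * (f q' * g h') * (g h)⁻¹ := by rw [e]
        _ = g h' * (g h)⁻¹ := by group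
    obtain ⟨h1, h2⟩ := hdisj _ _ e2
    have e3 : q = q' := by
      have : q' * (q'⁻¹ * q) = q' * 1 := by rw [h1]
      simpa using this
    have e4 : h' = h := by
      have : h' * h⁻¹ * h = 1 * h := by rw [h2]
      simpa using this
    rw [e3, e4]
  have hcardprod : Nat.card (E32 × alternatingGroup (Fin 5)) = 1920 := by
    rw [Nat.card_prod, card_E32, hcA]
  have hge : 1920 ≤ Nat.card C := by
    rw [← hcardprod]
    exact Nat.card_le_card_of_injective m hm
  have hCcard : Nat.card C = 1920 := le_antisymm hcard hge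
  have hmbij : Function.Bijective m := by
    rw [Nat.bijective_iff_injective_and_card]
    exact ⟨hm, by rw [hcardprod, hCcard]⟩
  -- the normal subgroup
  have hQn : f.range.Normal := by
    constructor
    intro n hn c
    obtain ⟨⟨q0, h0⟩, rfl⟩ := hmbij.2 c
    obtain ⟨q, rfl⟩ := hn
    simp only [m]
    obtain ⟨q', e⟩ := hfg h0 q
    refine ⟨q0 * q' * q0⁻¹, ?_⟩
    rw [map_mul, map_mul, map_inv, ← e]
    group
  have hQcard : Nat.card f.range = 32 := by
    rw [← Nat.card_congr (MonoidHom.ofInjective hfinj).toEquiv, card_E32]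
  have hHcard : Nat.card g.range = 60 := by
    rw [← Nat.card_congr (MonoidHom.ofInjective hginj).toEquiv, hcA]
  refine ⟨f.range, hQn, ?_, hQcard, ?_, ⟨g.range, ?_⟩, ?_⟩
  · exact Cfsg.Agent.Lib.Helper93.isExtraspecial_of_mulEquiv (MonoidHom.ofInjective hfinj)
      E32_extraspecial
  · intro E hE
    let e : E32 ≃* f.range := MonoidHom.ofInjective hfinj
    let E' : Subgroup E32 := E.map e.symm.toMonoidHom
    have hE' : Cfsg.IsElementaryAbelian 2 E' := by
      obtain ⟨hcomm, hsq⟩ := hE
      constructor
      · constructor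
        constructor
        rintro ⟨a, ha⟩ ⟨b, hb⟩
        obtain ⟨x, hx, rfl⟩ := ha
        obtain ⟨y, hy, rfl⟩ := hb
        apply Subtype.ext
        show e.symm x * e.symm y = e.symm y * e.symm x
        rw [← map_mul, ← map_mul]
        congr 1
        have := hcomm.is_comm.comm (⟨x, hx⟩ : E) ⟨y, hy⟩
        exact congrArg Subtype.val this
      · rintro a ⟨x, hx, rfl⟩
        show e.symm x ^ 2 = 1
        rw [← map_pow, hsq x hx, map_one]
    have h4 := E32_elemAb E' hE'
    have hc : Nat.card E' = Nat.card E :=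
      Subgroup.card_map_of_injective e.symm.injective
    rw [hc] at h4
    norm_num
    exact h4
  · apply Subgroup.isComplement'_of_card_mul_and_disjoint
    · rw [hQcard, hHcard, hCcard]
    · rw [Subgroup.disjoint_def]
      rintro x ⟨q, rfl⟩ ⟨h, e⟩
      obtain ⟨h1, -⟩ := hdisj q h e.symm
      rw [h1, map_one]
  · haveI := hQn
    let ρ : alternatingGroup (Fin 5) →* C ⧸ f.range := (QuotientGroup.mk' f.range).comp g
    have hρ : Function.Injective ρ := by
      rw [injective_iff_map_eq_one]
      intro x hx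
      have : g x ∈ f.range := by
        rw [← QuotientGroup.eq_one_iff]
        exact hx
      have hh : x ∈ K' := this
      rw [hK', Subgroup.mem_bot] at hh
      exact hh
    have hqc : Nat.card (C ⧸ f.range) = 60 := by
      have h1 := Subgroup.card_eq_card_quotient_mul_card_subgroup f.range
      rw [hCcard, hQcard] at h1
      exact Nat.eq_of_mul_eq_mul_right (by norm_num : 0 < 32) (h1.symm.trans (by norm_num))
    have hρb : Function.Bijective ρ := by
      rw [Nat.bijective_iff_injective_and_card]
      exact ⟨hρ, by rw [hcA, hqc]⟩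
    exact ⟨(MulEquiv.ofBijective ρ hρb).symm⟩

end shape

end Cfsg.Agent.Lib.Helper77.CentShape
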