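import Mathlib
import Cfsg.Agent.Lib.Helper83.GSDefs

/-!
# K-GS leaf G0 (keystone 484004, S4840, architect helper83)
-/

set_option autoImplicit false

namespace Cfsg.Agent.Lib.Helper77.GS

open Cfsg.Agent.Lib.Helper83.GS (Good)

universe u

variable {Γ V : Type u} [Group Γ] [Finite Γ] [CommGroup V] [Finite V]

omit [Finite Γ] in
/-- G0 (EASY): if every `p`-element centralizes `R` then `Good p R` (`K := ⊤`). -/
theorem good_of_centralizes (p : ℕ) [Fact p.Prime] (R : Subgroup Γ)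
    (h : ∀ x : Γ, (∃ k : ℕ, x ^ (p ^ k) = 1) → x ∈ Subgroup.centralizer (R : Set Γ)) : Good p R := by
  refine ⟨⟨⊤, inferInstance, ⟨0, by simp⟩, fun x _ hx => h x hx⟩, fun P x hx y hy => ?_⟩
  have hxp : ∃ k : ℕ, x ^ (p ^ k) = 1 := by
    obtain ⟨k, hk⟩ := P.isPGroup' ⟨x, hx⟩
    exact ⟨k, by simpa using congrArg Subtype.val hk⟩
  have hyp : ∃ k : ℕ, y ^ (p ^ k) = 1 := by
    obtain ⟨k, hk⟩ := P.isPGroup' ⟨y, hy⟩
    exact ⟨k, by simpa using congrArg Subtype.val hk⟩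
  have hxc := h x hxp
  have hyc := h y hyp
  exact Subgroup.mul_mem _ (Subgroup.mul_mem _ (Subgroup.mul_mem _ hxc hyc) (Subgroup.inv_mem _ hxc))
    (Subgroup.inv_mem _ hyc)

end Cfsg.Agent.Lib.Helper77.GS
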