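import Mathlib
import Cfsg.Agent.Lib.Helper83.GSDefs

/-!
# K-GS leaf G2 (keystone 484006, S4840, architect helper83): elements of odd order centralize a normal
generalized quaternion subgroup of order at least 16
-/

set_option autoImplicit false

namespace Cfsg.Agent.Lib.Helper77.GS

open QuaternionGroup

theorem g2_a_pow {N : ℕ} (k : ZMod (2 * N)) (v : ℕ) :
    (a k : QuaternionGroup N) ^ v = a ((v : ZMod (2 * N)) * k) := by
  induction v with
  | zero => rw [pow_zero, Nat.cast_zero, zero_mul, a_zero]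
  | succ v ih =>
    rw [pow_succ, ih, a_mul_a]
    congr 1
    push_cast
    ring

/-- an automorphism of odd order of `Q_{4N}`, `N = 2^n ≥ 4`, is trivial -/
theorem g2_aut_eq_one (n : ℕ) (hn : 2 ≤ n) (ψ : MulAut (QuaternionGroup (2 ^ n))) (t : ℕ)
    (ht : Odd t) (hψ : ψ ^ t = 1) : ψ = 1 := by
  have hN : NeZero (2 ^ n) := ⟨by positivity⟩
  have hN4 : 4 ≤ 2 ^ n := by
    calc 4 = 2 ^ 2 := by norm_num
      _ ≤ 2 ^ n := Nat.pow_le_pow_right (by norm_num) hn
  have h2N : 2 * 2 ^ n = 2 ^ (n + 1) := by rw [pow_succ]; ring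
  have hNZ : NeZero (2 * 2 ^ n) := ⟨by positivity⟩
  -- the image of `a 1`
  obtain ⟨k, hk⟩ : ∃ k, ψ (a 1) = a k := by
    cases h : ψ (a 1) with
    | a k => exact ⟨k, rfl⟩
    | xa j =>
      exfalso
      have h1 : orderOf (ψ (a 1)) = orderOf (a 1 : QuaternionGroup (2 ^ n)) := MulEquiv.orderOf_eq ψ _
      rw [h, orderOf_xa, orderOf_a_one] at h1
      omega
  have hai : ∀ i : ZMod (2 * 2 ^ n), ψ (a i) = a (i * k) := by
    intro i
    have h1 : (a i : QuaternionGroup (2 ^ n)) = (a 1) ^ i.val := by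
      rw [a_one_pow, ZMod.natCast_zmod_val]
    rw [h1, map_pow, hk, g2_a_pow, ZMod.natCast_zmod_val]
  have hiter : ∀ s : ℕ, ∀ i : ZMod (2 * 2 ^ n), (ψ ^ s) (a i) = a (i * k ^ s) := by
    intro s
    induction s with
    | zero => intro i; simp
    | succ s ih =>
      intro i
      rw [pow_succ', MulAut.mul_apply, ih, hai]
      congr 1
      ring
  have hkt : k ^ t = 1 := by
    have h1 := hiter t 1
    rw [hψ, MulAut.one_apply, one_mul] at h1
    exact (QuaternionGroup.a.injEq _ _ ▸ h1.symm : k ^ t = 1)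
  have hk1 : k = 1 := by
    have htpos : 0 < t := ht.pos
    have hu : IsUnit k := by
      refine IsUnit.of_mul_eq_one (k ^ (t - 1)) ?_
      have h0 : k * k ^ (t - 1) = k ^ (t - 1 + 1) := (pow_succ' k (t - 1)).symm
      rw [h0, Nat.sub_add_cancel htpos]
      exact hkt
    obtain ⟨u, rfl⟩ := hu
    have hut : u ^ t = 1 := by
      apply Units.ext
      rw [Units.val_pow_eq_pow_val, hkt, Units.val_one]
    have ho1 : orderOf u ∣ t := orderOf_dvd_of_pow_eq_one hut
    have ho2 : orderOf u ∣ 2 ^ n := by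
      have hc : Fintype.card (ZMod (2 * 2 ^ n))ˣ = 2 ^ n := by
        rw [ZMod.card_units_eq_totient, h2N, Nat.totient_prime_pow Nat.prime_two (Nat.succ_pos n)]
        simp
      have h0 : orderOf u ∣ Fintype.card (ZMod (2 * 2 ^ n))ˣ := orderOf_dvd_card
      rwa [hc] at h0
    have ho : orderOf u = 1 := by
      have hcop : Nat.Coprime t (2 ^ n) := Nat.Coprime.pow_right n (Nat.coprime_two_right.mpr ht)
      exact Nat.eq_one_of_dvd_coprimes hcop ho1 ho2
    rw [orderOf_eq_one_iff.mp ho, Units.val_one]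
  subst hk1
  have hai' : ∀ i : ZMod (2 * 2 ^ n), ψ (a i) = a i := by
    intro i; rw [hai, mul_one]
  -- the image of `xa 0`
  obtain ⟨j, hj⟩ : ∃ j, ψ (xa 0) = xa j := by
    cases h : ψ (xa 0) with
    | xa j => exact ⟨j, rfl⟩
    | a i =>
      exfalso
      rw [← hai' i] at h
      have := ψ.injective h
      exact absurd this (by intro h0; cases h0)
  have hxi : ∀ i : ZMod (2 * 2 ^ n), ψ (xa i) = xa (j + i) := by
    intro i
    have h1 : (xa i : QuaternionGroup (2 ^ n)) = xa 0 * a i := by rw [xa_mul_a, zero_add]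
    rw [h1, map_mul, hj, hai', xa_mul_a]
  have hxiter : ∀ s : ℕ, (ψ ^ s) (xa 0) = xa ((s : ZMod (2 * 2 ^ n)) * j) := by
    intro s
    induction s with
    | zero => simp
    | succ s ih =>
      rw [pow_succ', MulAut.mul_apply, ih, hxi]
      congr 1
      push_cast
      ring
  have hj0 : j = 0 := by
    have h1 := hxiter t
    rw [hψ, MulAut.one_apply] at h1
    have h2 : (t : ZMod (2 * 2 ^ n)) * j = 0 := (QuaternionGroup.xa.injEq _ _ ▸ h1.symm)
    have hcop : Nat.Coprime t (2 * 2 ^ n) := by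
      rw [h2N]
      exact Nat.Coprime.pow_right (n + 1) (Nat.coprime_two_right.mpr ht)
    have hu : IsUnit (t : ZMod (2 * 2 ^ n)) := (ZMod.isUnit_iff_coprime t (2 * 2 ^ n)).mpr hcop
    exact (hu.mul_right_eq_zero).mp h2
  subst hj0
  apply MulEquiv.ext
  intro g
  cases g with
  | a i => rw [hai', MulAut.one_apply]
  | xa i => rw [hxi, zero_add, MulAut.one_apply]

/-- G2 without finiteness of the ambient group -/
theorem centralizes_of_quaternion_big' {Γ : Type*} [Group Γ] (R : Subgroup Γ) [R.Normal] (n : ℕ) (hn : 2 ≤ n)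
    (e : R ≃* QuaternionGroup (2 ^ n)) (x : Γ) (hx : Odd (orderOf x)) :
    x ∈ Subgroup.centralizer (R : Set Γ) := by
  have h1 : (MulAut.congr e (MulAut.conjNormal x : MulAut R)) ^ orderOf x = 1 := by
    rw [← map_pow, ← map_pow, pow_orderOf_eq_one, map_one, map_one]
  have h2 := g2_aut_eq_one n hn _ _ hx h1
  have h3 : (MulAut.conjNormal x : MulAut R) = 1 :=
    (MulAut.congr e).injective (h2.trans (map_one _).symm)
  rw [Subgroup.mem_centralizer_iff]
  intro r hr
  have h4 := congrArg (fun f : MulAut R => ((f ⟨r, hr⟩ : R) : Γ)) h3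
  simp only [MulAut.conjNormal_apply, MulAut.one_apply] at h4
  -- h4 : x * r * x⁻¹ = r
  exact (mul_inv_eq_iff_eq_mul.mp h4).symm

universe u

variable {Γ V : Type u} [Group Γ] [Finite Γ] [CommGroup V] [Finite V]

/-- **G2 (484006)**, exact spec signature -/
theorem centralizes_of_quaternion_big (R : Subgroup Γ) [R.Normal] (n : ℕ) (hn : 2 ≤ n)
    (e : R ≃* QuaternionGroup (2 ^ n)) (x : Γ) (hx : Odd (orderOf x)) :
    x ∈ Subgroup.centralizer (R : Set Γ) :=
  centralizes_of_quaternion_big' R n hn e x hx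

end Cfsg.Agent.Lib.Helper77.GS
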