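import Mathlib

/-!
# `ℋ`-subgroups

A subgroup `F` of `G` is an `ℋ`-subgroup when `F^g ∩ N_G(F) ≤ F` for all `g`.
Basic facts: normal subgroups are `ℋ`-subgroups; an `ℋ`-subgroup contained in a normal
`p`-subgroup is normal; restriction to subgroups; images modulo normal `p'`-subgroups.
-/

set_option autoImplicit false

namespace Cfsg.Agent.Lib.Helper77

open Subgroup

variable {G : Type*} [Group G]

/-- `F` is an `ℋ`-subgroup of `G`. -/
def HSub (F : Subgroup G) : Prop :=
  ∀ g : G, F.map (MulAut.conj g).toMonoidHom ⊓ Subgroup.normalizer (F : Set G) ≤ F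

theorem hSub_iff (F : Subgroup G) :
    HSub F ↔ ∀ g : G, ∀ f ∈ F, g * f * g⁻¹ ∈ Subgroup.normalizer (F : Set G) → g * f * g⁻¹ ∈ F := by
  constructor
  · intro h g f hf hn
    apply h g
    refine ⟨?_, hn⟩
    exact ⟨f, hf, by simp [MulAut.conj_apply]⟩
  · intro h g x hx
    obtain ⟨⟨f, hf, hfx⟩, hn⟩ := hx
    have hfx' : g * f * g⁻¹ = x := by simpa [MulAut.conj_apply] using hfx
    rw [← hfx'] at hn ⊢
    exact h g f hf hn

theorem HSub.of_normal {F : Subgroup G} (h : F.Normal) : HSub F := by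
  rw [hSub_iff]
  intro g f hf _
  exact h.conj_mem f hf g

theorem mem_normalizer_of_conj_mem' [Finite G] {H : Subgroup G} {g : G}
    (h : ∀ x ∈ H, g * x * g⁻¹ ∈ H) : g ∈ Subgroup.normalizer (H : Set G) := by
  rw [Subgroup.mem_normalizer_iff]
  intro x
  refine ⟨h x, fun hx => ?_⟩
  -- conjugation by `g` is an injective self-map of the finite set `H`, hence surjective
  let φ : ↥H → ↥H := fun y => ⟨g * y * g⁻¹, h y y.2⟩
  have hinj : Function.Injective φ := by
    intro a b hab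
    have h1 : g * (a : G) * g⁻¹ = g * (b : G) * g⁻¹ := congrArg Subtype.val hab
    apply Subtype.ext
    have h2 : (a : G) = g⁻¹ * (g * (a : G) * g⁻¹) * g := by group
    rw [h2, h1]; group
  have hsurj : Function.Surjective φ := Finite.surjective_of_injective hinj
  obtain ⟨y, hy⟩ := hsurj ⟨g * x * g⁻¹, hx⟩
  have h1 : g * (y : G) * g⁻¹ = g * x * g⁻¹ := congrArg Subtype.val hy
  have h2 : x = (y : G) := by
    have h3 : x = g⁻¹ * (g * x * g⁻¹) * g := by group
    rw [h3, ← h1]; group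
  rw [h2]; exact y.2

/-- An `ℋ`-subgroup contained in a normal `p`-subgroup is normal. -/
theorem HSub.normal_of_le_normal_pgroup [Finite G] {p : ℕ} [Fact p.Prime] {F Q : Subgroup G}
    (hF : HSub F) (hFQ : F ≤ Q) [hQ : Q.Normal] (hQp : IsPGroup p Q) : F.Normal := by
  rw [hSub_iff] at hF
  have hQN : Q ≤ Subgroup.normalizer (F : Set G) := by
    by_contra hcon
    set T : Subgroup G := Subgroup.normalizer (F : Set G) ⊓ Q with hT
    have hTQ : T ≤ Q := inf_le_right
    have hFT : F ≤ T := le_inf Subgroup.le_normalizer hFQ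
    have hT' : T.subgroupOf Q < ⊤ := by
      rw [lt_top_iff_ne_top]
      intro h
      rw [Subgroup.subgroupOf_eq_top] at h
      exact hcon (h.trans inf_le_left)
    haveI : Group.IsNilpotent ↥Q := hQp.isNilpotent
    have hnc := Group.normalizerCondition_of_isNilpotent (G := ↥Q) (T.subgroupOf Q) hT'
    obtain ⟨x', hx'N, hx'T⟩ := SetLike.exists_of_lt hnc
    have hxT : ∀ t ∈ T, (x' : G) * t * (x' : G)⁻¹ ∈ T := by
      intro t ht
      have h1 := (Subgroup.mem_normalizer_iff.mp hx'N ⟨t, hTQ ht⟩).mp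
        (by rw [Subgroup.mem_subgroupOf]; exact ht)
      rw [Subgroup.mem_subgroupOf] at h1
      simpa using h1
    have hxF : ∀ f ∈ F, (x' : G) * f * (x' : G)⁻¹ ∈ F := by
      intro f hf
      exact hF (x' : G) f hf (hxT f (hFT hf)).1
    have hxN : (x' : G) ∈ Subgroup.normalizer (F : Set G) := mem_normalizer_of_conj_mem' hxF
    apply hx'T
    rw [Subgroup.mem_subgroupOf]
    exact ⟨hxN, x'.2⟩
  refine ⟨fun f hf g => ?_⟩
  exact hF g f hf (hQN (hQ.conj_mem f (hFQ hf) g))

/-- Restriction of the `ℋ`-property to a subgroup. -/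
theorem hSub_of_map_subtype (Y : Subgroup G) (E' : Subgroup ↥Y) (h : HSub (E'.map Y.subtype)) :
    HSub E' := by
  rw [hSub_iff] at h ⊢
  intro g f hf hn
  have hx : ((g * f * g⁻¹ : ↥Y) : G) = (g : G) * (f : G) * (g : G)⁻¹ := by simp
  have hmem : ∀ y : ↥Y, (y : G) ∈ E'.map Y.subtype ↔ y ∈ E' := by
    intro y
    constructor
    · rintro ⟨z, hz, hzy⟩
      have : z = y := Subtype.ext hzy
      rwa [← this]
    · intro hy; exact ⟨y, hy, rfl⟩
  have h1 : (g : G) * (f : G) * (g : G)⁻¹ ∈ Subgroup.normalizer ((E'.map Y.subtype : Subgroup G) : Set G) := by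
    rw [← hx]
    set x : ↥Y := g * f * g⁻¹ with hxdef
    rw [Subgroup.mem_normalizer_iff]
    intro k
    constructor
    · rintro ⟨k', hk', rfl⟩
      have := (Subgroup.mem_normalizer_iff.mp hn k').mp hk'
      exact ⟨_, this, by simp⟩
    · rintro ⟨m', hm', hm⟩
      have hk : k = ((x⁻¹ * m' * x : ↥Y) : G) := by
        have : k = (x : G)⁻¹ * ((x : G) * k * (x : G)⁻¹) * (x : G) := by group
        rw [this, ← hm]; simp
      rw [hk, hmem]
      have hxinv : x⁻¹ ∈ Subgroup.normalizer ((E' : Subgroup ↥Y) : Set ↥Y) := Subgroup.inv_mem _ hn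
      have := (Subgroup.mem_normalizer_iff.mp hxinv m').mp hm'
      simpa using this
  have h2 := h (g : G) (f : G) ((hmem f).mpr hf) h1
  rw [← hx, hmem] at h2
  exact h2

theorem card_mul_relIndex' {H K : Subgroup G} (h : H ≤ K) :
    Nat.card H * H.relIndex K = Nat.card K := by
  have := Subgroup.relIndex_mul_relIndex (⊥ : Subgroup G) H K bot_le h
  rwa [Subgroup.relIndex_bot_left, Subgroup.relIndex_bot_left] at this

/-- In `A N` (`A` a `p`-group, `N` a normal `p'`-group) every `p`-subgroup is conjugate into `A`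
by an element of `N`. -/
theorem exists_conj_le_of_le_sup [Finite G] {p : ℕ} [Fact p.Prime] (A N R : Subgroup G)
    [hN : N.Normal] (hA : IsPGroup p A) (hNp : (Nat.card N).Coprime p) (hR : IsPGroup p R)
    (hRK : R ≤ N ⊔ A) : ∃ n ∈ N, ∀ r ∈ R, n⁻¹ * r * n ∈ A := by
  have hp : p.Prime := Fact.out
  set K : Subgroup G := N ⊔ A with hK
  have hAK : A ≤ K := le_sup_right
  have hNK : N ≤ K := le_sup_left
  -- the index of `A` in `K` is prime to `p`
  have hidx : ¬ p ∣ A.relIndex K := by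
    have h1 := card_mul_relIndex' hAK
    have h2 := card_mul_relIndex' hNK
    have h3 : N.relIndex K = N.relIndex A := Subgroup.relIndex_sup_left A N
    have h4 : N.relIndex A ∣ Nat.card A := Subgroup.relIndex_dvd_card N A
    have h5 : Nat.card A * A.relIndex K ∣ Nat.card A * Nat.card N := by
      rw [h1, ← h2, h3, mul_comm (Nat.card A)]
      exact Nat.mul_dvd_mul_left _ h4
    have h6 : A.relIndex K ∣ Nat.card N := Nat.dvd_of_mul_dvd_mul_left Nat.card_pos h5
    intro hdvd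
    have := Nat.Coprime.eq_one_of_dvd hNp.symm (hdvd.trans h6)
    exact hp.one_lt.ne' this
  have hA' : IsPGroup p ↥(A.subgroupOf K) := hA.comap_subtype
  let SA : Sylow p ↥K := hA'.toSylow hidx
  have hSA : (SA : Subgroup ↥K) = A.subgroupOf K := rfl
  have hR' : IsPGroup p ↥(R.subgroupOf K) := hR.comap_subtype
  obtain ⟨S, hS⟩ := hR'.exists_le_sylow
  obtain ⟨k, hk⟩ := MulAction.exists_smul_eq ↥K SA S
  obtain ⟨n, hn, a, ha, hna⟩ := (Subgroup.mem_sup_of_normal_left (s := N) (t := A)).mp k.2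
  refine ⟨n, hn, fun r hr => ?_⟩
  have hrS : (⟨r, hRK hr⟩ : ↥K) ∈ (S : Subgroup ↥K) := hS (by
    rw [Subgroup.mem_subgroupOf]; exact hr)
  rw [← hk, Sylow.coe_subgroup_smul, Subgroup.mem_smul_pointwise_iff_exists] at hrS
  obtain ⟨s, hs, hsr⟩ := hrS
  rw [MulAut.smul_def, MulAut.conj_apply] at hsr
  rw [hSA, Subgroup.mem_subgroupOf] at hs
  have hsr' : (k : G) * (s : G) * (k : G)⁻¹ = r := by
    have := congrArg Subtype.val hsr
    simpa using this
  have h1 : n⁻¹ * r * n = a * (s : G) * a⁻¹ := by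
    rw [← hsr', ← hna]; group
  rw [h1]
  exact A.mul_mem (A.mul_mem ha hs) (A.inv_mem ha)

/-- The image of an `ℋ`-subgroup which is a `p`-group modulo a normal `p'`-subgroup is an
`ℋ`-subgroup. -/
theorem HSub.map_mk [Finite G] {p : ℕ} [Fact p.Prime] {F : Subgroup G} (hF : HSub F)
    (hFp : IsPGroup p F) (N : Subgroup G) [hN : N.Normal] (hNp : (Nat.card N).Coprime p) :
    HSub (F.map (QuotientGroup.mk' N)) := by
  have hp : p.Prime := Fact.out
  rw [hSub_iff] at hF ⊢
  intro gb fb hfb hn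
  obtain ⟨g, rfl⟩ := QuotientGroup.mk'_surjective N gb
  obtain ⟨f, hf, rfl⟩ := hfb
  set x : G := g * f * g⁻¹ with hx
  have hxb : QuotientGroup.mk' N g * QuotientGroup.mk' N f * (QuotientGroup.mk' N g)⁻¹ =
      QuotientGroup.mk' N x := by simp [hx]
  rw [hxb] at hn ⊢
  -- `x` normalizes `N F`
  have hxK : ∀ h ∈ N ⊔ F, x * h * x⁻¹ ∈ N ⊔ F := by
    intro h hh
    have h1 : QuotientGroup.mk' N h ∈ F.map (QuotientGroup.mk' N) := by
      rw [← Subgroup.mem_comap, QuotientGroup.comap_map_mk']; exact hh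
    have h2 := (Subgroup.mem_normalizer_iff.mp hn _).mp h1
    rw [← map_mul, ← map_inv, ← map_mul, ← Subgroup.mem_comap, QuotientGroup.comap_map_mk'] at h2
    exact h2
  -- the conjugate `x F x⁻¹` lies in `N F`, hence is `n F n⁻¹`
  set R : Subgroup G := F.map (MulAut.conj x).toMonoidHom with hRdef
  have hRp : IsPGroup p R := hFp.map _
  have hRK : R ≤ N ⊔ F := by
    rintro _ ⟨f', hf', rfl⟩
    have : (MulAut.conj x).toMonoidHom f' = x * f' * x⁻¹ := by simp [MulAut.conj_apply]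
    rw [this]
    exact hxK f' (Subgroup.mem_sup_right hf')
  obtain ⟨n, hnN, hnR⟩ := exists_conj_le_of_le_sup F N R hFp hNp hRp hRK
  set y : G := n⁻¹ * x with hy
  have hyN : y ∈ Subgroup.normalizer (F : Set G) := by
    apply mem_normalizer_of_conj_mem'
    intro f' hf'
    have h1 := hnR (x * f' * x⁻¹) ⟨f', hf', by simp [MulAut.conj_apply]⟩
    have h2 : y * f' * y⁻¹ = n⁻¹ * (x * f' * x⁻¹) * n := by rw [hy]; group
    rw [h2]; exact h1
  have hyb : QuotientGroup.mk' N y = QuotientGroup.mk' N x := by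
    rw [hy, map_mul, map_inv]
    have : QuotientGroup.mk' N n = 1 := (QuotientGroup.eq_one_iff n).mpr hnN
    rw [this, inv_one, one_mul]
  -- `x` is a `p`-element
  obtain ⟨c, hc⟩ := hFp ⟨f, hf⟩
  have hfc : f ^ p ^ c = 1 := by
    have := congrArg Subtype.val hc
    simpa using this
  have hxc : x ^ p ^ c = 1 := by rw [hx, conj_pow, hfc]; group
  have hxbc : (QuotientGroup.mk' N x) ^ p ^ c = 1 := by rw [← map_pow, hxc, map_one]
  -- the `p`-part `z` of `y`
  obtain ⟨e, m, hm, hoy⟩ := Nat.exists_eq_pow_mul_and_not_dvd (orderOf_pos y).ne' p hp.ne_one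
  have hcop : m.Coprime (orderOf (QuotientGroup.mk' N x)) := by
    have h1 : orderOf (QuotientGroup.mk' N x) ∣ p ^ c := orderOf_dvd_of_pow_eq_one hxbc
    have h2 : m.Coprime (p ^ c) :=
      Nat.Coprime.pow_right _ ((Nat.Prime.coprime_iff_not_dvd hp).mpr hm).symm
    exact Nat.Coprime.coprime_dvd_right h1 h2
  obtain ⟨k, hk⟩ := exists_pow_eq_self_of_coprime hcop
  set z : G := (y ^ m) ^ k with hz
  have hzb : QuotientGroup.mk' N z = QuotientGroup.mk' N x := by
    rw [hz, map_pow, map_pow, hyb, hk]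
  have hzN : z ∈ Subgroup.normalizer (F : Set G) :=
    Subgroup.pow_mem _ (Subgroup.pow_mem _ hyN m) k
  have hzp : z ^ p ^ e = 1 := by
    rw [hz, ← pow_mul, ← pow_mul]
    have h1 : m * (k * p ^ e) = orderOf y * k := by rw [hoy]; ring
    rw [h1, pow_mul, pow_orderOf_eq_one, one_pow]
  -- `z` lies in `N F^g`
  set Fg : Subgroup G := F.map (MulAut.conj g).toMonoidHom with hFg
  have hFgp : IsPGroup p Fg := hFp.map _
  have hxFg : x ∈ Fg := ⟨f, hf, by simp [MulAut.conj_apply, hx]⟩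
  have hyK : y ∈ N ⊔ Fg :=
    Subgroup.mul_mem _ (Subgroup.mem_sup_left (N.inv_mem hnN)) (Subgroup.mem_sup_right hxFg)
  have hzK : z ∈ N ⊔ Fg := Subgroup.pow_mem _ (Subgroup.pow_mem _ hyK m) k
  have hZp : IsPGroup p (Subgroup.zpowers z) := by
    apply IsPGroup.of_card (n := (Nat.factorization (orderOf z)) p)
    rw [Nat.card_zpowers]
    have h1 : orderOf z ∣ p ^ e := orderOf_dvd_of_pow_eq_one hzp
    obtain ⟨j, -, hj⟩ := (Nat.dvd_prime_pow hp).mp h1
    rw [hj, hp.factorization_pow]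
    simp
  obtain ⟨n₂, hn₂, hn₂z⟩ := exists_conj_le_of_le_sup Fg N (Subgroup.zpowers z) hFgp hNp hZp
    (by rw [Subgroup.zpowers_le]; exact hzK)
  obtain ⟨f₂, hf₂, hf₂z⟩ := hn₂z z (Subgroup.mem_zpowers z)
  have hf₂z' : g * f₂ * g⁻¹ = n₂⁻¹ * z * n₂ := by simpa [MulAut.conj_apply] using hf₂z
  have hzeq : z = (n₂ * g) * f₂ * (n₂ * g)⁻¹ := by
    have : z = n₂ * (n₂⁻¹ * z * n₂) * n₂⁻¹ := by group
    rw [this, ← hf₂z']; group
  have hzF : z ∈ F := by
    have h1 := hF (n₂ * g) f₂ hf₂ (by rw [← hzeq]; exact hzN)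
    rwa [← hzeq] at h1
  rw [← hzb]
  exact ⟨z, hzF, rfl⟩

end Cfsg.Agent.Lib.Helper77
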