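import Mathlib

set_option autoImplicit false
set_option linter.style.haveILetI false

/-! A form of the Iwasawa criterion: a perfect group with a maximal subgroup `K` normalizing a
commutative subgroup `A` whose conjugates generate the group, such that the normal subgroups
inside `K` are central, is simple modulo its centre. -/

namespace Cfsg.Agent.Lib.Helper77

theorem normal_eq_top_of_iwasawa {G : Type*} [Group G] (K A : Subgroup G) (hK : IsCoatom K)
    (hA : IsMulCommutative A) (hnorm : ∀ k ∈ K, ∀ a ∈ A, k * a * k⁻¹ ∈ A)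
    (hgen : Subgroup.normalClosure (A : Set G) = ⊤) (hperf : commutator G = ⊤)
    (N : Subgroup G) [hN : N.Normal] (hNK : ¬ N ≤ K) : N = ⊤ := by
  have hNK' : N ⊔ K = ⊤ := by
    by_contra hne
    have hlt : K < N ⊔ K :=
      lt_of_le_of_ne le_sup_right (fun e => hNK (by rw [e]; exact le_sup_left))
    exact hne (hK.2 _ hlt)
  have hNA : N ⊔ A = ⊤ := by
    rw [eq_top_iff, ← hgen]
    unfold Subgroup.normalClosure
    rw [Subgroup.closure_le]
    intro x hx
    obtain ⟨a, ha, hconj⟩ := Group.mem_conjugatesOfSet_iff.mp hx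
    obtain ⟨g, rfl⟩ := isConj_iff.mp hconj
    have hg : g ∈ N ⊔ K := by rw [hNK']; exact Subgroup.mem_top g
    obtain ⟨n, hn, k, hk, rfl⟩ := Subgroup.mem_sup_of_normal_left.mp hg
    have e : n * k * a * (n * k)⁻¹ = n * (k * a * k⁻¹) * n⁻¹ := by group
    rw [SetLike.mem_coe, e]
    have h1 : n ∈ N ⊔ A := Subgroup.mem_sup_left hn
    have h2 : k * a * k⁻¹ ∈ N ⊔ A := Subgroup.mem_sup_right (hnorm k hk a ha)
    exact Subgroup.mul_mem _ (Subgroup.mul_mem _ h1 h2) (Subgroup.inv_mem _ h1)
  have := hN.commutator_le_of_self_sup_commutative_eq_top hNA hA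
  rw [hperf] at this
  exact top_le_iff.mp this

theorem isSimpleGroup_quotient_center_of_iwasawa {G : Type*} [Group G] (K A : Subgroup G)
    (hK : IsCoatom K) (hA : IsMulCommutative A) (hnorm : ∀ k ∈ K, ∀ a ∈ A, k * a * k⁻¹ ∈ A)
    (hgen : Subgroup.normalClosure (A : Set G) = ⊤) (hperf : commutator G = ⊤)
    (hcore : ∀ N : Subgroup G, N.Normal → N ≤ K → N ≤ Subgroup.center G)
    (hnt : Subgroup.center G ≠ ⊤) : IsSimpleGroup (G ⧸ Subgroup.center G) := by
  haveI : Nontrivial (G ⧸ Subgroup.center G) := by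
    rw [← not_subsingleton_iff_nontrivial]
    intro hs
    apply hnt
    exact QuotientGroup.subsingleton_iff.mp hs
  refine ⟨fun Nbar hNbar => ?_⟩
  set N := Nbar.comap (QuotientGroup.mk' (Subgroup.center G)) with hNdef
  haveI : N.Normal := hNbar.comap _
  have hmap : N.map (QuotientGroup.mk' (Subgroup.center G)) = Nbar :=
    Subgroup.map_comap_eq_self_of_surjective (QuotientGroup.mk'_surjective _) Nbar
  by_cases hNK : N ≤ K
  · left
    have hle := hcore N inferInstance hNK
    rw [← hmap, eq_bot_iff]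
    rintro _ ⟨x, hx, rfl⟩
    rw [Subgroup.mem_bot, QuotientGroup.mk'_apply, QuotientGroup.eq_one_iff]
    exact hle hx
  · right
    have := normal_eq_top_of_iwasawa K A hK hA hnorm hgen hperf N hNK
    rw [← hmap, this]
    exact Subgroup.map_top_of_surjective _ (QuotientGroup.mk'_surjective _)

end Cfsg.Agent.Lib.Helper77
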