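import Cfsg.Agent.Lib.Helper77.J1Order

set_option autoImplicit false
set_option linter.style.haveILetI false

/-! The matrix group J1 is simple: Sylow conjugacy reduces a nontrivial normal subgroup to one
containing one of eleven explicit elements, and explicit products of conjugates of each of these
give back the generators. -/

namespace Cfsg.Agent.Lib.Helper77.J1

open M7

theorem factorization_pow_mul (p k m : ℕ) (hp : p.Prime) (hm : ¬ p ∣ m) (hm0 : m ≠ 0) :
    (p ^ k * m).factorization p = k := by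
  rw [Nat.factorization_mul (pow_ne_zero _ hp.ne_zero) hm0, Nat.factorization_pow,
    Finsupp.add_apply, Finsupp.smul_apply, hp.factorization_self,
    Nat.factorization_eq_zero_of_not_dvd hm]
  simp

/-- If `p` exactly divides the group order, a normal subgroup containing one element of order `p`
contains all of them. -/
theorem mem_of_orderOf_eq {G : Type*} [Group G] [Finite G] (p : ℕ) [Fact p.Prime]
    (hp : (Nat.card G).factorization p = 1) (N : Subgroup G) [N.Normal] {n g : G} (hn : n ∈ N)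
    (hno : orderOf n = p) (hgo : orderOf g = p) : g ∈ N := by
  let P : Sylow p G := Sylow.ofCard (Subgroup.zpowers n)
    (by rw [Nat.card_zpowers, hno, hp, pow_one])
  let Q : Sylow p G := Sylow.ofCard (Subgroup.zpowers g)
    (by rw [Nat.card_zpowers, hgo, hp, pow_one])
  obtain ⟨c, hc⟩ := MulAction.exists_smul_eq G P Q
  have hg : g ∈ (Q : Subgroup G) := by
    rw [Sylow.coe_ofCard]; exact Subgroup.mem_zpowers g
  rw [← hc, Sylow.coe_subgroup_smul, Subgroup.mem_smul_pointwise_iff_exists] at hg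
  obtain ⟨x, hx, rfl⟩ := hg
  rw [Sylow.coe_ofCard] at hx
  have hxN : x ∈ N := (Subgroup.zpowers_le.mpr hn) hx
  rw [MulAut.smul_def, MulAut.conj_apply]
  exact Subgroup.Normal.conj_mem inferInstance x hxN c

/-- A normal subgroup containing an involution meets any given Sylow 2-subgroup nontrivially. -/
theorem exists_mem_sylow_two {G : Type*} [Group G] [Finite G] (S : Subgroup G)
    (hS : Nat.card S = 2 ^ (Nat.card G).factorization 2) (N : Subgroup G) [N.Normal] {n : G}
    (hn : n ∈ N) (hno : orderOf n = 2) : ∃ e ∈ S, e ∈ N ∧ e ≠ 1 := by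
  haveI : Fact (Nat.Prime 2) := ⟨Nat.prime_two⟩
  have hz : IsPGroup 2 (Subgroup.zpowers n) :=
    IsPGroup.of_card (n := 1) (by rw [Nat.card_zpowers, hno, pow_one])
  obtain ⟨P, hP⟩ := hz.exists_le_sylow
  let Q : Sylow 2 G := Sylow.ofCard S hS
  obtain ⟨c, hc⟩ := MulAction.exists_smul_eq G P Q
  refine ⟨c * n * c⁻¹, ?_, Subgroup.Normal.conj_mem inferInstance n hn c, ?_⟩
  · have : c * n * c⁻¹ ∈ (Q : Subgroup G) := by
      rw [← hc, Sylow.coe_subgroup_smul, Subgroup.mem_smul_pointwise_iff_exists]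
      exact ⟨n, hP (Subgroup.mem_zpowers n), by rw [MulAut.smul_def, MulAut.conj_apply]⟩
    rwa [Sylow.coe_ofCard] at this
  · intro h
    have : n = 1 := by
      have := congrArg (fun x => c⁻¹ * x * c) h
      simpa [mul_assoc] using this
    rw [this, orderOf_one] at hno
    norm_num at hno

theorem prime_dvd_175560 {p : ℕ} (hp : p.Prime) (h : p ∣ 175560) :
    p = 2 ∨ p = 3 ∨ p = 5 ∨ p = 7 ∨ p = 11 ∨ p = 19 := by
  have e : (175560 : ℕ) = 2 ^ 3 * 3 * 5 * 7 * 11 * 19 := by norm_num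
  rw [e] at h
  rcases (Nat.Prime.dvd_mul hp).mp h with h | h
  · rcases (Nat.Prime.dvd_mul hp).mp h with h | h
    · rcases (Nat.Prime.dvd_mul hp).mp h with h | h
      · rcases (Nat.Prime.dvd_mul hp).mp h with h | h
        · rcases (Nat.Prime.dvd_mul hp).mp h with h | h
          · left; exact (Nat.prime_dvd_prime_iff_eq hp Nat.prime_two).mp (hp.dvd_of_dvd_pow h)
          · right; left; exact (Nat.prime_dvd_prime_iff_eq hp Nat.prime_three).mp h
        · right; right; left; exact (Nat.prime_dvd_prime_iff_eq hp Nat.prime_five).mp h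
      · right; right; right; left
        exact (Nat.prime_dvd_prime_iff_eq hp (by norm_num)).mp h
    · right; right; right; right; left
      exact (Nat.prime_dvd_prime_iff_eq hp (by norm_num)).mp h
  · right; right; right; right; right
    exact (Nat.prime_dvd_prime_iff_eq hp (by norm_num)).mp h

/-- The group J1 as a type. -/
abbrev G1 : Type := ↥Cfsg.Spor.J1

theorem card_G1 : Nat.card G1 = 175560 := card_J1

theorem fact_G1 (p m : ℕ) (hp : p.Prime) (hm : ¬ p ∣ m) (e : 175560 = p ^ 1 * m) :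
    (Nat.card G1).factorization p = 1 := by
  rw [card_G1, e]
  exact factorization_pow_mul p 1 m hp hm (by rintro rfl; norm_num at e)

/-- Main step: a normal subgroup of J1 containing (the image of) one of the listed elements
contains each certified product of its conjugates. -/
theorem mem_of_cert (N : Subgroup G1) [hN : N.Normal] (γ0 : Γ) (hγ0 : γ0 ∈ Cfsg.Spor.J1)
    (hγN : (⟨γ0, hγ0⟩ : G1) ∈ N) (a : M7) (ha : Rep γ0 a) (Ws : List (List ℕ))
    (t : M7) (hchk : (∀ W ∈ Ws, OrthW S0 W) ∧ prodConj S0 a Ws = t) (β : Γ)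
    (hβ : Rep β t) (hβJ : β ∈ Cfsg.Spor.J1) : (⟨β, hβJ⟩ : G1) ∈ N := by
  let N' : Subgroup Γ := N.map Cfsg.Spor.J1.subtype
  have hN' : ∀ n ∈ N', ∀ c ∈ Subgroup.closure {g | g ∈ gens0}, c⁻¹ * n * c ∈ N' := by
    rintro n ⟨n0, hn0, rfl⟩ c hc
    rw [← J1_eq] at hc
    refine ⟨(⟨c, hc⟩ : G1)⁻¹ * n0 * ⟨c, hc⟩, ?_, by simp⟩
    have := hN.conj_mem n0 hn0 (⟨c, hc⟩ : G1)⁻¹
    simpa using this
  have hmem : γ0 ∈ N' := ⟨⟨γ0, hγ0⟩, hγN, rfl⟩
  have hβ' : Rep β (prodConj S0 a Ws) := by rw [hchk.2]; exact hβ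
  have := mem_of_prodConj gens0 S0 hS0 N' hN' γ0 a hmem ha Ws hchk.1 β hβ'
  obtain ⟨x, hx, hxe⟩ := this
  have : x = ⟨β, hβJ⟩ := Subtype.ext hxe
  rwa [this] at hx

theorem card_EG_sub : Nat.card (EG.subgroupOf Cfsg.Spor.J1) = 2 ^ (Nat.card G1).factorization 2 := by
  rw [Nat.card_congr (Subgroup.subgroupOfEquivOfLe EG_le).toEquiv, card_EG, card_G1,
    show (175560 : ℕ) = 2 ^ 3 * 21945 by norm_num,
    factorization_pow_mul 2 3 21945 Nat.prime_two (by norm_num) (by norm_num)]
  norm_num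

/-- A nontrivial normal subgroup of J1 contains the first generator. -/
theorem X_mem_normal (N : Subgroup G1) [hN : N.Normal] (hne : N ≠ ⊥) :
    (⟨Cfsg.Spor.jankoX, X_mem⟩ : G1) ∈ N := by
  have hcard : Nat.card N ≠ 1 := by rwa [Ne, Subgroup.card_eq_one]
  obtain ⟨p, hp, hpd⟩ := Nat.exists_prime_and_dvd hcard
  have hp175 : p ∣ 175560 := by
    have := hpd.trans (Subgroup.card_subgroup_dvd_card N)
    rwa [card_G1] at this
  haveI := Fact.mk hp
  obtain ⟨n, hn⟩ := exists_prime_orderOf_dvd_card' p hpd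
  have hnN : (n : G1) ∈ N := n.2
  have hno : orderOf (n : G1) = p := by rw [Subgroup.orderOf_coe]; exact hn
  rcases prime_dvd_175560 hp hp175 with rfl | rfl | rfl | rfl | rfl | rfl
  · -- p = 2
    obtain ⟨e, heS, heN, he1⟩ := exists_mem_sylow_two (EG.subgroupOf Cfsg.Spor.J1) card_EG_sub N
      hnN hno
    have heE : (e : Γ) ∈ Subgroup.closure {g | g ∈ gensE} := Subgroup.mem_subgroupOf.mp heS
    obtain ⟨m, hm, hrep⟩ := exists_rep_of_mem_closure gensE SE hSE 8 E certE (by norm_num) E_zero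
      (fun m hm s hs => chkE m hm s hs) (e : Γ) heE
    have hm0 : 0 < m := by
      rcases Nat.eq_zero_or_pos m with rfl | h
      · exfalso
        rw [E_zero] at hrep
        exact he1 (Subtype.ext (hrep.ext Rep.one))
      · exact h
    exact mem_of_cert N (e : Γ) e.2 heN (E m) hrep (simpE m) sx (simpE_chk m hm hm0)
      Cfsg.Spor.jankoX rep_X X_mem
  · -- p = 3
    have hg : (⟨γ w3, γ_mem w3⟩ : G1) ∈ N :=
      mem_of_orderOf_eq 3 (fact_G1 3 58520 (by norm_num) (by norm_num) (by norm_num)) N hnN hno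
        (by rw [Subgroup.orderOf_mk]; exact orderOf_g3)
    exact mem_of_cert N (γ w3) (γ_mem w3) hg m3 rep_g3 cert_m3 sx simp_m3_chk
      Cfsg.Spor.jankoX rep_X X_mem
  · -- p = 5
    have hg : (⟨Cfsg.Spor.jankoY, Y_mem⟩ : G1) ∈ N :=
      mem_of_orderOf_eq 5 (fact_G1 5 35112 (by norm_num) (by norm_num) (by norm_num)) N hnN hno
        (by rw [Subgroup.orderOf_mk]; exact orderOf_Y)
    exact mem_of_cert N Cfsg.Spor.jankoY Y_mem hg sy rep_Y cert_sy sx simp_sy_chk
      Cfsg.Spor.jankoX rep_X X_mem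
  · -- p = 7
    exact mem_of_orderOf_eq 7 (fact_G1 7 25080 (by norm_num) (by norm_num) (by norm_num)) N hnN hno
        (by rw [Subgroup.orderOf_mk]; exact orderOf_X)
  · -- p = 11
    have hg : (⟨γ w11, γ_mem w11⟩ : G1) ∈ N :=
      mem_of_orderOf_eq 11 (fact_G1 11 15960 (by norm_num) (by norm_num) (by norm_num)) N hnN hno
        (by rw [Subgroup.orderOf_mk]; exact orderOf_g11)
    exact mem_of_cert N (γ w11) (γ_mem w11) hg m11 rep_g11 cert_m11 sx simp_m11_chk
      Cfsg.Spor.jankoX rep_X X_mem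
  · -- p = 19
    have hg : (⟨γ w19, γ_mem w19⟩ : G1) ∈ N :=
      mem_of_orderOf_eq 19 (fact_G1 19 9240 (by norm_num) (by norm_num) (by norm_num)) N hnN hno
        (by rw [Subgroup.orderOf_mk]; exact orderOf_g19)
    exact mem_of_cert N (γ w19) (γ_mem w19) hg m19 rep_g19 cert_m19 sx simp_m19_chk
      Cfsg.Spor.jankoX rep_X X_mem

/-- The matrix group J1 is simple. -/
theorem isSimpleGroup_J1 : IsSimpleGroup G1 := by
  haveI : Nontrivial G1 := by
    rw [← Finite.one_lt_card_iff_nontrivial, card_G1]; norm_num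
  refine ⟨fun N hN => ?_⟩
  by_cases hne : N = ⊥
  · exact Or.inl hne
  · right
    have hX := X_mem_normal N hne
    have hY : (⟨Cfsg.Spor.jankoY, Y_mem⟩ : G1) ∈ N :=
      mem_of_cert N Cfsg.Spor.jankoX X_mem hX sx rep_X certY sy simpY_chk Cfsg.Spor.jankoY rep_Y Y_mem
    rw [eq_top_iff]
    intro g _
    have hle : Cfsg.Spor.J1 ≤ N.map Cfsg.Spor.J1.subtype := by
      unfold Cfsg.Spor.J1
      rw [Subgroup.closure_le]
      rintro x (rfl | rfl)
      · exact ⟨_, hX, rfl⟩
      · exact ⟨_, hY, rfl⟩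
    obtain ⟨x, hx, hxe⟩ := hle g.2
    have : x = g := Subtype.ext hxe
    rwa [this] at hx

end Cfsg.Agent.Lib.Helper77.J1
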