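import Cfsg.Agent.Lib.Helper77.J1SchurData
import Cfsg.Agent.Lib.Helper77.J1Simple
import Cfsg.Agent.Lib.Helper07.SchurRed
import Cfsg.Agent.Lib.Helper70.StemExt
import Cfsg.Agent.S3979

set_option autoImplicit false
set_option linter.style.haveILetI false

/-! The Schur multiplier of the matrix group J1 is trivial. Odd primes: cyclic Sylow subgroups.
The prime 2: the preimage of the elementary abelian Sylow 2-subgroup in a stem extension is abelian,
because the commutator pairing is invariant under a Singer cycle of order 7. -/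

namespace Cfsg.Agent.Lib.Helper77.J1

section abstract
variable {Γ G : Type*} [Group Γ] [Group G]

theorem conj_eq_of_central {c : Γ} (hc : ∀ g : Γ, g * c = c * g) (g : Γ) : g * c * g⁻¹ = c := by
  rw [hc g, mul_inv_cancel_right]

/-- The preimage, under a central extension, of an elementary abelian group of order 8 on which
an element acts as a Singer cycle (`y³ = y + 1` on the group written additively) is abelian. -/
theorem comm_of_singer (σ : Γ →* G) (hsurj : Function.Surjective σ)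
    (hcen : σ.ker ≤ Subgroup.center Γ) (e0 e1 e2 y : G)
    (h1 : y * e0 * y⁻¹ = e1) (h2 : y * e1 * y⁻¹ = e2) (h3 : y * e2 * y⁻¹ = e0 * e1)
    (hsq : e0 * e0 = 1) (c01 : e0 * e1 = e1 * e0) (c02 : e0 * e2 = e2 * e0)
    (c12 : e1 * e2 = e2 * e1) (U : Subgroup G) (hU : U ≤ Subgroup.closure {e0, e1, e2}) :
    ∀ a b : Γ, σ a ∈ U → σ b ∈ U → a * b = b * a := by
  obtain ⟨a0, ha0⟩ := hsurj e0
  obtain ⟨yt, hyt⟩ := hsurj y
  set a1 := yt * a0 * yt⁻¹ with ha1d
  set a2 := yt * a1 * yt⁻¹ with ha2d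
  set a3 := yt * a2 * yt⁻¹ with ha3d
  have ha1 : σ a1 = e1 := by rw [ha1d, map_mul, map_mul, map_inv, ha0, hyt, h1]
  have ha2 : σ a2 = e2 := by rw [ha2d, map_mul, map_mul, map_inv, ha1, hyt, h2]
  have ha3 : σ a3 = e0 * e1 := by rw [ha3d, map_mul, map_mul, map_inv, ha2, hyt, h3]
  have central_of_ker : ∀ c : Γ, σ c = 1 → ∀ g : Γ, g * c = c * g := by
    intro c hc g
    have := hcen (MonoidHom.mem_ker.mpr hc)
    rw [Subgroup.mem_center_iff] at this
    exact this g
  -- the commutators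
  set A := a0 * a1 * a0⁻¹ * a1⁻¹ with hA
  set B := a0 * a2 * a0⁻¹ * a2⁻¹ with hB
  set C := a1 * a2 * a1⁻¹ * a2⁻¹ with hC
  have hAc : ∀ g : Γ, g * A = A * g := central_of_ker A (by
    rw [hA, map_mul, map_mul, map_mul, map_inv, map_inv, ha0, ha1, c01]; group)
  have hBc : ∀ g : Γ, g * B = B * g := central_of_ker B (by
    rw [hB, map_mul, map_mul, map_mul, map_inv, map_inv, ha0, ha2, c02]; group)
  have hCc : ∀ g : Γ, g * C = C * g := central_of_ker C (by
    rw [hC, map_mul, map_mul, map_mul, map_inv, map_inv, ha1, ha2, c12]; group)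
  -- z with a3 = a0 a1 z
  set z := (a0 * a1)⁻¹ * a3 with hz
  have hzc : ∀ g : Γ, g * z = z * g := central_of_ker z (by
    rw [hz, map_mul, map_inv, map_mul, ha0, ha1, ha3]; group)
  have ha3z : a3 = a0 * a1 * z := by rw [hz]; group
  -- step 1: C = A
  have hCA : C = A := by
    have : C = yt * A * yt⁻¹ := by rw [hC, hA, ha2d, ha1d]; group
    rw [this, conj_eq_of_central hAc]
  -- a1 squared is central
  have e1sq : e1 * e1 = 1 := by
    rw [← h1]
    calc y * e0 * y⁻¹ * (y * e0 * y⁻¹) = y * (e0 * e0) * y⁻¹ := by group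
      _ = 1 := by rw [hsq]; group
  have hs1 : ∀ g : Γ, g * (a1 * a1) = (a1 * a1) * g := central_of_ker _ (by
    rw [map_mul, ha1, e1sq])
  -- step 3: C * C = 1
  have hCC : C * C = 1 := by
    have h : (a1 * a1) * a2 * (a1 * a1)⁻¹ * a2⁻¹ = a1 * C * a1⁻¹ * C := by rw [hC]; group
    rw [conj_eq_of_central hCc] at h
    rw [← h, ← hs1 a2]
    group
  -- step 2: commutator of a2 with a3 in two ways
  have h23 : a2 * a3 * a2⁻¹ * a3⁻¹ = C := by
    have : a2 * a3 * a2⁻¹ * a3⁻¹ = yt * C * yt⁻¹ := by rw [hC, ha3d, ha2d]; group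
    rw [this, conj_eq_of_central hCc]
  have h23' : a2 * a3 * a2⁻¹ * a3⁻¹ = B⁻¹ * C⁻¹ := by
    rw [ha3z]
    have e1 : a2 * (a0 * a1 * z) * a2⁻¹ * (a0 * a1 * z)⁻¹ =
        a2 * a0 * a1 * (z * a2⁻¹ * z⁻¹) * a1⁻¹ * a0⁻¹ := by group
    have e2 : z * a2⁻¹ * z⁻¹ = a2⁻¹ := by rw [← hzc a2⁻¹, mul_inv_cancel_right]
    rw [e1, e2]
    have e3 : a2 * a0 * a1 * a2⁻¹ * a1⁻¹ * a0⁻¹ = B⁻¹ * (a0 * C⁻¹ * a0⁻¹) := by
      rw [hB, hC]; group
    have hCi : ∀ g : Γ, g * C⁻¹ = C⁻¹ * g := by
      intro g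
      have := hCc g⁻¹
      have h' := congrArg (fun x => x⁻¹) this
      simpa [mul_inv_rev] using h'.symm
    rw [e3, conj_eq_of_central hCi]
  have hB1 : B = 1 := by
    have h : C = B⁻¹ * C⁻¹ := h23.symm.trans h23'
    have hCinv : C⁻¹ = C := by
      rw [inv_eq_iff_mul_eq_one]; exact hCC
    rw [hCinv] at h
    have : B⁻¹ = 1 := by
      have := congrArg (fun x => x * C⁻¹) h
      simpa using this.symm
    simpa using this
  -- step 4
  have h13 : a1 * a3 * a1⁻¹ * a3⁻¹ = B := by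
    have : a1 * a3 * a1⁻¹ * a3⁻¹ = yt * B * yt⁻¹ := by rw [hB, ha3d, ha2d, ha1d]; group
    rw [this, conj_eq_of_central hBc]
  have h13' : a1 * a3 * a1⁻¹ * a3⁻¹ = A⁻¹ := by
    rw [ha3z]
    have e1 : a1 * (a0 * a1 * z) * a1⁻¹ * (a0 * a1 * z)⁻¹ =
        a1 * a0 * a1 * (z * a1⁻¹ * z⁻¹) * a1⁻¹ * a0⁻¹ := by group
    have e2 : z * a1⁻¹ * z⁻¹ = a1⁻¹ := by rw [← hzc a1⁻¹, mul_inv_cancel_right]
    rw [e1, e2, hA]; group
  have hA1 : A = 1 := by
    have : A⁻¹ = 1 := by rw [← h13', h13, hB1]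
    simpa using this
  have hC1 : C = 1 := hCA.trans hA1
  -- pairwise commuting lifts
  have k01 : a0 * a1 = a1 * a0 := by
    have := hA1; rw [hA] at this
    calc a0 * a1 = (a0 * a1 * a0⁻¹ * a1⁻¹) * a1 * a0 := by group
      _ = a1 * a0 := by rw [this, one_mul]
  have k02 : a0 * a2 = a2 * a0 := by
    have := hB1; rw [hB] at this
    calc a0 * a2 = (a0 * a2 * a0⁻¹ * a2⁻¹) * a2 * a0 := by group
      _ = a2 * a0 := by rw [this, one_mul]
  have k12 : a1 * a2 = a2 * a1 := by
    have := hC1; rw [hC] at this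
    calc a1 * a2 = (a1 * a2 * a1⁻¹ * a2⁻¹) * a2 * a1 := by group
      _ = a2 * a1 := by rw [this, one_mul]
  have hcomm : ∀ x ∈ ({a0, a1, a2} : Set Γ), ∀ w ∈ ({a0, a1, a2} : Set Γ), x * w = w * x := by
    intro x hx w hw
    simp only [Set.mem_insert_iff, Set.mem_singleton_iff] at hx hw
    rcases hx with rfl | rfl | rfl <;> rcases hw with rfl | rfl | rfl <;>
      first | rfl | assumption | (symm; assumption)
  have hTc := Subgroup.isMulCommutative_closure hcomm
  have hTcomm : ∀ x ∈ Subgroup.closure ({a0, a1, a2} : Set Γ),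
      ∀ w ∈ Subgroup.closure ({a0, a1, a2} : Set Γ), x * w = w * x := by
    intro x hx w hw
    have := hTc.is_comm.comm (⟨x, hx⟩ : Subgroup.closure ({a0, a1, a2} : Set Γ)) ⟨w, hw⟩
    exact congrArg Subtype.val this
  have hlift : ∀ g ∈ Subgroup.closure ({e0, e1, e2} : Set G),
      ∃ t ∈ Subgroup.closure ({a0, a1, a2} : Set Γ), σ t = g := by
    intro g hg
    induction hg using Subgroup.closure_induction with
    | mem x hx =>
      simp only [Set.mem_insert_iff, Set.mem_singleton_iff] at hx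
      rcases hx with rfl | rfl | rfl
      · exact ⟨a0, Subgroup.subset_closure (by simp), ha0⟩
      · exact ⟨a1, Subgroup.subset_closure (by simp), ha1⟩
      · exact ⟨a2, Subgroup.subset_closure (by simp), ha2⟩
    | one => exact ⟨1, Subgroup.one_mem _, map_one σ⟩
    | mul x w _ _ ihx ihw =>
      obtain ⟨t, ht, rfl⟩ := ihx
      obtain ⟨s, hs, rfl⟩ := ihw
      exact ⟨t * s, Subgroup.mul_mem _ ht hs, map_mul σ t s⟩
    | inv x _ ih =>
      obtain ⟨t, ht, rfl⟩ := ih
      exact ⟨t⁻¹, Subgroup.inv_mem _ ht, map_inv σ t⟩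
  intro a b ha hb
  obtain ⟨ta, hta, hta'⟩ := hlift _ (hU ha)
  obtain ⟨tb, htb, htb'⟩ := hlift _ (hU hb)
  have hza : ∀ g : Γ, g * (ta⁻¹ * a) = (ta⁻¹ * a) * g := central_of_ker _ (by
    rw [map_mul, map_inv, hta']; group)
  have hzb : ∀ g : Γ, g * (tb⁻¹ * b) = (tb⁻¹ * b) * g := central_of_ker _ (by
    rw [map_mul, map_inv, htb']; group)
  have ea : a = ta * (ta⁻¹ * a) := by group
  have eb : b = tb * (tb⁻¹ * b) := by group
  rw [ea, eb]
  set za := ta⁻¹ * a
  set zb := tb⁻¹ * b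
  calc ta * za * (tb * zb) = ta * (za * tb) * zb := by group
    _ = ta * (tb * za) * zb := by rw [hza tb]
    _ = (ta * tb) * (za * zb) := by group
    _ = (tb * ta) * (zb * za) := by rw [hTcomm ta hta tb htb, hzb za]
    _ = tb * (ta * zb) * za := by group
    _ = tb * (zb * ta) * za := by rw [hzb ta]
    _ = tb * zb * (ta * za) := by group

end abstract

open M7

/-- The element of order 7 normalizing the Sylow 2-subgroup. -/
def yG : G1 := ⟨Cfsg.Spor.jankoX, X_mem⟩

/-- The involution `f0` in J1. -/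
def f0 : G1 := ⟨γ wt1, γ_mem wt1⟩

/-- Its conjugate. -/
def f1 : G1 := yG * f0 * yG⁻¹

/-- The second conjugate. -/
def f2 : G1 := yG * f1 * yG⁻¹

theorem rep_Xinv : Rep (Cfsg.Spor.jankoX)⁻¹ (tr sx) := rep_X.inv orth_sx

theorem rep_f0 : Rep (f0 : Γ) n0 := by
  have : n0 = mt1 := by unfold n0; rfl
  rw [this]; exact rep_t1

theorem rep_f1 : Rep (f1 : Γ) n1 := by
  have : n1 = mul (mul sx n0) (tr sx) := by unfold n1; rfl
  rw [this]
  exact (rep_X.mul rep_f0).mul rep_Xinv

theorem rep_f2 : Rep (f2 : Γ) n2 := by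
  have : n2 = mul (mul sx n1) (tr sx) := by unfold n2; rfl
  rw [this]
  exact (rep_X.mul rep_f1).mul rep_Xinv

theorem G1_ext {a b : G1} {m : M7} (ha : Rep (a : Γ) m) (hb : Rep (b : Γ) m) : a = b :=
  Subtype.ext (ha.ext hb)

theorem f_rel3 : yG * f2 * yG⁻¹ = f0 * f1 := by
  apply G1_ext (m := mul n0 n1)
  · rw [← rel3]; exact (rep_X.mul rep_f2).mul rep_Xinv
  · exact rep_f0.mul rep_f1

theorem f_sq : f0 * f0 = 1 := by
  apply G1_ext (m := one)
  · rw [← relsq]; exact rep_f0.mul rep_f0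
  · exact Rep.one

theorem f_c01 : f0 * f1 = f1 * f0 := by
  apply G1_ext (m := mul n0 n1)
  · exact rep_f0.mul rep_f1
  · rw [rel01]; exact rep_f1.mul rep_f0

theorem f_c02 : f0 * f2 = f2 * f0 := by
  apply G1_ext (m := mul n0 n2)
  · exact rep_f0.mul rep_f2
  · rw [rel02]; exact rep_f2.mul rep_f0

theorem f_c12 : f1 * f2 = f2 * f1 := by
  apply G1_ext (m := mul n1 n2)
  · exact rep_f1.mul rep_f2
  · rw [rel12]; exact rep_f2.mul rep_f1

/-- The Sylow 2-subgroup generated by `f0, f1, f2`, inside J1. -/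
def UF : Subgroup G1 := Subgroup.closure {f0, f1, f2}

/-- The same generators as a list in the ambient group. -/
def gensF : List Γ := [(f0 : Γ), (f1 : Γ), (f2 : Γ)]

theorem hSF : ∀ i, Rep (gensF.getD i 1) (SF.getD i one) := by
  intro i
  match i with
  | 0 => exact rep_f0
  | 1 => exact rep_f1
  | 2 => exact rep_f2
  | (i + 3) => simpa [gensF, SF] using Rep.one

theorem card_closure_gensF : Nat.card (Subgroup.closure {g | g ∈ gensF}) = 8 :=
  card_closure_eq gensF SF hSF 8 F certF wordF (by norm_num) F_zero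
    (fun m hm s hs => chkF m hm s hs) wordsF_ok nodupF

theorem map_UF : UF.map Cfsg.Spor.J1.subtype = Subgroup.closure {g | g ∈ gensF} := by
  unfold UF
  rw [MonoidHom.map_closure]
  congr 1
  ext g
  simp only [gensF, Set.mem_image, Set.mem_insert_iff, Set.mem_singleton_iff, List.mem_cons,
    List.not_mem_nil, or_false, Set.mem_ofPred_eq]
  constructor
  · rintro ⟨x, (rfl | rfl | rfl), rfl⟩
    · left; rfl
    · right; left; rfl
    · right; right; rfl
  · rintro (rfl | rfl | rfl)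
    · exact ⟨f0, Or.inl rfl, rfl⟩
    · exact ⟨f1, Or.inr (Or.inl rfl), rfl⟩
    · exact ⟨f2, Or.inr (Or.inr rfl), rfl⟩

theorem card_UF : Nat.card UF = 8 := by
  rw [← card_closure_gensF, ← map_UF]
  exact (Subgroup.card_map_of_injective (Subgroup.subtype_injective _)).symm

theorem UF_index_odd : ¬ 2 ∣ UF.index := by
  have h := UF.card_mul_index
  rw [card_UF, card_G1] at h
  have : UF.index = 21945 := by omega
  rw [this]; norm_num

theorem sylow_cyclic (p : ℕ) [hp : Fact p.Prime] (hp2 : p ≠ 2) (R : Sylow p G1) :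
    IsCyclic (R : Subgroup G1) := by
  have hcard := R.card_eq_multiplicity
  by_cases hd : p ∣ 175560
  · have h1 : (Nat.card G1).factorization p = 1 := by
      rcases prime_dvd_175560 hp.out hd with rfl | rfl | rfl | rfl | rfl | rfl
      · exact absurd rfl hp2
      · exact fact_G1 3 58520 (by norm_num) (by norm_num) (by norm_num)
      · exact fact_G1 5 35112 (by norm_num) (by norm_num) (by norm_num)
      · exact fact_G1 7 25080 (by norm_num) (by norm_num) (by norm_num)
      · exact fact_G1 11 15960 (by norm_num) (by norm_num) (by norm_num)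
      · exact fact_G1 19 9240 (by norm_num) (by norm_num) (by norm_num)
    rw [h1, pow_one] at hcard
    exact isCyclic_of_prime_card hcard
  · have h0 : (Nat.card G1).factorization p = 0 := by
      rw [card_G1]; exact Nat.factorization_eq_zero_of_not_dvd hd
    rw [h0, pow_zero] at hcard
    haveI : Subsingleton (R : Subgroup G1) := (Nat.card_eq_one_iff_unique.mp hcard).1
    exact isCyclic_of_subsingleton

open Cfsg.Agent.Lib.Helper07 in
/-- Every finite stem extension of J1 has trivial kernel. -/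
theorem ker_eq_bot_of_stem (Γ' : Type) [Group Γ'] [Finite Γ'] (σ : Γ' →* G1)
    (hσ : Cfsg.IsStemExtension σ) : σ.ker = ⊥ := by
  by_contra hne
  obtain ⟨z, hz, hz1⟩ : ∃ z ∈ σ.ker, z ≠ 1 := by
    by_contra h
    push Not at h
    exact hne ((Subgroup.eq_bot_iff_forall _).mpr h)
  have ho : orderOf z ≠ 1 := by rwa [Ne, orderOf_eq_one_iff]
  have ho0 : orderOf z ≠ 0 := (orderOf_pos z).ne'
  set p := (orderOf z).minFac with hp
  have hpp : p.Prime := Nat.minFac_prime ho
  haveI : Fact p.Prime := ⟨hpp⟩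
  set z' := z ^ (orderOf z / p) with hz'
  have hz'o : orderOf z' = p := orderOf_pow_orderOf_div ho0 (Nat.minFac_dvd _)
  have hz'k : z' ∈ σ.ker := Subgroup.pow_mem _ hz _
  by_cases hp2 : p = 2
  · have hM : ∀ a b : Γ', σ a ∈ UF → σ b ∈ UF → a * b = b * a :=
      comm_of_singer σ hσ.1 hσ.2.1 f0 f1 f2 yG rfl rfl f_rel3 f_sq f_c01 f_c02 f_c12 UF le_rfl
    have hU : ¬ p ∣ UF.index := by rw [hp2]; exact UF_index_odd
    exact no_order_p_of_comap_commutative σ hσ p UF hU hM z' hz'k hz'o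
  · let R : Sylow p G1 := default
    haveI : IsCyclic (R : Subgroup G1) := sylow_cyclic p hp2 R
    have hR : TrivMult (R : Subgroup G1) :=
      trivMult_of_hasCyclicSchurMultiplier Cfsg.Agent.S3979.result
    exact no_order_r_of_sylow_trivMult σ hσ p R hR z' hz'k hz'o

/-- The Schur multiplier of J1 is trivial. -/
theorem schur_J1 : Cfsg.HasCyclicSchurMultiplier G1 1 :=
  Cfsg.Agent.Lib.Helper70.hasCyclicSchurMultiplier_one_of_forall ker_eq_bot_of_stem

end Cfsg.Agent.Lib.Helper77.J1
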