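import Cfsg.Agent.Lib.Helper77.J1CentData
import Cfsg.Agent.Lib.Helper77.J1Schur
import Cfsg.Agent.S3377

set_option autoImplicit false
set_option linter.style.haveILetI false

/-! The centralizer of an involution of the matrix group J1 is `2 × A5`. The conjugacy class of the
involution has at least 1463 elements (a kernel-checked table of pairwise distinct conjugates), so
the centralizer has at most 120 elements; and it contains a copy of `2 × A5`. -/

namespace Cfsg.Agent.Lib.Helper77.J1

open M7

theorem isIncr_pairwise : ∀ l : List ℕ, isIncr l = true → l.Pairwise (· < ·)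
  | [], _ => List.Pairwise.nil
  | [a], _ => List.pairwise_singleton _ _
  | a :: b :: l, h => by
    unfold isIncr at h
    rw [Bool.and_eq_true] at h
    have hab : a < b := by
      have := h.1
      rwa [Nat.blt_eq] at this
    have ih := isIncr_pairwise (b :: l) h.2
    rw [List.pairwise_cons] at ih ⊢
    refine ⟨?_, List.pairwise_cons.mpr ⟨ih.1, ih.2⟩⟩
    intro x hx
    rcases List.mem_cons.mp hx with rfl | hx
    · exact hab
    · exact lt_trans hab (ih.1 x hx)

theorem srtC_inj {i j : ℕ} (hi : i < 1463) (hj : j < 1463)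
    (h : srtC.getD i 0 = srtC.getD j 0) : i = j := by
  have hp := isIncr_pairwise srtC chkS2
  rw [List.pairwise_iff_getElem] at hp
  have hli : i < srtC.length := by rw [lengthS]; exact hi
  have hlj : j < srtC.length := by rw [lengthS]; exact hj
  rw [List.getD_eq_getElem _ _ hli, List.getD_eq_getElem _ _ hlj] at h
  rcases lt_trichotomy i j with hlt | heq | hgt
  · exact absurd h (hp i j hli hlj hlt).ne
  · exact heq
  · exact absurd h.symm (hp j i hlj hli hgt).ne

/-- The generators as elements of J1. -/
def sG (j : ℕ) : G1 := ⟨gens0.getD j 1, by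
  match j with
  | 0 => exact X_mem
  | 1 => exact Y_mem
  | (j + 2) => simp [gens0]⟩

theorem orth_S0 (j : ℕ) : mul (S0.getD j one) (tr (S0.getD j one)) = one := by
  match j with
  | 0 => exact orth_sx
  | 1 => exact orth_sy
  | (j + 2) => simpa [S0] using orth_one

theorem rep_sG (j : ℕ) : Rep (sG j : Γ) (S0.getD j one) := hS0 j

theorem rep_sG_inv (j : ℕ) : Rep ((sG j)⁻¹ : G1) (tr (S0.getD j one)) :=
  (rep_sG j).inv (orth_S0 j)

theorem conj_table : ∀ m < 1463, ∃ g : G1, IsConj f0 g ∧ Rep (g : Γ) (Cc m) := by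
  intro m
  induction m using Nat.strong_induction_on with
  | _ m ih =>
    intro hm
    rcases Nat.eq_zero_or_pos m with rfl | h0
    · exact ⟨f0, IsConj.refl _, by rw [Cc_zero]; exact rep_t1⟩
    · have h := chkC m hm h0
      unfold TreeOK at h
      simp only [withNat_eq] at h
      obtain ⟨hp, heq⟩ := h
      obtain ⟨g', hc, hr⟩ := ih _ hp (by omega)
      refine ⟨(sG (rowsC.getD m (0, 0, 0)).2.2)⁻¹ * g' * sG (rowsC.getD m (0, 0, 0)).2.2, ?_, ?_⟩
      · refine hc.trans (isConj_iff.mpr ⟨(sG (rowsC.getD m (0, 0, 0)).2.2)⁻¹, ?_⟩)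
        rw [inv_inv]
      · have e : Cc m = mul (mul (tr (S0.getD (rowsC.getD m (0, 0, 0)).2.2 one))
            (Cc (rowsC.getD m (0, 0, 0)).2.1)) (S0.getD (rowsC.getD m (0, 0, 0)).2.2 one) := by
          unfold Cc
          exact heq
        rw [e]
        exact ((rep_sG_inv _).mul hr).mul (rep_sG _)

theorem ordC_lt {i : ℕ} (hi : i < 1463) : ordC i < 1463 := by
  have h := chkS1 i hi
  unfold SortOK at h
  simp only [withNat_eq] at h
  unfold ordC
  exact h.1

theorem pack_ordC {i : ℕ} (hi : i < 1463) : pack (Cc (ordC i)) = srtC.getD i 0 := by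
  have h := chkS1 i hi
  unfold SortOK at h
  simp only [withNat_eq] at h
  have h2 := h.2
  unfold Cc ordC
  rw [h2, ← srt_eq]
  rw [List.getD_eq_getElem?_getD, List.getD_eq_getElem?_getD, List.getElem?_map]
  cases srtRows[i]? <;> rfl


/-- The chosen conjugate for the sorted position `i`. -/
noncomputable def cj (i : Fin 1463) : G1 :=
  Classical.choose (conj_table (ordC i) (ordC_lt i.2))

theorem cj_conj (i : Fin 1463) : IsConj f0 (cj i) :=
  (Classical.choose_spec (conj_table (ordC i) (ordC_lt i.2))).1

theorem cj_rep (i : Fin 1463) : Rep (cj i : Γ) (Cc (ordC i)) :=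
  (Classical.choose_spec (conj_table (ordC i) (ordC_lt i.2))).2

theorem valid_Cc (m : ℕ) : Valid (Cc m) := by
  unfold Cc
  exact valid_unpack _

theorem cj_injective : Function.Injective cj := by
  intro i j h
  have h1 := cj_rep i
  have h2 := cj_rep j
  rw [h] at h1
  have e : Cc (ordC i) = Cc (ordC j) := Rep.eq_of_valid (valid_Cc _) (valid_Cc _) h1 h2
  have e2 : srtC.getD i 0 = srtC.getD j 0 := by
    rw [← pack_ordC i.2, ← pack_ordC j.2, e]
  exact Fin.ext (srtC_inj i.2 j.2 e2)

instance : Finite G1 := Nat.finite_of_card_ne_zero (by rw [card_G1]; norm_num)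

theorem orbit_ge : 1463 ≤ (MulAction.orbit (ConjAct G1) f0).ncard := by
  have hsub : Set.range cj ⊆ MulAction.orbit (ConjAct G1) f0 := by
    rintro _ ⟨i, rfl⟩
    rw [ConjAct.mem_orbit_conjAct]
    exact (cj_conj i).symm
  have h1 : (Set.range cj).ncard = 1463 := by
    rw [← Set.image_univ, Set.ncard_image_of_injective _ cj_injective, Set.ncard_univ, Nat.card_fin]
  calc 1463 = (Set.range cj).ncard := h1.symm
    _ ≤ _ := Set.ncard_le_ncard hsub (Set.toFinite _)

theorem card_centralizer_le : Nat.card (Subgroup.centralizer {f0}) ≤ 120 := by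
  rw [Subgroup.nat_card_centralizer_nat_card_stabilizer]
  have h := (MulAction.stabilizer (ConjAct G1) f0).card_mul_index
  rw [MulAction.index_stabilizer] at h
  have hc : Nat.card (ConjAct G1) = 175560 := by
    rw [← card_G1]
    exact Nat.card_congr (ConjAct.ofConjAct (G := G1)).toEquiv
  rw [hc] at h
  have h2 := orbit_ge
  by_contra hlt
  push Not at hlt
  have : 121 * 1463 ≤ Nat.card (MulAction.stabilizer (ConjAct G1) f0) *
      (MulAction.orbit (ConjAct G1) f0).ncard := Nat.mul_le_mul hlt h2
  omega


/-- The centralizer of the involution. -/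
abbrev CF : Subgroup G1 := Subgroup.centralizer {f0}

theorem mem_CF {g : G1} : g ∈ CF ↔ f0 * g = g * f0 := by
  unfold CF
  rw [Subgroup.mem_centralizer_singleton_iff]
  exact eq_comm

theorem rep_f0' : Rep (f0 : Γ) mt1 := rep_t1

theorem rep_wa : Rep (γ wa) ma := by have := rep_γ wa; rwa [ma_eq] at this

theorem rep_wb : Rep (γ wb) mb := by have := rep_γ wb; rwa [mb_eq] at this

/-- The element of order 3. -/
def aG : G1 := ⟨γ wa, γ_mem wa⟩

/-- The element of order 5. -/
def bG : G1 := ⟨γ wb, γ_mem wb⟩

theorem rep_aG : Rep (aG : Γ) ma := rep_wa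

theorem rep_bG : Rep (bG : Γ) mb := rep_wb

theorem aG_mem : aG ∈ CF := by
  rw [mem_CF]
  apply G1_ext (m := mul mt1 ma)
  · exact rep_f0'.mul rep_aG
  · rw [← comm_ma]; exact rep_aG.mul rep_f0'

theorem bG_mem : bG ∈ CF := by
  rw [mem_CF]
  apply G1_ext (m := mul mt1 mb)
  · exact rep_f0'.mul rep_bG
  · rw [← comm_mb]; exact rep_bG.mul rep_f0'

theorem f0_mem : f0 ∈ CF := by
  rw [mem_CF]

theorem aG_pow : aG ^ 3 = 1 := by
  apply G1_ext (m := one)
  · have := rep_pow rep_aG 3
    rwa [pow_ma] at this
  · exact Rep.one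

theorem bG_pow : bG ^ 5 = 1 := by
  apply G1_ext (m := one)
  · have := rep_pow rep_bG 5
    rwa [pow_mb] at this
  · exact Rep.one

theorem abG_pow : (aG * bG) ^ 2 = 1 := by
  apply G1_ext (m := one)
  · have := rep_pow (rep_aG.mul rep_bG) 2
    rwa [pow_mab] at this
  · exact Rep.one

theorem aG_ne : aG ≠ 1 := by
  intro h
  have h1 : Rep ((1 : G1) : Γ) ma := by rw [← h]; exact rep_aG
  have h2 : Rep ((1 : G1) : Γ) one := Rep.one
  have hv : Valid ma := by unfold ma; exact valid_unpack _
  exact ne_ma (Rep.eq_of_valid hv valid_one h1 h2)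

theorem f0_sq : f0 ^ 2 = 1 := by rw [pow_two]; exact f_sq

theorem f0_ne : f0 ≠ 1 := by
  intro h
  have h1 : Rep ((1 : G1) : Γ) mt1 := by rw [← h]; exact rep_f0'
  have h2 : Rep ((1 : G1) : Γ) one := Rep.one
  have hv : Valid mt1 := by unfold mt1; exact valid_unpack _
  exact ne_mt1 (Rep.eq_of_valid hv valid_one h1 h2)

theorem orderOf_f0 : orderOf f0 = 2 :=
  orderOf_eq_prime f0_sq f0_ne


/-- The relators of the `(2,3,5)` presentation of the alternating group of degree 5. -/
abbrev relsP : Set (FreeGroup (Fin 2)) :=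
  {FreeGroup.of (0 : Fin 2) ^ 3, FreeGroup.of (1 : Fin 2) ^ 5,
    (FreeGroup.of (0 : Fin 2) * FreeGroup.of 1) ^ 2}

/-- The generators inside the centralizer. -/
def aC : CF := ⟨aG, aG_mem⟩

/-- The generators inside the centralizer. -/
def bC : CF := ⟨bG, bG_mem⟩

/-- The involution inside its centralizer. -/
def tC : CF := ⟨f0, f0_mem⟩

theorem tC_central (c : CF) : tC * c = c * tC :=
  Subtype.ext (mem_CF.mp c.2)

theorem tC_sq : tC ^ 2 = 1 := Subtype.ext f0_sq

theorem tC_ne : tC ≠ 1 := fun h => f0_ne (congrArg Subtype.val h)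

theorem aC_ne : aC ≠ 1 := fun h => aG_ne (congrArg Subtype.val h)

theorem relsP_ok : ∀ r ∈ relsP, FreeGroup.lift ![aC, bC] r = 1 := by
  intro r hr
  simp only [relsP, Set.mem_insert_iff, Set.mem_singleton_iff] at hr
  rcases hr with rfl | rfl | rfl
  · simp only [map_pow, FreeGroup.lift_apply_of, Matrix.cons_val_zero]
    exact Subtype.ext aG_pow
  · simp only [map_pow, FreeGroup.lift_apply_of, Matrix.cons_val_one, Matrix.cons_val_zero]
    exact Subtype.ext bG_pow
  · simp only [map_pow, map_mul, FreeGroup.lift_apply_of, Matrix.cons_val_one,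
      Matrix.cons_val_zero]
    exact Subtype.ext abG_pow

/-- The homomorphism from the presented group into the centralizer. -/
def psiP : PresentedGroup relsP →* CF := PresentedGroup.toGroup relsP_ok

theorem psiP_of0 : psiP (PresentedGroup.of 0) = aC := by
  unfold psiP
  rw [PresentedGroup.toGroup.of]
  rfl

/-- The sign homomorphism on the cyclic group of order 2. -/
def zf : Multiplicative (ZMod 2) →* CF where
  toFun z := tC ^ (Multiplicative.toAdd z).val
  map_one' := by simp
  map_mul' x y := by
    rw [toAdd_mul, ZMod.val_add, ← pow_add, ← pow_eq_pow_mod _ tC_sq]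

theorem centralizer_f0_equiv :
    Nonempty (↥(Subgroup.centralizer ({f0} : Set G1)) ≃*
      Multiplicative (ZMod 2) × ↥(alternatingGroup (Fin 5))) := by
  obtain ⟨e⟩ := Cfsg.Agent.S3377.result
  haveI : IsSimpleGroup (alternatingGroup (Fin 5)) := alternatingGroup.isSimpleGroup (by simp)
  haveI : IsSimpleGroup (PresentedGroup relsP) := e.isSimpleGroup
  have hcardP : Nat.card (PresentedGroup relsP) = 60 := by
    rw [Nat.card_congr e.toEquiv, nat_card_alternatingGroup]
    simp [Nat.factorial]
  -- injectivity of psiP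
  have hker : psiP.ker = ⊥ := by
    rcases psiP.normal_ker.eq_bot_or_eq_top with h | h
    · exact h
    · exfalso
      have : (PresentedGroup.of (0 : Fin 2) : PresentedGroup relsP) ∈ psiP.ker := by
        rw [h]; exact Subgroup.mem_top _
      rw [MonoidHom.mem_ker, psiP_of0] at this
      exact aC_ne this
  have hinj : Function.Injective psiP := (MonoidHom.ker_eq_bot_iff _).mp hker
  have hcen : Subgroup.center (PresentedGroup relsP) = ⊥ := by
    have h5 : Subgroup.center (alternatingGroup (Fin 5)) = ⊥ :=
      alternatingGroup.center_eq_bot (by simp)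
    rw [Subgroup.eq_bot_iff_forall]
    intro x hx
    have : e x ∈ Subgroup.center (alternatingGroup (Fin 5)) := by
      rw [Subgroup.mem_center_iff] at hx ⊢
      intro g
      obtain ⟨g', rfl⟩ := e.surjective g
      rw [← map_mul, ← map_mul, hx g']
    rw [h5, Subgroup.mem_bot] at this
    exact (map_eq_one_iff e e.injective).mp this
  let Ψ : Multiplicative (ZMod 2) × PresentedGroup relsP →* CF :=
    MonoidHom.noncommCoprod zf psiP (fun m n => by
      show zf m * psiP n = psiP n * zf m
      change tC ^ _ * psiP n = psiP n * tC ^ _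
      exact ((Commute.pow_left (tC_central (psiP n)) _).eq))
  have hΨ : ∀ z p, Ψ (z, p) = zf z * psiP p := fun z p => rfl
  have hΨinj : Function.Injective Ψ := by
    rw [injective_iff_map_eq_one]
    rintro ⟨z, p⟩ h
    rw [hΨ] at h
    -- psiP p is a power of tC
    have hp : p ∈ Subgroup.center (PresentedGroup relsP) := by
      rw [Subgroup.mem_center_iff]
      intro q
      apply hinj
      rw [map_mul, map_mul]
      have : psiP p = (zf z)⁻¹ := eq_inv_of_mul_eq_one_right h
      rw [this]
      change psiP q * (tC ^ _)⁻¹ = (tC ^ _)⁻¹ * psiP q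
      exact ((Commute.pow_left (tC_central (psiP q)) _).inv_left.eq).symm
    rw [hcen, Subgroup.mem_bot] at hp
    subst hp
    rw [map_one, mul_one] at h
    have hz : z = 1 := by
      have hz' : ∀ w : ZMod 2, tC ^ w.val = 1 → w = 0 := by
        intro w hw
        fin_cases w
        · rfl
        · exfalso
          apply tC_ne
          have hv : ZMod.val (1 : ZMod 2) = 1 := rfl
          rw [← pow_one tC]
          rw [← hv]
          exact hw
      exact hz' (Multiplicative.toAdd z) h
    rw [hz]
    rfl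
  have hcardD : Nat.card (Multiplicative (ZMod 2) × PresentedGroup relsP) = 120 := by
    rw [Nat.card_prod, hcardP]
    simp
  have hbij : Function.Bijective Ψ := by
    haveI : Finite CF := inferInstance
    haveI : Finite (Multiplicative (ZMod 2) × PresentedGroup relsP) :=
      Nat.finite_of_card_ne_zero (by rw [hcardD]; norm_num)
    rw [Nat.bijective_iff_injective_and_card]
    refine ⟨hΨinj, le_antisymm (Nat.card_le_card_of_injective Ψ hΨinj) ?_⟩
    rw [hcardD]
    exact card_centralizer_le
  exact ⟨(MulEquiv.ofBijective Ψ hbij).symm.trans (MulEquiv.prodCongr (MulEquiv.refl _) e)⟩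

end Cfsg.Agent.Lib.Helper77.J1
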