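import Mathlib
import Cfsg.Prelude.Def_Spor_J1

set_option autoImplicit false
set_option linter.style.haveILetI false

/-! Kernel-friendly 7 x 7 matrices over the integers mod 11 (entries stored as natural numbers),
used for certificate checking in the explicit matrix group J1 inside GL(7, 11). -/

namespace Cfsg.Agent.Lib.Helper77.J1

/-- A row vector of length 7 with natural-number entries. -/
structure V7 where
  a0 : ℕ
  a1 : ℕ
  a2 : ℕ
  a3 : ℕ
  a4 : ℕ
  a5 : ℕ
  a6 : ℕ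
  deriving DecidableEq

/-- A 7 x 7 matrix with natural-number entries, stored by rows. -/
structure M7 where
  r0 : V7
  r1 : V7
  r2 : V7
  r3 : V7
  r4 : V7
  r5 : V7
  r6 : V7
  deriving DecidableEq

namespace M7

/-- Row vector times matrix, reduced mod 11. -/
def rowmul (r : V7) (B : M7) : V7 :=
  ⟨(r.a0 * B.r0.a0 + r.a1 * B.r1.a0 + r.a2 * B.r2.a0 + r.a3 * B.r3.a0 + r.a4 * B.r4.a0 + r.a5 * B.r5.a0 + r.a6 * B.r6.a0) % 11,
   (r.a0 * B.r0.a1 + r.a1 * B.r1.a1 + r.a2 * B.r2.a1 + r.a3 * B.r3.a1 + r.a4 * B.r4.a1 + r.a5 * B.r5.a1 + r.a6 * B.r6.a1) % 11,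
   (r.a0 * B.r0.a2 + r.a1 * B.r1.a2 + r.a2 * B.r2.a2 + r.a3 * B.r3.a2 + r.a4 * B.r4.a2 + r.a5 * B.r5.a2 + r.a6 * B.r6.a2) % 11,
   (r.a0 * B.r0.a3 + r.a1 * B.r1.a3 + r.a2 * B.r2.a3 + r.a3 * B.r3.a3 + r.a4 * B.r4.a3 + r.a5 * B.r5.a3 + r.a6 * B.r6.a3) % 11,
   (r.a0 * B.r0.a4 + r.a1 * B.r1.a4 + r.a2 * B.r2.a4 + r.a3 * B.r3.a4 + r.a4 * B.r4.a4 + r.a5 * B.r5.a4 + r.a6 * B.r6.a4) % 11,
   (r.a0 * B.r0.a5 + r.a1 * B.r1.a5 + r.a2 * B.r2.a5 + r.a3 * B.r3.a5 + r.a4 * B.r4.a5 + r.a5 * B.r5.a5 + r.a6 * B.r6.a5) % 11,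
   (r.a0 * B.r0.a6 + r.a1 * B.r1.a6 + r.a2 * B.r2.a6 + r.a3 * B.r3.a6 + r.a4 * B.r4.a6 + r.a5 * B.r5.a6 + r.a6 * B.r6.a6) % 11⟩

/-- Matrix product, reduced mod 11. -/
def mul (A B : M7) : M7 :=
  ⟨rowmul A.r0 B, rowmul A.r1 B, rowmul A.r2 B, rowmul A.r3 B, rowmul A.r4 B, rowmul A.r5 B, rowmul A.r6 B⟩

/-- The identity matrix. -/
def one : M7 :=
  ⟨⟨1, 0, 0, 0, 0, 0, 0⟩, ⟨0, 1, 0, 0, 0, 0, 0⟩, ⟨0, 0, 1, 0, 0, 0, 0⟩, ⟨0, 0, 0, 1, 0, 0, 0⟩, ⟨0, 0, 0, 0, 1, 0, 0⟩, ⟨0, 0, 0, 0, 0, 1, 0⟩, ⟨0, 0, 0, 0, 0, 0, 1⟩⟩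

/-- The transpose. -/
def tr (A : M7) : M7 :=
  ⟨⟨A.r0.a0, A.r1.a0, A.r2.a0, A.r3.a0, A.r4.a0, A.r5.a0, A.r6.a0⟩, ⟨A.r0.a1, A.r1.a1, A.r2.a1, A.r3.a1, A.r4.a1, A.r5.a1, A.r6.a1⟩, ⟨A.r0.a2, A.r1.a2, A.r2.a2, A.r3.a2, A.r4.a2, A.r5.a2, A.r6.a2⟩, ⟨A.r0.a3, A.r1.a3, A.r2.a3, A.r3.a3, A.r4.a3, A.r5.a3, A.r6.a3⟩, ⟨A.r0.a4, A.r1.a4, A.r2.a4, A.r3.a4, A.r4.a4, A.r5.a4, A.r6.a4⟩, ⟨A.r0.a5, A.r1.a5, A.r2.a5, A.r3.a5, A.r4.a5, A.r5.a5, A.r6.a5⟩, ⟨A.r0.a6, A.r1.a6, A.r2.a6, A.r3.a6, A.r4.a6, A.r5.a6, A.r6.a6⟩⟩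

/-- Unpack a natural number (base 11 digits) into a matrix. -/
def unpack (n : ℕ) : M7 :=
  ⟨⟨n / 1 % 11, n / 11 % 11, n / 121 % 11, n / 1331 % 11, n / 14641 % 11, n / 161051 % 11, n / 1771561 % 11⟩,
   ⟨n / 19487171 % 11, n / 214358881 % 11, n / 2357947691 % 11, n / 25937424601 % 11, n / 285311670611 % 11, n / 3138428376721 % 11, n / 34522712143931 % 11⟩,
   ⟨n / 379749833583241 % 11, n / 4177248169415651 % 11, n / 45949729863572161 % 11, n / 505447028499293771 % 11, n / 5559917313492231481 % 11, n / 61159090448414546291 % 11, n / 672749994932560009201 % 11⟩,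
   ⟨n / 7400249944258160101211 % 11, n / 81402749386839761113321 % 11, n / 895430243255237372246531 % 11, n / 9849732675807611094711841 % 11, n / 108347059433883722041830251 % 11, n / 1191817653772720942460132761 % 11, n / 13109994191499930367061460371 % 11⟩,
   ⟨n / 144209936106499234037676064081 % 11, n / 1586309297171491574414436704891 % 11, n / 17449402268886407318558803753801 % 11, n / 191943424957750480504146841291811 % 11, n / 2111377674535255285545615254209921 % 11, n / 23225154419887808141001767796309131 % 11, n / 255476698618765889551019445759400441 % 11⟩,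
   ⟨n / 2810243684806424785061213903353404851 % 11, n / 30912680532870672635673352936887453361 % 11, n / 340039485861577398992406882305761986971 % 11, n / 3740434344477351388916475705363381856681 % 11, n / 41144777789250865278081232758997200423491 % 11, n / 452592555681759518058893560348969204658401 % 11, n / 4978518112499354698647829163838661251242411 % 11⟩,
   ⟨n / 54763699237492901685126120802225273763666521 % 11, n / 602400691612421918536387328824478011400331731 % 11, n / 6626407607736641103900260617069258125403649041 % 11, n / 72890483685103052142902866787761839379440139451 % 11, n / 801795320536133573571931534665380233173841533961 % 11, n / 8819748525897469309291246881319182564912256873571 % 11, n / 97017233784872162402203715694511008214034825609281 % 11⟩⟩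

/-- The matrix over `ZMod 11` represented by an `M7`. -/
def toMat (A : M7) : Matrix (Fin 7) (Fin 7) (ZMod 11) :=
  ![![(A.r0.a0 : ZMod 11), (A.r0.a1 : ZMod 11), (A.r0.a2 : ZMod 11), (A.r0.a3 : ZMod 11), (A.r0.a4 : ZMod 11), (A.r0.a5 : ZMod 11), (A.r0.a6 : ZMod 11)],
    ![(A.r1.a0 : ZMod 11), (A.r1.a1 : ZMod 11), (A.r1.a2 : ZMod 11), (A.r1.a3 : ZMod 11), (A.r1.a4 : ZMod 11), (A.r1.a5 : ZMod 11), (A.r1.a6 : ZMod 11)],
    ![(A.r2.a0 : ZMod 11), (A.r2.a1 : ZMod 11), (A.r2.a2 : ZMod 11), (A.r2.a3 : ZMod 11), (A.r2.a4 : ZMod 11), (A.r2.a5 : ZMod 11), (A.r2.a6 : ZMod 11)],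
    ![(A.r3.a0 : ZMod 11), (A.r3.a1 : ZMod 11), (A.r3.a2 : ZMod 11), (A.r3.a3 : ZMod 11), (A.r3.a4 : ZMod 11), (A.r3.a5 : ZMod 11), (A.r3.a6 : ZMod 11)],
    ![(A.r4.a0 : ZMod 11), (A.r4.a1 : ZMod 11), (A.r4.a2 : ZMod 11), (A.r4.a3 : ZMod 11), (A.r4.a4 : ZMod 11), (A.r4.a5 : ZMod 11), (A.r4.a6 : ZMod 11)],
    ![(A.r5.a0 : ZMod 11), (A.r5.a1 : ZMod 11), (A.r5.a2 : ZMod 11), (A.r5.a3 : ZMod 11), (A.r5.a4 : ZMod 11), (A.r5.a5 : ZMod 11), (A.r5.a6 : ZMod 11)],
    ![(A.r6.a0 : ZMod 11), (A.r6.a1 : ZMod 11), (A.r6.a2 : ZMod 11), (A.r6.a3 : ZMod 11), (A.r6.a4 : ZMod 11), (A.r6.a5 : ZMod 11), (A.r6.a6 : ZMod 11)]]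

/-- All entries are reduced mod 11. -/
def Valid (A : M7) : Prop :=
  A.r0.a0 < 11 ∧ A.r0.a1 < 11 ∧ A.r0.a2 < 11 ∧ A.r0.a3 < 11 ∧ A.r0.a4 < 11 ∧ A.r0.a5 < 11 ∧ A.r0.a6 < 11 ∧
  A.r1.a0 < 11 ∧ A.r1.a1 < 11 ∧ A.r1.a2 < 11 ∧ A.r1.a3 < 11 ∧ A.r1.a4 < 11 ∧ A.r1.a5 < 11 ∧ A.r1.a6 < 11 ∧
  A.r2.a0 < 11 ∧ A.r2.a1 < 11 ∧ A.r2.a2 < 11 ∧ A.r2.a3 < 11 ∧ A.r2.a4 < 11 ∧ A.r2.a5 < 11 ∧ A.r2.a6 < 11 ∧
  A.r3.a0 < 11 ∧ A.r3.a1 < 11 ∧ A.r3.a2 < 11 ∧ A.r3.a3 < 11 ∧ A.r3.a4 < 11 ∧ A.r3.a5 < 11 ∧ A.r3.a6 < 11 ∧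
  A.r4.a0 < 11 ∧ A.r4.a1 < 11 ∧ A.r4.a2 < 11 ∧ A.r4.a3 < 11 ∧ A.r4.a4 < 11 ∧ A.r4.a5 < 11 ∧ A.r4.a6 < 11 ∧
  A.r5.a0 < 11 ∧ A.r5.a1 < 11 ∧ A.r5.a2 < 11 ∧ A.r5.a3 < 11 ∧ A.r5.a4 < 11 ∧ A.r5.a5 < 11 ∧ A.r5.a6 < 11 ∧
  A.r6.a0 < 11 ∧ A.r6.a1 < 11 ∧ A.r6.a2 < 11 ∧ A.r6.a3 < 11 ∧ A.r6.a4 < 11 ∧ A.r6.a5 < 11 ∧ A.r6.a6 < 11



theorem toMat_apply_rowmul (r : V7) (B : M7) :
    ![((rowmul r B).a0 : ZMod 11), (rowmul r B).a1, (rowmul r B).a2, (rowmul r B).a3,
      (rowmul r B).a4, (rowmul r B).a5, (rowmul r B).a6] =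
    Matrix.vecMul ![(r.a0 : ZMod 11), r.a1, r.a2, r.a3, r.a4, r.a5, r.a6] (toMat B) := by
  ext j
  fin_cases j <;>
    simp [rowmul, toMat, Matrix.vecMul, dotProduct, Fin.sum_univ_succ, ZMod.natCast_mod] <;> ring

theorem toMat_mul (A B : M7) : toMat (mul A B) = toMat A * toMat B := by
  apply Matrix.ext
  intro i j
  rw [Matrix.mul_apply_eq_vecMul]
  fin_cases i
  · exact congrFun (toMat_apply_rowmul A.r0 B) j
  · exact congrFun (toMat_apply_rowmul A.r1 B) j
  · exact congrFun (toMat_apply_rowmul A.r2 B) j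
  · exact congrFun (toMat_apply_rowmul A.r3 B) j
  · exact congrFun (toMat_apply_rowmul A.r4 B) j
  · exact congrFun (toMat_apply_rowmul A.r5 B) j
  · exact congrFun (toMat_apply_rowmul A.r6 B) j

theorem toMat_one : toMat one = 1 := by
  ext i j
  fin_cases i <;> fin_cases j <;> simp [toMat, one]

theorem toMat_tr (A : M7) : toMat (tr A) = (toMat A).transpose := by
  ext i j
  rw [Matrix.transpose_apply]
  fin_cases i <;> fin_cases j <;> simp [toMat, tr]


theorem natCast_inj_of_lt {a b : ℕ} (ha : a < 11) (hb : b < 11)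
    (h : (a : ZMod 11) = (b : ZMod 11)) : a = b := by
  have := congrArg ZMod.val h
  rwa [ZMod.val_natCast_of_lt ha, ZMod.val_natCast_of_lt hb] at this

theorem valid_one : Valid one := by
  unfold Valid one
  decide

theorem valid_mul (A B : M7) : Valid (mul A B) := by
  unfold Valid mul rowmul
  refine ⟨?_, ?_, ?_, ?_, ?_, ?_, ?_, ?_, ?_, ?_, ?_, ?_, ?_, ?_, ?_, ?_, ?_, ?_, ?_, ?_, ?_, ?_, ?_, ?_, ?_, ?_, ?_, ?_, ?_, ?_, ?_, ?_, ?_, ?_, ?_, ?_, ?_, ?_, ?_, ?_, ?_, ?_, ?_, ?_, ?_, ?_, ?_, ?_, ?_⟩ <;> exact Nat.mod_lt _ (by norm_num)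

theorem valid_unpack (n : ℕ) : Valid (unpack n) := by
  unfold Valid unpack
  refine ⟨?_, ?_, ?_, ?_, ?_, ?_, ?_, ?_, ?_, ?_, ?_, ?_, ?_, ?_, ?_, ?_, ?_, ?_, ?_, ?_, ?_, ?_, ?_, ?_, ?_, ?_, ?_, ?_, ?_, ?_, ?_, ?_, ?_, ?_, ?_, ?_, ?_, ?_, ?_, ?_, ?_, ?_, ?_, ?_, ?_, ?_, ?_, ?_, ?_⟩ <;> exact Nat.mod_lt _ (by norm_num)

theorem toMat_inj {A B : M7} (hA : Valid A) (hB : Valid B) (h : toMat A = toMat B) : A = B := by
  obtain ⟨⟨a00, a01, a02, a03, a04, a05, a06⟩, ⟨a10, a11, a12, a13, a14, a15, a16⟩, ⟨a20, a21, a22, a23, a24, a25, a26⟩, ⟨a30, a31, a32, a33, a34, a35, a36⟩, ⟨a40, a41, a42, a43, a44, a45, a46⟩, ⟨a50, a51, a52, a53, a54, a55, a56⟩, ⟨a60, a61, a62, a63, a64, a65, a66⟩⟩ := A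
  obtain ⟨⟨b00, b01, b02, b03, b04, b05, b06⟩, ⟨b10, b11, b12, b13, b14, b15, b16⟩, ⟨b20, b21, b22, b23, b24, b25, b26⟩, ⟨b30, b31, b32, b33, b34, b35, b36⟩, ⟨b40, b41, b42, b43, b44, b45, b46⟩, ⟨b50, b51, b52, b53, b54, b55, b56⟩, ⟨b60, b61, b62, b63, b64, b65, b66⟩⟩ := B
  obtain ⟨ha00, ha01, ha02, ha03, ha04, ha05, ha06, ha10, ha11, ha12, ha13, ha14, ha15, ha16, ha20, ha21, ha22, ha23, ha24, ha25, ha26, ha30, ha31, ha32, ha33, ha34, ha35, ha36, ha40, ha41, ha42, ha43, ha44, ha45, ha46, ha50, ha51, ha52, ha53, ha54, ha55, ha56, ha60, ha61, ha62, ha63, ha64, ha65, ha66⟩ := hA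
  obtain ⟨hb00, hb01, hb02, hb03, hb04, hb05, hb06, hb10, hb11, hb12, hb13, hb14, hb15, hb16, hb20, hb21, hb22, hb23, hb24, hb25, hb26, hb30, hb31, hb32, hb33, hb34, hb35, hb36, hb40, hb41, hb42, hb43, hb44, hb45, hb46, hb50, hb51, hb52, hb53, hb54, hb55, hb56, hb60, hb61, hb62, hb63, hb64, hb65, hb66⟩ := hB
  have e00 : a00 = b00 := natCast_inj_of_lt ha00 hb00 (by simpa [toMat] using congrFun (congrFun h 0) 0)
  have e01 : a01 = b01 := natCast_inj_of_lt ha01 hb01 (by simpa [toMat] using congrFun (congrFun h 0) 1)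
  have e02 : a02 = b02 := natCast_inj_of_lt ha02 hb02 (by simpa [toMat] using congrFun (congrFun h 0) 2)
  have e03 : a03 = b03 := natCast_inj_of_lt ha03 hb03 (by simpa [toMat] using congrFun (congrFun h 0) 3)
  have e04 : a04 = b04 := natCast_inj_of_lt ha04 hb04 (by simpa [toMat] using congrFun (congrFun h 0) 4)
  have e05 : a05 = b05 := natCast_inj_of_lt ha05 hb05 (by simpa [toMat] using congrFun (congrFun h 0) 5)
  have e06 : a06 = b06 := natCast_inj_of_lt ha06 hb06 (by simpa [toMat] using congrFun (congrFun h 0) 6)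
  have e10 : a10 = b10 := natCast_inj_of_lt ha10 hb10 (by simpa [toMat] using congrFun (congrFun h 1) 0)
  have e11 : a11 = b11 := natCast_inj_of_lt ha11 hb11 (by simpa [toMat] using congrFun (congrFun h 1) 1)
  have e12 : a12 = b12 := natCast_inj_of_lt ha12 hb12 (by simpa [toMat] using congrFun (congrFun h 1) 2)
  have e13 : a13 = b13 := natCast_inj_of_lt ha13 hb13 (by simpa [toMat] using congrFun (congrFun h 1) 3)
  have e14 : a14 = b14 := natCast_inj_of_lt ha14 hb14 (by simpa [toMat] using congrFun (congrFun h 1) 4)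
  have e15 : a15 = b15 := natCast_inj_of_lt ha15 hb15 (by simpa [toMat] using congrFun (congrFun h 1) 5)
  have e16 : a16 = b16 := natCast_inj_of_lt ha16 hb16 (by simpa [toMat] using congrFun (congrFun h 1) 6)
  have e20 : a20 = b20 := natCast_inj_of_lt ha20 hb20 (by simpa [toMat] using congrFun (congrFun h 2) 0)
  have e21 : a21 = b21 := natCast_inj_of_lt ha21 hb21 (by simpa [toMat] using congrFun (congrFun h 2) 1)
  have e22 : a22 = b22 := natCast_inj_of_lt ha22 hb22 (by simpa [toMat] using congrFun (congrFun h 2) 2)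
  have e23 : a23 = b23 := natCast_inj_of_lt ha23 hb23 (by simpa [toMat] using congrFun (congrFun h 2) 3)
  have e24 : a24 = b24 := natCast_inj_of_lt ha24 hb24 (by simpa [toMat] using congrFun (congrFun h 2) 4)
  have e25 : a25 = b25 := natCast_inj_of_lt ha25 hb25 (by simpa [toMat] using congrFun (congrFun h 2) 5)
  have e26 : a26 = b26 := natCast_inj_of_lt ha26 hb26 (by simpa [toMat] using congrFun (congrFun h 2) 6)
  have e30 : a30 = b30 := natCast_inj_of_lt ha30 hb30 (by simpa [toMat] using congrFun (congrFun h 3) 0)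
  have e31 : a31 = b31 := natCast_inj_of_lt ha31 hb31 (by simpa [toMat] using congrFun (congrFun h 3) 1)
  have e32 : a32 = b32 := natCast_inj_of_lt ha32 hb32 (by simpa [toMat] using congrFun (congrFun h 3) 2)
  have e33 : a33 = b33 := natCast_inj_of_lt ha33 hb33 (by simpa [toMat] using congrFun (congrFun h 3) 3)
  have e34 : a34 = b34 := natCast_inj_of_lt ha34 hb34 (by simpa [toMat] using congrFun (congrFun h 3) 4)
  have e35 : a35 = b35 := natCast_inj_of_lt ha35 hb35 (by simpa [toMat] using congrFun (congrFun h 3) 5)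
  have e36 : a36 = b36 := natCast_inj_of_lt ha36 hb36 (by simpa [toMat] using congrFun (congrFun h 3) 6)
  have e40 : a40 = b40 := natCast_inj_of_lt ha40 hb40 (by simpa [toMat] using congrFun (congrFun h 4) 0)
  have e41 : a41 = b41 := natCast_inj_of_lt ha41 hb41 (by simpa [toMat] using congrFun (congrFun h 4) 1)
  have e42 : a42 = b42 := natCast_inj_of_lt ha42 hb42 (by simpa [toMat] using congrFun (congrFun h 4) 2)
  have e43 : a43 = b43 := natCast_inj_of_lt ha43 hb43 (by simpa [toMat] using congrFun (congrFun h 4) 3)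
  have e44 : a44 = b44 := natCast_inj_of_lt ha44 hb44 (by simpa [toMat] using congrFun (congrFun h 4) 4)
  have e45 : a45 = b45 := natCast_inj_of_lt ha45 hb45 (by simpa [toMat] using congrFun (congrFun h 4) 5)
  have e46 : a46 = b46 := natCast_inj_of_lt ha46 hb46 (by simpa [toMat] using congrFun (congrFun h 4) 6)
  have e50 : a50 = b50 := natCast_inj_of_lt ha50 hb50 (by simpa [toMat] using congrFun (congrFun h 5) 0)
  have e51 : a51 = b51 := natCast_inj_of_lt ha51 hb51 (by simpa [toMat] using congrFun (congrFun h 5) 1)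
  have e52 : a52 = b52 := natCast_inj_of_lt ha52 hb52 (by simpa [toMat] using congrFun (congrFun h 5) 2)
  have e53 : a53 = b53 := natCast_inj_of_lt ha53 hb53 (by simpa [toMat] using congrFun (congrFun h 5) 3)
  have e54 : a54 = b54 := natCast_inj_of_lt ha54 hb54 (by simpa [toMat] using congrFun (congrFun h 5) 4)
  have e55 : a55 = b55 := natCast_inj_of_lt ha55 hb55 (by simpa [toMat] using congrFun (congrFun h 5) 5)
  have e56 : a56 = b56 := natCast_inj_of_lt ha56 hb56 (by simpa [toMat] using congrFun (congrFun h 5) 6)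
  have e60 : a60 = b60 := natCast_inj_of_lt ha60 hb60 (by simpa [toMat] using congrFun (congrFun h 6) 0)
  have e61 : a61 = b61 := natCast_inj_of_lt ha61 hb61 (by simpa [toMat] using congrFun (congrFun h 6) 1)
  have e62 : a62 = b62 := natCast_inj_of_lt ha62 hb62 (by simpa [toMat] using congrFun (congrFun h 6) 2)
  have e63 : a63 = b63 := natCast_inj_of_lt ha63 hb63 (by simpa [toMat] using congrFun (congrFun h 6) 3)
  have e64 : a64 = b64 := natCast_inj_of_lt ha64 hb64 (by simpa [toMat] using congrFun (congrFun h 6) 4)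
  have e65 : a65 = b65 := natCast_inj_of_lt ha65 hb65 (by simpa [toMat] using congrFun (congrFun h 6) 5)
  have e66 : a66 = b66 := natCast_inj_of_lt ha66 hb66 (by simpa [toMat] using congrFun (congrFun h 6) 6)
  subst e00 e01 e02 e03 e04 e05 e06 e10 e11 e12 e13 e14 e15 e16 e20 e21 e22 e23 e24 e25 e26 e30 e31 e32 e33 e34 e35 e36 e40 e41 e42 e43 e44 e45 e46 e50 e51 e52 e53 e54 e55 e56 e60 e61 e62 e63 e64 e65 e66
  rfl


end M7


open M7

/-- The ambient group GL(7, 11). -/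
abbrev Γ : Type := GL (Fin 7) (ZMod 11)

/-- The group element `g` has matrix `toMat a`. -/
def Rep (g : Γ) (a : M7) : Prop := (g : Matrix (Fin 7) (Fin 7) (ZMod 11)) = toMat a

theorem Rep.one : Rep 1 M7.one := by
  unfold Rep
  rw [Units.val_one, toMat_one]

theorem Rep.mul {g h : Γ} {a b : M7} (hg : Rep g a) (hh : Rep h b) :
    Rep (g * h) (M7.mul a b) := by
  unfold Rep at *
  rw [Units.val_mul, hg, hh, toMat_mul]

theorem Rep.ext {g h : Γ} {a : M7} (hg : Rep g a) (hh : Rep h a) : g = h :=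
  Units.ext (hg.trans hh.symm)

theorem Rep.inv {g : Γ} {a : M7} (hg : Rep g a) (ho : M7.mul a (tr a) = M7.one) :
    Rep g⁻¹ (tr a) := by
  unfold Rep at *
  have h1 : (g : Matrix (Fin 7) (Fin 7) (ZMod 11)) * toMat (tr a) = 1 := by
    rw [hg, ← toMat_mul, ho, toMat_one]
  exact Units.inv_eq_of_mul_eq_one_right h1

theorem Rep.eq_of_valid {g : Γ} {a b : M7} (ha : Valid a) (hb : Valid b) (hg : Rep g a)
    (hh : Rep g b) : a = b :=
  toMat_inj ha hb (hg.symm.trans hh)

/-- Evaluate a word (list of generator indices) in matrices. -/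
def evalW (gens : List M7) (w : List ℕ) : M7 :=
  w.foldl (fun acc i => mul acc (gens.getD i one)) one

/-- Evaluate a word in the group. -/
def gw (gs : List Γ) (w : List ℕ) : Γ :=
  w.foldl (fun acc i => acc * gs.getD i 1) 1

theorem rep_foldl (gs : List Γ) (ms : List M7)
    (h : ∀ i, Rep (gs.getD i 1) (ms.getD i one)) (w : List ℕ) (g : Γ) (a : M7) (hga : Rep g a) :
    Rep (w.foldl (fun acc i => acc * gs.getD i 1) g)
      (w.foldl (fun acc i => mul acc (ms.getD i one)) a) := by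
  induction w generalizing g a with
  | nil => exact hga
  | cons i w ih => exact ih _ _ (hga.mul (h i))

theorem rep_gw (gs : List Γ) (ms : List M7)
    (h : ∀ i, Rep (gs.getD i 1) (ms.getD i one)) (w : List ℕ) :
    Rep (gw gs w) (evalW ms w) :=
  rep_foldl gs ms h w 1 one Rep.one

theorem foldl_mem (K : Subgroup Γ) (gs : List Γ) (h : ∀ g ∈ gs, g ∈ K) (w : List ℕ) (g : Γ)
    (hg : g ∈ K) : w.foldl (fun acc i => acc * gs.getD i 1) g ∈ K := by
  induction w generalizing g with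
  | nil => exact hg
  | cons i w ih =>
    refine ih _ (K.mul_mem hg ?_)
    by_cases hi : i < gs.length
    · rw [List.getD_eq_getElem _ _ hi]
      exact h _ (List.getElem_mem hi)
    · rw [List.getD_eq_default _ _ (by omega)]
      exact K.one_mem

theorem gw_mem (K : Subgroup Γ) (gs : List Γ) (h : ∀ g ∈ gs, g ∈ K) (w : List ℕ) :
    gw gs w ∈ K :=
  foldl_mem K gs h w 1 K.one_mem

theorem valid_evalW (ms : List M7) (w : List ℕ) : Valid (evalW ms w) := by
  unfold evalW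
  induction w using List.reverseRecOn with
  | nil => exact valid_one
  | append_singleton w i _ =>
    rw [List.foldl_append]
    exact valid_mul _ _

/-- Schreier-type closure lemma: if `K * T` contains `1` and is stable under right multiplication
by the generators, it contains the generated subgroup. -/
theorem closure_subset_mul (S : Set Γ) (K : Subgroup Γ) (T : Set Γ) (h1 : (1 : Γ) ∈ T)
    (hstep : ∀ u ∈ T, ∀ s ∈ S, ∃ k ∈ K, ∃ u' ∈ T, u * s = k * u') (g : Γ)
    (hg : g ∈ Subgroup.closure S) : ∃ k ∈ K, ∃ u ∈ T, g = k * u := by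
  have hg' : g ∈ Submonoid.closure S := by
    rw [← Subgroup.closure_toSubmonoid_of_finite]
    exact hg
  induction hg' using Submonoid.closure_induction_right with
  | one => exact ⟨1, K.one_mem, 1, h1, by simp⟩
  | mul_right x _ y hy ih =>
    obtain ⟨k, hk, u, hu, rfl⟩ := ih (by
      rw [← Subgroup.mem_toSubmonoid, Subgroup.closure_toSubmonoid_of_finite]; assumption)
    obtain ⟨k', hk', u', hu', e⟩ := hstep u hu y hy
    exact ⟨k * k', K.mul_mem hk hk', u', hu', by rw [mul_assoc, e, mul_assoc]⟩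

/-- Every element of the generated subgroup is `k * u` with `k` in the lower subgroup and `u`
represented by a table entry. -/
theorem closure_subset_rep (gsS : List Γ) (msS : List M7)
    (hS : ∀ i, Rep (gsS.getD i 1) (msS.getD i one))
    (gsK : List Γ) (msK : List M7) (hK : ∀ i, Rep (gsK.getD i 1) (msK.getD i one))
    (n : ℕ) (U : ℕ → M7) (cert : ℕ → ℕ → List ℕ × ℕ) (hn : 0 < n) (hU0 : U 0 = one)
    (hchk : ∀ m < n, ∀ s < gsS.length, (cert m s).2 < n ∧
      mul (U m) (msS.getD s one) = mul (evalW msK (cert m s).1) (U (cert m s).2))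
    (g : Γ) (hg : g ∈ Subgroup.closure {g | g ∈ gsS}) :
    ∃ k ∈ Subgroup.closure {g | g ∈ gsK}, ∃ m < n, Rep (k⁻¹ * g) (U m) := by
  classical
  set K : Subgroup Γ := Subgroup.closure {g | g ∈ gsK} with hKdef
  set T : Set Γ := {g | ∃ m < n, Rep g (U m)} with hTdef
  have h1 : (1 : Γ) ∈ T := ⟨0, hn, by rw [hU0]; exact Rep.one⟩
  have hstep : ∀ u ∈ T, ∀ s ∈ {g | g ∈ gsS}, ∃ k ∈ K, ∃ u' ∈ T, u * s = k * u' := by
    rintro u ⟨m, hm, hu⟩ s hs
    obtain ⟨i, hi, rfl⟩ := List.getElem_of_mem hs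
    have hsi : Rep gsS[i] (msS.getD i one) := by
      have := hS i
      rwa [List.getD_eq_getElem _ _ hi] at this
    obtain ⟨hlt, heq⟩ := hchk m hm i hi
    set w := (cert m i).1
    set m' := (cert m i).2
    have hk : gw gsK w ∈ K := gw_mem K gsK (fun g hg => Subgroup.subset_closure hg) w
    have hkr : Rep (gw gsK w) (evalW msK w) := rep_gw gsK msK hK w
    refine ⟨gw gsK w, hk, (gw gsK w)⁻¹ * (u * gsS[i]), ⟨m', hlt, ?_⟩, by group⟩
    unfold Rep
    have h2 : ((u * gsS[i] : Γ) : Matrix (Fin 7) (Fin 7) (ZMod 11)) =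
        ((gw gsK w : Γ) : Matrix (Fin 7) (Fin 7) (ZMod 11)) * toMat (U m') := by
      have := hu.mul hsi
      unfold Rep at this
      rw [this, heq, toMat_mul, ← hkr]
    rw [Units.val_mul, h2, ← mul_assoc, ← Units.val_mul, inv_mul_cancel, Units.val_one, one_mul]
  obtain ⟨k, hk, u, ⟨m, hm, hu⟩, rfl⟩ := closure_subset_mul {g | g ∈ gsS} K T h1 hstep g hg
  exact ⟨k, hk, m, hm, by simpa using hu⟩

/-- The level bound: a certificate table bounds the order of a generated subgroup by the order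
of another generated subgroup times the number of coset representatives. -/
theorem card_closure_le (gsS : List Γ) (msS : List M7)
    (hS : ∀ i, Rep (gsS.getD i 1) (msS.getD i one))
    (gsK : List Γ) (msK : List M7) (hK : ∀ i, Rep (gsK.getD i 1) (msK.getD i one))
    (n : ℕ) (U : ℕ → M7) (cert : ℕ → ℕ → List ℕ × ℕ) (hn : 0 < n) (hU0 : U 0 = one)
    (hchk : ∀ m < n, ∀ s < gsS.length, (cert m s).2 < n ∧
      mul (U m) (msS.getD s one) = mul (evalW msK (cert m s).1) (U (cert m s).2)) :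
    Nat.card (Subgroup.closure {g | g ∈ gsS}) ≤ Nat.card (Subgroup.closure {g | g ∈ gsK}) * n := by
  classical
  have hex : ∀ g : Subgroup.closure {g | g ∈ gsS},
      ∃ p : (Subgroup.closure {g | g ∈ gsK}) × Fin n,
      Rep ((p.1 : Γ)⁻¹ * (g : Γ)) (U p.2) := by
    rintro ⟨g, hg⟩
    obtain ⟨k, hk, m, hm, hu⟩ := closure_subset_rep gsS msS hS gsK msK hK n U cert hn hU0 hchk g hg
    exact ⟨(⟨k, hk⟩, ⟨m, hm⟩), hu⟩
  choose f hf using hex
  have hinj : Function.Injective f := by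
    intro g g' hgg
    have h1 := hf g
    have h2 := hf g'
    rw [hgg] at h1
    have := h1.ext h2
    exact Subtype.ext (by simpa using this)
  have := Nat.card_le_card_of_injective f hinj
  rwa [Nat.card_prod, Nat.card_fin] at this

theorem closure_nil_card : Nat.card (Subgroup.closure {g : Γ | g ∈ ([] : List Γ)}) = 1 := by
  have : {g : Γ | g ∈ ([] : List Γ)} = ∅ := by ext; simp
  rw [this, Subgroup.closure_empty]
  exact Subgroup.card_bot

/-- With trivial lower subgroup, every element of the generated subgroup is a table entry. -/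
theorem exists_rep_of_mem_closure (gsS : List Γ) (msS : List M7)
    (hS : ∀ i, Rep (gsS.getD i 1) (msS.getD i one))
    (n : ℕ) (U : ℕ → M7) (cert : ℕ → ℕ → List ℕ × ℕ) (hn : 0 < n) (hU0 : U 0 = one)
    (hchk : ∀ m < n, ∀ s < gsS.length, (cert m s).2 < n ∧
      mul (U m) (msS.getD s one) = mul (evalW [] (cert m s).1) (U (cert m s).2))
    (g : Γ) (hg : g ∈ Subgroup.closure {g | g ∈ gsS}) : ∃ m < n, Rep g (U m) := by
  obtain ⟨k, hk, m, hm, hu⟩ := closure_subset_rep gsS msS hS [] []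
    (fun i => by simpa using Rep.one) n U cert hn hU0 hchk g hg
  have : {g : Γ | g ∈ ([] : List Γ)} = ∅ := by ext; simp
  rw [this, Subgroup.closure_empty, Subgroup.mem_bot] at hk
  subst hk
  exact ⟨m, hm, by simpa using hu⟩

/-- Exact order of a subgroup generated by a list, from a closed duplicate-free table. -/
theorem card_closure_eq (gsS : List Γ) (msS : List M7)
    (hS : ∀ i, Rep (gsS.getD i 1) (msS.getD i one))
    (n : ℕ) (U : ℕ → M7) (cert : ℕ → ℕ → List ℕ × ℕ) (words : ℕ → List ℕ)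
    (hn : 0 < n) (hU0 : U 0 = one)
    (hchk : ∀ m < n, ∀ s < gsS.length, (cert m s).2 < n ∧
      mul (U m) (msS.getD s one) = mul (evalW [] (cert m s).1) (U (cert m s).2))
    (hwords : ∀ m < n, U m = evalW msS (words m))
    (hnodup : ∀ m < n, ∀ m' < n, U m = U m' → m = m') :
    Nat.card (Subgroup.closure {g | g ∈ gsS}) = n := by
  classical
  apply le_antisymm
  · have := card_closure_le gsS msS hS [] [] (fun i => by simpa using Rep.one) n U cert hn hU0 hchk
    rwa [closure_nil_card, one_mul] at this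
  · have hmem : ∀ m : Fin n, gw gsS (words m) ∈ Subgroup.closure {g | g ∈ gsS} := fun m =>
      gw_mem _ gsS (fun g hg => Subgroup.subset_closure hg) _
    let f : Fin n → Subgroup.closure {g | g ∈ gsS} := fun m => ⟨gw gsS (words m), hmem m⟩
    have hinj : Function.Injective f := by
      intro m m' h
      have h' : gw gsS (words m) = gw gsS (words m') := congrArg Subtype.val h
      have r1 := rep_gw gsS msS hS (words m)
      have r2 := rep_gw gsS msS hS (words m')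
      rw [h'] at r1
      have e := Rep.eq_of_valid (valid_evalW _ _) (valid_evalW _ _) r1 r2
      rw [← hwords m m.2, ← hwords m' m'.2] at e
      exact Fin.ext (hnodup m m.2 m' m'.2 e)
    have := Nat.card_le_card_of_injective f hinj
    rwa [Nat.card_fin] at this


/-- The conjugate `W⁻¹ a W` where `W` is a word in orthogonal generators. -/
def conjM (gens : List M7) (a : M7) (W : List ℕ) : M7 :=
  mul (mul (tr (evalW gens W)) a) (evalW gens W)

/-- A product of conjugates of `a`. -/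
def prodConj (gens : List M7) (a : M7) (Ws : List (List ℕ)) : M7 :=
  Ws.foldl (fun acc W => mul acc (conjM gens a W)) one

/-- The word `W` evaluates to an orthogonal matrix. -/
def OrthW (gens : List M7) (W : List ℕ) : Prop :=
  mul (evalW gens W) (tr (evalW gens W)) = one

instance (gens : List M7) (W : List ℕ) : Decidable (OrthW gens W) := by
  unfold OrthW; infer_instance

/-- A subgroup stable under conjugation by the generated group contains every certified product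
of conjugates of one of its elements. -/
theorem mem_of_prodConj (gs : List Γ) (ms : List M7)
    (h : ∀ i, Rep (gs.getD i 1) (ms.getD i one)) (N : Subgroup Γ)
    (hN : ∀ n ∈ N, ∀ c ∈ Subgroup.closure {g | g ∈ gs}, c⁻¹ * n * c ∈ N)
    (γ : Γ) (a : M7) (hγ : γ ∈ N) (hγa : Rep γ a) (Ws : List (List ℕ))
    (horth : ∀ W ∈ Ws, OrthW ms W) (β : Γ) (hβ : Rep β (prodConj ms a Ws)) : β ∈ N := by
  have key : ∀ (Ws : List (List ℕ)), (∀ W ∈ Ws, OrthW ms W) → ∀ (g : Γ) (b : M7), g ∈ N →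
      Rep g b → ∃ g' ∈ N, Rep g' (Ws.foldl (fun acc W => mul acc (conjM ms a W)) b) := by
    intro Ws
    induction Ws with
    | nil => intro _ g b hg hb; exact ⟨g, hg, hb⟩
    | cons W Ws ih =>
      intro ho g b hg hb
      have hW : OrthW ms W := ho W (List.mem_cons_self ..)
      have hc : gw gs W ∈ Subgroup.closure {g | g ∈ gs} :=
        gw_mem _ gs (fun g hg => Subgroup.subset_closure hg) W
      have hcr : Rep (gw gs W) (evalW ms W) := rep_gw gs ms h W
      have hci : Rep (gw gs W)⁻¹ (tr (evalW ms W)) := hcr.inv hW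
      have hconj : Rep ((gw gs W)⁻¹ * γ * gw gs W) (conjM ms a W) := (hci.mul hγa).mul hcr
      exact ih (fun W' hW' => ho W' (List.mem_cons_of_mem _ hW')) _ _
        (N.mul_mem hg (hN γ hγ _ hc)) (hb.mul hconj)
  obtain ⟨g', hg', hr⟩ := key Ws horth 1 one N.one_mem Rep.one
  have : β = g' := hβ.ext hr
  rw [this]; exact hg'

/-- Power of a matrix as a word evaluation. -/
def powM (a : M7) (k : ℕ) : M7 := evalW [a] (List.replicate k 0)

theorem gw_replicate (g : Γ) (k : ℕ) : gw [g] (List.replicate k 0) = g ^ k := by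
  unfold gw
  induction k with
  | zero => simp
  | succ k ih =>
    rw [List.replicate_succ', List.foldl_append]
    simp only [List.foldl_cons, List.foldl_nil, List.getD_cons_zero]
    rw [ih, pow_succ]

theorem rep_pow {g : Γ} {a : M7} (h : Rep g a) (k : ℕ) : Rep (g ^ k) (powM a k) := by
  have h' : ∀ i, Rep (([g] : List Γ).getD i 1) (([a] : List M7).getD i one) := by
    intro i
    match i with
    | 0 => simpa using h
    | (i + 1) => simpa using Rep.one
  have := rep_gw [g] [a] h' (List.replicate k 0)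
  rwa [gw_replicate] at this

theorem orderOf_eq_of_rep {g : Γ} {a : M7} (h : Rep g a) (p : ℕ) (hp : p.Prime)
    (hpow : powM a p = one) (hne : a ≠ one) (hv : Valid a) : orderOf g = p := by
  haveI := Fact.mk hp
  apply orderOf_eq_prime
  · have := rep_pow h p
    rw [hpow] at this
    exact this.ext Rep.one
  · intro h1
    rw [h1] at h
    exact hne (Rep.eq_of_valid hv valid_one h Rep.one)

end Cfsg.Agent.Lib.Helper77.J1
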