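import Cfsg.Agent.Lib.Helper77.J1Data

set_option autoImplicit false
set_option linter.style.haveILetI false

/-! The order of the matrix group J1 is 175560, from kernel-checked certificate tables. -/

namespace Cfsg.Agent.Lib.Helper77.J1

open M7

theorem rep_X : Rep Cfsg.Spor.jankoX sx := by
  unfold Rep
  show Cfsg.jankoMatrixX = toMat sx
  decide +kernel

theorem rep_Y : Rep Cfsg.Spor.jankoY sy := by
  unfold Rep
  show Cfsg.jankoMatrixY = toMat sy
  decide +kernel

/-- The two generators as a list. -/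
def gens0 : List Γ := [Cfsg.Spor.jankoX, Cfsg.Spor.jankoY]

theorem hS0 : ∀ i, Rep (gens0.getD i 1) (S0.getD i one) := by
  intro i
  match i with
  | 0 => exact rep_X
  | 1 => exact rep_Y
  | (i + 2) => simpa [gens0, S0] using Rep.one

theorem J1_eq : Cfsg.Spor.J1 = Subgroup.closure {g | g ∈ gens0} := by
  unfold Cfsg.Spor.J1
  congr 1
  ext g
  simp [gens0]

/-- The group element of a word in the two generators. -/
def γ (w : List ℕ) : Γ := gw gens0 w

theorem γ_mem (w : List ℕ) : γ w ∈ Cfsg.Spor.J1 := by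
  rw [J1_eq]
  exact gw_mem _ gens0 (fun g hg => Subgroup.subset_closure hg) w

theorem rep_γ (w : List ℕ) : Rep (γ w) (evalW S0 w) := rep_gw gens0 S0 hS0 w

attribute [irreducible] γ

/-- Generators of the level-1 subgroup. -/
def gens1 : List Γ := [γ w11, γ w5, γ wz]

theorem hS1 : ∀ i, Rep (gens1.getD i 1) (S1.getD i one) := by
  intro i
  match i with
  | 0 => have := rep_γ w11; rwa [m11_eq] at this
  | 1 => have := rep_γ w5; rwa [m5_eq] at this
  | 2 => have := rep_γ wz; rwa [mz_eq] at this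
  | (i + 3) => simpa [gens1, S1] using Rep.one

/-- Generators of the level-2 subgroup. -/
def gens2 : List Γ := [γ w11, γ w5]

theorem hS2 : ∀ i, Rep (gens2.getD i 1) (S2.getD i one) := by
  intro i
  match i with
  | 0 => have := rep_γ w11; rwa [m11_eq] at this
  | 1 => have := rep_γ w5; rwa [m5_eq] at this
  | (i + 2) => simpa [gens2, S2] using Rep.one

theorem hS_nil : ∀ i, Rep (([] : List Γ).getD i 1) (([] : List M7).getD i one) := by
  intro i; simpa using Rep.one

theorem card_J1_le : Nat.card Cfsg.Spor.J1 ≤ 175560 := by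
  have h0 := card_closure_le gens0 S0 hS0 gens1 S1 hS1 266 U0 cert0 (by norm_num) U0_zero
    (fun m hm s hs => chk0 m hm s hs)
  have h1 := card_closure_le gens1 S1 hS1 gens2 S2 hS2 12 U1 cert1 (by norm_num) U1_zero
    (fun m hm s hs => chk1 m hm s hs)
  have h2 := card_closure_le gens2 S2 hS2 [] [] hS_nil 55 T2 cert2 (by norm_num) T2_zero
    (fun m hm s hs => chk2 m hm s hs)
  rw [closure_nil_card, one_mul] at h2
  rw [J1_eq]
  calc Nat.card (Subgroup.closure {g | g ∈ gens0})
      ≤ Nat.card (Subgroup.closure {g | g ∈ gens1}) * 266 := h0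
    _ ≤ (Nat.card (Subgroup.closure {g | g ∈ gens2}) * 12) * 266 := Nat.mul_le_mul_right _ h1
    _ ≤ (55 * 12) * 266 := Nat.mul_le_mul_right _ (Nat.mul_le_mul_right _ h2)
    _ = 175560 := by norm_num

theorem valid_unpack' (n : ℕ) : Valid (unpack n) := valid_unpack n

theorem orderOf_X : orderOf Cfsg.Spor.jankoX = 7 :=
  orderOf_eq_of_rep rep_X 7 (by norm_num) pow_sx ne_sx (by unfold Valid; decide +kernel)

theorem orderOf_Y : orderOf Cfsg.Spor.jankoY = 5 :=
  orderOf_eq_of_rep rep_Y 5 (by norm_num) pow_sy ne_sy (by unfold Valid; decide +kernel)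

theorem rep_g3 : Rep (γ w3) m3 := by have := rep_γ w3; rwa [m3_eq] at this
theorem rep_g11 : Rep (γ w11) m11 := by have := rep_γ w11; rwa [m11_eq] at this
theorem rep_g19 : Rep (γ w19) m19 := by have := rep_γ w19; rwa [m19_eq] at this
theorem rep_t1 : Rep (γ wt1) mt1 := by have := rep_γ wt1; rwa [mt1_eq] at this
theorem rep_t2 : Rep (γ wt2) mt2 := by have := rep_γ wt2; rwa [mt2_eq] at this
theorem rep_t3 : Rep (γ wt3) mt3 := by have := rep_γ wt3; rwa [mt3_eq] at this

theorem orderOf_g3 : orderOf (γ w3) = 3 :=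
  orderOf_eq_of_rep rep_g3 3 (by norm_num) pow_m3 ne_m3 (by unfold m3; exact valid_unpack _)

theorem orderOf_g11 : orderOf (γ w11) = 11 :=
  orderOf_eq_of_rep rep_g11 11 (by norm_num) pow_m11 ne_m11 (by unfold m11; exact valid_unpack _)

theorem orderOf_g19 : orderOf (γ w19) = 19 :=
  orderOf_eq_of_rep rep_g19 19 (by norm_num) pow_m19 ne_m19 (by unfold m19; exact valid_unpack _)

/-- Generators of the elementary abelian subgroup of order 8. -/
def gensE : List Γ := [γ wt1, γ wt2, γ wt3]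

theorem hSE : ∀ i, Rep (gensE.getD i 1) (SE.getD i one) := by
  intro i
  match i with
  | 0 => exact rep_t1
  | 1 => exact rep_t2
  | 2 => exact rep_t3
  | (i + 3) => simpa [gensE, SE] using Rep.one

/-- The elementary abelian subgroup of order 8. -/
def EG : Subgroup Γ := Subgroup.closure {g | g ∈ gensE}

theorem card_EG : Nat.card EG = 8 :=
  card_closure_eq gensE SE hSE 8 E certE wordE (by norm_num) E_zero
    (fun m hm s hs => chkE m hm s hs) wordsE_ok nodupE

theorem EG_le : EG ≤ Cfsg.Spor.J1 := by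
  unfold EG
  rw [Subgroup.closure_le]
  intro g hg
  simp only [gensE, List.mem_cons, List.not_mem_nil, or_false, Set.mem_ofPred_eq] at hg
  rcases hg with rfl | rfl | rfl <;> exact γ_mem _

theorem dvd_card_of_mem {g : Γ} (hg : g ∈ Cfsg.Spor.J1) : orderOf g ∣ Nat.card Cfsg.Spor.J1 := by
  rw [← Nat.card_zpowers]
  exact Subgroup.card_dvd_of_le (by rwa [Subgroup.zpowers_le])

theorem X_mem : Cfsg.Spor.jankoX ∈ Cfsg.Spor.J1 :=
  Subgroup.subset_closure (by simp)

theorem Y_mem : Cfsg.Spor.jankoY ∈ Cfsg.Spor.J1 :=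
  Subgroup.subset_closure (by simp)

theorem card_J1 : Nat.card Cfsg.Spor.J1 = 175560 := by
  have h8 : 8 ∣ Nat.card Cfsg.Spor.J1 := by
    have := Subgroup.card_dvd_of_le EG_le
    rwa [card_EG] at this
  have h3 : 3 ∣ Nat.card Cfsg.Spor.J1 := by
    have := dvd_card_of_mem (γ_mem w3)
    rwa [orderOf_g3] at this
  have h5 : 5 ∣ Nat.card Cfsg.Spor.J1 := by
    have := dvd_card_of_mem Y_mem
    rwa [orderOf_Y] at this
  have h7 : 7 ∣ Nat.card Cfsg.Spor.J1 := by
    have := dvd_card_of_mem X_mem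
    rwa [orderOf_X] at this
  have h11 : 11 ∣ Nat.card Cfsg.Spor.J1 := by
    have := dvd_card_of_mem (γ_mem w11)
    rwa [orderOf_g11] at this
  have h19 : 19 ∣ Nat.card Cfsg.Spor.J1 := by
    have := dvd_card_of_mem (γ_mem w19)
    rwa [orderOf_g19] at this
  have hd : 175560 ∣ Nat.card Cfsg.Spor.J1 := by
    have a1 : 8 * 3 ∣ Nat.card Cfsg.Spor.J1 := Nat.Coprime.mul_dvd_of_dvd_of_dvd (by norm_num) h8 h3
    have a2 : 8 * 3 * 5 ∣ Nat.card Cfsg.Spor.J1 :=
      Nat.Coprime.mul_dvd_of_dvd_of_dvd (by norm_num) a1 h5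
    have a3 : 8 * 3 * 5 * 7 ∣ Nat.card Cfsg.Spor.J1 :=
      Nat.Coprime.mul_dvd_of_dvd_of_dvd (by norm_num) a2 h7
    have a4 : 8 * 3 * 5 * 7 * 11 ∣ Nat.card Cfsg.Spor.J1 :=
      Nat.Coprime.mul_dvd_of_dvd_of_dvd (by norm_num) a3 h11
    have a5 : 8 * 3 * 5 * 7 * 11 * 19 ∣ Nat.card Cfsg.Spor.J1 :=
      Nat.Coprime.mul_dvd_of_dvd_of_dvd (by norm_num) a4 h19
    simpa using a5
  exact le_antisymm card_J1_le (Nat.le_of_dvd Nat.card_pos hd)

end Cfsg.Agent.Lib.Helper77.J1
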