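import Cfsg.Agent.Lib.Helper77.J1OutData
import Cfsg.Agent.Lib.Helper77.J1Cent

set_option autoImplicit false
set_option linter.style.haveILetI false

/-! Every automorphism of the matrix group J1 is inner. By Sylow's theorem an automorphism can be
corrected by an inner one so as to fix an element `g` of order 11 (the normalizer of its subgroup
induces all of `Aut(Z/11)`). The image of a fixed involution `t` is then one of the 1463
involutions; for each of them a kernel-checked table gives either a power of `g` conjugating `t`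
to it, or a word in the pair whose order tells the pair apart from `(g, t)`. As `g` and `t`
generate the group, the corrected automorphism is the identity. -/

namespace Cfsg.Agent.Lib.Helper77.J1

open M7

section words
variable {A B : Type*} [Group A] [Group B]

/-- Evaluate a word (list of generator indices) in any group. -/
def gwA (gs : List A) (w : List ℕ) : A :=
  w.foldl (fun acc i => acc * gs.getD i 1) 1

theorem getD_map_one (f : A →* B) (gs : List A) (i : ℕ) :
    (gs.map f).getD i 1 = f (gs.getD i 1) := by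
  by_cases hi : i < gs.length
  · rw [List.getD_eq_getElem _ _ (by simpa using hi), List.getD_eq_getElem _ _ hi,
      List.getElem_map]
  · rw [List.getD_eq_default _ _ (by simpa using hi), List.getD_eq_default _ _ (by omega),
      map_one]

theorem map_foldlA (f : A →* B) (gs : List A) (w : List ℕ) (a : A) :
    f (w.foldl (fun acc i => acc * gs.getD i 1) a) =
      w.foldl (fun acc i => acc * (gs.map f).getD i 1) (f a) := by
  induction w generalizing a with
  | nil => rfl
  | cons i w ih =>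
    rw [List.foldl_cons, List.foldl_cons, ih, map_mul, getD_map_one]

theorem map_gwA (f : A →* B) (gs : List A) (w : List ℕ) :
    f (gwA gs w) = gwA (gs.map f) w := by
  unfold gwA
  rw [map_foldlA, map_one]

theorem foldlA_mem (K : Subgroup A) (gs : List A) (h : ∀ g ∈ gs, g ∈ K) (w : List ℕ) (a : A)
    (ha : a ∈ K) : w.foldl (fun acc i => acc * gs.getD i 1) a ∈ K := by
  induction w generalizing a with
  | nil => exact ha
  | cons i w ih =>
    refine ih _ (K.mul_mem ha ?_)
    by_cases hi : i < gs.length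
    · rw [List.getD_eq_getElem _ _ hi]
      exact h _ (List.getElem_mem hi)
    · rw [List.getD_eq_default _ _ (by omega)]
      exact K.one_mem

theorem gwA_mem (K : Subgroup A) (gs : List A) (h : ∀ g ∈ gs, g ∈ K) (w : List ℕ) :
    gwA gs w ∈ K :=
  foldlA_mem K gs h w 1 K.one_mem

end words

theorem gw_eq_gwA (gs : List Γ) (w : List ℕ) : gw gs w = gwA gs w := rfl

theorem rep_powF : ∀ (f : ℕ) (a : M7) (k : ℕ) (g : Γ), Rep g a → k < 2 ^ f →
    Rep (g ^ k) (powF f a k) := by
  intro f
  induction f with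
  | zero =>
    intro a k g _ hk
    have : k = 0 := by simpa using hk
    subst this
    simpa [powF] using Rep.one
  | succ f ih =>
    intro a k g hg hk
    unfold powF
    by_cases h0 : k = 0
    · subst h0
      simpa using Rep.one
    · rw [if_neg h0]
      have hk2 : k / 2 < 2 ^ f := by
        rw [pow_succ] at hk
        omega
      have hsq := ih (mul a a) (k / 2) (g * g) (hg.mul hg) hk2
      by_cases h1 : k % 2 = 1
      · rw [if_pos h1]
        have e : g ^ k = g * (g * g) ^ (k / 2) := by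
          conv_lhs => rw [← Nat.div_add_mod k 2, h1]
          rw [pow_succ', pow_mul, pow_two]
        rw [e]
        exact hg.mul hsq
      · rw [if_neg h1]
        have e : g ^ k = (g * g) ^ (k / 2) := by
          have h2 : k % 2 = 0 := by omega
          conv_lhs => rw [← Nat.div_add_mod k 2, h2]
          rw [add_zero, pow_mul, pow_two]
        rw [e]
        exact hsq

/-- The element of order 11. -/
def gG : G1 := ⟨γ w11, γ_mem w11⟩

/-- An element normalizing the subgroup generated by `gG`. -/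
def nG : G1 := ⟨γ wn, γ_mem wn⟩

theorem rep_gG : Rep (gG : Γ) m11 := rep_g11

theorem rep_nG : Rep (nG : Γ) mn := by have := rep_γ wn; rwa [mn_eq] at this

theorem orderOf_gG : orderOf gG = 11 := by
  exact (Subgroup.orderOf_coe gG).symm.trans orderOf_g11

theorem nG_rel : nG * gG * nG⁻¹ = gG ^ 2 := by
  apply G1_ext (m := mul m11 m11)
  · rw [← norm_rel]
    exact (rep_nG.mul rep_gG).mul (rep_nG.inv orth_mn)
  · rw [pow_two]
    exact rep_gG.mul rep_gG

theorem nG_pow_rel (j : ℕ) : nG ^ j * gG * (nG ^ j)⁻¹ = gG ^ (2 ^ j) := by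
  induction j with
  | zero => simp
  | succ j ih =>
    have e : nG ^ (j + 1) * gG * (nG ^ (j + 1))⁻¹ = nG * (nG ^ j * gG * (nG ^ j)⁻¹) * nG⁻¹ := by
      rw [pow_succ']; group
    rw [e, ih]
    have e2 : nG * gG ^ 2 ^ j * nG⁻¹ = (nG * gG * nG⁻¹) ^ 2 ^ j := by
      rw [conj_pow]
    rw [e2, nG_rel, ← pow_mul, pow_succ']

theorem exists_conj_pow (k : ℕ) (hk : k < 11) (hk0 : k ≠ 0) :
    ∃ x : G1, x * gG ^ k * x⁻¹ = gG := by
  have h : ∀ k < 11, k ≠ 0 → ∃ j < 10, 2 ^ j % 11 = k := by decide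
  obtain ⟨j, _, hj⟩ := h k hk hk0
  refine ⟨(nG ^ j)⁻¹, ?_⟩
  have e : gG ^ k = gG ^ (2 ^ j) := by
    have := pow_mod_orderOf gG (2 ^ j)
    rw [orderOf_gG, hj] at this
    exact this
  rw [e, ← nG_pow_rel j]
  group


/-- An automorphism can be corrected by an inner one so as to fix `gG`. -/
theorem exists_conj_fix (φ : MulAut G1) : ∃ c : G1, c * φ gG * c⁻¹ = gG := by
  haveI : Fact (Nat.Prime 11) := ⟨by norm_num⟩
  have hfac : (Nat.card G1).factorization 11 = 1 :=
    fact_G1 11 15960 (by norm_num) (by norm_num) (by norm_num)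
  have hφo : orderOf (φ gG) = 11 := (MulEquiv.orderOf_eq φ gG).trans orderOf_gG
  let P : Sylow 11 G1 := Sylow.ofCard (Subgroup.zpowers (φ gG))
    (by rw [Nat.card_zpowers, hφo, hfac, pow_one])
  let Q : Sylow 11 G1 := Sylow.ofCard (Subgroup.zpowers gG)
    (by rw [Nat.card_zpowers, orderOf_gG, hfac, pow_one])
  obtain ⟨c, hc⟩ := MulAction.exists_smul_eq G1 P Q
  have hmem : c * φ gG * c⁻¹ ∈ (Q : Subgroup G1) := by
    rw [← hc, Sylow.coe_subgroup_smul, Subgroup.mem_smul_pointwise_iff_exists]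
    exact ⟨φ gG, by rw [Sylow.coe_ofCard]; exact Subgroup.mem_zpowers _,
      by rw [MulAut.smul_def, MulAut.conj_apply]⟩
  rw [Sylow.coe_ofCard] at hmem
  have hfin : IsOfFinOrder gG := isOfFinOrder_of_finite gG
  rw [← mem_powers_iff_mem_zpowers, mem_powers_iff_mem_range_orderOf, orderOf_gG] at hmem
  obtain ⟨k, hk, hk'⟩ := Finset.mem_image.mp hmem
  rw [Finset.mem_range] at hk
  have hk0 : k ≠ 0 := by
    rintro rfl
    rw [pow_zero] at hk'
    have h1 : φ gG = 1 := by
      have := congrArg (fun x => c⁻¹ * x * c) hk'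
      simpa [mul_assoc] using this.symm
    rw [h1, orderOf_one] at hφo
    norm_num at hφo
  obtain ⟨x, hx⟩ := exists_conj_pow k hk hk0
  refine ⟨x * c, ?_⟩
  rw [mul_inv_rev]
  calc x * c * φ gG * (c⁻¹ * x⁻¹) = x * (c * φ gG * c⁻¹) * x⁻¹ := by group
    _ = gG := by rw [← hk', hx]

/-- Any involution is conjugate into a subgroup of order `2 ^ (Nat.card G).factorization 2`. -/
theorem exists_conj_mem_sylow_two {G : Type*} [Group G] [Finite G] (S : Subgroup G)
    (hS : Nat.card S = 2 ^ (Nat.card G).factorization 2) {n : G} (hno : orderOf n = 2) :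
    ∃ c : G, c * n * c⁻¹ ∈ S := by
  haveI : Fact (Nat.Prime 2) := ⟨Nat.prime_two⟩
  have hz : IsPGroup 2 (Subgroup.zpowers n) :=
    IsPGroup.of_card (n := 1) (by rw [Nat.card_zpowers, hno, pow_one])
  obtain ⟨P, hP⟩ := hz.exists_le_sylow
  let Q : Sylow 2 G := Sylow.ofCard S hS
  obtain ⟨c, hc⟩ := MulAction.exists_smul_eq G P Q
  refine ⟨c, ?_⟩
  have : c * n * c⁻¹ ∈ (Q : Subgroup G) := by
    rw [← hc, Sylow.coe_subgroup_smul, Subgroup.mem_smul_pointwise_iff_exists]
    exact ⟨n, hP (Subgroup.mem_zpowers n), by rw [MulAut.smul_def, MulAut.conj_apply]⟩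
  rwa [Sylow.coe_ofCard] at this

theorem F_conj : ∀ m < 8, F m = one ∨
    ∃ k < 7, F m = mul (mul (powM sx k) n0) (powM (tr sx) k) := by decide +kernel

theorem rep_yG_pow (k : ℕ) : Rep ((yG ^ k : G1) : Γ) (powM sx k) := rep_pow rep_X k

theorem rep_yG_pow_inv (k : ℕ) : Rep (((yG ^ k)⁻¹ : G1) : Γ) (powM (tr sx) k) := by
  have : ((yG ^ k)⁻¹ : G1) = (yG⁻¹) ^ k := by rw [inv_pow]
  rw [this]
  exact rep_pow rep_Xinv k

/-- Every nontrivial element of the Sylow 2-subgroup is conjugate to `f0`. -/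
theorem isConj_of_mem_UF {u : G1} (hu : u ∈ UF) (hu1 : u ≠ 1) : IsConj f0 u := by
  have hmem : (u : Γ) ∈ Subgroup.closure {g | g ∈ gensF} := by
    rw [← map_UF]
    exact ⟨u, hu, rfl⟩
  obtain ⟨m, hm, hr⟩ := exists_rep_of_mem_closure gensF SF hSF 8 F certF (by norm_num) F_zero
    (fun m hm s hs => chkF m hm s hs) (u : Γ) hmem
  rcases F_conj m hm with h1 | ⟨k, _, hk⟩
  · exfalso
    apply hu1
    rw [h1] at hr
    exact G1_ext hr Rep.one
  · rw [hk] at hr
    have : u = yG ^ k * f0 * (yG ^ k)⁻¹ :=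
      G1_ext hr (((rep_yG_pow k).mul rep_f0).mul (rep_yG_pow_inv k))
    rw [this]
    exact isConj_iff.mpr ⟨yG ^ k, rfl⟩

theorem card_UF_eq : Nat.card UF = 2 ^ (Nat.card G1).factorization 2 := by
  rw [card_UF, card_G1, show (175560 : ℕ) = 2 ^ 3 * 21945 by norm_num,
    factorization_pow_mul 2 3 21945 Nat.prime_two (by norm_num) (by norm_num)]
  norm_num

/-- All involutions of J1 are conjugate. -/
theorem isConj_of_orderOf_two {s : G1} (hs : orderOf s = 2) : IsConj f0 s := by
  obtain ⟨c, hc⟩ := exists_conj_mem_sylow_two UF card_UF_eq hs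
  have h1 : c * s * c⁻¹ ≠ 1 := by
    intro h
    have : s = 1 := by
      have := congrArg (fun x => c⁻¹ * x * c) h
      simpa [mul_assoc] using this
    rw [this, orderOf_one] at hs
    norm_num at hs
  have h2 := isConj_of_mem_UF hc h1
  exact h2.trans (isConj_iff.mpr ⟨c⁻¹, by group⟩)

theorem card_CF : Nat.card CF = 120 := by
  obtain ⟨e⟩ := centralizer_f0_equiv
  rw [Nat.card_congr e.toEquiv, Nat.card_prod, nat_card_alternatingGroup]
  simp [Nat.factorial]

theorem orbit_ncard : (MulAction.orbit (ConjAct G1) f0).ncard = 1463 := by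
  have h := (MulAction.stabilizer (ConjAct G1) f0).card_mul_index
  rw [MulAction.index_stabilizer, ← Subgroup.nat_card_centralizer_nat_card_stabilizer] at h
  have hc : Nat.card (ConjAct G1) = 175560 := by
    rw [← card_G1]
    exact Nat.card_congr (ConjAct.ofConjAct (G := G1)).toEquiv
  have h120 : Nat.card (Subgroup.centralizer {f0}) = 120 := card_CF
  rw [hc, h120] at h
  omega

theorem orbit_eq_range : MulAction.orbit (ConjAct G1) f0 = Set.range cj := by
  symm
  apply Set.eq_of_subset_of_ncard_le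
  · rintro _ ⟨i, rfl⟩
    rw [ConjAct.mem_orbit_conjAct]
    exact (cj_conj i).symm
  · rw [orbit_ncard, ← Set.image_univ, Set.ncard_image_of_injective _ cj_injective,
      Set.ncard_univ, Nat.card_fin]
  · exact Set.toFinite _

/-- Every involution of J1 is represented by a table entry. -/
theorem invol_rep {s : G1} (hs : orderOf s = 2) : ∃ m < 1463, Rep (s : Γ) (Cc m) := by
  have h1 : s ∈ MulAction.orbit (ConjAct G1) f0 := by
    rw [ConjAct.mem_orbit_conjAct]
    exact (isConj_of_orderOf_two hs).symm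
  rw [orbit_eq_range] at h1
  obtain ⟨i, rfl⟩ := h1
  exact ⟨ordC i, ordC_lt i.2, cj_rep i⟩


theorem rowB_spec (n j e : ℕ) (h : rowB (n, j, e) = true) :
    (j < 4 ∧ e % ordsD.getD j 1 ≠ 0 ∧
      powF 5 (evalW [m11, unpack n] (Wd.getD j [])) e = one) ∨
    (¬ j < 4 ∧ n = cjs.getD e 0 ∧ e < 11) := by
  unfold rowB at h
  simp only [withNat_eq] at h
  by_cases hj : j < 4
  · rw [if_pos hj, Bool.and_eq_true, decide_eq_true_eq, decide_eq_true_eq] at h
    exact Or.inl ⟨hj, h.1, h.2⟩
  · rw [if_neg hj, Bool.and_eq_true, decide_eq_true_eq, decide_eq_true_eq] at h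
    exact Or.inr ⟨hj, h.1, h.2⟩

/-- The subtype embedding of J1. -/
abbrev ι : G1 →* Γ := Cfsg.Spor.J1.subtype

theorem rep_gwA (s : G1) (a : M7) (hs : Rep (s : Γ) a) (w : List ℕ) :
    Rep ((gwA [gG, s] w : G1) : Γ) (evalW [m11, a] w) := by
  have e : ((gwA [gG, s] w : G1) : Γ) = gw [(gG : Γ), (s : Γ)] w := by
    rw [gw_eq_gwA]
    exact map_gwA ι [gG, s] w
  rw [e]
  apply rep_gw
  intro i
  match i with
  | 0 => exact rep_gG
  | 1 => exact hs
  | (i + 2) => simpa using Rep.one

theorem basePairs_mem (j : ℕ) (hj : j < 4) (q : ℕ) (hq : q.Prime) (hqd : q ∣ ordsD.getD j 1) :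
    (j, ordsD.getD j 1 / q) ∈ basePairs := by
  have h0 : ∀ q < 7, (Nat.Prime q ∧ q ∣ 6) → (0, 6 / q) ∈ basePairs := by decide
  have h1 : ∀ q < 11, (Nat.Prime q ∧ q ∣ 10) → (1, 10 / q) ∈ basePairs := by decide
  have h2 : ∀ q < 7, (Nat.Prime q ∧ q ∣ 6) → (2, 6 / q) ∈ basePairs := by decide
  have h3 : ∀ q < 20, (Nat.Prime q ∧ q ∣ 19) → (3, 19 / q) ∈ basePairs := by decide
  interval_cases j
  · exact h0 q (Nat.lt_succ_of_le (Nat.le_of_dvd (by norm_num) hqd)) ⟨hq, hqd⟩
  · exact h1 q (Nat.lt_succ_of_le (Nat.le_of_dvd (by norm_num) hqd)) ⟨hq, hqd⟩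
  · exact h2 q (Nat.lt_succ_of_le (Nat.le_of_dvd (by norm_num) hqd)) ⟨hq, hqd⟩
  · exact h3 q (Nat.lt_succ_of_le (Nat.le_of_dvd (by norm_num) hqd)) ⟨hq, hqd⟩

theorem exp_lt : ∀ r ∈ rowsD, r.2.2 < 32 := by
  have h : rowsD.all (fun r => decide (r.2.2 < 32)) = true := by decide +kernel
  intro r hr
  exact of_decide_eq_true (List.all_eq_true.mp h r hr)

/-- The orders of the test words on the base pair. -/
theorem base_order (j : ℕ) (hj : j < 4) :
    orderOf (gwA [gG, f0] (Wd.getD j [])) = ordsD.getD j 1 := by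
  have hrep := rep_gwA f0 mt1 rep_f0' (Wd.getD j [])
  have hpos : 0 < ordsD.getD j 1 := by
    have : ∀ j < 4, 0 < ordsD.getD j 1 := by decide
    exact this j hj
  apply orderOf_eq_of_pow_and_pow_div_prime hpos
  · apply G1_ext (m := one)
    · have := rep_pow hrep (ordsD.getD j 1)
      have h2 := base_pow j hj
      unfold SG at h2
      rwa [h2] at this
    · exact Rep.one
  · intro q hq hqd h1
    have hmem : (j, ordsD.getD j 1 / q) ∈ basePairs := basePairs_mem j hj q hq hqd
    have hne := base_ne _ hmem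
    apply hne
    have := rep_pow hrep (ordsD.getD j 1 / q)
    have h1' : ((gwA [gG, f0] (Wd.getD j []) : G1) : Γ) ^ (ordsD.getD j 1 / q) = 1 := by
      rw [← Subgroup.coe_pow, h1]; rfl
    rw [h1'] at this
    unfold SG
    exact Rep.eq_of_valid (valid_evalW _ _) valid_one this Rep.one

theorem valid_powM (a : M7) (k : ℕ) : Valid (powM a k) := valid_evalW _ _

theorem rep_gG_pow (k : ℕ) : Rep ((gG ^ k : G1) : Γ) (powM m11 k) := rep_pow rep_gG k

theorem rep_gG_pow_inv (k : ℕ) : Rep (((gG ^ k)⁻¹ : G1) : Γ) (powM (tr m11) k) := by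
  have : ((gG ^ k)⁻¹ : G1) = (gG⁻¹) ^ k := by rw [inv_pow]
  rw [this]
  exact rep_pow (rep_gG.inv orth_m11) k

/-- An automorphism fixing `gG` sends `f0` to a conjugate under a power of `gG`. -/
theorem row_sem (φ : MulAut G1) (hφ : φ gG = gG) :
    ∃ k : ℕ, φ f0 = gG ^ k * f0 * (gG ^ k)⁻¹ := by
  have hs : orderOf (φ f0) = 2 := (MulEquiv.orderOf_eq φ f0).trans orderOf_f0
  obtain ⟨m, hm, hr⟩ := invol_rep hs
  have hCc : Cc m = unpack (rowsC.getD m (0, 0, 0)).1 := by unfold Cc; rfl
  rw [hCc] at hr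
  have hmem : (rowsC.getD m (0, 0, 0)).1 ∈ rowsC.map Prod.fst := by
    rw [List.getD_eq_getElem _ _ (by rw [lengthC]; exact hm)]
    exact List.mem_map.mpr ⟨_, List.getElem_mem _, rfl⟩
  rw [rows_eq] at hmem
  obtain ⟨⟨n, j, e⟩, hrow, hn⟩ := List.mem_map.mp hmem
  simp only at hn
  rw [← hn] at hr
  rcases rowB_spec n j e (chkD _ hrow) with ⟨hj, hne, hpow⟩ | ⟨_, hn', he⟩
  · exfalso
    -- the word on the image pair
    have hx : φ (gwA [gG, f0] (Wd.getD j [])) = gwA [gG, φ f0] (Wd.getD j []) := by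
      have := map_gwA φ.toMonoidHom [gG, f0] (Wd.getD j [])
      simpa [hφ] using this
    have ho : orderOf (gwA [gG, φ f0] (Wd.getD j [])) = ordsD.getD j 1 := by
      rw [← hx, MulEquiv.orderOf_eq, base_order j hj]
    have hrep := rep_gwA (φ f0) (unpack n) hr (Wd.getD j [])
    have hp := rep_powF 5 _ e _ hrep (exp_lt _ hrow)
    rw [hpow] at hp
    have h1 : gwA [gG, φ f0] (Wd.getD j []) ^ e = 1 := G1_ext hp Rep.one
    have hd := orderOf_dvd_of_pow_eq_one h1
    rw [ho] at hd
    exact hne (Nat.mod_eq_zero_of_dvd hd)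
  · refine ⟨e, ?_⟩
    have hc := cjs_ok e he
    rw [← hn'] at hc
    rw [hc] at hr
    exact G1_ext hr (((rep_gG_pow e).mul rep_f0').mul (rep_gG_pow_inv e))


/-- The second standard generator as an element of J1. -/
def zG : G1 := ⟨Cfsg.Spor.jankoY, Y_mem⟩

theorem yG_mem_closure : yG ∈ Subgroup.closure ({gG, f0} : Set G1) := by
  have e : yG = gwA [gG, f0] wX := by
    apply G1_ext (m := sx)
    · exact rep_X
    · have := rep_gwA f0 mt1 rep_f0' wX
      have h2 := wX_eq
      unfold SG at h2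
      rwa [h2] at this
  rw [e]
  apply gwA_mem
  intro g hg
  simp only [List.mem_cons, List.not_mem_nil, or_false] at hg
  rcases hg with rfl | rfl
  · exact Subgroup.subset_closure (by simp)
  · exact Subgroup.subset_closure (by simp)

theorem zG_mem_closure : zG ∈ Subgroup.closure ({gG, f0} : Set G1) := by
  have e : zG = gwA [gG, f0] wY := by
    apply G1_ext (m := sy)
    · exact rep_Y
    · have := rep_gwA f0 mt1 rep_f0' wY
      have h2 := wY_eq
      unfold SG at h2
      rwa [h2] at this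
  rw [e]
  apply gwA_mem
  intro g hg
  simp only [List.mem_cons, List.not_mem_nil, or_false] at hg
  rcases hg with rfl | rfl
  · exact Subgroup.subset_closure (by simp)
  · exact Subgroup.subset_closure (by simp)

/-- The element of order 11 and the involution generate J1. -/
theorem closure_gG_f0 : Subgroup.closure ({gG, f0} : Set G1) = ⊤ := by
  have h : Subgroup.closure (((↑) : G1 → Γ) ⁻¹' {Cfsg.Spor.jankoX, Cfsg.Spor.jankoY}) = ⊤ :=
    Subgroup.closure_closure_coe_preimage
  rw [eq_top_iff, ← h, Subgroup.closure_le]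
  intro z hz
  simp only [Set.mem_preimage, Set.mem_insert_iff, Set.mem_singleton_iff] at hz
  rcases hz with hz | hz
  · have : z = yG := Subtype.ext hz
    rw [this]; exact yG_mem_closure
  · have : z = zG := Subtype.ext hz
    rw [this]; exact zG_mem_closure

/-- Every automorphism of J1 is inner. -/
theorem mem_inn (φ : MulAut G1) : φ ∈ Cfsg.Inn G1 := by
  obtain ⟨c, hc⟩ := exists_conj_fix φ
  set φ1 : MulAut G1 := MulAut.conj c * φ with hφ1
  have h1 : φ1 gG = gG := by
    rw [hφ1, MulAut.mul_apply, MulAut.conj_apply]; exact hc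
  obtain ⟨k, hk⟩ := row_sem φ1 h1
  set φ2 : MulAut G1 := MulAut.conj (gG ^ k)⁻¹ * φ1 with hφ2
  have h2g : φ2 gG = gG := by
    rw [hφ2, MulAut.mul_apply, MulAut.conj_apply, h1, inv_inv]
    have : (gG ^ k)⁻¹ * gG * gG ^ k = (gG ^ k)⁻¹ * (gG * gG ^ k) := by group
    rw [this, ← pow_succ', pow_succ, ← mul_assoc, inv_mul_cancel, one_mul]
  have h2f : φ2 f0 = f0 := by
    rw [hφ2, MulAut.mul_apply, MulAut.conj_apply, hk]
    group
  have hid : φ2 = 1 := by
    apply MulEquiv.ext
    intro x
    have hx : x ∈ Subgroup.closure ({gG, f0} : Set G1) := by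
      rw [closure_gG_f0]; exact Subgroup.mem_top x
    rw [MulAut.one_apply]
    induction hx using Subgroup.closure_induction with
    | mem y hy =>
      simp only [Set.mem_insert_iff, Set.mem_singleton_iff] at hy
      rcases hy with rfl | rfl
      · exact h2g
      · exact h2f
    | one => exact map_one φ2
    | mul y z _ _ hy hz => rw [map_mul, hy, hz]
    | inv y _ hy => rw [map_inv, hy]
  have hφ : φ = (MulAut.conj ((gG ^ k)⁻¹ * c))⁻¹ := by
    apply eq_inv_of_mul_eq_one_right
    rw [map_mul, mul_assoc, ← hφ1, ← hφ2]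
    exact hid
  rw [hφ]
  exact (Cfsg.Inn G1).inv_mem ⟨_, rfl⟩

/-- The outer automorphism group of J1 is trivial. -/
theorem card_out_J1 : Nat.card (Cfsg.Out G1) = 1 := by
  have h : Cfsg.Inn G1 = ⊤ := (Subgroup.eq_top_iff' _).mpr mem_inn
  show (Cfsg.Inn G1).index = 1
  rw [h, Subgroup.index_top]

end Cfsg.Agent.Lib.Helper77.J1
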