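import Cfsg.Agent.Lib.Helper77.J1Order

set_option autoImplicit false
set_option linter.style.haveILetI false
set_option maxRecDepth 100000

/-! Certificate data for the Sylow 2-subgroup of J1 with its Singer cycle (generated by a script,
checked by the kernel). -/

namespace Cfsg.Agent.Lib.Helper77.J1

open M7

/-- The involution `f0`. -/
def n0 : M7 := mt1

/-- Its conjugate by the first generator. -/
def n1 : M7 := mul (mul sx n0) (tr sx)

/-- The second conjugate. -/
def n2 : M7 := mul (mul sx n1) (tr sx)

/-- Generator list. -/
def SF : List M7 := [n0, n1, n2]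

/-- Packed table. -/
def tabF : List ℕ := [97017234237464720195340918138392575865960457120487,
  970172338301314200817573430206289219702813104723243,
  970172342374647182951010110566627775201496581936203,
  970172342374647201953409092736331676391102789568363,
  97017238310797740333575740133326271185722368571883,
  97017238310797721331176580668435032554254000425483,
  97017234237464739197740077603284641592566369565803,
  970172338301314181815174448036586145608344441389963]

/-- Table entry. -/
def F (m : ℕ) : M7 := unpack (tabF.getD m 0)

/-- Certificates. -/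
def certsF : List (List ℕ × ℕ) := [([], 1),
  ([], 2),
  ([], 3),
  ([], 0),
  ([], 4),
  ([], 5),
  ([], 4),
  ([], 0),
  ([], 6),
  ([], 5),
  ([], 6),
  ([], 0),
  ([], 2),
  ([], 1),
  ([], 7),
  ([], 3),
  ([], 7),
  ([], 1),
  ([], 7),
  ([], 3),
  ([], 2),
  ([], 6),
  ([], 5),
  ([], 4)]

/-- Certificate lookup. -/
def certF (m s : ℕ) : List ℕ × ℕ := certsF.getD (3 * m + s) ([], 0)

/-- Words for the table entries. -/
def wordsF : List (List ℕ) := [[], [0], [1], [2], [0, 1], [0, 2], [1, 2], [0, 1, 2]]

/-- Word lookup. -/
def wordF (m : ℕ) : List ℕ := wordsF.getD m []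

theorem chkF : ∀ m < 8, ∀ s < 3, (certF m s).2 < 8 ∧
    mul (F m) (SF.getD s one) = mul (evalW [] (certF m s).1) (F (certF m s).2) := by
  decide +kernel

theorem F_zero : F 0 = one := by decide +kernel

theorem wordsF_ok : ∀ m < 8, F m = evalW SF (wordF m) := by decide +kernel

theorem nodupF : ∀ m < 8, ∀ m' < 8, F m = F m' → m = m' := by decide +kernel

theorem orth_sx : mul sx (tr sx) = one := by decide +kernel

theorem rel3 : mul (mul sx n2) (tr sx) = mul n0 n1 := by decide +kernel

theorem relsq : mul n0 n0 = one := by decide +kernel

theorem rel01 : mul n0 n1 = mul n1 n0 := by decide +kernel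

theorem rel02 : mul n0 n2 = mul n2 n0 := by decide +kernel

theorem rel12 : mul n1 n2 = mul n2 n1 := by decide +kernel

attribute [irreducible] n0 n1 n2 tabF F certsF certF wordsF wordF

end Cfsg.Agent.Lib.Helper77.J1
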