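import Cfsg.Agent.Lib.Helper77.J3Grp

set_option autoImplicit false
set_option linter.style.haveILetI false

/-! The action of the triple cover of J3 on the lines of its 9-space: the stabilizer of the first
basis line, the relation "maps the line with key `k` to the line with key `k'`". -/

namespace Cfsg.Agent.Lib.Helper77.J3

open Cfsg.Spor Matrix

variable {F : Type} [Field F] {ω : F}

/-- The action of the group on subspaces. -/
@[reducible] def lineAct (F : Type) [Field F] (ω : F) :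
    MulAction (threeJ3 F ω) (Submodule F (F9 → F)) where
  smul g L := L.map (Matrix.toLin' ((g : GL F9 F) : Matrix F9 F9 F))
  one_smul L := by
    show Submodule.map (Matrix.toLin' (((1 : threeJ3 F ω) : GL F9 F) : Matrix F9 F9 F)) L = L
    simp
  mul_smul g h L := by
    show Submodule.map (Matrix.toLin' (((g * h : threeJ3 F ω) : GL F9 F) : Matrix F9 F9 F)) L =
      Submodule.map (Matrix.toLin' ((g : GL F9 F) : Matrix F9 F9 F))
        (Submodule.map (Matrix.toLin' ((h : GL F9 F) : Matrix F9 F9 F)) L)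
    rw [← Submodule.map_comp, ← Matrix.toLin'_mul]
    rfl

attribute [local instance] lineAct

theorem smul_line_def (g : threeJ3 F ω) (L : Submodule F (F9 → F)) :
    g • L = L.map (Matrix.toLin' ((g : GL F9 F) : Matrix F9 F9 F)) := rfl

theorem smul_span (g : threeJ3 F ω) (v : F9 → F) :
    g • Submodule.span F {v} = Submodule.span F {((g : GL F9 F) : Matrix F9 F9 F) *ᵥ v} := by
  rw [smul_line_def, Submodule.map_span, Set.image_singleton, Matrix.toLin'_apply]

/-- The first basis line. -/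
def line0 (F : Type) [Field F] : Submodule F (F9 → F) :=
  Submodule.span F {(Pi.single (0 : F9) (1 : F) : F9 → F)}

theorem orbit_line0 :
    (MulAction.orbit (threeJ3 F ω) (line0 F) : Set (Submodule F (F9 → F))) =
      {L : Submodule F (F9 → F) | ∃ g ∈ threeJ3 F ω,
        L = Submodule.span F {(g : Matrix F9 F9 F) *ᵥ (Pi.single (0 : F9) (1 : F) : F9 → F)}} := by
  ext L
  simp only [MulAction.mem_orbit_iff, Set.mem_ofPred_eq]
  constructor
  · rintro ⟨g, rfl⟩
    exact ⟨g.1, g.2, smul_span g _⟩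
  · rintro ⟨g, hg, rfl⟩
    exact ⟨⟨g, hg⟩, smul_span ⟨g, hg⟩ _⟩

/-- The element `g` maps the line with key `k` to the line with key `k'`. -/
def Maps (ω : F) (g : GL F9 F) (k k' : ℕ) : Prop :=
  ∃ c : F, c ≠ 0 ∧ (g : Matrix F9 F9 F) *ᵥ dec ω (unkey k) = c • dec ω (unkey k')

theorem maps_one (k : ℕ) : Maps ω 1 k k := ⟨1, one_ne_zero, by simp⟩

theorem maps_mul {g g' : GL F9 F} {k k' k'' : ℕ} (h1 : Maps ω g k k') (h2 : Maps ω g' k' k'') :
    Maps ω (g' * g) k k'' := by
  obtain ⟨c, hc, e⟩ := h1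
  obtain ⟨c', hc', e'⟩ := h2
  refine ⟨c * c', mul_ne_zero hc hc', ?_⟩
  rw [Units.val_mul, ← Matrix.mulVec_mulVec, e, Matrix.mulVec_smul, e', smul_smul]

theorem maps_inv {g : GL F9 F} {k k' : ℕ} (h1 : Maps ω g k k') : Maps ω g⁻¹ k' k := by
  obtain ⟨c, hc, e⟩ := h1
  refine ⟨c⁻¹, inv_ne_zero hc, ?_⟩
  have : dec ω (unkey k') = c⁻¹ • ((g : Matrix F9 F9 F) *ᵥ dec ω (unkey k)) := by
    rw [e, smul_smul, inv_mul_cancel₀ hc, one_smul]
  rw [this, Matrix.mulVec_smul, Matrix.mulVec_mulVec]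
  congr 1
  have : ((g⁻¹ : GL F9 F) : Matrix F9 F9 F) * (g : Matrix F9 F9 F) = 1 := by
    rw [← Units.val_mul, inv_mul_cancel]; rfl
  rw [this, Matrix.one_mulVec]

theorem maps_span {g : GL F9 F} {k k' : ℕ} (h1 : Maps ω g k k') :
    Submodule.span F {(g : Matrix F9 F9 F) *ᵥ dec ω (unkey k)} =
      Submodule.span F {dec ω (unkey k')} := by
  obtain ⟨c, hc, e⟩ := h1
  rw [e, span_smul_eq c hc]

theorem maps_unique (h : IsF4 F ω) {g : GL F9 F} {k k1 k2 : ℕ} (h1 : Maps ω g k k1)
    (h2 : Maps ω g k k2) (hk1 : k1 < 262144) (hk2 : k2 < 262144) (hl1 : leadP k1 = 1)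
    (hl2 : leadP k2 = 1) : k1 = k2 :=
  line_injOn h hk1 hk2 hl1 hl2 ((maps_span h1).symm.trans (maps_span h2))

/-- A step of a table, for a matrix given by its key. -/
theorem maps_of_step (h : IsF4 F ω) {g : GL F9 F} {a p k : ℕ}
    (hg : (g : Matrix F9 F9 F) = matOf ω a) (hp : p < 262144)
    (hk : stepKeyP (pkK a) p = k) (hlead : leadP k = 1) (hk' : k < 262144) : Maps ω g p k := by
  unfold Maps
  rw [hg]
  unfold matOf
  apply step_sem h (unM_valid a) hp _ hlead hk'
  rw [pk_unM]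
  exact hk

/-- Membership in the stabilizer of the first basis line. -/
theorem mem_stabilizer_iff (g : threeJ3 F ω) :
    g ∈ MulAction.stabilizer (threeJ3 F ω) (line0 F) ↔ Maps ω (g : GL F9 F) 1 1 := by
  rw [MulAction.mem_stabilizer_iff]
  unfold line0 Maps
  rw [smul_span, dec_unkey_one]
  constructor
  · intro e
    rw [Submodule.span_singleton_eq_span_singleton] at e
    obtain ⟨z, hz⟩ := e
    refine ⟨(z : F)⁻¹, inv_ne_zero z.ne_zero, ?_⟩
    have : (Pi.single (0 : F9) (1 : F) : F9 → F) =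
        (z : F) • (((g : GL F9 F) : Matrix F9 F9 F) *ᵥ (Pi.single (0 : F9) (1 : F) : F9 → F)) := by
      rw [Units.smul_def] at hz
      exact hz.symm
    conv_rhs => rw [this]
    rw [smul_smul, inv_mul_cancel₀ z.ne_zero, one_smul]
  · rintro ⟨c, hc, e⟩
    rw [e, span_smul_eq c hc]

end Cfsg.Agent.Lib.Helper77.J3
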