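import Cfsg.Agent.Lib.Helper77.J3Ord

set_option autoImplicit false
set_option linter.style.haveILetI false
set_option linter.unusedSectionVars false

/-! The centre of the triple cover of J3 consists of the three scalar matrices. -/

namespace Cfsg.Agent.Lib.Helper77.J3

open Cfsg.Spor Matrix

variable {F : Type} [Field F] {ω : F}

/-- The scalar matrix `ω`. -/
def M9.omega : M9 :=
  ⟨⟨0, 1⟩, ⟨0, 2⟩, ⟨0, 4⟩, ⟨0, 8⟩, ⟨0, 16⟩, ⟨0, 32⟩, ⟨0, 64⟩, ⟨0, 128⟩, ⟨0, 256⟩⟩

theorem col_omega (i : ℕ) (hi : i < 9) : M9.omega.col i = ⟨0, 2 ^ i⟩ := by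
  interval_cases i <;> rfl

theorem toMat_omega : toMat ω M9.omega = ω • (1 : Matrix F9 F9 F) := by
  ext w z
  simp only [toMat, Matrix.of_apply, dec]
  rw [col_omega _ (idx_lt z)]
  simp only [Nat.testBit_two_pow, Nat.zero_testBit, Matrix.smul_apply, Matrix.one_apply,
    smul_eq_mul]
  by_cases hwz : w = z
  · subst hwz
    simp [encB]
  · have : idx z ≠ idx w := fun e => hwz (idx_inj e).symm
    simp [encB, this, hwz]

/-- The key of the scalar matrix `ω`. -/
def wK : ℕ := M9.omega.mkey

theorem matOf_wK : matOf ω wK = ω • (1 : Matrix F9 F9 F) := by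
  unfold wK
  rw [matOf_mkey (by decide), toMat_omega]

theorem toMat_gM_A (h : IsF4 F ω) (Z : F9) : toMat ω (gM (idx Z)) = j3A F ω Z := by
  have := idx_lt Z
  have k1 : idx Z / 9 = 0 := by omega
  have k2 : zOf (idx Z % 9) = Z := by
    have e : idx Z % 9 = idx Z := by omega
    rw [e, zOf_idx]
  unfold gM codeFn
  rw [k1, k2]
  exact bridgeA h Z

theorem toMat_gM_D (h : IsF4 F ω) (Z : F9) : toMat ω (gM (18 + idx Z)) = j3D F ω Z := by
  have := idx_lt Z
  have k1 : (18 + idx Z) / 9 = 2 := by omega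
  have k2 : zOf ((18 + idx Z) % 9) = Z := by
    have e : (18 + idx Z) % 9 = idx Z := by omega
    rw [e, zOf_idx]
  unfold gM codeFn
  rw [k1, k2]
  exact bridgeD h Z

theorem omegaPow_inj (h : IsF4 F ω) {x y : ZMod 3} (e : omegaPow F ω x = omegaPow F ω y) :
    x = y := by
  have h0 := h.ne0
  have h1 := h.ne1
  have hsq : ω ^ 2 = 1 + ω := by rw [pow_two]; exact h.sq
  have n21 : ω ^ 2 ≠ 1 := by
    rw [hsq]
    intro e2
    exact h0 (by simp at e2; exact e2)
  have n2w : ω ^ 2 ≠ ω := by
    rw [hsq]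
    intro e2
    have : (1 : F) = 0 := by simpa using e2
    exact one_ne_zero this
  unfold omegaPow at e
  have hx := ZMod.val_lt x
  have hy := ZMod.val_lt y
  apply ZMod.val_injective 3
  generalize x.val = a at *
  generalize y.val = b at *
  interval_cases a <;> interval_cases b <;> simp only [pow_zero, pow_one] at e <;>
    first
    | rfl
    | exact absurd e h1 | exact absurd e.symm h1 | exact absurd e n21 | exact absurd e.symm n21
    | exact absurd e n2w | exact absurd e.symm n2w

theorem j3Lam_ne_zero (h : IsF4 F ω) (Z z : F9) : j3Lam F ω Z z ≠ 0 := by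
  unfold j3Lam
  split_ifs
  · exact one_ne_zero
  · exact h.ne0
  · exact pow_ne_zero _ h.ne0
  · exact one_ne_zero

theorem f9_decomp : ∀ z : F9, z = (0 : F9) + z.1.val • (((1 : ZMod 3), (0 : ZMod 3)) : F9) +
    z.2.val • (((0 : ZMod 3), (1 : ZMod 3)) : F9) := by decide

/-- A matrix commuting with two diagonal and two monomial generators is scalar. -/
theorem scalar_of_commute (h : IsF4 F ω) (M : Matrix F9 F9 F)
    (hA1 : j3A F ω (1, 0) * M = M * j3A F ω (1, 0))
    (hA2 : j3A F ω (0, 1) * M = M * j3A F ω (0, 1))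
    (hD1 : j3D F ω (1, 0) * M = M * j3D F ω (1, 0))
    (hD2 : j3D F ω (0, 1) * M = M * j3D F ω (0, 1)) :
    ∃ t : F, M = t • (1 : Matrix F9 F9 F) := by
  -- `M` is diagonal
  have hdiag : ∀ w z : F9, w ≠ z → M w z = 0 := by
    intro w z hwz
    have key : ∀ Z : F9, j3A F ω Z * M = M * j3A F ω Z →
        omegaPow F ω (Z.1 * w.1 + Z.2 * w.2) ≠ omegaPow F ω (Z.1 * z.1 + Z.2 * z.2) →
        M w z = 0 := by
      intro Z hZ hne
      have e := congrFun (congrFun hZ w) z
      unfold j3A at e
      rw [Matrix.diagonal_mul, Matrix.mul_diagonal] at e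
      have : (omegaPow F ω (Z.1 * w.1 + Z.2 * w.2) - omegaPow F ω (Z.1 * z.1 + Z.2 * z.2)) *
          M w z = 0 := by
        rw [sub_mul, e, mul_comm, sub_self]
      rcases mul_eq_zero.mp this with h0 | h0
      · exact absurd (sub_eq_zero.mp h0) hne
      · exact h0
    by_cases h1 : w.1 = z.1
    · have h2 : w.2 ≠ z.2 := fun e => hwz (Prod.ext h1 e)
      apply key (0, 1) hA2
      intro e
      have := omegaPow_inj h e
      simp at this
      exact h2 this
    · apply key (1, 0) hA1
      intro e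
      have := omegaPow_inj h e
      simp at this
      exact h1 this
  -- the diagonal is constant along translations
  have htr : ∀ Z : F9, j3D F ω Z * M = M * j3D F ω Z → ∀ z : F9, M (z + Z) (z + Z) = M z z := by
    intro Z hZ z
    have e := congrFun (congrFun hZ (z + Z)) z
    rw [Matrix.mul_apply, Matrix.mul_apply] at e
    rw [Finset.sum_eq_single z, Finset.sum_eq_single (z + Z)] at e
    · unfold j3D at e
      simp only [Matrix.of_apply, if_true] at e
      have hl := j3Lam_ne_zero h Z z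
      have : j3Lam F ω Z z * M (z + Z) (z + Z) = j3Lam F ω Z z * M z z := by
        rw [e, mul_comm]
      exact mul_left_cancel₀ hl this
    · intro x _ hx
      rw [hdiag _ _ (Ne.symm hx), zero_mul]
    · intro hx
      exact absurd (Finset.mem_univ _) hx
    · intro x _ hx
      rw [hdiag _ _ hx, mul_zero]
    · intro hx
      exact absurd (Finset.mem_univ _) hx
  have hx : ∀ (n : ℕ) (z : F9), M (z + n • (((1 : ZMod 3), (0 : ZMod 3)) : F9))
      (z + n • (((1 : ZMod 3), (0 : ZMod 3)) : F9)) = M z z := by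
    intro n
    induction n with
    | zero => intro z; simp
    | succ n ih =>
      intro z
      rw [succ_nsmul, ← add_assoc, htr _ hD1, ih]
  have hy : ∀ (n : ℕ) (z : F9), M (z + n • (((0 : ZMod 3), (1 : ZMod 3)) : F9))
      (z + n • (((0 : ZMod 3), (1 : ZMod 3)) : F9)) = M z z := by
    intro n
    induction n with
    | zero => intro z; simp
    | succ n ih =>
      intro z
      rw [succ_nsmul, ← add_assoc, htr _ hD2, ih]
  have hconst : ∀ z : F9, M z z = M 0 0 := by
    intro z
    conv_lhs => rw [f9_decomp z]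
    rw [hy, hx]
  refine ⟨M 0 0, ?_⟩
  ext w z
  rw [Matrix.smul_apply, Matrix.one_apply, smul_eq_mul]
  by_cases hwz : w = z
  · subst hwz
    rw [if_pos rfl, mul_one, hconst]
  · rw [if_neg hwz, mul_zero, hdiag _ _ hwz]

/-- The scalar units. -/
def scU (c : Fˣ) : GL F9 F :=
  ⟨(c : F) • 1, ((c⁻¹ : Fˣ) : F) • 1, by
    rw [smul_mul_smul_comm, mul_one, Units.mul_inv, one_smul], by
    rw [smul_mul_smul_comm, mul_one, Units.inv_mul, one_smul]⟩

theorem scU_val (c : Fˣ) : ((scU c : GL F9 F) : Matrix F9 F9 F) = (c : F) • 1 := rfl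

theorem scU_comm (c : Fˣ) (g : GL F9 F) : scU c * g = g * scU c := by
  apply Units.ext
  rw [Units.val_mul, Units.val_mul, scU_val, smul_mul_assoc, one_mul, mul_smul_comm, mul_one]

section main
variable [Finite F] (h : IsF4 F ω)
  (gv : ∀ j < 45, validJ j → (gM j).Valid)
  (ginv : ∀ j < 45, validJ j → ∃ N : M9, (gM j).mul N = M9.one ∧ N.mul (gM j) = M9.one)
include h gv ginv

theorem exists_unit_gM (j : ℕ) (hj : validJ j) :
    ∃ g ∈ threeJ3 F ω, (g : Matrix F9 F9 F) = toMat ω (gM j) := by
  obtain ⟨N, h1, h2⟩ := ginv j hj.1 hj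
  exact gen_unit h j hj N h1 h2

/-- A unit commuting with the whole group is scalar. -/
theorem central_scalar (z : GL F9 F) (hz : ∀ g ∈ threeJ3 F ω, g * z = z * g) :
    ∃ c : Fˣ, z = scU c := by
  have comm : ∀ j, validJ j → toMat ω (gM j) * (z : Matrix F9 F9 F) =
      (z : Matrix F9 F9 F) * toMat ω (gM j) := by
    intro j hj
    obtain ⟨g, hg, e⟩ := exists_unit_gM h gv ginv j hj
    have := congrArg Units.val (hz g hg)
    rwa [Units.val_mul, Units.val_mul, e] at this
  have cA1 := comm (idx (1, 0)) (by decide)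
  have cA2 := comm (idx (0, 1)) (by decide)
  have cD1 := comm (18 + idx (1, 0)) (by decide)
  have cD2 := comm (18 + idx (0, 1)) (by decide)
  rw [toMat_gM_A h] at cA1 cA2
  rw [toMat_gM_D h] at cD1 cD2
  obtain ⟨t, ht⟩ := scalar_of_commute h _ cA1 cA2 cD1 cD2
  have ht0 : t ≠ 0 := by
    intro e
    rw [e, zero_smul] at ht
    have h1 : (z : Matrix F9 F9 F) * ((z⁻¹ : GL F9 F) : Matrix F9 F9 F) = 1 := by
      rw [← Units.val_mul, mul_inv_cancel]; rfl
    rw [ht, zero_mul] at h1
    exact zero_ne_one h1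
  exact ⟨Units.mk0 t ht0, Units.ext ht⟩

theorem scU_mem (hw : Rep (threeJ3 F ω) ω wK) (c : Fˣ) : scU c ∈ threeJ3 F ω := by
  obtain ⟨g, hg, e⟩ := hw
  rw [matOf_wK] at e
  have hc : (c : F) ≠ 0 := c.ne_zero
  rcases h.surj (c : F) with e0 | e1 | e2 | e3
  · exact absurd e0 hc
  · have : scU c = 1 := Units.ext (by rw [scU_val, e1, one_smul]; rfl)
    rw [this]
    exact Subgroup.one_mem _
  · have : scU c = g := Units.ext (by rw [scU_val, e2, e])
    rw [this]
    exact hg
  · have : scU c = g * g := Units.ext (by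
      rw [scU_val, e3, Units.val_mul, e, smul_mul_smul_comm, mul_one, h.sq])
    rw [this]
    exact Subgroup.mul_mem _ hg hg

/-- The centre has three elements. -/
theorem card_center [Fintype F] (hF : Fintype.card F = 4) (hw : Rep (threeJ3 F ω) ω wK) :
    Nat.card (Subgroup.center (threeJ3 F ω)) = 3 := by
  classical
  let f : Fˣ → Subgroup.center (threeJ3 F ω) := fun c =>
    ⟨⟨scU c, scU_mem h gv ginv hw c⟩, by
      rw [Subgroup.mem_center_iff]
      intro g
      apply Subtype.ext
      exact (scU_comm c g.1).symm⟩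
  have hinj : Function.Injective f := by
    intro c c' e
    have e1 : scU c = scU c' := by
      have := congrArg (fun x : Subgroup.center (threeJ3 F ω) =>
        (((x : threeJ3 F ω) : GL F9 F))) e
      exact this
    have e3 : ((scU c : GL F9 F) : Matrix F9 F9 F) = ((scU c' : GL F9 F) : Matrix F9 F9 F) := by
      rw [e1]
    rw [scU_val, scU_val] at e3
    have e2 := congrFun (congrFun e3 0) 0
    simp at e2
    exact Units.ext e2
  have hsurj : Function.Surjective f := by
    rintro ⟨⟨z, hzm⟩, hz⟩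
    rw [Subgroup.mem_center_iff] at hz
    obtain ⟨c, hc⟩ := central_scalar h gv ginv z (by
      intro g hg
      have := hz ⟨g, hg⟩
      exact congrArg Subtype.val this)
    exact ⟨c, Subtype.ext (Subtype.ext hc.symm)⟩
  rw [← Nat.card_congr (Equiv.ofBijective f ⟨hinj, hsurj⟩), Nat.card_eq_fintype_card,
    Fintype.card_units, hF]

end main

end Cfsg.Agent.Lib.Helper77.J3
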