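import Cfsg.Agent.Lib.Helper77.J3MatKey

set_option autoImplicit false
set_option linter.style.haveILetI false

/-! Row checks (boolean, for the kernel) of the stabilizer table, the transversal table and the
suborbit table of the triple cover of J3, with their specifications. -/

namespace Cfsg.Agent.Lib.Helper77.J3

/-- The bound `2 ^ 162` for matrix keys. -/
def lim162 : ℕ := 5846006549323611672814739330865132078623730171904

theorem lim162_eq : lim162 = 2 ^ 162 := by norm_num [lim162]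

/-- The check of a row `(key, depth, parent key, generator)` of the stabilizer table: the key is
the product of a generator with the key of the parent, of smaller depth, and the products with
all generators are in the table. -/
def rowK (t : Tr) (hs : List ℕ) (r : ℕ × ℕ × ℕ × ℕ) : Bool :=
  Nat.blt r.1 lim162 &&
  (bif Nat.beq r.2.1 0 then Nat.beq r.1 oneK else
    (Nat.beq (t.get r.2.2.1) r.2.1 && decide (r.2.2.2 < hs.length) &&
      Nat.beq (mulKK (hs.getD r.2.2.2 oneK) r.2.2.1) r.1)) &&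
  hs.all fun h => !(Nat.beq (t.get (mulKK h r.1)) 0)

theorem rowK_spec (t : Tr) (hs : List ℕ) (k d p j : ℕ) (h : rowK t hs (k, d, p, j) = true) :
    k < 2 ^ 162 ∧
      ((d = 0 ∧ k = oneK) ∨ (d ≠ 0 ∧ t.get p = d ∧ j < hs.length ∧
        mulKK (hs.getD j oneK) p = k)) ∧
      ∀ x ∈ hs, t.get (mulKK x k) ≠ 0 := by
  unfold rowK at h
  simp only [Bool.and_eq_true, Nat.blt_eq] at h
  obtain ⟨⟨h1, h2⟩, h3⟩ := h
  refine ⟨by rw [← lim162_eq]; exact h1, ?_, ?_⟩
  · cases hd : Nat.beq d 0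
    · rw [hd, cond_false] at h2
      simp only [Bool.and_eq_true, decide_eq_true_eq] at h2
      have hd' : d ≠ 0 := by
        intro e
        rw [e] at hd
        exact absurd hd (by decide)
      exact Or.inr ⟨hd', Nat.eq_of_beq_eq_true h2.1.1, h2.1.2, Nat.eq_of_beq_eq_true h2.2⟩
    · rw [hd, cond_true] at h2
      exact Or.inl ⟨Nat.eq_of_beq_eq_true hd, Nat.eq_of_beq_eq_true h2⟩
  · intro x hx
    rw [List.all_eq_true] at h3
    have := h3 x hx
    intro e
    rw [e] at this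
    exact absurd this (by decide)

/-- One Schreier check: `P * u = u_q * k_i`, with `u_q` and `k_i` looked up by number. -/
def chkU (uT kI : Tr) (P : P9) (u q i : ℕ) : Bool :=
  !(Nat.beq (uT.get q) 0) && !(Nat.beq (kI.get i) 0) &&
    Nat.beq (mulK P u) (mulKK (Nat.pred (uT.get q)) (Nat.pred (kI.get i)))

theorem chkU_spec (uT kI : Tr) (P : P9) (u q i : ℕ) (h : chkU uT kI P u q i = true) :
    ∃ uq kk, uT.get q = uq + 1 ∧ kI.get i = kk + 1 ∧ mulK P u = mulKK uq kk := by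
  unfold chkU at h
  simp only [Bool.and_eq_true, Bool.not_eq_true'] at h
  obtain ⟨⟨h1, h2⟩, h3⟩ := h
  have e1 : uT.get q ≠ 0 := by
    intro e
    rw [e] at h1
    exact absurd h1 (by decide)
  have e2 : kI.get i ≠ 0 := by
    intro e
    rw [e] at h2
    exact absurd h2 (by decide)
  refine ⟨Nat.pred (uT.get q), Nat.pred (kI.get i), ?_, ?_, Nat.eq_of_beq_eq_true h3⟩
  · exact (Nat.succ_pred e1).symm
  · exact (Nat.succ_pred e2).symm

/-- The check of a row `(number, key, q1, i1, q2, i2, q3, i3)` of the transversal table. -/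
def rowU (uT kI : Tr) (P1 P2 P3 : P9) (r : ℕ × ℕ × ℕ × ℕ × ℕ × ℕ × ℕ × ℕ) : Bool :=
  Nat.beq (uT.get r.1) (Nat.succ r.2.1) &&
  chkU uT kI P1 r.2.1 r.2.2.1 r.2.2.2.1 &&
  chkU uT kI P2 r.2.1 r.2.2.2.2.1 r.2.2.2.2.2.1 &&
  chkU uT kI P3 r.2.1 r.2.2.2.2.2.2.1 r.2.2.2.2.2.2.2

theorem rowU_spec (uT kI : Tr) (P1 P2 P3 : P9) (n u q1 i1 q2 i2 q3 i3 : ℕ)
    (h : rowU uT kI P1 P2 P3 (n, u, q1, i1, q2, i2, q3, i3) = true) :
    uT.get n = u + 1 ∧ chkU uT kI P1 u q1 i1 = true ∧ chkU uT kI P2 u q2 i2 = true ∧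
      chkU uT kI P3 u q3 i3 = true := by
  unfold rowU at h
  simp only [Bool.and_eq_true] at h
  obtain ⟨⟨⟨h1, h2⟩, h3⟩, h4⟩ := h
  exact ⟨Nat.eq_of_beq_eq_true h1, h2, h3, h4⟩

/-- The check of a row `(key, depth, parent key, generator)` of the suborbit number `o` with
root `root`: the payload in the tree is `32 * depth + o`. -/
def rowS (t : Tr) (hl : List P9) (o root : ℕ) (r : ℕ × ℕ × ℕ × ℕ) : Bool :=
  Nat.blt r.1 262144 && Nat.beq (leadP r.1) 1 &&
  Nat.beq (t.get r.1) (Nat.succ (Nat.add (Nat.mul 32 r.2.1) o)) &&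
  (bif Nat.beq r.2.1 0 then Nat.beq r.1 root else
    (Nat.beq (Nat.add (t.get r.2.2.1) 32) (Nat.succ (Nat.add (Nat.mul 32 r.2.1) o)) &&
      decide (r.2.2.2 < hl.length) &&
      Nat.beq (stepKeyP (hl.getD r.2.2.2 pOne) r.2.2.1) r.1))

theorem rowS_spec (t : Tr) (hl : List P9) (o root k d p j : ℕ)
    (h : rowS t hl o root (k, d, p, j) = true) :
    k < 262144 ∧ leadP k = 1 ∧ t.get k = 32 * d + o + 1 ∧
      ((d = 0 ∧ k = root) ∨ (d ≠ 0 ∧ t.get p + 32 = 32 * d + o + 1 ∧ j < hl.length ∧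
        stepKeyP (hl.getD j pOne) p = k)) := by
  unfold rowS at h
  simp only [Bool.and_eq_true, Nat.blt_eq] at h
  obtain ⟨⟨⟨h1, h2⟩, h3⟩, h4⟩ := h
  refine ⟨h1, Nat.eq_of_beq_eq_true h2, Nat.eq_of_beq_eq_true h3, ?_⟩
  cases hd : Nat.beq d 0
  · rw [hd, cond_false] at h4
    simp only [Bool.and_eq_true, decide_eq_true_eq] at h4
    have hd' : d ≠ 0 := by
      intro e
      rw [e] at hd
      exact absurd hd (by decide)
    exact Or.inr ⟨hd', Nat.eq_of_beq_eq_true h4.1.1, h4.1.2, Nat.eq_of_beq_eq_true h4.2⟩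
  · rw [hd, cond_true] at h4
    exact Or.inl ⟨Nat.eq_of_beq_eq_true hd, Nat.eq_of_beq_eq_true h4⟩

end Cfsg.Agent.Lib.Helper77.J3
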