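import Cfsg.Agent.Lib.Helper77.J3Chk

set_option autoImplicit false
set_option linter.style.haveILetI false

/-! Further row checks for the tables of the triple cover of J3: rows of the suborbit table with
the number of their suborbit, and certificates for products of conjugates. -/

namespace Cfsg.Agent.Lib.Helper77.J3

/-- The check of a row `(key, suborbit, depth, parent key, generator)` of the suborbit table. -/
def rowS5 (t : Tr) (hl : List P9) (roots : List ℕ) (r : ℕ × ℕ × ℕ × ℕ × ℕ) : Bool :=
  rowS t hl r.2.1 (roots.getD r.2.1 0) (r.1, r.2.2.1, r.2.2.2.1, r.2.2.2.2) && Nat.blt r.2.1 28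

theorem rowS5_spec (t : Tr) (hl : List P9) (roots : List ℕ) (k o d p j : ℕ)
    (h : rowS5 t hl roots (k, o, d, p, j) = true) :
    rowS t hl o (roots.getD o 0) (k, d, p, j) = true ∧ o < 28 := by
  unfold rowS5 at h
  simp only [Bool.and_eq_true, Nat.blt_eq] at h
  exact h

/-- The number of the suborbit of a key. -/
def orbOf (t : Tr) (k : ℕ) : ℕ := Nat.mod (Nat.pred (t.get k)) 32

end Cfsg.Agent.Lib.Helper77.J3
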