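import Cfsg.Agent.Lib.Helper77.J3Vec

set_option autoImplicit false
set_option linter.style.haveILetI false

/-! Fast packed versions (a vector is one 18-bit number, only accelerated `Nat` primitives are
used) of the operations of `J3Vec`, with the lemmas relating them to the bit-sliced ones. -/

namespace Cfsg.Agent.Lib.Helper77.J3

/-- The bit `i` of `n`, times `c`. -/
def bitm (n i c : ℕ) : ℕ := Nat.mul (Nat.mod (Nat.shiftRight n i) 2) c

/-- A packed matrix: the keys of the columns and of `ω` times the columns. -/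
structure P9 where
  a0 : ℕ
  a1 : ℕ
  a2 : ℕ
  a3 : ℕ
  a4 : ℕ
  a5 : ℕ
  a6 : ℕ
  a7 : ℕ
  a8 : ℕ
  b0 : ℕ
  b1 : ℕ
  b2 : ℕ
  b3 : ℕ
  b4 : ℕ
  b5 : ℕ
  b6 : ℕ
  b7 : ℕ
  b8 : ℕ
  deriving DecidableEq

/-- Packed matrix times packed vector. -/
def P9.apply (M : P9) (n : ℕ) : ℕ :=
  Nat.xor (Nat.xor (bitm n 0 M.a0) (bitm n 9 M.b0))
  (Nat.xor (Nat.xor (bitm n 1 M.a1) (bitm n 10 M.b1))
  (Nat.xor (Nat.xor (bitm n 2 M.a2) (bitm n 11 M.b2))
  (Nat.xor (Nat.xor (bitm n 3 M.a3) (bitm n 12 M.b3))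
  (Nat.xor (Nat.xor (bitm n 4 M.a4) (bitm n 13 M.b4))
  (Nat.xor (Nat.xor (bitm n 5 M.a5) (bitm n 14 M.b5))
  (Nat.xor (Nat.xor (bitm n 6 M.a6) (bitm n 15 M.b6))
  (Nat.xor (Nat.xor (bitm n 7 M.a7) (bitm n 16 M.b7))
  (Nat.xor (bitm n 8 M.a8) (bitm n 17 M.b8)))))))))

/-- Pack a matrix. -/
def pk (M : M9) : P9 :=
  ⟨M.c0.key, M.c1.key, M.c2.key, M.c3.key, M.c4.key, M.c5.key, M.c6.key, M.c7.key, M.c8.key,
    M.c0.mulw.key, M.c1.mulw.key, M.c2.mulw.key, M.c3.mulw.key, M.c4.mulw.key, M.c5.mulw.key,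
    M.c6.mulw.key, M.c7.mulw.key, M.c8.mulw.key⟩

theorem key_eq (v : V9) : v.key = 2 ^ 9 * v.hi + v.lo := by
  unfold V9.key
  norm_num
  ring

theorem testBit_key_lo {v : V9} (hv : v.Valid) {i : ℕ} (hi : i < 9) :
    v.key.testBit i = v.lo.testBit i := by
  rw [key_eq, Nat.testBit_two_pow_mul_add _ (by simpa using hv.1), if_pos hi]

theorem testBit_key_hi {v : V9} (hv : v.Valid) (i : ℕ) :
    v.key.testBit (9 + i) = v.hi.testBit i := by
  rw [key_eq, Nat.testBit_two_pow_mul_add _ (by simpa using hv.1), if_neg (by omega)]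
  congr 1
  omega

theorem key_add {u v : V9} (hu : u.Valid) (hv : v.Valid) :
    (u.add v).key = Nat.xor u.key v.key := by
  apply Nat.eq_of_testBit_eq
  intro i
  have hx : Nat.xor u.key v.key = u.key ^^^ v.key := rfl
  rw [hx, Nat.testBit_xor]
  have hadd := V9.valid_add hu hv
  by_cases hi : i < 9
  · rw [testBit_key_lo hadd hi, testBit_key_lo hu hi, testBit_key_lo hv hi]
    simp [V9.add, Nat.testBit_xor]
  · obtain ⟨j, rfl⟩ : ∃ j, i = 9 + j := ⟨i - 9, by omega⟩
    rw [testBit_key_hi hadd, testBit_key_hi hu, testBit_key_hi hv]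
    simp [V9.add, Nat.testBit_xor]

theorem bitm_eq (n i c : ℕ) : bitm n i c = (n.testBit i).toNat * c := by
  unfold bitm
  rw [Nat.toNat_testBit]
  show (n >>> i) % 2 * c = _
  rw [Nat.shiftRight_eq_div_pow]

theorem key_zero : V9.zero.key = 0 := rfl

theorem key_sel (b : Bool) (c : V9) : (V9.sel b c).key = b.toNat * c.key := by
  cases b
  · simp [V9.sel, key_zero]
  · simp [V9.sel]

theorem key_term {c v : V9} (hc : c.Valid) (hv : v.Valid) {i j : ℕ} (hi : i < 9)
    (hj : j = 9 + i) :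
    (V9.term c v i).key = Nat.xor (bitm v.key i c.key) (bitm v.key j c.mulw.key) := by
  subst hj
  unfold V9.term
  rw [key_add (V9.valid_sel _ hc) (V9.valid_sel _ (V9.valid_mulw hc)), key_sel, key_sel,
    bitm_eq, bitm_eq, testBit_key_lo hv hi, testBit_key_hi hv]

theorem apply_pk {M : M9} (hM : M.Valid) {v : V9} (hv : v.Valid) :
    (pk M).apply v.key = (M.apply v).key := by
  obtain ⟨h0, h1, h2, h3, h4, h5, h6, h7, h8⟩ := hM
  unfold M9.apply P9.apply pk
  simp only
  have t8 := V9.valid_term h8 v 8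
  have s7 := V9.valid_add (V9.valid_term h7 v 7) t8
  have s6 := V9.valid_add (V9.valid_term h6 v 6) s7
  have s5 := V9.valid_add (V9.valid_term h5 v 5) s6
  have s4 := V9.valid_add (V9.valid_term h4 v 4) s5
  have s3 := V9.valid_add (V9.valid_term h3 v 3) s4
  have s2 := V9.valid_add (V9.valid_term h2 v 2) s3
  have s1 := V9.valid_add (V9.valid_term h1 v 1) s2
  rw [key_add (V9.valid_term h0 v 0) s1, key_add (V9.valid_term h1 v 1) s2,
    key_add (V9.valid_term h2 v 2) s3, key_add (V9.valid_term h3 v 3) s4,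
    key_add (V9.valid_term h4 v 4) s5, key_add (V9.valid_term h5 v 5) s6,
    key_add (V9.valid_term h6 v 6) s7, key_add (V9.valid_term h7 v 7) t8,
    key_term h0 hv (by norm_num) (j := 9) rfl, key_term h1 hv (by norm_num) (j := 10) rfl,
    key_term h2 hv (by norm_num) (j := 11) rfl, key_term h3 hv (by norm_num) (j := 12) rfl,
    key_term h4 hv (by norm_num) (j := 13) rfl, key_term h5 hv (by norm_num) (j := 14) rfl,
    key_term h6 hv (by norm_num) (j := 15) rfl, key_term h7 hv (by norm_num) (j := 16) rfl,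
    key_term h8 hv (by norm_num) (j := 17) rfl]

/-- The code of the coordinate `i` of a packed vector. -/
def codeP (n i : ℕ) : ℕ :=
  Nat.add (Nat.mod (Nat.shiftRight n i) 2) (Nat.mul 2 (Nat.mod (Nat.shiftRight n (Nat.add i 9)) 2))

theorem codeP_key {v : V9} (hv : v.Valid) {i : ℕ} (hi : i < 9) : codeP v.key i = v.code i := by
  unfold codeP V9.code
  have e1 : Nat.mod (Nat.shiftRight v.key i) 2 = (v.key.testBit i).toNat := by
    rw [Nat.toNat_testBit]
    show (v.key >>> i) % 2 = _
    rw [Nat.shiftRight_eq_div_pow]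
  have e2 : Nat.mod (Nat.shiftRight v.key (Nat.add i 9)) 2 = (v.key.testBit (9 + i)).toNat := by
    rw [Nat.toNat_testBit]
    show (v.key >>> (i + 9)) % 2 = _
    rw [Nat.shiftRight_eq_div_pow, Nat.add_comm]
  rw [e1, e2, testBit_key_lo hv hi, testBit_key_hi hv]
  rfl

/-- The first nonzero code of a packed vector along a list of indices. -/
def leadPL (n : ℕ) : List ℕ → ℕ
  | [] => 0
  | i :: l => bif Nat.beq (codeP n i) 0 then leadPL n l else codeP n i

theorem leadPL_key {v : V9} (hv : v.Valid) (l : List ℕ) (hl : ∀ i ∈ l, i < 9) :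
    leadPL v.key l = v.leadL l := by
  induction l with
  | nil => rfl
  | cons i l ih =>
    unfold leadPL V9.leadL
    rw [codeP_key hv (hl i List.mem_cons_self)]
    by_cases hc : v.code i = 0
    · have : Nat.beq (v.code i) 0 = true := by rw [hc]; rfl
      rw [this, cond_true, if_neg (not_not.mpr hc)]
      exact ih fun j hj => hl j (List.mem_cons_of_mem _ hj)
    · have : Nat.beq (v.code i) 0 = false := by
        cases hb : Nat.beq (v.code i) 0
        · rfl
        · exact absurd (Nat.eq_of_beq_eq_true hb) hc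
      rw [this, cond_false, if_pos hc]

/-- The first nonzero code of a packed vector. -/
def leadP (n : ℕ) : ℕ := leadPL n [0, 1, 2, 3, 4, 5, 6, 7, 8]

theorem leadP_key {v : V9} (hv : v.Valid) : leadP v.key = v.lead :=
  leadPL_key hv _ (by decide)

/-- Multiplication by `ω` on packed vectors. -/
def mulwP (n : ℕ) : ℕ :=
  Nat.add (Nat.shiftRight n 9) (Nat.mul 512 (Nat.xor (Nat.mod n 512) (Nat.shiftRight n 9)))

theorem mulwP_key {v : V9} (hv : v.Valid) : mulwP v.key = v.mulw.key := by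
  have h1 : Nat.shiftRight v.key 9 = v.hi := by
    show v.key >>> 9 = _
    rw [Nat.shiftRight_eq_div_pow]
    unfold V9.key
    have := hv.1
    omega
  have h2 : Nat.mod v.key 512 = v.lo := by
    show v.key % 512 = _
    unfold V9.key
    have := hv.1
    omega
  unfold mulwP
  rw [h1, h2]
  unfold V9.mulw V9.key
  show v.hi + 512 * (v.lo ^^^ v.hi) = _
  rfl

/-- Normalization of a packed vector. -/
def normP (n : ℕ) : ℕ :=
  match leadP n with
  | 1 => n
  | 2 => mulwP (mulwP n)
  | 3 => mulwP n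
  | _ => 0

theorem normP_key {v : V9} (hv : v.Valid) : normP v.key = v.normalize.key := by
  unfold normP V9.normalize
  rw [leadP_key hv]
  have hlt := lead_lt v
  interval_cases hl : v.lead
  · simp [invC, V9.smul, key_zero]
  · simp [invC, V9.smul]
  · have : V9.smul (invC 2) v = v.mulw.mulw := by simp [invC, V9.smul]
    rw [this, mulwP_key hv, mulwP_key (V9.valid_mulw hv)]
    rfl
  · have : V9.smul (invC 3) v = v.mulw := by simp [invC, V9.smul]
    rw [this, mulwP_key hv]
    rfl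

/-- The key of the normalized image. -/
def stepKeyP (M : P9) (n : ℕ) : ℕ := normP (M.apply n)

theorem stepKeyP_eq {M : M9} (hM : M.Valid) {v : V9} (hv : v.Valid) :
    stepKeyP (pk M) v.key = (M.apply v).normalize.key := by
  unfold stepKeyP
  rw [apply_pk hM hv, normP_key (M9.valid_apply hM v)]

end Cfsg.Agent.Lib.Helper77.J3
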