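import Mathlib
import Cfsg.Prelude.Def_Spor_J3
import Cfsg.Agent.Lib.Helper93.XSTransport

set_option autoImplicit false
set_option linter.style.haveILetI false

/-! An isomorphism of fields carrying `ω` to `ω'` induces an isomorphism of the groups J3 built on
them (used to pass between universes). -/

namespace Cfsg.Agent.Lib.Helper77.J3Iso

open Cfsg.Spor
open scoped MatrixGroups

universe u v

variable {F : Type u} {F' : Type v} [Field F] [Field F']

theorem map_omegaPow (σ : F →+* F') (ω : F) (n : ZMod 3) :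
    σ (omegaPow F ω n) = omegaPow F' (σ ω) n := by
  unfold omegaPow
  rw [map_pow]

theorem map_j3A (σ : F →+* F') (ω : F) (Z : F9) : (j3A F ω Z).map σ = j3A F' (σ ω) Z := by
  ext w z
  simp only [j3A, Matrix.map_apply, Matrix.diagonal_apply]
  split_ifs
  · exact map_omegaPow σ ω _
  · exact map_zero σ

theorem map_j3E (σ : F →+* F') (ω : F) (Z : F9) : (j3E F ω Z).map σ = j3E F' (σ ω) Z := by
  ext w z
  simp only [j3E, Matrix.map_apply, Matrix.diagonal_apply]
  split_ifs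
  · exact map_omegaPow σ ω _
  · exact map_zero σ

theorem map_j3Lam (σ : F →+* F') (ω : F) (Z z : F9) : σ (j3Lam F ω Z z) = j3Lam F' (σ ω) Z z := by
  unfold j3Lam
  split_ifs
  · exact map_one σ
  · rfl
  · exact map_pow σ ω 2
  · exact map_one σ

theorem map_j3D (σ : F →+* F') (ω : F) (Z : F9) : (j3D F ω Z).map σ = j3D F' (σ ω) Z := by
  ext w z
  simp only [j3D, Matrix.map_apply, Matrix.of_apply]
  split_ifs
  · exact map_j3Lam σ ω Z z
  · exact map_zero σ

theorem map_j3B (σ : F →+* F') (Z : F9) : (j3B F Z).map σ = j3B F' Z := by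
  ext w z
  simp only [j3B, Matrix.map_apply, Matrix.of_apply]
  split_ifs
  · exact map_one σ
  · exact map_zero σ

theorem map_j3C (σ : F →+* F') (Z : F9) : (j3C F Z).map σ = j3C F' Z := by
  ext w z
  simp only [j3C, Matrix.map_apply, Matrix.of_apply]
  split_ifs <;> first | exact map_one σ | exact map_zero σ

theorem gens_map (σ : F →+* F') (ω : F) {M : Matrix F9 F9 F} (hM : M ∈ j3Gens F ω) :
    M.map σ ∈ j3Gens F' (σ ω) := by
  unfold j3Gens at hM ⊢
  simp only [Set.mem_union, Set.mem_range, Set.mem_ofPred_eq] at hM ⊢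
  rcases hM with (((⟨Z, rfl⟩ | ⟨Z, rfl⟩) | ⟨Z, rfl⟩) | ⟨Z, hZ, rfl⟩) | ⟨Z, hZ, rfl⟩
  · exact Or.inl (Or.inl (Or.inl (Or.inl ⟨Z, (map_j3A σ ω Z).symm⟩)))
  · exact Or.inl (Or.inl (Or.inl (Or.inr ⟨Z, (map_j3E σ ω Z).symm⟩)))
  · exact Or.inl (Or.inl (Or.inr ⟨Z, (map_j3D σ ω Z).symm⟩))
  · exact Or.inl (Or.inr ⟨Z, hZ, map_j3B σ Z⟩)
  · exact Or.inr ⟨Z, hZ, map_j3C σ Z⟩

/-- The isomorphism of general linear groups induced by an isomorphism of fields. -/
noncomputable def glEquiv (σ : F ≃+* F') : GL F9 F ≃* GL F9 F' :=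
  Units.mapEquiv (σ.mapMatrix (m := F9)).toMulEquiv

theorem glEquiv_val (σ : F ≃+* F') (g : GL F9 F) :
    ((glEquiv σ g : GL F9 F') : Matrix F9 F9 F') = (g : Matrix F9 F9 F).map σ := rfl

theorem glEquiv_symm_val (σ : F ≃+* F') (g : GL F9 F') :
    (((glEquiv σ).symm g : GL F9 F) : Matrix F9 F9 F) = (g : Matrix F9 F9 F').map σ.symm := rfl

theorem map_threeJ3 (σ : F ≃+* F') (ω : F) :
    (threeJ3 F ω).map (glEquiv σ).toMonoidHom = threeJ3 F' (σ ω) := by
  unfold threeJ3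
  rw [MonoidHom.map_closure]
  congr 1
  ext g
  simp only [Set.mem_image, Set.mem_setOf_eq]
  constructor
  · rintro ⟨x, hx, rfl⟩
    show ((glEquiv σ x : GL F9 F') : Matrix F9 F9 F') ∈ _
    rw [glEquiv_val]
    exact gens_map (σ : F →+* F') ω hx
  · intro hg
    refine ⟨(glEquiv σ).symm g, ?_, ?_⟩
    · rw [glEquiv_symm_val]
      have := gens_map (σ.symm : F' →+* F) (σ ω) hg
      simpa using this
    · show glEquiv σ ((glEquiv σ).symm g) = g
      exact (glEquiv σ).apply_symm_apply g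

theorem j3_equiv (σ : F ≃+* F') (ω : F) : Nonempty (J3 F ω ≃* J3 F' (σ ω)) := by
  let e1 : threeJ3 F ω ≃* (threeJ3 F ω).map (glEquiv σ).toMonoidHom :=
    (glEquiv σ).subgroupMap (threeJ3 F ω)
  let e2 : (threeJ3 F ω).map (glEquiv σ).toMonoidHom ≃* threeJ3 F' (σ ω) :=
    MulEquiv.subgroupCongr (map_threeJ3 σ ω)
  let e : threeJ3 F ω ≃* threeJ3 F' (σ ω) := e1.trans e2
  exact ⟨QuotientGroup.congr _ _ e (Cfsg.Agent.Lib.Helper93.center_map_mulEquiv e)⟩

end Cfsg.Agent.Lib.Helper77.J3Iso
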