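import Cfsg.Agent.Lib.Helper77.J3Tab

set_option autoImplicit false
set_option linter.style.haveILetI false

/-! Semantics of the orbit tables of the triple cover of J3: reachability of every table entry from
the root, closure of the table under the whole group, and completeness for isotropic vectors. The
theorems take the kernel-checked facts about the tables as hypotheses. -/

namespace Cfsg.Agent.Lib.Helper77.J3

open Cfsg.Spor Matrix

variable {F : Type} [Field F] {ω : F}

/-- The kernel-checked facts about an orbit table. -/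
structure OrbTab (t : Tr) (rows : List (ℕ × ℕ × ℕ × ℕ)) (gLit : List P9) (root : ℕ) : Prop where
  rows_ok : ∀ r ∈ rows, rowBP t gLit root r = true
  toList : t.toList = rows.map (fun r => (r.1, r.2.1))
  gens_ok : ∀ j < 45, validJ j → gLit.getD j pOne = pk (gM j)
  gens_valid : ∀ j < 45, validJ j → (gM j).Valid
  ginv : ∀ j < 45, validJ j → ∃ N : M9, (gM j).mul N = M9.one ∧ N.mul (gM j) = M9.one

theorem gen_unit (h : IsF4 F ω) (j : ℕ) (hj : validJ j) (N : M9) (h1 : (gM j).mul N = M9.one)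
    (h2 : N.mul (gM j) = M9.one) :
    ∃ g ∈ threeJ3 F ω, (g : Matrix F9 F9 F) = toMat ω (gM j) := by
  refine ⟨⟨toMat ω (gM j), toMat ω N, ?_, ?_⟩, ?_, rfl⟩
  · rw [← toMat_mul h, h1, toMat_one]
  · rw [← toMat_mul h, h2, toMat_one]
  · apply Subgroup.subset_closure
    exact gens_mem h j hj

theorem normalize_of_lead_zero {v : V9} (hv : v.lead = 0) : v.normalize = V9.zero := by
  unfold V9.normalize
  rw [hv]
  simp [invC, V9.smul]

theorem lead_zero : V9.zero.lead = 0 := by decide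

theorem leadP_unkey {k : ℕ} (hk : k < 262144) : leadP k = (unkey k).lead := by
  have := leadP_key (valid_unkey hk)
  rwa [key_unkey] at this

/-- Semantics of one step of a table. -/
theorem step_sem (h : IsF4 F ω) {M : M9} (hM : M.Valid) {p k : ℕ} (hp : p < 262144)
    (hk : stepKeyP (pk M) p = k) (hlead : leadP k = 1) (hk' : k < 262144) :
    ∃ c : F, c ≠ 0 ∧ toMat ω M *ᵥ dec ω (unkey p) = c • dec ω (unkey k) := by
  have hv := valid_unkey hp
  have e1 : stepKeyP (pk M) p = ((M.apply (unkey p)).normalize).key := by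
    have := stepKeyP_eq hM hv
    rwa [key_unkey] at this
  set u := M.apply (unkey p) with hu
  have huv : u.Valid := M9.valid_apply hM _
  have hk2 : unkey k = u.normalize := by
    rw [← hk, e1]
    exact unkey_key (V9.valid_normalize huv)
  have hl : u.normalize.lead = 1 := by
    rw [← hk2, ← leadP_unkey hk']
    exact hlead
  have hne : u.lead ≠ 0 := by
    intro e
    rw [normalize_of_lead_zero e, lead_zero] at hl
    exact absurd hl (by norm_num)
  obtain ⟨c, hc, hdec⟩ := dec_normalize (ω := ω) h u hne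
  refine ⟨c, hc, ?_⟩
  rw [← dec_apply h, ← hu, hdec, hk2]

/-- The table entry `k` is reachable from the root. -/
def Reach (ω : F) (root k : ℕ) : Prop :=
  ∃ g ∈ threeJ3 F ω, ∃ c : F, c ≠ 0 ∧
    (g : Matrix F9 F9 F) *ᵥ dec ω (unkey root) = c • dec ω (unkey k)

theorem validJ_lt {j : ℕ} (hj : validJ j) : j < 45 := hj.1

theorem reach_rows (h : IsF4 F ω) {t : Tr} {rows : List (ℕ × ℕ × ℕ × ℕ)} {gLit : List P9}
    {root : ℕ} (T : OrbTab t rows gLit root) :
    ∀ d, ∀ r ∈ rows, r.2.1 = d → Reach ω root r.1 := by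
  intro d
  induction d using Nat.strong_induction_on with
  | _ d ih =>
    rintro ⟨k, d', p, j⟩ hr hd
    simp only at hd
    subst hd
    obtain ⟨hk, hlead, hcase⟩ := rowBP_spec t gLit root k d' p j (T.rows_ok _ hr)
    rcases hcase with ⟨_, hroot⟩ | ⟨hd0, hget, hj, hstep⟩
    · subst hroot
      exact ⟨1, Subgroup.one_mem _, 1, one_ne_zero, by simp⟩
    · -- the parent
      obtain ⟨e, rfl⟩ : ∃ e, d' = e + 1 := ⟨d' - 1, by omega⟩
      have hmem := Tr.get_mem t p e hget
      rw [T.toList] at hmem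
      obtain ⟨⟨p', e', p2, j2⟩, hr', hpe⟩ := List.mem_map.mp hmem
      simp only [Prod.mk.injEq] at hpe
      obtain ⟨rfl, rfl⟩ := hpe
      obtain ⟨g', hg', c', hc', hreach⟩ := ih e' (by omega) _ hr' rfl
      simp only at hreach
      have hp : p' < 262144 := (rowBP_spec t gLit root p' e' p2 j2 (T.rows_ok _ hr')).1
      have hjlt := validJ_lt hj
      rw [T.gens_ok j hjlt hj] at hstep
      obtain ⟨c, hc, hs⟩ := step_sem (ω := ω) h (T.gens_valid j hjlt hj) hp hstep hlead hk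
      obtain ⟨N, hN1, hN2⟩ := T.ginv j hjlt hj
      obtain ⟨gj, hgj, hgjm⟩ := gen_unit (ω := ω) h j hj N hN1 hN2
      refine ⟨gj * g', Subgroup.mul_mem _ hgj hg', c' * c, mul_ne_zero hc' hc, ?_⟩
      simp only
      rw [Units.val_mul, ← Matrix.mulVec_mulVec, hreach, Matrix.mulVec_smul, hgjm, hs, smul_smul]

/-- The facts about the closure of a table under the generators. -/
structure ClosTab (rows : List (ℕ × ℕ × ℕ × ℕ)) (bm : ℕ) (gl : List P9) : Prop where
  clos : ∀ r ∈ rows, closBP bm gl r.1 = true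
  bm_eq : bm = bmOf (rows.map (fun r => r.1))
  gl_ok : ∀ j < 45, validJ j → pk (gM j) ∈ gl

theorem closed_gen (h : IsF4 F ω) {t : Tr} {rows : List (ℕ × ℕ × ℕ × ℕ)} {gLit : List P9}
    {root : ℕ} (T : OrbTab t rows gLit root) {bm : ℕ} {gl : List P9} (C : ClosTab rows bm gl)
    (M : Matrix F9 F9 F) (hM : M ∈ j3Gens F ω) (r : ℕ × ℕ × ℕ × ℕ) (hr : r ∈ rows) :
    ∃ r' ∈ rows, ∃ c : F, c ≠ 0 ∧ M *ᵥ dec ω (unkey r.1) = c • dec ω (unkey r'.1) := by
  obtain ⟨j, hj, rfl⟩ := gens_cover h M hM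
  have hjlt := validJ_lt hj
  have hb := closBP_spec bm gl r.1 (C.clos r hr) _ (C.gl_ok j hjlt hj)
  rw [C.bm_eq] at hb
  have hmem := bmOf_spec _ _ hb
  obtain ⟨r', hr', hk'⟩ := List.mem_map.mp hmem
  obtain ⟨k, d, p, j0⟩ := r
  obtain ⟨k', d', p', j'⟩ := r'
  simp only at hk'
  obtain ⟨hklt, _, _⟩ := rowBP_spec t gLit root k d p j0 (T.rows_ok _ hr)
  obtain ⟨hk'lt, hlead', _⟩ := rowBP_spec t gLit root k' d' p' j' (T.rows_ok _ hr')
  obtain ⟨c, hc, hs⟩ := step_sem (ω := ω) h (T.gens_valid j hjlt hj) hklt hk'.symm hlead' hk'lt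
  exact ⟨_, hr', c, hc, hs⟩

theorem closed_all [Finite F] (h : IsF4 F ω) {t : Tr} {rows : List (ℕ × ℕ × ℕ × ℕ)}
    {gLit : List P9} {root : ℕ} (T : OrbTab t rows gLit root) {bm : ℕ} {gl : List P9}
    (C : ClosTab rows bm gl) (g : GL F9 F) (hg : g ∈ threeJ3 F ω) :
    ∀ r ∈ rows, ∃ r' ∈ rows, ∃ c : F, c ≠ 0 ∧
      (g : Matrix F9 F9 F) *ᵥ dec ω (unkey r.1) = c • dec ω (unkey r'.1) := by
  have key : ∀ x ∈ Submonoid.closure {g : GL F9 F | (g : Matrix F9 F9 F) ∈ j3Gens F ω},
      ∀ r ∈ rows, ∃ r' ∈ rows, ∃ c : F, c ≠ 0 ∧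
        (x : Matrix F9 F9 F) *ᵥ dec ω (unkey r.1) = c • dec ω (unkey r'.1) := by
    intro x hx
    induction hx using Submonoid.closure_induction with
    | mem x hx => exact fun r hr => closed_gen h T C _ hx r hr
    | one => exact fun r hr => ⟨r, hr, 1, one_ne_zero, by simp⟩
    | mul x y _ _ ihx ihy =>
      intro r hr
      obtain ⟨r1, hr1, c1, hc1, e1⟩ := ihy r hr
      obtain ⟨r2, hr2, c2, hc2, e2⟩ := ihx r1 hr1
      refine ⟨r2, hr2, c1 * c2, mul_ne_zero hc1 hc2, ?_⟩
      rw [Units.val_mul, ← Matrix.mulVec_mulVec, e1, Matrix.mulVec_smul, e2, smul_smul]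
  apply key
  unfold threeJ3 at hg
  rw [← Subgroup.closure_toSubmonoid_of_finite]
  exact hg

theorem dec_unkey_one : dec ω (unkey 1) = (Pi.single (0 : F9) (1 : F) : F9 → F) := by
  funext z
  have e : unkey 1 = ⟨1, 0⟩ := rfl
  rw [e]
  simp only [dec, Nat.zero_testBit]
  by_cases hz : z = 0
  · subst hz
    have : idx (0 : F9) = 0 := rfl
    simp [encB, this]
  · have hi : idx z ≠ 0 := by
      intro e0
      apply hz
      have : idx z = idx (0 : F9) := by rw [e0]; rfl
      exact idx_inj this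
    have ht : Nat.testBit 1 (idx z) = false := by
      have := Nat.testBit_two_pow (n := 0) (m := idx z)
      simp only [pow_zero] at this
      rw [this]
      simp only [decide_eq_false_iff_not]
      exact fun e0 => hi e0.symm
    simp [encB, ht, hz]

/-- Lines spanned by nonzero multiples agree. -/
theorem span_smul_eq (c : F) (hc : c ≠ 0) (f : F9 → F) :
    Submodule.span F {c • f} = Submodule.span F {f} :=
  Submodule.span_singleton_smul_eq (IsUnit.mk0 c hc) f

theorem line_injOn (h : IsF4 F ω) {k k' : ℕ} (hk : k < 262144) (hk' : k' < 262144)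
    (hl : leadP k = 1) (hl' : leadP k' = 1)
    (e : Submodule.span F {dec ω (unkey k)} = Submodule.span F {dec ω (unkey k')}) : k = k' := by
  rw [Submodule.span_singleton_eq_span_singleton] at e
  obtain ⟨z, hz⟩ := e
  have hc : (z : F) ≠ 0 := z.ne_zero
  have e' : dec ω (unkey k') = (z : F) • dec ω (unkey k) := by
    rw [← hz]; rfl
  have h1 := scalar_eq_one (ω := ω) h (by rw [← leadP_unkey hk']; exact hl')
    (by rw [← leadP_unkey hk]; exact hl) (z : F) hc e'
  rw [h1, one_smul] at e'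
  have := dec_injective h (valid_unkey hk') (valid_unkey hk) e'
  have e2 := congrArg V9.key this
  rw [key_unkey, key_unkey] at e2
  exact e2.symm

/-- The orbit of the first basis line is exactly the table. -/
theorem orbit_ncard [Finite F] (h : IsF4 F ω) {t : Tr} {rows : List (ℕ × ℕ × ℕ × ℕ)}
    {gLit : List P9} (T : OrbTab t rows gLit 1) {bm : ℕ} {gl : List P9}
    (C : ClosTab rows bm gl) (hroot : t.get 1 = 1)
    (hincr : isIncr3 (rows.map (fun r => r.1)) = true) (N : ℕ) (hlen : rows.length = N) :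
    {L : Submodule F (F9 → F) | ∃ g ∈ threeJ3 F ω,
      L = Submodule.span F {(g : Matrix F9 F9 F) *ᵥ (Pi.single (0 : F9) (1 : F) : F9 → F)}}.ncard
      = N := by
  classical
  set keys := rows.map (fun r => r.1) with hkeys
  -- the root row
  have hmem0 := Tr.get_mem t 1 0 hroot
  rw [T.toList] at hmem0
  obtain ⟨r0, hr0, hr0e⟩ := List.mem_map.mp hmem0
  simp only [Prod.mk.injEq] at hr0e
  have hset : {L : Submodule F (F9 → F) | ∃ g ∈ threeJ3 F ω,
      L = Submodule.span F {(g : Matrix F9 F9 F) *ᵥ (Pi.single (0 : F9) (1 : F) : F9 → F)}} =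
      (fun k => Submodule.span F {dec ω (unkey k)}) '' {k | k ∈ keys} := by
    ext L
    simp only [Set.mem_ofPred_eq, Set.mem_image]
    constructor
    · rintro ⟨g, hg, rfl⟩
      obtain ⟨r', hr', c, hc, e⟩ := closed_all h T C g hg r0 hr0
      rw [hr0e.1, dec_unkey_one] at e
      refine ⟨r'.1, List.mem_map.mpr ⟨r', hr', rfl⟩, ?_⟩
      rw [e, span_smul_eq c hc]
    · rintro ⟨k, hk, rfl⟩
      obtain ⟨r, hr, rfl⟩ := List.mem_map.mp hk
      obtain ⟨g, hg, c, hc, e⟩ := reach_rows h T _ r hr rfl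
      rw [dec_unkey_one] at e
      exact ⟨g, hg, by rw [e, span_smul_eq c hc]⟩
  rw [hset]
  have hinj : Set.InjOn (fun k => Submodule.span F {dec ω (unkey k)}) {k | k ∈ keys} := by
    intro k hk k' hk' e
    obtain ⟨r, hr, rfl⟩ := List.mem_map.mp hk
    obtain ⟨r', hr', rfl⟩ := List.mem_map.mp hk'
    obtain ⟨k, d, p, j⟩ := r
    obtain ⟨k', d', p', j'⟩ := r'
    obtain ⟨h1, h2, _⟩ := rowBP_spec t gLit 1 k d p j (T.rows_ok _ hr)
    obtain ⟨h1', h2', _⟩ := rowBP_spec t gLit 1 k' d' p' j' (T.rows_ok _ hr')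
    exact line_injOn h h1 h1' h2 h2' e
  rw [hinj.ncard_image]
  have hnodup : keys.Nodup := by
    have hp := isIncr3_pairwise keys hincr
    exact hp.imp (fun hab => Nat.ne_of_lt hab)
  have : {k | k ∈ keys} = (↑keys.toFinset : Set ℕ) := by
    ext k; simp
  rw [this, Set.ncard_coe_finset, List.toFinset_card_of_nodup hnodup, hkeys, List.length_map, hlen]

/-- The vector with the given bits. -/
def encV (a b : F9 → Bool) : V9 := ⟨bitsL (allZ.map a), bitsL (allZ.map b)⟩

theorem bitsL_lt : ∀ l : List Bool, bitsL l < 2 ^ l.length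
  | [] => by simp [bitsL]
  | b :: l => by
    have ih := bitsL_lt l
    have hb : b.toNat ≤ 1 := Bool.toNat_le b
    simp only [bitsL, List.length_cons, pow_succ]
    omega

theorem valid_encV (a b : F9 → Bool) : (encV a b).Valid := by
  have ha := bitsL_lt (allZ.map a)
  have hb := bitsL_lt (allZ.map b)
  have hl : ∀ f : F9 → Bool, (allZ.map f).length = 9 := fun f => by simp [allZ]
  rw [hl] at ha hb
  have e : (2 : ℕ) ^ 9 = 512 := by norm_num
  rw [e] at ha hb
  exact ⟨ha, hb⟩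

theorem dec_encV (a b : F9 → Bool) (z : F9) : dec ω (encV a b) z = encB ω (a z) (b z) := by
  simp only [dec, encV, testBit_bitsL, allZ_getD]

theorem exists_enc (h : IsF4 F ω) (f : F9 → F) : ∃ v : V9, v.Valid ∧ dec ω v = f := by
  choose a b hab using fun z => encB_surj h (f z)
  exact ⟨encV a b, valid_encV a b, funext fun z => by rw [dec_encV, ← hab z]⟩

theorem natCast_eq_zero_iff (h : IsF4 F ω) (n : ℕ) : ((n : ℕ) : F) = 0 ↔ n % 2 = 0 := by
  have h2 : ((2 : ℕ) : F) = 0 := by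
    have := h.add_self 1
    norm_num at this ⊢
    exact this
  have e : ((n : ℕ) : F) = ((n % 2 : ℕ) : F) := by
    conv_lhs => rw [← Nat.div_add_mod n 2]
    rw [Nat.cast_add, Nat.cast_mul, h2, zero_mul, zero_add]
  rw [e]
  rcases Nat.mod_two_eq_zero_or_one n with h0 | h1
  · simp [h0]
  · simp [h1]

/-- The number of nonzero coordinates (among the first nine bits of the mask). -/
def cnt (m : ℕ) : ℕ :=
  (m.testBit 0).toNat + (m.testBit 1).toNat + (m.testBit 2).toNat + (m.testBit 3).toNat +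
    (m.testBit 4).toNat + (m.testBit 5).toNat + (m.testBit 6).toNat + (m.testBit 7).toNat +
    (m.testBit 8).toNat

theorem evenW_eq (m : ℕ) : evenW m = (cnt m % 2 == 0) := rfl

theorem sum_cube (h : IsF4 F ω) (v : V9) :
    ∑ z, dec ω v z ^ 3 = ((cnt (v.lo ||| v.hi) : ℕ) : F) := by
  have hterm : ∀ z : F9, dec ω v z ^ 3 = ((((v.lo ||| v.hi).testBit (idx z)).toNat : ℕ) : F) := by
    intro z
    simp only [dec]
    rw [encB_cube h, Nat.testBit_or]
    cases (v.lo.testBit (idx z) || v.hi.testBit (idx z)) <;> simp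
  rw [sum_F9]
  simp only [hterm]
  have e0 : idx (0, 0) = 0 := rfl
  have e1 : idx (0, 1) = 1 := rfl
  have e2 : idx (0, 2) = 2 := rfl
  have e3 : idx (1, 0) = 3 := rfl
  have e4 : idx (1, 1) = 4 := rfl
  have e5 : idx (1, 2) = 5 := rfl
  have e6 : idx (2, 0) = 6 := rfl
  have e7 : idx (2, 1) = 7 := rfl
  have e8 : idx (2, 2) = 8 := rfl
  rw [e0, e1, e2, e3, e4, e5, e6, e7, e8]
  unfold cnt
  push_cast
  rfl

theorem iso_iff (h : IsF4 F ω) (v : V9) :
    (∑ z, dec ω v z ^ 3 = 0) ↔ evenW (v.lo ||| v.hi) = true := by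
  rw [sum_cube h, natCast_eq_zero_iff h, evenW_eq]
  simp

/-- Every nonzero isotropic vector is a multiple of a table entry. -/
theorem iso_in_table (h : IsF4 F ω) {t : Tr} {rows : List (ℕ × ℕ × ℕ × ℕ)} {gLit : List P9}
    {root : ℕ} (T : OrbTab t rows gLit root) {bm : ℕ} (hbm : bm = bmOf (rows.map (fun r => r.1)))
    (comp : ∀ a < 512, ∀ b < 512, compBP bm a b = true) (f : F9 → F) (hf : f ≠ 0)
    (hiso : ∑ z, f z ^ 3 = 0) :
    ∃ r ∈ rows, ∃ c : F, c ≠ 0 ∧ f = c • dec ω (unkey r.1) := by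
  obtain ⟨v, hv, rfl⟩ := exists_enc (ω := ω) h f
  have hc := comp v.lo hv.1 v.hi hv.2
  unfold compBP at hc
  have hor : Nat.lor v.lo v.hi = v.lo ||| v.hi := rfl
  rw [hor] at hc
  simp only [Bool.or_eq_true] at hc
  have hm : v.lo ||| v.hi < 512 := Nat.or_lt_two_pow (n := 9) hv.1 hv.2
  rcases hc with (h0 | h1) | h2
  · exfalso
    have e0 : v.lo ||| v.hi = 0 := Nat.eq_of_beq_eq_true h0
    rw [Nat.or_eq_zero_iff] at e0
    apply hf
    obtain ⟨lo, hi⟩ := v
    simp only at e0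
    rw [e0.1, e0.2]
    exact dec_zero
  · exfalso
    rw [parP_spec _ hm, (iso_iff h v).mp hiso] at h1
    exact absurd h1 (by decide)
  · have ek : Nat.add v.lo (Nat.mul 512 v.hi) = v.key := rfl
    rw [ek, normP_key hv, hbm] at h2
    have hmem := bmOf_spec _ _ h2
    obtain ⟨r, hr, hk⟩ := List.mem_map.mp hmem
    obtain ⟨k, d, p, j⟩ := r
    simp only at hk
    obtain ⟨hklt, hlead, _⟩ := rowBP_spec t gLit root k d p j (T.rows_ok _ hr)
    have hun : unkey k = v.normalize := by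
      rw [hk]; exact unkey_key (V9.valid_normalize hv)
    have hl : v.normalize.lead = 1 := by
      rw [← hun, ← leadP_unkey hklt]; exact hlead
    have hne : v.lead ≠ 0 := by
      intro e
      rw [normalize_of_lead_zero e, lead_zero] at hl
      exact absurd hl (by norm_num)
    obtain ⟨c, hc, hdec⟩ := dec_normalize (ω := ω) h v hne
    exact ⟨_, hr, c, hc, by rw [hdec, hun]⟩

/-- The group is transitive on the isotropic lines. -/
theorem iso_transitive (h : IsF4 F ω) {t : Tr} {rows : List (ℕ × ℕ × ℕ × ℕ)} {gLit : List P9}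
    {root : ℕ} (T : OrbTab t rows gLit root) {bm : ℕ} (hbm : bm = bmOf (rows.map (fun r => r.1)))
    (comp : ∀ a < 512, ∀ b < 512, compBP bm a b = true) :
    ∀ v w : F9 → F, v ≠ 0 → w ≠ 0 → ∑ z, v z ^ 3 = 0 → ∑ z, w z ^ 3 = 0 →
      ∃ g ∈ threeJ3 F ω, ∃ c : F, c ≠ 0 ∧ (g : Matrix F9 F9 F) *ᵥ v = c • w := by
  intro v w hv hw hvi hwi
  obtain ⟨r1, hr1, c1, hc1, e1⟩ := iso_in_table h T hbm comp v hv hvi
  obtain ⟨r2, hr2, c2, hc2, e2⟩ := iso_in_table h T hbm comp w hw hwi
  obtain ⟨g1, hg1, d1, hd1, f1⟩ := reach_rows h T _ r1 hr1 rfl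
  obtain ⟨g2, hg2, d2, hd2, f2⟩ := reach_rows h T _ r2 hr2 rfl
  refine ⟨g2 * g1⁻¹, Subgroup.mul_mem _ hg2 (Subgroup.inv_mem _ hg1),
    c1 * d1⁻¹ * d2 * c2⁻¹, by
      exact mul_ne_zero (mul_ne_zero (mul_ne_zero hc1 (inv_ne_zero hd1)) hd2) (inv_ne_zero hc2), ?_⟩
  -- the inverse of g1 applied to the first table vector
  have hinv : ((g1⁻¹ : GL F9 F) : Matrix F9 F9 F) *ᵥ dec ω (unkey r1.1) =
      d1⁻¹ • dec ω (unkey root) := by
    have e : dec ω (unkey r1.1) = d1⁻¹ • ((g1 : Matrix F9 F9 F) *ᵥ dec ω (unkey root)) := by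
      rw [f1, smul_smul, inv_mul_cancel₀ hd1, one_smul]
    rw [e, Matrix.mulVec_smul, Matrix.mulVec_mulVec]
    have : ((g1⁻¹ : GL F9 F) : Matrix F9 F9 F) * (g1 : Matrix F9 F9 F) = 1 := by
      rw [← Units.val_mul, inv_mul_cancel, Units.val_one]
    rw [this, Matrix.one_mulVec]
  have hw2 : dec ω (unkey r2.1) = c2⁻¹ • w := by
    rw [e2, smul_smul, inv_mul_cancel₀ hc2, one_smul]
  rw [Units.val_mul, ← Matrix.mulVec_mulVec, e1, Matrix.mulVec_smul, hinv, Matrix.mulVec_smul,
    Matrix.mulVec_smul, f2, hw2]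
  simp only [smul_smul]
  congr 1
  ring

end Cfsg.Agent.Lib.Helper77.J3
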