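import Cfsg.Agent.Lib.Helper77.J3Chk
import Cfsg.Agent.Lib.Helper77.J3Orb

set_option autoImplicit false
set_option linter.style.haveILetI false

/-! Semantics of the stabilizer table and of the transversal table of the triple cover of J3:
the stabilizer table is the set of matrices of the subgroup generated by its generators, and every
element of the group generated by three generators is a product of a transversal element and an
element of the stabilizer table. -/

namespace Cfsg.Agent.Lib.Helper77.J3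

open Cfsg.Spor Matrix

variable {F : Type} [Field F] {ω : F}

/-- The key `k` is the matrix of an element of the subgroup `H`. -/
def Rep (H : Subgroup (GL F9 F)) (ω : F) (k : ℕ) : Prop :=
  ∃ g ∈ H, (g : Matrix F9 F9 F) = matOf ω k

theorem rep_one (H : Subgroup (GL F9 F)) : Rep H ω oneK :=
  ⟨1, H.one_mem, by rw [matOf_one]; rfl⟩

theorem rep_mul (h : IsF4 F ω) {H : Subgroup (GL F9 F)} {a b : ℕ} (ha : Rep H ω a)
    (hb : Rep H ω b) : Rep H ω (mulKK a b) := by
  obtain ⟨x, hx, ex⟩ := ha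
  obtain ⟨y, hy, ey⟩ := hb
  exact ⟨x * y, H.mul_mem hx hy, by rw [Units.val_mul, ex, ey, matOf_mul h]⟩

theorem rep_mono {H H' : Subgroup (GL F9 F)} (hle : H ≤ H') {k : ℕ} (hk : Rep H ω k) :
    Rep H' ω k := by
  obtain ⟨g, hg, e⟩ := hk
  exact ⟨g, hle hg, e⟩

/-- The defining generators are represented by their keys. -/
theorem rep_gen (h : IsF4 F ω)
    (gv : ∀ j < 45, validJ j → (gM j).Valid)
    (ginv : ∀ j < 45, validJ j → ∃ N : M9, (gM j).mul N = M9.one ∧ N.mul (gM j) = M9.one)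
    (j : ℕ) (hj : validJ j) : Rep (threeJ3 F ω) ω (gM j).mkey := by
  obtain ⟨N, h1, h2⟩ := ginv j hj.1 hj
  obtain ⟨g, hg, e⟩ := gen_unit (ω := ω) h j hj N h1 h2
  exact ⟨g, hg, by rw [e, matOf_mkey (gv j hj.1 hj)]⟩

/-- The kernel-checked facts about the stabilizer table. -/
structure KTab (t : Tr) (rows : List (ℕ × ℕ × ℕ × ℕ)) (hs : List ℕ) : Prop where
  rows_ok : ∀ r ∈ rows, rowK t hs r = true
  toList : t.toList = rows.map (fun r => (r.1, r.2.1))
  root : t.get oneK = 1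

theorem ktab_reach (h : IsF4 F ω) {t : Tr} {rows : List (ℕ × ℕ × ℕ × ℕ)} {hs : List ℕ}
    (T : KTab t rows hs) (H : Subgroup (GL F9 F)) (hH : ∀ x ∈ hs, Rep H ω x) :
    ∀ d, ∀ r ∈ rows, r.2.1 = d → Rep H ω r.1 := by
  intro d
  induction d using Nat.strong_induction_on with
  | _ d ih =>
    rintro ⟨k, d', p, j⟩ hr hd
    simp only at hd
    subst hd
    obtain ⟨_, hcase, _⟩ := rowK_spec t hs k d' p j (T.rows_ok _ hr)
    rcases hcase with ⟨_, hk⟩ | ⟨hd0, hget, hj, hstep⟩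
    · subst hk
      exact rep_one H
    · obtain ⟨e, rfl⟩ : ∃ e, d' = e + 1 := ⟨d' - 1, by omega⟩
      have hmem := Tr.get_mem t p e hget
      rw [T.toList] at hmem
      obtain ⟨⟨p', e', p2, j2⟩, hr', hpe⟩ := List.mem_map.mp hmem
      simp only [Prod.mk.injEq] at hpe
      obtain ⟨rfl, rfl⟩ := hpe
      have hp := ih e' (by omega) _ hr' rfl
      simp only at hp
      have hx : hs.getD j oneK ∈ hs := by
        rw [List.getD_eq_getElem _ _ hj]
        exact List.getElem_mem hj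
      rw [← hstep]
      exact rep_mul h (hH _ hx) hp

theorem ktab_row_of_get {t : Tr} {rows : List (ℕ × ℕ × ℕ × ℕ)} {hs : List ℕ}
    (T : KTab t rows hs) {k : ℕ} (hk : t.get k ≠ 0) : ∃ r ∈ rows, r.1 = k := by
  obtain ⟨d, hd⟩ : ∃ d, t.get k = d + 1 := ⟨t.get k - 1, by omega⟩
  have hmem := Tr.get_mem t k d hd
  rw [T.toList] at hmem
  obtain ⟨r, hr, hre⟩ := List.mem_map.mp hmem
  simp only [Prod.mk.injEq] at hre
  exact ⟨r, hr, hre.1⟩

/-- The table contains the matrices of the subgroup generated by the generators. -/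
theorem ktab_closed [Finite F] (h : IsF4 F ω) {t : Tr} {rows : List (ℕ × ℕ × ℕ × ℕ)}
    {hs : List ℕ} (T : KTab t rows hs) (S : Set (GL F9 F))
    (hS : ∀ g ∈ S, ∃ x ∈ hs, (g : Matrix F9 F9 F) = matOf ω x) :
    ∀ g ∈ Subgroup.closure S, ∃ r ∈ rows, (g : Matrix F9 F9 F) = matOf ω r.1 := by
  have key : ∀ x ∈ Submonoid.closure S, ∃ r ∈ rows, (x : Matrix F9 F9 F) = matOf ω r.1 := by
    intro x hx
    induction hx using Submonoid.closure_induction_left with
    | one =>
      obtain ⟨r, hr, hre⟩ := ktab_row_of_get T (k := oneK) (by rw [T.root]; norm_num)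
      exact ⟨r, hr, by rw [hre, matOf_one]; rfl⟩
    | mul_left x hx y _ ih =>
      obtain ⟨r, hr, e⟩ := ih
      obtain ⟨a, ha, ea⟩ := hS x hx
      obtain ⟨k, d, p, j⟩ := r
      obtain ⟨_, _, hcl⟩ := rowK_spec t hs k d p j (T.rows_ok _ hr)
      obtain ⟨r', hr', hre'⟩ := ktab_row_of_get T (hcl a ha)
      refine ⟨r', hr', ?_⟩
      rw [Units.val_mul, ea, e, hre', matOf_mul h]
  intro g hg
  apply key
  rw [← Subgroup.closure_toSubmonoid_of_finite]
  exact hg

/-- The kernel-checked facts about the transversal table. -/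
structure UTab (uT kI : Tr) (urows : List (ℕ × ℕ × ℕ × ℕ × ℕ × ℕ × ℕ × ℕ)) (P1 P2 P3 : P9)
    (krows : List (ℕ × ℕ × ℕ × ℕ)) : Prop where
  rows_ok : ∀ r ∈ urows, rowU uT kI P1 P2 P3 r = true
  toList : uT.toList = urows.map (fun r => (r.1, r.2.1))
  root : uT.get 0 = oneK + 1
  kI_ok : kI.toList.map Prod.snd = krows.map (fun r => r.1)

theorem utab_row_of_get {uT kI : Tr} {urows : List (ℕ × ℕ × ℕ × ℕ × ℕ × ℕ × ℕ × ℕ)}
    {P1 P2 P3 : P9} {krows : List (ℕ × ℕ × ℕ × ℕ)} (U : UTab uT kI urows P1 P2 P3 krows)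
    {q u : ℕ} (hq : uT.get q = u + 1) : ∃ r ∈ urows, r.2.1 = u := by
  have hmem := Tr.get_mem uT q u hq
  rw [U.toList] at hmem
  obtain ⟨r, hr, hre⟩ := List.mem_map.mp hmem
  simp only [Prod.mk.injEq] at hre
  exact ⟨r, hr, hre.2⟩

theorem utab_krow_of_get {uT kI : Tr} {urows : List (ℕ × ℕ × ℕ × ℕ × ℕ × ℕ × ℕ × ℕ)}
    {P1 P2 P3 : P9} {krows : List (ℕ × ℕ × ℕ × ℕ)} (U : UTab uT kI urows P1 P2 P3 krows)
    {i k : ℕ} (hi : kI.get i = k + 1) : ∃ r ∈ krows, r.1 = k := by
  have hmem := Tr.get_mem kI i k hi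
  have h2 : k ∈ kI.toList.map Prod.snd := List.mem_map.mpr ⟨(i, k), hmem, rfl⟩
  rw [U.kI_ok] at h2
  exact List.mem_map.mp h2

/-- Every element of the group generated by the three generators is the product of a transversal
element and an element of the stabilizer table. -/
theorem utab_closed [Finite F] (h : IsF4 F ω) {uT kI : Tr}
    {urows : List (ℕ × ℕ × ℕ × ℕ × ℕ × ℕ × ℕ × ℕ)} {P1 P2 P3 : P9}
    {krows : List (ℕ × ℕ × ℕ × ℕ)} (U : UTab uT kI urows P1 P2 P3 krows)
    (s1 s2 s3 : ℕ) (hP : P1 = pkK s1 ∧ P2 = pkK s2 ∧ P3 = pkK s3)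
    (K : Subgroup (GL F9 F)) (hKrep : ∀ r ∈ krows, Rep K ω r.1)
    (hKcl : ∀ g ∈ K, ∃ r ∈ krows, (g : Matrix F9 F9 F) = matOf ω r.1)
    (S : Set (GL F9 F))
    (hS : ∀ g ∈ S, (g : Matrix F9 F9 F) = matOf ω s1 ∨ (g : Matrix F9 F9 F) = matOf ω s2 ∨
      (g : Matrix F9 F9 F) = matOf ω s3) :
    ∀ g ∈ Subgroup.closure S, ∃ ru ∈ urows, ∃ rk ∈ krows,
      (g : Matrix F9 F9 F) = matOf ω ru.2.1 * matOf ω rk.1 := by
  obtain ⟨hP1, hP2, hP3⟩ := hP
  -- one Schreier step
  have step : ∀ (s : ℕ) (P : P9), P = pkK s → ∀ u q i, chkU uT kI P u q i = true →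
      ∀ rk ∈ krows, ∃ ru' ∈ urows, ∃ rk' ∈ krows,
        matOf ω s * (matOf ω u * matOf ω rk.1) = matOf ω ru'.2.1 * matOf ω rk'.1 := by
    intro s P hPs u q i hchk rk hrk
    obtain ⟨uq, kk, huq, hkk, hmul⟩ := chkU_spec uT kI P u q i hchk
    obtain ⟨ru', hru', hue⟩ := utab_row_of_get U huq
    obtain ⟨rkk, hrkk, hke⟩ := utab_krow_of_get U hkk
    obtain ⟨x, hx, ex⟩ := hKrep rkk hrkk
    obtain ⟨y, hy, ey⟩ := hKrep rk hrk
    obtain ⟨rk', hrk', e'⟩ := hKcl (x * y) (K.mul_mem hx hy)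
    refine ⟨ru', hru', rk', hrk', ?_⟩
    have e1 : matOf ω s * matOf ω u = matOf ω uq * matOf ω kk := by
      rw [← matOf_mul h, ← matOf_mul h]
      have : mulKK s u = mulK P u := by rw [hPs]; rfl
      rw [this, hmul]
    rw [← Matrix.mul_assoc, e1, Matrix.mul_assoc, hue, ← e', Units.val_mul, ex, ey, hke]
  have key : ∀ x ∈ Submonoid.closure S, ∃ ru ∈ urows, ∃ rk ∈ krows,
      (x : Matrix F9 F9 F) = matOf ω ru.2.1 * matOf ω rk.1 := by
    intro x hx
    induction hx using Submonoid.closure_induction_left with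
    | one =>
      obtain ⟨ru, hru, hue⟩ := utab_row_of_get U U.root
      obtain ⟨g1, hg1, eg1⟩ := hKcl 1 K.one_mem
      obtain ⟨rk, hrk, ek⟩ := hKcl 1 K.one_mem
      refine ⟨ru, hru, rk, hrk, ?_⟩
      rw [hue, matOf_one, ← ek, Matrix.one_mul]
    | mul_left x hx y _ ih =>
      obtain ⟨ru, hru, rk, hrk, e⟩ := ih
      obtain ⟨n, u, q1, i1, q2, i2, q3, i3⟩ := ru
      obtain ⟨_, c1, c2, c3⟩ := rowU_spec uT kI P1 P2 P3 n u q1 i1 q2 i2 q3 i3 (U.rows_ok _ hru)
      simp only at e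
      rw [Units.val_mul, e]
      rcases hS x hx with ex | ex | ex
      · rw [ex]; exact step s1 P1 hP1 u q1 i1 c1 rk hrk
      · rw [ex]; exact step s2 P2 hP2 u q2 i2 c2 rk hrk
      · rw [ex]; exact step s3 P3 hP3 u q3 i3 c3 rk hrk
  intro g hg
  apply key
  rw [← Subgroup.closure_toSubmonoid_of_finite]
  exact hg

/-- A subgroup all of whose matrices are products from two lists has at most the product of the
lengths many elements. -/
theorem card_le_of_cover [Finite F] {α β : Type} (H : Subgroup (GL F9 F)) (l1 : List α)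
    (l2 : List β) (f : α → β → Matrix F9 F9 F)
    (hcov : ∀ g ∈ H, ∃ a ∈ l1, ∃ b ∈ l2, (g : Matrix F9 F9 F) = f a b) :
    Nat.card H ≤ l1.length * l2.length := by
  classical
  haveI : Fintype F := Fintype.ofFinite F
  let φ : H → Matrix F9 F9 F := fun g => ((g : GL F9 F) : Matrix F9 F9 F)
  have hinj : Function.Injective φ := by
    intro x y e
    exact Subtype.ext (Units.ext e)
  have hrange : Set.range φ ⊆ ↑((l1.product l2).toFinset.image (fun p => f p.1 p.2)) := by
    rintro _ ⟨g, rfl⟩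
    obtain ⟨a, ha, b, hb, e⟩ := hcov g g.2
    simp only [Finset.coe_image, Set.mem_image, Finset.mem_coe, List.mem_toFinset]
    exact ⟨(a, b), List.mem_product.mpr ⟨ha, hb⟩, e.symm⟩
  calc Nat.card H = (Set.range φ).ncard := by
        rw [← Set.image_univ, Set.ncard_image_of_injective _ hinj, Set.ncard_univ]
    _ ≤ (↑((l1.product l2).toFinset.image (fun p => f p.1 p.2)) : Set _).ncard :=
        Set.ncard_le_ncard hrange (Finset.finite_toSet _)
    _ = ((l1.product l2).toFinset.image (fun p => f p.1 p.2)).card := Set.ncard_coe_finset _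
    _ ≤ (l1.product l2).toFinset.card := Finset.card_image_le
    _ ≤ (l1.product l2).length := List.toFinset_card_le _
    _ = l1.length * l2.length := List.length_product _ _

end Cfsg.Agent.Lib.Helper77.J3
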