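import Cfsg.Agent.Lib.Helper77.J3Max
import Cfsg.Agent.Lib.Helper77.J3Cen
import Cfsg.Agent.Lib.Helper77.IwasawaQuot

set_option autoImplicit false
set_option linter.style.haveILetI false
set_option linter.unusedSectionVars false

/-! The quotient of the triple cover of J3 by its centre is simple (Iwasawa criterion for the
action on the 23256 images of the first basis line). -/

namespace Cfsg.Agent.Lib.Helper77.J3

open Cfsg.Spor Matrix

variable {F : Type} [Field F] {ω : F}

attribute [local instance] lineAct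

/-- The key of the element of order 3 that is normal in the stabilizer. -/
def kA : ℕ := (gM 9).mkey

/-- One conjugation certificate: `x * g = g * a ^ e` for the element `g` of the word `w`. -/
def conjOK (x : ℕ) (w : List ℕ) (e : ℕ) : Bool :=
  Nat.beq (mulKK x (wordKey [kD, kB, kC] w))
    (mulKK (wordKey [kD, kB, kC] w) (bif Nat.beq e 1 then kA else mulKK kA kA))

/-- The key `s` is the product of the listed conjugates. -/
def chkConj (l : List (ℕ × List ℕ × ℕ)) (s : ℕ) : Bool :=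
  l.all (fun t => conjOK t.1 t.2.1 t.2.2) &&
    Nat.beq (l.foldr (fun t acc => mulKK t.1 acc) oneK) s

/-- The kernel-checked facts for the Iwasawa criterion. -/
structure IwaData (tr1 : Tr) (lD lB lC : List (ℕ × List ℕ × ℕ)) : Prop where
  kA_cube : mulKK kA (mulKK kA kA) = oneK
  norm_b : mulKK kB kA = mulKK (mulKK kA kA) kB
  norm_c : mulKK kC kA = mulKK kA kC
  norm_e : mulKK kE kA = mulKK kA kE
  certD : chkConj lD kD = true
  certB : chkConj lB kB = true
  certC : chkConj lC kC = true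
  coord : ∀ i < 9, tr1.get (2 ^ i) ≠ 0
  full : tr1.get 511 ≠ 0

theorem mem_normalizer_zpowers {G : Type*} [Group G] (g a : G)
    (h1 : g * a * g⁻¹ ∈ Subgroup.zpowers a) (h2 : g⁻¹ * a * g ∈ Subgroup.zpowers a) :
    g ∈ Subgroup.normalizer (Subgroup.zpowers a : Set G) := by
  rw [Subgroup.mem_normalizer_iff]
  intro x
  constructor
  · intro hx
    obtain ⟨n, rfl⟩ := Subgroup.mem_zpowers_iff.mp hx
    rw [← conj_zpow]
    exact Subgroup.zpow_mem _ h1 n
  · intro hx
    obtain ⟨n, hn⟩ := Subgroup.mem_zpowers_iff.mp hx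
    have : x = (g⁻¹ * a * g) ^ n := by
      have e := conj_zpow (a := g⁻¹) (b := a) (i := n)
      rw [inv_inv] at e
      rw [e, hn]
      group
    rw [this]
    exact Subgroup.zpow_mem _ h2 n

theorem dec_single (i : ℕ) (hi : i < 9) :
    dec ω (⟨2 ^ i, 0⟩ : V9) = (Pi.single (zOf i) (1 : F) : F9 → F) := by
  funext z
  simp only [dec, Nat.zero_testBit, Nat.testBit_two_pow]
  have hz : idx (zOf i) = i := by
    have : ∀ i < 9, idx (zOf i) = i := by decide
    exact this i hi
  by_cases hzi : z = zOf i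
  · subst hzi
    rw [hz]
    simp [encB]
  · have : i ≠ idx z := by
      intro e
      apply hzi
      rw [e, zOf_idx]
    simp [encB, this, hzi]

theorem dec_ones : dec ω (⟨511, 0⟩ : V9) = fun _ => (1 : F) := by
  funext z
  have : ∀ j < 9, Nat.testBit 511 j = true := by decide
  simp only [dec, Nat.zero_testBit, this _ (idx_lt z)]
  simp [encB]

theorem unkey_pow (i : ℕ) (hi : i < 9) : unkey (2 ^ i) = ⟨2 ^ i, 0⟩ := by
  interval_cases i <;> rfl

theorem unkey_511 : unkey 511 = ⟨511, 0⟩ := rfl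

/-- A matrix fixing the coordinate lines and the line of the all-one vector is scalar. -/
theorem scalar_of_fix (M : Matrix F9 F9 F)
    (hc : ∀ z : F9, ∃ c : F, M *ᵥ (Pi.single z (1 : F) : F9 → F) = c • Pi.single z (1 : F))
    (hf : ∃ c : F, M *ᵥ (fun _ => (1 : F)) = c • fun _ => (1 : F)) :
    ∃ c : F, M = c • (1 : Matrix F9 F9 F) := by
  choose cz hcz using hc
  obtain ⟨c, hc⟩ := hf
  have hent : ∀ w z : F9, M w z = if w = z then cz z else 0 := by
    intro w z
    have := congrFun (hcz z) w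
    rw [Matrix.mulVec_single_one] at this
    have e : M w z = (cz z • (Pi.single z (1 : F) : F9 → F)) w := this
    rw [e]
    by_cases hwz : w = z
    · subst hwz
      simp
    · simp [hwz]
  have hconst : ∀ w : F9, cz w = c := by
    intro w
    have := congrFun hc w
    simp only [Matrix.mulVec, dotProduct, mul_one, Pi.smul_apply, smul_eq_mul] at this
    rw [Finset.sum_eq_single w] at this
    · rw [hent, if_pos rfl] at this
      exact this
    · intro z _ hz
      rw [hent, if_neg (Ne.symm hz)]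
    · intro hw
      exact absurd (Finset.mem_univ _) hw
  refine ⟨c, ?_⟩
  ext w z
  rw [hent, Matrix.smul_apply, Matrix.one_apply, smul_eq_mul]
  by_cases hwz : w = z
  · subst hwz
    rw [if_pos rfl, if_pos rfl, mul_one, hconst]
  · rw [if_neg hwz, if_neg hwz, mul_zero]

theorem elt_ext {x y : threeJ3 F ω}
    (e : ((x : GL F9 F) : Matrix F9 F9 F) = ((y : GL F9 F) : Matrix F9 F9 F)) : x = y :=
  Subtype.ext (Units.ext e)

theorem elt_mul (x y : threeJ3 F ω) :
    (((x * y : threeJ3 F ω) : GL F9 F) : Matrix F9 F9 F) =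
      ((x : GL F9 F) : Matrix F9 F9 F) * ((y : GL F9 F) : Matrix F9 F9 F) := rfl

theorem elt_of_rep {k : ℕ} (hk : Rep (threeJ3 F ω) ω k) :
    ∃ x : threeJ3 F ω, ((x : GL F9 F) : Matrix F9 F9 F) = matOf ω k := by
  obtain ⟨g, hg, e⟩ := hk
  exact ⟨⟨g, hg⟩, e⟩

section main
open Classical
open scoped commutatorElement

variable [Finite F] (h : IsF4 F ω) {kT : Tr} {krows : List (ℕ × ℕ × ℕ × ℕ)} {uT kI : Tr}
  {urows : List (ℕ × ℕ × ℕ × ℕ × ℕ × ℕ × ℕ × ℕ)} {P1 P2 P3 : P9} {words : List (List ℕ)}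
  (D : OrdData F ω kT krows uT kI urows P1 P2 P3 words)
  {tr1 : Tr} {rows1 : List (ℕ × ℕ × ℕ × ℕ)} {gLit : List P9} {bm1 : ℕ}
  {gl : List P9} {tS : Tr} {srows : List (ℕ × ℕ × ℕ × ℕ × ℕ)} {hl : List P9}
  {roots cnt : List ℕ} {B0 : ℕ} {uW : List ℕ}
  (X : MaxData tr1 rows1 gLit bm1 gl tS srows hl roots cnt B0 uW)
  {lD lB lC : List (ℕ × List ℕ × ℕ)} (Y : IwaData tr1 lD lB lC)
  (a' b' c' d' e' : threeJ3 F ω)
  (ha : ((a' : GL F9 F) : Matrix F9 F9 F) = matOf ω kA)
  (hb : ((b' : GL F9 F) : Matrix F9 F9 F) = matOf ω kB)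
  (hc : ((c' : GL F9 F) : Matrix F9 F9 F) = matOf ω kC)
  (hd : ((d' : GL F9 F) : Matrix F9 F9 F) = matOf ω kD)
  (he : ((e' : GL F9 F) : Matrix F9 F9 F) = matOf ω kE)
include h D X Y ha hb hc hd he

theorem a_cube : a' * (a' * a') = 1 := by
  apply elt_ext
  rw [elt_mul, elt_mul, ha, ← matOf_mul h, ← matOf_mul h, Y.kA_cube, matOf_one]
  rfl

theorem a_inv : a'⁻¹ = a' * a' := by
  have := a_cube h D X Y a' b' c' d' e' ha hb hc hd he
  exact inv_eq_of_mul_eq_one_right this

theorem rel_b : b' * a' = a' * a' * b' := by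
  apply elt_ext
  rw [elt_mul, elt_mul, elt_mul, ha, hb, ← matOf_mul h, ← matOf_mul h, ← matOf_mul h, Y.norm_b]

theorem rel_c : c' * a' = a' * c' := by
  apply elt_ext
  rw [elt_mul, elt_mul, ha, hc, ← matOf_mul h, ← matOf_mul h, Y.norm_c]

theorem rel_e : e' * a' = a' * e' := by
  apply elt_ext
  rw [elt_mul, elt_mul, ha, he, ← matOf_mul h, ← matOf_mul h, Y.norm_e]

theorem conj_b : b' * a' * b'⁻¹ = a'⁻¹ := by
  rw [rel_b h D X Y a' b' c' d' e' ha hb hc hd he, mul_inv_cancel_right,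
    a_inv h D X Y a' b' c' d' e' ha hb hc hd he]

theorem conj_b' : b'⁻¹ * a' * b' = a'⁻¹ := by
  have h1 := conj_b h D X Y a' b' c' d' e' ha hb hc hd he
  have : a' = b'⁻¹ * a'⁻¹ * b' := by
    rw [← h1]; group
  calc b'⁻¹ * a' * b' = (b'⁻¹ * a'⁻¹ * b')⁻¹ := by group
    _ = a'⁻¹ := by rw [← this]

/-- Subgroups containing the three generators of the stabilizer contain the stabilizer. -/
theorem stabilizer_le (N : Subgroup (threeJ3 F ω)) (hb' : b' ∈ N) (hc' : c' ∈ N) (he' : e' ∈ N) :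
    MulAction.stabilizer (threeJ3 F ω) (line0 F) ≤ N := by
  intro k hk
  have hk2 : (k : GL F9 F) ∈ stabGL F ω := by
    rw [← stabilizer_eq h D]
    exact ⟨k, hk, rfl⟩
  have hle : stabGL F ω ≤ N.map (threeJ3 F ω).subtype := by
    unfold stabGL
    rw [Subgroup.closure_le]
    intro g hg
    rcases hg with e | e | e
    · exact ⟨b', hb', Units.ext (hb.trans e.symm)⟩
    · exact ⟨c', hc', Units.ext (hc.trans e.symm)⟩
    · exact ⟨e', he', Units.ext (he.trans e.symm)⟩
  obtain ⟨y, hy, ey⟩ := hle hk2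
  have : y = k := Subtype.ext ey
  rw [← this]
  exact hy

/-- Subgroups containing the three generators are everything. -/
theorem eq_top_of_gens (N : Subgroup (threeJ3 F ω)) (hd' : d' ∈ N) (hb' : b' ∈ N)
    (hc' : c' ∈ N) : N = ⊤ := by
  rw [eq_top_iff]
  intro x _
  have hx : (x : GL F9 F) ∈ gen3GL F ω := threeJ3_le_gen3 h D x.2
  have hle : gen3GL F ω ≤ N.map (threeJ3 F ω).subtype := by
    unfold gen3GL
    rw [Subgroup.closure_le]
    intro g hg
    rcases hg with e | e | e
    · exact ⟨d', hd', Units.ext (hd.trans e.symm)⟩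
    · exact ⟨b', hb', Units.ext (hb.trans e.symm)⟩
    · exact ⟨c', hc', Units.ext (hc.trans e.symm)⟩
  obtain ⟨y, hy, ey⟩ := hle hx
  have : y = x := Subtype.ext ey
  rw [← this]
  exact hy

theorem stabilizer_normalizes :
    ∀ k ∈ MulAction.stabilizer (threeJ3 F ω) (line0 F), ∀ x ∈ Subgroup.zpowers a',
      k * x * k⁻¹ ∈ Subgroup.zpowers a' := by
  have hcb := conj_b h D X Y a' b' c' d' e' ha hb hc hd he
  have hcb' := conj_b' h D X Y a' b' c' d' e' ha hb hc hd he
  have hrc := rel_c h D X Y a' b' c' d' e' ha hb hc hd he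
  have hre := rel_e h D X Y a' b' c' d' e' ha hb hc hd he
  have hle := stabilizer_le h D X Y a' b' c' d' e' ha hb hc hd he
    (Subgroup.normalizer (Subgroup.zpowers a' : Set (threeJ3 F ω)))
    (mem_normalizer_zpowers b' a' (by rw [hcb]; exact Subgroup.inv_mem _ (Subgroup.mem_zpowers a'))
      (by rw [hcb']; exact Subgroup.inv_mem _ (Subgroup.mem_zpowers a')))
    (mem_normalizer_zpowers c' a'
      (by rw [hrc, mul_inv_cancel_right]; exact Subgroup.mem_zpowers a')
      (by
        have : c'⁻¹ * a' * c' = a' := by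
          rw [mul_assoc, ← hrc, inv_mul_cancel_left]
        rw [this]; exact Subgroup.mem_zpowers a'))
    (mem_normalizer_zpowers e' a'
      (by rw [hre, mul_inv_cancel_right]; exact Subgroup.mem_zpowers a')
      (by
        have : e'⁻¹ * a' * e' = a' := by
          rw [mul_assoc, ← hre, inv_mul_cancel_left]
        rw [this]; exact Subgroup.mem_zpowers a'))
  intro k hk x hx
  exact (Subgroup.mem_normalizer_iff.mp (hle hk) x).mp hx

theorem rep_three : ∀ x ∈ [kD, kB, kC], Rep (threeJ3 F ω) ω x := by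
  intro x hx
  simp only [List.mem_cons, List.not_mem_nil, or_false] at hx
  rcases hx with rfl | rfl | rfl
  · exact rep_gens h D 21 (by decide)
  · exact rep_gens h D 31 (by decide)
  · exact rep_gens h D 39 (by decide)

/-- A certified conjugate lies in the normal closure. -/
theorem conj_mem (x : ℕ) (w : List ℕ) (e : ℕ) (hchk : conjOK x w e = true) :
    ∃ y ∈ Subgroup.normalClosure (Subgroup.zpowers a' : Set (threeJ3 F ω)),
      ((y : GL F9 F) : Matrix F9 F9 F) = matOf ω x := by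
  obtain ⟨g, hg⟩ := elt_of_rep (rep_word h (rep_three h D X Y a' b' c' d' e' ha hb hc hd he) w)
  have hkey := Nat.eq_of_beq_eq_true hchk
  -- the power of `a`
  obtain ⟨p, hp, hpm⟩ : ∃ p ∈ Subgroup.zpowers a', ((p : GL F9 F) : Matrix F9 F9 F) =
      matOf ω (bif Nat.beq e 1 then kA else mulKK kA kA) := by
    cases Nat.beq e 1
    · refine ⟨a' * a', Subgroup.mul_mem _ (Subgroup.mem_zpowers a') (Subgroup.mem_zpowers a'), ?_⟩
      rw [cond_false, elt_mul, ha, matOf_mul h]
    · exact ⟨a', Subgroup.mem_zpowers a', by rw [cond_true, ha]⟩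
  refine ⟨g * p * g⁻¹, ?_, ?_⟩
  · exact (Subgroup.normalClosure_normal).conj_mem _ (Subgroup.subset_normalClosure hp) g
  · have e1 : matOf ω x * ((g : GL F9 F) : Matrix F9 F9 F) =
        ((g : GL F9 F) : Matrix F9 F9 F) * ((p : GL F9 F) : Matrix F9 F9 F) := by
      rw [hg, hpm, ← matOf_mul h, ← matOf_mul h, hkey]
    have e2 : ((g : GL F9 F) : Matrix F9 F9 F) * (((g⁻¹ : threeJ3 F ω) : GL F9 F) : Matrix F9 F9 F)
        = 1 := by
      rw [← elt_mul, mul_inv_cancel]
      rfl
    rw [elt_mul, elt_mul, ← e1, Matrix.mul_assoc, e2, Matrix.mul_one]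

/-- A certified product of conjugates lies in the normal closure. -/
theorem cert_mem (l : List (ℕ × List ℕ × ℕ)) (s : ℕ) (hchk : chkConj l s = true) :
    ∃ y ∈ Subgroup.normalClosure (Subgroup.zpowers a' : Set (threeJ3 F ω)),
      ((y : GL F9 F) : Matrix F9 F9 F) = matOf ω s := by
  unfold chkConj at hchk
  rw [Bool.and_eq_true] at hchk
  obtain ⟨hall, hprod⟩ := hchk
  rw [← Nat.eq_of_beq_eq_true hprod]
  clear hprod
  induction l with
  | nil => exact ⟨1, Subgroup.one_mem _, by rw [List.foldr_nil, matOf_one]; rfl⟩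
  | cons t l ih =>
    rw [List.all_cons, Bool.and_eq_true] at hall
    obtain ⟨y1, hy1, e1⟩ := conj_mem h D X Y a' b' c' d' e' ha hb hc hd he t.1 t.2.1 t.2.2 hall.1
    obtain ⟨y2, hy2, e2⟩ := ih hall.2
    refine ⟨y1 * y2, Subgroup.mul_mem _ hy1 hy2, ?_⟩
    rw [List.foldr_cons, elt_mul, e1, e2, matOf_mul h]

theorem normalClosure_eq_top :
    Subgroup.normalClosure (Subgroup.zpowers a' : Set (threeJ3 F ω)) = ⊤ := by
  apply eq_top_of_gens h D X Y a' b' c' d' e' ha hb hc hd he
  · obtain ⟨y, hy, e⟩ := cert_mem h D X Y a' b' c' d' e' ha hb hc hd he lD kD Y.certD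
    have : y = d' := elt_ext (e.trans hd.symm)
    rwa [this] at hy
  · obtain ⟨y, hy, e⟩ := cert_mem h D X Y a' b' c' d' e' ha hb hc hd he lB kB Y.certB
    have : y = b' := elt_ext (e.trans hb.symm)
    rwa [this] at hy
  · obtain ⟨y, hy, e⟩ := cert_mem h D X Y a' b' c' d' e' ha hb hc hd he lC kC Y.certC
    have : y = c' := elt_ext (e.trans hc.symm)
    rwa [this] at hy

theorem commutator_eq_top : commutator (threeJ3 F ω) = ⊤ := by
  rw [eq_top_iff, ← normalClosure_eq_top h D X Y a' b' c' d' e' ha hb hc hd he]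
  apply Subgroup.normalClosure_le_normal
  intro x hx
  have ha' : a' ∈ commutator (threeJ3 F ω) := by
    have e : ⁅b', a'⁆ = a' := by
      rw [commutatorElement_def, conj_b h D X Y a' b' c' d' e' ha hb hc hd he,
        a_inv h D X Y a' b' c' d' e' ha hb hc hd he]
      have := a_cube h D X Y a' b' c' d' e' ha hb hc hd he
      calc a' * a' * (a' * a') = a' * (a' * (a' * a')) := by group
        _ = a' := by rw [this, mul_one]
    rw [← e]
    exact Subgroup.commutator_mem_commutator (Subgroup.mem_top _) (Subgroup.mem_top _)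
  have hle : Subgroup.zpowers a' ≤ commutator (threeJ3 F ω) :=
    (Subgroup.zpowers_le).mpr ha'
  exact hle hx

theorem key_of_get1 {k : ℕ} (hk : tr1.get k ≠ 0) : ∃ r ∈ rows1, r.1 = k := by
  obtain ⟨v, hv⟩ : ∃ v, tr1.get k = v + 1 := ⟨tr1.get k - 1, by omega⟩
  have hmem := Tr.get_mem tr1 k v hv
  rw [X.T1.toList] at hmem
  obtain ⟨r, hr, hre⟩ := List.mem_map.mp hmem
  simp only [Prod.mk.injEq] at hre
  exact ⟨r, hr, hre.1⟩

/-- A normal subgroup inside the stabilizer fixes every line of the orbit. -/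
theorem normal_fixes (N : Subgroup (threeJ3 F ω)) (hN : N.Normal)
    (hNK : N ≤ MulAction.stabilizer (threeJ3 F ω) (line0 F)) (n : threeJ3 F ω) (hn : n ∈ N)
    (r : ℕ × ℕ × ℕ × ℕ) (hr : r ∈ rows1) : Maps ω (n : GL F9 F) r.1 r.1 := by
  obtain ⟨g, hg, c, hc, e⟩ := reach_rows h X.T1 _ r hr rfl
  have hgm : Maps ω g 1 r.1 := ⟨c, hc, e⟩
  set g' : threeJ3 F ω := ⟨g, hg⟩ with hg'
  have hm : g'⁻¹ * n * g' ∈ N := by
    have := hN.conj_mem n hn g'⁻¹
    rwa [inv_inv] at this
  have hm1 := (mem_stabilizer_iff _).mp (hNK hm)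
  have e1 : ((g'⁻¹ * n * g' : threeJ3 F ω) : GL F9 F) = g⁻¹ * (n : GL F9 F) * g := rfl
  rw [e1] at hm1
  have h2 := maps_mul (maps_mul (maps_inv hgm) hm1) hgm
  have e2 : g * (g⁻¹ * (n : GL F9 F) * g * g⁻¹) = (n : GL F9 F) := by group
  rwa [e2] at h2

theorem core_le_center (N : Subgroup (threeJ3 F ω)) (hN : N.Normal)
    (hNK : N ≤ MulAction.stabilizer (threeJ3 F ω) (line0 F)) :
    N ≤ Subgroup.center (threeJ3 F ω) := by
  intro n hn
  have hfix := normal_fixes h D X Y a' b' c' d' e' ha hb hc hd he N hN hNK n hn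
  have hcoord : ∀ z : F9, ∃ c : F, ((n : GL F9 F) : Matrix F9 F9 F) *ᵥ
      (Pi.single z (1 : F) : F9 → F) = c • Pi.single z (1 : F) := by
    intro z
    obtain ⟨r, hr, hre⟩ := key_of_get1 h D X Y a' b' c' d' e' ha hb hc hd he
      (Y.coord (idx z) (idx_lt z))
    obtain ⟨c, _, e⟩ := hfix r hr
    rw [hre, unkey_pow _ (idx_lt z), dec_single _ (idx_lt z), zOf_idx] at e
    exact ⟨c, e⟩
  have hfull : ∃ c : F, ((n : GL F9 F) : Matrix F9 F9 F) *ᵥ (fun _ => (1 : F)) =
      c • fun _ => (1 : F) := by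
    obtain ⟨r, hr, hre⟩ := key_of_get1 h D X Y a' b' c' d' e' ha hb hc hd he Y.full
    obtain ⟨c, _, e⟩ := hfix r hr
    rw [hre, unkey_511, dec_ones] at e
    exact ⟨c, e⟩
  obtain ⟨c, hc⟩ := scalar_of_fix _ hcoord hfull
  rw [Subgroup.mem_center_iff]
  intro g
  apply elt_ext
  rw [elt_mul, elt_mul, hc, mul_smul_comm, Matrix.mul_one, smul_mul_assoc, Matrix.one_mul]

/-- The quotient by the centre is simple. -/
theorem isSimpleGroup_quotient (hcen : Nat.card (Subgroup.center (threeJ3 F ω)) = 3) :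
    IsSimpleGroup (threeJ3 F ω ⧸ Subgroup.center (threeJ3 F ω)) := by
  apply Cfsg.Agent.Lib.Helper77.isSimpleGroup_quotient_center_of_iwasawa
    (MulAction.stabilizer (threeJ3 F ω) (line0 F)) (Subgroup.zpowers a')
    (isCoatom_stabilizer h D X) inferInstance
    (stabilizer_normalizes h D X Y a' b' c' d' e' ha hb hc hd he)
    (normalClosure_eq_top h D X Y a' b' c' d' e' ha hb hc hd he)
    (commutator_eq_top h D X Y a' b' c' d' e' ha hb hc hd he)
    (fun N hN hNK => core_le_center h D X Y a' b' c' d' e' ha hb hc hd he N hN hNK)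
  intro e
  have h2 := card_threeJ3 h D
  rw [e, Subgroup.card_top] at hcen
  omega

end main

end Cfsg.Agent.Lib.Helper77.J3
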