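import Cfsg.Agent.Lib.Helper77.J3InvIdx
import Cfsg.Agent.Lib.Helper77.J3Iwa
import Cfsg.Agent.S3377

set_option autoImplicit false
set_option linter.style.haveILetI false
set_option linter.unusedSectionVars false

/-! Inside the triple cover of J3: a homomorphic image of the extraspecial group of order 32 of minus
type and of the alternating group of degree 5 in the centralizer of an involution, the second
normalizing the first; and their images in the quotient by the centre. -/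

namespace Cfsg.Agent.Lib.Helper77.J3

open Cfsg.Spor Matrix Cfsg.Agent.Lib.Helper77.CentShape Cfsg.Agent.Lib.Helper44

variable {F : Type} [Field F] {ω : F}

theorem rep_wKey (h : IsF4 F ω) {H : Subgroup (GL F9 F)} {gs : List ℕ}
    (hgs : ∀ x ∈ gs, Rep H ω x) : ∀ w : List ℕ, Rep H ω (wKey gs w)
  | [] => rep_one H
  | i :: w => by
    unfold wKey
    apply rep_mul h _ (rep_wKey h hgs w)
    by_cases hi : i < gs.length
    · rw [List.getD_eq_getElem _ _ hi]
      exact hgs _ (List.getElem_mem hi)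
    · rw [List.getD_eq_default _ _ (by omega)]
      exact rep_one H

theorem packK_lt (r0 r1 r2 r3 r4 r5 r6 r7 r8 : ℕ) (h0 : r0 < 262144) (h1 : r1 < 262144)
    (h2 : r2 < 262144) (h3 : r3 < 262144) (h4 : r4 < 262144) (h5 : r5 < 262144)
    (h6 : r6 < 262144) (h7 : r7 < 262144) (h8 : r8 < 262144) :
    packK r0 r1 r2 r3 r4 r5 r6 r7 r8 < 2 ^ 162 := by
  have p : packK r0 r1 r2 r3 r4 r5 r6 r7 r8 = r0 + 262144 * (r1 + 262144 * (r2 + 262144 *
      (r3 + 262144 * (r4 + 262144 * (r5 + 262144 * (r6 + 262144 * (r7 + 262144 * r8))))))) := rfl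
  omega

theorem mulKK_lt (a b : ℕ) : mulKK a b < 2 ^ 162 := by
  have hA := unM_valid a
  have hlt : ∀ s, (pkK a).apply (colK b s) < 262144 := by
    intro s
    have hr : (pkK a).apply (colK b s) = ((unM a).apply (unkey (colK b s))).key := by
      rw [← pk_unM, ← apply_pk hA (valid_unkey (colK_lt _ _)), key_unkey]
    rw [hr]
    exact key_lt (M9.valid_apply hA _)
  unfold mulKK mulK
  exact packK_lt _ _ _ _ _ _ _ _ _ (hlt 0) (hlt 18) (hlt 36) (hlt 54) (hlt 72) (hlt 90) (hlt 108)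
    (hlt 126) (hlt 144)

theorem qMul_spec (i j : ℕ) (hi : i < 32) (hj : j < 32) :
    mulKK (qK.getD i oneK) (qK.getD j oneK) = qK.getD (qMul.getD (32 * i + j) 0) oneK := by
  have h1 := List.all_eq_true.mp qMul_ok i (List.mem_range.mpr hi)
  have h2 := List.all_eq_true.mp h1 j (List.mem_range.mpr hj)
  exact Nat.eq_of_beq_eq_true h2

theorem qK_get_mem (i : ℕ) (hi : i < 32) : qK.getD i oneK ∈ qK := by
  rw [List.getD_eq_getElem _ _ (by rw [qK_length]; exact hi)]
  exact List.getElem_mem _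

theorem qK_get_lt (i : ℕ) (hi : i < 32) : qK.getD i oneK < 2 ^ 162 := by
  have := List.all_eq_true.mp qK_lt _ (qK_get_mem i hi)
  rw [← lim162_eq]
  simpa using this

theorem qK_get_inj {i j : ℕ} (hi : i < 32) (hj : j < 32)
    (e : qK.getD i oneK = qK.getD j oneK) : i = j := by
  have hi' : i < qK.length := by rw [qK_length]; exact hi
  have hj' : j < qK.length := by rw [qK_length]; exact hj
  rw [List.getD_eq_getElem _ _ hi', List.getD_eq_getElem _ _ hj'] at e
  exact (List.Nodup.getElem_inj_iff qK_nodup).mp e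

theorem qK_comm_spec (i : ℕ) (hi : i < 32) :
    mulKK (qK.getD i oneK) ktK = mulKK ktK (qK.getD i oneK) := by
  have := List.all_eq_true.mp qK_comm _ (qK_get_mem i hi)
  exact Nat.eq_of_beq_eq_true this

theorem eidx_surj : ∀ n < 32, ∃ q : E32, eidx q = n := by
  have : ∀ n < 32, ∃ (u : Fin 4 → ZMod 2) (c : ZMod 2), idxE u c = n := by decide
  intro n hn
  obtain ⟨u, c, e⟩ := this n hn
  exact ⟨⟨u, c⟩, e⟩

theorem sig_lt : ∀ i < 32, sigA.getD i 0 < 32 ∧ sigA2.getD i 0 < 32 ∧ sigB.getD i 0 < 32 ∧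
    sigB2.getD i 0 < 32 := by decide

theorem sigA_spec (i : ℕ) (hi : i < 32) :
    mulKK kAa (qK.getD i oneK) = mulKK (qK.getD (sigA.getD i 0) oneK) kAa ∧
    mulKK (qK.getD i oneK) kAa = mulKK kAa (qK.getD (sigA2.getD i 0) oneK) := by
  have := List.all_eq_true.mp sigA_ok i (List.mem_range.mpr hi)
  rw [Bool.and_eq_true] at this
  exact ⟨Nat.eq_of_beq_eq_true this.1, Nat.eq_of_beq_eq_true this.2⟩

theorem sigB_spec (i : ℕ) (hi : i < 32) :
    mulKK kAb (qK.getD i oneK) = mulKK (qK.getD (sigB.getD i 0) oneK) kAb ∧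
    mulKK (qK.getD i oneK) kAb = mulKK kAb (qK.getD (sigB2.getD i 0) oneK) := by
  have := List.all_eq_true.mp sigB_ok i (List.mem_range.mpr hi)
  rw [Bool.and_eq_true] at this
  exact ⟨Nat.eq_of_beq_eq_true this.1, Nat.eq_of_beq_eq_true this.2⟩

section main
variable [Finite F] (h : IsF4 F ω) (hgs : ∀ x ∈ csK, Rep (threeJ3 F ω) ω x)
include h hgs

theorem rep_qK : ∀ k ∈ qK, Rep (threeJ3 F ω) ω k := by
  rw [← qWords_ok]
  intro k hk
  obtain ⟨w, _, rfl⟩ := List.mem_map.mp hk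
  exact rep_wKey h hgs w

theorem exists_phi : ∃ φ : E32 →* threeJ3 F ω, ∀ q,
    ((φ q : GL F9 F) : Matrix F9 F9 F) = matOf ω (qK.getD (eidx q) oneK) := by
  have hex : ∀ q : E32, ∃ x : threeJ3 F ω,
      ((x : GL F9 F) : Matrix F9 F9 F) = matOf ω (qK.getD (eidx q) oneK) :=
    fun q => elt_of_rep (rep_qK h hgs _ (qK_get_mem _ (eidx_lt q)))
  choose f hf using hex
  refine ⟨MonoidHom.mk' f ?_, hf⟩
  intro a b
  apply elt_ext
  rw [elt_mul, hf, hf, hf, ← matOf_mul h, eidx_mul,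
    qMul_spec (eidx a) (eidx b) (eidx_lt a) (eidx_lt b)]

theorem exists_elts : ∃ c' a' b' d' : threeJ3 F ω,
    ((c' : GL F9 F) : Matrix F9 F9 F) = matOf ω ktK ∧
    ((a' : GL F9 F) : Matrix F9 F9 F) = matOf ω kAa ∧
    ((b' : GL F9 F) : Matrix F9 F9 F) = matOf ω kAb ∧
    ((d' : GL F9 F) : Matrix F9 F9 F) = matOf ω (csK.getD 0 oneK) := by
  have hc : Rep (threeJ3 F ω) ω ktK := by
    have : ktK = csK.getD 2 oneK := by decide +kernel
    rw [this]
    exact hgs _ (by decide +kernel)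
  have ha : Rep (threeJ3 F ω) ω kAa := by
    rw [← wA_ok.1]
    exact rep_wKey h hgs _
  have hb : Rep (threeJ3 F ω) ω kAb := by
    rw [← wA_ok.2]
    exact rep_wKey h hgs _
  have hd : Rep (threeJ3 F ω) ω (csK.getD 0 oneK) := hgs _ (by decide +kernel)
  obtain ⟨c', hc'⟩ := elt_of_rep hc
  obtain ⟨a', ha'⟩ := elt_of_rep ha
  obtain ⟨b', hb'⟩ := elt_of_rep hb
  obtain ⟨d', hd'⟩ := elt_of_rep hd
  exact ⟨c', a', b', d', hc', ha', hb', hd'⟩

end main

/-- The relators of the `(2,3,5)` presentation of the alternating group of degree 5. -/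
abbrev relsA5 : Set (FreeGroup (Fin 2)) :=
  {FreeGroup.of (0 : Fin 2) ^ 3, FreeGroup.of (1 : Fin 2) ^ 5,
    (FreeGroup.of (0 : Fin 2) * FreeGroup.of 1) ^ 2}

section second
variable [Finite F] (h : IsF4 F ω)
  (φ : E32 →* threeJ3 F ω)
  (hφ : ∀ q, ((φ q : GL F9 F) : Matrix F9 F9 F) = matOf ω (qK.getD (eidx q) oneK))
  (c' a' b' d' : threeJ3 F ω)
  (hc' : ((c' : GL F9 F) : Matrix F9 F9 F) = matOf ω ktK)
  (ha' : ((a' : GL F9 F) : Matrix F9 F9 F) = matOf ω kAa)
  (hb' : ((b' : GL F9 F) : Matrix F9 F9 F) = matOf ω kAb)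
  (hd' : ((d' : GL F9 F) : Matrix F9 F9 F) = matOf ω (csK.getD 0 oneK))
include h hφ hc' ha' hb' hd'

theorem phi_injective : Function.Injective φ := by
  intro a b e
  have e1 : matOf ω (qK.getD (eidx a) oneK) = matOf ω (qK.getD (eidx b) oneK) := by
    rw [← hφ, ← hφ, e]
  have e2 := matOf_injective h (qK_get_lt _ (eidx_lt a)) (qK_get_lt _ (eidx_lt b)) e1
  exact eidx_inj (qK_get_inj (eidx_lt a) (eidx_lt b) e2)

theorem phi_comm (q : E32) : φ q * c' = c' * φ q := by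
  apply elt_ext
  rw [elt_mul, elt_mul, hφ, hc', ← matOf_mul h, ← matOf_mul h, qK_comm_spec _ (eidx_lt q)]

theorem c_sq : c' * c' = 1 := by
  apply elt_ext
  rw [elt_mul, hc', ← matOf_mul h, ktK_sq, matOf_one]
  rfl

theorem c_nc : c' * d' ≠ d' * c' := by
  intro e
  have e1 : matOf ω (mulKK ktK (csK.getD 0 oneK)) = matOf ω (mulKK (csK.getD 0 oneK) ktK) := by
    rw [matOf_mul h, matOf_mul h, ← hc', ← hd', ← elt_mul, ← elt_mul, e]
  have hlt : ∀ a b : ℕ, mulKK a b < 2 ^ 162 := fun a b => mulKK_lt a b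
  exact ktK_nc (matOf_injective h (hlt _ _) (hlt _ _) e1)

theorem a_nc : a' * d' ≠ d' * a' := by
  intro e
  have e1 : matOf ω (mulKK kAa (csK.getD 0 oneK)) = matOf ω (mulKK (csK.getD 0 oneK) kAa) := by
    rw [matOf_mul h, matOf_mul h, ← ha', ← hd', ← elt_mul, ← elt_mul, e]
  have hlt : ∀ a b : ℕ, mulKK a b < 2 ^ 162 := fun a b => mulKK_lt a b
  exact kAa_nc (matOf_injective h (hlt _ _) (hlt _ _) e1)

theorem a_rel : a' ^ 3 = 1 ∧ b' ^ 5 = 1 ∧ (a' * b') ^ 2 = 1 := by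
  obtain ⟨r1, r2, r3⟩ := kA_rel
  refine ⟨?_, ?_, ?_⟩
  · have : a' ^ 3 = a' * (a' * a') := by rw [pow_succ, pow_two, mul_assoc]
    rw [this]
    apply elt_ext
    rw [elt_mul, elt_mul, ha', ← matOf_mul h, ← matOf_mul h, r1, matOf_one]
    rfl
  · have : b' ^ 5 = b' * (b' * (b' * (b' * b'))) := by
      simp only [pow_succ, pow_zero, one_mul, mul_assoc]
    rw [this]
    apply elt_ext
    rw [elt_mul, elt_mul, elt_mul, elt_mul, hb', ← matOf_mul h, ← matOf_mul h, ← matOf_mul h,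
      ← matOf_mul h, r2, matOf_one]
    rfl
  · have : (a' * b') ^ 2 = (a' * b') * (a' * b') := pow_two _
    rw [this]
    apply elt_ext
    rw [elt_mul, elt_mul, ha', hb', ← matOf_mul h, ← matOf_mul h, r3, matOf_one]
    rfl

theorem ab_comm : a' * c' = c' * a' ∧ b' * c' = c' * b' := by
  obtain ⟨r1, r2⟩ := kA_comm
  constructor
  · apply elt_ext
    rw [elt_mul, elt_mul, ha', hc', ← matOf_mul h, ← matOf_mul h, r1]
  · apply elt_ext
    rw [elt_mul, elt_mul, hb', hc', ← matOf_mul h, ← matOf_mul h, r2]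

theorem a_norm (q : E32) : (∃ q', a' * φ q * a'⁻¹ = φ q') ∧ (∃ q', a'⁻¹ * φ q * a' = φ q') := by
  obtain ⟨s1, s2, -, -⟩ := sig_lt _ (eidx_lt q)
  obtain ⟨r1, r2⟩ := sigA_spec _ (eidx_lt q)
  obtain ⟨q1, hq1⟩ := eidx_surj _ s1
  obtain ⟨q2, hq2⟩ := eidx_surj _ s2
  constructor
  · refine ⟨q1, ?_⟩
    rw [mul_inv_eq_iff_eq_mul]
    apply elt_ext
    rw [elt_mul, elt_mul, hφ, hφ, ha', ← matOf_mul h, ← matOf_mul h, hq1, r1]
  · refine ⟨q2, ?_⟩
    rw [mul_assoc, inv_mul_eq_iff_eq_mul]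
    apply elt_ext
    rw [elt_mul, elt_mul, hφ, hφ, ha', ← matOf_mul h, ← matOf_mul h, hq2, r2]

theorem b_norm (q : E32) : (∃ q', b' * φ q * b'⁻¹ = φ q') ∧ (∃ q', b'⁻¹ * φ q * b' = φ q') := by
  obtain ⟨-, -, s1, s2⟩ := sig_lt _ (eidx_lt q)
  obtain ⟨r1, r2⟩ := sigB_spec _ (eidx_lt q)
  obtain ⟨q1, hq1⟩ := eidx_surj _ s1
  obtain ⟨q2, hq2⟩ := eidx_surj _ s2
  constructor
  · refine ⟨q1, ?_⟩
    rw [mul_inv_eq_iff_eq_mul]
    apply elt_ext
    rw [elt_mul, elt_mul, hφ, hφ, hb', ← matOf_mul h, ← matOf_mul h, hq1, r1]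
  · refine ⟨q2, ?_⟩
    rw [mul_assoc, inv_mul_eq_iff_eq_mul]
    apply elt_ext
    rw [elt_mul, elt_mul, hφ, hφ, hb', ← matOf_mul h, ← matOf_mul h, hq2, r2]

end second

section abstract
variable {Γ : Type*} [Group Γ]

/-- A homomorphism from the alternating group of degree 5 onto the subgroup generated by two
elements satisfying the `(2,3,5)` relations, inside the subgroup of elements commuting with `c` and
normalizing the image of `φ`. -/
theorem exists_psi (φ : E32 →* Γ) (c a b : Γ)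
    (hcomm : a * c = c * a ∧ b * c = c * b)
    (hrel : a ^ 3 = 1 ∧ b ^ 5 = 1 ∧ (a * b) ^ 2 = 1)
    (hna : ∀ q, (∃ q', a * φ q * a⁻¹ = φ q') ∧ (∃ q', a⁻¹ * φ q * a = φ q'))
    (hnb : ∀ q, (∃ q', b * φ q * b⁻¹ = φ q') ∧ (∃ q', b⁻¹ * φ q * b = φ q')) :
    ∃ ψ : alternatingGroup (Fin 5) →* Γ, (∀ x, ψ x * c = c * ψ x) ∧
      (∀ x q, ∃ q', ψ x * φ q * (ψ x)⁻¹ = φ q') ∧ ∃ x, ψ x = a := by
  let M : Subgroup Γ := Subgroup.normalizer (φ.range : Set Γ) ⊓ Subgroup.centralizer {c}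
  have hmem : ∀ g : Γ, g * c = c * g →
      (∀ q, (∃ q', g * φ q * g⁻¹ = φ q') ∧ (∃ q', g⁻¹ * φ q * g = φ q')) → g ∈ M := by
    intro g hgc hgn
    apply Subgroup.mem_inf.mpr
    refine ⟨?_, ?_⟩
    · rw [Subgroup.mem_normalizer_iff]
      intro x
      constructor
      · rintro ⟨q, rfl⟩
        obtain ⟨q', e⟩ := (hgn q).1
        exact ⟨q', e.symm⟩
      · rintro ⟨q, hq⟩
        obtain ⟨q', e⟩ := (hgn q).2
        refine ⟨q', ?_⟩
        rw [← e, hq]
        group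
    · rw [Subgroup.mem_centralizer_singleton_iff]
      exact hgc
  have haM : a ∈ M := hmem a hcomm.1 hna
  have hbM : b ∈ M := hmem b hcomm.2 hnb
  have hrels : ∀ r ∈ relsA5, FreeGroup.lift ![(⟨a, haM⟩ : M), ⟨b, hbM⟩] r = 1 := by
    intro r hr
    simp only [relsA5, Set.mem_insert_iff, Set.mem_singleton_iff] at hr
    rcases hr with rfl | rfl | rfl
    · simp only [map_pow, FreeGroup.lift_apply_of, Matrix.cons_val_zero]
      exact Subtype.ext hrel.1
    · simp only [map_pow, FreeGroup.lift_apply_of, Matrix.cons_val_one, Matrix.cons_val_zero]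
      exact Subtype.ext hrel.2.1
    · simp only [map_pow, map_mul, FreeGroup.lift_apply_of, Matrix.cons_val_one,
        Matrix.cons_val_zero]
      exact Subtype.ext hrel.2.2
  let psiP : PresentedGroup relsA5 →* M := PresentedGroup.toGroup hrels
  obtain ⟨e⟩ := Cfsg.Agent.S3377.result
  let ψ : alternatingGroup (Fin 5) →* Γ := M.subtype.comp (psiP.comp e.symm.toMonoidHom)
  have hψM : ∀ x, ψ x ∈ M := fun x => (psiP (e.symm x)).2
  refine ⟨ψ, ?_, ?_, ?_⟩
  · intro x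
    have := (Subgroup.mem_inf.mp (hψM x)).2
    rw [Subgroup.mem_centralizer_singleton_iff] at this
    exact this
  · intro x q
    have := (Subgroup.mem_inf.mp (hψM x)).1
    rw [Subgroup.mem_normalizer_iff] at this
    obtain ⟨q', e'⟩ := (this (φ q)).mp ⟨q, rfl⟩
    exact ⟨q', e'.symm⟩
  · refine ⟨e (PresentedGroup.of 0), ?_⟩
    show ((psiP (e.symm (e (PresentedGroup.of 0))) : M) : Γ) = a
    rw [MulEquiv.symm_apply_apply]
    show ((PresentedGroup.toGroup hrels (PresentedGroup.of 0) : M) : Γ) = a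
    rw [PresentedGroup.toGroup.of]
    rfl

/-- The images in the quotient by a centre of order 3. -/
theorem push [Finite Γ] (hcen : Nat.card (Subgroup.center Γ) = 3)
    (φ : E32 →* Γ) (hφ : Function.Injective φ) (c a d : Γ) (hc2 : c * c = 1)
    (hcd : c * d ≠ d * c) (had : a * d ≠ d * a) (hφc : ∀ q, φ q * c = c * φ q)
    (ψ : alternatingGroup (Fin 5) →* Γ) (hψc : ∀ x, ψ x * c = c * ψ x)
    (hψn : ∀ x q, ∃ q', ψ x * φ q * (ψ x)⁻¹ = φ q') (hψa : ∃ x, ψ x = a) :
    orderOf (QuotientGroup.mk' (Subgroup.center Γ) c) = 2 ∧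
    ∃ (φ' : E32 →* Γ ⧸ Subgroup.center Γ) (ψ' : alternatingGroup (Fin 5) →* Γ ⧸ Subgroup.center Γ),
      Function.Injective φ' ∧ Function.Injective ψ' ∧
      (∀ q, φ' q * QuotientGroup.mk' (Subgroup.center Γ) c =
        QuotientGroup.mk' (Subgroup.center Γ) c * φ' q) ∧
      (∀ x, ψ' x * QuotientGroup.mk' (Subgroup.center Γ) c =
        QuotientGroup.mk' (Subgroup.center Γ) c * ψ' x) ∧
      ∀ x q, ∃ q', ψ' x * φ' q * (ψ' x)⁻¹ = φ' q' := by
  set π := QuotientGroup.mk' (Subgroup.center Γ) with hπ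
  have hker : ∀ g : Γ, π g = 1 ↔ g ∈ Subgroup.center Γ := by
    intro g
    rw [hπ, QuotientGroup.mk'_apply, QuotientGroup.eq_one_iff]
  have hz3 : ∀ g ∈ Subgroup.center Γ, g ^ 3 = 1 := by
    intro g hg
    have := pow_card_eq_one' (G := Subgroup.center Γ) (x := ⟨g, hg⟩)
    rw [hcen] at this
    exact congrArg Subtype.val this
  refine ⟨?_, π.comp φ, π.comp ψ, ?_, ?_, ?_, ?_, ?_⟩
  · apply orderOf_eq_prime
    · rw [pow_two, ← map_mul, hc2, map_one]
    · intro e
      rw [hker] at e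
      rw [Subgroup.mem_center_iff] at e
      exact hcd (e d).symm
  · rw [injective_iff_map_eq_one]
    intro q hq
    have hq' : φ q ∈ Subgroup.center Γ := (hker _).mp hq
    have h3 := hz3 _ hq'
    have h32 : φ q ^ 32 = 1 := by
      rw [← map_pow]
      have := pow_card_eq_one' (G := E32) (x := q)
      rw [card_E32] at this
      rw [this, map_one]
    have h1 : φ q = 1 := by
      have : φ q = (φ q ^ 3) ^ 11 * (φ q ^ 32)⁻¹ := by group
      rw [this, h3, h32]
      simp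
    exact (injective_iff_map_eq_one φ).mp hφ q h1
  · haveI : IsSimpleGroup (alternatingGroup (Fin 5)) := alternatingGroup.isSimpleGroup (by simp)
    rw [← MonoidHom.ker_eq_bot_iff]
    rcases (π.comp ψ).normal_ker.eq_bot_or_eq_top with hk | hk
    · exact hk
    · exfalso
      obtain ⟨x, hx⟩ := hψa
      have : x ∈ (π.comp ψ).ker := by rw [hk]; exact Subgroup.mem_top x
      rw [MonoidHom.mem_ker, MonoidHom.comp_apply, hx, hker, Subgroup.mem_center_iff] at this
      exact had (this d).symm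
  · intro q
    rw [MonoidHom.comp_apply, ← map_mul, ← map_mul, hφc]
  · intro x
    rw [MonoidHom.comp_apply, ← map_mul, ← map_mul, hψc]
  · intro x q
    obtain ⟨q', e⟩ := hψn x q
    refine ⟨q', ?_⟩
    rw [MonoidHom.comp_apply, MonoidHom.comp_apply, MonoidHom.comp_apply, ← map_inv, ← map_mul,
      ← map_mul, e]

end abstract

end Cfsg.Agent.Lib.Helper77.J3
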