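import Cfsg.Agent.Lib.Helper77.J3InvClass
import Cfsg.Agent.Lib.Helper77.J3InvQ

set_option autoImplicit false
set_option linter.style.haveILetI false
set_option linter.unusedSectionVars false

/-! The class of an involution of J3 (the quotient of the triple cover by its centre), from the
kernel-checked tables: it has at least 26163 elements, and it contains every involution (through a
Sylow 2-subgroup). -/

namespace Cfsg.Agent.Lib.Helper77.J3

open Cfsg.Spor Matrix

variable {F : Type} [Field F] {ω : F}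

/-- The kernel-checked facts about a class table. -/
structure CTab (t : Tr) (rows : List (ℕ × ℕ × ℕ × ℕ)) (hs : List ℕ) (root : ℕ) : Prop where
  rows_ok : ∀ r ∈ rows, rowC t hs root r = true
  toList : t.toList = rows.map (fun r => (r.1, r.2.1))

theorem ctab_reach (h : IsF4 F ω) {t : Tr} {rows : List (ℕ × ℕ × ℕ × ℕ)} {hs : List ℕ} {root : ℕ}
    (T : CTab t rows hs root) (hH : ∀ x ∈ hs, Rep (threeJ3 F ω) ω x) (x0 : threeJ3 F ω)
    (hx0 : ((x0 : GL F9 F) : Matrix F9 F9 F) = matOf ω root) :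
    ∀ d, ∀ r ∈ rows, r.2.1 = d → ∃ x : threeJ3 F ω, IsConj x0 x ∧
      ((x : GL F9 F) : Matrix F9 F9 F) = matOf ω r.1 := by
  intro d
  induction d using Nat.strong_induction_on with
  | _ d ih =>
    rintro ⟨k, d', p, j⟩ hr hd
    simp only at hd
    subst hd
    obtain ⟨_, hcase⟩ := rowC_spec t hs root k d' p j (T.rows_ok _ hr)
    rcases hcase with ⟨_, hk⟩ | ⟨hd0, hget, hj, hstep⟩
    · subst hk
      exact ⟨x0, IsConj.refl _, hx0⟩
    · obtain ⟨e, rfl⟩ : ∃ e, d' = e + 1 := ⟨d' - 1, by omega⟩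
      have hmem := Tr.get_mem t p e hget
      rw [T.toList] at hmem
      obtain ⟨⟨p', e', p2, j2⟩, hr', hpe⟩ := List.mem_map.mp hmem
      simp only [Prod.mk.injEq] at hpe
      obtain ⟨rfl, rfl⟩ := hpe
      obtain ⟨y, hy, ey⟩ := ih e' (by omega) _ hr' rfl
      simp only at ey
      have hx : hs.getD j oneK ∈ hs := by
        rw [List.getD_eq_getElem _ _ hj]
        exact List.getElem_mem hj
      obtain ⟨s, es⟩ := elt_of_rep (hH _ hx)
      refine ⟨s * y * s⁻¹, hy.trans (isConj_iff.mpr ⟨s, rfl⟩), ?_⟩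
      have e1 : (((s * y * s⁻¹ : threeJ3 F ω) : GL F9 F) : Matrix F9 F9 F) *
          ((s : GL F9 F) : Matrix F9 F9 F) = matOf ω k * ((s : GL F9 F) : Matrix F9 F9 F) := by
        rw [← elt_mul]
        have : s * y * s⁻¹ * s = s * y := by group
        rw [this, elt_mul, es, ey, ← matOf_mul h, hstep, matOf_mul h]
      have hS : ((s : GL F9 F) : Matrix F9 F9 F) *
          (((s : GL F9 F)⁻¹ : GL F9 F) : Matrix F9 F9 F) = 1 := Units.mul_inv _
      calc (((s * y * s⁻¹ : threeJ3 F ω) : GL F9 F) : Matrix F9 F9 F)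
          = (((s * y * s⁻¹ : threeJ3 F ω) : GL F9 F) : Matrix F9 F9 F) *
            (((s : GL F9 F) : Matrix F9 F9 F) *
              (((s : GL F9 F)⁻¹ : GL F9 F) : Matrix F9 F9 F)) := by rw [hS, Matrix.mul_one]
        _ = matOf ω k * ((s : GL F9 F) : Matrix F9 F9 F) *
              (((s : GL F9 F)⁻¹ : GL F9 F) : Matrix F9 F9 F) := by rw [← Matrix.mul_assoc, e1]
        _ = matOf ω k := by rw [Matrix.mul_assoc, hS, Matrix.mul_one]

theorem ctab_row_of_get {t : Tr} {rows : List (ℕ × ℕ × ℕ × ℕ)} {hs : List ℕ} {root : ℕ}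
    (T : CTab t rows hs root) {k : ℕ} (hk : t.get k ≠ 0) : ∃ r ∈ rows, r.1 = k := by
  obtain ⟨d, hd⟩ : ∃ d, t.get k = d + 1 := ⟨t.get k - 1, by omega⟩
  have hmem := Tr.get_mem t k d hd
  rw [T.toList] at hmem
  obtain ⟨r, hr, hre⟩ := List.mem_map.mp hmem
  simp only [Prod.mk.injEq] at hre
  exact ⟨r, hr, hre.1⟩

/-- The units with a matrix from a list of keys. -/
def unitsOfL (ω : F) (ks : List ℕ) : Set (GL F9 F) :=
  {g | ∃ k ∈ ks, (g : Matrix F9 F9 F) = matOf ω k}

/-- The Sylow 2-subgroup. -/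
def sylGL (F : Type) [Field F] (ω : F) : Subgroup (GL F9 F) := Subgroup.closure (unitsOfL ω psK)

theorem pTab : KTab pT prows psK where
  rows_ok := fun r hr => List.all_eq_true.mp chk_prows r hr
  toList := pT_toList
  root := pT_root

theorem cTab : CTab cT crows csK ktK where
  rows_ok := chk_crows
  toList := cT_toList

/-- Orbit counting: if there are `N` distinct conjugates then the centralizer is small. -/
theorem card_centralizer_mul_le {G : Type*} [Group G] [Finite G] (t : G) (N : ℕ) (f : Fin N → G)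
    (hf : Function.Injective f) (hconj : ∀ i, IsConj t (f i)) :
    Nat.card (Subgroup.centralizer ({t} : Set G)) * N ≤ Nat.card G := by
  have hsub : Set.range f ⊆ MulAction.orbit (ConjAct G) t := by
    rintro _ ⟨i, rfl⟩
    rw [ConjAct.mem_orbit_conjAct]
    exact (hconj i).symm
  have h1 : (Set.range f).ncard = N := by
    rw [← Set.image_univ, Set.ncard_image_of_injective _ hf, Set.ncard_univ, Nat.card_fin]
  have h2 : N ≤ (MulAction.orbit (ConjAct G) t).ncard := by
    rw [← h1]
    exact Set.ncard_le_ncard hsub (Set.toFinite _)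
  rw [Subgroup.nat_card_centralizer_nat_card_stabilizer]
  have h3 := (MulAction.stabilizer (ConjAct G) t).card_mul_index
  rw [MulAction.index_stabilizer] at h3
  have hc : Nat.card (ConjAct G) = Nat.card G :=
    Nat.card_congr (ConjAct.ofConjAct (G := G)).toEquiv
  rw [hc] at h3
  rw [← h3]
  exact Nat.mul_le_mul_left _ h2

/-- Two involutions with the same image modulo a centre of order 3 are equal. -/
theorem eq_of_mk_eq {Γ : Type*} [Group Γ] (hcen : Nat.card (Subgroup.center Γ) = 3) (x y : Γ)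
    (hx : x * x = 1) (hy : y * y = 1)
    (e : (QuotientGroup.mk' (Subgroup.center Γ) x) = QuotientGroup.mk' (Subgroup.center Γ) y) :
    x = y := by
  have hz : x⁻¹ * y ∈ Subgroup.center Γ := by
    rw [QuotientGroup.mk'_apply, QuotientGroup.mk'_apply, QuotientGroup.eq] at e
    exact e
  set z := x⁻¹ * y with hzd
  have hyz : y = x * z := by rw [hzd]; group
  have hzc : ∀ g : Γ, g * z = z * g := fun g => (Subgroup.mem_center_iff.mp hz g)
  have hz2 : z * z = 1 := by
    have : y * y = (x * x) * (z * z) := by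
      rw [hyz]
      calc x * z * (x * z) = x * (z * x) * z := by group
        _ = x * (x * z) * z := by rw [hzc x]
        _ = x * x * (z * z) := by group
    rw [hy, hx, one_mul] at this
    exact this.symm
  have hz3 : z ^ 3 = 1 := by
    have := pow_card_eq_one' (G := Subgroup.center Γ) (x := ⟨z, hz⟩)
    rw [hcen] at this
    exact congrArg Subtype.val this
  have hz1 : z = 1 := by
    have : z ^ 3 = z * (z * z) := by rw [pow_succ, pow_two, mul_assoc]
    rw [this, hz2, mul_one] at hz3
    exact hz3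
  rw [hyz, hz1, mul_one]

section main
variable [Finite F] (h : IsF4 F ω) (hgs : ∀ x ∈ csK, Rep (threeJ3 F ω) ω x)
include h hgs

theorem rep_psK : ∀ k ∈ psK, Rep (threeJ3 F ω) ω k := by
  rw [← psWords_ok]
  intro k hk
  obtain ⟨w, _, rfl⟩ := List.mem_map.mp hk
  exact rep_wKey h hgs w

theorem sylGL_le : sylGL F ω ≤ threeJ3 F ω := by
  unfold sylGL
  rw [Subgroup.closure_le]
  rintro g ⟨k, hk, e⟩
  obtain ⟨x, hx, ex⟩ := rep_psK h hgs k hk
  have : g = x := Units.ext (e.trans ex.symm)
  rw [this]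
  exact hx

theorem rep_psK_syl : ∀ k ∈ psK, Rep (sylGL F ω) ω k := by
  intro k hk
  obtain ⟨x, _, ex⟩ := rep_psK h hgs k hk
  exact ⟨x, Subgroup.subset_closure ⟨k, hk, ex⟩, ex⟩

theorem rep_prows : ∀ r ∈ prows, Rep (sylGL F ω) ω r.1 :=
  fun r hr => ktab_reach h pTab (sylGL F ω) (rep_psK_syl h hgs) _ r hr rfl

theorem prows_cover : ∀ g ∈ sylGL F ω, ∃ r ∈ prows, (g : Matrix F9 F9 F) = matOf ω r.1 :=
  ktab_closed h pTab (unitsOfL ω psK) (fun _ hg => hg)

theorem prows_lt : ∀ r ∈ prows, r.1 < 2 ^ 162 := by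
  rintro ⟨k, d, p, j⟩ hr
  exact (rowK_spec pT _ k d p j (pTab.rows_ok _ hr)).1

theorem card_sylGL : Nat.card (sylGL F ω) = 128 := by
  apply le_antisymm
  · have := card_le_of_cover (sylGL F ω) prows [()] (fun r _ => matOf ω r.1)
      (fun g hg => by
        obtain ⟨r, hr, e⟩ := prows_cover h hgs g hg
        exact ⟨r, hr, (), List.mem_singleton.mpr rfl, e⟩)
    rwa [prows_length, List.length_singleton, mul_one] at this
  · have hnd : (prows.map (fun r => r.1)).Nodup :=
      (isIncr3_pairwise _ prows_incr).imp (fun hab => Nat.ne_of_lt hab)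
    have := le_card_of_rep h (sylGL F ω) (prows.map (fun r => r.1))
      (by
        intro k hk
        obtain ⟨r, hr, rfl⟩ := List.mem_map.mp hk
        exact prows_lt h hgs r hr)
      hnd
      (by
        intro k hk
        obtain ⟨r, hr, rfl⟩ := List.mem_map.mp hk
        exact rep_prows h hgs r hr)
    rwa [List.length_map, prows_length] at this

end main

theorem fact_pow_mul (p k m : ℕ) (hp : p.Prime) (hm : ¬ p ∣ m) (hm0 : m ≠ 0) :
    (p ^ k * m).factorization p = k := by
  rw [Nat.factorization_mul (pow_ne_zero _ hp.ne_zero) hm0, Nat.factorization_pow,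
    Finsupp.add_apply, Finsupp.smul_apply, hp.factorization_self,
    Nat.factorization_eq_zero_of_not_dvd hm]
  simp

theorem oneK_lt : oneK < 2 ^ 162 := by
  rw [← lim162_eq]
  decide +kernel

theorem sq_of_isConj {G : Type*} [Group G] {a b : G} (ha : a * a = 1) (hab : IsConj a b) :
    b * b = 1 := by
  obtain ⟨g, rfl⟩ := isConj_iff.mp hab
  calc g * a * g⁻¹ * (g * a * g⁻¹) = g * (a * a) * g⁻¹ := by group
    _ = 1 := by rw [ha]; group

section final
variable [Finite F] (h : IsF4 F ω) (hgs : ∀ x ∈ csK, Rep (threeJ3 F ω) ω x)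
  (hcen : Nat.card (Subgroup.center (threeJ3 F ω)) = 3)
  (hcard : Nat.card (threeJ3 F ω) = 150698880)
  (c' : threeJ3 F ω) (hc' : ((c' : GL F9 F) : Matrix F9 F9 F) = matOf ω ktK)
include h hgs hcen hcard hc'

theorem c_sq' : c' * c' = 1 := by
  apply elt_ext
  rw [elt_mul, hc', ← matOf_mul h, ktK_sq, matOf_one]
  rfl

theorem card_quot : Nat.card (threeJ3 F ω ⧸ Subgroup.center (threeJ3 F ω)) = 50232960 := by
  have := Subgroup.card_eq_card_quotient_mul_card_subgroup (Subgroup.center (threeJ3 F ω))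
  rw [hcard, hcen] at this
  omega

theorem card_centralizer_le :
    Nat.card (Subgroup.centralizer
      ({QuotientGroup.mk' (Subgroup.center (threeJ3 F ω)) c'} :
        Set (threeJ3 F ω ⧸ Subgroup.center (threeJ3 F ω)))) ≤ 1920 := by
  haveI : Finite (threeJ3 F ω) := Nat.finite_of_card_ne_zero (by rw [hcard]; norm_num)
  have hcc := c_sq' h hgs hcen hcard c' hc'
  have hlen : ∀ i : Fin 26163, (i : ℕ) < crows.length := fun i => by rw [crows_length]; exact i.2
  have hex : ∀ i : Fin 26163, ∃ x : threeJ3 F ω, IsConj c' x ∧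
      ((x : GL F9 F) : Matrix F9 F9 F) = matOf ω (crows[(i : ℕ)]'(hlen i)).1 := by
    intro i
    exact ctab_reach h cTab hgs c' hc' _ _ (List.getElem_mem (hlen i)) rfl
  choose xf hxf using hex
  set π := QuotientGroup.mk' (Subgroup.center (threeJ3 F ω)) with hπ
  have hnd : (crows.map (fun r => r.1)).Nodup :=
    (isIncr3_pairwise _ crows_incr).imp (fun hab => Nat.ne_of_lt hab)
  have hlt : ∀ r ∈ crows, r.1 < 2 ^ 162 := by
    rintro ⟨k, d, p, j⟩ hr
    exact (rowC_spec cT _ _ k d p j (cTab.rows_ok _ hr)).1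
  have hinj : Function.Injective (fun i => π (xf i)) := by
    intro i j e
    have e1 : xf i = xf j := eq_of_mk_eq hcen _ _ (sq_of_isConj hcc (hxf i).1)
      (sq_of_isConj hcc (hxf j).1) e
    have e2 : matOf ω (crows[(i : ℕ)]'(hlen i)).1 = matOf ω (crows[(j : ℕ)]'(hlen j)).1 := by
      rw [← (hxf i).2, ← (hxf j).2, e1]
    have e3 := matOf_injective h (hlt _ (List.getElem_mem (hlen i)))
      (hlt _ (List.getElem_mem (hlen j))) e2
    have hi' : (i : ℕ) < (crows.map (fun r => r.1)).length := by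
      rw [List.length_map]; exact hlen i
    have hj' : (j : ℕ) < (crows.map (fun r => r.1)).length := by
      rw [List.length_map]; exact hlen j
    have e4 : (crows.map (fun r => r.1))[(i : ℕ)]'hi' = (crows.map (fun r => r.1))[(j : ℕ)]'hj' := by
      rw [List.getElem_map, List.getElem_map]
      exact e3
    exact Fin.ext ((List.Nodup.getElem_inj_iff hnd).mp e4)
  have hconj : ∀ i, IsConj (π c') (π (xf i)) := fun i => π.map_isConj (hxf i).1
  have := card_centralizer_mul_le (π c') 26163 (fun i => π (xf i)) hinj hconj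
  rw [card_quot h hgs hcen hcard c' hc'] at this
  omega

theorem all_conj (x : threeJ3 F ω ⧸ Subgroup.center (threeJ3 F ω)) (hx : orderOf x = 2) :
    IsConj x (QuotientGroup.mk' (Subgroup.center (threeJ3 F ω)) c') := by
  haveI : Finite (threeJ3 F ω) := Nat.finite_of_card_ne_zero (by rw [hcard]; norm_num)
  haveI : Fact (Nat.Prime 2) := ⟨Nat.prime_two⟩
  have hcc := c_sq' h hgs hcen hcard c' hc'
  obtain ⟨g, rfl⟩ := QuotientGroup.mk'_surjective (Subgroup.center (threeJ3 F ω)) x
  set π := QuotientGroup.mk' (Subgroup.center (threeJ3 F ω)) with hπ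
  have hker : ∀ u : threeJ3 F ω, π u = 1 ↔ u ∈ Subgroup.center (threeJ3 F ω) := by
    intro u
    rw [hπ, QuotientGroup.mk'_apply, QuotientGroup.eq_one_iff]
  have hgg : g * g ∈ Subgroup.center (threeJ3 F ω) := by
    rw [← hker, map_mul, ← pow_two]
    have := pow_orderOf_eq_one (π g)
    rwa [hx] at this
  set z := g * g with hzd
  have hzc : ∀ u : threeJ3 F ω, u * z = z * u := fun u => Subgroup.mem_center_iff.mp hgg u
  have hz3 : z ^ 3 = 1 := by
    have := pow_card_eq_one' (G := Subgroup.center (threeJ3 F ω)) (x := ⟨z, hgg⟩)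
    rw [hcen] at this
    exact congrArg Subtype.val this
  set y := g * z with hyd
  have hyy : y * y = 1 := by
    have : y * y = z ^ 3 := by
      rw [hyd]
      calc g * z * (g * z) = g * (z * g) * z := by group
        _ = g * (g * z) * z := by rw [hzc g]
        _ = (g * g) * z * z := by group
        _ = z ^ 3 := by rw [← hzd, pow_succ, pow_two]
    rw [this, hz3]
  have hπy : π y = π g := by
    rw [hyd, map_mul, (hker z).mpr hgg, mul_one]
  have hy1 : y ≠ 1 := by
    intro e
    have : π g = 1 := by rw [← hπy, e, map_one]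
    rw [this, orderOf_one] at hx
    norm_num at hx
  have hyo : orderOf y = 2 := orderOf_eq_prime (by rw [pow_two]; exact hyy) hy1
  -- the Sylow subgroup
  have hfac : (Nat.card (threeJ3 F ω)).factorization 2 = 7 := by
    rw [hcard]
    have : 150698880 = 2 ^ 7 * 1177335 := by norm_num
    rw [this]
    exact fact_pow_mul 2 7 1177335 Nat.prime_two (by norm_num) (by norm_num)
  have hPcard : Nat.card ((sylGL F ω).subgroupOf (threeJ3 F ω)) =
      2 ^ (Nat.card (threeJ3 F ω)).factorization 2 := by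
    rw [hfac, Nat.card_congr (Subgroup.subgroupOfEquivOfLe (sylGL_le h hgs)).toEquiv,
      card_sylGL h hgs]
    norm_num
  let P : Sylow 2 (threeJ3 F ω) := Sylow.ofCard ((sylGL F ω).subgroupOf (threeJ3 F ω)) hPcard
  have hpg : IsPGroup 2 (Subgroup.zpowers y) :=
    IsPGroup.of_card (n := 1) (by rw [Nat.card_zpowers, hyo, pow_one])
  obtain ⟨Q, hQ⟩ := hpg.exists_le_sylow
  obtain ⟨k, hk⟩ := MulAction.exists_smul_eq (threeJ3 F ω) Q P
  have hmem : k * y * k⁻¹ ∈ (P : Subgroup (threeJ3 F ω)) := by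
    rw [← hk, Sylow.coe_subgroup_smul, Subgroup.mem_smul_pointwise_iff_exists]
    exact ⟨y, hQ (Subgroup.mem_zpowers y), by rw [MulAut.smul_def, MulAut.conj_apply]⟩
  rw [Sylow.coe_ofCard] at hmem
  set w := k * y * k⁻¹ with hwd
  have hw2 : w * w = 1 := sq_of_isConj hyy (isConj_iff.mpr ⟨k, rfl⟩)
  have hw1 : w ≠ 1 := by
    intro e
    apply hy1
    have : y = k⁻¹ * w * k := by rw [hwd]; group
    rw [this, e]
    group
  obtain ⟨r, hr, er⟩ := prows_cover h hgs (w : GL F9 F) (Subgroup.mem_subgroupOf.mp hmem)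
  have hk2 : mulKK r.1 r.1 = oneK := by
    apply matOf_injective h (mulKK_lt _ _) oneK_lt
    rw [matOf_mul h, ← er, ← elt_mul, hw2, matOf_one]
    rfl
  have hk1 : r.1 ≠ oneK := by
    intro e
    apply hw1
    apply elt_ext
    rw [er, e, matOf_one]
    rfl
  have hin := invIn_spec cT r (List.all_eq_true.mp prows_inv r hr) hk2 hk1
  obtain ⟨rc, hrc, erc⟩ := ctab_row_of_get cTab hin
  obtain ⟨v, hv, ev⟩ := ctab_reach h cTab hgs c' hc' _ rc hrc rfl
  have hvw : v = w := elt_ext (by rw [ev, erc, er])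
  rw [hvw] at hv
  have hcy : IsConj c' y := hv.trans (isConj_iff.mpr ⟨k⁻¹, by rw [hwd]; group⟩)
  have := π.map_isConj hcy
  rw [hπy] at this
  exact this.symm

end final

end Cfsg.Agent.Lib.Helper77.J3
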