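import Cfsg.Agent.Lib.Helper77.J3Chk

set_option autoImplicit false
set_option linter.style.haveILetI false

/-! Row check (boolean, for the kernel) of the table of a conjugacy class in the triple cover of
J3, with its specification, and the key of a word. -/

namespace Cfsg.Agent.Lib.Helper77.J3

/-- The check of a row `(key, depth, parent key, generator)` of a class table: the key times the
generator is the generator times the key of the parent, which has smaller depth. -/
def rowC (t : Tr) (hs : List ℕ) (root : ℕ) (r : ℕ × ℕ × ℕ × ℕ) : Bool :=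
  Nat.blt r.1 lim162 &&
  (bif Nat.beq r.2.1 0 then Nat.beq r.1 root else
    (Nat.beq (t.get r.2.2.1) r.2.1 && decide (r.2.2.2 < hs.length) &&
      Nat.beq (mulKK (hs.getD r.2.2.2 oneK) r.2.2.1) (mulKK r.1 (hs.getD r.2.2.2 oneK))))

theorem rowC_spec (t : Tr) (hs : List ℕ) (root k d p j : ℕ)
    (h : rowC t hs root (k, d, p, j) = true) :
    k < 2 ^ 162 ∧
      ((d = 0 ∧ k = root) ∨ (d ≠ 0 ∧ t.get p = d ∧ j < hs.length ∧
        mulKK (hs.getD j oneK) p = mulKK k (hs.getD j oneK))) := by
  unfold rowC at h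
  simp only [Bool.and_eq_true, Nat.blt_eq] at h
  obtain ⟨h1, h2⟩ := h
  refine ⟨by rw [← lim162_eq]; exact h1, ?_⟩
  cases hd : Nat.beq d 0
  · rw [hd, cond_false] at h2
    simp only [Bool.and_eq_true, decide_eq_true_eq] at h2
    have hd' : d ≠ 0 := by
      intro e
      rw [e] at hd
      exact absurd hd (by decide)
    exact Or.inr ⟨hd', Nat.eq_of_beq_eq_true h2.1.1, h2.1.2, Nat.eq_of_beq_eq_true h2.2⟩
  · rw [hd, cond_true] at h2
    exact Or.inl ⟨Nat.eq_of_beq_eq_true hd, Nat.eq_of_beq_eq_true h2⟩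

/-- The key of the product of the generators along a word (first letter leftmost). -/
def wKey (gs : List ℕ) : List ℕ → ℕ
  | [] => oneK
  | i :: w => mulKK (gs.getD i oneK) (wKey gs w)

/-- Involutions of a table lie in another table. -/
def invIn (t : Tr) (r : ℕ × ℕ × ℕ × ℕ) : Bool :=
  !(Nat.beq (mulKK r.1 r.1) oneK) || Nat.beq r.1 oneK || !(Nat.beq (t.get r.1) 0)

theorem invIn_spec (t : Tr) (r : ℕ × ℕ × ℕ × ℕ) (h : invIn t r = true)
    (h1 : mulKK r.1 r.1 = oneK) (h2 : r.1 ≠ oneK) : t.get r.1 ≠ 0 := by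
  unfold invIn at h
  simp only [Bool.or_eq_true, Bool.not_eq_true'] at h
  rcases h with (h | h) | h
  · rw [h1] at h
    exact absurd h (by decide)
  · exact absurd (Nat.eq_of_beq_eq_true h) h2
  · intro e
    rw [e] at h
    exact absurd h (by decide)

end Cfsg.Agent.Lib.Helper77.J3
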