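import Cfsg.Agent.Lib.Helper77.J3InvData
import Cfsg.Agent.Lib.Helper77.CentShape

set_option autoImplicit false
set_option linter.style.haveILetI false

/-! Numbering of the elements of the extraspecial group of order 32 of minus type, compatible with
the multiplication table of the data file. -/

namespace Cfsg.Agent.Lib.Helper77.J3

open Cfsg.Spor Matrix Cfsg.Agent.Lib.Helper77.CentShape Cfsg.Agent.Lib.Helper44

/-- The coordinates of an element of the extraspecial group as a number below 32. -/
def idxE (u : Fin 4 → ZMod 2) (c : ZMod 2) : ℕ :=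
  (u 0).val + 2 * (u 1).val + 4 * (u 2).val + 8 * (u 3).val + 16 * c.val

theorem idxE_lt : ∀ (u : Fin 4 → ZMod 2) (c : ZMod 2), idxE u c < 32 := by decide

theorem idxE_inj : ∀ (u v : Fin 4 → ZMod 2) (c d : ZMod 2), idxE u c = idxE v d → u = v ∧ c = d := by
  decide

set_option maxRecDepth 100000 in
theorem idxE_mul : ∀ (u v : Fin 4 → ZMod 2) (c d : ZMod 2),
    idxE (u + v) (c + d + CExt.bf Nm u v) = qMul.getD (32 * idxE u c + idxE v d) 0 := by
  decide +kernel

/-- The number of an element of the extraspecial group. -/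
def eidx (q : E32) : ℕ := idxE q.v q.c

theorem eidx_lt (q : E32) : eidx q < 32 := idxE_lt _ _

theorem eidx_inj {a b : E32} (e : eidx a = eidx b) : a = b := by
  obtain ⟨h1, h2⟩ := idxE_inj _ _ _ _ e
  exact CExt.ext h1 h2

theorem eidx_mul (a b : E32) : eidx (a * b) = qMul.getD (32 * eidx a + eidx b) 0 :=
  idxE_mul a.v b.v a.c b.c

end Cfsg.Agent.Lib.Helper77.J3
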