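import Cfsg.Agent.Lib.Helper77.J3Inv
import Cfsg.Agent.Lib.Helper77.CentData

set_option autoImplicit false
set_option linter.style.haveILetI false

/-! The data of the involution centralizer of J3 over a field in the lowest universe. -/

namespace Cfsg.Agent.Lib.Helper77.J3

open Cfsg.Spor Matrix Cfsg.Agent.Lib.Helper77.CentShape

variable {F : Type} [Field F] {ω : F}

theorem centData [Finite F] (h : IsF4 F ω) (hgs : ∀ x ∈ csK, Rep (threeJ3 F ω) ω x)
    (hcen : Nat.card (Subgroup.center (threeJ3 F ω)) = 3)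
    (hcard : Nat.card (threeJ3 F ω) = 150698880) : CentData (J3 F ω) := by
  haveI : Finite (threeJ3 F ω) := Nat.finite_of_card_ne_zero (by rw [hcard]; norm_num)
  obtain ⟨φ, hφ⟩ := exists_phi h hgs
  obtain ⟨c', a', b', d', hc', ha', hb', hd'⟩ := exists_elts h hgs
  have hinj := phi_injective h φ hφ c' a' b' d' hc' ha' hb' hd'
  have hpc := phi_comm h φ hφ c' a' b' d' hc' ha' hb' hd'
  have hc2 := c_sq h φ hφ c' a' b' d' hc' ha' hb' hd'
  have hcnc := c_nc h φ hφ c' a' b' d' hc' ha' hb' hd'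
  have hanc := a_nc h φ hφ c' a' b' d' hc' ha' hb' hd'
  have hrel := a_rel h φ hφ c' a' b' d' hc' ha' hb' hd'
  have hcomm := ab_comm h φ hφ c' a' b' d' hc' ha' hb' hd'
  have hna := a_norm h φ hφ c' a' b' d' hc' ha' hb' hd'
  have hnb := b_norm h φ hφ c' a' b' d' hc' ha' hb' hd'
  obtain ⟨ψ, hψc, hψn, hψa⟩ := exists_psi φ c' a' b' hcomm hrel hna hnb
  obtain ⟨hord, φ', ψ', hφ', hψ', hφt, hψt, hn⟩ :=
    push hcen φ hinj c' a' d' hc2 hcnc hanc hpc ψ hψc hψn hψa
  exact ⟨_, hord, all_conj h hgs hcen hcard c' hc', card_centralizer_le h hgs hcen hcard c' hc',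
    φ', ψ', hφ', hψ', hφt, hψt, hn⟩

end Cfsg.Agent.Lib.Helper77.J3
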