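import Cfsg.Agent.Lib.Helper77.J3Tab

set_option autoImplicit false
set_option linter.style.haveILetI false

/-! Matrices of the triple cover of J3 packed into one number (nine columns of 18 bits), with a fast
product and the lemmas relating it to the product of matrices over the field. -/

namespace Cfsg.Agent.Lib.Helper77.J3

open Cfsg.Spor Matrix

/-- The column at bit offset `s` of a packed matrix. -/
def colK (k s : ℕ) : ℕ := Nat.mod (Nat.shiftRight k s) 262144

/-- Unpack a matrix key. -/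
def unM (k : ℕ) : M9 :=
  ⟨unkey (colK k 0), unkey (colK k 18), unkey (colK k 36), unkey (colK k 54), unkey (colK k 72),
    unkey (colK k 90), unkey (colK k 108), unkey (colK k 126), unkey (colK k 144)⟩

/-- The packed matrix (with the multiples of the columns) of a key. -/
def pkK (k : ℕ) : P9 :=
  ⟨colK k 0, colK k 18, colK k 36, colK k 54, colK k 72, colK k 90, colK k 108, colK k 126,
    colK k 144, mulwP (colK k 0), mulwP (colK k 18), mulwP (colK k 36), mulwP (colK k 54),
    mulwP (colK k 72), mulwP (colK k 90), mulwP (colK k 108), mulwP (colK k 126),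
    mulwP (colK k 144)⟩

/-- Pack nine columns. -/
def packK (r0 r1 r2 r3 r4 r5 r6 r7 r8 : ℕ) : ℕ :=
  Nat.add r0 (Nat.mul 262144 (Nat.add r1 (Nat.mul 262144 (Nat.add r2 (Nat.mul 262144
    (Nat.add r3 (Nat.mul 262144 (Nat.add r4 (Nat.mul 262144 (Nat.add r5 (Nat.mul 262144
      (Nat.add r6 (Nat.mul 262144 (Nat.add r7 (Nat.mul 262144 r8)))))))))))))))

/-- Product of a packed matrix with a key. -/
def mulK (P : P9) (k : ℕ) : ℕ :=
  packK (P.apply (colK k 0)) (P.apply (colK k 18)) (P.apply (colK k 36)) (P.apply (colK k 54))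
    (P.apply (colK k 72)) (P.apply (colK k 90)) (P.apply (colK k 108)) (P.apply (colK k 126))
    (P.apply (colK k 144))

/-- Product of keys. -/
def mulKK (a b : ℕ) : ℕ := mulK (pkK a) b

/-- The key of the identity. -/
def oneK : ℕ := packK 1 2 4 8 16 32 64 128 256

theorem colK_lt (k s : ℕ) : colK k s < 262144 := Nat.mod_lt _ (by norm_num)

theorem unM_valid (k : ℕ) : (unM k).Valid := by
  unfold unM M9.Valid
  exact ⟨valid_unkey (colK_lt _ _), valid_unkey (colK_lt _ _), valid_unkey (colK_lt _ _),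
    valid_unkey (colK_lt _ _), valid_unkey (colK_lt _ _), valid_unkey (colK_lt _ _),
    valid_unkey (colK_lt _ _), valid_unkey (colK_lt _ _), valid_unkey (colK_lt _ _)⟩

theorem mulw_key_unkey {c : ℕ} (hc : c < 262144) : (unkey c).mulw.key = mulwP c := by
  rw [← mulwP_key (valid_unkey hc), key_unkey]

theorem pk_unM (k : ℕ) : pk (unM k) = pkK k := by
  unfold pk unM pkK
  simp only [key_unkey, mulw_key_unkey (colK_lt _ _)]

theorem key_lt {v : V9} (hv : v.Valid) : v.key < 262144 := by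
  unfold V9.key
  have := hv.1
  have := hv.2
  omega

theorem colK_packK (r0 r1 r2 r3 r4 r5 r6 r7 r8 : ℕ) (h0 : r0 < 262144) (h1 : r1 < 262144)
    (h2 : r2 < 262144) (h3 : r3 < 262144) (h4 : r4 < 262144) (h5 : r5 < 262144)
    (h6 : r6 < 262144) (h7 : r7 < 262144) (h8 : r8 < 262144) :
    colK (packK r0 r1 r2 r3 r4 r5 r6 r7 r8) 0 = r0 ∧
    colK (packK r0 r1 r2 r3 r4 r5 r6 r7 r8) 18 = r1 ∧
    colK (packK r0 r1 r2 r3 r4 r5 r6 r7 r8) 36 = r2 ∧
    colK (packK r0 r1 r2 r3 r4 r5 r6 r7 r8) 54 = r3 ∧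
    colK (packK r0 r1 r2 r3 r4 r5 r6 r7 r8) 72 = r4 ∧
    colK (packK r0 r1 r2 r3 r4 r5 r6 r7 r8) 90 = r5 ∧
    colK (packK r0 r1 r2 r3 r4 r5 r6 r7 r8) 108 = r6 ∧
    colK (packK r0 r1 r2 r3 r4 r5 r6 r7 r8) 126 = r7 ∧
    colK (packK r0 r1 r2 r3 r4 r5 r6 r7 r8) 144 = r8 := by
  have e : ∀ k s, colK k s = k / 2 ^ s % 262144 := by
    intro k s
    show (k >>> s) % 262144 = _
    rw [Nat.shiftRight_eq_div_pow]
  have p : packK r0 r1 r2 r3 r4 r5 r6 r7 r8 = r0 + 262144 * (r1 + 262144 * (r2 + 262144 *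
      (r3 + 262144 * (r4 + 262144 * (r5 + 262144 * (r6 + 262144 * (r7 + 262144 * r8))))))) := rfl
  simp only [e, p]
  norm_num
  refine ⟨?_, ?_, ?_, ?_, ?_, ?_, ?_, ?_, ?_⟩ <;> omega

theorem packK_colK {k : ℕ} (hk : k < 2 ^ 162) :
    packK (colK k 0) (colK k 18) (colK k 36) (colK k 54) (colK k 72) (colK k 90) (colK k 108)
      (colK k 126) (colK k 144) = k := by
  have e : ∀ k s, colK k s = k / 2 ^ s % 262144 := by
    intro k s
    show (k >>> s) % 262144 = _
    rw [Nat.shiftRight_eq_div_pow]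
  have p : ∀ r0 r1 r2 r3 r4 r5 r6 r7 r8, packK r0 r1 r2 r3 r4 r5 r6 r7 r8 =
      r0 + 262144 * (r1 + 262144 * (r2 + 262144 *
      (r3 + 262144 * (r4 + 262144 * (r5 + 262144 * (r6 + 262144 * (r7 + 262144 * r8))))))) :=
    fun _ _ _ _ _ _ _ _ _ => rfl
  simp only [e, p]
  norm_num at hk ⊢
  omega

theorem unM_mulKK (a b : ℕ) : unM (mulKK a b) = (unM a).mul (unM b) := by
  have hA := unM_valid a
  have hr : ∀ s, (pkK a).apply (colK b s) = ((unM a).apply (unkey (colK b s))).key := by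
    intro s
    rw [← pk_unM, ← apply_pk hA (valid_unkey (colK_lt _ _)), key_unkey]
  have hlt : ∀ s, (pkK a).apply (colK b s) < 262144 := by
    intro s
    rw [hr]
    exact key_lt (M9.valid_apply hA _)
  have hu : ∀ s, unkey ((pkK a).apply (colK b s)) = (unM a).apply (unkey (colK b s)) := by
    intro s
    rw [hr]
    exact unkey_key (M9.valid_apply hA _)
  obtain ⟨c0, c1, c2, c3, c4, c5, c6, c7, c8⟩ := colK_packK _ _ _ _ _ _ _ _ _ (hlt 0) (hlt 18)
    (hlt 36) (hlt 54) (hlt 72) (hlt 90) (hlt 108) (hlt 126) (hlt 144)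
  unfold mulKK mulK
  conv_lhs => unfold unM
  rw [c0, c1, c2, c3, c4, c5, c6, c7, c8]
  simp only [hu]
  rfl

section field
variable {F : Type} [Field F] {ω : F}

/-- The matrix over the field of a key. -/
def matOf (ω : F) (k : ℕ) : Matrix F9 F9 F := toMat ω (unM k)

theorem matOf_mul (h : IsF4 F ω) (a b : ℕ) : matOf ω (mulKK a b) = matOf ω a * matOf ω b := by
  unfold matOf
  rw [unM_mulKK, toMat_mul h]

theorem unM_oneK : unM oneK = M9.one := by decide +kernel

theorem matOf_one : matOf ω oneK = (1 : Matrix F9 F9 F) := by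
  unfold matOf
  rw [unM_oneK, toMat_one]

theorem toMat_injective (h : IsF4 F ω) {M N : M9} (hM : M.Valid) (hN : N.Valid)
    (e : toMat ω M = toMat ω N) : M = N := by
  have hcol : ∀ i < 9, M.col i = N.col i := by
    intro i hi
    have hz : idx (zOf i) = i := by
      have : ∀ i < 9, idx (zOf i) = i := by decide
      exact this i hi
    have hMv : (M.col i).Valid := by
      obtain ⟨h0, h1, h2, h3, h4, h5, h6, h7, h8⟩ := hM
      interval_cases i <;> assumption
    have hNv : (N.col i).Valid := by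
      obtain ⟨h0, h1, h2, h3, h4, h5, h6, h7, h8⟩ := hN
      interval_cases i <;> assumption
    apply dec_injective h hMv hNv
    funext w
    have := congrFun (congrFun e w) (zOf i)
    simp only [toMat, Matrix.of_apply, hz] at this
    exact this
  obtain ⟨m0, m1, m2, m3, m4, m5, m6, m7, m8⟩ := M
  obtain ⟨n0, n1, n2, n3, n4, n5, n6, n7, n8⟩ := N
  have e0 := hcol 0 (by norm_num)
  have e1 := hcol 1 (by norm_num)
  have e2 := hcol 2 (by norm_num)
  have e3 := hcol 3 (by norm_num)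
  have e4 := hcol 4 (by norm_num)
  have e5 := hcol 5 (by norm_num)
  have e6 := hcol 6 (by norm_num)
  have e7 := hcol 7 (by norm_num)
  have e8 := hcol 8 (by norm_num)
  simp only [M9.col] at e0 e1 e2 e3 e4 e5 e6 e7 e8
  rw [e0, e1, e2, e3, e4, e5, e6, e7, e8]

theorem unM_injective {a b : ℕ} (ha : a < 2 ^ 162) (hb : b < 2 ^ 162) (e : unM a = unM b) :
    a = b := by
  have hk : ∀ k s, (unkey (colK k s)).key = colK k s := fun k s => key_unkey _
  have e' := e
  unfold unM at e'
  simp only [M9.mk.injEq] at e'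
  obtain ⟨e0, e1, e2, e3, e4, e5, e6, e7, e8⟩ := e'
  have f : ∀ s, unkey (colK a s) = unkey (colK b s) → colK a s = colK b s := by
    intro s hs
    have := congrArg V9.key hs
    rwa [key_unkey, key_unkey] at this
  rw [← packK_colK ha, ← packK_colK hb, f _ e0, f _ e1, f _ e2, f _ e3, f _ e4, f _ e5, f _ e6,
    f _ e7, f _ e8]

theorem matOf_injective (h : IsF4 F ω) {a b : ℕ} (ha : a < 2 ^ 162) (hb : b < 2 ^ 162)
    (e : matOf ω a = matOf ω b) : a = b :=
  unM_injective ha hb (toMat_injective h (unM_valid a) (unM_valid b) e)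

/-- The key of a concrete matrix. -/
def M9.mkey (M : M9) : ℕ :=
  packK M.c0.key M.c1.key M.c2.key M.c3.key M.c4.key M.c5.key M.c6.key M.c7.key M.c8.key

theorem unM_mkey {M : M9} (hM : M.Valid) : unM M.mkey = M := by
  obtain ⟨h0, h1, h2, h3, h4, h5, h6, h7, h8⟩ := hM
  obtain ⟨c0, c1, c2, c3, c4, c5, c6, c7, c8⟩ := colK_packK _ _ _ _ _ _ _ _ _ (key_lt h0)
    (key_lt h1) (key_lt h2) (key_lt h3) (key_lt h4) (key_lt h5) (key_lt h6) (key_lt h7) (key_lt h8)
  unfold M9.mkey
  conv_lhs => unfold unM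
  rw [c0, c1, c2, c3, c4, c5, c6, c7, c8, unkey_key h0, unkey_key h1, unkey_key h2, unkey_key h3,
    unkey_key h4, unkey_key h5, unkey_key h6, unkey_key h7, unkey_key h8]

theorem matOf_mkey {M : M9} (hM : M.Valid) : matOf ω M.mkey = toMat ω M := by
  unfold matOf
  rw [unM_mkey hM]

end field

end Cfsg.Agent.Lib.Helper77.J3
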