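import Mathlib

set_option autoImplicit false
set_option linter.style.haveILetI false

/-! Subset sums as a bitmask: the bit `s` of `ssum c skip n` is set for every sum `s` of the values
`c o` over a set of indices `o < n` that avoids the skipped indices. -/

namespace Cfsg.Agent.Lib.Helper77

/-- The bitmask of the subset sums of `c 0, …, c (n - 1)`, without the skipped indices. -/
def ssum (c : ℕ → ℕ) (skip : ℕ → Bool) : ℕ → ℕ
  | 0 => 1
  | n + 1 => bif skip n then ssum c skip n
      else Nat.lor (ssum c skip n) (Nat.shiftLeft (ssum c skip n) (c n))

theorem ssum_spec (c : ℕ → ℕ) (skip : ℕ → Bool) : ∀ (n : ℕ) (I : Finset ℕ),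
    I ⊆ Finset.range n → (∀ o ∈ I, skip o = false) →
      (ssum c skip n).testBit (∑ o ∈ I, c o) = true := by
  intro n
  induction n with
  | zero =>
    intro I hI _
    have : I = ∅ := by
      rw [Finset.range_zero] at hI
      exact Finset.subset_empty.mp hI
    subst this
    simp [ssum]
  | succ n ih =>
    intro I hI hskip
    by_cases hn : n ∈ I
    · have hs : skip n = false := hskip n hn
      have hI' : I.erase n ⊆ Finset.range n := by
        intro o ho
        have h1 := Finset.mem_of_mem_erase ho
        have h2 := Finset.ne_of_mem_erase ho
        have h3 := Finset.mem_range.mp (hI h1)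
        exact Finset.mem_range.mpr (by omega)
      have ih' := ih (I.erase n) hI' (fun o ho => hskip o (Finset.mem_of_mem_erase ho))
      have hsum : ∑ o ∈ I, c o = c n + ∑ o ∈ I.erase n, c o := (Finset.add_sum_erase I c hn).symm
      unfold ssum
      rw [hs, cond_false, hsum]
      show (ssum c skip n ||| ssum c skip n <<< c n).testBit _ = true
      rw [Nat.testBit_or, Nat.testBit_shiftLeft]
      simp [ih']
    · have hI' : I ⊆ Finset.range n := by
        intro o ho
        have h3 := Finset.mem_range.mp (hI ho)
        have : o ≠ n := fun e => hn (e ▸ ho)
        exact Finset.mem_range.mpr (by omega)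
      have ih' := ih I hI' hskip
      unfold ssum
      cases hs : skip n
      · rw [cond_false]
        show (ssum c skip n ||| ssum c skip n <<< c n).testBit _ = true
        rw [Nat.testBit_or, ih']
        rfl
      · rw [cond_true]
        exact ih'

end Cfsg.Agent.Lib.Helper77
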