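import Cfsg.Agent.Lib.Helper77.J3Ord
import Cfsg.Agent.Lib.Helper77.J3Chk2
import Cfsg.Agent.Lib.Helper77.SubsetSum

set_option autoImplicit false
set_option linter.style.haveILetI false
set_option linter.unusedSectionVars false

/-! The stabilizer of the first basis line is a maximal subgroup of the triple cover of J3: the
orbit of the line under an overgroup is a union of suborbits whose length divides 23256. -/

namespace Cfsg.Agent.Lib.Helper77.J3

open Cfsg.Spor Matrix

variable {F : Type} [Field F] {ω : F}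

attribute [local instance] lineAct

/-- The kernel-checked facts about the suborbit table. -/
structure SubTab (tS : Tr) (srows : List (ℕ × ℕ × ℕ × ℕ × ℕ)) (hl : List P9)
    (roots cnt : List ℕ) (rows1 : List (ℕ × ℕ × ℕ × ℕ)) : Prop where
  rows_ok : ∀ r ∈ srows, rowS5 tS hl roots r = true
  toList : tS.toList = srows.map (fun r => (r.1, 32 * r.2.2.1 + r.2.1))
  keys_eq : srows.map (fun r => r.1) = rows1.map (fun r => r.1)
  hl_eq : hl = [pkK kB, pkK kC, pkK kE]
  cnt_ok : ∀ o < 28, (srows.filter (fun r => Nat.beq r.2.1 o)).length = cnt.getD o 0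

section sub
variable {tS : Tr} {srows : List (ℕ × ℕ × ℕ × ℕ × ℕ)} {hl : List P9} {roots cnt : List ℕ}
  {rows1 : List (ℕ × ℕ × ℕ × ℕ)} (ST : SubTab tS srows hl roots cnt rows1)
include ST

theorem sub_row_spec (k o d p j : ℕ) (hr : (k, o, d, p, j) ∈ srows) :
    k < 262144 ∧ leadP k = 1 ∧ tS.get k = 32 * d + o + 1 ∧ o < 28 ∧
      ((d = 0 ∧ k = roots.getD o 0) ∨ (d ≠ 0 ∧ tS.get p + 32 = 32 * d + o + 1 ∧ j < hl.length ∧
        stepKeyP (hl.getD j pOne) p = k)) := by
  obtain ⟨h1, h2⟩ := rowS5_spec tS hl roots k o d p j (ST.rows_ok _ hr)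
  obtain ⟨a, b, c, e⟩ := rowS_spec tS hl o (roots.getD o 0) k d p j h1
  exact ⟨a, b, c, h2, e⟩

theorem orbOf_row (r : ℕ × ℕ × ℕ × ℕ × ℕ) (hr : r ∈ srows) : orbOf tS r.1 = r.2.1 := by
  obtain ⟨k, o, d, p, j⟩ := r
  obtain ⟨_, _, hget, ho, _⟩ := sub_row_spec ST k o d p j hr
  unfold orbOf
  rw [hget]
  show (32 * d + o + 1 - 1) % 32 = o
  omega

theorem sub_row_of_get {k v : ℕ} (hk : tS.get k = v + 1) :
    ∃ r ∈ srows, r.1 = k ∧ 32 * r.2.2.1 + r.2.1 = v := by
  have hmem := Tr.get_mem tS k v hk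
  rw [ST.toList] at hmem
  obtain ⟨r, hr, hre⟩ := List.mem_map.mp hmem
  simp only [Prod.mk.injEq] at hre
  exact ⟨r, hr, hre.1, hre.2⟩

/-- Every key of a suborbit is the image of the root of the suborbit under an element of the
subgroup generated by the three generators of the stabilizer. -/
theorem sub_reach (h : IsF4 F ω)
    (hrep : ∀ x ∈ [kB, kC, kE], Rep (stabGL F ω) ω x) :
    ∀ d, ∀ r ∈ srows, r.2.2.1 = d →
      ∃ y ∈ stabGL F ω, Maps ω y (roots.getD r.2.1 0) r.1 := by
  intro d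
  induction d using Nat.strong_induction_on with
  | _ d ih =>
    rintro ⟨k, o, d', p, j⟩ hr hd
    simp only at hd
    subst hd
    obtain ⟨hk, hlead, hget, ho, hcase⟩ := sub_row_spec ST k o d' p j hr
    rcases hcase with ⟨_, hroot⟩ | ⟨hd0, hpar, hj, hstep⟩
    · simp only
      rw [← hroot]
      exact ⟨1, Subgroup.one_mem _, maps_one k⟩
    · obtain ⟨e, rfl⟩ : ∃ e, d' = e + 1 := ⟨d' - 1, by omega⟩
      have hp' : tS.get p = (32 * e + o) + 1 := by omega
      obtain ⟨⟨p', o', e', p2, j2⟩, hr', hpe, hval⟩ := sub_row_of_get ST hp'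
      simp only at hpe hval
      subst hpe
      obtain ⟨hp'lt, _, _, ho', _⟩ := sub_row_spec ST p' o' e' p2 j2 hr'
      have ho'' : o' = o := by omega
      have he'' : e' = e := by omega
      subst ho''
      subst he''
      obtain ⟨y', hy', hm'⟩ := ih e' (by omega) _ hr' rfl
      simp only at hm'
      rw [ST.hl_eq] at hj hstep
      have hj3 : j < 3 := by simpa using hj
      -- the generator
      have hgen : ∃ x ∈ [kB, kC, kE], [pkK kB, pkK kC, pkK kE].getD j pOne = pkK x := by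
        interval_cases j
        · exact ⟨kB, by simp, rfl⟩
        · exact ⟨kC, by simp, rfl⟩
        · exact ⟨kE, by simp, rfl⟩
      obtain ⟨x, hx, hxe⟩ := hgen
      rw [hxe] at hstep
      obtain ⟨g, hg, eg⟩ := hrep x hx
      have hm := maps_of_step h eg hp'lt hstep hlead hk
      exact ⟨g * y', Subgroup.mul_mem _ hg hy', maps_mul hm' hm⟩

end sub

/-- The hypotheses on the tables for the maximality of the stabilizer. -/
structure MaxData (tr1 : Tr) (rows1 : List (ℕ × ℕ × ℕ × ℕ)) (gLit : List P9) (bm1 : ℕ)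
    (gl : List P9) (tS : Tr) (srows : List (ℕ × ℕ × ℕ × ℕ × ℕ)) (hl : List P9)
    (roots cnt : List ℕ) (B0 : ℕ) (uW : List ℕ) : Prop where
  T1 : OrbTab tr1 rows1 gLit 1
  C1 : ClosTab rows1 bm1 gl
  root1 : tr1.get 1 = 1
  incr1 : isIncr3 (rows1.map (fun r => r.1)) = true
  ST : SubTab tS srows hl roots cnt rows1
  orb1 : orbOf tS 1 = 0
  B0_eq : ssum (fun o => cnt.getD o 0) (fun o => Nat.beq o 0) 28 = B0
  chkB0 : (List.range 23256).all (fun s => !(Nat.beq (Nat.mod 23256 (Nat.succ s)) 0) ||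
    !(B0.testBit s) || Nat.beq s 0 || Nat.beq s 135 || Nat.beq s 23255) = true
  chkB1 : (ssum (fun o => cnt.getD o 0) (fun o => Nat.beq o 0 || Nat.beq o 12) 28).testBit 135
    = false
  cnt0 : cnt.getD 0 0 = 1
  cnt12 : cnt.getD 12 0 = 135
  cnt2 : cnt.getD 2 0 = 180
  ex1 : stepKeyP (pkK (wordKey [kD, kB, kC] uW)) 1 = 239
  ex2 : stepKeyP (pkK (wordKey [kD, kB, kC] uW)) 239 = 67
  ex3 : orbOf tS 239 = 12 ∧ tS.get 239 ≠ 0
  ex4 : orbOf tS 67 = 2 ∧ tS.get 67 ≠ 0

section max
open Classical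

variable [Finite F] (h : IsF4 F ω) {kT : Tr} {krows : List (ℕ × ℕ × ℕ × ℕ)} {uT kI : Tr}
  {urows : List (ℕ × ℕ × ℕ × ℕ × ℕ × ℕ × ℕ × ℕ)} {P1 P2 P3 : P9} {words : List (List ℕ)}
  (D : OrdData F ω kT krows uT kI urows P1 P2 P3 words)
  {tr1 : Tr} {rows1 : List (ℕ × ℕ × ℕ × ℕ)} {gLit : List P9} {bm1 : ℕ}
  {gl : List P9} {tS : Tr} {srows : List (ℕ × ℕ × ℕ × ℕ × ℕ)} {hl : List P9}
  {roots cnt : List ℕ} {B0 : ℕ} {uW : List ℕ}
  (X : MaxData tr1 rows1 gLit bm1 gl tS srows hl roots cnt B0 uW)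
include h D X

theorem keys_spec : ∀ k ∈ rows1.map (fun r => r.1), k < 262144 ∧ leadP k = 1 := by
  intro k hk
  obtain ⟨⟨k', d, p, j⟩, hr, rfl⟩ := List.mem_map.mp hk
  obtain ⟨h1, h2, _⟩ := rowBP_spec tr1 gLit 1 k' d p j (X.T1.rows_ok _ hr)
  exact ⟨h1, h2⟩

theorem one_mem_keys : 1 ∈ rows1.map (fun r => r.1) := by
  have hmem := Tr.get_mem tr1 1 0 X.root1
  rw [X.T1.toList] at hmem
  obtain ⟨r, hr, hre⟩ := List.mem_map.mp hmem
  simp only [Prod.mk.injEq] at hre
  exact List.mem_map.mpr ⟨r, hr, hre.1⟩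

theorem maps_total (g : GL F9 F) (hg : g ∈ threeJ3 F ω) :
    ∀ k ∈ rows1.map (fun r => r.1), ∃ k' ∈ rows1.map (fun r => r.1), Maps ω g k k' := by
  intro k hk
  obtain ⟨r, hr, rfl⟩ := List.mem_map.mp hk
  obtain ⟨r', hr', c, hc, e⟩ := closed_all h X.T1 X.C1 g hg r hr
  exact ⟨r'.1, List.mem_map.mpr ⟨r', hr', rfl⟩, c, hc, e⟩

/-- The keys of the lines in the orbit of the first basis line under a subgroup. -/
noncomputable def TH (ω : F) (rows1 : List (ℕ × ℕ × ℕ × ℕ))
    (H : Subgroup (threeJ3 F ω)) : Finset ℕ :=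
  (rows1.map (fun r => r.1)).toFinset.filter
    (fun k => ∃ g ∈ H, Maps ω ((g : threeJ3 F ω) : GL F9 F) 1 k)

theorem orbit_ncard_TH (H : Subgroup (threeJ3 F ω)) :
    (MulAction.orbit H (line0 F)).ncard = (TH ω rows1 H).card := by
  have hset : (MulAction.orbit H (line0 F) : Set (Submodule F (F9 → F))) =
      (fun k => Submodule.span F {dec ω (unkey k)}) '' (↑(TH ω rows1 H) : Set ℕ) := by
    ext L
    simp only [MulAction.mem_orbit_iff, Set.mem_image, Finset.mem_coe]
    constructor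
    · rintro ⟨g, rfl⟩
      obtain ⟨k', hk', hm⟩ := maps_total h D X (g : threeJ3 F ω) (g : threeJ3 F ω).2 1
        (one_mem_keys h D X)
      refine ⟨k', ?_, ?_⟩
      · unfold TH
        rw [Finset.mem_filter, List.mem_toFinset]
        exact ⟨hk', g.1, g.2, hm⟩
      · rw [Subgroup.smul_def]
        unfold line0
        rw [smul_span, ← dec_unkey_one (ω := ω)]
        exact (maps_span hm).symm
    · rintro ⟨k, hk, rfl⟩
      unfold TH at hk
      rw [Finset.mem_filter] at hk
      obtain ⟨_, g, hg, hm⟩ := hk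
      refine ⟨⟨g, hg⟩, ?_⟩
      rw [Subgroup.smul_def]
      unfold line0
      rw [smul_span, ← dec_unkey_one (ω := ω)]
      exact maps_span hm
  rw [hset]
  have hinj : Set.InjOn (fun k => Submodule.span F {dec ω (unkey k)})
      (↑(TH ω rows1 H) : Set ℕ) := by
    intro k hk k' hk' e
    unfold TH at hk hk'
    rw [Finset.mem_coe, Finset.mem_filter, List.mem_toFinset] at hk hk'
    obtain ⟨h1, h2⟩ := keys_spec h D X k hk.1
    obtain ⟨h1', h2'⟩ := keys_spec h D X k' hk'.1
    exact line_injOn h h1 h1' h2 h2' e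
  rw [hinj.ncard_image, Set.ncard_coe_finset]

theorem stabilizer_subgroup (H : Subgroup (threeJ3 F ω)) :
    MulAction.stabilizer H (line0 F) =
      (MulAction.stabilizer (threeJ3 F ω) (line0 F)).subgroupOf H := by
  ext x
  rw [MulAction.mem_stabilizer_iff, Subgroup.mem_subgroupOf, MulAction.mem_stabilizer_iff,
    Subgroup.smul_def]

theorem card_TH_mul_index (H : Subgroup (threeJ3 F ω))
    (hKH : MulAction.stabilizer (threeJ3 F ω) (line0 F) ≤ H) :
    (TH ω rows1 H).card * H.index = 23256 := by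
  have e1 := MulAction.index_stabilizer H (line0 F)
  rw [stabilizer_subgroup h D X H, orbit_ncard_TH h D X H] at e1
  have e2 := Subgroup.relIndex_mul_index hKH
  unfold Subgroup.relIndex at e2
  rw [e1, MulAction.index_stabilizer, orbit_line0, D.horb] at e2
  exact e2

theorem srow_of_key {k : ℕ} (hk : k ∈ rows1.map (fun r => r.1)) : ∃ r ∈ srows, r.1 = k := by
  rw [← X.ST.keys_eq] at hk
  exact List.mem_map.mp hk

/-- Two keys of the same suborbit are exchanged by an element of the stabilizer. -/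
theorem exists_stab_maps {k k' : ℕ} (hk : k ∈ rows1.map (fun r => r.1))
    (hk' : k' ∈ rows1.map (fun r => r.1)) (ho : orbOf tS k' = orbOf tS k) :
    ∃ z ∈ MulAction.stabilizer (threeJ3 F ω) (line0 F),
      Maps ω ((z : threeJ3 F ω) : GL F9 F) k k' := by
  obtain ⟨r, hr, rfl⟩ := srow_of_key h D X hk
  obtain ⟨r', hr', rfl⟩ := srow_of_key h D X hk'
  rw [orbOf_row X.ST r hr, orbOf_row X.ST r' hr'] at ho
  obtain ⟨y, hy, hm⟩ := sub_reach X.ST h (rep_stab_gens h D) _ r hr rfl
  obtain ⟨y', hy', hm'⟩ := sub_reach X.ST h (rep_stab_gens h D) _ r' hr' rfl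
  rw [ho] at hm'
  have hz : y' * y⁻¹ ∈ stabGL F ω := Subgroup.mul_mem _ hy' (Subgroup.inv_mem _ hy)
  rw [← stabilizer_eq h D] at hz
  obtain ⟨z, hz1, hz2⟩ := hz
  refine ⟨z, hz1, ?_⟩
  have : ((z : threeJ3 F ω) : GL F9 F) = y' * y⁻¹ := hz2
  rw [this]
  exact maps_mul (maps_inv hm) hm'

theorem TH_closed (H : Subgroup (threeJ3 F ω))
    (hKH : MulAction.stabilizer (threeJ3 F ω) (line0 F) ≤ H) {k k' : ℕ}
    (hk : k ∈ TH ω rows1 H) (hk' : k' ∈ rows1.map (fun r => r.1))
    (ho : orbOf tS k' = orbOf tS k) : k' ∈ TH ω rows1 H := by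
  unfold TH at hk ⊢
  rw [Finset.mem_filter, List.mem_toFinset] at hk ⊢
  obtain ⟨hk1, g, hg, hm⟩ := hk
  obtain ⟨z, hz, hmz⟩ := exists_stab_maps h D X hk1 hk' ho
  exact ⟨hk', z * g, H.mul_mem (hKH hz) hg, maps_mul hm hmz⟩

theorem one_mem_TH (H : Subgroup (threeJ3 F ω)) : 1 ∈ TH ω rows1 H := by
  unfold TH
  rw [Finset.mem_filter, List.mem_toFinset]
  exact ⟨one_mem_keys h D X, 1, H.one_mem, maps_one 1⟩

theorem keys_nodup : (rows1.map (fun r => r.1)).Nodup :=
  (isIncr3_pairwise _ X.incr1).imp (fun hab => Nat.ne_of_lt hab)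

theorem orbOf_lt {k : ℕ} (hk : k ∈ rows1.map (fun r => r.1)) : orbOf tS k < 28 := by
  obtain ⟨⟨k', o, d, p, j⟩, hr, rfl⟩ := srow_of_key h D X hk
  rw [orbOf_row X.ST _ hr]
  exact (sub_row_spec X.ST k' o d p j hr).2.2.2.1

/-- The number of keys in a suborbit. -/
theorem card_fiber (o : ℕ) (ho : o < 28) :
    ((rows1.map (fun r => r.1)).toFinset.filter (fun k => orbOf tS k = o)).card
      = cnt.getD o 0 := by
  rw [← X.ST.cnt_ok o ho, ← X.ST.keys_eq]
  have hnd : (srows.map (fun r => r.1)).Nodup := X.ST.keys_eq ▸ keys_nodup h D X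
  have e1 : (srows.map (fun r => r.1)).toFinset.filter (fun k => orbOf tS k = o) =
      ((srows.map (fun r => r.1)).filter (fun k => decide (orbOf tS k = o))).toFinset := by
    ext k
    simp
  rw [e1, List.toFinset_card_of_nodup (hnd.filter _), List.filter_map, List.length_map]
  congr 1
  apply List.filter_congr
  intro r hr
  simp only [Function.comp]
  rw [orbOf_row X.ST r hr]
  by_cases e : r.2.1 = o
  · rw [e]; simp
  · have : Nat.beq r.2.1 o = false := by
      cases hb : Nat.beq r.2.1 o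
      · rfl
      · exact absurd (Nat.eq_of_beq_eq_true hb) e
    rw [this]
    simp [e]

/-- The length of the orbit under an overgroup of the stabilizer is a sum of lengths of
suborbits. -/
theorem card_TH_eq_sum (H : Subgroup (threeJ3 F ω))
    (hKH : MulAction.stabilizer (threeJ3 F ω) (line0 F) ≤ H) :
    (TH ω rows1 H).card = ∑ o ∈ (TH ω rows1 H).image (orbOf tS), cnt.getD o 0 := by
  rw [Finset.card_eq_sum_card_fiberwise (f := orbOf tS) (t := (TH ω rows1 H).image (orbOf tS))
    (fun x hx => Finset.mem_image_of_mem _ hx)]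
  apply Finset.sum_congr rfl
  intro o ho
  obtain ⟨k, hk, rfl⟩ := Finset.mem_image.mp ho
  have hkk : k ∈ rows1.map (fun r => r.1) := by
    unfold TH at hk
    rw [Finset.mem_filter, List.mem_toFinset] at hk
    exact hk.1
  rw [← card_fiber h D X (orbOf tS k) (orbOf_lt h D X hkk)]
  congr 1
  ext k'
  simp only [Finset.mem_filter, List.mem_toFinset]
  constructor
  · rintro ⟨h1, h2⟩
    unfold TH at h1
    rw [Finset.mem_filter, List.mem_toFinset] at h1
    exact ⟨h1.1, h2⟩
  · rintro ⟨h1, h2⟩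
    exact ⟨TH_closed h D X H hKH hk h1 h2, h2⟩

theorem image_subset_range (H : Subgroup (threeJ3 F ω)) :
    (TH ω rows1 H).image (orbOf tS) ⊆ Finset.range 28 := by
  intro o ho
  obtain ⟨k, hk, rfl⟩ := Finset.mem_image.mp ho
  unfold TH at hk
  rw [Finset.mem_filter, List.mem_toFinset] at hk
  exact Finset.mem_range.mpr (orbOf_lt h D X hk.1)

theorem zero_mem_image (H : Subgroup (threeJ3 F ω)) :
    0 ∈ (TH ω rows1 H).image (orbOf tS) :=
  Finset.mem_image.mpr ⟨1, one_mem_TH h D X H, X.orb1⟩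

theorem card_TH_eq_relIndex (H : Subgroup (threeJ3 F ω)) :
    (TH ω rows1 H).card = (MulAction.stabilizer (threeJ3 F ω) (line0 F)).relIndex H := by
  have e1 := MulAction.index_stabilizer H (line0 F)
  rw [stabilizer_subgroup h D X H, orbit_ncard_TH h D X H] at e1
  exact e1.symm

/-- The possible lengths of the orbit of the first basis line under an overgroup of its
stabilizer. -/
theorem card_TH_cases (H : Subgroup (threeJ3 F ω))
    (hKH : MulAction.stabilizer (threeJ3 F ω) (line0 F) ≤ H) :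
    (TH ω rows1 H).card = 1 ∨
      ((TH ω rows1 H).card = 136 ∧ 12 ∈ (TH ω rows1 H).image (orbOf tS)) ∨
      (TH ω rows1 H).card = 23256 := by
  set I := (TH ω rows1 H).image (orbOf tS) with hI
  set c : ℕ → ℕ := fun o => cnt.getD o 0 with hc
  have hsum := card_TH_eq_sum h D X H hKH
  rw [← hI] at hsum
  have h0 := zero_mem_image h D X H
  rw [← hI] at h0
  have hsplit : ∑ o ∈ I, c o = c 0 + ∑ o ∈ I.erase 0, c o := (Finset.add_sum_erase I c h0).symm
  have hsub : I.erase 0 ⊆ Finset.range 28 :=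
    (Finset.erase_subset _ _).trans (image_subset_range h D X H)
  set s := ∑ o ∈ I.erase 0, c o with hs
  have hcard : (TH ω rows1 H).card = s + 1 := by
    rw [hsum, hsplit]
    show cnt.getD 0 0 + s = s + 1
    rw [X.cnt0, add_comm]
  have hbit : B0.testBit s = true := by
    rw [← X.B0_eq]
    apply ssum_spec c _ 28 (I.erase 0) hsub
    intro o ho
    have : o ≠ 0 := Finset.ne_of_mem_erase ho
    cases hb : Nat.beq o 0
    · rfl
    · exact absurd (Nat.eq_of_beq_eq_true hb) this
  have hdvd : (s + 1) ∣ 23256 := by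
    rw [← hcard]
    exact Dvd.intro _ (card_TH_mul_index h D X H hKH)
  have hlt : s < 23256 := by
    have := Nat.le_of_dvd (by norm_num) hdvd
    omega
  have hchk := List.all_eq_true.mp X.chkB0 s (List.mem_range.mpr hlt)
  have hmod : Nat.beq (Nat.mod 23256 (Nat.succ s)) 0 = true := by
    have : 23256 % (s + 1) = 0 := Nat.mod_eq_zero_of_dvd hdvd
    show Nat.beq (23256 % (s + 1)) 0 = true
    rw [this]
    rfl
  rw [hmod, hbit] at hchk
  simp only [Bool.not_true, Bool.false_or, Bool.or_eq_true] at hchk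
  rcases hchk with (e | e) | e
  · left
    rw [hcard, Nat.eq_of_beq_eq_true e]
  · right; left
    have es : s = 135 := Nat.eq_of_beq_eq_true e
    refine ⟨by rw [hcard, es], ?_⟩
    by_contra h12
    have := ssum_spec c (fun o => Nat.beq o 0 || Nat.beq o 12) 28 (I.erase 0) hsub (by
      intro o ho
      have n0 : o ≠ 0 := Finset.ne_of_mem_erase ho
      have n12 : o ≠ 12 := fun e12 => h12 (e12 ▸ Finset.mem_of_mem_erase ho)
      have b0 : Nat.beq o 0 = false := by
        cases hb : Nat.beq o 0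
        · rfl
        · exact absurd (Nat.eq_of_beq_eq_true hb) n0
      have b12 : Nat.beq o 12 = false := by
        cases hb : Nat.beq o 12
        · rfl
        · exact absurd (Nat.eq_of_beq_eq_true hb) n12
      rw [b0, b12]
      rfl)
    rw [← hs, es, X.chkB1] at this
    exact absurd this (by decide)
  · right; right
    rw [hcard, Nat.eq_of_beq_eq_true e]

theorem key_of_get {k : ℕ} (hk : tS.get k ≠ 0) : k ∈ rows1.map (fun r => r.1) := by
  obtain ⟨v, hv⟩ : ∃ v, tS.get k = v + 1 := ⟨tS.get k - 1, by omega⟩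
  obtain ⟨r, hr, hre, _⟩ := sub_row_of_get X.ST hv
  rw [← X.ST.keys_eq]
  exact List.mem_map.mpr ⟨r, hr, hre⟩

/-- There is no overgroup of the stabilizer with an orbit of length 136. -/
theorem not_136 (H : Subgroup (threeJ3 F ω))
    (hKH : MulAction.stabilizer (threeJ3 F ω) (line0 F) ≤ H)
    (hcard : (TH ω rows1 H).card = 136) (h12 : 12 ∈ (TH ω rows1 H).image (orbOf tS)) : False := by
  obtain ⟨k0, hk0, ho0⟩ := Finset.mem_image.mp h12
  have hk239 := key_of_get h D X X.ex3.2
  have hk67 := key_of_get h D X X.ex4.2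
  have h239 : 239 ∈ TH ω rows1 H :=
    TH_closed h D X H hKH hk0 hk239 (by rw [X.ex3.1, ho0])
  unfold TH at h239
  rw [Finset.mem_filter] at h239
  obtain ⟨_, g, hg, hm⟩ := h239
  -- the transversal element
  have hgs : ∀ x ∈ [kD, kB, kC], Rep (threeJ3 F ω) ω x := by
    intro x hx
    simp only [List.mem_cons, List.not_mem_nil, or_false] at hx
    rcases hx with rfl | rfl | rfl
    · exact rep_gens h D 21 (by decide)
    · exact rep_gens h D 31 (by decide)
    · exact rep_gens h D 39 (by decide)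
  obtain ⟨u, hu, eu⟩ := rep_word h hgs uW
  obtain ⟨l1, l2⟩ := keys_spec h D X 239 hk239
  obtain ⟨m1, m2⟩ := keys_spec h D X 67 hk67
  have hmu : Maps ω u 1 239 := maps_of_step h eu (by norm_num) X.ex1 l2 l1
  have hmu2 : Maps ω u 239 67 := maps_of_step h eu l1 X.ex2 m2 m1
  -- `u` lies in `H`
  have hfix : (g⁻¹ * ⟨u, hu⟩ : threeJ3 F ω) ∈ MulAction.stabilizer (threeJ3 F ω) (line0 F) := by
    rw [mem_stabilizer_iff]
    have : ((g⁻¹ * ⟨u, hu⟩ : threeJ3 F ω) : GL F9 F) = (g : GL F9 F)⁻¹ * u := rfl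
    rw [this]
    exact maps_mul hmu (maps_inv hm)
  have huH : (⟨u, hu⟩ : threeJ3 F ω) ∈ H := by
    have := H.mul_mem hg (hKH hfix)
    rwa [mul_inv_cancel_left] at this
  have h67 : 67 ∈ TH ω rows1 H := by
    unfold TH
    rw [Finset.mem_filter, List.mem_toFinset]
    exact ⟨hk67, ⟨u, hu⟩ * g, H.mul_mem huH hg, maps_mul hm hmu2⟩
  have h2 : 2 ∈ (TH ω rows1 H).image (orbOf tS) := Finset.mem_image.mpr ⟨67, h67, X.ex4.1⟩
  have h0 := zero_mem_image h D X H
  have hsum := card_TH_eq_sum h D X H hKH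
  have hsubset : ({0, 12, 2} : Finset ℕ) ⊆ (TH ω rows1 H).image (orbOf tS) := by
    intro o ho
    simp only [Finset.mem_insert, Finset.mem_singleton] at ho
    rcases ho with rfl | rfl | rfl
    · exact h0
    · exact h12
    · exact h2
  have hle := Finset.sum_le_sum_of_subset (f := fun o => cnt.getD o 0) hsubset
  have h3 : ∑ o ∈ ({0, 12, 2} : Finset ℕ), cnt.getD o 0 = 1 + (135 + 180) := by
    rw [Finset.sum_insert (by decide), Finset.sum_insert (by decide), Finset.sum_singleton,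
      X.cnt0, X.cnt12, X.cnt2]
  rw [h3, ← hsum, hcard] at hle
  omega

/-- The stabilizer of the first basis line is a maximal subgroup. -/
theorem isCoatom_stabilizer : IsCoatom (MulAction.stabilizer (threeJ3 F ω) (line0 F)) := by
  constructor
  · intro e
    have h1 := card_stabilizer h D
    have h2 := card_threeJ3 h D
    rw [e, Subgroup.card_top] at h1
    omega
  · intro H hlt
    have hKH := le_of_lt hlt
    rcases card_TH_cases h D X H hKH with e | ⟨e, e12⟩ | e
    · exfalso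
      rw [card_TH_eq_relIndex h D X H, Subgroup.relIndex_eq_one] at e
      exact absurd (le_antisymm e hKH) (ne_of_gt hlt)
    · exact absurd (not_136 h D X H hKH e e12) id
    · have := card_TH_mul_index h D X H hKH
      rw [e] at this
      have hi : H.index = 1 := by omega
      exact Subgroup.index_eq_one.mp hi

end max

end Cfsg.Agent.Lib.Helper77.J3
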