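import Cfsg.Agent.Lib.Helper77.J3OrbD0

set_option autoImplicit false
set_option linter.style.haveILetI false
set_option maxRecDepth 100000
set_option Elab.async false

/-! The orbit table of the 23256 images of the first basis line under the triple cover of J3,
with closure under all generators (generated by a script, checked by the kernel). -/

namespace Cfsg.Agent.Lib.Helper77.J3

/-- A subtree. -/
def tr1_s0 : Tr := (Tr.node (Tr.node (Tr.node (Tr.node (Tr.node (Tr.node (Tr.node (Tr.node (Tr.node Tr.leaf 1 0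
 Tr.leaf) 2 1
 Tr.leaf) 4 1
 (Tr.node (Tr.node Tr.leaf 8 1
 Tr.leaf) 11 3
 Tr.leaf)) 13 3
 (Tr.node (Tr.node (Tr.node Tr.leaf 14 2
 Tr.leaf) 16 1
 Tr.leaf) 19 3
 (Tr.node (Tr.node Tr.leaf 21 3
 Tr.leaf) 22 4
 Tr.leaf))) 25 3
 (Tr.node (Tr.node (Tr.node (Tr.node Tr.leaf 26 3
 Tr.leaf) 28 4
 Tr.leaf) 32 1
 (Tr.node (Tr.node Tr.leaf 35 3
 Tr.leaf) 37 3
 Tr.leaf)) 38 4
 (Tr.node (Tr.node (Tr.node Tr.leaf 41 3
 Tr.leaf) 42 4
 Tr.leaf) 44 3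
 (Tr.node Tr.leaf 49 3
 Tr.leaf)))) 50 4
 (Tr.node (Tr.node (Tr.node (Tr.node (Tr.node Tr.leaf 52 4
 Tr.leaf) 64 1
 Tr.leaf) 67 3
 (Tr.node (Tr.node Tr.leaf 69 3
 Tr.leaf) 70 2
 Tr.leaf)) 74 2
 (Tr.node (Tr.node (Tr.node Tr.leaf 76 2
 Tr.leaf) 81 3
 Tr.leaf) 82 4
 (Tr.node (Tr.node Tr.leaf 87 6
 Tr.leaf) 88 4
 Tr.leaf))) 93 6
 (Tr.node (Tr.node (Tr.node (Tr.node Tr.leaf 97 3
 Tr.leaf) 100 4
 Tr.leaf) 103 6
 (Tr.node (Tr.node Tr.leaf 104 4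
 Tr.leaf) 107 6
 Tr.leaf)) 112 3
 (Tr.node (Tr.node (Tr.node Tr.leaf 118 4
 Tr.leaf) 122 5
 Tr.leaf) 124 5
 (Tr.node Tr.leaf 128 1
 Tr.leaf))))) 131 3
 (Tr.node (Tr.node (Tr.node (Tr.node (Tr.node (Tr.node Tr.leaf 133 3
 Tr.leaf) 134 4
 Tr.leaf) 137 3
 (Tr.node (Tr.node Tr.leaf 138 4
 Tr.leaf) 143 6
 Tr.leaf)) 145 3
 (Tr.node (Tr.node (Tr.node Tr.leaf 148 3
 Tr.leaf) 152 4
 Tr.leaf) 158 5
 (Tr.node (Tr.node Tr.leaf 162 4
 Tr.leaf) 164 4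
 Tr.leaf))) 168 4
 (Tr.node (Tr.node (Tr.node (Tr.node Tr.leaf 174 5
 Tr.leaf) 176 2
 Tr.leaf) 179 6
 (Tr.node (Tr.node Tr.leaf 182 5
 Tr.leaf) 185 6
 Tr.leaf)) 186 4
 (Tr.node (Tr.node (Tr.node Tr.leaf 188 5
 Tr.leaf) 191 4
 Tr.leaf) 193 3
 (Tr.node Tr.leaf 194 3
 Tr.leaf)))) 196 4
 (Tr.node (Tr.node (Tr.node (Tr.node (Tr.node Tr.leaf 200 4
 Tr.leaf) 205 6
 Tr.leaf) 208 4
 (Tr.node (Tr.node Tr.leaf 214 5
 Tr.leaf) 220 4
 Tr.leaf)) 224 4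
 (Tr.node (Tr.node (Tr.node Tr.leaf 230 5
 Tr.leaf) 234 5
 Tr.leaf) 236 5
 (Tr.node Tr.leaf 239 6
 Tr.leaf))) 242 5
 (Tr.node (Tr.node (Tr.node (Tr.node Tr.leaf 247 4
 Tr.leaf) 248 5
 Tr.leaf) 251 4
 (Tr.node (Tr.node Tr.leaf 253 4
 Tr.leaf) 256 1
 Tr.leaf)) 259 3
 (Tr.node (Tr.node (Tr.node Tr.leaf 261 3
 Tr.leaf) 262 4
 Tr.leaf) 265 3
 (Tr.node Tr.leaf 268 4
 Tr.leaf)))))) 271 6
 (Tr.node (Tr.node (Tr.node (Tr.node (Tr.node (Tr.node (Tr.node Tr.leaf 274 4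
 Tr.leaf) 276 4
 Tr.leaf) 280 4
 (Tr.node (Tr.node Tr.leaf 286 5
 Tr.leaf) 289 3
 Tr.leaf)) 290 3
 (Tr.node (Tr.node (Tr.node Tr.leaf 296 4
 Tr.leaf) 302 5
 Tr.leaf) 304 2
 (Tr.node (Tr.node Tr.leaf 309 6
 Tr.leaf) 310 5
 Tr.leaf))) 313 6
 (Tr.node (Tr.node (Tr.node (Tr.node Tr.leaf 314 5
 Tr.leaf) 316 4
 Tr.leaf) 319 4
 (Tr.node (Tr.node Tr.leaf 321 3
 Tr.leaf) 322 4
 Tr.leaf)) 324 3
 (Tr.node (Tr.node (Tr.node Tr.leaf 328 4
 Tr.leaf) 331 6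
 Tr.leaf) 336 4
 (Tr.node Tr.leaf 342 5
 Tr.leaf)))) 346 5
 (Tr.node (Tr.node (Tr.node (Tr.node (Tr.node Tr.leaf 348 5
 Tr.leaf) 351 6
 Tr.leaf) 352 4
 (Tr.node (Tr.node Tr.leaf 358 5
 Tr.leaf) 362 4
 Tr.leaf)) 372 5
 (Tr.node (Tr.node (Tr.node Tr.leaf 375 4
 Tr.leaf) 376 5
 Tr.leaf) 379 4
 (Tr.node (Tr.node Tr.leaf 381 4
 Tr.leaf) 385 3
 Tr.leaf))) 386 4
 (Tr.node (Tr.node (Tr.node (Tr.node Tr.leaf 388 4
 Tr.leaf) 392 3
 Tr.leaf) 398 4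
 (Tr.node (Tr.node Tr.leaf 400 2
 Tr.leaf) 403 6
 Tr.leaf)) 406 5
 (Tr.node (Tr.node (Tr.node Tr.leaf 410 5
 Tr.leaf) 415 4
 Tr.leaf) 416 2
 (Tr.node Tr.leaf 421 6
 Tr.leaf))))) 422 5
 (Tr.node (Tr.node (Tr.node (Tr.node (Tr.node (Tr.node Tr.leaf 428 5
 Tr.leaf) 431 4
 Tr.leaf) 439 6
 (Tr.node (Tr.node Tr.leaf 458 5
 Tr.leaf) 460 5
 Tr.leaf)) 465 6
 (Tr.node (Tr.node (Tr.node Tr.leaf 466 4
 Tr.leaf) 468 5
 Tr.leaf) 471 4
 (Tr.node (Tr.node Tr.leaf 472 5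
 Tr.leaf) 475 4
 Tr.leaf))) 477 4
 (Tr.node (Tr.node (Tr.node (Tr.node Tr.leaf 481 6
 Tr.leaf) 482 5
 Tr.leaf) 484 4
 (Tr.node (Tr.node Tr.leaf 487 4
 Tr.leaf) 488 5
 Tr.leaf)) 491 4
 (Tr.node (Tr.node (Tr.node Tr.leaf 493 4
 Tr.leaf) 505 6
 Tr.leaf) 511 8
 (Tr.node Tr.leaf 1033 4
 Tr.leaf)))) 1035 4
 (Tr.node (Tr.node (Tr.node (Tr.node (Tr.node Tr.leaf 1041 4
 Tr.leaf) 1043 4
 Tr.leaf) 1053 6
 (Tr.node (Tr.node Tr.leaf 1057 4
 Tr.leaf) 1059 4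
 Tr.leaf)) 1077 6
 (Tr.node (Tr.node (Tr.node Tr.leaf 1081 6
 Tr.leaf) 1089 4
 Tr.leaf) 1091 4
 (Tr.node Tr.leaf 1101 6
 Tr.leaf))) 1103 6
 (Tr.node (Tr.node (Tr.node (Tr.node Tr.leaf 1111 7
 Tr.leaf) 1115 6
 Tr.leaf) 1127 6
 (Tr.node (Tr.node Tr.leaf 1131 6
 Tr.leaf) 1151 6
 Tr.leaf)) 1153 4
 (Tr.node (Tr.node (Tr.node Tr.leaf 1155 4
 Tr.leaf) 1165 7
 Tr.leaf) 1179 6
 (Tr.node Tr.leaf 1189 7
 Tr.leaf))))))) 1191 6
 (Tr.node (Tr.node (Tr.node (Tr.node (Tr.node (Tr.node (Tr.node (Tr.node Tr.leaf 1195 6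
 Tr.leaf) 1203 6
 Tr.leaf) 1213 6
 (Tr.node (Tr.node Tr.leaf 1215 6
 Tr.leaf) 1223 6
 Tr.leaf)) 1225 6
 (Tr.node (Tr.node (Tr.node Tr.leaf 1233 6
 Tr.leaf) 1245 7
 Tr.leaf) 1247 7
 (Tr.node (Tr.node Tr.leaf 1249 6
 Tr.leaf) 1251 5
 Tr.leaf))) 1263 7
 (Tr.node (Tr.node (Tr.node (Tr.node Tr.leaf 1271 5
 Tr.leaf) 1275 7
 Tr.leaf) 1281 4
 (Tr.node (Tr.node Tr.leaf 1283 4
 Tr.leaf) 1293 6
 Tr.leaf)) 1301 6
 (Tr.node (Tr.node (Tr.node Tr.leaf 1303 7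
 Tr.leaf) 1305 5
 Tr.leaf) 1307 6
 (Tr.node Tr.leaf 1317 5
 Tr.leaf)))) 1319 5
 (Tr.node (Tr.node (Tr.node (Tr.node (Tr.node Tr.leaf 1323 6
 Tr.leaf) 1329 5
 Tr.leaf) 1343 6
 (Tr.node (Tr.node Tr.leaf 1353 6
 Tr.leaf) 1361 6
 Tr.leaf)) 1373 7
 (Tr.node (Tr.node (Tr.node Tr.leaf 1377 6
 Tr.leaf) 1389 7
 Tr.leaf) 1391 7
 (Tr.node (Tr.node Tr.leaf 1415 6
 Tr.leaf) 1425 6
 Tr.leaf))) 1437 5
 (Tr.node (Tr.node (Tr.node (Tr.node Tr.leaf 1443 5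
 Tr.leaf) 1461 5
 Tr.leaf) 1463 5
 (Tr.node (Tr.node Tr.leaf 1465 5
 Tr.leaf) 1475 6
 Tr.leaf)) 1485 6
 (Tr.node (Tr.node (Tr.node Tr.leaf 1493 6
 Tr.leaf) 1495 6
 Tr.leaf) 1497 7
 (Tr.node Tr.leaf 1509 6
 Tr.leaf))))) 1523 5
 (Tr.node (Tr.node (Tr.node (Tr.node (Tr.node (Tr.node Tr.leaf 1533 7
 Tr.leaf) 1535 7
 Tr.leaf) 2057 4
 (Tr.node (Tr.node Tr.leaf 2058 3
 Tr.leaf) 2061 4
 Tr.leaf)) 2062 3
 (Tr.node (Tr.node (Tr.node Tr.leaf 2065 4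
 Tr.leaf) 2066 4
 Tr.leaf) 2069 4
 (Tr.node (Tr.node Tr.leaf 2070 4
 Tr.leaf) 2081 4
 Tr.leaf))) 2082 4
 (Tr.node (Tr.node (Tr.node (Tr.node Tr.leaf 2085 4
 Tr.leaf) 2086 4
 Tr.leaf) 2095 6
 (Tr.node (Tr.node Tr.leaf 2103 6
 Tr.leaf) 2109 6
 Tr.leaf)) 2110 6
 (Tr.node (Tr.node (Tr.node Tr.leaf 2113 4
 Tr.leaf) 2114 3
 Tr.leaf) 2117 4
 (Tr.node Tr.leaf 2118 3
 Tr.leaf)))) 2123 6
 (Tr.node (Tr.node (Tr.node (Tr.node (Tr.node Tr.leaf 2127 6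
 Tr.leaf) 2131 6
 Tr.leaf) 2137 6
 (Tr.node (Tr.node Tr.leaf 2142 6
 Tr.leaf) 2147 7
 Tr.leaf)) 2153 6
 (Tr.node (Tr.node (Tr.node Tr.leaf 2154 6
 Tr.leaf) 2166 6
 Tr.leaf) 2171 6
 (Tr.node Tr.leaf 2177 4
 Tr.leaf))) 2178 4
 (Tr.node (Tr.node (Tr.node (Tr.node Tr.leaf 2181 4
 Tr.leaf) 2182 4
 Tr.leaf) 2191 6
 (Tr.node (Tr.node Tr.leaf 2195 5
 Tr.leaf) 2199 5
 Tr.leaf)) 2201 6
 (Tr.node (Tr.node (Tr.node Tr.leaf 2206 6
 Tr.leaf) 2211 7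
 Tr.leaf) 2215 6
 (Tr.node Tr.leaf 2217 6
 Tr.leaf)))))) 2218 5
 (Tr.node (Tr.node (Tr.node (Tr.node (Tr.node (Tr.node (Tr.node Tr.leaf 2221 5
 Tr.leaf) 2222 5
 Tr.leaf) 2229 5
 (Tr.node (Tr.node Tr.leaf 2235 6
 Tr.leaf) 2250 6
 Tr.leaf)) 2253 6
 (Tr.node (Tr.node (Tr.node Tr.leaf 2258 6
 Tr.leaf) 2261 6
 Tr.leaf) 2267 7
 (Tr.node (Tr.node Tr.leaf 2271 7
 Tr.leaf) 2277 6
 Tr.leaf))) 2287 7
 (Tr.node (Tr.node (Tr.node (Tr.node Tr.leaf 2302 7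
 Tr.leaf) 2305 4
 Tr.leaf) 2306 4
 (Tr.node (Tr.node Tr.leaf 2309 4
 Tr.leaf) 2310 4
 Tr.leaf)) 2319 7
 (Tr.node (Tr.node (Tr.node Tr.leaf 2323 6
 Tr.leaf) 2327 7
 Tr.leaf) 2329 6
 (Tr.node Tr.leaf 2345 6
 Tr.leaf)))) 2346 7
 (Tr.node (Tr.node (Tr.node (Tr.node (Tr.node Tr.leaf 2353 6
 Tr.leaf) 2363 6
 Tr.leaf) 2367 6
 (Tr.node (Tr.node Tr.leaf 2371 6
 Tr.leaf) 2381 6
 Tr.leaf)) 2382 6
 (Tr.node (Tr.node (Tr.node Tr.leaf 2385 5
 Tr.leaf) 2386 6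
 Tr.leaf) 2389 6
 (Tr.node (Tr.node Tr.leaf 2390 5
 Tr.leaf) 2395 7
 Tr.leaf))) 2405 6
 (Tr.node (Tr.node (Tr.node (Tr.node Tr.leaf 2406 7
 Tr.leaf) 2411 7
 Tr.leaf) 2415 7
 (Tr.node (Tr.node Tr.leaf 2419 5
 Tr.leaf) 2425 7
 Tr.leaf)) 2426 7
 (Tr.node (Tr.node (Tr.node Tr.leaf 2435 6
 Tr.leaf) 2442 6
 Tr.leaf) 2449 5
 (Tr.node Tr.leaf 2469 6
 Tr.leaf))))) 2479 5
 (Tr.node (Tr.node (Tr.node (Tr.node (Tr.node (Tr.node Tr.leaf 2483 5
 Tr.leaf) 2487 5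
 Tr.leaf) 2490 6
 (Tr.node (Tr.node Tr.leaf 2493 5
 Tr.leaf) 2494 5
 Tr.leaf)) 2497 6
 (Tr.node (Tr.node (Tr.node Tr.leaf 2498 6
 Tr.leaf) 2511 6
 Tr.leaf) 2519 6
 (Tr.node (Tr.node Tr.leaf 2522 7
 Tr.leaf) 2531 6
 Tr.leaf))) 2535 6
 (Tr.node (Tr.node (Tr.node (Tr.node Tr.leaf 2541 7
 Tr.leaf) 2542 7
 Tr.leaf) 2545 5
 (Tr.node (Tr.node Tr.leaf 2546 5
 Tr.leaf) 2550 6
 Tr.leaf)) 2555 7
 (Tr.node (Tr.node (Tr.node Tr.leaf 2559 7
 Tr.leaf) 3097 6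
 Tr.leaf) 3101 6
 (Tr.node Tr.leaf 3117 6
 Tr.leaf)))) 3119 6
 (Tr.node (Tr.node (Tr.node (Tr.node (Tr.node Tr.leaf 3123 6
 Tr.leaf) 3145 6
 Tr.leaf) 3151 6
 (Tr.node (Tr.node Tr.leaf 3153 6
 Tr.leaf) 3157 7
 Tr.leaf)) 3159 6
 (Tr.node (Tr.node (Tr.node Tr.leaf 3169 6
 Tr.leaf) 3173 7
 Tr.leaf) 3175 6
 (Tr.node Tr.leaf 3193 7
 Tr.leaf))) 3197 7
 (Tr.node (Tr.node (Tr.node (Tr.node Tr.leaf 3199 7
 Tr.leaf) 3209 6
 Tr.leaf) 3211 7
 (Tr.node (Tr.node Tr.leaf 3215 6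
 Tr.leaf) 3217 6
 Tr.leaf)) 3219 6
 (Tr.node (Tr.node (Tr.node Tr.leaf 3221 6
 Tr.leaf) 3223 6
 Tr.leaf) 3233 7
 (Tr.node Tr.leaf 3239 6
 Tr.leaf))))))))

/-- A subtree. -/
def tr1_s1 : Tr := (Tr.node (Tr.node (Tr.node (Tr.node (Tr.node (Tr.node (Tr.node (Tr.node (Tr.node Tr.leaf 3259 7
 Tr.leaf) 3263 6
 Tr.leaf) 3267 6
 (Tr.node (Tr.node Tr.leaf 3271 6
 Tr.leaf) 3289 6
 Tr.leaf)) 3291 7
 (Tr.node (Tr.node (Tr.node Tr.leaf 3293 7
 Tr.leaf) 3295 6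
 Tr.leaf) 3305 7
 (Tr.node (Tr.node Tr.leaf 3311 6
 Tr.leaf) 3313 7
 Tr.leaf))) 3315 7
 (Tr.node (Tr.node (Tr.node (Tr.node Tr.leaf 3337 6
 Tr.leaf) 3339 7
 Tr.leaf) 3343 6
 (Tr.node (Tr.node Tr.leaf 3345 6
 Tr.leaf) 3351 7
 Tr.leaf)) 3361 6
 (Tr.node (Tr.node (Tr.node Tr.leaf 3363 6
 Tr.leaf) 3365 6
 Tr.leaf) 3367 6
 (Tr.node Tr.leaf 3385 6
 Tr.leaf)))) 3387 7
 (Tr.node (Tr.node (Tr.node (Tr.node (Tr.node Tr.leaf 3391 7
 Tr.leaf) 3393 6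
 Tr.leaf) 3395 6
 (Tr.node (Tr.node Tr.leaf 3417 6
 Tr.leaf) 3423 7
 Tr.leaf)) 3433 6
 (Tr.node (Tr.node (Tr.node Tr.leaf 3435 7
 Tr.leaf) 3437 7
 Tr.leaf) 3439 6
 (Tr.node (Tr.node Tr.leaf 3443 7
 Tr.leaf) 3447 7
 Tr.leaf))) 3461 6
 (Tr.node (Tr.node (Tr.node (Tr.node Tr.leaf 3485 7
 Tr.leaf) 3487 7
 Tr.leaf) 3497 7
 (Tr.node (Tr.node Tr.leaf 3501 7
 Tr.leaf) 3529 7
 Tr.leaf)) 3531 7
 (Tr.node (Tr.node (Tr.node Tr.leaf 3535 7
 Tr.leaf) 3537 6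
 Tr.leaf) 3541 7
 (Tr.node Tr.leaf 3543 7
 Tr.leaf))))) 3553 7
 (Tr.node (Tr.node (Tr.node (Tr.node (Tr.node (Tr.node Tr.leaf 3557 7
 Tr.leaf) 3559 6
 Tr.leaf) 4099 4
 (Tr.node (Tr.node Tr.leaf 4101 4
 Tr.leaf) 4102 3
 Tr.leaf)) 4107 4
 (Tr.node (Tr.node (Tr.node Tr.leaf 4109 4
 Tr.leaf) 4110 3
 Tr.leaf) 4113 4
 (Tr.node (Tr.node Tr.leaf 4114 4
 Tr.leaf) 4116 4
 Tr.leaf))) 4119 6
 (Tr.node (Tr.node (Tr.node (Tr.node Tr.leaf 4121 4
 Tr.leaf) 4122 4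
 Tr.leaf) 4124 4
 (Tr.node (Tr.node Tr.leaf 4129 4
 Tr.leaf) 4130 4
 Tr.leaf)) 4132 4
 (Tr.node (Tr.node (Tr.node Tr.leaf 4137 4
 Tr.leaf) 4138 4
 Tr.leaf) 4140 4
 (Tr.node Tr.leaf 4143 6
 Tr.leaf)))) 4147 6
 (Tr.node (Tr.node (Tr.node (Tr.node (Tr.node Tr.leaf 4157 6
 Tr.leaf) 4162 3
 Tr.leaf) 4164 3
 (Tr.node (Tr.node Tr.leaf 4167 6
 Tr.leaf) 4170 3
 Tr.leaf)) 4172 3
 (Tr.node (Tr.node (Tr.node Tr.leaf 4175 6
 Tr.leaf) 4181 7
 Tr.leaf) 4182 6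
 (Tr.node Tr.leaf 4187 6
 Tr.leaf))) 4197 6
 (Tr.node (Tr.node (Tr.node (Tr.node Tr.leaf 4203 7
 Tr.leaf) 4206 6
 Tr.leaf) 4210 7
 (Tr.node (Tr.node Tr.leaf 4215 7
 Tr.leaf) 4220 7
 Tr.leaf)) 4223 7
 (Tr.node (Tr.node (Tr.node Tr.leaf 4225 4
 Tr.leaf) 4226 4
 Tr.leaf) 4231 6
 (Tr.node Tr.leaf 4233 4
 Tr.leaf)))))) 4234 4
 (Tr.node (Tr.node (Tr.node (Tr.node (Tr.node (Tr.node (Tr.node Tr.leaf 4251 6
 Tr.leaf) 4254 7
 Tr.leaf) 4259 6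
 (Tr.node (Tr.node Tr.leaf 4261 5
 Tr.leaf) 4269 6
 Tr.leaf)) 4273 6
 (Tr.node (Tr.node (Tr.node Tr.leaf 4274 6
 Tr.leaf) 4276 6
 Tr.leaf) 4279 7
 (Tr.node (Tr.node Tr.leaf 4293 6
 Tr.leaf) 4302 6
 Tr.leaf))) 4311 6
 (Tr.node (Tr.node (Tr.node (Tr.node Tr.leaf 4313 6
 Tr.leaf) 4314 6
 Tr.leaf) 4316 6
 (Tr.node (Tr.node Tr.leaf 4321 6
 Tr.leaf) 4324 6
 Tr.leaf)) 4327 7
 (Tr.node (Tr.node (Tr.node Tr.leaf 4329 7
 Tr.leaf) 4332 5
 Tr.leaf) 4339 6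
 (Tr.node Tr.leaf 4341 5
 Tr.leaf)))) 4342 7
 (Tr.node (Tr.node (Tr.node (Tr.node (Tr.node Tr.leaf 4347 6
 Tr.leaf) 4353 4
 Tr.leaf) 4356 4
 (Tr.node (Tr.node Tr.leaf 4361 4
 Tr.leaf) 4364 4
 Tr.leaf)) 4367 6
 (Tr.node (Tr.node (Tr.node Tr.leaf 4371 6
 Tr.leaf) 4379 5
 Tr.leaf) 4381 6
 (Tr.node (Tr.node Tr.leaf 4389 6
 Tr.leaf) 4390 7
 Tr.leaf))) 4409 6
 (Tr.node (Tr.node (Tr.node (Tr.node Tr.leaf 4410 6
 Tr.leaf) 4412 6
 Tr.leaf) 4415 7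
 (Tr.node (Tr.node Tr.leaf 4422 6
 Tr.leaf) 4427 6
 Tr.leaf)) 4433 7
 (Tr.node (Tr.node (Tr.node Tr.leaf 4434 5
 Tr.leaf) 4441 6
 Tr.leaf) 4442 5
 (Tr.node Tr.leaf 4447 7
 Tr.leaf))))) 4449 6
 (Tr.node (Tr.node (Tr.node (Tr.node (Tr.node (Tr.node Tr.leaf 4450 6
 Tr.leaf) 4452 6
 Tr.leaf) 4463 6
 (Tr.node (Tr.node Tr.leaf 4469 6
 Tr.leaf) 4475 5
 Tr.leaf)) 4477 6
 (Tr.node (Tr.node (Tr.node Tr.leaf 4478 7
 Tr.leaf) 4483 6
 Tr.leaf) 4486 5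
 (Tr.node (Tr.node Tr.leaf 4493 6
 Tr.leaf) 4494 6
 Tr.leaf))) 4505 5
 (Tr.node (Tr.node (Tr.node (Tr.node Tr.leaf 4506 6
 Tr.leaf) 4508 5
 Tr.leaf) 4513 5
 (Tr.node (Tr.node Tr.leaf 4514 5
 Tr.leaf) 4516 6
 Tr.leaf)) 4533 5
 (Tr.node (Tr.node (Tr.node Tr.leaf 4539 5
 Tr.leaf) 4545 5
 Tr.leaf) 4548 6
 (Tr.node Tr.leaf 4551 7
 Tr.leaf)))) 4553 5
 (Tr.node (Tr.node (Tr.node (Tr.node (Tr.node Tr.leaf 4554 6
 Tr.leaf) 4559 7
 Tr.leaf) 4563 6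
 (Tr.node (Tr.node Tr.leaf 4574 7
 Tr.leaf) 4582 7
 Tr.leaf)) 4589 6
 (Tr.node (Tr.node (Tr.node Tr.leaf 4593 5
 Tr.leaf) 4594 6
 Tr.leaf) 4596 5
 (Tr.node Tr.leaf 4599 7
 Tr.leaf))) 4601 5
 (Tr.node (Tr.node (Tr.node (Tr.node Tr.leaf 4602 5
 Tr.leaf) 4604 6
 Tr.leaf) 4607 7
 (Tr.node (Tr.node Tr.leaf 5121 4
 Tr.leaf) 5123 4
 Tr.leaf)) 5129 4
 (Tr.node (Tr.node (Tr.node Tr.leaf 5131 4
 Tr.leaf) 5151 6
 Tr.leaf) 5165 6
 (Tr.node Tr.leaf 5167 6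
 Tr.leaf))))))) 5179 6
 (Tr.node (Tr.node (Tr.node (Tr.node (Tr.node (Tr.node (Tr.node (Tr.node Tr.leaf 5191 5
 Tr.leaf) 5197 5
 Tr.leaf) 5201 6
 (Tr.node (Tr.node Tr.leaf 5217 7
 Tr.leaf) 5219 6
 Tr.leaf)) 5225 6
 (Tr.node (Tr.node (Tr.node Tr.leaf 5239 5
 Tr.leaf) 5247 7
 Tr.leaf) 5255 6
 (Tr.node (Tr.node Tr.leaf 5261 6
 Tr.leaf) 5263 7
 Tr.leaf))) 5265 6
 (Tr.node (Tr.node (Tr.node (Tr.node Tr.leaf 5289 6
 Tr.leaf) 5301 7
 Tr.leaf) 5313 6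
 (Tr.node (Tr.node Tr.leaf 5321 6
 Tr.leaf) 5333 7
 Tr.leaf)) 5335 5
 (Tr.node (Tr.node (Tr.node Tr.leaf 5357 6
 Tr.leaf) 5371 7
 Tr.leaf) 5381 7
 (Tr.node Tr.leaf 5383 6
 Tr.leaf)))) 5391 7
 (Tr.node (Tr.node (Tr.node (Tr.node (Tr.node Tr.leaf 5393 6
 Tr.leaf) 5403 6
 Tr.leaf) 5411 6
 (Tr.node (Tr.node Tr.leaf 5419 6
 Tr.leaf) 5429 7
 Tr.leaf)) 5431 5
 (Tr.node (Tr.node (Tr.node Tr.leaf 5441 7
 Tr.leaf) 5443 6
 Tr.leaf) 5451 7
 (Tr.node (Tr.node Tr.leaf 5461 6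
 Tr.leaf) 5471 6
 Tr.leaf))) 5487 6
 (Tr.node (Tr.node (Tr.node (Tr.node Tr.leaf 5491 5
 Tr.leaf) 5497 7
 Tr.leaf) 5499 6
 (Tr.node (Tr.node Tr.leaf 5505 6
 Tr.leaf) 5507 6
 Tr.leaf)) 5525 6
 (Tr.node (Tr.node (Tr.node Tr.leaf 5527 5
 Tr.leaf) 5533 7
 Tr.leaf) 5541 7
 (Tr.node Tr.leaf 5549 6
 Tr.leaf))))) 5551 7
 (Tr.node (Tr.node (Tr.node (Tr.node (Tr.node (Tr.node Tr.leaf 5553 7
 Tr.leaf) 5555 7
 Tr.leaf) 5563 7
 (Tr.node (Tr.node Tr.leaf 5573 6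
 Tr.leaf) 5587 5
 Tr.leaf)) 5595 7
 (Tr.node (Tr.node (Tr.node Tr.leaf 5601 7
 Tr.leaf) 5609 6
 Tr.leaf) 5611 7
 (Tr.node (Tr.node Tr.leaf 5621 7
 Tr.leaf) 5623 7
 Tr.leaf))) 5631 7
 (Tr.node (Tr.node (Tr.node (Tr.node Tr.leaf 6145 4
 Tr.leaf) 6146 3
 Tr.leaf) 6149 4
 (Tr.node (Tr.node Tr.leaf 6150 3
 Tr.leaf) 6153 4
 Tr.leaf)) 6154 3
 (Tr.node (Tr.node (Tr.node Tr.leaf 6157 4
 Tr.leaf) 6158 3
 Tr.leaf) 6163 6
 (Tr.node Tr.leaf 6167 6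
 Tr.leaf)))) 6179 6
 (Tr.node (Tr.node (Tr.node (Tr.node (Tr.node Tr.leaf 6193 6
 Tr.leaf) 6198 6
 Tr.leaf) 6206 6
 (Tr.node (Tr.node Tr.leaf 6215 5
 Tr.leaf) 6219 5
 Tr.leaf)) 6229 6
 (Tr.node (Tr.node (Tr.node Tr.leaf 6233 6
 Tr.leaf) 6234 6
 Tr.leaf) 6237 7
 (Tr.node Tr.leaf 6246 6
 Tr.leaf))) 6253 6
 (Tr.node (Tr.node (Tr.node (Tr.node Tr.leaf 6259 7
 Tr.leaf) 6267 5
 Tr.leaf) 6275 7
 (Tr.node (Tr.node Tr.leaf 6283 6
 Tr.leaf) 6287 7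
 Tr.leaf)) 6289 6
 (Tr.node (Tr.node (Tr.node Tr.leaf 6290 7
 Tr.leaf) 6294 6
 Tr.leaf) 6297 6
 (Tr.node Tr.leaf 6298 6
 Tr.leaf)))))) 6305 6
 (Tr.node (Tr.node (Tr.node (Tr.node (Tr.node (Tr.node (Tr.node Tr.leaf 6317 6
 Tr.leaf) 6331 5
 Tr.leaf) 6335 7
 (Tr.node (Tr.node Tr.leaf 6337 7
 Tr.leaf) 6342 6
 Tr.leaf)) 6345 6
 (Tr.node (Tr.node (Tr.node Tr.leaf 6349 7
 Tr.leaf) 6355 6
 Tr.leaf) 6371 6
 (Tr.node (Tr.node Tr.leaf 6383 6
 Tr.leaf) 6385 6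
 Tr.leaf))) 6389 7
 (Tr.node (Tr.node (Tr.node (Tr.node Tr.leaf 6390 5
 Tr.leaf) 6393 5
 Tr.leaf) 6394 4
 (Tr.node (Tr.node Tr.leaf 6403 7
 Tr.leaf) 6407 6
 Tr.leaf)) 6411 6
 (Tr.node (Tr.node (Tr.node Tr.leaf 6418 6
 Tr.leaf) 6421 6
 Tr.leaf) 6430 5
 (Tr.node Tr.leaf 6438 6
 Tr.leaf)))) 6442 6
 (Tr.node (Tr.node (Tr.node (Tr.node (Tr.node Tr.leaf 6445 6
 Tr.leaf) 6446 7
 Tr.leaf) 6463 7
 (Tr.node (Tr.node Tr.leaf 6469 6
 Tr.leaf) 6474 6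
 Tr.leaf)) 6477 6
 (Tr.node (Tr.node (Tr.node Tr.leaf 6487 6
 Tr.leaf) 6507 5
 Tr.leaf) 6511 7
 (Tr.node Tr.leaf 6513 7
 Tr.leaf))) 6518 5
 (Tr.node (Tr.node (Tr.node (Tr.node Tr.leaf 6522 5
 Tr.leaf) 6530 6
 Tr.leaf) 6537 6
 (Tr.node (Tr.node Tr.leaf 6538 5
 Tr.leaf) 6541 6
 Tr.leaf)) 6547 7
 (Tr.node (Tr.node (Tr.node Tr.leaf 6551 6
 Tr.leaf) 6559 7
 Tr.leaf) 6567 7
 (Tr.node Tr.leaf 6571 5
 Tr.leaf))))) 6575 6
 (Tr.node (Tr.node (Tr.node (Tr.node (Tr.node (Tr.node Tr.leaf 6577 7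
 Tr.leaf) 6578 6
 Tr.leaf) 6585 7
 (Tr.node (Tr.node Tr.leaf 6589 7
 Tr.leaf) 6590 6
 Tr.leaf)) 6607 6
 (Tr.node (Tr.node (Tr.node Tr.leaf 6609 7
 Tr.leaf) 6613 6
 Tr.leaf) 6621 7
 (Tr.node (Tr.node Tr.leaf 6625 7
 Tr.leaf) 6630 5
 Tr.leaf))) 6633 5
 (Tr.node (Tr.node (Tr.node (Tr.node Tr.leaf 6634 4
 Tr.leaf) 6643 7
 Tr.leaf) 6651 7
 (Tr.node (Tr.node Tr.leaf 6655 7
 Tr.leaf) 7195 6
 Tr.leaf)) 7199 6
 (Tr.node (Tr.node (Tr.node Tr.leaf 7201 6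
 Tr.leaf) 7203 6
 Tr.leaf) 7233 6
 (Tr.node Tr.leaf 7235 5
 Tr.leaf)))) 7237 5
 (Tr.node (Tr.node (Tr.node (Tr.node (Tr.node Tr.leaf 7243 5
 Tr.leaf) 7245 5
 Tr.leaf) 7247 6
 (Tr.node (Tr.node Tr.leaf 7281 7
 Tr.leaf) 7285 6
 Tr.leaf)) 7293 6
 (Tr.node (Tr.node (Tr.node Tr.leaf 7295 7
 Tr.leaf) 7297 7
 Tr.leaf) 7301 7
 (Tr.node Tr.leaf 7303 7
 Tr.leaf))) 7307 7
 (Tr.node (Tr.node (Tr.node (Tr.node Tr.leaf 7309 6
 Tr.leaf) 7345 5
 Tr.leaf) 7351 6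
 (Tr.node (Tr.node Tr.leaf 7357 6
 Tr.leaf) 7359 5
 Tr.leaf)) 7383 6
 (Tr.node (Tr.node (Tr.node Tr.leaf 7387 7
 Tr.leaf) 7391 6
 Tr.leaf) 7395 6
 (Tr.node Tr.leaf 7397 7
 Tr.leaf))))))))

/-- A subtree. -/
def tr1_s2 : Tr := (Tr.node (Tr.node (Tr.node (Tr.node (Tr.node (Tr.node (Tr.node (Tr.node (Tr.node Tr.leaf 7401 6
 Tr.leaf) 7405 7
 Tr.leaf) 7407 6
 (Tr.node (Tr.node Tr.leaf 7427 7
 Tr.leaf) 7429 6
 Tr.leaf)) 7433 7
 (Tr.node (Tr.node (Tr.node Tr.leaf 7437 7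
 Tr.leaf) 7439 7
 Tr.leaf) 7473 5
 (Tr.node (Tr.node Tr.leaf 7477 6
 Tr.leaf) 7481 6
 Tr.leaf))) 7487 5
 (Tr.node (Tr.node (Tr.node (Tr.node Tr.leaf 7505 6
 Tr.leaf) 7509 7
 Tr.leaf) 7511 6
 (Tr.node (Tr.node Tr.leaf 7513 6
 Tr.leaf) 7515 6
 Tr.leaf)) 7517 7
 (Tr.node (Tr.node (Tr.node Tr.leaf 7521 6
 Tr.leaf) 7523 7
 Tr.leaf) 7529 6
 (Tr.node Tr.leaf 7569 5
 Tr.leaf)))) 7573 7
 (Tr.node (Tr.node (Tr.node (Tr.node (Tr.node Tr.leaf 7575 7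
 Tr.leaf) 7581 7
 Tr.leaf) 7583 5
 (Tr.node (Tr.node Tr.leaf 7585 5
 Tr.leaf) 7589 7
 Tr.leaf)) 7593 7
 (Tr.node (Tr.node (Tr.node Tr.leaf 7597 7
 Tr.leaf) 7599 5
 Tr.leaf) 7617 7
 (Tr.node (Tr.node Tr.leaf 7621 7
 Tr.leaf) 7623 6
 Tr.leaf))) 7625 6
 (Tr.node (Tr.node (Tr.node (Tr.node Tr.leaf 7629 7
 Tr.leaf) 7631 7
 Tr.leaf) 7665 8
 (Tr.node (Tr.node Tr.leaf 7667 6
 Tr.leaf) 7671 6
 Tr.leaf)) 7673 6
 (Tr.node (Tr.node (Tr.node Tr.leaf 7675 6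
 Tr.leaf) 7679 8
 Tr.leaf) 8195 4
 (Tr.node Tr.leaf 8197 4
 Tr.leaf))))) 8198 4
 (Tr.node (Tr.node (Tr.node (Tr.node (Tr.node (Tr.node Tr.leaf 8201 4
 Tr.leaf) 8202 4
 Tr.leaf) 8204 4
 (Tr.node (Tr.node Tr.leaf 8211 4
 Tr.leaf) 8213 4
 Tr.leaf)) 8214 3
 (Tr.node (Tr.node (Tr.node Tr.leaf 8217 4
 Tr.leaf) 8218 4
 Tr.leaf) 8220 4
 (Tr.node (Tr.node Tr.leaf 8223 5
 Tr.leaf) 8225 4
 Tr.leaf))) 8226 4
 (Tr.node (Tr.node (Tr.node (Tr.node Tr.leaf 8228 4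
 Tr.leaf) 8241 4
 Tr.leaf) 8242 4
 (Tr.node (Tr.node Tr.leaf 8244 4
 Tr.leaf) 8247 6
 Tr.leaf)) 8251 6
 (Tr.node (Tr.node (Tr.node Tr.leaf 8254 5
 Tr.leaf) 8257 4
 Tr.leaf) 8258 4
 (Tr.node Tr.leaf 8264 3
 Tr.leaf)))) 8267 5
 (Tr.node (Tr.node (Tr.node (Tr.node (Tr.node Tr.leaf 8269 6
 Tr.leaf) 8273 4
 Tr.leaf) 8274 4
 (Tr.node (Tr.node Tr.leaf 8279 6
 Tr.leaf) 8280 4
 Tr.leaf)) 8291 6
 (Tr.node (Tr.node (Tr.node Tr.leaf 8297 5
 Tr.leaf) 8298 6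
 Tr.leaf) 8300 6
 (Tr.node Tr.leaf 8303 5
 Tr.leaf))) 8309 6
 (Tr.node (Tr.node (Tr.node (Tr.node Tr.leaf 8310 6
 Tr.leaf) 8313 6
 Tr.leaf) 8321 4
 (Tr.node (Tr.node Tr.leaf 8324 4
 Tr.leaf) 8327 6
 Tr.leaf)) 8328 4
 (Tr.node (Tr.node (Tr.node Tr.leaf 8331 6
 Tr.leaf) 8337 4
 Tr.leaf) 8340 4
 (Tr.node Tr.leaf 8343 5
 Tr.leaf)))))) 8344 4
 (Tr.node (Tr.node (Tr.node (Tr.node (Tr.node (Tr.node (Tr.node Tr.leaf 8349 6
 Tr.leaf) 8350 6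
 Tr.leaf) 8357 6
 (Tr.node (Tr.node Tr.leaf 8361 6
 Tr.leaf) 8362 6
 Tr.leaf)) 8371 6
 (Tr.node (Tr.node (Tr.node Tr.leaf 8378 5
 Tr.leaf) 8380 7
 Tr.leaf) 8389 6
 (Tr.node (Tr.node Tr.leaf 8393 6
 Tr.leaf) 8394 5
 Tr.leaf))) 8396 6
 (Tr.node (Tr.node (Tr.node (Tr.node Tr.leaf 8406 6
 Tr.leaf) 8415 5
 Tr.leaf) 8418 7
 (Tr.node (Tr.node Tr.leaf 8429 7
 Tr.leaf) 8433 6
 Tr.leaf)) 8439 7
 (Tr.node (Tr.node (Tr.node Tr.leaf 8450 4
 Tr.leaf) 8452 4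
 Tr.leaf) 8455 7
 (Tr.node Tr.leaf 8456 4
 Tr.leaf)))) 8459 5
 (Tr.node (Tr.node (Tr.node (Tr.node (Tr.node Tr.leaf 8466 4
 Tr.leaf) 8468 4
 Tr.leaf) 8471 6
 (Tr.node (Tr.node Tr.leaf 8472 4
 Tr.leaf) 8475 5
 Tr.leaf)) 8477 6
 (Tr.node (Tr.node (Tr.node Tr.leaf 8485 7
 Tr.leaf) 8489 6
 Tr.leaf) 8490 6
 (Tr.node (Tr.node Tr.leaf 8508 6
 Tr.leaf) 8515 6
 Tr.leaf))) 8521 6
 (Tr.node (Tr.node (Tr.node (Tr.node Tr.leaf 8527 5
 Tr.leaf) 8537 7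
 Tr.leaf) 8543 5
 (Tr.node (Tr.node Tr.leaf 8545 6
 Tr.leaf) 8546 6
 Tr.leaf)) 8551 6
 (Tr.node (Tr.node (Tr.node Tr.leaf 8552 5
 Tr.leaf) 8557 5
 Tr.leaf) 8558 5
 (Tr.node Tr.leaf 8564 7
 Tr.leaf))))) 8567 6
 (Tr.node (Tr.node (Tr.node (Tr.node (Tr.node (Tr.node Tr.leaf 8568 5
 Tr.leaf) 8571 6
 Tr.leaf) 8574 6
 (Tr.node (Tr.node Tr.leaf 8582 5
 Tr.leaf) 8591 6
 Tr.leaf)) 8595 6
 (Tr.node (Tr.node (Tr.node Tr.leaf 8597 6
 Tr.leaf) 8598 6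
 Tr.leaf) 8602 6
 (Tr.node (Tr.node Tr.leaf 8604 6
 Tr.leaf) 8609 6
 Tr.leaf))) 8610 6
 (Tr.node (Tr.node (Tr.node (Tr.node Tr.leaf 8612 6
 Tr.leaf) 8619 7
 Tr.leaf) 8621 6
 (Tr.node (Tr.node Tr.leaf 8625 6
 Tr.leaf) 8631 7
 Tr.leaf)) 8632 6
 (Tr.node (Tr.node (Tr.node Tr.leaf 8635 7
 Tr.leaf) 8638 7
 Tr.leaf) 8642 6
 (Tr.node Tr.leaf 8644 7
 Tr.leaf)))) 8653 6
 (Tr.node (Tr.node (Tr.node (Tr.node (Tr.node Tr.leaf 8654 6
 Tr.leaf) 8657 7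
 Tr.leaf) 8663 5
 (Tr.node (Tr.node Tr.leaf 8669 6
 Tr.leaf) 8670 5
 Tr.leaf)) 8677 7
 (Tr.node (Tr.node (Tr.node Tr.leaf 8681 7
 Tr.leaf) 8682 7
 Tr.leaf) 8684 7
 (Tr.node Tr.leaf 8687 7
 Tr.leaf))) 8691 6
 (Tr.node (Tr.node (Tr.node (Tr.node Tr.leaf 8693 7
 Tr.leaf) 8694 7
 Tr.leaf) 8703 7
 (Tr.node (Tr.node Tr.leaf 9217 4
 Tr.leaf) 9219 4
 Tr.leaf)) 9231 6
 (Tr.node (Tr.node (Tr.node Tr.leaf 9233 4
 Tr.leaf) 9235 4
 Tr.leaf) 9255 5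
 (Tr.node Tr.leaf 9259 5
 Tr.leaf))))))) 9285 7
 (Tr.node (Tr.node (Tr.node (Tr.node (Tr.node (Tr.node (Tr.node (Tr.node Tr.leaf 9287 6
 Tr.leaf) 9301 7
 Tr.leaf) 9305 6
 (Tr.node (Tr.node Tr.leaf 9313 6
 Tr.leaf) 9315 5
 Tr.leaf)) 9325 7
 (Tr.node (Tr.node (Tr.node Tr.leaf 9343 7
 Tr.leaf) 9349 6
 Tr.leaf) 9351 6
 (Tr.node (Tr.node Tr.leaf 9365 6
 Tr.leaf) 9367 6
 Tr.leaf))) 9369 6
 (Tr.node (Tr.node (Tr.node (Tr.node Tr.leaf 9377 7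
 Tr.leaf) 9379 6
 Tr.leaf) 9389 6
 (Tr.node (Tr.node Tr.leaf 9393 7
 Tr.leaf) 9405 6
 Tr.leaf)) 9409 6
 (Tr.node (Tr.node (Tr.node Tr.leaf 9423 6
 Tr.leaf) 9425 6
 Tr.leaf) 9445 6
 (Tr.node Tr.leaf 9447 6
 Tr.leaf)))) 9451 6
 (Tr.node (Tr.node (Tr.node (Tr.node (Tr.node Tr.leaf 9461 7
 Tr.leaf) 9463 6
 Tr.leaf) 9467 7
 (Tr.node (Tr.node Tr.leaf 9477 7
 Tr.leaf) 9483 6
 Tr.leaf)) 9495 7
 (Tr.node (Tr.node (Tr.node Tr.leaf 9497 6
 Tr.leaf) 9505 6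
 Tr.leaf) 9517 6
 (Tr.node (Tr.node Tr.leaf 9521 6
 Tr.leaf) 9533 6
 Tr.leaf))) 9555 6
 (Tr.node (Tr.node (Tr.node (Tr.node Tr.leaf 9565 6
 Tr.leaf) 9575 7
 Tr.leaf) 9579 6
 (Tr.node (Tr.node Tr.leaf 9591 6
 Tr.leaf) 9593 6
 Tr.leaf)) 9595 6
 (Tr.node (Tr.node (Tr.node Tr.leaf 9601 7
 Tr.leaf) 9603 6
 Tr.leaf) 9615 7
 (Tr.node Tr.leaf 9619 7
 Tr.leaf))))) 9639 6
 (Tr.node (Tr.node (Tr.node (Tr.node (Tr.node (Tr.node Tr.leaf 9641 6
 Tr.leaf) 9653 6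
 Tr.leaf) 9655 6
 (Tr.node (Tr.node Tr.leaf 9669 6
 Tr.leaf) 9673 7
 Tr.leaf)) 9675 7
 (Tr.node (Tr.node (Tr.node Tr.leaf 9691 6
 Tr.leaf) 9699 6
 Tr.leaf) 9709 7
 (Tr.node (Tr.node Tr.leaf 9711 7
 Tr.leaf) 9713 7
 Tr.leaf))) 9715 6
 (Tr.node (Tr.node (Tr.node (Tr.node Tr.leaf 10241 4
 Tr.leaf) 10242 4
 Tr.leaf) 10245 4
 (Tr.node (Tr.node Tr.leaf 10246 4
 Tr.leaf) 10257 4
 Tr.leaf)) 10258 4
 (Tr.node (Tr.node (Tr.node Tr.leaf 10261 4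
 Tr.leaf) 10262 4
 Tr.leaf) 10267 6
 (Tr.node Tr.leaf 10271 6
 Tr.leaf)))) 10275 6
 (Tr.node (Tr.node (Tr.node (Tr.node (Tr.node Tr.leaf 10282 6
 Tr.leaf) 10285 5
 Tr.leaf) 10301 6
 (Tr.node (Tr.node Tr.leaf 10307 7
 Tr.leaf) 10311 6
 Tr.leaf)) 10317 6
 (Tr.node (Tr.node (Tr.node Tr.leaf 10318 5
 Tr.leaf) 10327 7
 Tr.leaf) 10329 7
 (Tr.node Tr.leaf 10333 7
 Tr.leaf))) 10334 6
 (Tr.node (Tr.node (Tr.node (Tr.node Tr.leaf 10338 6
 Tr.leaf) 10342 5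
 Tr.leaf) 10347 6
 (Tr.node (Tr.node Tr.leaf 10351 6
 Tr.leaf) 10353 6
 Tr.leaf)) 10354 5
 (Tr.node (Tr.node (Tr.node Tr.leaf 10357 6
 Tr.leaf) 10363 7
 Tr.leaf) 10375 6
 (Tr.node Tr.leaf 10378 7
 Tr.leaf)))))) 10381 5
 (Tr.node (Tr.node (Tr.node (Tr.node (Tr.node (Tr.node (Tr.node Tr.leaf 10382 6
 Tr.leaf) 10387 6
 Tr.leaf) 10394 6
 (Tr.node (Tr.node Tr.leaf 10406 5
 Tr.leaf) 10411 6
 Tr.leaf)) 10415 6
 (Tr.node (Tr.node (Tr.node Tr.leaf 10417 6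
 Tr.leaf) 10418 5
 Tr.leaf) 10427 6
 (Tr.node (Tr.node Tr.leaf 10434 6
 Tr.leaf) 10438 6
 Tr.leaf))) 10449 6
 (Tr.node (Tr.node (Tr.node (Tr.node Tr.leaf 10454 6
 Tr.leaf) 10463 6
 Tr.leaf) 10467 6
 (Tr.node (Tr.node Tr.leaf 10471 7
 Tr.leaf) 10473 7
 Tr.leaf)) 10477 6
 (Tr.node (Tr.node (Tr.node Tr.leaf 10478 6
 Tr.leaf) 10487 7
 Tr.leaf) 10499 7
 (Tr.node Tr.leaf 10506 5
 Tr.leaf)))) 10509 5
 (Tr.node (Tr.node (Tr.node (Tr.node (Tr.node Tr.leaf 10519 7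
 Tr.leaf) 10526 5
 Tr.leaf) 10533 6
 (Tr.node (Tr.node Tr.leaf 10534 6
 Tr.leaf) 10539 6
 Tr.leaf)) 10543 7
 (Tr.node (Tr.node (Tr.node Tr.leaf 10545 7
 Tr.leaf) 10546 5
 Tr.leaf) 10549 7
 (Tr.node (Tr.node Tr.leaf 10561 6
 Tr.leaf) 10565 6
 Tr.leaf))) 10571 6
 (Tr.node (Tr.node (Tr.node (Tr.node Tr.leaf 10575 6
 Tr.leaf) 10577 6
 Tr.leaf) 10581 6
 (Tr.node (Tr.node Tr.leaf 10587 6
 Tr.leaf) 10601 6
 Tr.leaf)) 10602 6
 (Tr.node (Tr.node (Tr.node Tr.leaf 10605 6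
 Tr.leaf) 10606 6
 Tr.leaf) 10615 6
 (Tr.node Tr.leaf 10617 7
 Tr.leaf))))) 10621 6
 (Tr.node (Tr.node (Tr.node (Tr.node (Tr.node (Tr.node Tr.leaf 10629 6
 Tr.leaf) 10651 6
 Tr.leaf) 10655 6
 (Tr.node (Tr.node Tr.leaf 10665 7
 Tr.leaf) 10666 6
 Tr.leaf)) 10675 6
 (Tr.node (Tr.node (Tr.node Tr.leaf 10682 6
 Tr.leaf) 10685 7
 Tr.leaf) 10695 7
 (Tr.node (Tr.node Tr.leaf 10698 6
 Tr.leaf) 10702 6
 Tr.leaf))) 10713 6
 (Tr.node (Tr.node (Tr.node (Tr.node Tr.leaf 10714 5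
 Tr.leaf) 10717 6
 Tr.leaf) 10718 6
 (Tr.node (Tr.node Tr.leaf 10722 6
 Tr.leaf) 10725 6
 Tr.leaf)) 10735 7
 (Tr.node (Tr.node (Tr.node Tr.leaf 10742 5
 Tr.leaf) 10751 7
 Tr.leaf) 11275 6
 (Tr.node Tr.leaf 11279 5
 Tr.leaf)))) 11301 6
 (Tr.node (Tr.node (Tr.node (Tr.node (Tr.node Tr.leaf 11313 6
 Tr.leaf) 11319 6
 Tr.leaf) 11331 7
 (Tr.node (Tr.node Tr.leaf 11333 7
 Tr.leaf) 11345 7
 Tr.leaf)) 11347 7
 (Tr.node (Tr.node (Tr.node Tr.leaf 11351 7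
 Tr.leaf) 11371 7
 Tr.leaf) 11385 7
 (Tr.node Tr.leaf 11387 6
 Tr.leaf))) 11389 7
 (Tr.node (Tr.node (Tr.node (Tr.node Tr.leaf 11397 6
 Tr.leaf) 11399 6
 Tr.leaf) 11409 6
 (Tr.node (Tr.node Tr.leaf 11411 6
 Tr.leaf) 11435 7
 Tr.leaf)) 11449 6
 (Tr.node (Tr.node (Tr.node Tr.leaf 11451 6
 Tr.leaf) 11471 6
 Tr.leaf) 11483 6
 (Tr.node Tr.leaf 11485 7
 Tr.leaf))))))))

/-- A subtree. -/
def tr1_s3 : Tr := (Tr.node (Tr.node (Tr.node (Tr.node (Tr.node (Tr.node (Tr.node (Tr.node (Tr.node Tr.leaf 11489 6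
 Tr.leaf) 11493 7
 Tr.leaf) 11495 7
 (Tr.node (Tr.node Tr.leaf 11523 7
 Tr.leaf) 11525 7
 Tr.leaf)) 11527 6
 (Tr.node (Tr.node (Tr.node Tr.leaf 11537 7
 Tr.leaf) 11539 7
 Tr.leaf) 11541 7
 (Tr.node (Tr.node Tr.leaf 11563 6
 Tr.leaf) 11577 6
 Tr.leaf))) 11579 6
 (Tr.node (Tr.node (Tr.node (Tr.node Tr.leaf 11581 6
 Tr.leaf) 11597 6
 Tr.leaf) 11599 6
 (Tr.node (Tr.node Tr.leaf 11611 6
 Tr.leaf) 11615 7
 Tr.leaf)) 11619 6
 (Tr.node (Tr.node (Tr.node Tr.leaf 11623 7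
 Tr.leaf) 11633 7
 Tr.leaf) 11635 7
 (Tr.node Tr.leaf 11637 6
 Tr.leaf)))) 11639 7
 (Tr.node (Tr.node (Tr.node (Tr.node (Tr.node Tr.leaf 11657 5
 Tr.leaf) 11659 6
 Tr.leaf) 11673 7
 (Tr.node (Tr.node Tr.leaf 11679 6
 Tr.leaf) 11685 7
 Tr.leaf)) 11697 6
 (Tr.node (Tr.node (Tr.node Tr.leaf 11699 6
 Tr.leaf) 11701 6
 Tr.leaf) 11703 7
 (Tr.node (Tr.node Tr.leaf 11717 7
 Tr.leaf) 11719 6
 Tr.leaf))) 11729 6
 (Tr.node (Tr.node (Tr.node (Tr.node Tr.leaf 11733 7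
 Tr.leaf) 11735 7
 Tr.leaf) 11771 7
 (Tr.node (Tr.node Tr.leaf 11775 8
 Tr.leaf) 12289 4
 Tr.leaf)) 12290 4
 (Tr.node (Tr.node (Tr.node Tr.leaf 12292 4
 Tr.leaf) 12297 4
 Tr.leaf) 12298 4
 (Tr.node Tr.leaf 12300 4
 Tr.leaf))))) 12303 6
 (Tr.node (Tr.node (Tr.node (Tr.node (Tr.node (Tr.node Tr.leaf 12305 4
 Tr.leaf) 12306 4
 Tr.leaf) 12308 3
 (Tr.node (Tr.node Tr.leaf 12313 4
 Tr.leaf) 12314 4
 Tr.leaf)) 12316 4
 (Tr.node (Tr.node (Tr.node Tr.leaf 12331 6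
 Tr.leaf) 12333 6
 Tr.leaf) 12342 6
 (Tr.node (Tr.node Tr.leaf 12349 6
 Tr.leaf) 12350 6
 Tr.leaf))) 12358 6
 (Tr.node (Tr.node (Tr.node (Tr.node Tr.leaf 12365 7
 Tr.leaf) 12371 6
 Tr.leaf) 12373 6
 (Tr.node (Tr.node Tr.leaf 12374 6
 Tr.leaf) 12381 7
 Tr.leaf)) 12385 6
 (Tr.node (Tr.node (Tr.node Tr.leaf 12388 6
 Tr.leaf) 12393 6
 Tr.leaf) 12394 6
 (Tr.node Tr.leaf 12401 6
 Tr.leaf)))) 12402 6
 (Tr.node (Tr.node (Tr.node (Tr.node (Tr.node Tr.leaf 12404 7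
 Tr.leaf) 12407 6
 Tr.leaf) 12409 6
 (Tr.node (Tr.node Tr.leaf 12410 7
 Tr.leaf) 12412 6
 Tr.leaf)) 12422 7
 (Tr.node (Tr.node (Tr.node Tr.leaf 12430 6
 Tr.leaf) 12435 5
 Tr.leaf) 12437 5
 (Tr.node Tr.leaf 12438 6
 Tr.leaf))) 12445 6
 (Tr.node (Tr.node (Tr.node (Tr.node Tr.leaf 12450 6
 Tr.leaf) 12452 6
 Tr.leaf) 12455 7
 (Tr.node (Tr.node Tr.leaf 12457 7
 Tr.leaf) 12460 7
 Tr.leaf)) 12465 6
 (Tr.node (Tr.node (Tr.node Tr.leaf 12466 6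
 Tr.leaf) 12471 6
 Tr.leaf) 12473 7
 (Tr.node Tr.leaf 12476 6
 Tr.leaf)))))) 12484 5
 (Tr.node (Tr.node (Tr.node (Tr.node (Tr.node (Tr.node (Tr.node Tr.leaf 12487 7
 Tr.leaf) 12497 5
 Tr.leaf) 12498 6
 (Tr.node (Tr.node Tr.leaf 12500 6
 Tr.leaf) 12508 6
 Tr.leaf)) 12511 7
 (Tr.node (Tr.node (Tr.node Tr.leaf 12517 6
 Tr.leaf) 12518 7
 Tr.leaf) 12523 6
 (Tr.node (Tr.node Tr.leaf 12525 7
 Tr.leaf) 12526 6
 Tr.leaf))) 12533 6
 (Tr.node (Tr.node (Tr.node (Tr.node Tr.leaf 12534 6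
 Tr.leaf) 12539 6
 Tr.leaf) 12541 6
 (Tr.node (Tr.node Tr.leaf 12549 6
 Tr.leaf) 12555 6
 Tr.leaf)) 12558 5
 (Tr.node (Tr.node (Tr.node Tr.leaf 12563 6
 Tr.leaf) 12566 6
 Tr.leaf) 12577 7
 (Tr.node Tr.leaf 12578 6
 Tr.leaf)))) 12580 6
 (Tr.node (Tr.node (Tr.node (Tr.node (Tr.node Tr.leaf 12583 6
 Tr.leaf) 12588 5
 Tr.leaf) 12593 6
 (Tr.node (Tr.node Tr.leaf 12594 6
 Tr.leaf) 12596 5
 Tr.leaf)) 12599 7
 (Tr.node (Tr.node (Tr.node Tr.leaf 12601 7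
 Tr.leaf) 12602 6
 Tr.leaf) 12607 7
 (Tr.node (Tr.node Tr.leaf 12609 7
 Tr.leaf) 12620 5
 Tr.leaf))) 12623 6
 (Tr.node (Tr.node (Tr.node (Tr.node Tr.leaf 12628 5
 Tr.leaf) 12633 7
 Tr.leaf) 12646 6
 (Tr.node (Tr.node Tr.leaf 12659 7
 Tr.leaf) 12669 6
 Tr.leaf)) 12670 6
 (Tr.node (Tr.node (Tr.node Tr.leaf 12674 7
 Tr.leaf) 12676 6
 Tr.leaf) 12679 6
 (Tr.node Tr.leaf 12681 6
 Tr.leaf))))) 12682 6
 (Tr.node (Tr.node (Tr.node (Tr.node (Tr.node (Tr.node Tr.leaf 12687 6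
 Tr.leaf) 12690 6
 Tr.leaf) 12695 6
 (Tr.node (Tr.node Tr.leaf 12697 6
 Tr.leaf) 12709 6
 Tr.leaf)) 12717 7
 (Tr.node (Tr.node (Tr.node Tr.leaf 12725 6
 Tr.leaf) 12726 6
 Tr.leaf) 12731 6
 (Tr.node (Tr.node Tr.leaf 12741 6
 Tr.leaf) 12742 6
 Tr.leaf))) 12747 6
 (Tr.node (Tr.node (Tr.node (Tr.node Tr.leaf 12750 6
 Tr.leaf) 12757 7
 Tr.leaf) 12763 6
 (Tr.node (Tr.node Tr.leaf 12769 6
 Tr.leaf) 12770 6
 Tr.leaf)) 12772 6
 (Tr.node (Tr.node (Tr.node Tr.leaf 12777 6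
 Tr.leaf) 12778 5
 Tr.leaf) 12785 6
 (Tr.node Tr.leaf 12786 6
 Tr.leaf)))) 12788 6
 (Tr.node (Tr.node (Tr.node (Tr.node (Tr.node Tr.leaf 12791 7
 Tr.leaf) 12794 6
 Tr.leaf) 12799 7
 (Tr.node (Tr.node Tr.leaf 13317 6
 Tr.leaf) 13335 6
 Tr.leaf)) 13341 6
 (Tr.node (Tr.node (Tr.node Tr.leaf 13345 6
 Tr.leaf) 13363 6
 Tr.leaf) 13369 6
 (Tr.node Tr.leaf 13379 6
 Tr.leaf))) 13385 6
 (Tr.node (Tr.node (Tr.node (Tr.node Tr.leaf 13403 6
 Tr.leaf) 13413 7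
 Tr.leaf) 13415 6
 (Tr.node (Tr.node Tr.leaf 13421 7
 Tr.leaf) 13429 6
 Tr.leaf)) 13431 6
 (Tr.node (Tr.node (Tr.node Tr.leaf 13439 7
 Tr.leaf) 13443 6
 Tr.leaf) 13449 6
 (Tr.node Tr.leaf 13467 6
 Tr.leaf))))))) 13477 6
 (Tr.node (Tr.node (Tr.node (Tr.node (Tr.node (Tr.node (Tr.node (Tr.node Tr.leaf 13479 7
 Tr.leaf) 13485 7
 Tr.leaf) 13493 7
 (Tr.node (Tr.node Tr.leaf 13495 7
 Tr.leaf) 13503 6
 Tr.leaf)) 13509 7
 (Tr.node (Tr.node (Tr.node Tr.leaf 13511 6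
 Tr.leaf) 13519 6
 Tr.leaf) 13527 6
 (Tr.node (Tr.node Tr.leaf 13533 7
 Tr.leaf) 13535 7
 Tr.leaf))) 13537 6
 (Tr.node (Tr.node (Tr.node (Tr.node Tr.leaf 13539 7
 Tr.leaf) 13547 7
 Tr.leaf) 13555 7
 (Tr.node (Tr.node Tr.leaf 13561 7
 Tr.leaf) 13563 6
 Tr.leaf)) 13569 6
 (Tr.node (Tr.node (Tr.node Tr.leaf 13571 6
 Tr.leaf) 13577 6
 Tr.leaf) 13587 6
 (Tr.node Tr.leaf 13593 6
 Tr.leaf)))) 13595 6
 (Tr.node (Tr.node (Tr.node (Tr.node (Tr.node Tr.leaf 13605 7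
 Tr.leaf) 13607 6
 Tr.leaf) 13613 6
 (Tr.node (Tr.node Tr.leaf 13623 6
 Tr.leaf) 13631 7
 Tr.leaf)) 13637 6
 (Tr.node (Tr.node (Tr.node Tr.leaf 13639 7
 Tr.leaf) 13647 7
 Tr.leaf) 13653 7
 (Tr.node (Tr.node Tr.leaf 13655 7
 Tr.leaf) 13663 6
 Tr.leaf))) 13667 6
 (Tr.node (Tr.node (Tr.node (Tr.node Tr.leaf 13681 7
 Tr.leaf) 13683 6
 Tr.leaf) 13689 7
 (Tr.node (Tr.node Tr.leaf 13691 7
 Tr.leaf) 13701 7
 Tr.leaf)) 13703 6
 (Tr.node (Tr.node (Tr.node Tr.leaf 13709 7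
 Tr.leaf) 13711 7
 Tr.leaf) 13719 6
 (Tr.node Tr.leaf 13729 7
 Tr.leaf))))) 13737 7
 (Tr.node (Tr.node (Tr.node (Tr.node (Tr.node (Tr.node Tr.leaf 13739 7
 Tr.leaf) 13745 7
 Tr.leaf) 13753 7
 (Tr.node (Tr.node Tr.leaf 13755 7
 Tr.leaf) 13761 7
 Tr.leaf)) 13763 6
 (Tr.node (Tr.node (Tr.node Tr.leaf 13779 6
 Tr.leaf) 13785 6
 Tr.leaf) 13787 7
 (Tr.node (Tr.node Tr.leaf 13797 8
 Tr.leaf) 13823 8
 Tr.leaf))) 14347 6
 (Tr.node (Tr.node (Tr.node (Tr.node Tr.leaf 14351 6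
 Tr.leaf) 14369 6
 Tr.leaf) 14370 6
 (Tr.node (Tr.node Tr.leaf 14378 6
 Tr.leaf) 14385 6
 Tr.leaf)) 14401 7
 (Tr.node (Tr.node (Tr.node Tr.leaf 14405 7
 Tr.leaf) 14409 7
 Tr.leaf) 14410 7
 (Tr.node Tr.leaf 14417 7
 Tr.leaf)))) 14426 6
 (Tr.node (Tr.node (Tr.node (Tr.node (Tr.node Tr.leaf 14429 7
 Tr.leaf) 14439 7
 Tr.leaf) 14447 7
 (Tr.node (Tr.node Tr.leaf 14451 7
 Tr.leaf) 14459 7
 Tr.leaf)) 14463 6
 (Tr.node (Tr.node (Tr.node Tr.leaf 14466 6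
 Tr.leaf) 14469 6
 Tr.leaf) 14477 6
 (Tr.node Tr.leaf 14478 7
 Tr.leaf))) 14486 7
 (Tr.node (Tr.node (Tr.node (Tr.node Tr.leaf 14490 7
 Tr.leaf) 14494 6
 Tr.leaf) 14507 7
 (Tr.node (Tr.node Tr.leaf 14511 6
 Tr.leaf) 14515 6
 Tr.leaf)) 14519 5
 (Tr.node (Tr.node (Tr.node Tr.leaf 14523 7
 Tr.leaf) 14535 7
 Tr.leaf) 14539 6
 (Tr.node Tr.leaf 14543 6
 Tr.leaf)))))) 14555 7
 (Tr.node (Tr.node (Tr.node (Tr.node (Tr.node (Tr.node (Tr.node Tr.leaf 14561 7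
 Tr.leaf) 14562 6
 Tr.leaf) 14565 7
 (Tr.node (Tr.node Tr.leaf 14566 7
 Tr.leaf) 14570 5
 Tr.leaf)) 14573 7
 (Tr.node (Tr.node (Tr.node Tr.leaf 14574 6
 Tr.leaf) 14578 6
 Tr.leaf) 14582 6
 (Tr.node (Tr.node Tr.leaf 14590 6
 Tr.leaf) 14598 6
 Tr.leaf))) 14601 6
 (Tr.node (Tr.node (Tr.node (Tr.node Tr.leaf 14609 6
 Tr.leaf) 14618 5
 Tr.leaf) 14621 6
 (Tr.node (Tr.node Tr.leaf 14627 7
 Tr.leaf) 14631 5
 Tr.leaf)) 14643 7
 (Tr.node (Tr.node (Tr.node Tr.leaf 14651 6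
 Tr.leaf) 14655 6
 Tr.leaf) 14659 6
 (Tr.node Tr.leaf 14663 6
 Tr.leaf)))) 14667 7
 (Tr.node (Tr.node (Tr.node (Tr.node (Tr.node Tr.leaf 14679 6
 Tr.leaf) 14687 5
 Tr.leaf) 14689 7
 (Tr.node (Tr.node Tr.leaf 14694 7
 Tr.leaf) 14697 7
 Tr.leaf)) 14698 6
 (Tr.node (Tr.node (Tr.node Tr.leaf 14702 6
 Tr.leaf) 14705 7
 Tr.leaf) 14706 6
 (Tr.node Tr.leaf 14710 5
 Tr.leaf))) 14713 7
 (Tr.node (Tr.node (Tr.node (Tr.node Tr.leaf 14723 6
 Tr.leaf) 14739 6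
 Tr.leaf) 14743 6
 (Tr.node (Tr.node Tr.leaf 14747 7
 Tr.leaf) 14751 6
 Tr.leaf)) 14754 6
 (Tr.node (Tr.node (Tr.node Tr.leaf 14757 7
 Tr.leaf) 14762 6
 Tr.leaf) 14766 6
 (Tr.node Tr.leaf 14769 6
 Tr.leaf))))) 14770 6
 (Tr.node (Tr.node (Tr.node (Tr.node (Tr.node (Tr.node Tr.leaf 14773 6
 Tr.leaf) 14774 5
 Tr.leaf) 14777 7
 (Tr.node (Tr.node Tr.leaf 14778 7
 Tr.leaf) 14782 5
 Tr.leaf)) 14785 6
 (Tr.node (Tr.node (Tr.node Tr.leaf 14786 6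
 Tr.leaf) 14789 6
 Tr.leaf) 14790 6
 (Tr.node (Tr.node Tr.leaf 14794 6
 Tr.leaf) 14801 7
 Tr.leaf))) 14805 6
 (Tr.node (Tr.node (Tr.node (Tr.node Tr.leaf 14806 5
 Tr.leaf) 14809 6
 Tr.leaf) 14814 5
 (Tr.node (Tr.node Tr.leaf 14827 8
 Tr.leaf) 14831 7
 Tr.leaf)) 14839 7
 (Tr.node (Tr.node (Tr.node Tr.leaf 14843 8
 Tr.leaf) 14847 7
 Tr.leaf) 15361 6
 (Tr.node Tr.leaf 15365 6
 Tr.leaf)))) 15379 6
 (Tr.node (Tr.node (Tr.node (Tr.node (Tr.node Tr.leaf 15383 6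
 Tr.leaf) 15385 6
 Tr.leaf) 15389 6
 (Tr.node (Tr.node Tr.leaf 15459 7
 Tr.leaf) 15463 6
 Tr.leaf)) 15465 6
 (Tr.node (Tr.node (Tr.node Tr.leaf 15467 6
 Tr.leaf) 15469 7
 Tr.leaf) 15477 7
 (Tr.node Tr.leaf 15485 7
 Tr.leaf))) 15487 7
 (Tr.node (Tr.node (Tr.node (Tr.node Tr.leaf 15527 6
 Tr.leaf) 15529 6
 Tr.leaf) 15531 5
 (Tr.node (Tr.node Tr.leaf 15533 6
 Tr.leaf) 15535 6
 Tr.leaf)) 15541 5
 (Tr.node (Tr.node (Tr.node Tr.leaf 15543 6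
 Tr.leaf) 15549 6
 Tr.leaf) 15551 7
 (Tr.node Tr.leaf 15553 7
 Tr.leaf))))))))

/-- A subtree. -/
def tr1_s4 : Tr := (Tr.node (Tr.node (Tr.node (Tr.node (Tr.node (Tr.node (Tr.node (Tr.node (Tr.node Tr.leaf 15557 7
 Tr.leaf) 15559 7
 Tr.leaf) 15561 7
 (Tr.node (Tr.node Tr.leaf 15563 6
 Tr.leaf) 15571 7
 Tr.leaf)) 15577 7
 (Tr.node (Tr.node (Tr.node Tr.leaf 15579 7
 Tr.leaf) 15581 7
 Tr.leaf) 15583 7
 (Tr.node (Tr.node Tr.leaf 15651 7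
 Tr.leaf) 15655 7
 Tr.leaf))) 15657 7
 (Tr.node (Tr.node (Tr.node (Tr.node Tr.leaf 15661 7
 Tr.leaf) 15663 6
 Tr.leaf) 15669 6
 (Tr.node (Tr.node Tr.leaf 15675 7
 Tr.leaf) 15677 7
 Tr.leaf)) 15679 7
 (Tr.node (Tr.node (Tr.node Tr.leaf 15681 7
 Tr.leaf) 15691 7
 Tr.leaf) 15693 7
 (Tr.node Tr.leaf 15697 7
 Tr.leaf)))) 15699 7
 (Tr.node (Tr.node (Tr.node (Tr.node (Tr.node Tr.leaf 15707 7
 Tr.leaf) 15709 7
 Tr.leaf) 15711 7
 (Tr.node (Tr.node Tr.leaf 15747 6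
 Tr.leaf) 15749 7
 Tr.leaf)) 15751 6
 (Tr.node (Tr.node (Tr.node Tr.leaf 15755 7
 Tr.leaf) 15761 7
 Tr.leaf) 15763 7
 (Tr.node (Tr.node Tr.leaf 15765 6
 Tr.leaf) 15769 6
 Tr.leaf))) 15771 7
 (Tr.node (Tr.node (Tr.node (Tr.node Tr.leaf 15847 7
 Tr.leaf) 15849 7
 Tr.leaf) 15853 8
 (Tr.node (Tr.node Tr.leaf 15859 8
 Tr.leaf) 15861 7
 Tr.leaf)) 15865 8
 (Tr.node (Tr.node (Tr.node Tr.leaf 16387 4
 Tr.leaf) 16389 4
 Tr.leaf) 16390 3
 (Tr.node Tr.leaf 16393 4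
 Tr.leaf))))) 16394 4
 (Tr.node (Tr.node (Tr.node (Tr.node (Tr.node (Tr.node Tr.leaf 16396 4
 Tr.leaf) 16399 5
 Tr.leaf) 16401 4
 (Tr.node (Tr.node Tr.leaf 16402 4
 Tr.leaf) 16404 4
 Tr.leaf)) 16407 6
 (Tr.node (Tr.node (Tr.node Tr.leaf 16413 6
 Tr.leaf) 16414 5
 Tr.leaf) 16419 4
 (Tr.node (Tr.node Tr.leaf 16421 4
 Tr.leaf) 16422 4
 Tr.leaf))) 16425 4
 (Tr.node (Tr.node (Tr.node (Tr.node Tr.leaf 16426 4
 Tr.leaf) 16428 4
 Tr.leaf) 16433 4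
 (Tr.node (Tr.node Tr.leaf 16434 4
 Tr.leaf) 16436 4
 Tr.leaf)) 16449 4
 (Tr.node (Tr.node (Tr.node Tr.leaf 16452 4
 Tr.leaf) 16455 6
 Tr.leaf) 16456 4
 (Tr.node Tr.leaf 16464 4
 Tr.leaf)))) 16467 6
 (Tr.node (Tr.node (Tr.node (Tr.node (Tr.node Tr.leaf 16470 6
 Tr.leaf) 16473 6
 Tr.leaf) 16481 4
 (Tr.node (Tr.node Tr.leaf 16484 4
 Tr.leaf) 16488 3
 Tr.leaf)) 16491 6
 (Tr.node (Tr.node (Tr.node Tr.leaf 16493 5
 Tr.leaf) 16496 4
 Tr.leaf) 16501 6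
 (Tr.node Tr.leaf 16505 5
 Tr.leaf))) 16506 6
 (Tr.node (Tr.node (Tr.node (Tr.node Tr.leaf 16508 6
 Tr.leaf) 16511 5
 Tr.leaf) 16514 4
 (Tr.node (Tr.node Tr.leaf 16516 4
 Tr.leaf) 16519 6
 Tr.leaf)) 16520 4
 (Tr.node (Tr.node (Tr.node Tr.leaf 16523 6
 Tr.leaf) 16525 5
 Tr.leaf) 16528 3
 (Tr.node Tr.leaf 16538 6
 Tr.leaf)))))) 16546 4
 (Tr.node (Tr.node (Tr.node (Tr.node (Tr.node (Tr.node (Tr.node Tr.leaf 16548 4
 Tr.leaf) 16551 7
 Tr.leaf) 16552 4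
 (Tr.node (Tr.node Tr.leaf 16557 5
 Tr.leaf) 16560 3
 Tr.leaf)) 16563 7
 (Tr.node (Tr.node (Tr.node Tr.leaf 16569 6
 Tr.leaf) 16572 6
 Tr.leaf) 16585 7
 (Tr.node (Tr.node Tr.leaf 16591 5
 Tr.leaf) 16594 7
 Tr.leaf))) 16599 6
 (Tr.node (Tr.node (Tr.node (Tr.node Tr.leaf 16600 5
 Tr.leaf) 16605 6
 Tr.leaf) 16606 6
 (Tr.node (Tr.node Tr.leaf 16613 6
 Tr.leaf) 16617 6
 Tr.leaf)) 16623 5
 (Tr.node (Tr.node (Tr.node Tr.leaf 16625 6
 Tr.leaf) 16628 6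
 Tr.leaf) 16631 6
 (Tr.node Tr.leaf 16632 6
 Tr.leaf)))) 16635 5
 (Tr.node (Tr.node (Tr.node (Tr.node (Tr.node Tr.leaf 16638 5
 Tr.leaf) 16641 4
 Tr.leaf) 16642 4
 (Tr.node (Tr.node Tr.leaf 16647 5
 Tr.leaf) 16648 4
 Tr.leaf)) 16651 6
 (Tr.node (Tr.node (Tr.node Tr.leaf 16654 6
 Tr.leaf) 16656 3
 Tr.leaf) 16661 6
 (Tr.node (Tr.node Tr.leaf 16666 7
 Tr.leaf) 16668 6
 Tr.leaf))) 16673 4
 (Tr.node (Tr.node (Tr.node (Tr.node Tr.leaf 16674 4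
 Tr.leaf) 16679 6
 Tr.leaf) 16680 4
 (Tr.node (Tr.node Tr.leaf 16685 6
 Tr.leaf) 16688 3
 Tr.leaf)) 16691 6
 (Tr.node (Tr.node (Tr.node Tr.leaf 16697 6
 Tr.leaf) 16700 5
 Tr.leaf) 16710 6
 (Tr.node Tr.leaf 16719 5
 Tr.leaf))))) 16721 6
 (Tr.node (Tr.node (Tr.node (Tr.node (Tr.node (Tr.node Tr.leaf 16727 7
 Tr.leaf) 16739 6
 Tr.leaf) 16745 6
 (Tr.node (Tr.node Tr.leaf 16746 6
 Tr.leaf) 16748 5
 Tr.leaf)) 16756 7
 (Tr.node (Tr.node (Tr.node Tr.leaf 16763 7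
 Tr.leaf) 16771 6
 Tr.leaf) 16773 6
 (Tr.node (Tr.node Tr.leaf 16774 5
 Tr.leaf) 16778 6
 Tr.leaf))) 16780 6
 (Tr.node (Tr.node (Tr.node (Tr.node Tr.leaf 16785 6
 Tr.leaf) 16791 7
 Tr.leaf) 16792 6
 (Tr.node (Tr.node Tr.leaf 16797 7
 Tr.leaf) 16798 7
 Tr.leaf)) 16806 5
 (Tr.node (Tr.node (Tr.node Tr.leaf 16815 6
 Tr.leaf) 16817 6
 Tr.leaf) 16818 6
 (Tr.node Tr.leaf 16820 6
 Tr.leaf)))) 16827 6
 (Tr.node (Tr.node (Tr.node (Tr.node (Tr.node Tr.leaf 16829 7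
 Tr.leaf) 16833 7
 Tr.leaf) 16839 5
 (Tr.node (Tr.node Tr.leaf 16843 6
 Tr.leaf) 16846 5
 Tr.leaf)) 16848 6
 (Tr.node (Tr.node (Tr.node Tr.leaf 16851 7
 Tr.leaf) 16853 6
 Tr.leaf) 16854 7
 (Tr.node Tr.leaf 16863 7
 Tr.leaf))) 16866 7
 (Tr.node (Tr.node (Tr.node (Tr.node Tr.leaf 16868 6
 Tr.leaf) 16875 6
 Tr.leaf) 16878 6
 (Tr.node (Tr.node Tr.leaf 16883 7
 Tr.leaf) 16889 7
 Tr.leaf)) 16890 7
 (Tr.node (Tr.node (Tr.node Tr.leaf 16892 7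
 Tr.leaf) 16895 7
 Tr.leaf) 17409 4
 (Tr.node Tr.leaf 17411 4
 Tr.leaf))))))) 17421 6
 (Tr.node (Tr.node (Tr.node (Tr.node (Tr.node (Tr.node (Tr.node (Tr.node Tr.leaf 17423 6
 Tr.leaf) 17433 6
 Tr.leaf) 17441 4
 (Tr.node (Tr.node Tr.leaf 17443 4
 Tr.leaf) 17463 6
 Tr.leaf)) 17465 5
 (Tr.node (Tr.node (Tr.node Tr.leaf 17477 7
 Tr.leaf) 17481 7
 Tr.leaf) 17483 7
 (Tr.node (Tr.node Tr.leaf 17489 6
 Tr.leaf) 17491 6
 Tr.leaf))) 17503 7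
 (Tr.node (Tr.node (Tr.node (Tr.node Tr.leaf 17509 6
 Tr.leaf) 17511 7
 Tr.leaf) 17513 6
 (Tr.node (Tr.node Tr.leaf 17533 6
 Tr.leaf) 17535 6
 Tr.leaf)) 17541 7
 (Tr.node (Tr.node (Tr.node Tr.leaf 17553 7
 Tr.leaf) 17555 7
 Tr.leaf) 17575 7
 (Tr.node Tr.leaf 17577 5
 Tr.leaf)))) 17585 6
 (Tr.node (Tr.node (Tr.node (Tr.node (Tr.node Tr.leaf 17597 7
 Tr.leaf) 17599 6
 Tr.leaf) 17601 6
 (Tr.node (Tr.node Tr.leaf 17603 6
 Tr.leaf) 17615 6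
 Tr.leaf)) 17621 6
 (Tr.node (Tr.node (Tr.node Tr.leaf 17625 6
 Tr.leaf) 17627 7
 Tr.leaf) 17633 6
 (Tr.node (Tr.node Tr.leaf 17635 6
 Tr.leaf) 17645 6
 Tr.leaf))) 17647 6
 (Tr.node (Tr.node (Tr.node (Tr.node Tr.leaf 17657 6
 Tr.leaf) 17659 6
 Tr.leaf) 17671 6
 (Tr.node (Tr.node Tr.leaf 17683 6
 Tr.leaf) 17695 6
 Tr.leaf)) 17701 6
 (Tr.node (Tr.node (Tr.node Tr.leaf 17705 5
 Tr.leaf) 17725 6
 Tr.leaf) 17727 6
 (Tr.node Tr.leaf 17731 6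
 Tr.leaf))))) 17741 6
 (Tr.node (Tr.node (Tr.node (Tr.node (Tr.node (Tr.node Tr.leaf 17749 7
 Tr.leaf) 17781 7
 Tr.leaf) 17783 6
 (Tr.node (Tr.node Tr.leaf 17785 6
 Tr.leaf) 17787 7
 Tr.leaf)) 17805 6
 (Tr.node (Tr.node (Tr.node Tr.leaf 17807 6
 Tr.leaf) 17815 6
 Tr.leaf) 17817 7
 (Tr.node (Tr.node Tr.leaf 17825 6
 Tr.leaf) 17851 7
 Tr.leaf))) 17865 6
 (Tr.node (Tr.node (Tr.node (Tr.node Tr.leaf 17867 6
 Tr.leaf) 17885 7
 Tr.leaf) 17893 7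
 (Tr.node (Tr.node Tr.leaf 17905 6
 Tr.leaf) 17917 7
 Tr.leaf)) 18433 4
 (Tr.node (Tr.node (Tr.node Tr.leaf 18434 4
 Tr.leaf) 18437 4
 Tr.leaf) 18438 4
 (Tr.node Tr.leaf 18465 4
 Tr.leaf)))) 18466 4
 (Tr.node (Tr.node (Tr.node (Tr.node (Tr.node Tr.leaf 18469 4
 Tr.leaf) 18470 4
 Tr.leaf) 18475 6
 (Tr.node (Tr.node Tr.leaf 18483 5
 Tr.leaf) 18489 5
 Tr.leaf)) 18490 6
 (Tr.node (Tr.node (Tr.node Tr.leaf 18503 7
 Tr.leaf) 18506 6
 Tr.leaf) 18509 6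
 (Tr.node Tr.leaf 18514 5
 Tr.leaf))) 18523 7
 (Tr.node (Tr.node (Tr.node (Tr.node Tr.leaf 18531 6
 Tr.leaf) 18535 7
 Tr.leaf) 18538 6
 (Tr.node (Tr.node Tr.leaf 18545 5
 Tr.leaf) 18546 6
 Tr.leaf)) 18549 6
 (Tr.node (Tr.node (Tr.node Tr.leaf 18550 6
 Tr.leaf) 18559 7
 Tr.leaf) 18563 7
 (Tr.node Tr.leaf 18573 6
 Tr.leaf)))))) 18578 6
 (Tr.node (Tr.node (Tr.node (Tr.node (Tr.node (Tr.node (Tr.node Tr.leaf 18581 6
 Tr.leaf) 18591 6
 Tr.leaf) 18599 7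
 (Tr.node (Tr.node Tr.leaf 18601 6
 Tr.leaf) 18613 6
 Tr.leaf)) 18614 6
 (Tr.node (Tr.node (Tr.node Tr.leaf 18623 6
 Tr.leaf) 18625 6
 Tr.leaf) 18630 5
 (Tr.node (Tr.node Tr.leaf 18639 6
 Tr.leaf) 18643 6
 Tr.leaf))) 18649 6
 (Tr.node (Tr.node (Tr.node (Tr.node Tr.leaf 18650 6
 Tr.leaf) 18653 6
 Tr.leaf) 18654 6
 (Tr.node (Tr.node Tr.leaf 18658 5
 Tr.leaf) 18675 7
 Tr.leaf)) 18681 6
 (Tr.node (Tr.node (Tr.node Tr.leaf 18691 6
 Tr.leaf) 18695 6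
 Tr.leaf) 18701 6
 (Tr.node Tr.leaf 18702 6
 Tr.leaf)))) 18706 6
 (Tr.node (Tr.node (Tr.node (Tr.node (Tr.node Tr.leaf 18709 7
 Tr.leaf) 18719 6
 Tr.leaf) 18723 6
 (Tr.node (Tr.node Tr.leaf 18727 6
 Tr.leaf) 18730 6
 Tr.leaf)) 18734 7
 (Tr.node (Tr.node (Tr.node Tr.leaf 18737 6
 Tr.leaf) 18741 7
 Tr.leaf) 18742 5
 (Tr.node (Tr.node Tr.leaf 18751 6
 Tr.leaf) 18754 6
 Tr.leaf))) 18757 6
 (Tr.node (Tr.node (Tr.node (Tr.node Tr.leaf 18771 6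
 Tr.leaf) 18775 7
 Tr.leaf) 18777 7
 (Tr.node (Tr.node Tr.leaf 18778 7
 Tr.leaf) 18782 6
 Tr.leaf)) 18786 7
 (Tr.node (Tr.node (Tr.node Tr.leaf 18789 6
 Tr.leaf) 18790 6
 Tr.leaf) 18795 6
 (Tr.node Tr.leaf 18803 6
 Tr.leaf))))) 18807 6
 (Tr.node (Tr.node (Tr.node (Tr.node (Tr.node (Tr.node Tr.leaf 18809 6
 Tr.leaf) 18810 6
 Tr.leaf) 18817 7
 (Tr.node (Tr.node Tr.leaf 18835 6
 Tr.leaf) 18839 6
 Tr.leaf)) 18842 6
 (Tr.node (Tr.node (Tr.node Tr.leaf 18846 5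
 Tr.leaf) 18849 6
 Tr.leaf) 18853 7
 (Tr.node (Tr.node Tr.leaf 18859 7
 Tr.leaf) 18867 6
 Tr.leaf))) 18874 6
 (Tr.node (Tr.node (Tr.node (Tr.node Tr.leaf 18877 6
 Tr.leaf) 18878 6
 Tr.leaf) 18889 6
 (Tr.node (Tr.node Tr.leaf 18890 6
 Tr.leaf) 18897 6
 Tr.leaf)) 18898 6
 (Tr.node (Tr.node (Tr.node Tr.leaf 18901 7
 Tr.leaf) 18919 6
 Tr.leaf) 18921 7
 (Tr.node Tr.leaf 18925 7
 Tr.leaf)))) 18926 6
 (Tr.node (Tr.node (Tr.node (Tr.node (Tr.node Tr.leaf 18929 6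
 Tr.leaf) 18930 6
 Tr.leaf) 18939 7
 (Tr.node (Tr.node Tr.leaf 18943 7
 Tr.leaf) 19473 6
 Tr.leaf)) 19479 6
 (Tr.node (Tr.node (Tr.node Tr.leaf 19497 5
 Tr.leaf) 19499 6
 Tr.leaf) 19509 6
 (Tr.node Tr.leaf 19521 7
 Tr.leaf))) 19523 7
 (Tr.node (Tr.node (Tr.node (Tr.node Tr.leaf 19527 7
 Tr.leaf) 19547 6
 Tr.leaf) 19549 7
 (Tr.node (Tr.node Tr.leaf 19551 7
 Tr.leaf) 19555 7
 Tr.leaf)) 19557 7
 (Tr.node (Tr.node (Tr.node Tr.leaf 19579 7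
 Tr.leaf) 19587 7
 Tr.leaf) 19589 7
 (Tr.node Tr.leaf 19591 7
 Tr.leaf))))))))

/-- A subtree. -/
def tr1_s5 : Tr := (Tr.node (Tr.node (Tr.node (Tr.node (Tr.node (Tr.node (Tr.node (Tr.node (Tr.node Tr.leaf 19613 6
 Tr.leaf) 19615 6
 Tr.leaf) 19617 6
 (Tr.node (Tr.node Tr.leaf 19619 7
 Tr.leaf) 19621 7
 Tr.leaf)) 19643 6
 (Tr.node (Tr.node (Tr.node Tr.leaf 19657 7
 Tr.leaf) 19659 6
 Tr.leaf) 19665 7
 (Tr.node (Tr.node Tr.leaf 19667 7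
 Tr.leaf) 19669 6
 Tr.leaf))) 19671 7
 (Tr.node (Tr.node (Tr.node (Tr.node Tr.leaf 19689 6
 Tr.leaf) 19693 6
 Tr.leaf) 19697 7
 (Tr.node (Tr.node Tr.leaf 19699 6
 Tr.leaf) 19715 6
 Tr.leaf)) 19719 6
 (Tr.node (Tr.node (Tr.node Tr.leaf 19739 6
 Tr.leaf) 19743 6
 Tr.leaf) 19745 6
 (Tr.node Tr.leaf 19749 6
 Tr.leaf)))) 19771 7
 (Tr.node (Tr.node (Tr.node (Tr.node (Tr.node Tr.leaf 19785 6
 Tr.leaf) 19787 6
 Tr.leaf) 19789 7
 (Tr.node (Tr.node Tr.leaf 19817 6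
 Tr.leaf) 19825 7
 Tr.leaf)) 19829 7
 (Tr.node (Tr.node (Tr.node Tr.leaf 19831 6
 Tr.leaf) 19849 5
 Tr.leaf) 19855 7
 (Tr.node (Tr.node Tr.leaf 19857 7
 Tr.leaf) 19859 6
 Tr.leaf))) 19861 6
 (Tr.node (Tr.node (Tr.node (Tr.node Tr.leaf 19863 6
 Tr.leaf) 19883 7
 Tr.leaf) 19887 6
 (Tr.node (Tr.node Tr.leaf 19893 7
 Tr.leaf) 19905 7
 Tr.leaf)) 19909 7
 (Tr.node (Tr.node (Tr.node Tr.leaf 19911 6
 Tr.leaf) 19929 7
 Tr.leaf) 19931 7
 (Tr.node Tr.leaf 19937 6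
 Tr.leaf))))) 19941 7
 (Tr.node (Tr.node (Tr.node (Tr.node (Tr.node (Tr.node Tr.leaf 20481 4
 Tr.leaf) 20482 4
 Tr.leaf) 20484 4
 (Tr.node (Tr.node Tr.leaf 20489 4
 Tr.leaf) 20490 3
 Tr.leaf)) 20492 4
 (Tr.node (Tr.node (Tr.node Tr.leaf 20499 6
 Tr.leaf) 20502 6
 Tr.leaf) 20510 6
 (Tr.node (Tr.node Tr.leaf 20513 4
 Tr.leaf) 20514 4
 Tr.leaf))) 20516 4
 (Tr.node (Tr.node (Tr.node (Tr.node Tr.leaf 20519 6
 Tr.leaf) 20521 4
 Tr.leaf) 20522 4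
 (Tr.node (Tr.node Tr.leaf 20524 4
 Tr.leaf) 20531 6
 Tr.leaf)) 20533 6
 (Tr.node (Tr.node (Tr.node Tr.leaf 20547 7
 Tr.leaf) 20555 6
 Tr.leaf) 20557 6
 (Tr.node Tr.leaf 20558 6
 Tr.leaf)))) 20561 6
 (Tr.node (Tr.node (Tr.node (Tr.node (Tr.node Tr.leaf 20562 6
 Tr.leaf) 20564 7
 Tr.leaf) 20569 6
 (Tr.node (Tr.node Tr.leaf 20570 7
 Tr.leaf) 20572 6
 Tr.leaf)) 20575 6
 (Tr.node (Tr.node (Tr.node Tr.leaf 20579 7
 Tr.leaf) 20590 7
 Tr.leaf) 20593 6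
 (Tr.node Tr.leaf 20596 6
 Tr.leaf))) 20601 6
 (Tr.node (Tr.node (Tr.node (Tr.node Tr.leaf 20602 6
 Tr.leaf) 20621 6
 Tr.leaf) 20622 5
 (Tr.node (Tr.node Tr.leaf 20625 7
 Tr.leaf) 20628 6
 Tr.leaf)) 20631 7
 (Tr.node (Tr.node (Tr.node Tr.leaf 20633 6
 Tr.leaf) 20634 5
 Tr.leaf) 20636 6
 (Tr.node Tr.leaf 20639 7
 Tr.leaf)))))) 20645 6
 (Tr.node (Tr.node (Tr.node (Tr.node (Tr.node (Tr.node (Tr.node Tr.leaf 20646 5
 Tr.leaf) 20651 6
 Tr.leaf) 20658 5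
 (Tr.node (Tr.node Tr.leaf 20665 7
 Tr.leaf) 20666 6
 Tr.leaf)) 20668 6
 (Tr.node (Tr.node (Tr.node Tr.leaf 20671 6
 Tr.leaf) 20673 7
 Tr.leaf) 20682 6
 (Tr.node (Tr.node Tr.leaf 20691 6
 Tr.leaf) 20694 5
 Tr.leaf))) 20701 7
 (Tr.node (Tr.node (Tr.node (Tr.node Tr.leaf 20706 5
 Tr.leaf) 20711 6
 Tr.leaf) 20713 7
 (Tr.node (Tr.node Tr.leaf 20734 6
 Tr.leaf) 20739 6
 Tr.leaf)) 20747 5
 (Tr.node (Tr.node (Tr.node Tr.leaf 20749 5
 Tr.leaf) 20750 6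
 Tr.leaf) 20753 7
 (Tr.node Tr.leaf 20754 6
 Tr.leaf)))) 20761 6
 (Tr.node (Tr.node (Tr.node (Tr.node (Tr.node Tr.leaf 20764 6
 Tr.leaf) 20767 6
 Tr.leaf) 20774 6
 (Tr.node (Tr.node Tr.leaf 20782 7
 Tr.leaf) 20785 7
 Tr.leaf)) 20786 7
 (Tr.node (Tr.node (Tr.node Tr.leaf 20794 6
 Tr.leaf) 20796 6
 Tr.leaf) 20799 7
 (Tr.node (Tr.node Tr.leaf 20802 5
 Tr.leaf) 20807 7
 Tr.leaf))) 20809 5
 (Tr.node (Tr.node (Tr.node (Tr.node Tr.leaf 20810 6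
 Tr.leaf) 20812 6
 Tr.leaf) 20819 6
 (Tr.node (Tr.node Tr.leaf 20821 6
 Tr.leaf) 20827 6
 Tr.leaf)) 20830 6
 (Tr.node (Tr.node (Tr.node Tr.leaf 20842 6
 Tr.leaf) 20847 7
 Tr.leaf) 20851 7
 (Tr.node Tr.leaf 20853 6
 Tr.leaf))))) 20854 6
 (Tr.node (Tr.node (Tr.node (Tr.node (Tr.node (Tr.node Tr.leaf 20859 6
 Tr.leaf) 20862 7
 Tr.leaf) 20865 6
 (Tr.node (Tr.node Tr.leaf 20876 6
 Tr.leaf) 20879 6
 Tr.leaf)) 20885 6
 (Tr.node (Tr.node (Tr.node Tr.leaf 20891 6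
 Tr.leaf) 20894 6
 Tr.leaf) 20897 6
 (Tr.node (Tr.node Tr.leaf 20900 6
 Tr.leaf) 20903 6
 Tr.leaf))) 20906 6
 (Tr.node (Tr.node (Tr.node (Tr.node Tr.leaf 20908 7
 Tr.leaf) 20911 6
 Tr.leaf) 20915 7
 (Tr.node (Tr.node Tr.leaf 20923 6
 Tr.leaf) 20933 6
 Tr.leaf)) 20939 7
 (Tr.node (Tr.node (Tr.node Tr.leaf 20948 6
 Tr.leaf) 20951 7
 Tr.leaf) 20953 6
 (Tr.node Tr.leaf 20954 6
 Tr.leaf)))) 20956 6
 (Tr.node (Tr.node (Tr.node (Tr.node (Tr.node Tr.leaf 20959 7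
 Tr.leaf) 20965 6
 Tr.leaf) 20966 6
 (Tr.node (Tr.node Tr.leaf 20971 6
 Tr.leaf) 20974 6
 Tr.leaf)) 20977 6
 (Tr.node (Tr.node (Tr.node Tr.leaf 20980 5
 Tr.leaf) 20985 6
 Tr.leaf) 20986 6
 (Tr.node Tr.leaf 20988 6
 Tr.leaf))) 21531 6
 (Tr.node (Tr.node (Tr.node (Tr.node Tr.leaf 21541 6
 Tr.leaf) 21543 6
 Tr.leaf) 21563 6
 (Tr.node (Tr.node Tr.leaf 21569 7
 Tr.leaf) 21579 7
 Tr.leaf)) 21589 6
 (Tr.node (Tr.node (Tr.node Tr.leaf 21591 7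
 Tr.leaf) 21599 7
 Tr.leaf) 21603 7
 (Tr.node Tr.leaf 21609 7
 Tr.leaf))))))) 21611 7
 (Tr.node (Tr.node (Tr.node (Tr.node (Tr.node (Tr.node (Tr.node (Tr.node Tr.leaf 21621 7
 Tr.leaf) 21629 7
 Tr.leaf) 21633 6
 (Tr.node (Tr.node Tr.leaf 21643 6
 Tr.leaf) 21653 6
 Tr.leaf)) 21655 5
 (Tr.node (Tr.node (Tr.node Tr.leaf 21663 7
 Tr.leaf) 21667 6
 Tr.leaf) 21693 6
 (Tr.node (Tr.node Tr.leaf 21695 7
 Tr.leaf) 21701 5
 Tr.leaf))) 21709 6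
 (Tr.node (Tr.node (Tr.node (Tr.node Tr.leaf 21715 7
 Tr.leaf) 21723 7
 Tr.leaf) 21735 7
 (Tr.node (Tr.node Tr.leaf 21741 6
 Tr.leaf) 21743 6
 Tr.leaf)) 21747 7
 (Tr.node (Tr.node (Tr.node Tr.leaf 21755 7
 Tr.leaf) 21783 6
 Tr.leaf) 21789 5
 (Tr.node Tr.leaf 21791 6
 Tr.leaf)))) 21793 6
 (Tr.node (Tr.node (Tr.node (Tr.node (Tr.node Tr.leaf 21801 6
 Tr.leaf) 21813 6
 Tr.leaf) 21815 7
 (Tr.node (Tr.node Tr.leaf 21831 7
 Tr.leaf) 21861 6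
 Tr.leaf)) 21863 6
 (Tr.node (Tr.node (Tr.node Tr.leaf 21869 7
 Tr.leaf) 21873 7
 Tr.leaf) 21881 7
 (Tr.node (Tr.node Tr.leaf 21883 7
 Tr.leaf) 21893 6
 Tr.leaf))) 21895 7
 (Tr.node (Tr.node (Tr.node (Tr.node Tr.leaf 21901 6
 Tr.leaf) 21903 6
 Tr.leaf) 21907 7
 (Tr.node (Tr.node Tr.leaf 21913 6
 Tr.leaf) 21915 6
 Tr.leaf)) 21935 6
 (Tr.node (Tr.node (Tr.node Tr.leaf 21945 7
 Tr.leaf) 21955 6
 Tr.leaf) 21961 6
 (Tr.node Tr.leaf 21963 7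
 Tr.leaf))))) 21973 7
 (Tr.node (Tr.node (Tr.node (Tr.node (Tr.node (Tr.node Tr.leaf 21975 8
 Tr.leaf) 21981 7
 Tr.leaf) 21993 6
 (Tr.node (Tr.node Tr.leaf 21995 6
 Tr.leaf) 22005 8
 Tr.leaf)) 22007 8
 (Tr.node (Tr.node (Tr.node Tr.leaf 22535 6
 Tr.leaf) 22539 6
 Tr.leaf) 22549 6
 (Tr.node (Tr.node Tr.leaf 22553 6
 Tr.leaf) 22575 6
 Tr.leaf))) 22578 6
 (Tr.node (Tr.node (Tr.node (Tr.node Tr.leaf 22586 6
 Tr.leaf) 22589 6
 Tr.leaf) 22593 6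
 (Tr.node (Tr.node Tr.leaf 22598 6
 Tr.leaf) 22611 7
 Tr.leaf)) 22619 6
 (Tr.node (Tr.node (Tr.node Tr.leaf 22623 6
 Tr.leaf) 22629 6
 Tr.leaf) 22630 7
 (Tr.node Tr.leaf 22633 6
 Tr.leaf)))) 22647 7
 (Tr.node (Tr.node (Tr.node (Tr.node (Tr.node Tr.leaf 22651 6
 Tr.leaf) 22655 7
 Tr.leaf) 22657 6
 (Tr.node (Tr.node Tr.leaf 22661 6
 Tr.leaf) 22665 6
 Tr.leaf)) 22666 6
 (Tr.node (Tr.node (Tr.node Tr.leaf 22670 5
 Tr.leaf) 22675 7
 Tr.leaf) 22683 6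
 (Tr.node Tr.leaf 22690 5
 Tr.leaf))) 22693 6
 (Tr.node (Tr.node (Tr.node (Tr.node Tr.leaf 22694 6
 Tr.leaf) 22697 6
 Tr.leaf) 22701 6
 (Tr.node (Tr.node Tr.leaf 22711 6
 Tr.leaf) 22715 6
 Tr.leaf)) 22719 7
 (Tr.node (Tr.node (Tr.node Tr.leaf 22723 6
 Tr.leaf) 22731 7
 Tr.leaf) 22735 7
 (Tr.node Tr.leaf 22737 7
 Tr.leaf)))))) 22738 6
 (Tr.node (Tr.node (Tr.node (Tr.node (Tr.node (Tr.node (Tr.node Tr.leaf 22741 7
 Tr.leaf) 22742 6
 Tr.leaf) 22745 6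
 (Tr.node (Tr.node Tr.leaf 22746 6
 Tr.leaf) 22749 7
 Tr.leaf)) 22755 7
 (Tr.node (Tr.node (Tr.node Tr.leaf 22763 7
 Tr.leaf) 22767 6
 Tr.leaf) 22777 6
 (Tr.node (Tr.node Tr.leaf 22778 6
 Tr.leaf) 22782 6
 Tr.leaf))) 22785 6
 (Tr.node (Tr.node (Tr.node (Tr.node Tr.leaf 22786 6
 Tr.leaf) 22790 7
 Tr.leaf) 22794 7
 (Tr.node (Tr.node Tr.leaf 22803 6
 Tr.leaf) 22811 7
 Tr.leaf)) 22815 7
 (Tr.node (Tr.node (Tr.node Tr.leaf 22818 7
 Tr.leaf) 22821 6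
 Tr.leaf) 22825 6
 (Tr.node Tr.leaf 22830 6
 Tr.leaf)))) 22839 7
 (Tr.node (Tr.node (Tr.node (Tr.node (Tr.node Tr.leaf 22843 7
 Tr.leaf) 22847 6
 Tr.leaf) 22851 7
 (Tr.node (Tr.node Tr.leaf 22855 7
 Tr.leaf) 22859 6
 Tr.leaf)) 22865 6
 (Tr.node (Tr.node (Tr.node Tr.leaf 22869 7
 Tr.leaf) 22870 7
 Tr.leaf) 22873 7
 (Tr.node Tr.leaf 22883 6
 Tr.leaf))) 22891 6
 (Tr.node (Tr.node (Tr.node (Tr.node Tr.leaf 22895 7
 Tr.leaf) 22897 7
 Tr.leaf) 22902 7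
 (Tr.node (Tr.node Tr.leaf 22905 7
 Tr.leaf) 22909 6
 Tr.leaf)) 22923 6
 (Tr.node (Tr.node (Tr.node Tr.leaf 22929 7
 Tr.leaf) 22930 7
 Tr.leaf) 22933 7
 (Tr.node Tr.leaf 22934 5
 Tr.leaf))))) 22938 7
 (Tr.node (Tr.node (Tr.node (Tr.node (Tr.node (Tr.node Tr.leaf 22941 7
 Tr.leaf) 22947 7
 Tr.leaf) 22951 7
 (Tr.node (Tr.node Tr.leaf 22955 6
 Tr.leaf) 22959 7
 Tr.leaf)) 22961 7
 (Tr.node (Tr.node (Tr.node Tr.leaf 22962 7
 Tr.leaf) 22965 7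
 Tr.leaf) 22970 6
 (Tr.node (Tr.node Tr.leaf 22973 7
 Tr.leaf) 22977 7
 Tr.leaf))) 22978 6
 (Tr.node (Tr.node (Tr.node (Tr.node Tr.leaf 22981 6
 Tr.leaf) 22985 6
 Tr.leaf) 22986 6
 (Tr.node (Tr.node Tr.leaf 22995 8
 Tr.leaf) 23014 6
 Tr.leaf)) 23017 6
 (Tr.node (Tr.node (Tr.node Tr.leaf 23018 6
 Tr.leaf) 23021 7
 Tr.leaf) 23022 6
 (Tr.node Tr.leaf 23039 8
 Tr.leaf)))) 23557 6
 (Tr.node (Tr.node (Tr.node (Tr.node (Tr.node Tr.leaf 23559 6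
 Tr.leaf) 23561 6
 Tr.leaf) 23563 6
 (Tr.node (Tr.node Tr.leaf 23597 6
 Tr.leaf) 23599 6
 Tr.leaf)) 23633 7
 (Tr.node (Tr.node (Tr.node Tr.leaf 23637 7
 Tr.leaf) 23645 7
 Tr.leaf) 23667 6
 (Tr.node Tr.leaf 23669 7
 Tr.leaf))) 23671 6
 (Tr.node (Tr.node (Tr.node (Tr.node Tr.leaf 23673 6
 Tr.leaf) 23675 7
 Tr.leaf) 23697 7
 (Tr.node (Tr.node Tr.leaf 23699 7
 Tr.leaf) 23701 7
 Tr.leaf)) 23709 6
 (Tr.node (Tr.node (Tr.node Tr.leaf 23729 6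
 Tr.leaf) 23733 7
 Tr.leaf) 23735 7
 (Tr.node Tr.leaf 23737 7
 Tr.leaf))))))))

/-- A subtree. -/
def tr1_s6 : Tr := (Tr.node (Tr.node (Tr.node (Tr.node (Tr.node (Tr.node (Tr.node (Tr.node (Tr.node Tr.leaf 23745 7
 Tr.leaf) 23747 7
 Tr.leaf) 23749 7
 (Tr.node (Tr.node Tr.leaf 23755 7
 Tr.leaf) 23759 7
 Tr.leaf)) 23779 7
 (Tr.node (Tr.node (Tr.node Tr.leaf 23781 7
 Tr.leaf) 23791 7
 Tr.leaf) 23825 7
 (Tr.node (Tr.node Tr.leaf 23829 6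
 Tr.leaf) 23833 6
 Tr.leaf))) 23837 5
 (Tr.node (Tr.node (Tr.node (Tr.node Tr.leaf 23857 6
 Tr.leaf) 23859 5
 Tr.leaf) 23861 6
 (Tr.node (Tr.node Tr.leaf 23863 6
 Tr.leaf) 23865 6
 Tr.leaf)) 23873 7
 (Tr.node (Tr.node (Tr.node Tr.leaf 23875 7
 Tr.leaf) 23877 7
 Tr.leaf) 23879 7
 (Tr.node Tr.leaf 23883 7
 Tr.leaf)))) 23907 6
 (Tr.node (Tr.node (Tr.node (Tr.node (Tr.node Tr.leaf 23911 7
 Tr.leaf) 23913 7
 Tr.leaf) 23915 7
 (Tr.node (Tr.node Tr.leaf 23917 7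
 Tr.leaf) 23919 7
 Tr.leaf)) 23939 7
 (Tr.node (Tr.node (Tr.node Tr.leaf 23943 6
 Tr.leaf) 23947 7
 Tr.leaf) 23949 6
 (Tr.node (Tr.node Tr.leaf 23951 7
 Tr.leaf) 23971 7
 Tr.leaf))) 23977 6
 (Tr.node (Tr.node (Tr.node (Tr.node Tr.leaf 23979 6
 Tr.leaf) 23981 7
 Tr.leaf) 24023 8
 (Tr.node (Tr.node Tr.leaf 24027 8
 Tr.leaf) 24029 7
 Tr.leaf)) 24053 8
 (Tr.node (Tr.node (Tr.node Tr.leaf 24055 8
 Tr.leaf) 24057 7
 Tr.leaf) 24577 4
 (Tr.node Tr.leaf 24578 4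
 Tr.leaf))))) 24580 4
 (Tr.node (Tr.node (Tr.node (Tr.node (Tr.node (Tr.node Tr.leaf 24589 6
 Tr.leaf) 24593 4
 Tr.leaf) 24594 3
 (Tr.node (Tr.node Tr.leaf 24596 3
 Tr.leaf) 24603 6
 Tr.leaf)) 24605 6
 (Tr.node (Tr.node (Tr.node Tr.leaf 24609 4
 Tr.leaf) 24610 4
 Tr.leaf) 24612 4
 (Tr.node (Tr.node Tr.leaf 24615 6
 Tr.leaf) 24622 6
 Tr.leaf))) 24625 4
 (Tr.node (Tr.node (Tr.node (Tr.node Tr.leaf 24626 4
 Tr.leaf) 24628 4
 Tr.leaf) 24635 6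
 (Tr.node (Tr.node Tr.leaf 24645 6
 Tr.leaf) 24646 5
 Tr.leaf)) 24649 6
 (Tr.node (Tr.node (Tr.node Tr.leaf 24650 5
 Tr.leaf) 24652 5
 Tr.leaf) 24655 7
 (Tr.node Tr.leaf 24666 7
 Tr.leaf)))) 24668 7
 (Tr.node (Tr.node (Tr.node (Tr.node (Tr.node Tr.leaf 24671 7
 Tr.leaf) 24678 6
 Tr.leaf) 24691 6
 (Tr.node (Tr.node Tr.leaf 24694 5
 Tr.leaf) 24697 6
 Tr.leaf)) 24698 5
 (Tr.node (Tr.node (Tr.node Tr.leaf 24700 5
 Tr.leaf) 24703 7
 Tr.leaf) 24707 7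
 (Tr.node Tr.leaf 24709 6
 Tr.leaf))) 24710 5
 (Tr.node (Tr.node (Tr.node (Tr.node Tr.leaf 24713 7
 Tr.leaf) 24714 6
 Tr.leaf) 24716 7
 (Tr.node (Tr.node Tr.leaf 24719 7
 Tr.leaf) 24723 6
 Tr.leaf)) 24729 6
 (Tr.node (Tr.node (Tr.node Tr.leaf 24730 5
 Tr.leaf) 24732 6
 Tr.leaf) 24739 6
 (Tr.node Tr.leaf 24741 6
 Tr.leaf)))))) 24748 6
 (Tr.node (Tr.node (Tr.node (Tr.node (Tr.node (Tr.node (Tr.node Tr.leaf 24751 6
 Tr.leaf) 24758 5
 Tr.leaf) 24761 7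
 (Tr.node (Tr.node Tr.leaf 24767 7
 Tr.leaf) 24769 6
 Tr.leaf)) 24782 6
 (Tr.node (Tr.node (Tr.node Tr.leaf 24786 6
 Tr.leaf) 24795 5
 Tr.leaf) 24797 5
 (Tr.node (Tr.node Tr.leaf 24802 6
 Tr.leaf) 24804 6
 Tr.leaf))) 24811 7
 (Tr.node (Tr.node (Tr.node (Tr.node Tr.leaf 24818 7
 Tr.leaf) 24820 6
 Tr.leaf) 24823 7
 (Tr.node (Tr.node Tr.leaf 24827 6
 Tr.leaf) 24829 7
 Tr.leaf)) 24830 6
 (Tr.node (Tr.node (Tr.node Tr.leaf 24838 5
 Tr.leaf) 24841 7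
 Tr.leaf) 24847 7
 (Tr.node Tr.leaf 24853 6
 Tr.leaf)))) 24857 6
 (Tr.node (Tr.node (Tr.node (Tr.node (Tr.node Tr.leaf 24858 6
 Tr.leaf) 24860 5
 Tr.leaf) 24867 6
 (Tr.node (Tr.node Tr.leaf 24869 6
 Tr.leaf) 24874 6
 Tr.leaf)) 24879 6
 (Tr.node (Tr.node (Tr.node Tr.leaf 24883 6
 Tr.leaf) 24885 7
 Tr.leaf) 24886 6
 (Tr.node (Tr.node Tr.leaf 24889 7
 Tr.leaf) 24890 7
 Tr.leaf))) 24892 6
 (Tr.node (Tr.node (Tr.node (Tr.node Tr.leaf 24895 7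
 Tr.leaf) 24898 6
 Tr.leaf) 24900 7
 (Tr.node (Tr.node Tr.leaf 24903 7
 Tr.leaf) 24907 7
 Tr.leaf)) 24909 6
 (Tr.node (Tr.node (Tr.node Tr.leaf 24910 6
 Tr.leaf) 24916 6
 Tr.leaf) 24923 5
 (Tr.node Tr.leaf 24925 5
 Tr.leaf))))) 24930 6
 (Tr.node (Tr.node (Tr.node (Tr.node (Tr.node (Tr.node Tr.leaf 24932 6
 Tr.leaf) 24941 7
 Tr.leaf) 24945 6
 (Tr.node (Tr.node Tr.leaf 24958 6
 Tr.leaf) 24973 6
 Tr.leaf)) 24977 5
 (Tr.node (Tr.node (Tr.node Tr.leaf 24978 6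
 Tr.leaf) 24980 6
 Tr.leaf) 24993 5
 (Tr.node (Tr.node Tr.leaf 24999 6
 Tr.leaf) 25000 6
 Tr.leaf))) 25019 6
 (Tr.node (Tr.node (Tr.node (Tr.node Tr.leaf 25029 7
 Tr.leaf) 25033 6
 Tr.leaf) 25039 7
 (Tr.node (Tr.node Tr.leaf 25043 5
 Tr.leaf) 25045 5
 Tr.leaf)) 25046 5
 (Tr.node (Tr.node (Tr.node Tr.leaf 25050 4
 Tr.leaf) 25052 4
 Tr.leaf) 25055 7
 (Tr.node Tr.leaf 25062 5
 Tr.leaf)))) 25066 5
 (Tr.node (Tr.node (Tr.node (Tr.node (Tr.node Tr.leaf 25068 5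
 Tr.leaf) 25075 7
 Tr.leaf) 25081 6
 (Tr.node (Tr.node Tr.leaf 25087 7
 Tr.leaf) 25605 6
 Tr.leaf)) 25611 6
 (Tr.node (Tr.node (Tr.node Tr.leaf 25623 6
 Tr.leaf) 25643 6
 Tr.leaf) 25653 6
 (Tr.node Tr.leaf 25693 7
 Tr.leaf))) 25709 6
 (Tr.node (Tr.node (Tr.node (Tr.node Tr.leaf 25711 7
 Tr.leaf) 25713 6
 Tr.leaf) 25715 6
 (Tr.node (Tr.node Tr.leaf 25725 6
 Tr.leaf) 25729 7
 Tr.leaf)) 25747 7
 (Tr.node (Tr.node (Tr.node Tr.leaf 25757 6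
 Tr.leaf) 25763 7
 Tr.leaf) 25773 6
 (Tr.node Tr.leaf 25775 6
 Tr.leaf))))))) 25777 7
 (Tr.node (Tr.node (Tr.node (Tr.node (Tr.node (Tr.node (Tr.node (Tr.node Tr.leaf 25779 7
 Tr.leaf) 25789 7
 Tr.leaf) 25791 6
 (Tr.node (Tr.node Tr.leaf 25803 7
 Tr.leaf) 25813 7
 Tr.leaf)) 25815 7
 (Tr.node (Tr.node (Tr.node Tr.leaf 25835 7
 Tr.leaf) 25845 7
 Tr.leaf) 25847 7
 (Tr.node (Tr.node Tr.leaf 25851 7
 Tr.leaf) 25859 6
 Tr.leaf))) 25869 6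
 (Tr.node (Tr.node (Tr.node (Tr.node Tr.leaf 25875 6
 Tr.leaf) 25885 7
 Tr.leaf) 25901 6
 (Tr.node (Tr.node Tr.leaf 25917 6
 Tr.leaf) 25919 6
 Tr.leaf)) 25925 6
 (Tr.node (Tr.node (Tr.node Tr.leaf 25931 6
 Tr.leaf) 25941 6
 Tr.leaf) 25945 7
 (Tr.node Tr.leaf 25947 7
 Tr.leaf)))) 25959 5
 (Tr.node (Tr.node (Tr.node (Tr.node (Tr.node Tr.leaf 25961 5
 Tr.leaf) 25973 7
 Tr.leaf) 25975 7
 (Tr.node (Tr.node Tr.leaf 25977 6
 Tr.leaf) 25989 5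
 Tr.leaf)) 25995 6
 (Tr.node (Tr.node (Tr.node Tr.leaf 26007 7
 Tr.leaf) 26009 7
 Tr.leaf) 26011 6
 (Tr.node (Tr.node Tr.leaf 26021 6
 Tr.leaf) 26023 6
 Tr.leaf))) 26027 7
 (Tr.node (Tr.node (Tr.node (Tr.node Tr.leaf 26039 6
 Tr.leaf) 26049 6
 Tr.leaf) 26051 7
 (Tr.node (Tr.node Tr.leaf 26061 7
 Tr.leaf) 26063 7
 Tr.leaf)) 26065 7
 (Tr.node (Tr.node (Tr.node Tr.leaf 26077 8
 Tr.leaf) 26079 8
 Tr.leaf) 26083 7
 (Tr.node Tr.leaf 26093 7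
 Tr.leaf))))) 26097 7
 (Tr.node (Tr.node (Tr.node (Tr.node (Tr.node (Tr.node Tr.leaf 26631 6
 Tr.leaf) 26638 6
 Tr.leaf) 26643 6
 (Tr.node (Tr.node Tr.leaf 26650 6
 Tr.leaf) 26665 6
 Tr.leaf)) 26679 6
 (Tr.node (Tr.node (Tr.node Tr.leaf 26681 6
 Tr.leaf) 26686 6
 Tr.leaf) 26689 6
 (Tr.node (Tr.node Tr.leaf 26693 6
 Tr.leaf) 26694 6
 Tr.leaf))) 26703 6
 (Tr.node (Tr.node (Tr.node (Tr.node Tr.leaf 26706 6
 Tr.leaf) 26710 5
 Tr.leaf) 26719 7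
 (Tr.node (Tr.node Tr.leaf 26722 6
 Tr.leaf) 26731 7
 Tr.leaf)) 26735 6
 (Tr.node (Tr.node (Tr.node Tr.leaf 26742 6
 Tr.leaf) 26763 6
 Tr.leaf) 26767 6
 (Tr.node Tr.leaf 26769 6
 Tr.leaf)))) 26774 5
 (Tr.node (Tr.node (Tr.node (Tr.node (Tr.node Tr.leaf 26783 7
 Tr.leaf) 26786 5
 Tr.leaf) 26799 6
 (Tr.node (Tr.node Tr.leaf 26801 6
 Tr.leaf) 26815 6
 Tr.leaf)) 26819 7
 (Tr.node (Tr.node (Tr.node Tr.leaf 26823 7
 Tr.leaf) 26826 6
 Tr.leaf) 26829 6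
 (Tr.node Tr.leaf 26830 6
 Tr.leaf))) 26839 5
 (Tr.node (Tr.node (Tr.node (Tr.node Tr.leaf 26841 7
 Tr.leaf) 26842 6
 Tr.leaf) 26845 6
 (Tr.node (Tr.node Tr.leaf 26846 7
 Tr.leaf) 26851 6
 Tr.leaf)) 26861 5
 (Tr.node (Tr.node (Tr.node Tr.leaf 26862 6
 Tr.leaf) 26871 6
 Tr.leaf) 26873 6
 (Tr.node Tr.leaf 26874 6
 Tr.leaf)))))) 26878 6
 (Tr.node (Tr.node (Tr.node (Tr.node (Tr.node (Tr.node (Tr.node Tr.leaf 26881 7
 Tr.leaf) 26885 7
 Tr.leaf) 26891 6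
 (Tr.node (Tr.node Tr.leaf 26895 7
 Tr.leaf) 26897 7
 Tr.leaf)) 26902 5
 (Tr.node (Tr.node (Tr.node Tr.leaf 26911 6
 Tr.leaf) 26913 7
 Tr.leaf) 26914 5
 (Tr.node (Tr.node Tr.leaf 26923 6
 Tr.leaf) 26927 6
 Tr.leaf))) 26933 7
 (Tr.node (Tr.node (Tr.node (Tr.node Tr.leaf 26947 7
 Tr.leaf) 26951 7
 Tr.leaf) 26953 7
 (Tr.node (Tr.node Tr.leaf 26958 6
 Tr.leaf) 26963 7
 Tr.leaf)) 26967 7
 (Tr.node (Tr.node (Tr.node Tr.leaf 26970 5
 Tr.leaf) 26985 7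
 Tr.leaf) 26986 7
 (Tr.node Tr.leaf 26990 6
 Tr.leaf)))) 27001 7
 (Tr.node (Tr.node (Tr.node (Tr.node (Tr.node Tr.leaf 27002 5
 Tr.leaf) 27011 6
 Tr.leaf) 27018 6
 (Tr.node (Tr.node Tr.leaf 27027 7
 Tr.leaf) 27033 6
 Tr.leaf)) 27034 6
 (Tr.node (Tr.node (Tr.node Tr.leaf 27037 7
 Tr.leaf) 27043 6
 Tr.leaf) 27047 6
 (Tr.node (Tr.node Tr.leaf 27049 7
 Tr.leaf) 27050 6
 Tr.leaf))) 27054 6
 (Tr.node (Tr.node (Tr.node (Tr.node Tr.leaf 27063 5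
 Tr.leaf) 27065 6
 Tr.leaf) 27070 5
 (Tr.node (Tr.node Tr.leaf 27077 7
 Tr.leaf) 27078 6
 Tr.leaf)) 27090 6
 (Tr.node (Tr.node (Tr.node Tr.leaf 27093 7
 Tr.leaf) 27099 8
 Tr.leaf) 27103 8
 (Tr.node Tr.leaf 27105 7
 Tr.leaf))))) 27106 7
 (Tr.node (Tr.node (Tr.node (Tr.node (Tr.node (Tr.node Tr.leaf 27110 6
 Tr.leaf) 27119 7
 Tr.leaf) 27121 7
 (Tr.node (Tr.node Tr.leaf 27122 6
 Tr.leaf) 27125 6
 Tr.leaf)) 27131 8
 (Tr.node (Tr.node (Tr.node Tr.leaf 27135 7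
 Tr.leaf) 27651 6
 Tr.leaf) 27669 6
 (Tr.node (Tr.node Tr.leaf 27681 6
 Tr.leaf) 27687 6
 Tr.leaf))) 27699 6
 (Tr.node (Tr.node (Tr.node (Tr.node Tr.leaf 27721 7
 Tr.leaf) 27725 6
 Tr.leaf) 27727 6
 (Tr.node (Tr.node Tr.leaf 27737 6
 Tr.leaf) 27743 6
 Tr.leaf)) 27755 6
 (Tr.node (Tr.node (Tr.node Tr.leaf 27769 6
 Tr.leaf) 27773 6
 Tr.leaf) 27775 7
 (Tr.node Tr.leaf 27785 5
 Tr.leaf)))) 27787 6
 (Tr.node (Tr.node (Tr.node (Tr.node (Tr.node Tr.leaf 27789 6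
 Tr.leaf) 27791 7
 Tr.leaf) 27803 5
 (Tr.node (Tr.node Tr.leaf 27805 6
 Tr.leaf) 27833 7
 Tr.leaf)) 27837 6
 (Tr.node (Tr.node (Tr.node Tr.leaf 27839 6
 Tr.leaf) 27845 7
 Tr.leaf) 27847 6
 (Tr.node Tr.leaf 27863 6
 Tr.leaf))) 27875 6
 (Tr.node (Tr.node (Tr.node (Tr.node Tr.leaf 27877 7
 Tr.leaf) 27879 6
 Tr.leaf) 27889 6
 (Tr.node (Tr.node Tr.leaf 27891 7
 Tr.leaf) 27893 6
 Tr.leaf)) 27913 5
 (Tr.node (Tr.node (Tr.node Tr.leaf 27917 6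
 Tr.leaf) 27919 7
 Tr.leaf) 27931 5
 (Tr.node Tr.leaf 27933 6
 Tr.leaf))))))))

/-- A subtree. -/
def tr1_s7 : Tr := (Tr.node (Tr.node (Tr.node (Tr.node (Tr.node (Tr.node (Tr.node (Tr.node (Tr.node Tr.leaf 27963 6
 Tr.leaf) 27965 6
 Tr.leaf) 27967 6
 (Tr.node (Tr.node Tr.leaf 27971 7
 Tr.leaf) 27973 6
 Tr.leaf)) 27975 6
 (Tr.node (Tr.node (Tr.node Tr.leaf 27985 6
 Tr.leaf) 28001 6
 Tr.leaf) 28003 6
 (Tr.node (Tr.node Tr.leaf 28005 7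
 Tr.leaf) 28017 6
 Tr.leaf))) 28021 7
 (Tr.node (Tr.node (Tr.node (Tr.node Tr.leaf 28033 6
 Tr.leaf) 28035 6
 Tr.leaf) 28037 6
 (Tr.node (Tr.node Tr.leaf 28065 7
 Tr.leaf) 28069 7
 Tr.leaf)) 28071 7
 (Tr.node (Tr.node (Tr.node Tr.leaf 28083 6
 Tr.leaf) 28085 6
 Tr.leaf) 28087 6
 (Tr.node Tr.leaf 28105 7
 Tr.leaf)))) 28107 7
 (Tr.node (Tr.node (Tr.node (Tr.node (Tr.node Tr.leaf 28109 7
 Tr.leaf) 28111 8
 Tr.leaf) 28121 7
 (Tr.node (Tr.node Tr.leaf 28123 7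
 Tr.leaf) 28127 7
 Tr.leaf)) 28153 8
 (Tr.node (Tr.node (Tr.node Tr.leaf 28155 7
 Tr.leaf) 28157 7
 Tr.leaf) 28159 7
 (Tr.node (Tr.node Tr.leaf 28683 6
 Tr.leaf) 28709 6
 Tr.leaf))) 28710 6
 (Tr.node (Tr.node (Tr.node (Tr.node Tr.leaf 28715 6
 Tr.leaf) 28718 6
 Tr.leaf) 28725 6
 (Tr.node (Tr.node Tr.leaf 28737 6
 Tr.leaf) 28738 7
 Tr.leaf)) 28743 7
 (Tr.node (Tr.node (Tr.node Tr.leaf 28745 6
 Tr.leaf) 28748 7
 Tr.leaf) 28751 6
 (Tr.node Tr.leaf 28756 6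
 Tr.leaf))))) 28759 6
 (Tr.node (Tr.node (Tr.node (Tr.node (Tr.node (Tr.node Tr.leaf 28762 6
 Tr.leaf) 28767 6
 Tr.leaf) 28770 6
 (Tr.node (Tr.node Tr.leaf 28772 7
 Tr.leaf) 28778 7
 Tr.leaf)) 28780 6
 (Tr.node (Tr.node (Tr.node Tr.leaf 28785 6
 Tr.leaf) 28786 7
 Tr.leaf) 28791 6
 (Tr.node (Tr.node Tr.leaf 28793 6
 Tr.leaf) 28796 7
 Tr.leaf))) 28799 7
 (Tr.node (Tr.node (Tr.node (Tr.node Tr.leaf 28801 7
 Tr.leaf) 28807 6
 Tr.leaf) 28810 6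
 (Tr.node (Tr.node Tr.leaf 28812 6
 Tr.leaf) 28815 6
 Tr.leaf)) 28820 7
 (Tr.node (Tr.node (Tr.node Tr.leaf 28823 6
 Tr.leaf) 28825 7
 Tr.leaf) 28826 5
 (Tr.node Tr.leaf 28831 7
 Tr.leaf)))) 28833 7
 (Tr.node (Tr.node (Tr.node (Tr.node (Tr.node Tr.leaf 28834 6
 Tr.leaf) 28836 7
 Tr.leaf) 28841 7
 (Tr.node (Tr.node Tr.leaf 28842 6
 Tr.leaf) 28849 7
 Tr.leaf)) 28850 5
 (Tr.node (Tr.node (Tr.node Tr.leaf 28852 6
 Tr.leaf) 28855 6
 Tr.leaf) 28858 6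
 (Tr.node Tr.leaf 28860 7
 Tr.leaf))) 28867 7
 (Tr.node (Tr.node (Tr.node (Tr.node Tr.leaf 28883 7
 Tr.leaf) 28885 6
 Tr.leaf) 28886 5
 (Tr.node (Tr.node Tr.leaf 28891 5
 Tr.leaf) 28899 6
 Tr.leaf)) 28902 7
 (Tr.node (Tr.node (Tr.node Tr.leaf 28907 6
 Tr.leaf) 28909 7
 Tr.leaf) 28910 6
 (Tr.node Tr.leaf 28917 6
 Tr.leaf)))))) 28918 6
 (Tr.node (Tr.node (Tr.node (Tr.node (Tr.node (Tr.node (Tr.node Tr.leaf 28925 7
 Tr.leaf) 28926 7
 Tr.leaf) 28930 7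
 (Tr.node (Tr.node Tr.leaf 28932 6
 Tr.leaf) 28937 7
 Tr.leaf)) 28938 6
 (Tr.node (Tr.node (Tr.node Tr.leaf 28940 6
 Tr.leaf) 28943 6
 Tr.leaf) 28945 7
 (Tr.node (Tr.node Tr.leaf 28948 6
 Tr.leaf) 28951 7
 Tr.leaf))) 28954 7
 (Tr.node (Tr.node (Tr.node (Tr.node Tr.leaf 28959 6
 Tr.leaf) 28961 7
 Tr.leaf) 28964 6
 (Tr.node (Tr.node Tr.leaf 28969 7
 Tr.leaf) 28970 7
 Tr.leaf)) 28972 5
 (Tr.node (Tr.node (Tr.node Tr.leaf 28978 6
 Tr.leaf) 28980 5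
 Tr.leaf) 28983 6
 (Tr.node Tr.leaf 28985 7
 Tr.leaf)))) 28991 6
 (Tr.node (Tr.node (Tr.node (Tr.node (Tr.node Tr.leaf 28995 7
 Tr.leaf) 28998 7
 Tr.leaf) 29003 6
 (Tr.node (Tr.node Tr.leaf 29006 6
 Tr.leaf) 29013 6
 Tr.leaf)) 29019 6
 (Tr.node (Tr.node (Tr.node Tr.leaf 29021 7
 Tr.leaf) 29022 6
 Tr.leaf) 29027 7
 (Tr.node (Tr.node Tr.leaf 29029 6
 Tr.leaf) 29030 6
 Tr.leaf))) 29037 5
 (Tr.node (Tr.node (Tr.node (Tr.node Tr.leaf 29038 7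
 Tr.leaf) 29053 6
 Tr.leaf) 29059 7
 (Tr.node (Tr.node Tr.leaf 29067 7
 Tr.leaf) 29069 7
 Tr.leaf)) 29077 7
 (Tr.node (Tr.node (Tr.node Tr.leaf 29083 7
 Tr.leaf) 29091 7
 Tr.leaf) 29093 7
 (Tr.node Tr.leaf 29094 7
 Tr.leaf))))) 29099 7
 (Tr.node (Tr.node (Tr.node (Tr.node (Tr.node (Tr.node Tr.leaf 29101 7
 Tr.leaf) 29102 7
 Tr.leaf) 29107 7
 (Tr.node (Tr.node Tr.leaf 29109 7
 Tr.leaf) 29117 7
 Tr.leaf)) 29130 6
 (Tr.node (Tr.node (Tr.node Tr.leaf 29132 6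
 Tr.leaf) 29137 7
 Tr.leaf) 29140 7
 (Tr.node (Tr.node Tr.leaf 29143 7
 Tr.leaf) 29145 7
 Tr.leaf))) 29146 7
 (Tr.node (Tr.node (Tr.node (Tr.node Tr.leaf 29151 7
 Tr.leaf) 29170 6
 Tr.leaf) 29172 6
 (Tr.node (Tr.node Tr.leaf 29697 6
 Tr.leaf) 29715 6
 Tr.leaf)) 29721 6
 (Tr.node (Tr.node (Tr.node Tr.leaf 29729 6
 Tr.leaf) 29747 6
 Tr.leaf) 29753 6
 (Tr.node Tr.leaf 29773 7
 Tr.leaf)))) 29775 6
 (Tr.node (Tr.node (Tr.node (Tr.node (Tr.node Tr.leaf 29789 7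
 Tr.leaf) 29797 7
 Tr.leaf) 29799 6
 (Tr.node (Tr.node Tr.leaf 29805 6
 Tr.leaf) 29823 6
 Tr.leaf)) 29837 7
 (Tr.node (Tr.node (Tr.node Tr.leaf 29839 7
 Tr.leaf) 29853 7
 Tr.leaf) 29855 7
 (Tr.node Tr.leaf 29863 7
 Tr.leaf))) 29871 6
 (Tr.node (Tr.node (Tr.node (Tr.node Tr.leaf 29887 6
 Tr.leaf) 29889 7
 Tr.leaf) 29891 6
 (Tr.node (Tr.node Tr.leaf 29899 7
 Tr.leaf) 29907 7
 Tr.leaf)) 29915 7
 (Tr.node (Tr.node (Tr.node Tr.leaf 29923 7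
 Tr.leaf) 29939 7
 Tr.leaf) 29945 6
 (Tr.node Tr.leaf 29947 7
 Tr.leaf))))))) 29959 7
 (Tr.node (Tr.node (Tr.node (Tr.node (Tr.node (Tr.node (Tr.node (Tr.node Tr.leaf 29965 7
 Tr.leaf) 29973 6
 Tr.leaf) 29983 7
 (Tr.node (Tr.node Tr.leaf 29991 7
 Tr.leaf) 29997 7
 Tr.leaf)) 29999 5
 (Tr.node (Tr.node (Tr.node Tr.leaf 30017 7
 Tr.leaf) 30019 6
 Tr.leaf) 30025 7
 (Tr.node (Tr.node Tr.leaf 30027 7
 Tr.leaf) 30033 6
 Tr.leaf))) 30049 6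
 (Tr.node (Tr.node (Tr.node (Tr.node Tr.leaf 30051 6
 Tr.leaf) 30059 5
 Tr.leaf) 30073 6
 (Tr.node (Tr.node Tr.leaf 30083 7
 Tr.leaf) 30089 6
 Tr.leaf)) 30099 6
 (Tr.node (Tr.node (Tr.node Tr.leaf 30107 7
 Tr.leaf) 30121 7
 Tr.leaf) 30123 6
 (Tr.node Tr.leaf 30129 6
 Tr.leaf)))) 30137 7
 (Tr.node (Tr.node (Tr.node (Tr.node (Tr.node Tr.leaf 30139 6
 Tr.leaf) 30149 7
 Tr.leaf) 30157 7
 (Tr.node (Tr.node Tr.leaf 30165 8
 Tr.leaf) 30167 7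
 Tr.leaf)) 30181 7
 (Tr.node (Tr.node (Tr.node Tr.leaf 30183 7
 Tr.leaf) 30191 8
 Tr.leaf) 30207 7
 (Tr.node (Tr.node Tr.leaf 30725 6
 Tr.leaf) 30726 6
 Tr.leaf))) 30729 6
 (Tr.node (Tr.node (Tr.node (Tr.node Tr.leaf 30734 6
 Tr.leaf) 30738 6
 Tr.leaf) 30741 6
 (Tr.node (Tr.node Tr.leaf 30745 6
 Tr.leaf) 30746 6
 Tr.leaf)) 30765 6
 (Tr.node (Tr.node (Tr.node Tr.leaf 30774 6
 Tr.leaf) 30781 6
 Tr.leaf) 30782 6
 (Tr.node Tr.leaf 30787 6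
 Tr.leaf))))) 30807 7
 (Tr.node (Tr.node (Tr.node (Tr.node (Tr.node (Tr.node Tr.leaf 30823 6
 Tr.leaf) 30827 6
 Tr.leaf) 30831 7
 (Tr.node (Tr.node Tr.leaf 30835 6
 Tr.leaf) 30839 7
 Tr.leaf)) 30867 7
 (Tr.node (Tr.node (Tr.node Tr.leaf 30879 5
 Tr.leaf) 30883 6
 Tr.leaf) 30887 7
 (Tr.node (Tr.node Tr.leaf 30891 7
 Tr.leaf) 30903 7
 Tr.leaf))) 30907 7
 (Tr.node (Tr.node (Tr.node (Tr.node Tr.leaf 30914 6
 Tr.leaf) 30917 6
 Tr.leaf) 30938 7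
 (Tr.node (Tr.node Tr.leaf 30941 5
 Tr.leaf) 30945 6
 Tr.leaf)) 30953 6
 (Tr.node (Tr.node (Tr.node Tr.leaf 30954 7
 Tr.leaf) 30957 6
 Tr.leaf) 30961 7
 (Tr.node Tr.leaf 30965 7
 Tr.leaf)))) 30969 6
 (Tr.node (Tr.node (Tr.node (Tr.node (Tr.node Tr.leaf 30970 7
 Tr.leaf) 30973 7
 Tr.leaf) 30974 6
 (Tr.node (Tr.node Tr.leaf 30979 6
 Tr.leaf) 30995 7
 Tr.leaf)) 30999 7
 (Tr.node (Tr.node (Tr.node Tr.leaf 31011 7
 Tr.leaf) 31019 7
 Tr.leaf) 31027 7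
 (Tr.node Tr.leaf 31031 7
 Tr.leaf))) 31041 7
 (Tr.node (Tr.node (Tr.node (Tr.node Tr.leaf 31042 5
 Tr.leaf) 31045 6
 Tr.leaf) 31046 7
 (Tr.node (Tr.node Tr.leaf 31049 7
 Tr.leaf) 31050 6
 Tr.leaf)) 31057 7
 (Tr.node (Tr.node (Tr.node Tr.leaf 31058 6
 Tr.leaf) 31065 7
 Tr.leaf) 31070 6
 (Tr.node Tr.leaf 31074 6
 Tr.leaf)))))) 31081 7
 (Tr.node (Tr.node (Tr.node (Tr.node (Tr.node (Tr.node (Tr.node Tr.leaf 31082 7
 Tr.leaf) 31086 6
 Tr.leaf) 31089 7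
 (Tr.node (Tr.node Tr.leaf 31094 5
 Tr.leaf) 31097 6
 Tr.leaf)) 31101 7
 (Tr.node (Tr.node (Tr.node Tr.leaf 31102 6
 Tr.leaf) 31105 6
 Tr.leaf) 31109 7
 (Tr.node (Tr.node Tr.leaf 31110 6
 Tr.leaf) 31114 6
 Tr.leaf))) 31117 6
 (Tr.node (Tr.node (Tr.node (Tr.node Tr.leaf 31118 6
 Tr.leaf) 31121 7
 Tr.leaf) 31122 6
 (Tr.node (Tr.node Tr.leaf 31126 6
 Tr.leaf) 31129 6
 Tr.leaf)) 31130 7
 (Tr.node (Tr.node (Tr.node Tr.leaf 31137 6
 Tr.leaf) 31138 7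
 Tr.leaf) 31141 7
 (Tr.node Tr.leaf 31146 6
 Tr.leaf)))) 31150 6
 (Tr.node (Tr.node (Tr.node (Tr.node (Tr.node Tr.leaf 31154 6
 Tr.leaf) 31157 6
 Tr.leaf) 31158 6
 (Tr.node (Tr.node Tr.leaf 31161 7
 Tr.leaf) 31162 6
 Tr.leaf)) 31171 7
 (Tr.node (Tr.node (Tr.node Tr.leaf 31195 7
 Tr.leaf) 31199 8
 Tr.leaf) 31203 8
 (Tr.node Tr.leaf 31211 7
 Tr.leaf))) 31215 7
 (Tr.node (Tr.node (Tr.node (Tr.node Tr.leaf 31223 8
 Tr.leaf) 31231 7
 Tr.leaf) 31809 7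
 (Tr.node (Tr.node Tr.leaf 31811 7
 Tr.leaf) 31815 6
 Tr.leaf)) 31817 7
 (Tr.node (Tr.node (Tr.node Tr.leaf 31823 6
 Tr.leaf) 31825 6
 Tr.leaf) 31827 7
 (Tr.node Tr.leaf 31831 7
 Tr.leaf))))) 31833 7
 (Tr.node (Tr.node (Tr.node (Tr.node (Tr.node (Tr.node Tr.leaf 31835 7
 Tr.leaf) 31839 6
 Tr.leaf) 31843 6
 (Tr.node (Tr.node Tr.leaf 31845 7
 Tr.leaf) 31851 6
 Tr.leaf)) 31853 7
 (Tr.node (Tr.node (Tr.node Tr.leaf 31857 6
 Tr.leaf) 31863 7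
 Tr.leaf) 31865 6
 (Tr.node (Tr.node Tr.leaf 31867 7
 Tr.leaf) 31871 7
 Tr.leaf))) 31873 7
 (Tr.node (Tr.node (Tr.node (Tr.node Tr.leaf 31875 7
 Tr.leaf) 31879 6
 Tr.leaf) 31885 6
 (Tr.node (Tr.node Tr.leaf 31889 7
 Tr.leaf) 31891 6
 Tr.leaf)) 31899 7
 (Tr.node (Tr.node (Tr.node Tr.leaf 31901 7
 Tr.leaf) 31903 6
 Tr.leaf) 31905 7
 (Tr.node Tr.leaf 31907 6
 Tr.leaf)))) 31909 7
 (Tr.node (Tr.node (Tr.node (Tr.node (Tr.node Tr.leaf 31911 7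
 Tr.leaf) 31913 7
 Tr.leaf) 31917 6
 (Tr.node (Tr.node Tr.leaf 31921 6
 Tr.leaf) 31927 7
 Tr.leaf)) 31929 6
 (Tr.node (Tr.node (Tr.node Tr.leaf 31931 7
 Tr.leaf) 32003 7
 Tr.leaf) 32007 6
 (Tr.node Tr.leaf 32009 7
 Tr.leaf))) 32015 6
 (Tr.node (Tr.node (Tr.node (Tr.node Tr.leaf 32017 6
 Tr.leaf) 32019 7
 Tr.leaf) 32021 7
 (Tr.node (Tr.node Tr.leaf 32027 6
 Tr.leaf) 32031 7
 Tr.leaf)) 32037 6
 (Tr.node (Tr.node (Tr.node Tr.leaf 32039 7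
 Tr.leaf) 32041 7
 Tr.leaf) 32043 6
 (Tr.node Tr.leaf 32045 7
 Tr.leaf))))))))

/-- A subtree. -/
def tr1_s8 : Tr := (Tr.node (Tr.node (Tr.node (Tr.node (Tr.node (Tr.node (Tr.node (Tr.node (Tr.node Tr.leaf 32053 6
 Tr.leaf) 32057 6
 Tr.leaf) 32059 7
 (Tr.node (Tr.node Tr.leaf 32063 7
 Tr.leaf) 32195 7
 Tr.leaf)) 32197 7
 (Tr.node (Tr.node (Tr.node Tr.leaf 32205 7
 Tr.leaf) 32209 7
 Tr.leaf) 32223 7
 (Tr.node (Tr.node Tr.leaf 32227 7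
 Tr.leaf) 32235 7
 Tr.leaf))) 32245 8
 (Tr.node (Tr.node (Tr.node (Tr.node Tr.leaf 32251 7
 Tr.leaf) 32253 7
 Tr.leaf) 32771 4
 (Tr.node (Tr.node Tr.leaf 32773 4
 Tr.leaf) 32774 3
 Tr.leaf)) 32778 3
 (Tr.node (Tr.node (Tr.node Tr.leaf 32780 3
 Tr.leaf) 32783 6
 Tr.leaf) 32785 4
 (Tr.node Tr.leaf 32786 4
 Tr.leaf)))) 32792 4
 (Tr.node (Tr.node (Tr.node (Tr.node (Tr.node Tr.leaf 32798 6
 Tr.leaf) 32801 4
 Tr.leaf) 32804 4
 (Tr.node (Tr.node Tr.leaf 32807 6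
 Tr.leaf) 32808 4
 Tr.leaf)) 32811 6
 (Tr.node (Tr.node (Tr.node Tr.leaf 32816 4
 Tr.leaf) 32821 6
 Tr.leaf) 32822 5
 (Tr.node (Tr.node Tr.leaf 32825 5
 Tr.leaf) 32826 6
 Tr.leaf))) 32831 7
 (Tr.node (Tr.node (Tr.node (Tr.node Tr.leaf 32835 4
 Tr.leaf) 32837 4
 Tr.leaf) 32838 3
 (Tr.node (Tr.node Tr.leaf 32842 3
 Tr.leaf) 32844 3
 Tr.leaf)) 32847 6
 (Tr.node (Tr.node (Tr.node Tr.leaf 32849 4
 Tr.leaf) 32850 4
 Tr.leaf) 32855 6
 (Tr.node Tr.leaf 32856 4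
 Tr.leaf))))) 32861 6
 (Tr.node (Tr.node (Tr.node (Tr.node (Tr.node (Tr.node Tr.leaf 32865 4
 Tr.leaf) 32868 4
 Tr.leaf) 32872 4
 (Tr.node (Tr.node Tr.leaf 32878 6
 Tr.leaf) 32880 4
 Tr.leaf)) 32883 6
 (Tr.node (Tr.node (Tr.node Tr.leaf 32886 6
 Tr.leaf) 32889 5
 Tr.leaf) 32892 6
 (Tr.node (Tr.node Tr.leaf 32895 7
 Tr.leaf) 32897 4
 Tr.leaf))) 32898 4
 (Tr.node (Tr.node (Tr.node (Tr.node Tr.leaf 32900 4
 Tr.leaf) 32904 4
 Tr.leaf) 32907 6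
 (Tr.node (Tr.node Tr.leaf 32912 4
 Tr.leaf) 32915 6
 Tr.leaf)) 32918 7
 (Tr.node (Tr.node (Tr.node Tr.leaf 32921 6
 Tr.leaf) 32922 6
 Tr.leaf) 32924 6
 (Tr.node Tr.leaf 32928 3
 Tr.leaf)))) 32931 5
 (Tr.node (Tr.node (Tr.node (Tr.node (Tr.node Tr.leaf 32933 6
 Tr.leaf) 32937 6
 Tr.leaf) 32938 6
 (Tr.node (Tr.node Tr.leaf 32943 7
 Tr.leaf) 32945 5
 Tr.leaf)) 32946 6
 (Tr.node (Tr.node (Tr.node Tr.leaf 32948 5
 Tr.leaf) 32958 7
 Tr.leaf) 32961 4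
 (Tr.node Tr.leaf 32962 4
 Tr.leaf))) 32964 4
 (Tr.node (Tr.node (Tr.node (Tr.node Tr.leaf 32967 6
 Tr.leaf) 32968 4
 Tr.leaf) 32973 7
 (Tr.node (Tr.node Tr.leaf 32974 6
 Tr.leaf) 32976 4
 Tr.leaf)) 32991 6
 (Tr.node (Tr.node (Tr.node Tr.leaf 32992 4
 Tr.leaf) 32995 6
 Tr.leaf) 33001 7
 (Tr.node Tr.leaf 33002 5
 Tr.leaf)))))) 33019 6
 (Tr.node (Tr.node (Tr.node (Tr.node (Tr.node (Tr.node (Tr.node Tr.leaf 33025 4
 Tr.leaf) 33026 4
 Tr.leaf) 33028 4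
 (Tr.node (Tr.node Tr.leaf 33031 6
 Tr.leaf) 33032 4
 Tr.leaf)) 33035 7
 (Tr.node (Tr.node (Tr.node Tr.leaf 33038 6
 Tr.leaf) 33040 4
 Tr.leaf) 33045 6
 (Tr.node (Tr.node Tr.leaf 33049 7
 Tr.leaf) 33052 5
 Tr.leaf))) 33056 4
 (Tr.node (Tr.node (Tr.node (Tr.node Tr.leaf 33071 6
 Tr.leaf) 33085 6
 Tr.leaf) 33089 4
 (Tr.node (Tr.node Tr.leaf 33090 4
 Tr.leaf) 33092 4
 Tr.leaf)) 33096 4
 (Tr.node (Tr.node (Tr.node Tr.leaf 33101 6
 Tr.leaf) 33104 3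
 Tr.leaf) 33107 6
 (Tr.node Tr.leaf 33109 5
 Tr.leaf)))) 33113 6
 (Tr.node (Tr.node (Tr.node (Tr.node (Tr.node Tr.leaf 33116 5
 Tr.leaf) 33119 7
 Tr.leaf) 33120 4
 (Tr.node (Tr.node Tr.leaf 33125 6
 Tr.leaf) 33126 7
 Tr.leaf)) 33129 6
 (Tr.node (Tr.node (Tr.node Tr.leaf 33130 6
 Tr.leaf) 33132 6
 Tr.leaf) 33137 5
 (Tr.node (Tr.node Tr.leaf 33138 5
 Tr.leaf) 33140 6
 Tr.leaf))) 33150 7
 (Tr.node (Tr.node (Tr.node (Tr.node Tr.leaf 33157 6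
 Tr.leaf) 33164 7
 Tr.leaf) 33167 7
 (Tr.node (Tr.node Tr.leaf 33179 6
 Tr.leaf) 33185 6
 Tr.leaf)) 33186 6
 (Tr.node (Tr.node (Tr.node Tr.leaf 33188 6
 Tr.leaf) 33191 7
 Tr.leaf) 33195 5
 (Tr.node Tr.leaf 33197 6
 Tr.leaf))))) 33198 7
 (Tr.node (Tr.node (Tr.node (Tr.node (Tr.node (Tr.node Tr.leaf 33203 5
 Tr.leaf) 33209 5
 Tr.leaf) 33210 5
 (Tr.node (Tr.node Tr.leaf 33212 6
 Tr.leaf) 33215 7
 Tr.leaf)) 33219 6
 (Tr.node (Tr.node (Tr.node Tr.leaf 33226 7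
 Tr.leaf) 33231 7
 Tr.leaf) 33233 6
 (Tr.node (Tr.node Tr.leaf 33234 6
 Tr.leaf) 33236 6
 Tr.leaf))) 33239 7
 (Tr.node (Tr.node (Tr.node (Tr.node Tr.leaf 33243 6
 Tr.leaf) 33245 5
 Tr.leaf) 33246 7
 (Tr.node (Tr.node Tr.leaf 33261 6
 Tr.leaf) 33269 5
 Tr.leaf)) 33273 5
 (Tr.node (Tr.node (Tr.node Tr.leaf 33274 6
 Tr.leaf) 33276 5
 Tr.leaf) 33279 7
 (Tr.node Tr.leaf 33793 4
 Tr.leaf)))) 33795 4
 (Tr.node (Tr.node (Tr.node (Tr.node (Tr.node Tr.leaf 33807 5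
 Tr.leaf) 33813 7
 Tr.leaf) 33815 6
 (Tr.node (Tr.node Tr.leaf 33819 6
 Tr.leaf) 33829 7
 Tr.leaf)) 33833 7
 (Tr.node (Tr.node (Tr.node Tr.leaf 33857 4
 Tr.leaf) 33859 4
 Tr.leaf) 33869 5
 (Tr.node Tr.leaf 33877 6
 Tr.leaf))) 33883 6
 (Tr.node (Tr.node (Tr.node (Tr.node Tr.leaf 33893 6
 Tr.leaf) 33895 7
 Tr.leaf) 33897 6
 (Tr.node (Tr.node Tr.leaf 33899 7
 Tr.leaf) 33905 6
 Tr.leaf)) 33907 6
 (Tr.node (Tr.node (Tr.node Tr.leaf 33919 6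
 Tr.leaf) 33925 6
 Tr.leaf) 33953 6
 (Tr.node Tr.leaf 33965 6
 Tr.leaf))))))) 33975 7
 (Tr.node (Tr.node (Tr.node (Tr.node (Tr.node (Tr.node (Tr.node (Tr.node Tr.leaf 33977 7
 Tr.leaf) 33995 6
 Tr.leaf) 34003 6
 (Tr.node (Tr.node Tr.leaf 34013 5
 Tr.leaf) 34015 7
 Tr.leaf)) 34019 6
 (Tr.node (Tr.node (Tr.node Tr.leaf 34031 6
 Tr.leaf) 34037 5
 Tr.leaf) 34039 6
 (Tr.node (Tr.node Tr.leaf 34041 5
 Tr.leaf) 34053 6
 Tr.leaf))) 34055 6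
 (Tr.node (Tr.node (Tr.node (Tr.node Tr.leaf 34059 6
 Tr.leaf) 34067 6
 Tr.leaf) 34079 6
 (Tr.node (Tr.node Tr.leaf 34081 6
 Tr.leaf) 34093 6
 Tr.leaf)) 34101 7
 (Tr.node (Tr.node (Tr.node Tr.leaf 34103 6
 Tr.leaf) 34105 7
 Tr.leaf) 34107 6
 (Tr.node Tr.leaf 34121 6
 Tr.leaf)))) 34123 7
 (Tr.node (Tr.node (Tr.node (Tr.node (Tr.node Tr.leaf 34145 6
 Tr.leaf) 34167 7
 Tr.leaf) 34171 7
 (Tr.node (Tr.node Tr.leaf 34177 6
 Tr.leaf) 34189 7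
 Tr.leaf)) 34201 7
 (Tr.node (Tr.node (Tr.node Tr.leaf 34217 6
 Tr.leaf) 34219 7
 Tr.leaf) 34225 7
 (Tr.node (Tr.node Tr.leaf 34237 7
 Tr.leaf) 34253 5
 Tr.leaf))) 34263 7
 (Tr.node (Tr.node (Tr.node (Tr.node Tr.leaf 34277 5
 Tr.leaf) 34279 7
 Tr.leaf) 34281 5
 (Tr.node (Tr.node Tr.leaf 34289 7
 Tr.leaf) 34291 7
 Tr.leaf)) 34301 7
 (Tr.node (Tr.node (Tr.node Tr.leaf 34303 7
 Tr.leaf) 34817 4
 Tr.leaf) 34818 3
 (Tr.node Tr.leaf 34821 4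
 Tr.leaf))))) 34822 3
 (Tr.node (Tr.node (Tr.node (Tr.node (Tr.node (Tr.node Tr.leaf 34831 5
 Tr.leaf) 34835 7
 Tr.leaf) 34839 6
 (Tr.node (Tr.node Tr.leaf 34841 7
 Tr.leaf) 34845 6
 Tr.leaf)) 34855 6
 (Tr.node (Tr.node (Tr.node Tr.leaf 34857 6
 Tr.leaf) 34862 6
 Tr.leaf) 34865 6
 (Tr.node (Tr.node Tr.leaf 34869 6
 Tr.leaf) 34870 5
 Tr.leaf))) 34875 6
 (Tr.node (Tr.node (Tr.node (Tr.node Tr.leaf 34881 4
 Tr.leaf) 34882 3
 Tr.leaf) 34885 4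
 (Tr.node (Tr.node Tr.leaf 34886 3
 Tr.leaf) 34891 5
 Tr.leaf)) 34903 7
 (Tr.node (Tr.node (Tr.node Tr.leaf 34906 6
 Tr.leaf) 34909 7
 Tr.leaf) 34915 6
 (Tr.node Tr.leaf 34919 7
 Tr.leaf)))) 34921 6
 (Tr.node (Tr.node (Tr.node (Tr.node (Tr.node Tr.leaf 34934 6
 Tr.leaf) 34953 7
 Tr.leaf) 34957 6
 (Tr.node (Tr.node Tr.leaf 34958 6
 Tr.leaf) 34965 6
 Tr.leaf)) 34966 6
 (Tr.node (Tr.node (Tr.node Tr.leaf 34978 5
 Tr.leaf) 34995 7
 Tr.leaf) 35001 7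
 (Tr.node Tr.leaf 35011 6
 Tr.leaf))) 35015 6
 (Tr.node (Tr.node (Tr.node (Tr.node Tr.leaf 35017 6
 Tr.leaf) 35026 6
 Tr.leaf) 35029 6
 (Tr.node (Tr.node Tr.leaf 35030 7
 Tr.leaf) 35039 6
 Tr.leaf)) 35041 6
 (Tr.node (Tr.node (Tr.node Tr.leaf 35046 5
 Tr.leaf) 35051 6
 Tr.leaf) 35059 6
 (Tr.node Tr.leaf 35063 7
 Tr.leaf)))))) 35065 6
 (Tr.node (Tr.node (Tr.node (Tr.node (Tr.node (Tr.node (Tr.node Tr.leaf 35069 7
 Tr.leaf) 35081 6
 Tr.leaf) 35089 6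
 (Tr.node (Tr.node Tr.leaf 35099 6
 Tr.leaf) 35105 6
 Tr.leaf)) 35106 7
 (Tr.node (Tr.node (Tr.node Tr.leaf 35110 6
 Tr.leaf) 35115 7
 Tr.leaf) 35119 5
 (Tr.node (Tr.node Tr.leaf 35123 6
 Tr.leaf) 35127 5
 Tr.leaf))) 35133 5
 (Tr.node (Tr.node (Tr.node (Tr.node Tr.leaf 35134 4
 Tr.leaf) 35143 6
 Tr.leaf) 35146 6
 (Tr.node (Tr.node Tr.leaf 35157 6
 Tr.leaf) 35167 6
 Tr.leaf)) 35170 6
 (Tr.node (Tr.node (Tr.node Tr.leaf 35187 7
 Tr.leaf) 35194 5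
 Tr.leaf) 35197 7
 (Tr.node Tr.leaf 35202 6
 Tr.leaf)))) 35215 5
 (Tr.node (Tr.node (Tr.node (Tr.node (Tr.node Tr.leaf 35219 7
 Tr.leaf) 35223 5
 Tr.leaf) 35229 5
 (Tr.node (Tr.node Tr.leaf 35230 4
 Tr.leaf) 35235 7
 Tr.leaf)) 35246 5
 (Tr.node (Tr.node (Tr.node Tr.leaf 35249 7
 Tr.leaf) 35250 6
 Tr.leaf) 35253 7
 (Tr.node (Tr.node Tr.leaf 35259 7
 Tr.leaf) 35263 7
 Tr.leaf))) 35266 6
 (Tr.node (Tr.node (Tr.node (Tr.node Tr.leaf 35269 6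
 Tr.leaf) 35279 7
 Tr.leaf) 35289 7
 (Tr.node (Tr.node Tr.leaf 35290 5
 Tr.leaf) 35293 6
 Tr.leaf)) 35306 5
 (Tr.node (Tr.node (Tr.node Tr.leaf 35309 7
 Tr.leaf) 35317 7
 Tr.leaf) 35318 6
 (Tr.node Tr.leaf 35327 7
 Tr.leaf))))) 35849 6
 (Tr.node (Tr.node (Tr.node (Tr.node (Tr.node (Tr.node Tr.leaf 35851 5
 Tr.leaf) 35853 5
 Tr.leaf) 35859 6
 (Tr.node (Tr.node Tr.leaf 35861 7
 Tr.leaf) 35873 7
 Tr.leaf)) 35875 7
 (Tr.node (Tr.node (Tr.node Tr.leaf 35879 7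
 Tr.leaf) 35897 7
 Tr.leaf) 35899 7
 (Tr.node (Tr.node Tr.leaf 35903 6
 Tr.leaf) 35915 5
 Tr.leaf))) 35917 5
 (Tr.node (Tr.node (Tr.node (Tr.node Tr.leaf 35919 6
 Tr.leaf) 35921 7
 Tr.leaf) 35923 7
 (Tr.node (Tr.node Tr.leaf 35927 7
 Tr.leaf) 35939 6
 Tr.leaf)) 35941 7
 (Tr.node (Tr.node (Tr.node Tr.leaf 35961 6
 Tr.leaf) 35963 7
 Tr.leaf) 35967 7
 (Tr.node Tr.leaf 35969 6
 Tr.leaf)))) 35973 6
 (Tr.node (Tr.node (Tr.node (Tr.node (Tr.node Tr.leaf 35993 6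
 Tr.leaf) 35997 7
 Tr.leaf) 36011 7
 (Tr.node (Tr.node Tr.leaf 36013 6
 Tr.leaf) 36015 6
 Tr.leaf)) 36017 5
 (Tr.node (Tr.node (Tr.node Tr.leaf 36019 7
 Tr.leaf) 36057 6
 Tr.leaf) 36073 6
 (Tr.node Tr.leaf 36075 7
 Tr.leaf))) 36079 6
 (Tr.node (Tr.node (Tr.node (Tr.node Tr.leaf 36081 7
 Tr.leaf) 36083 7
 Tr.leaf) 36087 5
 (Tr.node (Tr.node Tr.leaf 36121 6
 Tr.leaf) 36123 7
 Tr.leaf)) 36127 6
 (Tr.node (Tr.node (Tr.node Tr.leaf 36143 6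
 Tr.leaf) 36145 5
 Tr.leaf) 36147 7
 (Tr.node Tr.leaf 36151 7
 Tr.leaf))))))))

/-- A subtree. -/
def tr1_s9 : Tr := (Tr.node (Tr.node (Tr.node (Tr.node (Tr.node (Tr.node (Tr.node (Tr.node (Tr.node Tr.leaf 36167 6
 Tr.leaf) 36185 6
 Tr.leaf) 36187 7
 (Tr.node (Tr.node Tr.leaf 36189 6
 Tr.leaf) 36205 7
 Tr.leaf)) 36207 6
 (Tr.node (Tr.node (Tr.node Tr.leaf 36211 7
 Tr.leaf) 36215 5
 Tr.leaf) 36233 7
 (Tr.node (Tr.node Tr.leaf 36235 6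
 Tr.leaf) 36241 5
 Tr.leaf))) 36243 6
 (Tr.node (Tr.node (Tr.node (Tr.node Tr.leaf 36257 5
 Tr.leaf) 36263 6
 Tr.leaf) 36281 8
 (Tr.node (Tr.node Tr.leaf 36285 6
 Tr.leaf) 36287 6
 Tr.leaf)) 36299 6
 (Tr.node (Tr.node (Tr.node Tr.leaf 36303 7
 Tr.leaf) 36305 6
 Tr.leaf) 36311 5
 (Tr.node Tr.leaf 36323 6
 Tr.leaf)))) 36327 5
 (Tr.node (Tr.node (Tr.node (Tr.node (Tr.node Tr.leaf 36345 6
 Tr.leaf) 36349 6
 Tr.leaf) 36351 8
 (Tr.node (Tr.node Tr.leaf 36866 3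
 Tr.leaf) 36868 3
 Tr.leaf)) 36871 6
 (Tr.node (Tr.node (Tr.node Tr.leaf 36874 3
 Tr.leaf) 36876 3
 Tr.leaf) 36885 6
 (Tr.node (Tr.node Tr.leaf 36891 6
 Tr.leaf) 36893 7
 Tr.leaf))) 36899 6
 (Tr.node (Tr.node (Tr.node (Tr.node Tr.leaf 36901 6
 Tr.leaf) 36902 6
 Tr.leaf) 36913 6
 (Tr.node (Tr.node Tr.leaf 36916 6
 Tr.leaf) 36919 6
 Tr.leaf)) 36921 6
 (Tr.node (Tr.node (Tr.node Tr.leaf 36922 6
 Tr.leaf) 36924 6
 Tr.leaf) 36927 7
 (Tr.node Tr.leaf 36930 3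
 Tr.leaf))))) 36932 3
 (Tr.node (Tr.node (Tr.node (Tr.node (Tr.node (Tr.node Tr.leaf 36938 3
 Tr.leaf) 36940 3
 Tr.leaf) 36943 6
 (Tr.node (Tr.node Tr.leaf 36955 6
 Tr.leaf) 36957 6
 Tr.leaf)) 36958 7
 (Tr.node (Tr.node (Tr.node Tr.leaf 36963 7
 Tr.leaf) 36965 6
 Tr.leaf) 36971 6
 (Tr.node (Tr.node Tr.leaf 36977 6
 Tr.leaf) 36978 6
 Tr.leaf))) 36980 6
 (Tr.node (Tr.node (Tr.node (Tr.node Tr.leaf 36983 7
 Tr.leaf) 36985 6
 Tr.leaf) 36986 6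
 (Tr.node (Tr.node Tr.leaf 36991 6
 Tr.leaf) 36995 6
 Tr.leaf)) 36997 6
 (Tr.node (Tr.node (Tr.node Tr.leaf 36998 6
 Tr.leaf) 37003 6
 Tr.leaf) 37005 7
 (Tr.node Tr.leaf 37012 5
 Tr.leaf)))) 37015 7
 (Tr.node (Tr.node (Tr.node (Tr.node (Tr.node Tr.leaf 37023 7
 Tr.leaf) 37025 6
 Tr.leaf) 37031 6
 (Tr.node (Tr.node Tr.leaf 37043 6
 Tr.leaf) 37046 6
 Tr.leaf)) 37054 5
 (Tr.node (Tr.node (Tr.node Tr.leaf 37069 6
 Tr.leaf) 37073 6
 Tr.leaf) 37074 6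
 (Tr.node Tr.leaf 37076 6
 Tr.leaf))) 37084 6
 (Tr.node (Tr.node (Tr.node (Tr.node Tr.leaf 37087 7
 Tr.leaf) 37097 7
 Tr.leaf) 37103 7
 (Tr.node (Tr.node Tr.leaf 37107 7
 Tr.leaf) 37109 7
 Tr.leaf)) 37110 5
 (Tr.node (Tr.node (Tr.node Tr.leaf 37115 7
 Tr.leaf) 37117 7
 Tr.leaf) 37123 6
 (Tr.node Tr.leaf 37137 7
 Tr.leaf)))))) 37143 7
 (Tr.node (Tr.node (Tr.node (Tr.node (Tr.node (Tr.node (Tr.node Tr.leaf 37154 5
 Tr.leaf) 37159 7
 Tr.leaf) 37161 6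
 (Tr.node (Tr.node Tr.leaf 37162 6
 Tr.leaf) 37164 6
 Tr.leaf)) 37171 7
 (Tr.node (Tr.node (Tr.node Tr.leaf 37173 7
 Tr.leaf) 37179 7
 Tr.leaf) 37181 7
 (Tr.node (Tr.node Tr.leaf 37182 5
 Tr.leaf) 37187 7
 Tr.leaf))) 37189 6
 (Tr.node (Tr.node (Tr.node (Tr.node Tr.leaf 37195 6
 Tr.leaf) 37197 6
 Tr.leaf) 37198 7
 (Tr.node (Tr.node Tr.leaf 37209 6
 Tr.leaf) 37215 6
 Tr.leaf)) 37223 7
 (Tr.node (Tr.node (Tr.node Tr.leaf 37226 6
 Tr.leaf) 37231 7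
 Tr.leaf) 37238 5
 (Tr.node Tr.leaf 37245 6
 Tr.leaf)))) 37246 6
 (Tr.node (Tr.node (Tr.node (Tr.node (Tr.node Tr.leaf 37249 6
 Tr.leaf) 37250 6
 Tr.leaf) 37255 6
 (Tr.node (Tr.node Tr.leaf 37257 6
 Tr.leaf) 37258 6
 Tr.leaf)) 37260 6
 (Tr.node (Tr.node (Tr.node Tr.leaf 37263 7
 Tr.leaf) 37267 7
 Tr.leaf) 37269 7
 (Tr.node (Tr.node Tr.leaf 37278 5
 Tr.leaf) 37285 6
 Tr.leaf))) 37286 6
 (Tr.node (Tr.node (Tr.node (Tr.node Tr.leaf 37291 7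
 Tr.leaf) 37293 7
 Tr.leaf) 37294 5
 (Tr.node (Tr.node Tr.leaf 37313 6
 Tr.leaf) 37314 6
 Tr.leaf)) 37316 6
 (Tr.node (Tr.node (Tr.node Tr.leaf 37319 7
 Tr.leaf) 37321 6
 Tr.leaf) 37324 6
 (Tr.node Tr.leaf 37327 6
 Tr.leaf))))) 37331 7
 (Tr.node (Tr.node (Tr.node (Tr.node (Tr.node (Tr.node Tr.leaf 37333 7
 Tr.leaf) 37334 5
 Tr.leaf) 37339 6
 (Tr.node (Tr.node Tr.leaf 37342 6
 Tr.leaf) 37350 5
 Tr.leaf)) 37355 7
 (Tr.node (Tr.node (Tr.node Tr.leaf 37357 7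
 Tr.leaf) 37893 6
 Tr.leaf) 37901 5
 (Tr.node (Tr.node Tr.leaf 37903 5
 Tr.leaf) 37905 6
 Tr.leaf))) 37923 7
 (Tr.node (Tr.node (Tr.node (Tr.node Tr.leaf 37929 6
 Tr.leaf) 37931 7
 Tr.leaf) 37941 6
 (Tr.node (Tr.node Tr.leaf 37943 6
 Tr.leaf) 37957 5
 Tr.leaf)) 37959 5
 (Tr.node (Tr.node (Tr.node Tr.leaf 37967 6
 Tr.leaf) 37969 6
 Tr.leaf) 37985 7
 (Tr.node Tr.leaf 37995 7
 Tr.leaf)))) 38005 7
 (Tr.node (Tr.node (Tr.node (Tr.node (Tr.node Tr.leaf 38037 7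
 Tr.leaf) 38045 6
 Tr.leaf) 38047 6
 (Tr.node (Tr.node Tr.leaf 38053 6
 Tr.leaf) 38055 6
 Tr.leaf)) 38061 7
 (Tr.node (Tr.node (Tr.node Tr.leaf 38063 7
 Tr.leaf) 38065 5
 Tr.leaf) 38067 6
 (Tr.node Tr.leaf 38073 6
 Tr.leaf))) 38083 6
 (Tr.node (Tr.node (Tr.node (Tr.node Tr.leaf 38091 6
 Tr.leaf) 38111 7
 Tr.leaf) 38119 6
 (Tr.node (Tr.node Tr.leaf 38125 6
 Tr.leaf) 38139 5
 Tr.leaf)) 38145 7
 (Tr.node (Tr.node (Tr.node Tr.leaf 38153 7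
 Tr.leaf) 38155 6
 Tr.leaf) 38167 6
 (Tr.node Tr.leaf 38173 7
 Tr.leaf))))))) 38175 7
 (Tr.node (Tr.node (Tr.node (Tr.node (Tr.node (Tr.node (Tr.node (Tr.node Tr.leaf 38181 7
 Tr.leaf) 38183 6
 Tr.leaf) 38189 7
 (Tr.node (Tr.node Tr.leaf 38191 7
 Tr.leaf) 38193 5
 Tr.leaf)) 38195 7
 (Tr.node (Tr.node (Tr.node Tr.leaf 38201 7
 Tr.leaf) 38203 7
 Tr.leaf) 38211 7
 (Tr.node (Tr.node Tr.leaf 38217 7
 Tr.leaf) 38229 6
 Tr.leaf))) 38237 6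
 (Tr.node (Tr.node (Tr.node (Tr.node Tr.leaf 38239 6
 Tr.leaf) 38253 6
 Tr.leaf) 38255 7
 (Tr.node (Tr.node Tr.leaf 38267 5
 Tr.leaf) 38289 5
 Tr.leaf)) 38299 6
 (Tr.node (Tr.node (Tr.node Tr.leaf 38305 5
 Tr.leaf) 38313 7
 Tr.leaf) 38315 7
 (Tr.node Tr.leaf 38325 8
 Tr.leaf)))) 38327 6
 (Tr.node (Tr.node (Tr.node (Tr.node (Tr.node Tr.leaf 38343 7
 Tr.leaf) 38349 6
 Tr.leaf) 38351 6
 (Tr.node (Tr.node Tr.leaf 38361 6
 Tr.leaf) 38363 5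
 Tr.leaf)) 38377 7
 (Tr.node (Tr.node (Tr.node Tr.leaf 38379 5
 Tr.leaf) 38389 6
 Tr.leaf) 38391 6
 (Tr.node (Tr.node Tr.leaf 38397 6
 Tr.leaf) 38399 8
 Tr.leaf))) 38915 6
 (Tr.node (Tr.node (Tr.node (Tr.node Tr.leaf 38923 5
 Tr.leaf) 38927 5
 Tr.leaf) 38929 7
 (Tr.node (Tr.node Tr.leaf 38930 7
 Tr.leaf) 38941 7
 Tr.leaf)) 38942 6
 (Tr.node (Tr.node (Tr.node Tr.leaf 38954 6
 Tr.leaf) 38957 6
 Tr.leaf) 38975 7
 (Tr.node Tr.leaf 38979 5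
 Tr.leaf))))) 38983 5
 (Tr.node (Tr.node (Tr.node (Tr.node (Tr.node (Tr.node Tr.leaf 38991 6
 Tr.leaf) 38993 7
 Tr.leaf) 38997 6
 (Tr.node (Tr.node Tr.leaf 38998 6
 Tr.leaf) 39001 7
 Tr.leaf)) 39010 6
 (Tr.node (Tr.node (Tr.node Tr.leaf 39021 6
 Tr.leaf) 39022 6
 Tr.leaf) 39035 6
 (Tr.node (Tr.node Tr.leaf 39039 6
 Tr.leaf) 39045 7
 Tr.leaf))) 39049 7
 (Tr.node (Tr.node (Tr.node (Tr.node Tr.leaf 39050 6
 Tr.leaf) 39059 7
 Tr.leaf) 39063 6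
 (Tr.node (Tr.node Tr.leaf 39075 6
 Tr.leaf) 39079 6
 Tr.leaf)) 39087 6
 (Tr.node (Tr.node (Tr.node Tr.leaf 39089 5
 Tr.leaf) 39090 7
 Tr.leaf) 39094 5
 (Tr.node Tr.leaf 39098 5
 Tr.leaf)))) 39102 5
 (Tr.node (Tr.node (Tr.node (Tr.node (Tr.node Tr.leaf 39105 6
 Tr.leaf) 39106 7
 Tr.leaf) 39109 7
 (Tr.node (Tr.node Tr.leaf 39117 7
 Tr.leaf) 39118 6
 Tr.leaf)) 39123 7
 (Tr.node (Tr.node (Tr.node Tr.leaf 39127 7
 Tr.leaf) 39131 6
 Tr.leaf) 39135 7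
 (Tr.node Tr.leaf 39139 7
 Tr.leaf))) 39143 7
 (Tr.node (Tr.node (Tr.node (Tr.node Tr.leaf 39147 6
 Tr.leaf) 39153 7
 Tr.leaf) 39154 5
 (Tr.node (Tr.node Tr.leaf 39157 7
 Tr.leaf) 39158 5
 Tr.leaf)) 39161 7
 (Tr.node (Tr.node (Tr.node Tr.leaf 39162 5
 Tr.leaf) 39165 5
 Tr.leaf) 39169 6
 (Tr.node Tr.leaf 39170 6
 Tr.leaf)))))) 39177 6
 (Tr.node (Tr.node (Tr.node (Tr.node (Tr.node (Tr.node (Tr.node Tr.leaf 39182 7
 Tr.leaf) 39191 6
 Tr.leaf) 39195 6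
 (Tr.node (Tr.node Tr.leaf 39203 7
 Tr.leaf) 39217 5
 Tr.leaf)) 39222 5
 (Tr.node (Tr.node (Tr.node Tr.leaf 39226 5
 Tr.leaf) 39238 6
 Tr.leaf) 39251 7
 (Tr.node (Tr.node Tr.leaf 39255 7
 Tr.leaf) 39259 6
 Tr.leaf))) 39263 6
 (Tr.node (Tr.node (Tr.node (Tr.node Tr.leaf 39267 6
 Tr.leaf) 39271 6
 Tr.leaf) 39279 7
 (Tr.node (Tr.node Tr.leaf 39285 6
 Tr.leaf) 39286 5
 Tr.leaf)) 39289 6
 (Tr.node (Tr.node (Tr.node Tr.leaf 39290 5
 Tr.leaf) 39293 5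
 Tr.leaf) 39294 6
 (Tr.node Tr.leaf 39299 6
 Tr.leaf)))) 39303 6
 (Tr.node (Tr.node (Tr.node (Tr.node (Tr.node Tr.leaf 39307 7
 Tr.leaf) 39313 5
 Tr.leaf) 39317 7
 (Tr.node (Tr.node Tr.leaf 39318 5
 Tr.leaf) 39322 5
 Tr.leaf)) 39326 5
 (Tr.node (Tr.node (Tr.node Tr.leaf 39329 5
 Tr.leaf) 39330 6
 Tr.leaf) 39333 6
 (Tr.node Tr.leaf 39334 5
 Tr.leaf))) 39342 5
 (Tr.node (Tr.node (Tr.node (Tr.node Tr.leaf 39347 8
 Tr.leaf) 39351 6
 Tr.leaf) 39355 6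
 (Tr.node (Tr.node Tr.leaf 39359 6
 Tr.leaf) 39377 7
 Tr.leaf)) 39378 5
 (Tr.node (Tr.node (Tr.node Tr.leaf 39381 7
 Tr.leaf) 39382 5
 Tr.leaf) 39386 5
 (Tr.node Tr.leaf 39389 5
 Tr.leaf))))) 39390 7
 (Tr.node (Tr.node (Tr.node (Tr.node (Tr.node (Tr.node Tr.leaf 39393 6
 Tr.leaf) 39394 5
 Tr.leaf) 39402 5
 (Tr.node (Tr.node Tr.leaf 39405 5
 Tr.leaf) 39419 6
 Tr.leaf)) 39423 8
 (Tr.node (Tr.node (Tr.node Tr.leaf 39939 6
 Tr.leaf) 39941 6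
 Tr.leaf) 39943 6
 (Tr.node (Tr.node Tr.leaf 39945 6
 Tr.leaf) 39951 6
 Tr.leaf))) 39985 7
 (Tr.node (Tr.node (Tr.node (Tr.node Tr.leaf 39991 6
 Tr.leaf) 39993 7
 Tr.leaf) 39997 6
 (Tr.node (Tr.node Tr.leaf 39999 7
 Tr.leaf) 40001 6
 Tr.leaf)) 40007 6
 (Tr.node (Tr.node (Tr.node Tr.leaf 40009 6
 Tr.leaf) 40011 6
 Tr.leaf) 40013 6
 (Tr.node Tr.leaf 40049 7
 Tr.leaf)))) 40053 6
 (Tr.node (Tr.node (Tr.node (Tr.node (Tr.node Tr.leaf 40055 7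
 Tr.leaf) 40057 6
 Tr.leaf) 40063 7
 (Tr.node (Tr.node Tr.leaf 40081 7
 Tr.leaf) 40083 7
 Tr.leaf)) 40085 7
 (Tr.node (Tr.node (Tr.node Tr.leaf 40087 6
 Tr.leaf) 40091 6
 Tr.leaf) 40093 6
 (Tr.node Tr.leaf 40105 7
 Tr.leaf))) 40107 7
 (Tr.node (Tr.node (Tr.node (Tr.node Tr.leaf 40153 6
 Tr.leaf) 40155 7
 Tr.leaf) 40157 7
 (Tr.node (Tr.node Tr.leaf 40159 7
 Tr.leaf) 40161 7
 Tr.leaf)) 40165 7
 (Tr.node (Tr.node (Tr.node Tr.leaf 40171 7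
 Tr.leaf) 40173 7
 Tr.leaf) 40211 7
 (Tr.node Tr.leaf 40213 7
 Tr.leaf))))))))

/-- A subtree. -/
def tr1_s10 : Tr := (Tr.node (Tr.node (Tr.node (Tr.node (Tr.node (Tr.node (Tr.node (Tr.node (Tr.node Tr.leaf 40223 7
 Tr.leaf) 40225 7
 Tr.leaf) 40227 7
 (Tr.node (Tr.node Tr.leaf 40229 7
 Tr.leaf) 40231 6
 Tr.leaf)) 40275 7
 (Tr.node (Tr.node (Tr.node Tr.leaf 40279 7
 Tr.leaf) 40291 6
 Tr.leaf) 40293 6
 (Tr.node (Tr.node Tr.leaf 40297 6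
 Tr.leaf) 40299 7
 Tr.leaf))) 40301 7
 (Tr.node (Tr.node (Tr.node (Tr.node Tr.leaf 40303 7
 Tr.leaf) 40321 7
 Tr.leaf) 40327 6
 (Tr.node (Tr.node Tr.leaf 40329 7
 Tr.leaf) 40331 6
 Tr.leaf)) 40335 7
 (Tr.node (Tr.node (Tr.node Tr.leaf 40385 7
 Tr.leaf) 40387 6
 Tr.leaf) 40391 7
 (Tr.node Tr.leaf 40393 6
 Tr.leaf)))) 40399 7
 (Tr.node (Tr.node (Tr.node (Tr.node (Tr.node Tr.leaf 40961 4
 Tr.leaf) 40962 4
 Tr.leaf) 40967 7
 (Tr.node (Tr.node Tr.leaf 40968 4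
 Tr.leaf) 40971 6
 Tr.leaf)) 40973 7
 (Tr.node (Tr.node (Tr.node Tr.leaf 40974 6
 Tr.leaf) 40977 4
 Tr.leaf) 40978 3
 (Tr.node (Tr.node Tr.leaf 40983 6
 Tr.leaf) 40984 4
 Tr.leaf))) 40989 6
 (Tr.node (Tr.node (Tr.node (Tr.node Tr.leaf 40990 5
 Tr.leaf) 41004 6
 Tr.leaf) 41007 6
 (Tr.node (Tr.node Tr.leaf 41011 5
 Tr.leaf) 41014 6
 Tr.leaf)) 41017 6
 (Tr.node (Tr.node (Tr.node Tr.leaf 41018 6
 Tr.leaf) 41020 6
 Tr.leaf) 41025 4
 (Tr.node Tr.leaf 41026 4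
 Tr.leaf))))) 41031 7
 (Tr.node (Tr.node (Tr.node (Tr.node (Tr.node (Tr.node Tr.leaf 41032 4
 Tr.leaf) 41035 6
 Tr.leaf) 41041 4
 (Tr.node (Tr.node Tr.leaf 41042 4
 Tr.leaf) 41048 4
 Tr.leaf)) 41053 7
 (Tr.node (Tr.node (Tr.node Tr.leaf 41061 6
 Tr.leaf) 41065 6
 Tr.leaf) 41066 6
 (Tr.node (Tr.node Tr.leaf 41078 6
 Tr.leaf) 41082 7
 Tr.leaf))) 41084 6
 (Tr.node (Tr.node (Tr.node (Tr.node Tr.leaf 41091 6
 Tr.leaf) 41093 6
 Tr.leaf) 41094 6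
 (Tr.node (Tr.node Tr.leaf 41107 5
 Tr.leaf) 41116 5
 Tr.leaf)) 41119 6
 (Tr.node (Tr.node (Tr.node Tr.leaf 41124 6
 Tr.leaf) 41133 7
 Tr.leaf) 41138 6
 (Tr.node Tr.leaf 41140 6
 Tr.leaf)))) 41143 6
 (Tr.node (Tr.node (Tr.node (Tr.node (Tr.node Tr.leaf 41144 6
 Tr.leaf) 41147 6
 Tr.leaf) 41149 7
 (Tr.node (Tr.node Tr.leaf 41150 6
 Tr.leaf) 41157 6
 Tr.leaf)) 41158 7
 (Tr.node (Tr.node (Tr.node Tr.leaf 41164 5
 Tr.leaf) 41167 7
 Tr.leaf) 41174 6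
 (Tr.node Tr.leaf 41177 6
 Tr.leaf))) 41178 6
 (Tr.node (Tr.node (Tr.node (Tr.node Tr.leaf 41180 6
 Tr.leaf) 41183 6
 Tr.leaf) 41185 6
 (Tr.node (Tr.node Tr.leaf 41186 6
 Tr.leaf) 41192 5
 Tr.leaf)) 41195 6
 (Tr.node (Tr.node (Tr.node Tr.leaf 41202 7
 Tr.leaf) 41207 7
 Tr.leaf) 41211 6
 (Tr.node Tr.leaf 41213 6
 Tr.leaf)))))) 41221 6
 (Tr.node (Tr.node (Tr.node (Tr.node (Tr.node (Tr.node (Tr.node Tr.leaf 41222 5
 Tr.leaf) 41225 7
 Tr.leaf) 41226 6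
 (Tr.node (Tr.node Tr.leaf 41235 5
 Tr.leaf) 41237 6
 Tr.leaf)) 41247 6
 (Tr.node (Tr.node (Tr.node Tr.leaf 41252 7
 Tr.leaf) 41255 6
 Tr.leaf) 41259 6
 (Tr.node (Tr.node Tr.leaf 41262 6
 Tr.leaf) 41265 6
 Tr.leaf))) 41266 6
 (Tr.node (Tr.node (Tr.node (Tr.node Tr.leaf 41268 6
 Tr.leaf) 41277 7
 Tr.leaf) 41278 6
 (Tr.node (Tr.node Tr.leaf 41285 6
 Tr.leaf) 41295 6
 Tr.leaf)) 41301 6
 (Tr.node (Tr.node (Tr.node Tr.leaf 41302 6
 Tr.leaf) 41305 7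
 Tr.leaf) 41306 6
 (Tr.node Tr.leaf 41311 6
 Tr.leaf)))) 41316 6
 (Tr.node (Tr.node (Tr.node (Tr.node (Tr.node Tr.leaf 41319 6
 Tr.leaf) 41323 6
 Tr.leaf) 41326 5
 (Tr.node (Tr.node Tr.leaf 41342 6
 Tr.leaf) 41345 7
 Tr.leaf)) 41346 6
 (Tr.node (Tr.node (Tr.node Tr.leaf 41348 6
 Tr.leaf) 41351 6
 Tr.leaf) 41357 6
 (Tr.node (Tr.node Tr.leaf 41361 6
 Tr.leaf) 41362 6
 Tr.leaf))) 41364 7
 (Tr.node (Tr.node (Tr.node (Tr.node Tr.leaf 41367 6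
 Tr.leaf) 41368 5
 Tr.leaf) 41371 7
 (Tr.node (Tr.node Tr.leaf 41374 6
 Tr.leaf) 41379 7
 Tr.leaf)) 41388 6
 (Tr.node (Tr.node (Tr.node Tr.leaf 41391 7
 Tr.leaf) 41397 6
 Tr.leaf) 41398 6
 (Tr.node Tr.leaf 41407 7
 Tr.leaf))))) 41409 7
 (Tr.node (Tr.node (Tr.node (Tr.node (Tr.node (Tr.node Tr.leaf 41415 7
 Tr.leaf) 41416 5
 Tr.leaf) 41426 5
 (Tr.node (Tr.node Tr.leaf 41428 6
 Tr.leaf) 41431 6
 Tr.leaf)) 41435 6
 (Tr.node (Tr.node (Tr.node Tr.leaf 41438 6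
 Tr.leaf) 41446 6
 Tr.leaf) 41449 6
 (Tr.node (Tr.node Tr.leaf 41450 6
 Tr.leaf) 41459 7
 Tr.leaf))) 41462 7
 (Tr.node (Tr.node (Tr.node (Tr.node Tr.leaf 41466 6
 Tr.leaf) 41468 6
 Tr.leaf) 41989 7
 (Tr.node (Tr.node Tr.leaf 42007 7
 Tr.leaf) 42009 6
 Tr.leaf)) 42033 6
 (Tr.node (Tr.node (Tr.node Tr.leaf 42035 6
 Tr.leaf) 42045 6
 Tr.leaf) 42047 7
 (Tr.node Tr.leaf 42055 7
 Tr.leaf)))) 42069 7
 (Tr.node (Tr.node (Tr.node (Tr.node (Tr.node Tr.leaf 42071 7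
 Tr.leaf) 42073 6
 Tr.leaf) 42093 7
 (Tr.node (Tr.node Tr.leaf 42109 6
 Tr.leaf) 42125 6
 Tr.leaf)) 42141 7
 (Tr.node (Tr.node (Tr.node Tr.leaf 42143 7
 Tr.leaf) 42155 5
 Tr.leaf) 42165 7
 (Tr.node Tr.leaf 42167 7
 Tr.leaf))) 42169 6
 (Tr.node (Tr.node (Tr.node (Tr.node Tr.leaf 42179 6
 Tr.leaf) 42189 7
 Tr.leaf) 42191 7
 (Tr.node (Tr.node Tr.leaf 42195 6
 Tr.leaf) 42217 6
 Tr.leaf)) 42219 6
 (Tr.node (Tr.node (Tr.node Tr.leaf 42231 7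
 Tr.leaf) 42233 7
 Tr.leaf) 42241 6
 (Tr.node Tr.leaf 42253 5
 Tr.leaf))))))) 42255 6
 (Tr.node (Tr.node (Tr.node (Tr.node (Tr.node (Tr.node (Tr.node (Tr.node Tr.leaf 42271 6
 Tr.leaf) 42279 6
 Tr.leaf) 42281 6
 (Tr.node (Tr.node Tr.leaf 42283 6
 Tr.leaf) 42295 6
 Tr.leaf)) 42307 6
 (Tr.node (Tr.node (Tr.node Tr.leaf 42321 6
 Tr.leaf) 42333 7
 Tr.leaf) 42335 6
 (Tr.node (Tr.node Tr.leaf 42341 6
 Tr.leaf) 42343 7
 Tr.leaf))) 42345 7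
 (Tr.node (Tr.node (Tr.node (Tr.node Tr.leaf 42347 6
 Tr.leaf) 42359 6
 Tr.leaf) 42363 6
 (Tr.node (Tr.node Tr.leaf 42377 6
 Tr.leaf) 42395 6
 Tr.leaf)) 42403 6
 (Tr.node (Tr.node (Tr.node Tr.leaf 42413 7
 Tr.leaf) 42415 7
 Tr.leaf) 42419 7
 (Tr.node Tr.leaf 42429 8
 Tr.leaf)))) 42437 7
 (Tr.node (Tr.node (Tr.node (Tr.node (Tr.node Tr.leaf 42439 7
 Tr.leaf) 42441 5
 Tr.leaf) 42443 7
 (Tr.node (Tr.node Tr.leaf 42453 7
 Tr.leaf) 42455 7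
 Tr.leaf)) 42459 7
 (Tr.node (Tr.node (Tr.node Tr.leaf 42465 7
 Tr.leaf) 42467 6
 Tr.leaf) 42477 8
 (Tr.node (Tr.node Tr.leaf 42493 8
 Tr.leaf) 43015 7
 Tr.leaf))) 43017 7
 (Tr.node (Tr.node (Tr.node (Tr.node Tr.leaf 43027 7
 Tr.leaf) 43037 7
 Tr.leaf) 43042 6
 (Tr.node (Tr.node Tr.leaf 43046 5
 Tr.leaf) 43055 7
 Tr.leaf)) 43058 5
 (Tr.node (Tr.node (Tr.node Tr.leaf 43067 7
 Tr.leaf) 43075 7
 Tr.leaf) 43081 7
 (Tr.node Tr.leaf 43082 6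
 Tr.leaf))))) 43085 7
 (Tr.node (Tr.node (Tr.node (Tr.node (Tr.node (Tr.node Tr.leaf 43091 7
 Tr.leaf) 43095 7
 Tr.leaf) 43097 7
 (Tr.node (Tr.node Tr.leaf 43098 6
 Tr.leaf) 43105 6
 Tr.leaf)) 43106 6
 (Tr.node (Tr.node (Tr.node Tr.leaf 43109 6
 Tr.leaf) 43110 6
 Tr.leaf) 43115 7
 (Tr.node (Tr.node Tr.leaf 43119 7
 Tr.leaf) 43122 6
 Tr.leaf))) 43131 7
 (Tr.node (Tr.node (Tr.node (Tr.node Tr.leaf 43135 7
 Tr.leaf) 43138 7
 Tr.leaf) 43147 7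
 (Tr.node (Tr.node Tr.leaf 43153 6
 Tr.leaf) 43154 6
 Tr.leaf)) 43158 7
 (Tr.node (Tr.node (Tr.node Tr.leaf 43163 7
 Tr.leaf) 43167 7
 Tr.leaf) 43175 7
 (Tr.node Tr.leaf 43177 6
 Tr.leaf)))) 43181 6
 (Tr.node (Tr.node (Tr.node (Tr.node (Tr.node Tr.leaf 43187 6
 Tr.leaf) 43191 6
 Tr.leaf) 43193 6
 (Tr.node (Tr.node Tr.leaf 43197 7
 Tr.leaf) 43206 6
 Tr.leaf)) 43211 7
 (Tr.node (Tr.node (Tr.node Tr.leaf 43215 7
 Tr.leaf) 43217 6
 Tr.leaf) 43218 7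
 (Tr.node Tr.leaf 43227 7
 Tr.leaf))) 43239 6
 (Tr.node (Tr.node (Tr.node (Tr.node Tr.leaf 43242 7
 Tr.leaf) 43245 6
 Tr.leaf) 43255 6
 (Tr.node (Tr.node Tr.leaf 43258 7
 Tr.leaf) 43265 6
 Tr.leaf)) 43266 5
 (Tr.node (Tr.node (Tr.node Tr.leaf 43270 6
 Tr.leaf) 43279 7
 Tr.leaf) 43281 6
 (Tr.node Tr.leaf 43295 7
 Tr.leaf)))))) 43303 5
 (Tr.node (Tr.node (Tr.node (Tr.node (Tr.node (Tr.node (Tr.node Tr.leaf 43309 6
 Tr.leaf) 43310 7
 Tr.leaf) 43319 7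
 (Tr.node (Tr.node Tr.leaf 43322 6
 Tr.leaf) 43333 6
 Tr.leaf)) 43346 5
 (Tr.node (Tr.node (Tr.node Tr.leaf 43349 6
 Tr.leaf) 43350 5
 Tr.leaf) 43363 6
 (Tr.node (Tr.node Tr.leaf 43373 6
 Tr.leaf) 43374 6
 Tr.leaf))) 43379 6
 (Tr.node (Tr.node (Tr.node (Tr.node Tr.leaf 43383 7
 Tr.leaf) 43385 7
 Tr.leaf) 43389 7
 (Tr.node (Tr.node Tr.leaf 43395 7
 Tr.leaf) 43401 6
 Tr.leaf)) 43405 7
 (Tr.node (Tr.node (Tr.node Tr.leaf 43411 6
 Tr.leaf) 43415 6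
 Tr.leaf) 43418 6
 (Tr.node Tr.leaf 43421 6
 Tr.leaf)))) 43422 7
 (Tr.node (Tr.node (Tr.node (Tr.node (Tr.node Tr.leaf 43425 7
 Tr.leaf) 43426 7
 Tr.leaf) 43429 6
 (Tr.node (Tr.node Tr.leaf 43439 7
 Tr.leaf) 43441 6
 Tr.leaf)) 43442 6
 (Tr.node (Tr.node (Tr.node Tr.leaf 43445 6
 Tr.leaf) 43446 5
 Tr.leaf) 43455 7
 (Tr.node (Tr.node Tr.leaf 43459 7
 Tr.leaf) 43465 5
 Tr.leaf))) 43470 6
 (Tr.node (Tr.node (Tr.node (Tr.node Tr.leaf 43481 6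
 Tr.leaf) 43490 6
 Tr.leaf) 43493 6
 (Tr.node (Tr.node Tr.leaf 43506 7
 Tr.leaf) 43509 7
 Tr.leaf)) 44033 7
 (Tr.node (Tr.node (Tr.node Tr.leaf 44035 7
 Tr.leaf) 44039 7
 Tr.leaf) 44049 7
 (Tr.node Tr.leaf 44053 7
 Tr.leaf))))) 44055 7
 (Tr.node (Tr.node (Tr.node (Tr.node (Tr.node (Tr.node Tr.leaf 44073 6
 Tr.leaf) 44075 7
 Tr.leaf) 44079 6
 (Tr.node (Tr.node Tr.leaf 44089 7
 Tr.leaf) 44093 6
 Tr.leaf)) 44097 7
 (Tr.node (Tr.node (Tr.node Tr.leaf 44101 7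
 Tr.leaf) 44103 7
 Tr.leaf) 44115 7
 (Tr.node (Tr.node Tr.leaf 44117 7
 Tr.leaf) 44137 6
 Tr.leaf))) 44139 7
 (Tr.node (Tr.node (Tr.node (Tr.node Tr.leaf 44155 6
 Tr.leaf) 44157 7
 Tr.leaf) 44169 6
 (Tr.node (Tr.node Tr.leaf 44171 6
 Tr.leaf) 44175 5
 Tr.leaf)) 44185 7
 (Tr.node (Tr.node (Tr.node Tr.leaf 44187 7
 Tr.leaf) 44189 6
 Tr.leaf) 44193 6
 (Tr.node Tr.leaf 44195 5
 Tr.leaf)))) 44197 7
 (Tr.node (Tr.node (Tr.node (Tr.node (Tr.node Tr.leaf 44209 7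
 Tr.leaf) 44215 6
 Tr.leaf) 44235 7
 (Tr.node (Tr.node Tr.leaf 44237 6
 Tr.leaf) 44239 6
 Tr.leaf)) 44257 7
 (Tr.node (Tr.node (Tr.node Tr.leaf 44261 7
 Tr.leaf) 44263 6
 Tr.leaf) 44277 5
 (Tr.node Tr.leaf 44297 7
 Tr.leaf))) 44303 6
 (Tr.node (Tr.node (Tr.node (Tr.node Tr.leaf 44313 7
 Tr.leaf) 44319 7
 Tr.leaf) 44323 7
 (Tr.node (Tr.node Tr.leaf 44339 7
 Tr.leaf) 44343 7
 Tr.leaf)) 44361 7
 (Tr.node (Tr.node (Tr.node Tr.leaf 44363 6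
 Tr.leaf) 44365 7
 Tr.leaf) 44367 6
 (Tr.node Tr.leaf 44377 6
 Tr.leaf))))))))

/-- A subtree. -/
def tr1_s11 : Tr := (Tr.node (Tr.node (Tr.node (Tr.node (Tr.node (Tr.node (Tr.node (Tr.node (Tr.node Tr.leaf 44387 7
 Tr.leaf) 44389 7
 Tr.leaf) 44391 7
 (Tr.node (Tr.node Tr.leaf 44407 7
 Tr.leaf) 44417 7
 Tr.leaf)) 44423 6
 (Tr.node (Tr.node (Tr.node Tr.leaf 44433 7
 Tr.leaf) 44435 7
 Tr.leaf) 44437 7
 (Tr.node (Tr.node Tr.leaf 44439 6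
 Tr.leaf) 44457 8
 Tr.leaf))) 44459 8
 (Tr.node (Tr.node (Tr.node (Tr.node Tr.leaf 44461 8
 Tr.leaf) 44463 7
 Tr.leaf) 44479 7
 (Tr.node (Tr.node Tr.leaf 44481 5
 Tr.leaf) 44483 6
 Tr.leaf)) 44487 6
 (Tr.node (Tr.node (Tr.node Tr.leaf 44499 6
 Tr.leaf) 44521 8
 Tr.leaf) 44523 7
 (Tr.node Tr.leaf 44525 7
 Tr.leaf)))) 44539 7
 (Tr.node (Tr.node (Tr.node (Tr.node (Tr.node Tr.leaf 45061 7
 Tr.leaf) 45075 5
 Tr.leaf) 45085 7
 (Tr.node (Tr.node Tr.leaf 45090 6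
 Tr.leaf) 45095 6
 Tr.leaf)) 45098 7
 (Tr.node (Tr.node (Tr.node Tr.leaf 45100 7
 Tr.leaf) 45103 7
 Tr.leaf) 45105 6
 (Tr.node (Tr.node Tr.leaf 45106 6
 Tr.leaf) 45108 6
 Tr.leaf))) 45111 6
 (Tr.node (Tr.node (Tr.node (Tr.node Tr.leaf 45113 6
 Tr.leaf) 45125 7
 Tr.leaf) 45133 7
 (Tr.node (Tr.node Tr.leaf 45134 6
 Tr.leaf) 45139 6
 Tr.leaf)) 45141 7
 (Tr.node (Tr.node (Tr.node Tr.leaf 45150 6
 Tr.leaf) 45153 6
 Tr.leaf) 45154 7
 (Tr.node Tr.leaf 45156 7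
 Tr.leaf))))) 45159 6
 (Tr.node (Tr.node (Tr.node (Tr.node (Tr.node (Tr.node Tr.leaf 45161 6
 Tr.leaf) 45164 6
 Tr.leaf) 45178 6
 (Tr.node (Tr.node Tr.leaf 45180 7
 Tr.leaf) 45185 6
 Tr.leaf)) 45186 6
 (Tr.node (Tr.node (Tr.node Tr.leaf 45188 6
 Tr.leaf) 45196 6
 Tr.leaf) 45199 7
 (Tr.node (Tr.node Tr.leaf 45209 6
 Tr.leaf) 45210 6
 Tr.leaf))) 45212 6
 (Tr.node (Tr.node (Tr.node (Tr.node Tr.leaf 45222 6
 Tr.leaf) 45230 6
 Tr.leaf) 45237 7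
 (Tr.node (Tr.node Tr.leaf 45238 6
 Tr.leaf) 45245 7
 Tr.leaf)) 45255 6
 (Tr.node (Tr.node (Tr.node Tr.leaf 45257 6
 Tr.leaf) 45258 6
 Tr.leaf) 45260 6
 (Tr.node Tr.leaf 45263 7
 Tr.leaf)))) 45268 5
 (Tr.node (Tr.node (Tr.node (Tr.node (Tr.node Tr.leaf 45271 7
 Tr.leaf) 45283 6
 Tr.leaf) 45291 6
 (Tr.node (Tr.node Tr.leaf 45294 6
 Tr.leaf) 45299 7
 Tr.leaf)) 45302 6
 (Tr.node (Tr.node (Tr.node Tr.leaf 45309 6
 Tr.leaf) 45310 6
 Tr.leaf) 45314 5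
 (Tr.node Tr.leaf 45319 7
 Tr.leaf))) 45321 7
 (Tr.node (Tr.node (Tr.node (Tr.node Tr.leaf 45322 5
 Tr.leaf) 45324 5
 Tr.leaf) 45329 6
 (Tr.node (Tr.node Tr.leaf 45332 6
 Tr.leaf) 45335 6
 Tr.leaf)) 45337 7
 (Tr.node (Tr.node (Tr.node Tr.leaf 45343 6
 Tr.leaf) 45347 5
 Tr.leaf) 45349 7
 (Tr.node Tr.leaf 45350 7
 Tr.leaf)))))) 45357 7
 (Tr.node (Tr.node (Tr.node (Tr.node (Tr.node (Tr.node (Tr.node Tr.leaf 45365 6
 Tr.leaf) 45366 6
 Tr.leaf) 45373 7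
 (Tr.node (Tr.node Tr.leaf 45377 7
 Tr.leaf) 45383 6
 Tr.leaf)) 45385 7
 (Tr.node (Tr.node (Tr.node Tr.leaf 45388 6
 Tr.leaf) 45393 7
 Tr.leaf) 45394 5
 (Tr.node (Tr.node Tr.leaf 45396 5
 Tr.leaf) 45402 5
 Tr.leaf))) 45419 7
 (Tr.node (Tr.node (Tr.node (Tr.node Tr.leaf 45421 6
 Tr.leaf) 45427 7
 Tr.leaf) 45435 6
 (Tr.node (Tr.node Tr.leaf 45445 7
 Tr.leaf) 45446 7
 Tr.leaf)) 45451 6
 (Tr.node (Tr.node (Tr.node Tr.leaf 45453 6
 Tr.leaf) 45461 7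
 Tr.leaf) 45462 7
 (Tr.node Tr.leaf 45470 6
 Tr.leaf)))) 45473 7
 (Tr.node (Tr.node (Tr.node (Tr.node (Tr.node Tr.leaf 45474 7
 Tr.leaf) 45476 6
 Tr.leaf) 45479 7
 (Tr.node (Tr.node Tr.leaf 45481 6
 Tr.leaf) 45482 6
 Tr.leaf)) 45484 7
 (Tr.node (Tr.node (Tr.node Tr.leaf 45497 7
 Tr.leaf) 45498 6
 Tr.leaf) 45500 6
 (Tr.node (Tr.node Tr.leaf 45507 6
 Tr.leaf) 45509 7
 Tr.leaf))) 45510 6
 (Tr.node (Tr.node (Tr.node (Tr.node Tr.leaf 45515 6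
 Tr.leaf) 45517 7
 Tr.leaf) 45523 6
 (Tr.node (Tr.node Tr.leaf 45525 6
 Tr.leaf) 45537 6
 Tr.leaf)) 45538 5
 (Tr.node (Tr.node (Tr.node Tr.leaf 45540 5
 Tr.leaf) 45543 7
 Tr.leaf) 45545 6
 (Tr.node Tr.leaf 45548 7
 Tr.leaf))))) 45564 6
 (Tr.node (Tr.node (Tr.node (Tr.node (Tr.node (Tr.node Tr.leaf 46083 6
 Tr.leaf) 46089 6
 Tr.leaf) 46107 6
 (Tr.node (Tr.node Tr.leaf 46117 7
 Tr.leaf) 46125 7
 Tr.leaf)) 46135 7
 (Tr.node (Tr.node (Tr.node Tr.leaf 46143 7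
 Tr.leaf) 46147 6
 Tr.leaf) 46153 6
 (Tr.node (Tr.node Tr.leaf 46171 6
 Tr.leaf) 46181 7
 Tr.leaf))) 46183 7
 (Tr.node (Tr.node (Tr.node (Tr.node Tr.leaf 46189 7
 Tr.leaf) 46197 6
 Tr.leaf) 46199 7
 (Tr.node (Tr.node Tr.leaf 46205 7
 Tr.leaf) 46207 7
 Tr.leaf)) 46213 7
 (Tr.node (Tr.node (Tr.node Tr.leaf 46221 7
 Tr.leaf) 46223 7
 Tr.leaf) 46231 6
 (Tr.node Tr.leaf 46237 7
 Tr.leaf)))) 46241 7
 (Tr.node (Tr.node (Tr.node (Tr.node (Tr.node Tr.leaf 46243 6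
 Tr.leaf) 46249 6
 Tr.leaf) 46251 5
 (Tr.node (Tr.node Tr.leaf 46257 6
 Tr.leaf) 46259 6
 Tr.leaf)) 46265 6
 (Tr.node (Tr.node (Tr.node Tr.leaf 46293 6
 Tr.leaf) 46295 7
 Tr.leaf) 46301 6
 (Tr.node Tr.leaf 46321 5
 Tr.leaf))) 46329 6
 (Tr.node (Tr.node (Tr.node (Tr.node Tr.leaf 46341 7
 Tr.leaf) 46349 7
 Tr.leaf) 46365 7
 (Tr.node (Tr.node Tr.leaf 46379 6
 Tr.leaf) 46387 6
 Tr.leaf)) 46395 7
 (Tr.node (Tr.node (Tr.node Tr.leaf 46405 7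
 Tr.leaf) 46407 7
 Tr.leaf) 46415 7
 (Tr.node Tr.leaf 46421 7
 Tr.leaf))))))) 46431 7
 (Tr.node (Tr.node (Tr.node (Tr.node (Tr.node (Tr.node (Tr.node (Tr.node Tr.leaf 46433 7
 Tr.leaf) 46435 7
 Tr.leaf) 46441 6
 (Tr.node (Tr.node Tr.leaf 46443 7
 Tr.leaf) 46449 7
 Tr.leaf)) 46451 6
 (Tr.node (Tr.node (Tr.node Tr.leaf 46465 7
 Tr.leaf) 46473 7
 Tr.leaf) 46475 6
 (Tr.node (Tr.node Tr.leaf 46481 6
 Tr.leaf) 46483 7
 Tr.leaf))) 46489 7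
 (Tr.node (Tr.node (Tr.node (Tr.node Tr.leaf 46511 7
 Tr.leaf) 46519 7
 Tr.leaf) 46525 8
 (Tr.node (Tr.node Tr.leaf 46529 7
 Tr.leaf) 46547 7
 Tr.leaf)) 46553 7
 (Tr.node (Tr.node (Tr.node Tr.leaf 46567 8
 Tr.leaf) 46573 8
 Tr.leaf) 46589 8
 (Tr.node Tr.leaf 47106 6
 Tr.leaf)))) 47109 7
 (Tr.node (Tr.node (Tr.node (Tr.node (Tr.node Tr.leaf 47113 7
 Tr.leaf) 47117 7
 Tr.leaf) 47118 6
 (Tr.node (Tr.node Tr.leaf 47121 7
 Tr.leaf) 47122 6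
 Tr.leaf)) 47125 7
 (Tr.node (Tr.node (Tr.node Tr.leaf 47129 7
 Tr.leaf) 47134 6
 Tr.leaf) 47151 6
 (Tr.node (Tr.node Tr.leaf 47155 6
 Tr.leaf) 47159 5
 Tr.leaf))) 47163 6
 (Tr.node (Tr.node (Tr.node (Tr.node Tr.leaf 47169 7
 Tr.leaf) 47174 7
 Tr.leaf) 47181 7
 (Tr.node (Tr.node Tr.leaf 47189 7
 Tr.leaf) 47190 6
 Tr.leaf)) 47193 7
 (Tr.node (Tr.node (Tr.node Tr.leaf 47197 7
 Tr.leaf) 47207 7
 Tr.leaf) 47215 7
 (Tr.node Tr.leaf 47219 7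
 Tr.leaf))))) 47223 6
 (Tr.node (Tr.node (Tr.node (Tr.node (Tr.node (Tr.node Tr.leaf 47231 6
 Tr.leaf) 47243 7
 Tr.leaf) 47247 6
 (Tr.node (Tr.node Tr.leaf 47255 6
 Tr.leaf) 47266 6
 Tr.leaf)) 47269 6
 (Tr.node (Tr.node (Tr.node Tr.leaf 47270 6
 Tr.leaf) 47273 5
 Tr.leaf) 47281 6
 (Tr.node (Tr.node Tr.leaf 47282 7
 Tr.leaf) 47289 7
 Tr.leaf))) 47293 7
 (Tr.node (Tr.node (Tr.node (Tr.node Tr.leaf 47294 5
 Tr.leaf) 47299 6
 Tr.leaf) 47311 7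
 (Tr.node (Tr.node Tr.leaf 47315 7
 Tr.leaf) 47319 7
 Tr.leaf)) 47323 6
 (Tr.node (Tr.node (Tr.node Tr.leaf 47327 6
 Tr.leaf) 47330 6
 Tr.leaf) 47334 7
 (Tr.node Tr.leaf 47341 7
 Tr.leaf)))) 47346 7
 (Tr.node (Tr.node (Tr.node (Tr.node (Tr.node Tr.leaf 47349 5
 Tr.leaf) 47350 7
 Tr.leaf) 47353 7
 (Tr.node (Tr.node Tr.leaf 47354 6
 Tr.leaf) 47357 6
 Tr.leaf)) 47358 6
 (Tr.node (Tr.node (Tr.node Tr.leaf 47367 7
 Tr.leaf) 47371 7
 Tr.leaf) 47379 6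
 (Tr.node Tr.leaf 47383 6
 Tr.leaf))) 47387 7
 (Tr.node (Tr.node (Tr.node (Tr.node Tr.leaf 47397 5
 Tr.leaf) 47402 6
 Tr.leaf) 47405 7
 (Tr.node (Tr.node Tr.leaf 47409 6
 Tr.leaf) 47410 6
 Tr.leaf)) 47413 6
 (Tr.node (Tr.node (Tr.node Tr.leaf 47414 6
 Tr.leaf) 47418 7
 Tr.leaf) 47422 6
 (Tr.node Tr.leaf 47435 6
 Tr.leaf)))))) 47439 7
 (Tr.node (Tr.node (Tr.node (Tr.node (Tr.node (Tr.node (Tr.node Tr.leaf 47443 6
 Tr.leaf) 47451 7
 Tr.leaf) 47455 7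
 (Tr.node (Tr.node Tr.leaf 47457 6
 Tr.leaf) 47458 5
 Tr.leaf)) 47461 7
 (Tr.node (Tr.node (Tr.node Tr.leaf 47466 6
 Tr.leaf) 47469 7
 Tr.leaf) 47473 6
 (Tr.node (Tr.node Tr.leaf 47474 7
 Tr.leaf) 47478 6
 Tr.leaf))) 47481 6
 (Tr.node (Tr.node (Tr.node (Tr.node Tr.leaf 47485 7
 Tr.leaf) 47486 7
 Tr.leaf) 47489 7
 (Tr.node (Tr.node Tr.leaf 47493 7
 Tr.leaf) 47498 7
 Tr.leaf)) 47505 7
 (Tr.node (Tr.node (Tr.node Tr.leaf 47506 6
 Tr.leaf) 47513 7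
 Tr.leaf) 47514 6
 (Tr.node Tr.leaf 47518 6
 Tr.leaf)))) 47527 7
 (Tr.node (Tr.node (Tr.node (Tr.node (Tr.node Tr.leaf 47543 7
 Tr.leaf) 47547 7
 Tr.leaf) 47551 8
 (Tr.node (Tr.node Tr.leaf 47554 5
 Tr.leaf) 47557 7
 Tr.leaf)) 47558 6
 (Tr.node (Tr.node (Tr.node Tr.leaf 47566 6
 Tr.leaf) 47569 7
 Tr.leaf) 47570 7
 (Tr.node Tr.leaf 47573 7
 Tr.leaf))) 47587 7
 (Tr.node (Tr.node (Tr.node (Tr.node Tr.leaf 47603 7
 Tr.leaf) 47607 8
 Tr.leaf) 47611 8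
 (Tr.node (Tr.node Tr.leaf 47615 8
 Tr.leaf) 48161 7
 Tr.leaf)) 48163 7
 (Tr.node (Tr.node (Tr.node Tr.leaf 48167 6
 Tr.leaf) 48169 6
 Tr.leaf) 48175 6
 (Tr.node Tr.leaf 48181 6
 Tr.leaf))))) 48187 6
 (Tr.node (Tr.node (Tr.node (Tr.node (Tr.node (Tr.node Tr.leaf 48189 6
 Tr.leaf) 48191 7
 Tr.leaf) 48227 7
 (Tr.node (Tr.node Tr.leaf 48235 7
 Tr.leaf) 48237 7
 Tr.leaf)) 48239 6
 (Tr.node (Tr.node (Tr.node Tr.leaf 48243 7
 Tr.leaf) 48251 6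
 Tr.leaf) 48253 7
 (Tr.node (Tr.node Tr.leaf 48261 7
 Tr.leaf) 48265 7
 Tr.leaf))) 48269 6
 (Tr.node (Tr.node (Tr.node (Tr.node Tr.leaf 48271 6
 Tr.leaf) 48273 6
 Tr.leaf) 48277 6
 (Tr.node (Tr.node Tr.leaf 48279 6
 Tr.leaf) 48281 7
 Tr.leaf)) 48321 6
 (Tr.node (Tr.node (Tr.node Tr.leaf 48323 7
 Tr.leaf) 48325 6
 Tr.leaf) 48337 7
 (Tr.node Tr.leaf 48339 7
 Tr.leaf)))) 48343 7
 (Tr.node (Tr.node (Tr.node (Tr.node (Tr.node Tr.leaf 48349 6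
 Tr.leaf) 48351 7
 Tr.leaf) 48387 7
 (Tr.node (Tr.node Tr.leaf 48389 7
 Tr.leaf) 48393 7
 Tr.leaf)) 48395 6
 (Tr.node (Tr.node (Tr.node Tr.leaf 48397 6
 Tr.leaf) 48401 6
 Tr.leaf) 48403 7
 (Tr.node Tr.leaf 48413 6
 Tr.leaf))) 48415 7
 (Tr.node (Tr.node (Tr.node (Tr.node Tr.leaf 48451 6
 Tr.leaf) 48455 7
 Tr.leaf) 48457 7
 (Tr.node (Tr.node Tr.leaf 48463 6
 Tr.leaf) 48467 6
 Tr.leaf)) 48469 6
 (Tr.node (Tr.node (Tr.node Tr.leaf 48471 7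
 Tr.leaf) 48473 7
 Tr.leaf) 48477 7
 (Tr.node Tr.leaf 48549 7
 Tr.leaf))))))))

/-- A subtree. -/
def tr1_s12 : Tr := (Tr.node (Tr.node (Tr.node (Tr.node (Tr.node (Tr.node (Tr.node (Tr.node (Tr.node Tr.leaf 48553 7
 Tr.leaf) 48555 8
 Tr.leaf) 48559 7
 (Tr.node (Tr.node Tr.leaf 48561 8
 Tr.leaf) 48565 7
 Tr.leaf)) 48567 7
 (Tr.node (Tr.node (Tr.node Tr.leaf 48575 8
 Tr.leaf) 48611 7
 Tr.leaf) 48623 8
 (Tr.node (Tr.node Tr.leaf 48627 7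
 Tr.leaf) 48629 8
 Tr.leaf))) 48637 7
 (Tr.node (Tr.node (Tr.node (Tr.node Tr.leaf 49153 4
 Tr.leaf) 49156 4
 Tr.leaf) 49160 4
 (Tr.node (Tr.node Tr.leaf 49163 7
 Tr.leaf) 49168 4
 Tr.leaf)) 49174 6
 (Tr.node (Tr.node (Tr.node Tr.leaf 49178 6
 Tr.leaf) 49180 7
 Tr.leaf) 49185 4
 (Tr.node Tr.leaf 49188 4
 Tr.leaf)))) 49191 7
 (Tr.node (Tr.node (Tr.node (Tr.node (Tr.node Tr.leaf 49192 4
 Tr.leaf) 49197 6
 Tr.leaf) 49200 4
 (Tr.node (Tr.node Tr.leaf 49203 6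
 Tr.leaf) 49209 6
 Tr.leaf)) 49212 6
 (Tr.node (Tr.node (Tr.node Tr.leaf 49217 4
 Tr.leaf) 49220 3
 Tr.leaf) 49223 6
 (Tr.node (Tr.node Tr.leaf 49224 4
 Tr.leaf) 49227 6
 Tr.leaf))) 49230 5
 (Tr.node (Tr.node (Tr.node (Tr.node Tr.leaf 49232 4
 Tr.leaf) 49237 5
 Tr.leaf) 49238 6
 (Tr.node (Tr.node Tr.leaf 49241 6
 Tr.leaf) 49242 6
 Tr.leaf)) 49244 6
 (Tr.node (Tr.node (Tr.node Tr.leaf 49249 4
 Tr.leaf) 49252 4
 Tr.leaf) 49255 7
 (Tr.node Tr.leaf 49256 4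
 Tr.leaf))))) 49259 7
 (Tr.node (Tr.node (Tr.node (Tr.node (Tr.node (Tr.node Tr.leaf 49261 6
 Tr.leaf) 49262 6
 Tr.leaf) 49264 4
 (Tr.node (Tr.node Tr.leaf 49274 6
 Tr.leaf) 49279 6
 Tr.leaf)) 49283 6
 (Tr.node (Tr.node (Tr.node Tr.leaf 49286 5
 Tr.leaf) 49289 7
 Tr.leaf) 49292 5
 (Tr.node (Tr.node Tr.leaf 49295 6
 Tr.leaf) 49310 6
 Tr.leaf))) 49315 6
 (Tr.node (Tr.node (Tr.node (Tr.node Tr.leaf 49327 6
 Tr.leaf) 49330 6
 Tr.leaf) 49335 6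
 (Tr.node (Tr.node Tr.leaf 49341 6
 Tr.leaf) 49342 5
 Tr.leaf)) 49347 6
 (Tr.node (Tr.node (Tr.node Tr.leaf 49349 5
 Tr.leaf) 49359 6
 Tr.leaf) 49361 6
 (Tr.node Tr.leaf 49362 6
 Tr.leaf)))) 49364 6
 (Tr.node (Tr.node (Tr.node (Tr.node (Tr.node Tr.leaf 49371 7
 Tr.leaf) 49374 6
 Tr.leaf) 49379 6
 (Tr.node (Tr.node Tr.leaf 49382 5
 Tr.leaf) 49385 7
 Tr.leaf)) 49388 5
 (Tr.node (Tr.node (Tr.node Tr.leaf 49394 7
 Tr.leaf) 49399 6
 Tr.leaf) 49405 6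
 (Tr.node Tr.leaf 49406 6
 Tr.leaf))) 49414 6
 (Tr.node (Tr.node (Tr.node (Tr.node Tr.leaf 49417 6
 Tr.leaf) 49418 6
 Tr.leaf) 49420 6
 (Tr.node (Tr.node Tr.leaf 49423 6
 Tr.leaf) 49428 7
 Tr.leaf)) 49431 7
 (Tr.node (Tr.node (Tr.node Tr.leaf 49435 6
 Tr.leaf) 49437 6
 Tr.leaf) 49443 6
 (Tr.node Tr.leaf 49446 7
 Tr.leaf)))))) 49450 5
 (Tr.node (Tr.node (Tr.node (Tr.node (Tr.node (Tr.node (Tr.node Tr.leaf 49455 7
 Tr.leaf) 49457 6
 Tr.leaf) 49460 6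
 (Tr.node (Tr.node Tr.leaf 49464 5
 Tr.leaf) 49469 6
 Tr.leaf)) 49477 5
 (Tr.node (Tr.node (Tr.node Tr.leaf 49482 5
 Tr.leaf) 49487 6
 Tr.leaf) 49490 6
 (Tr.node (Tr.node Tr.leaf 49492 6
 Tr.leaf) 49495 6
 Tr.leaf))) 49496 5
 (Tr.node (Tr.node (Tr.node (Tr.node Tr.leaf 49499 7
 Tr.leaf) 49501 6
 Tr.leaf) 49502 6
 (Tr.node (Tr.node Tr.leaf 49507 6
 Tr.leaf) 49509 6
 Tr.leaf)) 49510 6
 (Tr.node (Tr.node (Tr.node Tr.leaf 49522 6
 Tr.leaf) 49531 7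
 Tr.leaf) 49538 6
 (Tr.node Tr.leaf 49540 6
 Tr.leaf)))) 49543 6
 (Tr.node (Tr.node (Tr.node (Tr.node (Tr.node Tr.leaf 49549 6
 Tr.leaf) 49550 6
 Tr.leaf) 49552 7
 (Tr.node (Tr.node Tr.leaf 49557 7
 Tr.leaf) 49558 7
 Tr.leaf)) 49562 6
 (Tr.node (Tr.node (Tr.node Tr.leaf 49564 6
 Tr.leaf) 49569 7
 Tr.leaf) 49575 7
 (Tr.node (Tr.node Tr.leaf 49576 5
 Tr.leaf) 49590 6
 Tr.leaf))) 49593 6
 (Tr.node (Tr.node (Tr.node (Tr.node Tr.leaf 49596 6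
 Tr.leaf) 49601 6
 Tr.leaf) 49602 7
 (Tr.node (Tr.node Tr.leaf 49604 6
 Tr.leaf) 49607 6
 Tr.leaf)) 49608 6
 (Tr.node (Tr.node (Tr.node Tr.leaf 49613 7
 Tr.leaf) 49614 6
 Tr.leaf) 49616 6
 (Tr.node Tr.leaf 49619 6
 Tr.leaf))))) 49622 6
 (Tr.node (Tr.node (Tr.node (Tr.node (Tr.node (Tr.node Tr.leaf 49631 7
 Tr.leaf) 49633 7
 Tr.leaf) 49634 6
 (Tr.node (Tr.node Tr.leaf 49636 5
 Tr.leaf) 49639 6
 Tr.leaf)) 49643 6
 (Tr.node (Tr.node (Tr.node Tr.leaf 49653 7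
 Tr.leaf) 49658 5
 Tr.leaf) 49663 7
 (Tr.node (Tr.node Tr.leaf 50181 7
 Tr.leaf) 50183 7
 Tr.leaf))) 50187 7
 (Tr.node (Tr.node (Tr.node (Tr.node Tr.leaf 50205 7
 Tr.leaf) 50207 7
 Tr.leaf) 50215 7
 (Tr.node (Tr.node Tr.leaf 50217 7
 Tr.leaf) 50219 7
 Tr.leaf)) 50225 6
 (Tr.node (Tr.node (Tr.node Tr.leaf 50227 6
 Tr.leaf) 50237 7
 Tr.leaf) 50239 7
 (Tr.node Tr.leaf 50247 7
 Tr.leaf)))) 50249 7
 (Tr.node (Tr.node (Tr.node (Tr.node (Tr.node Tr.leaf 50271 7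
 Tr.leaf) 50277 7
 Tr.leaf) 50283 7
 (Tr.node (Tr.node Tr.leaf 50301 7
 Tr.leaf) 50305 6
 Tr.leaf)) 50325 6
 (Tr.node (Tr.node (Tr.node Tr.leaf 50327 5
 Tr.leaf) 50329 7
 Tr.leaf) 50331 7
 (Tr.node Tr.leaf 50337 6
 Tr.leaf))) 50359 6
 (Tr.node (Tr.node (Tr.node (Tr.node Tr.leaf 50361 6
 Tr.leaf) 50371 6
 Tr.leaf) 50381 7
 (Tr.node (Tr.node Tr.leaf 50389 7
 Tr.leaf) 50403 6
 Tr.leaf)) 50413 7
 (Tr.node (Tr.node (Tr.node Tr.leaf 50421 6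
 Tr.leaf) 50425 6
 Tr.leaf) 50435 6
 (Tr.node Tr.leaf 50447 7
 Tr.leaf))))))) 50453 6
 (Tr.node (Tr.node (Tr.node (Tr.node (Tr.node (Tr.node (Tr.node (Tr.node Tr.leaf 50477 7
 Tr.leaf) 50479 7
 Tr.leaf) 50485 6
 (Tr.node (Tr.node Tr.leaf 50489 6
 Tr.leaf) 50499 6
 Tr.leaf)) 50509 7
 (Tr.node (Tr.node (Tr.node Tr.leaf 50511 7
 Tr.leaf) 50517 6
 Tr.leaf) 50519 6
 (Tr.node (Tr.node Tr.leaf 50521 7
 Tr.leaf) 50523 6
 Tr.leaf))) 50543 7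
 (Tr.node (Tr.node (Tr.node (Tr.node Tr.leaf 50549 7
 Tr.leaf) 50553 6
 Tr.leaf) 50555 6
 (Tr.node (Tr.node Tr.leaf 50571 6
 Tr.leaf) 50577 7
 Tr.leaf)) 50599 7
 (Tr.node (Tr.node (Tr.node Tr.leaf 50603 6
 Tr.leaf) 50609 6
 Tr.leaf) 50629 6
 (Tr.node Tr.leaf 50631 6
 Tr.leaf)))) 50633 5
 (Tr.node (Tr.node (Tr.node (Tr.node (Tr.node Tr.leaf 50641 6
 Tr.leaf) 50643 6
 Tr.leaf) 50653 7
 (Tr.node (Tr.node Tr.leaf 50663 7
 Tr.leaf) 50665 7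
 Tr.leaf)) 50667 7
 (Tr.node (Tr.node (Tr.node Tr.leaf 50673 6
 Tr.leaf) 50675 7
 Tr.leaf) 50685 7
 (Tr.node (Tr.node Tr.leaf 51203 7
 Tr.leaf) 51207 7
 Tr.leaf))) 51213 6
 (Tr.node (Tr.node (Tr.node (Tr.node Tr.leaf 51214 7
 Tr.leaf) 51218 6
 Tr.leaf) 51231 6
 (Tr.node (Tr.node Tr.leaf 51235 7
 Tr.leaf) 51246 6
 Tr.leaf)) 51250 6
 (Tr.node (Tr.node (Tr.node Tr.leaf 51254 5
 Tr.leaf) 51263 7
 Tr.leaf) 51267 7
 (Tr.node Tr.leaf 51277 6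
 Tr.leaf))))) 51281 6
 (Tr.node (Tr.node (Tr.node (Tr.node (Tr.node (Tr.node Tr.leaf 51282 5
 Tr.leaf) 51285 6
 Tr.leaf) 51291 7
 (Tr.node (Tr.node Tr.leaf 51295 6
 Tr.leaf) 51303 7
 Tr.leaf)) 51314 6
 (Tr.node (Tr.node (Tr.node Tr.leaf 51318 5
 Tr.leaf) 51333 6
 Tr.leaf) 51339 6
 (Tr.node (Tr.node Tr.leaf 51343 7
 Tr.leaf) 51347 6
 Tr.leaf))) 51353 6
 (Tr.node (Tr.node (Tr.node (Tr.node Tr.leaf 51354 6
 Tr.leaf) 51358 6
 Tr.leaf) 51361 6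
 (Tr.node (Tr.node Tr.leaf 51366 6
 Tr.leaf) 51379 7
 Tr.leaf)) 51383 6
 (Tr.node (Tr.node (Tr.node Tr.leaf 51385 6
 Tr.leaf) 51389 7
 Tr.leaf) 51394 6
 (Tr.node Tr.leaf 51403 6
 Tr.leaf)))) 51411 6
 (Tr.node (Tr.node (Tr.node (Tr.node (Tr.node Tr.leaf 51418 6
 Tr.leaf) 51429 6
 Tr.leaf) 51435 6
 (Tr.node (Tr.node Tr.leaf 51439 5
 Tr.leaf) 51443 6
 Tr.leaf)) 51449 6
 (Tr.node (Tr.node (Tr.node Tr.leaf 51450 5
 Tr.leaf) 51453 6
 Tr.leaf) 51454 5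
 (Tr.node Tr.leaf 51457 6
 Tr.leaf))) 51462 7
 (Tr.node (Tr.node (Tr.node (Tr.node Tr.leaf 51475 7
 Tr.leaf) 51482 6
 Tr.leaf) 51485 7
 (Tr.node (Tr.node Tr.leaf 51486 5
 Tr.leaf) 51489 6
 Tr.leaf)) 51490 6
 (Tr.node (Tr.node (Tr.node Tr.leaf 51499 7
 Tr.leaf) 51503 7
 Tr.leaf) 51513 6
 (Tr.node Tr.leaf 51514 6
 Tr.leaf)))))) 51517 7
 (Tr.node (Tr.node (Tr.node (Tr.node (Tr.node (Tr.node (Tr.node Tr.leaf 51522 7
 Tr.leaf) 51526 6
 Tr.leaf) 51531 7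
 (Tr.node (Tr.node Tr.leaf 51535 7
 Tr.leaf) 51539 7
 Tr.leaf)) 51543 7
 (Tr.node (Tr.node (Tr.node Tr.leaf 51546 7
 Tr.leaf) 51549 6
 Tr.leaf) 51550 6
 (Tr.node (Tr.node Tr.leaf 51558 7
 Tr.leaf) 51567 6
 Tr.leaf))) 51577 5
 (Tr.node (Tr.node (Tr.node (Tr.node Tr.leaf 51578 6
 Tr.leaf) 51582 6
 Tr.leaf) 51587 7
 (Tr.node (Tr.node Tr.leaf 51591 7
 Tr.leaf) 51593 7
 Tr.leaf)) 51598 6
 (Tr.node (Tr.node (Tr.node Tr.leaf 51606 5
 Tr.leaf) 51615 8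
 Tr.leaf) 51619 7
 (Tr.node Tr.leaf 51623 7
 Tr.leaf)))) 51625 7
 (Tr.node (Tr.node (Tr.node (Tr.node (Tr.node Tr.leaf 51626 6
 Tr.leaf) 51629 6
 Tr.leaf) 51633 6
 (Tr.node (Tr.node Tr.leaf 51634 6
 Tr.leaf) 51637 7
 Tr.leaf)) 51647 8
 (Tr.node (Tr.node (Tr.node Tr.leaf 51657 5
 Tr.leaf) 51658 7
 Tr.leaf) 51662 6
 (Tr.node (Tr.node Tr.leaf 51665 7
 Tr.leaf) 51666 7
 Tr.leaf))) 51670 5
 (Tr.node (Tr.node (Tr.node (Tr.node Tr.leaf 51679 7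
 Tr.leaf) 51690 5
 Tr.leaf) 51693 6
 (Tr.node (Tr.node Tr.leaf 51697 6
 Tr.leaf) 51698 6
 Tr.leaf)) 51707 7
 (Tr.node (Tr.node (Tr.node Tr.leaf 51711 7
 Tr.leaf) 52227 7
 Tr.leaf) 52229 7
 (Tr.node Tr.leaf 52251 6
 Tr.leaf))))) 52253 7
 (Tr.node (Tr.node (Tr.node (Tr.node (Tr.node (Tr.node Tr.leaf 52257 7
 Tr.leaf) 52261 7
 Tr.leaf) 52263 7
 (Tr.node (Tr.node Tr.leaf 52283 7
 Tr.leaf) 52287 6
 Tr.leaf)) 52289 7
 (Tr.node (Tr.node (Tr.node Tr.leaf 52293 7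
 Tr.leaf) 52295 7
 Tr.leaf) 52317 6
 (Tr.node (Tr.node Tr.leaf 52319 7
 Tr.leaf) 52321 7
 Tr.leaf))) 52323 7
 (Tr.node (Tr.node (Tr.node (Tr.node Tr.leaf 52327 7
 Tr.leaf) 52345 6
 Tr.leaf) 52347 7
 (Tr.node (Tr.node Tr.leaf 52351 6
 Tr.leaf) 52365 7
 Tr.leaf)) 52367 6
 (Tr.node (Tr.node (Tr.node Tr.leaf 52369 7
 Tr.leaf) 52393 6
 Tr.leaf) 52395 6
 (Tr.node Tr.leaf 52397 7
 Tr.leaf)))) 52399 7
 (Tr.node (Tr.node (Tr.node (Tr.node (Tr.node Tr.leaf 52401 7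
 Tr.leaf) 52403 7
 Tr.leaf) 52405 7
 (Tr.node (Tr.node Tr.leaf 52425 7
 Tr.leaf) 52431 7
 Tr.leaf)) 52433 7
 (Tr.node (Tr.node (Tr.node Tr.leaf 52435 7
 Tr.leaf) 52457 6
 Tr.leaf) 52463 7
 (Tr.node Tr.leaf 52467 7
 Tr.leaf))) 52501 5
 (Tr.node (Tr.node (Tr.node (Tr.node Tr.leaf 52521 6
 Tr.leaf) 52523 7
 Tr.leaf) 52525 6
 (Tr.node (Tr.node Tr.leaf 52529 6
 Tr.leaf) 52533 7
 Tr.leaf)) 52535 7
 (Tr.node (Tr.node (Tr.node Tr.leaf 52555 7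
 Tr.leaf) 52557 6
 Tr.leaf) 52559 7
 (Tr.node Tr.leaf 52561 6
 Tr.leaf))))))))

/-- A subtree. -/
def tr1_s13 : Tr := (Tr.node (Tr.node (Tr.node (Tr.node (Tr.node (Tr.node (Tr.node (Tr.node (Tr.node Tr.leaf 52585 5
 Tr.leaf) 52587 6
 Tr.leaf) 52591 6
 (Tr.node (Tr.node Tr.leaf 52595 5
 Tr.leaf) 52597 7
 Tr.leaf)) 52599 6
 (Tr.node (Tr.node (Tr.node Tr.leaf 52611 6
 Tr.leaf) 52635 7
 Tr.leaf) 52641 6
 (Tr.node (Tr.node Tr.leaf 52643 6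
 Tr.leaf) 52647 6
 Tr.leaf))) 52667 7
 (Tr.node (Tr.node (Tr.node (Tr.node Tr.leaf 52669 7
 Tr.leaf) 52671 8
 Tr.leaf) 52673 5
 (Tr.node (Tr.node Tr.leaf 52675 7
 Tr.leaf) 52677 7
 Tr.leaf)) 52679 7
 (Tr.node (Tr.node (Tr.node Tr.leaf 52697 7
 Tr.leaf) 52705 6
 Tr.leaf) 52711 7
 (Tr.node Tr.leaf 52729 7
 Tr.leaf)))) 52731 8
 (Tr.node (Tr.node (Tr.node (Tr.node (Tr.node Tr.leaf 52733 8
 Tr.leaf) 52735 8
 Tr.leaf) 53254 7
 (Tr.node (Tr.node Tr.leaf 53259 7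
 Tr.leaf) 53261 6
 Tr.leaf)) 53266 7
 (Tr.node (Tr.node (Tr.node Tr.leaf 53268 6
 Tr.leaf) 53283 7
 Tr.leaf) 53286 6
 (Tr.node (Tr.node Tr.leaf 53291 7
 Tr.leaf) 53297 6
 Tr.leaf))) 53298 6
 (Tr.node (Tr.node (Tr.node (Tr.node Tr.leaf 53305 6
 Tr.leaf) 53306 7
 Tr.leaf) 53308 7
 (Tr.node (Tr.node Tr.leaf 53311 6
 Tr.leaf) 53315 7
 Tr.leaf)) 53325 5
 (Tr.node (Tr.node (Tr.node Tr.leaf 53329 6
 Tr.leaf) 53337 6
 Tr.leaf) 53338 6
 (Tr.node Tr.leaf 53340 6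
 Tr.leaf))))) 53343 6
 (Tr.node (Tr.node (Tr.node (Tr.node (Tr.node (Tr.node Tr.leaf 53355 7
 Tr.leaf) 53362 7
 Tr.leaf) 53364 7
 (Tr.node (Tr.node Tr.leaf 53367 7
 Tr.leaf) 53372 6
 Tr.leaf)) 53375 6
 (Tr.node (Tr.node (Tr.node Tr.leaf 53380 6
 Tr.leaf) 53385 7
 Tr.leaf) 53386 5
 (Tr.node (Tr.node Tr.leaf 53388 5
 Tr.leaf) 53397 5
 Tr.leaf))) 53405 6
 (Tr.node (Tr.node (Tr.node (Tr.node Tr.leaf 53409 7
 Tr.leaf) 53410 5
 Tr.leaf) 53417 7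
 (Tr.node (Tr.node Tr.leaf 53423 6
 Tr.leaf) 53427 6
 Tr.leaf)) 53429 7
 (Tr.node (Tr.node (Tr.node Tr.leaf 53441 7
 Tr.leaf) 53447 6
 Tr.leaf) 53449 6
 (Tr.node Tr.leaf 53450 5
 Tr.leaf)))) 53455 6
 (Tr.node (Tr.node (Tr.node (Tr.node (Tr.node Tr.leaf 53459 7
 Tr.leaf) 53467 6
 Tr.leaf) 53470 6
 (Tr.node (Tr.node Tr.leaf 53473 7
 Tr.leaf) 53474 6
 Tr.leaf)) 53476 6
 (Tr.node (Tr.node (Tr.node Tr.leaf 53484 5
 Tr.leaf) 53487 7
 Tr.leaf) 53491 7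
 (Tr.node Tr.leaf 53499 7
 Tr.leaf))) 53501 6
 (Tr.node (Tr.node (Tr.node (Tr.node Tr.leaf 53502 7
 Tr.leaf) 53514 6
 Tr.leaf) 53519 7
 (Tr.node (Tr.node Tr.leaf 53523 6
 Tr.leaf) 53526 5
 Tr.leaf)) 53533 7
 (Tr.node (Tr.node (Tr.node Tr.leaf 53534 6
 Tr.leaf) 53537 6
 Tr.leaf) 53538 6
 (Tr.node Tr.leaf 53540 6
 Tr.leaf)))))) 53543 7
 (Tr.node (Tr.node (Tr.node (Tr.node (Tr.node (Tr.node (Tr.node Tr.leaf 53551 6
 Tr.leaf) 53557 6
 Tr.leaf) 53558 5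
 (Tr.node (Tr.node Tr.leaf 53565 6
 Tr.leaf) 53569 6
 Tr.leaf)) 53570 6
 (Tr.node (Tr.node (Tr.node Tr.leaf 53572 6
 Tr.leaf) 53587 7
 Tr.leaf) 53595 7
 (Tr.node (Tr.node Tr.leaf 53598 6
 Tr.leaf) 53602 5
 Tr.leaf))) 53607 7
 (Tr.node (Tr.node (Tr.node (Tr.node Tr.leaf 53609 6
 Tr.leaf) 53610 6
 Tr.leaf) 53612 6
 (Tr.node (Tr.node Tr.leaf 53622 6
 Tr.leaf) 53630 6
 Tr.leaf)) 53643 6
 (Tr.node (Tr.node (Tr.node Tr.leaf 53645 6
 Tr.leaf) 53650 6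
 Tr.leaf) 53667 7
 (Tr.node Tr.leaf 53669 6
 Tr.leaf)))) 53675 7
 (Tr.node (Tr.node (Tr.node (Tr.node (Tr.node Tr.leaf 53677 6
 Tr.leaf) 53678 6
 Tr.leaf) 53681 6
 (Tr.node (Tr.node Tr.leaf 53682 7
 Tr.leaf) 53689 6
 Tr.leaf)) 53690 6
 (Tr.node (Tr.node (Tr.node Tr.leaf 53692 6
 Tr.leaf) 53695 7
 Tr.leaf) 53702 6
 (Tr.node (Tr.node Tr.leaf 53707 7
 Tr.leaf) 53710 7
 Tr.leaf))) 53713 7
 (Tr.node (Tr.node (Tr.node (Tr.node Tr.leaf 53714 6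
 Tr.leaf) 53716 6
 Tr.leaf) 53731 6
 (Tr.node (Tr.node Tr.leaf 53733 6
 Tr.leaf) 53739 7
 Tr.leaf)) 53742 7
 (Tr.node (Tr.node (Tr.node Tr.leaf 53745 6
 Tr.leaf) 53746 7
 Tr.leaf) 53748 6
 (Tr.node Tr.leaf 53753 7
 Tr.leaf))))) 53754 6
 (Tr.node (Tr.node (Tr.node (Tr.node (Tr.node (Tr.node Tr.leaf 53756 7
 Tr.leaf) 53759 8
 Tr.leaf) 54273 7
 (Tr.node (Tr.node Tr.leaf 54275 7
 Tr.leaf) 54281 7
 Tr.leaf)) 54293 6
 (Tr.node (Tr.node (Tr.node Tr.leaf 54301 6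
 Tr.leaf) 54303 7
 Tr.leaf) 54305 7
 (Tr.node (Tr.node Tr.leaf 54315 7
 Tr.leaf) 54325 7
 Tr.leaf))) 54333 7
 (Tr.node (Tr.node (Tr.node (Tr.node Tr.leaf 54339 7
 Tr.leaf) 54345 7
 Tr.leaf) 54347 7
 (Tr.node (Tr.node Tr.leaf 54359 6
 Tr.leaf) 54365 5
 Tr.leaf)) 54367 6
 (Tr.node (Tr.node (Tr.node Tr.leaf 54369 7
 Tr.leaf) 54371 7
 Tr.leaf) 54377 7
 (Tr.node Tr.leaf 54389 6
 Tr.leaf)))) 54405 7
 (Tr.node (Tr.node (Tr.node (Tr.node (Tr.node Tr.leaf 54407 7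
 Tr.leaf) 54415 6
 Tr.leaf) 54417 7
 (Tr.node (Tr.node Tr.leaf 54419 5
 Tr.leaf) 54427 6
 Tr.leaf)) 54437 7
 (Tr.node (Tr.node (Tr.node Tr.leaf 54439 6
 Tr.leaf) 54449 7
 Tr.leaf) 54457 7
 (Tr.node Tr.leaf 54459 6
 Tr.leaf))) 54471 7
 (Tr.node (Tr.node (Tr.node (Tr.node Tr.leaf 54477 6
 Tr.leaf) 54479 6
 Tr.leaf) 54489 6
 (Tr.node (Tr.node Tr.leaf 54491 6
 Tr.leaf) 54503 7
 Tr.leaf)) 54509 7
 (Tr.node (Tr.node (Tr.node Tr.leaf 54513 7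
 Tr.leaf) 54521 6
 Tr.leaf) 54533 6
 (Tr.node Tr.leaf 54535 6
 Tr.leaf))))))) 54541 7
 (Tr.node (Tr.node (Tr.node (Tr.node (Tr.node (Tr.node (Tr.node (Tr.node Tr.leaf 54543 7
 Tr.leaf) 54545 6
 Tr.leaf) 54547 7
 (Tr.node (Tr.node Tr.leaf 54553 5
 Tr.leaf) 54565 7
 Tr.leaf)) 54575 6
 (Tr.node (Tr.node (Tr.node Tr.leaf 54577 7
 Tr.leaf) 54605 6
 Tr.leaf) 54609 7
 (Tr.node (Tr.node Tr.leaf 54611 7
 Tr.leaf) 54619 6
 Tr.leaf))) 54629 6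
 (Tr.node (Tr.node (Tr.node (Tr.node Tr.leaf 54631 7
 Tr.leaf) 54643 5
 Tr.leaf) 54649 6
 (Tr.node (Tr.node Tr.leaf 54665 7
 Tr.leaf) 54667 7
 Tr.leaf)) 54677 8
 (Tr.node (Tr.node (Tr.node Tr.leaf 54679 8
 Tr.leaf) 54685 8
 Tr.leaf) 54687 7
 (Tr.node Tr.leaf 54697 7
 Tr.leaf)))) 54719 7
 (Tr.node (Tr.node (Tr.node (Tr.node (Tr.node Tr.leaf 54723 7
 Tr.leaf) 54731 7
 Tr.leaf) 54741 8
 (Tr.node (Tr.node Tr.leaf 54743 7
 Tr.leaf) 54749 7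
 Tr.leaf)) 54761 7
 (Tr.node (Tr.node (Tr.node Tr.leaf 54763 7
 Tr.leaf) 54781 7
 Tr.leaf) 55297 6
 (Tr.node (Tr.node Tr.leaf 55306 6
 Tr.leaf) 55315 7
 Tr.leaf))) 55319 7
 (Tr.node (Tr.node (Tr.node (Tr.node Tr.leaf 55323 7
 Tr.leaf) 55327 6
 Tr.leaf) 55333 6
 (Tr.node (Tr.node Tr.leaf 55337 6
 Tr.leaf) 55338 6
 Tr.leaf)) 55351 7
 (Tr.node (Tr.node (Tr.node Tr.leaf 55355 7
 Tr.leaf) 55359 7
 Tr.leaf) 55361 6
 (Tr.node Tr.leaf 55362 6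
 Tr.leaf))))) 55374 5
 (Tr.node (Tr.node (Tr.node (Tr.node (Tr.node (Tr.node Tr.leaf 55379 7
 Tr.leaf) 55387 7
 Tr.leaf) 55394 6
 (Tr.node (Tr.node Tr.leaf 55397 6
 Tr.leaf) 55401 6
 Tr.leaf)) 55406 6
 (Tr.node (Tr.node (Tr.node Tr.leaf 55415 7
 Tr.leaf) 55423 7
 Tr.leaf) 55427 7
 (Tr.node (Tr.node Tr.leaf 55439 7
 Tr.leaf) 55446 6
 Tr.leaf))) 55449 6
 (Tr.node (Tr.node (Tr.node (Tr.node Tr.leaf 55453 7
 Tr.leaf) 55459 7
 Tr.leaf) 55467 7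
 (Tr.node (Tr.node Tr.leaf 55471 7
 Tr.leaf) 55473 7
 Tr.leaf)) 55474 7
 (Tr.node (Tr.node (Tr.node Tr.leaf 55477 6
 Tr.leaf) 55481 7
 Tr.leaf) 55482 6
 (Tr.node Tr.leaf 55485 7
 Tr.leaf)))) 55486 7
 (Tr.node (Tr.node (Tr.node (Tr.node (Tr.node Tr.leaf 55495 7
 Tr.leaf) 55505 7
 Tr.leaf) 55510 5
 (Tr.node (Tr.node Tr.leaf 55513 6
 Tr.leaf) 55527 7
 Tr.leaf)) 55535 7
 (Tr.node (Tr.node (Tr.node Tr.leaf 55537 6
 Tr.leaf) 55542 7
 Tr.leaf) 55546 6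
 (Tr.node Tr.leaf 55550 7
 Tr.leaf))) 55559 6
 (Tr.node (Tr.node (Tr.node (Tr.node Tr.leaf 55563 7
 Tr.leaf) 55567 6
 Tr.leaf) 55573 6
 (Tr.node (Tr.node Tr.leaf 55581 5
 Tr.leaf) 55606 6
 Tr.leaf)) 55610 6
 (Tr.node (Tr.node (Tr.node Tr.leaf 55623 7
 Tr.leaf) 55627 6
 Tr.leaf) 55634 7
 (Tr.node Tr.leaf 55637 6
 Tr.leaf)))))) 55638 6
 (Tr.node (Tr.node (Tr.node (Tr.node (Tr.node (Tr.node (Tr.node Tr.leaf 55641 6
 Tr.leaf) 55642 6
 Tr.leaf) 55645 6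
 (Tr.node (Tr.node Tr.leaf 55651 7
 Tr.leaf) 55655 7
 Tr.leaf)) 55663 7
 (Tr.node (Tr.node (Tr.node Tr.leaf 55665 5
 Tr.leaf) 55666 7
 Tr.leaf) 55669 6
 (Tr.node (Tr.node Tr.leaf 55670 7
 Tr.leaf) 55673 6
 Tr.leaf))) 55677 7
 (Tr.node (Tr.node (Tr.node (Tr.node Tr.leaf 55678 7
 Tr.leaf) 55682 6
 Tr.leaf) 55685 7
 (Tr.node (Tr.node Tr.leaf 55689 7
 Tr.leaf) 55694 7
 Tr.leaf)) 55703 7
 (Tr.node (Tr.node (Tr.node Tr.leaf 55714 6
 Tr.leaf) 55722 6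
 Tr.leaf) 55725 7
 (Tr.node Tr.leaf 55735 8
 Tr.leaf)))) 55739 8
 (Tr.node (Tr.node (Tr.node (Tr.node (Tr.node Tr.leaf 55749 7
 Tr.leaf) 55750 5
 Tr.leaf) 55753 7
 (Tr.node (Tr.node Tr.leaf 55757 6
 Tr.leaf) 55758 6
 Tr.leaf)) 55767 8
 (Tr.node (Tr.node (Tr.node Tr.leaf 55771 7
 Tr.leaf) 55777 6
 Tr.leaf) 55781 7
 (Tr.node Tr.leaf 55782 7
 Tr.leaf))) 55789 7
 (Tr.node (Tr.node (Tr.node (Tr.node Tr.leaf 55790 6
 Tr.leaf) 55795 7
 Tr.leaf) 56339 6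
 (Tr.node (Tr.node Tr.leaf 56341 7
 Tr.leaf) 56347 7
 Tr.leaf)) 56369 6
 (Tr.node (Tr.node (Tr.node Tr.leaf 56371 7
 Tr.leaf) 56373 7
 Tr.leaf) 56379 7
 (Tr.node Tr.leaf 56401 7
 Tr.leaf))))) 56403 6
 (Tr.node (Tr.node (Tr.node (Tr.node (Tr.node (Tr.node Tr.leaf 56405 6
 Tr.leaf) 56413 6
 Tr.leaf) 56433 6
 (Tr.node (Tr.node Tr.leaf 56439 6
 Tr.leaf) 56441 6
 Tr.leaf)) 56443 7
 (Tr.node (Tr.node (Tr.node Tr.leaf 56447 7
 Tr.leaf) 56453 7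
 Tr.leaf) 56455 7
 (Tr.node (Tr.node Tr.leaf 56457 7
 Tr.leaf) 56459 6
 Tr.leaf))) 56461 6
 (Tr.node (Tr.node (Tr.node (Tr.node Tr.leaf 56481 6
 Tr.leaf) 56487 7
 Tr.leaf) 56489 7
 (Tr.node (Tr.node Tr.leaf 56491 6
 Tr.leaf) 56513 7
 Tr.leaf)) 56517 6
 (Tr.node (Tr.node (Tr.node Tr.leaf 56523 7
 Tr.leaf) 56527 6
 Tr.leaf) 56547 6
 (Tr.node Tr.leaf 56549 6
 Tr.leaf)))) 56551 7
 (Tr.node (Tr.node (Tr.node (Tr.node (Tr.node Tr.leaf 56555 7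
 Tr.leaf) 56557 7
 Tr.leaf) 56577 7
 (Tr.node (Tr.node Tr.leaf 56581 6
 Tr.leaf) 56585 7
 Tr.leaf)) 56587 7
 (Tr.node (Tr.node (Tr.node Tr.leaf 56591 7
 Tr.leaf) 56619 7
 Tr.leaf) 56621 6
 (Tr.node Tr.leaf 56623 6
 Tr.leaf))) 56647 7
 (Tr.node (Tr.node (Tr.node (Tr.node Tr.leaf 56649 6
 Tr.leaf) 56653 6
 Tr.leaf) 56655 6
 (Tr.node (Tr.node Tr.leaf 56673 6
 Tr.leaf) 56677 6
 Tr.leaf)) 56679 7
 (Tr.node (Tr.node (Tr.node Tr.leaf 56685 7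
 Tr.leaf) 56725 7
 Tr.leaf) 56731 7
 (Tr.node Tr.leaf 56733 8
 Tr.leaf))))))))

/-- A subtree. -/
def tr1_s14 : Tr := (Tr.node (Tr.node (Tr.node (Tr.node (Tr.node (Tr.node (Tr.node (Tr.node (Tr.node Tr.leaf 56763 7
 Tr.leaf) 56785 7
 Tr.leaf) 56793 7
 (Tr.node (Tr.node Tr.leaf 56797 7
 Tr.leaf) 56799 8
 Tr.leaf)) 56817 7
 (Tr.node (Tr.node (Tr.node Tr.leaf 56819 8
 Tr.leaf) 56823 7
 Tr.leaf) 56825 7
 (Tr.node (Tr.node Tr.leaf 56829 8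
 Tr.leaf) 57347 6
 Tr.leaf))) 57350 6
 (Tr.node (Tr.node (Tr.node (Tr.node Tr.leaf 57353 6
 Tr.leaf) 57354 7
 Tr.leaf) 57359 7
 (Tr.node (Tr.node Tr.leaf 57365 6
 Tr.leaf) 57369 6
 Tr.leaf)) 57372 6
 (Tr.node (Tr.node (Tr.node Tr.leaf 57381 6
 Tr.leaf) 57382 6
 Tr.leaf) 57385 6
 (Tr.node Tr.leaf 57386 6
 Tr.leaf)))) 57388 7
 (Tr.node (Tr.node (Tr.node (Tr.node (Tr.node Tr.leaf 57391 7
 Tr.leaf) 57398 5
 Tr.leaf) 57402 7
 (Tr.node (Tr.node Tr.leaf 57407 7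
 Tr.leaf) 57414 5
 Tr.leaf)) 57420 7
 (Tr.node (Tr.node (Tr.node Tr.leaf 57423 7
 Tr.leaf) 57427 6
 Tr.leaf) 57433 6
 (Tr.node (Tr.node Tr.leaf 57434 6
 Tr.leaf) 57443 6
 Tr.leaf))) 57446 6
 (Tr.node (Tr.node (Tr.node (Tr.node Tr.leaf 57449 6
 Tr.leaf) 57450 7
 Tr.leaf) 57452 6
 (Tr.node (Tr.node Tr.leaf 57455 7
 Tr.leaf) 57461 6
 Tr.leaf)) 57462 5
 (Tr.node (Tr.node (Tr.node Tr.leaf 57465 6
 Tr.leaf) 57468 7
 Tr.leaf) 57471 7
 (Tr.node Tr.leaf 57474 6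
 Tr.leaf))))) 57479 6
 (Tr.node (Tr.node (Tr.node (Tr.node (Tr.node (Tr.node Tr.leaf 57485 7
 Tr.leaf) 57486 7
 Tr.leaf) 57489 6
 (Tr.node (Tr.node Tr.leaf 57490 7
 Tr.leaf) 57495 7
 Tr.leaf)) 57496 5
 (Tr.node (Tr.node (Tr.node Tr.leaf 57499 6
 Tr.leaf) 57501 6
 Tr.leaf) 57502 7
 (Tr.node (Tr.node Tr.leaf 57505 6
 Tr.leaf) 57506 7
 Tr.leaf))) 57518 5
 (Tr.node (Tr.node (Tr.node (Tr.node Tr.leaf 57527 7
 Tr.leaf) 57528 5
 Tr.leaf) 57538 7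
 (Tr.node (Tr.node Tr.leaf 57540 6
 Tr.leaf) 57544 6
 Tr.leaf)) 57547 7
 (Tr.node (Tr.node (Tr.node Tr.leaf 57550 7
 Tr.leaf) 57556 6
 Tr.leaf) 57559 7
 (Tr.node Tr.leaf 57563 6
 Tr.leaf)))) 57565 6
 (Tr.node (Tr.node (Tr.node (Tr.node (Tr.node Tr.leaf 57566 6
 Tr.leaf) 57575 7
 Tr.leaf) 57576 5
 (Tr.node (Tr.node Tr.leaf 57579 7
 Tr.leaf) 57581 6
 Tr.leaf)) 57585 6
 (Tr.node (Tr.node (Tr.node Tr.leaf 57586 6
 Tr.leaf) 57591 6
 Tr.leaf) 57595 7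
 (Tr.node Tr.leaf 57597 7
 Tr.leaf))) 57601 6
 (Tr.node (Tr.node (Tr.node (Tr.node Tr.leaf 57604 6
 Tr.leaf) 57607 6
 Tr.leaf) 57611 7
 (Tr.node (Tr.node Tr.leaf 57613 7
 Tr.leaf) 57618 6
 Tr.leaf)) 57623 7
 (Tr.node (Tr.node (Tr.node Tr.leaf 57627 6
 Tr.leaf) 57629 6
 Tr.leaf) 57630 6
 (Tr.node Tr.leaf 57639 7
 Tr.leaf)))))) 57640 6
 (Tr.node (Tr.node (Tr.node (Tr.node (Tr.node (Tr.node (Tr.node Tr.leaf 57643 6
 Tr.leaf) 57645 7
 Tr.leaf) 57650 6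
 (Tr.node (Tr.node Tr.leaf 57652 7
 Tr.leaf) 57656 5
 Tr.leaf)) 57661 7
 (Tr.node (Tr.node (Tr.node Tr.leaf 57662 7
 Tr.leaf) 57671 7
 Tr.leaf) 57672 5
 (Tr.node (Tr.node Tr.leaf 57681 6
 Tr.leaf) 57684 7
 Tr.leaf))) 57687 7
 (Tr.node (Tr.node (Tr.node (Tr.node Tr.leaf 57688 6
 Tr.leaf) 57691 6
 Tr.leaf) 57693 6
 (Tr.node (Tr.node Tr.leaf 57694 7
 Tr.leaf) 57697 6
 Tr.leaf)) 57700 7
 (Tr.node (Tr.node (Tr.node Tr.leaf 57710 5
 Tr.leaf) 57716 6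
 Tr.leaf) 57719 6
 (Tr.node Tr.leaf 57723 7
 Tr.leaf)))) 57726 7
 (Tr.node (Tr.node (Tr.node (Tr.node (Tr.node Tr.leaf 57731 7
 Tr.leaf) 57733 7
 Tr.leaf) 57737 6
 (Tr.node (Tr.node Tr.leaf 57738 6
 Tr.leaf) 57740 6
 Tr.leaf)) 57743 8
 (Tr.node (Tr.node (Tr.node Tr.leaf 57747 6
 Tr.leaf) 57749 6
 Tr.leaf) 57753 7
 (Tr.node (Tr.node Tr.leaf 57754 6
 Tr.leaf) 57756 6
 Tr.leaf))) 57763 7
 (Tr.node (Tr.node (Tr.node (Tr.node Tr.leaf 57766 7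
 Tr.leaf) 57772 6
 Tr.leaf) 57781 6
 (Tr.node (Tr.node Tr.leaf 57785 7
 Tr.leaf) 57795 6
 Tr.leaf)) 57801 7
 (Tr.node (Tr.node (Tr.node Tr.leaf 57811 6
 Tr.leaf) 57813 6
 Tr.leaf) 57817 7
 (Tr.node Tr.leaf 57818 6
 Tr.leaf))))) 57820 6
 (Tr.node (Tr.node (Tr.node (Tr.node (Tr.node (Tr.node Tr.leaf 57829 7
 Tr.leaf) 57830 7
 Tr.leaf) 57834 6
 (Tr.node (Tr.node Tr.leaf 57843 7
 Tr.leaf) 57845 7
 Tr.leaf)) 57849 6
 (Tr.node (Tr.node (Tr.node Tr.leaf 57850 6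
 Tr.leaf) 57852 6
 Tr.leaf) 57855 8
 (Tr.node (Tr.node Tr.leaf 58369 6
 Tr.leaf) 58371 6
 Tr.leaf))) 58397 7
 (Tr.node (Tr.node (Tr.node (Tr.node Tr.leaf 58413 6
 Tr.leaf) 58415 7
 Tr.leaf) 58431 6
 (Tr.node (Tr.node Tr.leaf 58447 6
 Tr.leaf) 58449 6
 Tr.leaf)) 58451 6
 (Tr.node (Tr.node (Tr.node Tr.leaf 58461 6
 Tr.leaf) 58465 6
 Tr.leaf) 58467 6
 (Tr.node Tr.leaf 58479 7
 Tr.leaf)))) 58493 7
 (Tr.node (Tr.node (Tr.node (Tr.node (Tr.node Tr.leaf 58495 6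
 Tr.leaf) 58501 7
 Tr.leaf) 58505 7
 (Tr.node (Tr.node Tr.leaf 58507 6
 Tr.leaf) 58517 6
 Tr.leaf)) 58519 7
 (Tr.node (Tr.node (Tr.node Tr.leaf 58521 6
 Tr.leaf) 58523 6
 Tr.leaf) 58537 7
 (Tr.node Tr.leaf 58549 7
 Tr.leaf))) 58553 7
 (Tr.node (Tr.node (Tr.node (Tr.node Tr.leaf 58555 6
 Tr.leaf) 58569 5
 Tr.leaf) 58581 7
 (Tr.node (Tr.node Tr.leaf 58583 7
 Tr.leaf) 58599 6
 Tr.leaf)) 58603 6
 (Tr.node (Tr.node (Tr.node Tr.leaf 58613 7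
 Tr.leaf) 58615 7
 Tr.leaf) 58647 7
 (Tr.node Tr.leaf 58649 7
 Tr.leaf))))))) 58651 7
 (Tr.node (Tr.node (Tr.node (Tr.node (Tr.node (Tr.node (Tr.node (Tr.node Tr.leaf 58661 7
 Tr.leaf) 58665 7
 Tr.leaf) 58667 7
 (Tr.node (Tr.node Tr.leaf 58677 7
 Tr.leaf) 58679 7
 Tr.leaf)) 58683 6
 (Tr.node (Tr.node (Tr.node Tr.leaf 58697 5
 Tr.leaf) 58725 7
 Tr.leaf) 58741 7
 (Tr.node (Tr.node Tr.leaf 58743 6
 Tr.leaf) 58745 7
 Tr.leaf))) 58755 7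
 (Tr.node (Tr.node (Tr.node (Tr.node Tr.leaf 58765 7
 Tr.leaf) 58767 7
 Tr.leaf) 58771 6
 (Tr.node (Tr.node Tr.leaf 58783 7
 Tr.leaf) 58785 7
 Tr.leaf)) 58787 6
 (Tr.node (Tr.node (Tr.node Tr.leaf 58797 8
 Tr.leaf) 58801 6
 Tr.leaf) 58815 8
 (Tr.node Tr.leaf 58829 8
 Tr.leaf)))) 58845 7
 (Tr.node (Tr.node (Tr.node (Tr.node (Tr.node Tr.leaf 58849 7
 Tr.leaf) 58867 6
 Tr.leaf) 58879 7
 (Tr.node (Tr.node Tr.leaf 59398 6
 Tr.leaf) 59403 6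
 Tr.leaf)) 59407 7
 (Tr.node (Tr.node (Tr.node Tr.leaf 59409 6
 Tr.leaf) 59410 6
 Tr.leaf) 59413 6
 (Tr.node (Tr.node Tr.leaf 59414 6
 Tr.leaf) 59423 6
 Tr.leaf))) 59425 6
 (Tr.node (Tr.node (Tr.node (Tr.node Tr.leaf 59426 5
 Tr.leaf) 59429 6
 Tr.leaf) 59435 7
 (Tr.node (Tr.node Tr.leaf 59446 5
 Tr.leaf) 59451 6
 Tr.leaf)) 59462 6
 (Tr.node (Tr.node (Tr.node Tr.leaf 59467 6
 Tr.leaf) 59474 6
 Tr.leaf) 59478 5
 (Tr.node Tr.leaf 59487 7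
 Tr.leaf))))) 59490 5
 (Tr.node (Tr.node (Tr.node (Tr.node (Tr.node (Tr.node Tr.leaf 59499 7
 Tr.leaf) 59503 6
 Tr.leaf) 59505 6
 (Tr.node (Tr.node Tr.leaf 59509 6
 Tr.leaf) 59510 6
 Tr.leaf)) 59523 6
 (Tr.node (Tr.node (Tr.node Tr.leaf 59527 7
 Tr.leaf) 59533 7
 Tr.leaf) 59534 6
 (Tr.node (Tr.node Tr.leaf 59546 6
 Tr.leaf) 59550 7
 Tr.leaf))) 59559 7
 (Tr.node (Tr.node (Tr.node (Tr.node Tr.leaf 59562 6
 Tr.leaf) 59566 6
 Tr.leaf) 59578 6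
 (Tr.node (Tr.node Tr.leaf 59581 6
 Tr.leaf) 59587 6
 Tr.leaf)) 59591 7
 (Tr.node (Tr.node (Tr.node Tr.leaf 59593 5
 Tr.leaf) 59594 7
 Tr.leaf) 59598 6
 (Tr.node Tr.leaf 59603 7
 Tr.leaf)))) 59609 7
 (Tr.node (Tr.node (Tr.node (Tr.node (Tr.node Tr.leaf 59610 6
 Tr.leaf) 59613 7
 Tr.leaf) 59614 6
 (Tr.node (Tr.node Tr.leaf 59623 7
 Tr.leaf) 59625 7
 Tr.leaf)) 59629 7
 (Tr.node (Tr.node (Tr.node Tr.leaf 59630 6
 Tr.leaf) 59642 5
 Tr.leaf) 59651 7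
 (Tr.node Tr.leaf 59655 7
 Tr.leaf))) 59662 6
 (Tr.node (Tr.node (Tr.node (Tr.node Tr.leaf 59667 7
 Tr.leaf) 59671 7
 Tr.leaf) 59678 7
 (Tr.node (Tr.node Tr.leaf 59683 6
 Tr.leaf) 59689 6
 Tr.leaf)) 59694 7
 (Tr.node (Tr.node (Tr.node Tr.leaf 59706 6
 Tr.leaf) 59709 6
 Tr.leaf) 59710 7
 (Tr.node Tr.leaf 59719 7
 Tr.leaf)))))) 59721 5
 (Tr.node (Tr.node (Tr.node (Tr.node (Tr.node (Tr.node (Tr.node Tr.leaf 59725 7
 Tr.leaf) 59726 6
 Tr.leaf) 59731 7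
 (Tr.node (Tr.node Tr.leaf 59735 6
 Tr.leaf) 59737 6
 Tr.leaf)) 59741 6
 (Tr.node (Tr.node (Tr.node Tr.leaf 59757 7
 Tr.leaf) 59767 7
 Tr.leaf) 59769 6
 (Tr.node (Tr.node Tr.leaf 59770 6
 Tr.leaf) 59773 7
 Tr.leaf))) 59777 6
 (Tr.node (Tr.node (Tr.node (Tr.node Tr.leaf 59778 5
 Tr.leaf) 59782 6
 Tr.leaf) 59787 7
 (Tr.node (Tr.node Tr.leaf 59794 6
 Tr.leaf) 59807 7
 Tr.leaf)) 59810 7
 (Tr.node (Tr.node (Tr.node Tr.leaf 59813 7
 Tr.leaf) 59830 6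
 Tr.leaf) 59839 8
 (Tr.node Tr.leaf 59842 6
 Tr.leaf)))) 59845 6
 (Tr.node (Tr.node (Tr.node (Tr.node (Tr.node Tr.leaf 59851 8
 Tr.leaf) 59857 6
 Tr.leaf) 59858 7
 (Tr.node (Tr.node Tr.leaf 59867 7
 Tr.leaf) 59873 6
 Tr.leaf)) 59877 7
 (Tr.node (Tr.node (Tr.node Tr.leaf 59878 6
 Tr.leaf) 59887 7
 Tr.leaf) 59889 7
 (Tr.node Tr.leaf 59890 6
 Tr.leaf))) 59894 6
 (Tr.node (Tr.node (Tr.node (Tr.node Tr.leaf 59899 7
 Tr.leaf) 59903 7
 Tr.leaf) 60425 7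
 (Tr.node (Tr.node Tr.leaf 60431 7
 Tr.leaf) 60443 7
 Tr.leaf)) 60445 7
 (Tr.node (Tr.node (Tr.node Tr.leaf 60447 6
 Tr.leaf) 60461 7
 Tr.leaf) 60473 7
 (Tr.node Tr.leaf 60477 6
 Tr.leaf))))) 60493 6
 (Tr.node (Tr.node (Tr.node (Tr.node (Tr.node (Tr.node Tr.leaf 60495 7
 Tr.leaf) 60505 6
 Tr.leaf) 60507 7
 (Tr.node (Tr.node Tr.leaf 60509 7
 Tr.leaf) 60525 7
 Tr.leaf)) 60537 7
 (Tr.node (Tr.node (Tr.node Tr.leaf 60543 7
 Tr.leaf) 60547 6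
 Tr.leaf) 60549 7
 (Tr.node (Tr.node Tr.leaf 60551 7
 Tr.leaf) 60567 6
 Tr.leaf))) 60579 7
 (Tr.node (Tr.node (Tr.node (Tr.node Tr.leaf 60581 6
 Tr.leaf) 60583 6
 Tr.leaf) 60597 7
 (Tr.node (Tr.node Tr.leaf 60599 6
 Tr.leaf) 60609 5
 Tr.leaf)) 60615 6
 (Tr.node (Tr.node (Tr.node Tr.leaf 60627 6
 Tr.leaf) 60629 6
 Tr.leaf) 60631 5
 (Tr.node Tr.leaf 60641 6
 Tr.leaf)))) 60643 6
 (Tr.node (Tr.node (Tr.node (Tr.node (Tr.node Tr.leaf 60645 7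
 Tr.leaf) 60647 6
 Tr.leaf) 60661 7
 (Tr.node (Tr.node Tr.leaf 60677 7
 Tr.leaf) 60689 5
 Tr.leaf)) 60691 6
 (Tr.node (Tr.node (Tr.node Tr.leaf 60693 6
 Tr.leaf) 60705 6
 Tr.leaf) 60707 6
 (Tr.node Tr.leaf 60709 7
 Tr.leaf))) 60711 6
 (Tr.node (Tr.node (Tr.node (Tr.node Tr.leaf 60721 6
 Tr.leaf) 60727 6
 Tr.leaf) 60737 5
 (Tr.node (Tr.node Tr.leaf 60741 6
 Tr.leaf) 60753 6
 Tr.leaf)) 60769 6
 (Tr.node (Tr.node (Tr.node Tr.leaf 60771 7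
 Tr.leaf) 60773 6
 Tr.leaf) 60785 7
 (Tr.node Tr.leaf 60787 6
 Tr.leaf))))))))

/-- A subtree. -/
def tr1_s15 : Tr := (Tr.node (Tr.node (Tr.node (Tr.node (Tr.node (Tr.node (Tr.node (Tr.node (Tr.node Tr.leaf 60809 8
 Tr.leaf) 60811 7
 Tr.leaf) 60815 7
 (Tr.node (Tr.node Tr.leaf 60827 7
 Tr.leaf) 60831 7
 Tr.leaf)) 60841 7
 (Tr.node (Tr.node (Tr.node Tr.leaf 60843 7
 Tr.leaf) 60847 7
 Tr.leaf) 60859 8
 (Tr.node (Tr.node Tr.leaf 60861 8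
 Tr.leaf) 60863 7
 Tr.leaf))) 60873 7
 (Tr.node (Tr.node (Tr.node (Tr.node Tr.leaf 60875 8
 Tr.leaf) 60877 8
 Tr.leaf) 60889 7
 (Tr.node (Tr.node Tr.leaf 60891 7
 Tr.leaf) 60905 7
 Tr.leaf)) 60907 7
 (Tr.node (Tr.node (Tr.node Tr.leaf 60911 8
 Tr.leaf) 60921 7
 Tr.leaf) 60923 7
 (Tr.node Tr.leaf 60927 8
 Tr.leaf)))) 61441 6
 (Tr.node (Tr.node (Tr.node (Tr.node (Tr.node Tr.leaf 61444 7
 Tr.leaf) 61447 7
 Tr.leaf) 61449 6
 (Tr.node (Tr.node Tr.leaf 61450 6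
 Tr.leaf) 61452 6
 Tr.leaf)) 61455 7
 (Tr.node (Tr.node (Tr.node Tr.leaf 61457 6
 Tr.leaf) 61458 6
 Tr.leaf) 61465 6
 (Tr.node (Tr.node Tr.leaf 61466 7
 Tr.leaf) 61468 7
 Tr.leaf))) 61471 6
 (Tr.node (Tr.node (Tr.node (Tr.node Tr.leaf 61473 6
 Tr.leaf) 61474 7
 Tr.leaf) 61476 6
 (Tr.node (Tr.node Tr.leaf 61481 6
 Tr.leaf) 61492 7
 Tr.leaf)) 61495 6
 (Tr.node (Tr.node (Tr.node Tr.leaf 61498 6
 Tr.leaf) 61500 6
 Tr.leaf) 61506 6
 (Tr.node Tr.leaf 61508 6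
 Tr.leaf))))) 61514 7
 (Tr.node (Tr.node (Tr.node (Tr.node (Tr.node (Tr.node Tr.leaf 61519 6
 Tr.leaf) 61521 6
 Tr.leaf) 61522 7
 (Tr.node (Tr.node Tr.leaf 61524 7
 Tr.leaf) 61527 6
 Tr.leaf)) 61529 6
 (Tr.node (Tr.node (Tr.node Tr.leaf 61532 6
 Tr.leaf) 61537 6
 Tr.leaf) 61545 6
 (Tr.node (Tr.node Tr.leaf 61546 6
 Tr.leaf) 61548 7
 Tr.leaf))) 61553 6
 (Tr.node (Tr.node (Tr.node (Tr.node Tr.leaf 61554 6
 Tr.leaf) 61556 6
 Tr.leaf) 61559 7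
 (Tr.node (Tr.node Tr.leaf 61561 6
 Tr.leaf) 61562 7
 Tr.leaf)) 61567 7
 (Tr.node (Tr.node (Tr.node Tr.leaf 61573 7
 Tr.leaf) 61579 6
 Tr.leaf) 61581 6
 (Tr.node Tr.leaf 61590 6
 Tr.leaf)))) 61597 7
 (Tr.node (Tr.node (Tr.node (Tr.node (Tr.node Tr.leaf 61611 7
 Tr.leaf) 61614 6
 Tr.leaf) 61621 6
 (Tr.node (Tr.node Tr.leaf 61629 6
 Tr.leaf) 61630 6
 Tr.leaf)) 61637 7
 (Tr.node (Tr.node (Tr.node Tr.leaf 61638 6
 Tr.leaf) 61643 7
 Tr.leaf) 61646 7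
 (Tr.node Tr.leaf 61651 7
 Tr.leaf))) 61653 7
 (Tr.node (Tr.node (Tr.node (Tr.node Tr.leaf 61654 6
 Tr.leaf) 61659 7
 Tr.leaf) 61661 7
 (Tr.node (Tr.node Tr.leaf 61667 7
 Tr.leaf) 61669 7
 Tr.leaf)) 61675 7
 (Tr.node (Tr.node (Tr.node Tr.leaf 61677 7
 Tr.leaf) 61678 6
 Tr.leaf) 61683 6
 (Tr.node Tr.leaf 61685 6
 Tr.leaf)))))) 61691 7
 (Tr.node (Tr.node (Tr.node (Tr.node (Tr.node (Tr.node (Tr.node Tr.leaf 61694 7
 Tr.leaf) 61701 7
 Tr.leaf) 61702 7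
 (Tr.node (Tr.node Tr.leaf 61707 6
 Tr.leaf) 61709 6
 Tr.leaf)) 61715 7
 (Tr.node (Tr.node (Tr.node Tr.leaf 61717 7
 Tr.leaf) 61723 7
 Tr.leaf) 61725 7
 (Tr.node (Tr.node Tr.leaf 61726 6
 Tr.leaf) 61731 7
 Tr.leaf))) 61733 7
 (Tr.node (Tr.node (Tr.node (Tr.node Tr.leaf 61734 6
 Tr.leaf) 61739 7
 Tr.leaf) 61741 7
 (Tr.node (Tr.node Tr.leaf 61749 7
 Tr.leaf) 61750 7
 Tr.leaf)) 61755 7
 (Tr.node (Tr.node (Tr.node Tr.leaf 61758 6
 Tr.leaf) 61763 6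
 Tr.leaf) 61766 6
 (Tr.node Tr.leaf 61771 6
 Tr.leaf)))) 61779 7
 (Tr.node (Tr.node (Tr.node (Tr.node (Tr.node Tr.leaf 61790 6
 Tr.leaf) 61797 7
 Tr.leaf) 61798 6
 (Tr.node (Tr.node Tr.leaf 61811 6
 Tr.leaf) 61813 6
 Tr.leaf)) 61819 7
 (Tr.node (Tr.node (Tr.node Tr.leaf 61826 6
 Tr.leaf) 61828 6
 Tr.leaf) 61841 7
 (Tr.node (Tr.node Tr.leaf 61842 6
 Tr.leaf) 61849 7
 Tr.leaf))) 61850 7
 (Tr.node (Tr.node (Tr.node (Tr.node Tr.leaf 61852 7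
 Tr.leaf) 61855 7
 Tr.leaf) 61857 7
 (Tr.node (Tr.node Tr.leaf 61858 7
 Tr.leaf) 61860 6
 Tr.leaf)) 61871 7
 (Tr.node (Tr.node (Tr.node Tr.leaf 61873 6
 Tr.leaf) 61874 6
 Tr.leaf) 61876 6
 (Tr.node Tr.leaf 61879 8
 Tr.leaf))))) 61881 6
 (Tr.node (Tr.node (Tr.node (Tr.node (Tr.node (Tr.node Tr.leaf 61887 7
 Tr.leaf) 61889 6
 Tr.leaf) 61895 7
 (Tr.node (Tr.node Tr.leaf 61897 6
 Tr.leaf) 61898 6
 Tr.leaf)) 61900 6
 (Tr.node (Tr.node (Tr.node Tr.leaf 61903 8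
 Tr.leaf) 61905 7
 Tr.leaf) 61906 7
 (Tr.node (Tr.node Tr.leaf 61908 7
 Tr.leaf) 61911 7
 Tr.leaf))) 61913 7
 (Tr.node (Tr.node (Tr.node (Tr.node Tr.leaf 61916 5
 Tr.leaf) 61927 7
 Tr.leaf) 61929 7
 (Tr.node (Tr.node Tr.leaf 61930 6
 Tr.leaf) 61932 7
 Tr.leaf)) 61946 6
 (Tr.node (Tr.node (Tr.node Tr.leaf 61948 6
 Tr.leaf) 62471 6
 Tr.leaf) 62477 7
 (Tr.node Tr.leaf 62485 7
 Tr.leaf)))) 62493 7
 (Tr.node (Tr.node (Tr.node (Tr.node (Tr.node Tr.leaf 62495 7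
 Tr.leaf) 62503 7
 Tr.leaf) 62511 7
 (Tr.node (Tr.node Tr.leaf 62519 7
 Tr.leaf) 62527 6
 Tr.leaf)) 62535 5
 (Tr.node (Tr.node (Tr.node Tr.leaf 62543 6
 Tr.leaf) 62549 6
 Tr.leaf) 62557 6
 (Tr.node Tr.leaf 62559 7
 Tr.leaf))) 62567 7
 (Tr.node (Tr.node (Tr.node (Tr.node Tr.leaf 62573 6
 Tr.leaf) 62575 7
 Tr.leaf) 62593 7
 (Tr.node (Tr.node Tr.leaf 62601 7
 Tr.leaf) 62609 7
 Tr.leaf)) 62617 7
 (Tr.node (Tr.node (Tr.node Tr.leaf 62625 7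
 Tr.leaf) 62633 6
 Tr.leaf) 62635 6
 (Tr.node Tr.leaf 62643 6
 Tr.leaf))))))) 62649 7
 (Tr.node (Tr.node (Tr.node (Tr.node (Tr.node (Tr.node (Tr.node (Tr.node Tr.leaf 62651 7
 Tr.leaf) 62657 6
 Tr.leaf) 62665 7
 (Tr.node (Tr.node Tr.leaf 62675 6
 Tr.leaf) 62681 6
 Tr.leaf)) 62689 6
 (Tr.node (Tr.node (Tr.node Tr.leaf 62705 6
 Tr.leaf) 62707 7
 Tr.leaf) 62739 6
 (Tr.node (Tr.node Tr.leaf 62745 7
 Tr.leaf) 62747 6
 Tr.leaf))) 62753 7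
 (Tr.node (Tr.node (Tr.node (Tr.node Tr.leaf 62755 7
 Tr.leaf) 62761 7
 Tr.leaf) 62769 6
 (Tr.node (Tr.node Tr.leaf 62777 6
 Tr.leaf) 62779 7
 Tr.leaf)) 62793 6
 (Tr.node (Tr.node (Tr.node Tr.leaf 62795 7
 Tr.leaf) 62817 6
 Tr.leaf) 62825 7
 (Tr.node Tr.leaf 62833 7
 Tr.leaf)))) 62835 7
 (Tr.node (Tr.node (Tr.node (Tr.node (Tr.node Tr.leaf 62841 7
 Tr.leaf) 62843 7
 Tr.leaf) 62861 8
 (Tr.node (Tr.node Tr.leaf 62885 8
 Tr.leaf) 62895 7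
 Tr.leaf)) 62901 8
 (Tr.node (Tr.node (Tr.node Tr.leaf 62903 6
 Tr.leaf) 62909 7
 Tr.leaf) 62911 7
 (Tr.node (Tr.node Tr.leaf 62925 7
 Tr.leaf) 62941 7
 Tr.leaf))) 62943 8
 (Tr.node (Tr.node (Tr.node (Tr.node Tr.leaf 62959 7
 Tr.leaf) 62967 8
 Tr.leaf) 62975 8
 (Tr.node (Tr.node Tr.leaf 63507 7
 Tr.leaf) 63511 6
 Tr.leaf)) 63519 6
 (Tr.node (Tr.node (Tr.node Tr.leaf 63523 7
 Tr.leaf) 63527 6
 Tr.leaf) 63531 7
 (Tr.node Tr.leaf 63539 6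
 Tr.leaf))))) 63547 5
 (Tr.node (Tr.node (Tr.node (Tr.node (Tr.node (Tr.node Tr.leaf 63555 6
 Tr.leaf) 63563 7
 Tr.leaf) 63571 7
 (Tr.node (Tr.node Tr.leaf 63575 7
 Tr.leaf) 63583 7
 Tr.leaf)) 63587 7
 (Tr.node (Tr.node (Tr.node Tr.leaf 63595 7
 Tr.leaf) 63607 7
 Tr.leaf) 63611 6
 (Tr.node (Tr.node Tr.leaf 63617 7
 Tr.leaf) 63618 6
 Tr.leaf))) 63621 7
 (Tr.node (Tr.node (Tr.node (Tr.node Tr.leaf 63625 7
 Tr.leaf) 63629 7
 Tr.leaf) 63630 7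
 (Tr.node (Tr.node Tr.leaf 63634 6
 Tr.leaf) 63638 6
 Tr.leaf)) 63646 7
 (Tr.node (Tr.node (Tr.node Tr.leaf 63650 7
 Tr.leaf) 63653 7
 Tr.leaf) 63658 7
 (Tr.node Tr.leaf 63661 6
 Tr.leaf)))) 63662 7
 (Tr.node (Tr.node (Tr.node (Tr.node (Tr.node Tr.leaf 63665 7
 Tr.leaf) 63669 7
 Tr.leaf) 63674 6
 (Tr.node (Tr.node Tr.leaf 63678 6
 Tr.leaf) 63681 6
 Tr.leaf)) 63682 6
 (Tr.node (Tr.node (Tr.node Tr.leaf 63685 6
 Tr.leaf) 63686 5
 Tr.leaf) 63693 6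
 (Tr.node Tr.leaf 63697 6
 Tr.leaf))) 63701 7
 (Tr.node (Tr.node (Tr.node (Tr.node Tr.leaf 63705 6
 Tr.leaf) 63717 7
 Tr.leaf) 63721 7
 (Tr.node (Tr.node Tr.leaf 63722 6
 Tr.leaf) 63725 7
 Tr.leaf)) 63726 6
 (Tr.node (Tr.node (Tr.node Tr.leaf 63734 7
 Tr.leaf) 63742 6
 Tr.leaf) 63746 6
 (Tr.node Tr.leaf 63753 7
 Tr.leaf)))))) 63754 7
 (Tr.node (Tr.node (Tr.node (Tr.node (Tr.node (Tr.node (Tr.node Tr.leaf 63757 6
 Tr.leaf) 63762 6
 Tr.leaf) 63765 6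
 (Tr.node (Tr.node Tr.leaf 63766 6
 Tr.leaf) 63769 6
 Tr.leaf)) 63770 7
 (Tr.node (Tr.node (Tr.node Tr.leaf 63774 7
 Tr.leaf) 63786 7
 Tr.leaf) 63789 6
 (Tr.node (Tr.node Tr.leaf 63790 6
 Tr.leaf) 63794 6
 Tr.leaf))) 63797 7
 (Tr.node (Tr.node (Tr.node (Tr.node Tr.leaf 63805 6
 Tr.leaf) 63806 6
 Tr.leaf) 63809 7
 (Tr.node (Tr.node Tr.leaf 63810 5
 Tr.leaf) 63813 7
 Tr.leaf)) 63817 6
 (Tr.node (Tr.node (Tr.node Tr.leaf 63822 6
 Tr.leaf) 63826 6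
 Tr.leaf) 63829 7
 (Tr.node Tr.leaf 63837 7
 Tr.leaf)))) 63838 7
 (Tr.node (Tr.node (Tr.node (Tr.node (Tr.node Tr.leaf 63841 6
 Tr.leaf) 63845 6
 Tr.leaf) 63850 6
 (Tr.node (Tr.node Tr.leaf 63853 7
 Tr.leaf) 63854 6
 Tr.leaf)) 63858 7
 (Tr.node (Tr.node (Tr.node Tr.leaf 63861 7
 Tr.leaf) 63869 7
 Tr.leaf) 63870 6
 (Tr.node Tr.leaf 63875 7
 Tr.leaf))) 63883 8
 (Tr.node (Tr.node (Tr.node (Tr.node Tr.leaf 63891 8
 Tr.leaf) 63895 7
 Tr.leaf) 63907 7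
 (Tr.node (Tr.node Tr.leaf 63927 7
 Tr.leaf) 63939 7
 Tr.leaf)) 63943 7
 (Tr.node (Tr.node (Tr.node Tr.leaf 63947 6
 Tr.leaf) 63951 7
 Tr.leaf) 63971 7
 (Tr.node Tr.leaf 63983 8
 Tr.leaf))))) 63991 8
 (Tr.node (Tr.node (Tr.node (Tr.node (Tr.node (Tr.node Tr.leaf 64513 7
 Tr.leaf) 64515 7
 Tr.leaf) 64519 7
 (Tr.node (Tr.node Tr.leaf 64521 7
 Tr.leaf) 64525 6
 Tr.leaf)) 64527 7
 (Tr.node (Tr.node (Tr.node Tr.leaf 64529 6
 Tr.leaf) 64531 7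
 Tr.leaf) 64539 7
 (Tr.node (Tr.node Tr.leaf 64549 7
 Tr.leaf) 64551 7
 Tr.leaf))) 64553 7
 (Tr.node (Tr.node (Tr.node (Tr.node Tr.leaf 64555 6
 Tr.leaf) 64557 7
 Tr.leaf) 64565 6
 (Tr.node (Tr.node Tr.leaf 64567 7
 Tr.leaf) 64569 7
 Tr.leaf)) 64573 7
 (Tr.node (Tr.node (Tr.node Tr.leaf 64575 7
 Tr.leaf) 64577 7
 Tr.leaf) 64581 7
 (Tr.node Tr.leaf 64583 7
 Tr.leaf)))) 64585 7
 (Tr.node (Tr.node (Tr.node (Tr.node (Tr.node Tr.leaf 64589 6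
 Tr.leaf) 64595 7
 Tr.leaf) 64603 7
 (Tr.node (Tr.node Tr.leaf 64607 6
 Tr.leaf) 64611 6
 Tr.leaf)) 64613 7
 (Tr.node (Tr.node (Tr.node Tr.leaf 64615 7
 Tr.leaf) 64617 7
 Tr.leaf) 64621 7
 (Tr.node Tr.leaf 64625 7
 Tr.leaf))) 64629 6
 (Tr.node (Tr.node (Tr.node (Tr.node Tr.leaf 64631 7
 Tr.leaf) 64633 7
 Tr.leaf) 64635 7
 (Tr.node (Tr.node Tr.leaf 64639 7
 Tr.leaf) 64899 7
 Tr.leaf)) 64907 7
 (Tr.node (Tr.node (Tr.node Tr.leaf 64909 7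
 Tr.leaf) 64913 7
 Tr.leaf) 64917 8
 (Tr.node Tr.leaf 64923 8
 Tr.leaf))))))))

/-- A subtree. -/
def tr1_s16 : Tr := (Tr.node (Tr.node (Tr.node (Tr.node (Tr.node (Tr.node (Tr.node (Tr.node (Tr.node Tr.leaf 64935 7
 Tr.leaf) 64939 7
 Tr.leaf) 64941 7
 (Tr.node (Tr.node Tr.leaf 64943 8
 Tr.leaf) 64945 7
 Tr.leaf)) 64949 7
 (Tr.node (Tr.node (Tr.node Tr.leaf 64951 8
 Tr.leaf) 64953 8
 Tr.leaf) 64955 7
 (Tr.node (Tr.node Tr.leaf 64957 7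
 Tr.leaf) 64959 8
 Tr.leaf))) 64961 8
 (Tr.node (Tr.node (Tr.node (Tr.node Tr.leaf 64963 7
 Tr.leaf) 64965 7
 Tr.leaf) 64967 8
 (Tr.node (Tr.node Tr.leaf 64969 8
 Tr.leaf) 64973 7
 Tr.leaf)) 64975 7
 (Tr.node (Tr.node (Tr.node Tr.leaf 64979 8
 Tr.leaf) 64989 8
 Tr.leaf) 64991 7
 (Tr.node Tr.leaf 64993 8
 Tr.leaf)))) 64995 7
 (Tr.node (Tr.node (Tr.node (Tr.node (Tr.node Tr.leaf 64997 7
 Tr.leaf) 65001 7
 Tr.leaf) 65003 8
 (Tr.node (Tr.node Tr.leaf 65011 7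
 Tr.leaf) 65013 7
 Tr.leaf)) 65019 8
 (Tr.node (Tr.node (Tr.node Tr.leaf 65539 4
 Tr.leaf) 65541 4
 Tr.leaf) 65542 3
 (Tr.node (Tr.node Tr.leaf 65545 4
 Tr.leaf) 65546 4
 Tr.leaf))) 65551 6
 (Tr.node (Tr.node (Tr.node (Tr.node Tr.leaf 65553 4
 Tr.leaf) 65556 4
 Tr.leaf) 65559 5
 (Tr.node (Tr.node Tr.leaf 65560 4
 Tr.leaf) 65566 6
 Tr.leaf)) 65570 4
 (Tr.node (Tr.node (Tr.node Tr.leaf 65572 4
 Tr.leaf) 65575 6
 Tr.leaf) 65576 4
 (Tr.node Tr.leaf 65584 3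
 Tr.leaf))))) 65587 6
 (Tr.node (Tr.node (Tr.node (Tr.node (Tr.node (Tr.node Tr.leaf 65589 6
 Tr.leaf) 65590 5
 Tr.leaf) 65593 7
 (Tr.node (Tr.node Tr.leaf 65599 5
 Tr.leaf) 65601 4
 Tr.leaf)) 65602 4
 (Tr.node (Tr.node (Tr.node Tr.leaf 65604 4
 Tr.leaf) 65607 5
 Tr.leaf) 65608 4
 (Tr.node (Tr.node Tr.leaf 65616 4
 Tr.leaf) 65621 6
 Tr.leaf))) 65622 6
 (Tr.node (Tr.node (Tr.node (Tr.node Tr.leaf 65631 5
 Tr.leaf) 65632 4
 Tr.leaf) 65635 5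
 (Tr.node (Tr.node Tr.leaf 65637 6
 Tr.leaf) 65641 7
 Tr.leaf)) 65647 5
 (Tr.node (Tr.node (Tr.node Tr.leaf 65650 6
 Tr.leaf) 65652 6
 Tr.leaf) 65661 6
 (Tr.node Tr.leaf 65662 5
 Tr.leaf)))) 65667 4
 (Tr.node (Tr.node (Tr.node (Tr.node (Tr.node Tr.leaf 65669 4
 Tr.leaf) 65670 4
 Tr.leaf) 65673 4
 (Tr.node (Tr.node Tr.leaf 65674 4
 Tr.leaf) 65681 4
 Tr.leaf)) 65684 4
 (Tr.node (Tr.node (Tr.node Tr.leaf 65687 6
 Tr.leaf) 65688 4
 Tr.leaf) 65693 6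
 (Tr.node Tr.leaf 65698 4
 Tr.leaf))) 65700 4
 (Tr.node (Tr.node (Tr.node (Tr.node Tr.leaf 65703 7
 Tr.leaf) 65704 4
 Tr.leaf) 65707 6
 (Tr.node (Tr.node Tr.leaf 65712 3
 Tr.leaf) 65718 5
 Tr.leaf)) 65722 6
 (Tr.node (Tr.node (Tr.node Tr.leaf 65724 7
 Tr.leaf) 65729 4
 Tr.leaf) 65730 4
 (Tr.node Tr.leaf 65732 4
 Tr.leaf)))))) 65736 3
 (Tr.node (Tr.node (Tr.node (Tr.node (Tr.node (Tr.node (Tr.node Tr.leaf 65739 5
 Tr.leaf) 65741 6
 Tr.leaf) 65744 4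
 (Tr.node (Tr.node Tr.leaf 65747 6
 Tr.leaf) 65753 6
 Tr.leaf)) 65754 5
 (Tr.node (Tr.node (Tr.node Tr.leaf 65756 6
 Tr.leaf) 65760 4
 Tr.leaf) 65763 5
 (Tr.node (Tr.node Tr.leaf 65769 6
 Tr.leaf) 65775 5
 Tr.leaf))) 65783 6
 (Tr.node (Tr.node (Tr.node (Tr.node Tr.leaf 65789 6
 Tr.leaf) 65790 6
 Tr.leaf) 65793 4
 (Tr.node (Tr.node Tr.leaf 65794 4
 Tr.leaf) 65796 4
 Tr.leaf)) 65799 6
 (Tr.node (Tr.node (Tr.node Tr.leaf 65800 4
 Tr.leaf) 65805 6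
 Tr.leaf) 65806 6
 (Tr.node Tr.leaf 65808 3
 Tr.leaf)))) 65811 6
 (Tr.node (Tr.node (Tr.node (Tr.node (Tr.node Tr.leaf 65817 6
 Tr.leaf) 65823 7
 Tr.leaf) 65824 3
 (Tr.node (Tr.node Tr.leaf 65836 7
 Tr.leaf) 65839 6
 Tr.leaf)) 65841 6
 (Tr.node (Tr.node (Tr.node Tr.leaf 65847 7
 Tr.leaf) 65848 6
 Tr.leaf) 65851 6
 (Tr.node (Tr.node Tr.leaf 65853 7
 Tr.leaf) 65854 7
 Tr.leaf))) 65859 6
 (Tr.node (Tr.node (Tr.node (Tr.node Tr.leaf 65862 5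
 Tr.leaf) 65865 6
 Tr.leaf) 65874 6
 (Tr.node (Tr.node Tr.leaf 65876 7
 Tr.leaf) 65892 6
 Tr.leaf)) 65896 5
 (Tr.node (Tr.node (Tr.node Tr.leaf 65899 6
 Tr.leaf) 65902 6
 Tr.leaf) 65904 6
 (Tr.node Tr.leaf 65907 7
 Tr.leaf))))) 65910 7
 (Tr.node (Tr.node (Tr.node (Tr.node (Tr.node (Tr.node Tr.leaf 65919 7
 Tr.leaf) 65921 4
 Tr.leaf) 65922 4
 (Tr.node (Tr.node Tr.leaf 65924 4
 Tr.leaf) 65928 4
 Tr.leaf)) 65931 6
 (Tr.node (Tr.node (Tr.node Tr.leaf 65936 3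
 Tr.leaf) 65941 6
 Tr.leaf) 65946 7
 (Tr.node (Tr.node Tr.leaf 65952 3
 Tr.leaf) 65957 7
 Tr.leaf))) 65961 6
 (Tr.node (Tr.node (Tr.node (Tr.node Tr.leaf 65962 6
 Tr.leaf) 65967 6
 Tr.leaf) 65969 6
 (Tr.node (Tr.node Tr.leaf 65970 6
 Tr.leaf) 65972 6
 Tr.leaf)) 65981 7
 (Tr.node (Tr.node (Tr.node Tr.leaf 65993 5
 Tr.leaf) 65994 6
 Tr.leaf) 65996 6
 (Tr.node Tr.leaf 65999 5
 Tr.leaf)))) 66001 6
 (Tr.node (Tr.node (Tr.node (Tr.node (Tr.node Tr.leaf 66002 5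
 Tr.leaf) 66013 7
 Tr.leaf) 66017 6
 (Tr.node (Tr.node Tr.leaf 66018 6
 Tr.leaf) 66024 6
 Tr.leaf)) 66029 5
 (Tr.node (Tr.node (Tr.node Tr.leaf 66030 5
 Tr.leaf) 66035 7
 Tr.leaf) 66037 6
 (Tr.node Tr.leaf 66041 7
 Tr.leaf))) 66042 7
 (Tr.node (Tr.node (Tr.node (Tr.node Tr.leaf 66044 7
 Tr.leaf) 66047 7
 Tr.leaf) 66561 4
 (Tr.node (Tr.node Tr.leaf 66563 4
 Tr.leaf) 66575 7
 Tr.leaf)) 66581 6
 (Tr.node (Tr.node (Tr.node Tr.leaf 66583 6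
 Tr.leaf) 66587 6
 Tr.leaf) 66597 7
 (Tr.node Tr.leaf 66601 6
 Tr.leaf))))))) 66609 7
 (Tr.node (Tr.node (Tr.node (Tr.node (Tr.node (Tr.node (Tr.node (Tr.node Tr.leaf 66635 6
 Tr.leaf) 66643 6
 Tr.leaf) 66659 6
 (Tr.node (Tr.node Tr.leaf 66671 6
 Tr.leaf) 66681 6
 Tr.leaf)) 66689 4
 (Tr.node (Tr.node (Tr.node Tr.leaf 66691 4
 Tr.leaf) 66701 6
 Tr.leaf) 66703 7
 (Tr.node (Tr.node Tr.leaf 66709 6
 Tr.leaf) 66711 6
 Tr.leaf))) 66715 6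
 (Tr.node (Tr.node (Tr.node (Tr.node Tr.leaf 66727 7
 Tr.leaf) 66737 6
 Tr.leaf) 66739 7
 (Tr.node (Tr.node Tr.leaf 66751 6
 Tr.leaf) 66757 6
 Tr.leaf)) 66781 6
 (Tr.node (Tr.node (Tr.node Tr.leaf 66785 6
 Tr.leaf) 66805 7
 Tr.leaf) 66809 7
 (Tr.node Tr.leaf 66811 7
 Tr.leaf)))) 66835 7
 (Tr.node (Tr.node (Tr.node (Tr.node (Tr.node Tr.leaf 66845 6
 Tr.leaf) 66847 7
 Tr.leaf) 66851 6
 (Tr.node (Tr.node Tr.leaf 66861 6
 Tr.leaf) 66869 6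
 Tr.leaf)) 66871 6
 (Tr.node (Tr.node (Tr.node Tr.leaf 66873 6
 Tr.leaf) 66875 7
 Tr.leaf) 66893 7
 (Tr.node (Tr.node Tr.leaf 66903 6
 Tr.leaf) 66905 7
 Tr.leaf))) 66919 6
 (Tr.node (Tr.node (Tr.node (Tr.node Tr.leaf 66921 6
 Tr.leaf) 66923 6
 Tr.leaf) 66949 5
 (Tr.node (Tr.node Tr.leaf 66953 5
 Tr.leaf) 66955 6
 Tr.leaf)) 66961 6
 (Tr.node (Tr.node (Tr.node Tr.leaf 66963 7
 Tr.leaf) 66973 6
 Tr.leaf) 66975 6
 (Tr.node Tr.leaf 66979 6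
 Tr.leaf))))) 66989 7
 (Tr.node (Tr.node (Tr.node (Tr.node (Tr.node (Tr.node Tr.leaf 66997 6
 Tr.leaf) 67001 6
 Tr.leaf) 67009 5
 (Tr.node (Tr.node Tr.leaf 67023 7
 Tr.leaf) 67031 6
 Tr.leaf)) 67033 6
 (Tr.node (Tr.node (Tr.node Tr.leaf 67047 6
 Tr.leaf) 67049 6
 Tr.leaf) 67059 6
 (Tr.node (Tr.node Tr.leaf 67069 7
 Tr.leaf) 67071 7
 Tr.leaf))) 67585 4
 (Tr.node (Tr.node (Tr.node (Tr.node Tr.leaf 67586 4
 Tr.leaf) 67589 4
 Tr.leaf) 67590 4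
 (Tr.node (Tr.node Tr.leaf 67595 7
 Tr.leaf) 67607 6
 Tr.leaf)) 67610 6
 (Tr.node (Tr.node (Tr.node Tr.leaf 67613 6
 Tr.leaf) 67619 7
 Tr.leaf) 67625 6
 (Tr.node Tr.leaf 67629 6
 Tr.leaf)))) 67651 6
 (Tr.node (Tr.node (Tr.node (Tr.node (Tr.node Tr.leaf 67655 6
 Tr.leaf) 67657 7
 Tr.leaf) 67658 6
 (Tr.node (Tr.node Tr.leaf 67661 7
 Tr.leaf) 67670 6
 Tr.leaf)) 67675 6
 (Tr.node (Tr.node (Tr.node Tr.leaf 67682 6
 Tr.leaf) 67695 6
 Tr.leaf) 67699 6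
 (Tr.node Tr.leaf 67703 6
 Tr.leaf))) 67705 6
 (Tr.node (Tr.node (Tr.node (Tr.node Tr.leaf 67706 6
 Tr.leaf) 67709 6
 Tr.leaf) 67710 5
 (Tr.node (Tr.node Tr.leaf 67713 4
 Tr.leaf) 67714 4
 Tr.leaf)) 67717 4
 (Tr.node (Tr.node (Tr.node Tr.leaf 67718 4
 Tr.leaf) 67723 6
 Tr.leaf) 67727 7
 (Tr.node Tr.leaf 67731 6
 Tr.leaf)))))) 67738 6
 (Tr.node (Tr.node (Tr.node (Tr.node (Tr.node (Tr.node (Tr.node Tr.leaf 67742 6
 Tr.leaf) 67751 7
 Tr.leaf) 67753 6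
 (Tr.node (Tr.node Tr.leaf 67757 6
 Tr.leaf) 67761 6
 Tr.leaf)) 67771 7
 (Tr.node (Tr.node (Tr.node Tr.leaf 67785 6
 Tr.leaf) 67786 5
 Tr.leaf) 67793 5
 (Tr.node (Tr.node Tr.leaf 67794 6
 Tr.leaf) 67798 7
 Tr.leaf))) 67809 5
 (Tr.node (Tr.node (Tr.node (Tr.node Tr.leaf 67814 6
 Tr.leaf) 67819 6
 Tr.leaf) 67823 6
 (Tr.node (Tr.node Tr.leaf 67834 6
 Tr.leaf) 67838 6
 Tr.leaf)) 67849 6
 (Tr.node (Tr.node (Tr.node Tr.leaf 67853 6
 Tr.leaf) 67854 5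
 Tr.leaf) 67861 6
 (Tr.node Tr.leaf 67862 5
 Tr.leaf)))) 67867 7
 (Tr.node (Tr.node (Tr.node (Tr.node (Tr.node Tr.leaf 67873 7
 Tr.leaf) 67877 7
 Tr.leaf) 67878 5
 (Tr.node (Tr.node Tr.leaf 67883 6
 Tr.leaf) 67895 6
 Tr.leaf)) 67898 6
 (Tr.node (Tr.node (Tr.node Tr.leaf 67905 6
 Tr.leaf) 67919 7
 Tr.leaf) 67927 6
 (Tr.node (Tr.node Tr.leaf 67945 6
 Tr.leaf) 67949 7
 Tr.leaf))) 67953 7
 (Tr.node (Tr.node (Tr.node (Tr.node Tr.leaf 67958 6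
 Tr.leaf) 67963 7
 Tr.leaf) 67975 6
 (Tr.node (Tr.node Tr.leaf 67978 5
 Tr.leaf) 67982 6
 Tr.leaf)) 67986 6
 (Tr.node (Tr.node (Tr.node Tr.leaf 67995 7
 Tr.leaf) 67999 6
 Tr.leaf) 68001 6
 (Tr.node Tr.leaf 68002 5
 Tr.leaf))))) 68025 6
 (Tr.node (Tr.node (Tr.node (Tr.node (Tr.node (Tr.node Tr.leaf 68030 6
 Tr.leaf) 68033 5
 Tr.leaf) 68038 6
 (Tr.node (Tr.node Tr.leaf 68043 6
 Tr.leaf) 68047 6
 Tr.leaf)) 68051 6
 (Tr.node (Tr.node (Tr.node Tr.leaf 68055 6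
 Tr.leaf) 68057 6
 Tr.leaf) 68058 6
 (Tr.node (Tr.node Tr.leaf 68061 7
 Tr.leaf) 68067 7
 Tr.leaf))) 68071 6
 (Tr.node (Tr.node (Tr.node (Tr.node Tr.leaf 68073 6
 Tr.leaf) 68074 6
 Tr.leaf) 68077 6
 (Tr.node (Tr.node Tr.leaf 68078 6
 Tr.leaf) 68085 7
 Tr.leaf)) 68086 6
 (Tr.node (Tr.node (Tr.node Tr.leaf 68091 7
 Tr.leaf) 68617 7
 Tr.leaf) 68621 7
 (Tr.node Tr.leaf 68623 7
 Tr.leaf)))) 68629 6
 (Tr.node (Tr.node (Tr.node (Tr.node (Tr.node Tr.leaf 68631 6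
 Tr.leaf) 68643 7
 Tr.leaf) 68645 7
 (Tr.node (Tr.node Tr.leaf 68647 7
 Tr.leaf) 68665 7
 Tr.leaf)) 68667 7
 (Tr.node (Tr.node (Tr.node Tr.leaf 68671 6
 Tr.leaf) 68697 6
 Tr.leaf) 68699 7
 (Tr.node Tr.leaf 68701 6
 Tr.leaf))) 68713 7
 (Tr.node (Tr.node (Tr.node (Tr.node Tr.leaf 68717 6
 Tr.leaf) 68721 5
 Tr.leaf) 68727 7
 (Tr.node (Tr.node Tr.leaf 68747 7
 Tr.leaf) 68749 7
 Tr.leaf)) 68753 6
 (Tr.node (Tr.node (Tr.node Tr.leaf 68755 6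
 Tr.leaf) 68769 6
 Tr.leaf) 68771 7
 (Tr.node Tr.leaf 68773 7
 Tr.leaf))))))))

/-- A subtree. -/
def tr1_s17 : Tr := (Tr.node (Tr.node (Tr.node (Tr.node (Tr.node (Tr.node (Tr.node (Tr.node (Tr.node Tr.leaf 68795 7
 Tr.leaf) 68801 5
 Tr.leaf) 68805 6
 (Tr.node (Tr.node Tr.leaf 68825 6
 Tr.leaf) 68841 6
 Tr.leaf)) 68843 6
 (Tr.node (Tr.node (Tr.node Tr.leaf 68853 7
 Tr.leaf) 68855 6
 Tr.leaf) 68865 6
 (Tr.node (Tr.node Tr.leaf 68871 6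
 Tr.leaf) 68905 7
 Tr.leaf))) 68907 6
 (Tr.node (Tr.node (Tr.node (Tr.node Tr.leaf 68909 7
 Tr.leaf) 68911 7
 Tr.leaf) 68913 7
 (Tr.node (Tr.node Tr.leaf 68915 6
 Tr.leaf) 68917 6
 Tr.leaf)) 68919 6
 (Tr.node (Tr.node (Tr.node Tr.leaf 68939 7
 Tr.leaf) 68941 6
 Tr.leaf) 68943 7
 (Tr.node Tr.leaf 68949 6
 Tr.leaf)))) 68951 6
 (Tr.node (Tr.node (Tr.node (Tr.node (Tr.node Tr.leaf 68963 6
 Tr.leaf) 68965 6
 Tr.leaf) 68967 6
 (Tr.node (Tr.node Tr.leaf 68985 7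
 Tr.leaf) 68989 7
 Tr.leaf)) 68995 6
 (Tr.node (Tr.node (Tr.node Tr.leaf 69017 7
 Tr.leaf) 69019 7
 Tr.leaf) 69023 6
 (Tr.node (Tr.node Tr.leaf 69033 7
 Tr.leaf) 69037 6
 Tr.leaf))) 69043 7
 (Tr.node (Tr.node (Tr.node (Tr.node Tr.leaf 69069 7
 Tr.leaf) 69077 7
 Tr.leaf) 69093 6
 (Tr.node (Tr.node Tr.leaf 69633 4
 Tr.leaf) 69634 4
 Tr.leaf)) 69641 4
 (Tr.node (Tr.node (Tr.node Tr.leaf 69642 3
 Tr.leaf) 69647 6
 Tr.leaf) 69654 6
 (Tr.node Tr.leaf 69659 5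
 Tr.leaf))))) 69669 6
 (Tr.node (Tr.node (Tr.node (Tr.node (Tr.node (Tr.node Tr.leaf 69670 5
 Tr.leaf) 69675 5
 Tr.leaf) 69677 6
 (Tr.node (Tr.node Tr.leaf 69682 6
 Tr.leaf) 69684 6
 Tr.leaf)) 69687 6
 (Tr.node (Tr.node (Tr.node Tr.leaf 69689 6
 Tr.leaf) 69690 6
 Tr.leaf) 69692 7
 (Tr.node (Tr.node Tr.leaf 69695 6
 Tr.leaf) 69701 7
 Tr.leaf))) 69709 6
 (Tr.node (Tr.node (Tr.node (Tr.node Tr.leaf 69710 5
 Tr.leaf) 69713 6
 Tr.leaf) 69714 6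
 (Tr.node (Tr.node Tr.leaf 69716 6
 Tr.leaf) 69719 6
 Tr.leaf)) 69724 5
 (Tr.node (Tr.node (Tr.node Tr.leaf 69727 6
 Tr.leaf) 69729 7
 Tr.leaf) 69730 5
 (Tr.node Tr.leaf 69735 6
 Tr.leaf)))) 69743 6
 (Tr.node (Tr.node (Tr.node (Tr.node (Tr.node Tr.leaf 69747 6
 Tr.leaf) 69750 6
 Tr.leaf) 69755 7
 (Tr.node (Tr.node Tr.leaf 69758 6
 Tr.leaf) 69761 4
 Tr.leaf)) 69762 4
 (Tr.node (Tr.node (Tr.node Tr.leaf 69767 7
 Tr.leaf) 69769 4
 Tr.leaf) 69770 4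
 (Tr.node Tr.leaf 69775 7
 Tr.leaf))) 69781 6
 (Tr.node (Tr.node (Tr.node (Tr.node Tr.leaf 69782 7
 Tr.leaf) 69787 6
 Tr.leaf) 69789 6
 (Tr.node (Tr.node Tr.leaf 69790 6
 Tr.leaf) 69797 6
 Tr.leaf)) 69805 6
 (Tr.node (Tr.node (Tr.node Tr.leaf 69806 5
 Tr.leaf) 69809 7
 Tr.leaf) 69815 7
 (Tr.node Tr.leaf 69817 7
 Tr.leaf)))))) 69818 5
 (Tr.node (Tr.node (Tr.node (Tr.node (Tr.node (Tr.node (Tr.node Tr.leaf 69820 6
 Tr.leaf) 69823 6
 Tr.leaf) 69827 6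
 (Tr.node (Tr.node Tr.leaf 69835 6
 Tr.leaf) 69837 7
 Tr.leaf)) 69838 6
 (Tr.node (Tr.node (Tr.node Tr.leaf 69844 5
 Tr.leaf) 69847 7
 Tr.leaf) 69863 6
 (Tr.node (Tr.node Tr.leaf 69865 7
 Tr.leaf) 69866 5
 Tr.leaf))) 69885 6
 (Tr.node (Tr.node (Tr.node (Tr.node Tr.leaf 69894 6
 Tr.leaf) 69899 5
 Tr.leaf) 69902 6
 (Tr.node (Tr.node Tr.leaf 69906 7
 Tr.leaf) 69911 7
 Tr.leaf)) 69914 6
 (Tr.node (Tr.node (Tr.node Tr.leaf 69916 6
 Tr.leaf) 69919 6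
 Tr.leaf) 69929 6
 (Tr.node Tr.leaf 69930 6
 Tr.leaf)))) 69932 6
 (Tr.node (Tr.node (Tr.node (Tr.node (Tr.node Tr.leaf 69939 7
 Tr.leaf) 69942 7
 Tr.leaf) 69949 6
 (Tr.node (Tr.node Tr.leaf 69950 6
 Tr.leaf) 69954 7
 Tr.leaf)) 69956 6
 (Tr.node (Tr.node (Tr.node Tr.leaf 69961 6
 Tr.leaf) 69962 6
 Tr.leaf) 69964 6
 (Tr.node (Tr.node Tr.leaf 69971 6
 Tr.leaf) 69973 6
 Tr.leaf))) 69979 6
 (Tr.node (Tr.node (Tr.node (Tr.node Tr.leaf 69981 7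
 Tr.leaf) 69982 6
 Tr.leaf) 69990 6
 (Tr.node (Tr.node Tr.leaf 69997 7
 Tr.leaf) 69998 6
 Tr.leaf)) 70002 6
 (Tr.node (Tr.node (Tr.node Tr.leaf 70004 6
 Tr.leaf) 70015 7
 Tr.leaf) 70021 6
 (Tr.node Tr.leaf 70033 6
 Tr.leaf))))) 70034 6
 (Tr.node (Tr.node (Tr.node (Tr.node (Tr.node (Tr.node Tr.leaf 70044 6
 Tr.leaf) 70052 6
 Tr.leaf) 70055 6
 (Tr.node (Tr.node Tr.leaf 70060 7
 Tr.leaf) 70063 6
 Tr.leaf)) 70070 6
 (Tr.node (Tr.node (Tr.node Tr.leaf 70075 7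
 Tr.leaf) 70081 6
 Tr.leaf) 70082 6
 (Tr.node (Tr.node Tr.leaf 70092 6
 Tr.leaf) 70095 6
 Tr.leaf))) 70099 6
 (Tr.node (Tr.node (Tr.node (Tr.node Tr.leaf 70109 7
 Tr.leaf) 70115 6
 Tr.leaf) 70118 5
 (Tr.node (Tr.node Tr.leaf 70123 6
 Tr.leaf) 70126 6
 Tr.leaf)) 70129 6
 (Tr.node (Tr.node (Tr.node Tr.leaf 70130 6
 Tr.leaf) 70140 5
 Tr.leaf) 70143 7
 (Tr.node Tr.leaf 70661 7
 Tr.leaf)))) 70663 7
 (Tr.node (Tr.node (Tr.node (Tr.node (Tr.node Tr.leaf 70669 7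
 Tr.leaf) 70673 6
 Tr.leaf) 70691 6
 (Tr.node (Tr.node Tr.leaf 70709 7
 Tr.leaf) 70711 7
 Tr.leaf)) 70723 6
 (Tr.node (Tr.node (Tr.node Tr.leaf 70731 6
 Tr.leaf) 70749 7
 Tr.leaf) 70751 7
 (Tr.node Tr.leaf 70757 6
 Tr.leaf))) 70759 7
 (Tr.node (Tr.node (Tr.node (Tr.node Tr.leaf 70765 6
 Tr.leaf) 70769 7
 Tr.leaf) 70777 5
 (Tr.node (Tr.node Tr.leaf 70789 7
 Tr.leaf) 70799 7
 Tr.leaf)) 70801 6
 (Tr.node (Tr.node (Tr.node Tr.leaf 70817 6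
 Tr.leaf) 70827 6
 Tr.leaf) 70837 7
 (Tr.node Tr.leaf 70839 7
 Tr.leaf))))))) 70869 7
 (Tr.node (Tr.node (Tr.node (Tr.node (Tr.node (Tr.node (Tr.node (Tr.node Tr.leaf 70871 7
 Tr.leaf) 70879 6
 Tr.leaf) 70893 6
 (Tr.node (Tr.node Tr.leaf 70895 5
 Tr.leaf) 70897 7
 Tr.leaf)) 70899 6
 (Tr.node (Tr.node (Tr.node Tr.leaf 70907 6
 Tr.leaf) 70921 6
 Tr.leaf) 70923 6
 (Tr.node (Tr.node Tr.leaf 70933 7
 Tr.leaf) 70941 7
 Tr.leaf))) 70943 7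
 (Tr.node (Tr.node (Tr.node (Tr.node Tr.leaf 70949 6
 Tr.leaf) 70957 6
 Tr.leaf) 70969 7
 (Tr.node (Tr.node Tr.leaf 70983 6
 Tr.leaf) 70989 7
 Tr.leaf)) 70991 6
 (Tr.node (Tr.node (Tr.node Tr.leaf 70995 7
 Tr.leaf) 71003 6
 Tr.leaf) 71009 6
 (Tr.node Tr.leaf 71031 8
 Tr.leaf)))) 71039 7
 (Tr.node (Tr.node (Tr.node (Tr.node (Tr.node Tr.leaf 71077 7
 Tr.leaf) 71079 6
 Tr.leaf) 71085 6
 (Tr.node (Tr.node Tr.leaf 71089 6
 Tr.leaf) 71091 7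
 Tr.leaf)) 71097 6
 (Tr.node (Tr.node (Tr.node Tr.leaf 71111 7
 Tr.leaf) 71121 6
 Tr.leaf) 71123 7
 (Tr.node (Tr.node Tr.leaf 71129 5
 Tr.leaf) 71137 6
 Tr.leaf))) 71139 7
 (Tr.node (Tr.node (Tr.node (Tr.node Tr.leaf 71145 6
 Tr.leaf) 71147 6
 Tr.leaf) 71159 8
 (Tr.node (Tr.node Tr.leaf 71165 7
 Tr.leaf) 71167 7
 Tr.leaf)) 71683 7
 (Tr.node (Tr.node (Tr.node Tr.leaf 71687 7
 Tr.leaf) 71695 7
 Tr.leaf) 71701 6
 (Tr.node Tr.leaf 71702 7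
 Tr.leaf))))) 71706 7
 (Tr.node (Tr.node (Tr.node (Tr.node (Tr.node (Tr.node Tr.leaf 71709 6
 Tr.leaf) 71710 6
 Tr.leaf) 71713 6
 (Tr.node (Tr.node Tr.leaf 71714 6
 Tr.leaf) 71718 5
 Tr.leaf)) 71725 6
 (Tr.node (Tr.node (Tr.node Tr.leaf 71739 6
 Tr.leaf) 71743 6
 Tr.leaf) 71749 7
 (Tr.node (Tr.node Tr.leaf 71750 6
 Tr.leaf) 71753 7
 Tr.leaf))) 71767 7
 (Tr.node (Tr.node (Tr.node (Tr.node Tr.leaf 71771 7
 Tr.leaf) 71775 7
 Tr.leaf) 71787 7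
 (Tr.node (Tr.node Tr.leaf 71797 6
 Tr.leaf) 71801 5
 Tr.leaf)) 71802 7
 (Tr.node (Tr.node (Tr.node Tr.leaf 71806 6
 Tr.leaf) 71815 7
 Tr.leaf) 71819 7
 (Tr.node Tr.leaf 71826 6
 Tr.leaf)))) 71838 7
 (Tr.node (Tr.node (Tr.node (Tr.node (Tr.node Tr.leaf 71841 6
 Tr.leaf) 71850 5
 Tr.leaf) 71853 6
 (Tr.node (Tr.node Tr.leaf 71854 6
 Tr.leaf) 71863 7
 Tr.leaf)) 71871 7
 (Tr.node (Tr.node (Tr.node Tr.leaf 71873 7
 Tr.leaf) 71877 7
 Tr.leaf) 71878 6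
 (Tr.node Tr.leaf 71885 7
 Tr.leaf))) 71891 7
 (Tr.node (Tr.node (Tr.node (Tr.node Tr.leaf 71895 7
 Tr.leaf) 71903 7
 Tr.leaf) 71915 7
 (Tr.node (Tr.node Tr.leaf 71922 6
 Tr.leaf) 71925 6
 Tr.leaf)) 71929 7
 (Tr.node (Tr.node (Tr.node Tr.leaf 71933 7
 Tr.leaf) 71942 5
 Tr.leaf) 71950 6
 (Tr.node Tr.leaf 71955 6
 Tr.leaf)))))) 71963 6
 (Tr.node (Tr.node (Tr.node (Tr.node (Tr.node (Tr.node (Tr.node Tr.leaf 71967 6
 Tr.leaf) 71971 6
 Tr.leaf) 71975 5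
 (Tr.node (Tr.node Tr.leaf 71979 7
 Tr.leaf) 71985 7
 Tr.leaf)) 71990 7
 (Tr.node (Tr.node (Tr.node Tr.leaf 71993 6
 Tr.leaf) 71994 6
 Tr.leaf) 71997 6
 (Tr.node (Tr.node Tr.leaf 71998 6
 Tr.leaf) 72003 7
 Tr.leaf))) 72007 7
 (Tr.node (Tr.node (Tr.node (Tr.node Tr.leaf 72015 7
 Tr.leaf) 72022 7
 Tr.leaf) 72025 7
 (Tr.node (Tr.node Tr.leaf 72029 6
 Tr.leaf) 72033 7
 Tr.leaf)) 72037 7
 (Tr.node (Tr.node (Tr.node Tr.leaf 72046 6
 Tr.leaf) 72059 7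
 Tr.leaf) 72065 6
 (Tr.node Tr.leaf 72066 5
 Tr.leaf)))) 72069 6
 (Tr.node (Tr.node (Tr.node (Tr.node (Tr.node Tr.leaf 72070 6
 Tr.leaf) 72074 6
 Tr.leaf) 72078 6
 (Tr.node (Tr.node Tr.leaf 72083 6
 Tr.leaf) 72091 7
 Tr.leaf)) 72103 6
 (Tr.node (Tr.node (Tr.node Tr.leaf 72107 6
 Tr.leaf) 72113 6
 Tr.leaf) 72118 6
 (Tr.node Tr.leaf 72121 6
 Tr.leaf))) 72125 7
 (Tr.node (Tr.node (Tr.node (Tr.node Tr.leaf 72126 7
 Tr.leaf) 72131 7
 Tr.leaf) 72135 7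
 (Tr.node (Tr.node Tr.leaf 72139 7
 Tr.leaf) 72145 6
 Tr.leaf)) 72150 7
 (Tr.node (Tr.node (Tr.node Tr.leaf 72153 6
 Tr.leaf) 72157 6
 Tr.leaf) 72161 6
 (Tr.node Tr.leaf 72162 6
 Tr.leaf))))) 72169 6
 (Tr.node (Tr.node (Tr.node (Tr.node (Tr.node (Tr.node Tr.leaf 72170 7
 Tr.leaf) 72187 7
 Tr.leaf) 72707 7
 (Tr.node (Tr.node Tr.leaf 72709 7
 Tr.leaf) 72713 7
 Tr.leaf)) 72715 7
 (Tr.node (Tr.node (Tr.node Tr.leaf 72719 7
 Tr.leaf) 72757 6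
 Tr.leaf) 72761 5
 (Tr.node (Tr.node Tr.leaf 72763 7
 Tr.leaf) 72765 7
 Tr.leaf))) 72767 7
 (Tr.node (Tr.node (Tr.node (Tr.node Tr.leaf 72795 6
 Tr.leaf) 72797 7
 Tr.leaf) 72799 7
 (Tr.node (Tr.node Tr.leaf 72803 7
 Tr.leaf) 72807 6
 Tr.leaf)) 72809 7
 (Tr.node (Tr.node (Tr.node Tr.leaf 72815 7
 Tr.leaf) 72833 7
 Tr.leaf) 72835 7
 (Tr.node Tr.leaf 72839 7
 Tr.leaf)))) 72841 7
 (Tr.node (Tr.node (Tr.node (Tr.node (Tr.node Tr.leaf 72845 7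
 Tr.leaf) 72847 7
 Tr.leaf) 72881 6
 (Tr.node (Tr.node Tr.leaf 72885 6
 Tr.leaf) 72887 6
 Tr.leaf)) 72889 6
 (Tr.node (Tr.node (Tr.node Tr.leaf 72895 7
 Tr.leaf) 72913 6
 Tr.leaf) 72915 6
 (Tr.node Tr.leaf 72917 7
 Tr.leaf))) 72921 5
 (Tr.node (Tr.node (Tr.node (Tr.node Tr.leaf 72925 6
 Tr.leaf) 72927 6
 Tr.leaf) 72929 6
 (Tr.node (Tr.node Tr.leaf 72931 7
 Tr.leaf) 72933 6
 Tr.leaf)) 72935 7
 (Tr.node (Tr.node (Tr.node Tr.leaf 72937 6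
 Tr.leaf) 72943 7
 Tr.leaf) 72979 5
 (Tr.node Tr.leaf 72985 6
 Tr.leaf))))))))

/-- A subtree. -/
def tr1_s18 : Tr := (Tr.node (Tr.node (Tr.node (Tr.node (Tr.node (Tr.node (Tr.node (Tr.node (Tr.node Tr.leaf 72993 7
 Tr.leaf) 73001 7
 Tr.leaf) 73005 7
 (Tr.node (Tr.node Tr.leaf 73027 7
 Tr.leaf) 73029 6
 Tr.leaf)) 73035 6
 (Tr.node (Tr.node (Tr.node Tr.leaf 73039 7
 Tr.leaf) 73077 7
 Tr.leaf) 73081 7
 (Tr.node (Tr.node Tr.leaf 73105 6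
 Tr.leaf) 73107 7
 Tr.leaf))) 73111 7
 (Tr.node (Tr.node (Tr.node (Tr.node Tr.leaf 73115 7
 Tr.leaf) 73117 5
 Tr.leaf) 73119 6
 (Tr.node (Tr.node Tr.leaf 73121 7
 Tr.leaf) 73123 7
 Tr.leaf)) 73125 7
 (Tr.node (Tr.node (Tr.node Tr.leaf 73133 7
 Tr.leaf) 73157 7
 Tr.leaf) 73159 6
 (Tr.node Tr.leaf 73161 6
 Tr.leaf)))) 73165 7
 (Tr.node (Tr.node (Tr.node (Tr.node (Tr.node Tr.leaf 73167 6
 Tr.leaf) 73203 7
 Tr.leaf) 73205 7
 (Tr.node (Tr.node Tr.leaf 73207 8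
 Tr.leaf) 73209 7
 Tr.leaf)) 73211 8
 (Tr.node (Tr.node (Tr.node Tr.leaf 73213 8
 Tr.leaf) 73215 8
 Tr.leaf) 73729 4
 (Tr.node (Tr.node Tr.leaf 73732 4
 Tr.leaf) 73735 6
 Tr.leaf))) 73736 4
 (Tr.node (Tr.node (Tr.node (Tr.node Tr.leaf 73739 6
 Tr.leaf) 73741 6
 Tr.leaf) 73742 5
 (Tr.node (Tr.node Tr.leaf 73745 4
 Tr.leaf) 73748 4
 Tr.leaf)) 73752 4
 (Tr.node (Tr.node (Tr.node Tr.leaf 73763 7
 Tr.leaf) 73772 7
 Tr.leaf) 73775 6
 (Tr.node Tr.leaf 73785 6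
 Tr.leaf))))) 73788 6
 (Tr.node (Tr.node (Tr.node (Tr.node (Tr.node (Tr.node Tr.leaf 73791 7
 Tr.leaf) 73798 5
 Tr.leaf) 73804 5
 (Tr.node (Tr.node Tr.leaf 73807 7
 Tr.leaf) 73817 6
 Tr.leaf)) 73818 6
 (Tr.node (Tr.node (Tr.node Tr.leaf 73820 6
 Tr.leaf) 73828 6
 Tr.leaf) 73831 7
 (Tr.node (Tr.node Tr.leaf 73832 5
 Tr.leaf) 73835 7
 Tr.leaf))) 73837 7
 (Tr.node (Tr.node (Tr.node (Tr.node Tr.leaf 73838 6
 Tr.leaf) 73841 6
 Tr.leaf) 73842 6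
 (Tr.node (Tr.node Tr.leaf 73844 6
 Tr.leaf) 73851 6
 Tr.leaf)) 73857 4
 (Tr.node (Tr.node (Tr.node Tr.leaf 73860 4
 Tr.leaf) 73864 3
 Tr.leaf) 73867 6
 (Tr.node Tr.leaf 73870 7
 Tr.leaf)))) 73873 4
 (Tr.node (Tr.node (Tr.node (Tr.node (Tr.node Tr.leaf 73876 4
 Tr.leaf) 73879 6
 Tr.leaf) 73880 4
 (Tr.node (Tr.node Tr.leaf 73886 5
 Tr.leaf) 73891 6
 Tr.leaf)) 73897 6
 (Tr.node (Tr.node (Tr.node Tr.leaf 73898 5
 Tr.leaf) 73900 6
 Tr.leaf) 73903 5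
 (Tr.node Tr.leaf 73907 7
 Tr.leaf))) 73909 6
 (Tr.node (Tr.node (Tr.node (Tr.node Tr.leaf 73913 7
 Tr.leaf) 73914 6
 Tr.leaf) 73923 6
 (Tr.node (Tr.node Tr.leaf 73926 7
 Tr.leaf) 73935 7
 Tr.leaf)) 73939 6
 (Tr.node (Tr.node (Tr.node Tr.leaf 73941 6
 Tr.leaf) 73942 5
 Tr.leaf) 73948 5
 (Tr.node Tr.leaf 73951 7
 Tr.leaf)))))) 73954 6
 (Tr.node (Tr.node (Tr.node (Tr.node (Tr.node (Tr.node (Tr.node Tr.leaf 73959 5
 Tr.leaf) 73969 6
 Tr.leaf) 73970 7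
 (Tr.node (Tr.node Tr.leaf 73976 6
 Tr.leaf) 73979 7
 Tr.leaf)) 73982 6
 (Tr.node (Tr.node (Tr.node Tr.leaf 73987 7
 Tr.leaf) 73989 6
 Tr.leaf) 73993 6
 (Tr.node (Tr.node Tr.leaf 73994 7
 Tr.leaf) 74009 6
 Tr.leaf))) 74010 6
 (Tr.node (Tr.node (Tr.node (Tr.node Tr.leaf 74012 6
 Tr.leaf) 74023 6
 Tr.leaf) 74027 6
 (Tr.node (Tr.node Tr.leaf 74029 7
 Tr.leaf) 74033 5
 Tr.leaf)) 74034 6
 (Tr.node (Tr.node (Tr.node Tr.leaf 74036 6
 Tr.leaf) 74046 5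
 Tr.leaf) 74049 7
 (Tr.node Tr.leaf 74050 6
 Tr.leaf)))) 74056 5
 (Tr.node (Tr.node (Tr.node (Tr.node (Tr.node Tr.leaf 74059 7
 Tr.leaf) 74062 6
 Tr.leaf) 74065 6
 (Tr.node (Tr.node Tr.leaf 74068 6
 Tr.leaf) 74071 7
 Tr.leaf)) 74075 6
 (Tr.node (Tr.node (Tr.node Tr.leaf 74095 7
 Tr.leaf) 74102 5
 Tr.leaf) 74105 6
 (Tr.node (Tr.node Tr.leaf 74108 5
 Tr.leaf) 74115 6
 Tr.leaf))) 74122 6
 (Tr.node (Tr.node (Tr.node (Tr.node Tr.leaf 74127 5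
 Tr.leaf) 74131 7
 Tr.leaf) 74140 6
 (Tr.node (Tr.node Tr.leaf 74143 7
 Tr.leaf) 74145 5
 Tr.leaf)) 74152 6
 (Tr.node (Tr.node (Tr.node Tr.leaf 74157 5
 Tr.leaf) 74158 4
 Tr.leaf) 74167 6
 (Tr.node Tr.leaf 74177 6
 Tr.leaf))))) 74178 5
 (Tr.node (Tr.node (Tr.node (Tr.node (Tr.node (Tr.node Tr.leaf 74180 6
 Tr.leaf) 74183 5
 Tr.leaf) 74196 7
 (Tr.node (Tr.node Tr.leaf 74199 6
 Tr.leaf) 74200 5
 Tr.leaf)) 74203 7
 (Tr.node (Tr.node (Tr.node Tr.leaf 74205 7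
 Tr.leaf) 74206 6
 Tr.leaf) 74213 5
 (Tr.node (Tr.node Tr.leaf 74214 4
 Tr.leaf) 74220 5
 Tr.leaf))) 74223 7
 (Tr.node (Tr.node (Tr.node (Tr.node Tr.leaf 74227 6
 Tr.leaf) 74229 7
 Tr.leaf) 74239 7
 (Tr.node (Tr.node Tr.leaf 74757 6
 Tr.leaf) 74759 6
 Tr.leaf)) 74777 6
 (Tr.node (Tr.node (Tr.node Tr.leaf 74787 7
 Tr.leaf) 74801 7
 Tr.leaf) 74803 7
 (Tr.node Tr.leaf 74813 6
 Tr.leaf)))) 74815 5
 (Tr.node (Tr.node (Tr.node (Tr.node (Tr.node Tr.leaf 74819 6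
 Tr.leaf) 74829 7
 Tr.leaf) 74831 6
 (Tr.node (Tr.node Tr.leaf 74835 6
 Tr.leaf) 74853 7
 Tr.leaf)) 74855 6
 (Tr.node (Tr.node (Tr.node Tr.leaf 74859 6
 Tr.leaf) 74869 7
 Tr.leaf) 74901 6
 (Tr.node Tr.leaf 74903 6
 Tr.leaf))) 74905 6
 (Tr.node (Tr.node (Tr.node (Tr.node Tr.leaf 74913 7
 Tr.leaf) 74925 6
 Tr.leaf) 74927 7
 (Tr.node (Tr.node Tr.leaf 74931 7
 Tr.leaf) 74943 6
 Tr.leaf)) 74957 6
 (Tr.node (Tr.node (Tr.node Tr.leaf 74959 6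
 Tr.leaf) 74973 6
 Tr.leaf) 74975 7
 (Tr.node Tr.leaf 74983 6
 Tr.leaf))))))) 74985 7
 (Tr.node (Tr.node (Tr.node (Tr.node (Tr.node (Tr.node (Tr.node (Tr.node Tr.leaf 74987 6
 Tr.leaf) 75001 6
 Tr.leaf) 75003 6
 (Tr.node (Tr.node Tr.leaf 75009 7
 Tr.leaf) 75025 7
 Tr.leaf)) 75027 7
 (Tr.node (Tr.node (Tr.node Tr.leaf 75039 7
 Tr.leaf) 75051 7
 Tr.leaf) 75065 7
 (Tr.node (Tr.node Tr.leaf 75067 7
 Tr.leaf) 75077 7
 Tr.leaf))) 75081 6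
 (Tr.node (Tr.node (Tr.node (Tr.node Tr.leaf 75083 6
 Tr.leaf) 75093 6
 Tr.leaf) 75095 6
 (Tr.node (Tr.node Tr.leaf 75105 7
 Tr.leaf) 75107 7
 Tr.leaf)) 75121 7
 (Tr.node (Tr.node (Tr.node Tr.leaf 75123 7
 Tr.leaf) 75139 7
 Tr.leaf) 75149 6
 (Tr.node Tr.leaf 75153 7
 Tr.leaf)))) 75165 6
 (Tr.node (Tr.node (Tr.node (Tr.node (Tr.node Tr.leaf 75167 7
 Tr.leaf) 75173 7
 Tr.leaf) 75175 7
 (Tr.node (Tr.node Tr.leaf 75177 7
 Tr.leaf) 75193 7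
 Tr.leaf)) 75195 7
 (Tr.node (Tr.node (Tr.node Tr.leaf 75205 7
 Tr.leaf) 75207 5
 Tr.leaf) 75209 6
 (Tr.node (Tr.node Tr.leaf 75211 7
 Tr.leaf) 75225 6
 Tr.leaf))) 75235 7
 (Tr.node (Tr.node (Tr.node (Tr.node Tr.leaf 75245 7
 Tr.leaf) 75247 7
 Tr.leaf) 75249 7
 (Tr.node (Tr.node Tr.leaf 75779 6
 Tr.leaf) 75790 7
 Tr.leaf)) 75795 6
 (Tr.node (Tr.node (Tr.node Tr.leaf 75799 6
 Tr.leaf) 75801 6
 Tr.leaf) 75802 7
 (Tr.node Tr.leaf 75806 6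
 Tr.leaf))))) 75809 6
 (Tr.node (Tr.node (Tr.node (Tr.node (Tr.node (Tr.node Tr.leaf 75814 5
 Tr.leaf) 75819 7
 Tr.leaf) 75826 6
 (Tr.node (Tr.node Tr.leaf 75829 6
 Tr.leaf) 75835 7
 Tr.leaf)) 75841 6
 (Tr.node (Tr.node (Tr.node Tr.leaf 75842 7
 Tr.leaf) 75851 7
 Tr.leaf) 75855 7
 (Tr.node (Tr.node Tr.leaf 75858 6
 Tr.leaf) 75861 6
 Tr.leaf))) 75862 7
 (Tr.node (Tr.node (Tr.node (Tr.node Tr.leaf 75867 7
 Tr.leaf) 75871 7
 Tr.leaf) 75875 7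
 (Tr.node (Tr.node Tr.leaf 75881 6
 Tr.leaf) 75885 7
 Tr.leaf)) 75891 6
 (Tr.node (Tr.node (Tr.node Tr.leaf 75897 7
 Tr.leaf) 75902 5
 Tr.leaf) 75907 6
 (Tr.node Tr.leaf 75911 6
 Tr.leaf)))) 75913 6
 (Tr.node (Tr.node (Tr.node (Tr.node (Tr.node Tr.leaf 75914 6
 Tr.leaf) 75927 6
 Tr.leaf) 75933 6
 (Tr.node (Tr.node Tr.leaf 75934 7
 Tr.leaf) 75941 6
 Tr.leaf)) 75942 6
 (Tr.node (Tr.node (Tr.node Tr.leaf 75947 6
 Tr.leaf) 75951 6
 Tr.leaf) 75954 5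
 (Tr.node Tr.leaf 75963 7
 Tr.leaf))) 75973 6
 (Tr.node (Tr.node (Tr.node (Tr.node Tr.leaf 75974 6
 Tr.leaf) 75986 7
 Tr.leaf) 75995 7
 (Tr.node (Tr.node Tr.leaf 75999 7
 Tr.leaf) 76003 6
 Tr.leaf)) 76007 6
 (Tr.node (Tr.node (Tr.node Tr.leaf 76009 7
 Tr.leaf) 76010 6
 Tr.leaf) 76013 7
 (Tr.node Tr.leaf 76014 7
 Tr.leaf)))))) 76023 7
 (Tr.node (Tr.node (Tr.node (Tr.node (Tr.node (Tr.node (Tr.node Tr.leaf 76026 7
 Tr.leaf) 76029 6
 Tr.leaf) 76030 7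
 (Tr.node (Tr.node Tr.leaf 76038 6
 Tr.leaf) 76043 7
 Tr.leaf)) 76049 6
 (Tr.node (Tr.node (Tr.node Tr.leaf 76054 5
 Tr.leaf) 76063 6
 Tr.leaf) 76067 6
 (Tr.node (Tr.node Tr.leaf 76071 7
 Tr.leaf) 76073 7
 Tr.leaf))) 76074 6
 (Tr.node (Tr.node (Tr.node (Tr.node Tr.leaf 76090 6
 Tr.leaf) 76093 7
 Tr.leaf) 76103 7
 (Tr.node (Tr.node Tr.leaf 76105 6
 Tr.leaf) 76106 7
 Tr.leaf)) 76110 7
 (Tr.node (Tr.node (Tr.node Tr.leaf 76119 7
 Tr.leaf) 76122 5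
 Tr.leaf) 76125 7
 (Tr.node Tr.leaf 76129 7
 Tr.leaf)))) 76130 6
 (Tr.node (Tr.node (Tr.node (Tr.node (Tr.node Tr.leaf 76133 6
 Tr.leaf) 76139 8
 Tr.leaf) 76145 7
 (Tr.node (Tr.node Tr.leaf 76150 6
 Tr.leaf) 76161 6
 Tr.leaf)) 76162 5
 (Tr.node (Tr.node (Tr.node Tr.leaf 76171 6
 Tr.leaf) 76175 6
 Tr.leaf) 76178 5
 (Tr.node (Tr.node Tr.leaf 76181 6
 Tr.leaf) 76191 7
 Tr.leaf))) 76195 7
 (Tr.node (Tr.node (Tr.node (Tr.node Tr.leaf 76199 7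
 Tr.leaf) 76201 6
 Tr.leaf) 76202 6
 (Tr.node (Tr.node Tr.leaf 76205 6
 Tr.leaf) 76206 6
 Tr.leaf)) 76211 7
 (Tr.node (Tr.node (Tr.node Tr.leaf 76215 6
 Tr.leaf) 76217 6
 Tr.leaf) 76221 7
 (Tr.node Tr.leaf 76222 6
 Tr.leaf))))) 76227 6
 (Tr.node (Tr.node (Tr.node (Tr.node (Tr.node (Tr.node Tr.leaf 76231 6
 Tr.leaf) 76233 7
 Tr.leaf) 76234 7
 (Tr.node (Tr.node Tr.leaf 76237 7
 Tr.leaf) 76238 6
 Tr.leaf)) 76247 7
 (Tr.node (Tr.node (Tr.node Tr.leaf 76249 7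
 Tr.leaf) 76253 6
 Tr.leaf) 76257 6
 (Tr.node (Tr.node Tr.leaf 76258 6
 Tr.leaf) 76261 6
 Tr.leaf))) 76262 6
 (Tr.node (Tr.node (Tr.node (Tr.node Tr.leaf 76277 7
 Tr.leaf) 76278 6
 Tr.leaf) 76287 8
 (Tr.node (Tr.node Tr.leaf 76801 6
 Tr.leaf) 76803 6
 Tr.leaf)) 76817 6
 (Tr.node (Tr.node (Tr.node Tr.leaf 76819 6
 Tr.leaf) 76821 6
 Tr.leaf) 76823 6
 (Tr.node Tr.leaf 76841 7
 Tr.leaf)))) 76843 6
 (Tr.node (Tr.node (Tr.node (Tr.node (Tr.node Tr.leaf 76857 7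
 Tr.leaf) 76859 7
 Tr.leaf) 76861 7
 (Tr.node (Tr.node Tr.leaf 76873 7
 Tr.leaf) 76875 7
 Tr.leaf)) 76879 6
 (Tr.node (Tr.node (Tr.node Tr.leaf 76899 6
 Tr.leaf) 76901 6
 Tr.leaf) 76903 6
 (Tr.node Tr.leaf 76913 7
 Tr.leaf))) 76915 7
 (Tr.node (Tr.node (Tr.node (Tr.node Tr.leaf 76929 6
 Tr.leaf) 76931 6
 Tr.leaf) 76933 6
 (Tr.node (Tr.node Tr.leaf 76935 6
 Tr.leaf) 76949 6
 Tr.leaf)) 76951 6
 (Tr.node (Tr.node (Tr.node Tr.leaf 76969 7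
 Tr.leaf) 76971 7
 Tr.leaf) 76985 7
 (Tr.node Tr.leaf 76989 6
 Tr.leaf))))))))

/-- A subtree. -/
def tr1_s19 : Tr := (Tr.node (Tr.node (Tr.node (Tr.node (Tr.node (Tr.node (Tr.node (Tr.node (Tr.node Tr.leaf 77005 6
 Tr.leaf) 77017 6
 Tr.leaf) 77021 7
 (Tr.node (Tr.node Tr.leaf 77023 7
 Tr.leaf) 77025 7
 Tr.leaf)) 77027 7
 (Tr.node (Tr.node (Tr.node Tr.leaf 77029 7
 Tr.leaf) 77043 7
 Tr.leaf) 77045 6
 (Tr.node (Tr.node Tr.leaf 77047 7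
 Tr.leaf) 77065 7
 Tr.leaf))) 77067 6
 (Tr.node (Tr.node (Tr.node (Tr.node Tr.leaf 77069 7
 Tr.leaf) 77085 7
 Tr.leaf) 77087 7
 (Tr.node (Tr.node Tr.leaf 77093 6
 Tr.leaf) 77095 6
 Tr.leaf)) 77105 7
 (Tr.node (Tr.node (Tr.node Tr.leaf 77111 7
 Tr.leaf) 77123 6
 Tr.leaf) 77127 7
 (Tr.node Tr.leaf 77139 7
 Tr.leaf)))) 77141 7
 (Tr.node (Tr.node (Tr.node (Tr.node (Tr.node Tr.leaf 77143 7
 Tr.leaf) 77165 7
 Tr.leaf) 77167 8
 (Tr.node (Tr.node Tr.leaf 77179 7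
 Tr.leaf) 77181 7
 Tr.leaf)) 77195 7
 (Tr.node (Tr.node (Tr.node Tr.leaf 77197 7
 Tr.leaf) 77199 7
 Tr.leaf) 77209 6
 (Tr.node (Tr.node Tr.leaf 77211 6
 Tr.leaf) 77213 6
 Tr.leaf))) 77217 7
 (Tr.node (Tr.node (Tr.node (Tr.node Tr.leaf 77219 7
 Tr.leaf) 77221 7
 Tr.leaf) 77223 7
 (Tr.node (Tr.node Tr.leaf 77233 6
 Tr.leaf) 77235 6
 Tr.leaf)) 77253 7
 (Tr.node (Tr.node (Tr.node Tr.leaf 77255 7
 Tr.leaf) 77269 6
 Tr.leaf) 77271 7
 (Tr.node Tr.leaf 77291 7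
 Tr.leaf))))) 77293 7
 (Tr.node (Tr.node (Tr.node (Tr.node (Tr.node (Tr.node Tr.leaf 77305 8
 Tr.leaf) 77307 7
 Tr.leaf) 77829 6
 (Tr.node (Tr.node Tr.leaf 77837 6
 Tr.leaf) 77838 7
 Tr.leaf)) 77843 6
 (Tr.node (Tr.node (Tr.node Tr.leaf 77846 6
 Tr.leaf) 77854 6
 Tr.leaf) 77857 7
 (Tr.node (Tr.node Tr.leaf 77858 5
 Tr.leaf) 77863 7
 Tr.leaf))) 77865 7
 (Tr.node (Tr.node (Tr.node (Tr.node Tr.leaf 77866 6
 Tr.leaf) 77868 6
 Tr.leaf) 77873 7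
 (Tr.node (Tr.node Tr.leaf 77874 5
 Tr.leaf) 77876 7
 Tr.leaf)) 77879 7
 (Tr.node (Tr.node (Tr.node Tr.leaf 77882 6
 Tr.leaf) 77897 6
 Tr.leaf) 77898 6
 (Tr.node Tr.leaf 77900 6
 Tr.leaf)))) 77903 6
 (Tr.node (Tr.node (Tr.node (Tr.node (Tr.node Tr.leaf 77908 6
 Tr.leaf) 77911 7
 Tr.leaf) 77919 6
 (Tr.node (Tr.node Tr.leaf 77923 6
 Tr.leaf) 77925 7
 Tr.leaf)) 77931 7
 (Tr.node (Tr.node (Tr.node Tr.leaf 77933 7
 Tr.leaf) 77934 6
 Tr.leaf) 77939 6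
 (Tr.node Tr.leaf 77942 7
 Tr.leaf))) 77947 6
 (Tr.node (Tr.node (Tr.node (Tr.node Tr.leaf 77950 6
 Tr.leaf) 77958 6
 Tr.leaf) 77971 6
 (Tr.node (Tr.node Tr.leaf 77982 6
 Tr.leaf) 77985 7
 Tr.leaf)) 77988 7
 (Tr.node (Tr.node (Tr.node Tr.leaf 77994 5
 Tr.leaf) 78004 6
 Tr.leaf) 78007 7
 (Tr.node Tr.leaf 78009 7
 Tr.leaf)))))) 78010 6
 (Tr.node (Tr.node (Tr.node (Tr.node (Tr.node (Tr.node (Tr.node Tr.leaf 78012 7
 Tr.leaf) 78017 6
 Tr.leaf) 78018 6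
 (Tr.node (Tr.node Tr.leaf 78020 6
 Tr.leaf) 78028 5
 Tr.leaf)) 78031 7
 (Tr.node (Tr.node (Tr.node Tr.leaf 78041 6
 Tr.leaf) 78042 6
 Tr.leaf) 78044 6
 (Tr.node (Tr.node Tr.leaf 78053 7
 Tr.leaf) 78054 5
 Tr.leaf))) 78059 6
 (Tr.node (Tr.node (Tr.node (Tr.node Tr.leaf 78061 7
 Tr.leaf) 78070 5
 Tr.leaf) 78082 6
 (Tr.node (Tr.node Tr.leaf 78084 6
 Tr.leaf) 78095 6
 Tr.leaf)) 78106 7
 (Tr.node (Tr.node (Tr.node Tr.leaf 78111 5
 Tr.leaf) 78118 6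
 Tr.leaf) 78125 7
 (Tr.node Tr.leaf 78126 6
 Tr.leaf)))) 78131 7
 (Tr.node (Tr.node (Tr.node (Tr.node (Tr.node Tr.leaf 78133 7
 Tr.leaf) 78134 7
 Tr.leaf) 78142 6
 (Tr.node (Tr.node Tr.leaf 78147 6
 Tr.leaf) 78149 7
 Tr.leaf)) 78150 6
 (Tr.node (Tr.node (Tr.node Tr.leaf 78155 6
 Tr.leaf) 78157 7
 Tr.leaf) 78158 6
 (Tr.node (Tr.node Tr.leaf 78165 6
 Tr.leaf) 78171 6
 Tr.leaf))) 78174 6
 (Tr.node (Tr.node (Tr.node (Tr.node Tr.leaf 78177 6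
 Tr.leaf) 78178 6
 Tr.leaf) 78188 6
 (Tr.node (Tr.node Tr.leaf 78193 6
 Tr.leaf) 78194 6
 Tr.leaf)) 78196 7
 (Tr.node (Tr.node (Tr.node Tr.leaf 78201 6
 Tr.leaf) 78202 6
 Tr.leaf) 78204 6
 (Tr.node Tr.leaf 78207 7
 Tr.leaf))))) 78209 6
 (Tr.node (Tr.node (Tr.node (Tr.node (Tr.node (Tr.node Tr.leaf 78212 6
 Tr.leaf) 78215 7
 Tr.leaf) 78218 7
 (Tr.node (Tr.node Tr.leaf 78223 6
 Tr.leaf) 78225 6
 Tr.leaf)) 78226 7
 (Tr.node (Tr.node (Tr.node Tr.leaf 78231 6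
 Tr.leaf) 78234 6
 Tr.leaf) 78243 6
 (Tr.node (Tr.node Tr.leaf 78246 5
 Tr.leaf) 78251 7
 Tr.leaf))) 78253 7
 (Tr.node (Tr.node (Tr.node (Tr.node Tr.leaf 78259 6
 Tr.leaf) 78261 7
 Tr.leaf) 78262 6
 (Tr.node (Tr.node Tr.leaf 78269 6
 Tr.leaf) 78270 6
 Tr.leaf)) 78278 6
 (Tr.node (Tr.node (Tr.node Tr.leaf 78283 7
 Tr.leaf) 78285 5
 Tr.leaf) 78286 7
 (Tr.node Tr.leaf 78294 6
 Tr.leaf)))) 78299 6
 (Tr.node (Tr.node (Tr.node (Tr.node (Tr.node Tr.leaf 78301 6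
 Tr.leaf) 78302 6
 Tr.leaf) 78305 7
 (Tr.node (Tr.node Tr.leaf 78306 6
 Tr.leaf) 78308 6
 Tr.leaf)) 78311 8
 (Tr.node (Tr.node (Tr.node Tr.leaf 78319 8
 Tr.leaf) 78324 6
 Tr.leaf) 78327 8
 (Tr.node Tr.leaf 78329 5
 Tr.leaf))) 78330 5
 (Tr.node (Tr.node (Tr.node (Tr.node Tr.leaf 78335 7
 Tr.leaf) 78851 6
 Tr.leaf) 78857 6
 (Tr.node (Tr.node Tr.leaf 78875 6
 Tr.leaf) 78885 7
 Tr.leaf)) 78887 7
 (Tr.node (Tr.node (Tr.node Tr.leaf 78893 6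
 Tr.leaf) 78903 7
 Tr.leaf) 78917 6
 (Tr.node Tr.leaf 78935 6
 Tr.leaf))))))) 78941 6
 (Tr.node (Tr.node (Tr.node (Tr.node (Tr.node (Tr.node (Tr.node (Tr.node Tr.leaf 78943 7
 Tr.leaf) 78945 6
 Tr.leaf) 78961 7
 (Tr.node (Tr.node Tr.leaf 78963 7
 Tr.leaf) 78979 6
 Tr.leaf)) 78985 6
 (Tr.node (Tr.node (Tr.node Tr.leaf 79003 6
 Tr.leaf) 79013 7
 Tr.leaf) 79015 7
 (Tr.node (Tr.node Tr.leaf 79029 7
 Tr.leaf) 79031 6
 Tr.leaf))) 79039 7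
 (Tr.node (Tr.node (Tr.node (Tr.node Tr.leaf 79053 7
 Tr.leaf) 79061 6
 Tr.leaf) 79069 7
 (Tr.node (Tr.node Tr.leaf 79073 7
 Tr.leaf) 79081 7
 Tr.leaf)) 79089 7
 (Tr.node (Tr.node (Tr.node Tr.leaf 79097 7
 Tr.leaf) 79117 6
 Tr.leaf) 79125 6
 (Tr.node Tr.leaf 79127 6
 Tr.leaf)))) 79135 6
 (Tr.node (Tr.node (Tr.node (Tr.node (Tr.node Tr.leaf 79137 6
 Tr.leaf) 79145 7
 Tr.leaf) 79147 6
 (Tr.node (Tr.node Tr.leaf 79153 6
 Tr.leaf) 79161 7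
 Tr.leaf)) 79185 6
 (Tr.node (Tr.node (Tr.node Tr.leaf 79187 7
 Tr.leaf) 79193 7
 Tr.leaf) 79205 7
 (Tr.node (Tr.node Tr.leaf 79221 8
 Tr.leaf) 79223 7
 Tr.leaf))) 79231 7
 (Tr.node (Tr.node (Tr.node (Tr.node Tr.leaf 79247 5
 Tr.leaf) 79253 7
 Tr.leaf) 79255 6
 (Tr.node (Tr.node Tr.leaf 79261 7
 Tr.leaf) 79263 7
 Tr.leaf)) 79265 7
 (Tr.node (Tr.node (Tr.node Tr.leaf 79267 6
 Tr.leaf) 79283 7
 Tr.leaf) 79289 6
 (Tr.node Tr.leaf 79297 7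
 Tr.leaf))))) 79307 5
 (Tr.node (Tr.node (Tr.node (Tr.node (Tr.node (Tr.node Tr.leaf 79315 7
 Tr.leaf) 79321 7
 Tr.leaf) 79335 7
 (Tr.node (Tr.node Tr.leaf 79343 8
 Tr.leaf) 79357 8
 Tr.leaf)) 79359 7
 (Tr.node (Tr.node (Tr.node Tr.leaf 79874 7
 Tr.leaf) 79878 6
 Tr.leaf) 79882 6
 (Tr.node (Tr.node Tr.leaf 79889 6
 Tr.leaf) 79890 6
 Tr.leaf))) 79897 6
 (Tr.node (Tr.node (Tr.node (Tr.node Tr.leaf 79902 7
 Tr.leaf) 79911 5
 Tr.leaf) 79919 7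
 (Tr.node (Tr.node Tr.leaf 79923 6
 Tr.leaf) 79935 7
 Tr.leaf)) 79939 6
 (Tr.node (Tr.node (Tr.node Tr.leaf 79943 6
 Tr.leaf) 79947 7
 Tr.leaf) 79955 7
 (Tr.node Tr.leaf 79959 7
 Tr.leaf)))) 79967 6
 (Tr.node (Tr.node (Tr.node (Tr.node (Tr.node Tr.leaf 79969 7
 Tr.leaf) 79977 7
 Tr.leaf) 79978 6
 (Tr.node (Tr.node Tr.leaf 79981 7
 Tr.leaf) 79982 6
 Tr.leaf)) 79985 6
 (Tr.node (Tr.node (Tr.node Tr.leaf 79994 7
 Tr.leaf) 80001 6
 Tr.leaf) 80006 7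
 (Tr.node Tr.leaf 80009 6
 Tr.leaf))) 80010 7
 (Tr.node (Tr.node (Tr.node (Tr.node Tr.leaf 80014 6
 Tr.leaf) 80018 7
 Tr.leaf) 80021 6
 (Tr.node (Tr.node Tr.leaf 80022 6
 Tr.leaf) 80026 6
 Tr.leaf)) 80029 6
 (Tr.node (Tr.node (Tr.node Tr.leaf 80039 6
 Tr.leaf) 80047 6
 Tr.leaf) 80055 6
 (Tr.node Tr.leaf 80059 6
 Tr.leaf)))))) 80063 7
 (Tr.node (Tr.node (Tr.node (Tr.node (Tr.node (Tr.node (Tr.node Tr.leaf 80075 6
 Tr.leaf) 80079 7
 Tr.leaf) 80083 6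
 (Tr.node (Tr.node Tr.leaf 80097 7
 Tr.leaf) 80101 7
 Tr.leaf)) 80105 7
 (Tr.node (Tr.node (Tr.node Tr.leaf 80106 7
 Tr.leaf) 80109 6
 Tr.leaf) 80114 6
 (Tr.node (Tr.node Tr.leaf 80118 6
 Tr.leaf) 80122 7
 Tr.leaf))) 80125 7
 (Tr.node (Tr.node (Tr.node (Tr.node Tr.leaf 80135 5
 Tr.leaf) 80139 7
 Tr.leaf) 80151 7
 (Tr.node (Tr.node Tr.leaf 80159 7
 Tr.leaf) 80161 6
 Tr.leaf)) 80162 6
 (Tr.node (Tr.node (Tr.node Tr.leaf 80173 6
 Tr.leaf) 80181 6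
 Tr.leaf) 80185 7
 (Tr.node Tr.leaf 80189 7
 Tr.leaf)))) 80193 6
 (Tr.node (Tr.node (Tr.node (Tr.node (Tr.node Tr.leaf 80197 6
 Tr.leaf) 80198 7
 Tr.leaf) 80201 7
 (Tr.node (Tr.node Tr.leaf 80202 6
 Tr.leaf) 80205 7
 Tr.leaf)) 80206 6
 (Tr.node (Tr.node (Tr.node Tr.leaf 80210 6
 Tr.leaf) 80217 7
 Tr.leaf) 80218 6
 (Tr.node Tr.leaf 80221 7
 Tr.leaf))) 80222 6
 (Tr.node (Tr.node (Tr.node (Tr.node Tr.leaf 80227 7
 Tr.leaf) 80231 8
 Tr.leaf) 80255 7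
 (Tr.node (Tr.node Tr.leaf 80263 7
 Tr.leaf) 80271 7
 Tr.leaf)) 80283 6
 (Tr.node (Tr.node (Tr.node Tr.leaf 80293 6
 Tr.leaf) 80294 7
 Tr.leaf) 80298 7
 (Tr.node Tr.leaf 80302 7
 Tr.leaf))))) 80309 7
 (Tr.node (Tr.node (Tr.node (Tr.node (Tr.node (Tr.node Tr.leaf 80318 6
 Tr.leaf) 80322 6
 Tr.leaf) 80325 7
 (Tr.node (Tr.node Tr.leaf 80326 6
 Tr.leaf) 80330 7
 Tr.leaf)) 80334 6
 (Tr.node (Tr.node (Tr.node Tr.leaf 80338 6
 Tr.leaf) 80342 5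
 Tr.leaf) 80359 7
 (Tr.node (Tr.node Tr.leaf 80363 7
 Tr.leaf) 80375 7
 Tr.leaf))) 80379 8
 (Tr.node (Tr.node (Tr.node (Tr.node Tr.leaf 80383 7
 Tr.leaf) 80931 7
 Tr.leaf) 80933 7
 (Tr.node (Tr.node Tr.leaf 80935 6
 Tr.leaf) 80939 6
 Tr.leaf)) 80941 7
 (Tr.node (Tr.node (Tr.node Tr.leaf 80949 6
 Tr.leaf) 80955 6
 Tr.leaf) 80957 6
 (Tr.node Tr.leaf 80959 7
 Tr.leaf)))) 80965 6
 (Tr.node (Tr.node (Tr.node (Tr.node (Tr.node Tr.leaf 80967 7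
 Tr.leaf) 80977 7
 Tr.leaf) 80979 7
 (Tr.node (Tr.node Tr.leaf 80981 7
 Tr.leaf) 80983 7
 Tr.leaf)) 80985 6
 (Tr.node (Tr.node (Tr.node Tr.leaf 81059 6
 Tr.leaf) 81065 6
 Tr.leaf) 81069 7
 (Tr.node Tr.leaf 81071 7
 Tr.leaf))) 81081 7
 (Tr.node (Tr.node (Tr.node (Tr.node Tr.leaf 81083 6
 Tr.leaf) 81085 7
 Tr.leaf) 81087 7
 (Tr.node (Tr.node Tr.leaf 81089 7
 Tr.leaf) 81093 7
 Tr.leaf)) 81097 6
 (Tr.node (Tr.node (Tr.node Tr.leaf 81099 6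
 Tr.leaf) 81101 7
 Tr.leaf) 81103 7
 (Tr.node Tr.leaf 81105 6
 Tr.leaf))))))))

/-- A subtree. -/
def tr1_s20 : Tr := (Tr.node (Tr.node (Tr.node (Tr.node (Tr.node (Tr.node (Tr.node (Tr.node (Tr.node Tr.leaf 81111 6
 Tr.leaf) 81117 7
 Tr.leaf) 81153 7
 (Tr.node (Tr.node Tr.leaf 81155 7
 Tr.leaf) 81157 6
 Tr.leaf)) 81161 7
 (Tr.node (Tr.node (Tr.node Tr.leaf 81163 7
 Tr.leaf) 81165 6
 Tr.leaf) 81167 6
 (Tr.node (Tr.node Tr.leaf 81175 7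
 Tr.leaf) 81177 7
 Tr.leaf))) 81179 6
 (Tr.node (Tr.node (Tr.node (Tr.node Tr.leaf 81181 7
 Tr.leaf) 81183 7
 Tr.leaf) 81249 7
 (Tr.node (Tr.node Tr.leaf 81251 8
 Tr.leaf) 81253 7
 Tr.leaf)) 81255 6
 (Tr.node (Tr.node (Tr.node Tr.leaf 81261 7
 Tr.leaf) 81263 7
 Tr.leaf) 81265 7
 (Tr.node Tr.leaf 81269 7
 Tr.leaf)))) 81279 8
 (Tr.node (Tr.node (Tr.node (Tr.node (Tr.node Tr.leaf 81285 6
 Tr.leaf) 81287 6
 Tr.leaf) 81293 7
 (Tr.node (Tr.node Tr.leaf 81297 7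
 Tr.leaf) 81305 7
 Tr.leaf)) 81377 8
 (Tr.node (Tr.node (Tr.node Tr.leaf 81385 7
 Tr.leaf) 81401 7
 Tr.leaf) 81405 8
 (Tr.node (Tr.node Tr.leaf 81922 3
 Tr.leaf) 81924 3
 Tr.leaf))) 81927 6
 (Tr.node (Tr.node (Tr.node (Tr.node Tr.leaf 81928 4
 Tr.leaf) 81933 6
 Tr.leaf) 81934 4
 (Tr.node (Tr.node Tr.leaf 81936 3
 Tr.leaf) 81939 6
 Tr.leaf)) 81941 6
 (Tr.node (Tr.node (Tr.node Tr.leaf 81945 6
 Tr.leaf) 81946 6
 Tr.leaf) 81948 6
 (Tr.node Tr.leaf 81954 4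
 Tr.leaf))))) 81956 4
 (Tr.node (Tr.node (Tr.node (Tr.node (Tr.node (Tr.node Tr.leaf 81960 4
 Tr.leaf) 81963 6
 Tr.leaf) 81965 6
 (Tr.node (Tr.node Tr.leaf 81968 3
 Tr.leaf) 81973 6
 Tr.leaf)) 81978 6
 (Tr.node (Tr.node (Tr.node Tr.leaf 81980 6
 Tr.leaf) 81983 7
 Tr.leaf) 81987 6
 (Tr.node (Tr.node Tr.leaf 81990 4
 Tr.leaf) 81993 7
 Tr.leaf))) 81994 5
 (Tr.node (Tr.node (Tr.node (Tr.node Tr.leaf 81996 5
 Tr.leaf) 82007 6
 Tr.leaf) 82011 7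
 (Tr.node (Tr.node Tr.leaf 82013 7
 Tr.leaf) 82019 6
 Tr.leaf)) 82033 6
 (Tr.node (Tr.node (Tr.node Tr.leaf 82034 6
 Tr.leaf) 82043 7
 Tr.leaf) 82050 4
 (Tr.node Tr.leaf 82052 4
 Tr.leaf)))) 82056 4
 (Tr.node (Tr.node (Tr.node (Tr.node (Tr.node Tr.leaf 82061 6
 Tr.leaf) 82064 3
 Tr.leaf) 82067 7
 (Tr.node (Tr.node Tr.leaf 82073 7
 Tr.leaf) 82076 6
 Tr.leaf)) 82082 4
 (Tr.node (Tr.node (Tr.node Tr.leaf 82084 4
 Tr.leaf) 82087 7
 Tr.leaf) 82088 3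
 (Tr.node Tr.leaf 82093 6
 Tr.leaf))) 82094 5
 (Tr.node (Tr.node (Tr.node (Tr.node Tr.leaf 82096 3
 Tr.leaf) 82099 6
 Tr.leaf) 82105 6
 (Tr.node (Tr.node Tr.leaf 82106 5
 Tr.leaf) 82111 7
 Tr.leaf)) 82115 6
 (Tr.node (Tr.node (Tr.node Tr.leaf 82117 6
 Tr.leaf) 82130 6
 Tr.leaf) 82132 6
 (Tr.node Tr.leaf 82135 7
 Tr.leaf)))))) 82141 7
 (Tr.node (Tr.node (Tr.node (Tr.node (Tr.node (Tr.node (Tr.node Tr.leaf 82147 6
 Tr.leaf) 82150 5
 Tr.leaf) 82153 6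
 (Tr.node (Tr.node Tr.leaf 82154 4
 Tr.leaf) 82156 4
 Tr.leaf)) 82161 6
 (Tr.node (Tr.node (Tr.node Tr.leaf 82162 6
 Tr.leaf) 82167 7
 Tr.leaf) 82173 6
 (Tr.node (Tr.node Tr.leaf 82179 6
 Tr.leaf) 82181 6
 Tr.leaf))) 82191 6
 (Tr.node (Tr.node (Tr.node (Tr.node Tr.leaf 82193 6
 Tr.leaf) 82194 7
 Tr.leaf) 82196 7
 (Tr.node (Tr.node Tr.leaf 82199 6
 Tr.leaf) 82203 7
 Tr.leaf)) 82205 6
 (Tr.node (Tr.node (Tr.node Tr.leaf 82206 6
 Tr.leaf) 82213 7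
 Tr.leaf) 82218 6
 (Tr.node Tr.leaf 82220 6
 Tr.leaf)))) 82223 7
 (Tr.node (Tr.node (Tr.node (Tr.node (Tr.node Tr.leaf 82237 7
 Tr.leaf) 82238 5
 Tr.leaf) 82241 6
 (Tr.node (Tr.node Tr.leaf 82242 6
 Tr.leaf) 82244 6
 Tr.leaf)) 82251 7
 (Tr.node (Tr.node (Tr.node Tr.leaf 82253 7
 Tr.leaf) 82259 6
 Tr.leaf) 82261 7
 (Tr.node (Tr.node Tr.leaf 82262 6
 Tr.leaf) 82265 7
 Tr.leaf))) 82273 7
 (Tr.node (Tr.node (Tr.node (Tr.node Tr.leaf 82274 6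
 Tr.leaf) 82283 7
 Tr.leaf) 82291 7
 (Tr.node (Tr.node Tr.leaf 82293 7
 Tr.leaf) 82294 5
 Tr.leaf)) 82298 5
 (Tr.node (Tr.node (Tr.node Tr.leaf 82300 5
 Tr.leaf) 82307 6
 Tr.leaf) 82313 6
 (Tr.node Tr.leaf 82316 6
 Tr.leaf))))) 82331 7
 (Tr.node (Tr.node (Tr.node (Tr.node (Tr.node (Tr.node Tr.leaf 82333 7
 Tr.leaf) 82334 5
 Tr.leaf) 82341 6
 (Tr.node (Tr.node Tr.leaf 82345 6
 Tr.leaf) 82348 6
 Tr.leaf)) 82351 7
 (Tr.node (Tr.node (Tr.node Tr.leaf 82353 6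
 Tr.leaf) 82359 7
 Tr.leaf) 82360 6
 (Tr.node (Tr.node Tr.leaf 82363 7
 Tr.leaf) 82365 6
 Tr.leaf))) 82370 6
 (Tr.node (Tr.node (Tr.node (Tr.node Tr.leaf 82372 6
 Tr.leaf) 82375 7
 Tr.leaf) 82381 7
 (Tr.node (Tr.node Tr.leaf 82387 7
 Tr.leaf) 82390 5
 Tr.leaf)) 82394 5
 (Tr.node (Tr.node (Tr.node Tr.leaf 82396 5
 Tr.leaf) 82401 6
 Tr.leaf) 82404 5
 (Tr.node Tr.leaf 82407 7
 Tr.leaf)))) 82411 6
 (Tr.node (Tr.node (Tr.node (Tr.node (Tr.node Tr.leaf 82416 6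
 Tr.leaf) 82419 6
 Tr.leaf) 82421 7
 (Tr.node (Tr.node Tr.leaf 82425 6
 Tr.leaf) 82426 6
 Tr.leaf)) 82428 6
 (Tr.node (Tr.node (Tr.node Tr.leaf 82951 7
 Tr.leaf) 82955 6
 Tr.leaf) 82963 7
 (Tr.node Tr.leaf 82975 7
 Tr.leaf))) 82981 7
 (Tr.node (Tr.node (Tr.node (Tr.node Tr.leaf 82983 7
 Tr.leaf) 82993 7
 Tr.leaf) 82995 7
 (Tr.node (Tr.node Tr.leaf 83005 6
 Tr.leaf) 83007 7
 Tr.leaf)) 83011 6
 (Tr.node (Tr.node (Tr.node Tr.leaf 83023 6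
 Tr.leaf) 83031 6
 Tr.leaf) 83033 6
 (Tr.node Tr.leaf 83043 6
 Tr.leaf))))))) 83055 6
 (Tr.node (Tr.node (Tr.node (Tr.node (Tr.node (Tr.node (Tr.node (Tr.node Tr.leaf 83077 7
 Tr.leaf) 83079 7
 Tr.leaf) 83081 6
 (Tr.node (Tr.node Tr.leaf 83089 7
 Tr.leaf) 83103 6
 Tr.leaf)) 83109 6
 (Tr.node (Tr.node (Tr.node Tr.leaf 83115 6
 Tr.leaf) 83123 7
 Tr.leaf) 83133 7
 (Tr.node (Tr.node Tr.leaf 83135 7
 Tr.leaf) 83137 6
 Tr.leaf))) 83149 7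
 (Tr.node (Tr.node (Tr.node (Tr.node Tr.leaf 83151 6
 Tr.leaf) 83157 7
 Tr.leaf) 83159 7
 (Tr.node (Tr.node Tr.leaf 83161 7
 Tr.leaf) 83169 6
 Tr.leaf)) 83183 7
 (Tr.node (Tr.node (Tr.node Tr.leaf 83189 6
 Tr.leaf) 83191 7
 Tr.leaf) 83193 7
 (Tr.node Tr.leaf 83215 6
 Tr.leaf)))) 83227 7
 (Tr.node (Tr.node (Tr.node (Tr.node (Tr.node Tr.leaf 83233 6
 Tr.leaf) 83245 6
 Tr.leaf) 83247 6
 (Tr.node (Tr.node Tr.leaf 83255 6
 Tr.leaf) 83257 7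
 Tr.leaf)) 83259 6
 (Tr.node (Tr.node (Tr.node Tr.leaf 83269 6
 Tr.leaf) 83271 7
 Tr.leaf) 83275 6
 (Tr.node (Tr.node Tr.leaf 83301 7
 Tr.leaf) 83305 7
 Tr.leaf))) 83307 6
 (Tr.node (Tr.node (Tr.node (Tr.node Tr.leaf 83315 6
 Tr.leaf) 83327 7
 Tr.leaf) 83343 6
 (Tr.node (Tr.node Tr.leaf 83349 6
 Tr.leaf) 83355 7
 Tr.leaf)) 83361 5
 (Tr.node (Tr.node (Tr.node Tr.leaf 83381 6
 Tr.leaf) 83383 7
 Tr.leaf) 83411 7
 (Tr.node Tr.leaf 83431 5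
 Tr.leaf))))) 83441 6
 (Tr.node (Tr.node (Tr.node (Tr.node (Tr.node (Tr.node Tr.leaf 83443 6
 Tr.leaf) 83455 7
 Tr.leaf) 83975 7
 (Tr.node (Tr.node Tr.leaf 83978 5
 Tr.leaf) 83981 6
 Tr.leaf)) 83982 6
 (Tr.node (Tr.node (Tr.node Tr.leaf 83986 5
 Tr.leaf) 83995 6
 Tr.leaf) 83999 7
 (Tr.node (Tr.node Tr.leaf 84003 7
 Tr.leaf) 84007 7
 Tr.leaf))) 84009 6
 (Tr.node (Tr.node (Tr.node (Tr.node Tr.leaf 84022 5
 Tr.leaf) 84037 6
 Tr.leaf) 84047 6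
 (Tr.node (Tr.node Tr.leaf 84055 6
 Tr.leaf) 84061 6
 Tr.leaf)) 84065 6
 (Tr.node (Tr.node (Tr.node Tr.leaf 84070 5
 Tr.leaf) 84075 7
 Tr.leaf) 84079 6
 (Tr.node Tr.leaf 84087 6
 Tr.leaf)))) 84090 6
 (Tr.node (Tr.node (Tr.node (Tr.node (Tr.node Tr.leaf 84094 6
 Tr.leaf) 84099 7
 Tr.leaf) 84103 7
 (Tr.node (Tr.node Tr.leaf 84109 6
 Tr.leaf) 84113 6
 Tr.leaf)) 84114 5
 (Tr.node (Tr.node (Tr.node Tr.leaf 84123 7
 Tr.leaf) 84131 6
 Tr.leaf) 84137 6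
 (Tr.node Tr.leaf 84138 6
 Tr.leaf))) 84142 5
 (Tr.node (Tr.node (Tr.node (Tr.node Tr.leaf 84145 5
 Tr.leaf) 84150 5
 Tr.leaf) 84159 5
 (Tr.node (Tr.node Tr.leaf 84162 5
 Tr.leaf) 84175 6
 Tr.leaf)) 84179 6
 (Tr.node (Tr.node (Tr.node Tr.leaf 84183 6
 Tr.leaf) 84185 7
 Tr.leaf) 84189 6
 (Tr.node Tr.leaf 84190 5
 Tr.leaf)))))) 84197 6
 (Tr.node (Tr.node (Tr.node (Tr.node (Tr.node (Tr.node (Tr.node Tr.leaf 84207 7
 Tr.leaf) 84222 7
 Tr.leaf) 84229 7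
 (Tr.node (Tr.node Tr.leaf 84230 6
 Tr.leaf) 84239 6
 Tr.leaf)) 84257 7
 (Tr.node (Tr.node (Tr.node Tr.leaf 84262 5
 Tr.leaf) 84267 7
 Tr.leaf) 84271 7
 (Tr.node (Tr.node Tr.leaf 84275 6
 Tr.leaf) 84285 7
 Tr.leaf))) 84295 7
 (Tr.node (Tr.node (Tr.node (Tr.node Tr.leaf 84297 6
 Tr.leaf) 84298 6
 Tr.leaf) 84302 7
 (Tr.node (Tr.node Tr.leaf 84309 7
 Tr.leaf) 84327 6
 Tr.leaf)) 84329 7
 (Tr.node (Tr.node (Tr.node Tr.leaf 84330 6
 Tr.leaf) 84334 7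
 Tr.leaf) 84338 6
 (Tr.node Tr.leaf 84341 7
 Tr.leaf)))) 84353 7
 (Tr.node (Tr.node (Tr.node (Tr.node (Tr.node Tr.leaf 84354 5
 Tr.leaf) 84357 7
 Tr.leaf) 84375 6
 (Tr.node (Tr.node Tr.leaf 84381 6
 Tr.leaf) 84386 6
 Tr.leaf)) 84389 7
 (Tr.node (Tr.node (Tr.node Tr.leaf 84395 6
 Tr.leaf) 84399 7
 Tr.leaf) 84403 6
 (Tr.node (Tr.node Tr.leaf 84407 7
 Tr.leaf) 84409 6
 Tr.leaf))) 84410 6
 (Tr.node (Tr.node (Tr.node (Tr.node Tr.leaf 84413 6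
 Tr.leaf) 84414 7
 Tr.leaf) 84419 6
 (Tr.node (Tr.node Tr.leaf 84423 7
 Tr.leaf) 84430 5
 Tr.leaf)) 84433 7
 (Tr.node (Tr.node (Tr.node Tr.leaf 84437 6
 Tr.leaf) 84438 6
 Tr.leaf) 84447 7
 (Tr.node Tr.leaf 84451 7
 Tr.leaf))))) 84455 7
 (Tr.node (Tr.node (Tr.node (Tr.node (Tr.node (Tr.node Tr.leaf 84457 7
 Tr.leaf) 84462 6
 Tr.leaf) 84466 7
 (Tr.node (Tr.node Tr.leaf 84470 7
 Tr.leaf) 84479 7
 Tr.leaf)) 84993 7
 (Tr.node (Tr.node (Tr.node Tr.leaf 84995 7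
 Tr.leaf) 84997 7
 Tr.leaf) 85017 7
 (Tr.node (Tr.node Tr.leaf 85019 6
 Tr.leaf) 85021 7
 Tr.leaf))) 85023 7
 (Tr.node (Tr.node (Tr.node (Tr.node Tr.leaf 85025 7
 Tr.leaf) 85031 7
 Tr.leaf) 85055 6
 (Tr.node (Tr.node Tr.leaf 85067 6
 Tr.leaf) 85069 6
 Tr.leaf)) 85071 7
 (Tr.node (Tr.node (Tr.node Tr.leaf 85073 6
 Tr.leaf) 85075 6
 Tr.leaf) 85077 7
 (Tr.node Tr.leaf 85079 7
 Tr.leaf)))) 85097 7
 (Tr.node (Tr.node (Tr.node (Tr.node (Tr.node Tr.leaf 85101 7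
 Tr.leaf) 85105 7
 Tr.leaf) 85109 7
 (Tr.node (Tr.node Tr.leaf 85111 7
 Tr.leaf) 85121 7
 Tr.leaf)) 85127 7
 (Tr.node (Tr.node (Tr.node Tr.leaf 85149 7
 Tr.leaf) 85151 7
 Tr.leaf) 85155 7
 (Tr.node Tr.leaf 85157 7
 Tr.leaf))) 85159 7
 (Tr.node (Tr.node (Tr.node (Tr.node Tr.leaf 85179 7
 Tr.leaf) 85181 7
 Tr.leaf) 85183 6
 (Tr.node (Tr.node Tr.leaf 85193 7
 Tr.leaf) 85195 7
 Tr.leaf)) 85201 7
 (Tr.node (Tr.node (Tr.node Tr.leaf 85207 6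
 Tr.leaf) 85225 7
 Tr.leaf) 85227 6
 (Tr.node Tr.leaf 85229 6
 Tr.leaf))))))))

/-- A subtree. -/
def tr1_s21 : Tr := (Tr.node (Tr.node (Tr.node (Tr.node (Tr.node (Tr.node (Tr.node (Tr.node (Tr.node Tr.leaf 85257 6
 Tr.leaf) 85259 7
 Tr.leaf) 85261 6
 (Tr.node (Tr.node Tr.leaf 85263 7
 Tr.leaf) 85271 7
 Tr.leaf)) 85289 7
 (Tr.node (Tr.node (Tr.node Tr.leaf 85295 6
 Tr.leaf) 85297 6
 Tr.leaf) 85299 7
 (Tr.node (Tr.node Tr.leaf 85303 6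
 Tr.leaf) 85313 7
 Tr.leaf))) 85315 7
 (Tr.node (Tr.node (Tr.node (Tr.node Tr.leaf 85317 6
 Tr.leaf) 85319 7
 Tr.leaf) 85337 8
 (Tr.node (Tr.node Tr.leaf 85339 7
 Tr.leaf) 85341 7
 Tr.leaf)) 85343 8
 (Tr.node (Tr.node (Tr.node Tr.leaf 85347 7
 Tr.leaf) 85351 7
 Tr.leaf) 85375 7
 (Tr.node Tr.leaf 85385 7
 Tr.leaf)))) 85387 7
 (Tr.node (Tr.node (Tr.node (Tr.node (Tr.node Tr.leaf 85391 7
 Tr.leaf) 85393 6
 Tr.leaf) 85397 7
 (Tr.node (Tr.node Tr.leaf 85399 6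
 Tr.leaf) 85423 7
 Tr.leaf)) 85425 7
 (Tr.node (Tr.node (Tr.node Tr.leaf 85427 7
 Tr.leaf) 85429 7
 Tr.leaf) 85447 6
 (Tr.node (Tr.node Tr.leaf 85471 7
 Tr.leaf) 85475 7
 Tr.leaf))) 85477 7
 (Tr.node (Tr.node (Tr.node (Tr.node Tr.leaf 85479 6
 Tr.leaf) 85497 8
 Tr.leaf) 85503 8
 (Tr.node (Tr.node Tr.leaf 86019 6
 Tr.leaf) 86029 6
 Tr.leaf)) 86033 7
 (Tr.node (Tr.node (Tr.node Tr.leaf 86034 6
 Tr.leaf) 86044 6
 Tr.leaf) 86047 7
 (Tr.node Tr.leaf 86053 6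
 Tr.leaf))))) 86062 6
 (Tr.node (Tr.node (Tr.node (Tr.node (Tr.node (Tr.node Tr.leaf 86065 7
 Tr.leaf) 86068 7
 Tr.leaf) 86073 7
 (Tr.node (Tr.node Tr.leaf 86074 6
 Tr.leaf) 86084 5
 Tr.leaf)) 86087 7
 (Tr.node (Tr.node (Tr.node Tr.leaf 86089 6
 Tr.leaf) 86092 5
 Tr.leaf) 86099 7
 (Tr.node (Tr.node Tr.leaf 86101 7
 Tr.leaf) 86102 6
 Tr.leaf))) 86107 7
 (Tr.node (Tr.node (Tr.node (Tr.node Tr.leaf 86109 6
 Tr.leaf) 86113 7
 Tr.leaf) 86119 6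
 (Tr.node (Tr.node Tr.leaf 86121 7
 Tr.leaf) 86122 5
 Tr.leaf)) 86131 7
 (Tr.node (Tr.node (Tr.node Tr.leaf 86134 6
 Tr.leaf) 86139 6
 Tr.leaf) 86150 6
 (Tr.node Tr.leaf 86155 6
 Tr.leaf)))) 86157 6
 (Tr.node (Tr.node (Tr.node (Tr.node (Tr.node Tr.leaf 86162 5
 Tr.leaf) 86164 7
 Tr.leaf) 86169 7
 (Tr.node (Tr.node Tr.leaf 86170 6
 Tr.leaf) 86175 7
 Tr.leaf)) 86179 6
 (Tr.node (Tr.node (Tr.node Tr.leaf 86181 6
 Tr.leaf) 86193 7
 Tr.leaf) 86194 6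
 (Tr.node Tr.leaf 86196 6
 Tr.leaf))) 86204 7
 (Tr.node (Tr.node (Tr.node (Tr.node Tr.leaf 86207 6
 Tr.leaf) 86209 7
 Tr.leaf) 86210 6
 (Tr.node (Tr.node Tr.leaf 86215 6
 Tr.leaf) 86217 7
 Tr.leaf)) 86223 7
 (Tr.node (Tr.node (Tr.node Tr.leaf 86227 6
 Tr.leaf) 86229 7
 Tr.leaf) 86230 7
 (Tr.node Tr.leaf 86237 7
 Tr.leaf)))))) 86238 6
 (Tr.node (Tr.node (Tr.node (Tr.node (Tr.node (Tr.node (Tr.node Tr.leaf 86241 7
 Tr.leaf) 86244 5
 Tr.leaf) 86247 6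
 (Tr.node (Tr.node Tr.leaf 86252 6
 Tr.leaf) 86259 7
 Tr.leaf)) 86261 6
 (Tr.node (Tr.node (Tr.node Tr.leaf 86262 7
 Tr.leaf) 86270 6
 Tr.leaf) 86274 6
 (Tr.node (Tr.node Tr.leaf 86276 6
 Tr.leaf) 86281 5
 Tr.leaf))) 86284 6
 (Tr.node (Tr.node (Tr.node (Tr.node Tr.leaf 86293 6
 Tr.leaf) 86294 6
 Tr.leaf) 86301 6
 (Tr.node (Tr.node Tr.leaf 86302 6
 Tr.leaf) 86308 7
 Tr.leaf)) 86311 6
 (Tr.node (Tr.node (Tr.node Tr.leaf 86313 6
 Tr.leaf) 86319 7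
 Tr.leaf) 86323 6
 (Tr.node Tr.leaf 86325 6
 Tr.leaf)))) 86331 7
 (Tr.node (Tr.node (Tr.node (Tr.node (Tr.node Tr.leaf 86334 6
 Tr.leaf) 86341 6
 Tr.leaf) 86342 7
 (Tr.node (Tr.node Tr.leaf 86353 7
 Tr.leaf) 86354 7
 Tr.leaf)) 86356 7
 (Tr.node (Tr.node (Tr.node Tr.leaf 86359 8
 Tr.leaf) 86361 6
 Tr.leaf) 86362 7
 (Tr.node (Tr.node Tr.leaf 86364 6
 Tr.leaf) 86371 6
 Tr.leaf))) 86374 6
 (Tr.node (Tr.node (Tr.node (Tr.node Tr.leaf 86379 6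
 Tr.leaf) 86381 6
 Tr.leaf) 86385 6
 (Tr.node (Tr.node Tr.leaf 86386 6
 Tr.leaf) 86391 7
 Tr.leaf)) 86404 7
 (Tr.node (Tr.node (Tr.node Tr.leaf 86410 6
 Tr.leaf) 86419 7
 Tr.leaf) 86421 7
 (Tr.node Tr.leaf 86422 6
 Tr.leaf))))) 86434 6
 (Tr.node (Tr.node (Tr.node (Tr.node (Tr.node (Tr.node Tr.leaf 86439 6
 Tr.leaf) 86444 6
 Tr.leaf) 86451 7
 (Tr.node (Tr.node Tr.leaf 86454 5
 Tr.leaf) 86462 5
 Tr.leaf)) 86467 6
 (Tr.node (Tr.node (Tr.node Tr.leaf 86470 6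
 Tr.leaf) 86478 6
 Tr.leaf) 86489 6
 (Tr.node (Tr.node Tr.leaf 86490 6
 Tr.leaf) 86499 6
 Tr.leaf))) 86501 7
 (Tr.node (Tr.node (Tr.node (Tr.node Tr.leaf 86509 5
 Tr.leaf) 87049 6
 Tr.leaf) 87063 6
 (Tr.node (Tr.node Tr.leaf 87069 6
 Tr.leaf) 87071 6
 Tr.leaf)) 87073 6
 (Tr.node (Tr.node (Tr.node Tr.leaf 87083 6
 Tr.leaf) 87093 7
 Tr.leaf) 87101 6
 (Tr.node Tr.leaf 87109 6
 Tr.leaf)))) 87117 7
 (Tr.node (Tr.node (Tr.node (Tr.node (Tr.node Tr.leaf 87131 6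
 Tr.leaf) 87141 6
 Tr.leaf) 87151 6
 (Tr.node (Tr.node Tr.leaf 87161 6
 Tr.leaf) 87163 7
 Tr.leaf)) 87171 6
 (Tr.node (Tr.node (Tr.node Tr.leaf 87189 6
 Tr.leaf) 87197 7
 Tr.leaf) 87199 7
 (Tr.node Tr.leaf 87209 6
 Tr.leaf))) 87221 6
 (Tr.node (Tr.node (Tr.node (Tr.node Tr.leaf 87237 6
 Tr.leaf) 87245 7
 Tr.leaf) 87247 6
 (Tr.node (Tr.node Tr.leaf 87249 7
 Tr.leaf) 87257 7
 Tr.leaf)) 87259 6
 (Tr.node (Tr.node (Tr.node Tr.leaf 87277 7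
 Tr.leaf) 87279 6
 Tr.leaf) 87281 6
 (Tr.node Tr.leaf 87283 6
 Tr.leaf))))))) 87289 6
 (Tr.node (Tr.node (Tr.node (Tr.node (Tr.node (Tr.node (Tr.node (Tr.node Tr.leaf 87301 6
 Tr.leaf) 87311 7
 Tr.leaf) 87313 7
 (Tr.node (Tr.node Tr.leaf 87315 6
 Tr.leaf) 87323 6
 Tr.leaf)) 87335 5
 (Tr.node (Tr.node (Tr.node Tr.leaf 87343 6
 Tr.leaf) 87353 6
 Tr.leaf) 87361 6
 (Tr.node (Tr.node Tr.leaf 87371 7
 Tr.leaf) 87381 7
 Tr.leaf))) 87383 7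
 (Tr.node (Tr.node (Tr.node (Tr.node Tr.leaf 87391 8
 Tr.leaf) 87393 6
 Tr.leaf) 87395 5
 (Tr.node (Tr.node Tr.leaf 87413 7
 Tr.leaf) 87415 7
 Tr.leaf)) 87423 7
 (Tr.node (Tr.node (Tr.node Tr.leaf 87429 6
 Tr.leaf) 87431 6
 Tr.leaf) 87439 6
 (Tr.node Tr.leaf 87441 6
 Tr.leaf)))) 87451 6
 (Tr.node (Tr.node (Tr.node (Tr.node (Tr.node Tr.leaf 87461 7
 Tr.leaf) 87471 5
 Tr.leaf) 87473 6
 (Tr.node (Tr.node Tr.leaf 87475 6
 Tr.leaf) 87483 7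
 Tr.leaf)) 87489 6
 (Tr.node (Tr.node (Tr.node Tr.leaf 87491 6
 Tr.leaf) 87499 6
 Tr.leaf) 87509 7
 (Tr.node (Tr.node Tr.leaf 87519 7
 Tr.leaf) 87521 7
 Tr.leaf))) 87531 5
 (Tr.node (Tr.node (Tr.node (Tr.node Tr.leaf 87541 8
 Tr.leaf) 87543 7
 Tr.leaf) 87551 7
 (Tr.node (Tr.node Tr.leaf 88065 6
 Tr.leaf) 88069 6
 Tr.leaf)) 88073 6
 (Tr.node (Tr.node (Tr.node Tr.leaf 88083 7
 Tr.leaf) 88095 6
 Tr.leaf) 88101 6
 (Tr.node Tr.leaf 88105 6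
 Tr.leaf))))) 88106 5
 (Tr.node (Tr.node (Tr.node (Tr.node (Tr.node (Tr.node Tr.leaf 88109 6
 Tr.leaf) 88110 5
 Tr.leaf) 88115 7
 (Tr.node (Tr.node Tr.leaf 88119 7
 Tr.leaf) 88123 7
 Tr.leaf)) 88127 6
 (Tr.node (Tr.node (Tr.node Tr.leaf 88135 7
 Tr.leaf) 88139 7
 Tr.leaf) 88143 6
 (Tr.node (Tr.node Tr.leaf 88145 7
 Tr.leaf) 88146 6
 Tr.leaf))) 88149 7
 (Tr.node (Tr.node (Tr.node (Tr.node Tr.leaf 88150 6
 Tr.leaf) 88153 7
 Tr.leaf) 88157 7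
 (Tr.node (Tr.node Tr.leaf 88158 6
 Tr.leaf) 88163 6
 Tr.leaf)) 88171 7
 (Tr.node (Tr.node (Tr.node Tr.leaf 88181 7
 Tr.leaf) 88186 7
 Tr.leaf) 88189 6
 (Tr.node Tr.leaf 88193 6
 Tr.leaf)))) 88194 5
 (Tr.node (Tr.node (Tr.node (Tr.node (Tr.node Tr.leaf 88197 6
 Tr.leaf) 88198 5
 Tr.leaf) 88201 6
 (Tr.node (Tr.node Tr.leaf 88211 6
 Tr.leaf) 88219 7
 Tr.leaf)) 88223 6
 (Tr.node (Tr.node (Tr.node Tr.leaf 88229 6
 Tr.leaf) 88233 6
 Tr.leaf) 88237 6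
 (Tr.node Tr.leaf 88247 7
 Tr.leaf))) 88251 7
 (Tr.node (Tr.node (Tr.node (Tr.node Tr.leaf 88267 7
 Tr.leaf) 88271 6
 Tr.leaf) 88273 6
 (Tr.node (Tr.node Tr.leaf 88277 7
 Tr.leaf) 88281 7
 Tr.leaf)) 88282 7
 (Tr.node (Tr.node (Tr.node Tr.leaf 88291 6
 Tr.leaf) 88295 7
 Tr.leaf) 88299 7
 (Tr.node Tr.leaf 88306 6
 Tr.leaf)))))) 88310 7
 (Tr.node (Tr.node (Tr.node (Tr.node (Tr.node (Tr.node (Tr.node Tr.leaf 88314 6
 Tr.leaf) 88318 6
 Tr.leaf) 88337 7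
 (Tr.node (Tr.node Tr.leaf 88346 6
 Tr.leaf) 88349 6
 Tr.leaf)) 88359 7
 (Tr.node (Tr.node (Tr.node Tr.leaf 88363 7
 Tr.leaf) 88367 6
 Tr.leaf) 88370 6
 (Tr.node (Tr.node Tr.leaf 88377 6
 Tr.leaf) 88378 6
 Tr.leaf))) 88381 7
 (Tr.node (Tr.node (Tr.node (Tr.node Tr.leaf 88386 6
 Tr.leaf) 88389 7
 Tr.leaf) 88390 7
 (Tr.node (Tr.node Tr.leaf 88393 7
 Tr.leaf) 88394 5
 Tr.leaf)) 88398 6
 (Tr.node (Tr.node (Tr.node Tr.leaf 88415 8
 Tr.leaf) 88417 6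
 Tr.leaf) 88425 7
 (Tr.node Tr.leaf 88426 7
 Tr.leaf)))) 88429 6
 (Tr.node (Tr.node (Tr.node (Tr.node (Tr.node Tr.leaf 88435 7
 Tr.leaf) 88439 7
 Tr.leaf) 88443 7
 (Tr.node (Tr.node Tr.leaf 88451 6
 Tr.leaf) 88455 7
 Tr.leaf)) 88465 7
 (Tr.node (Tr.node (Tr.node Tr.leaf 88470 6
 Tr.leaf) 88473 6
 Tr.leaf) 88478 6
 (Tr.node Tr.leaf 88483 7
 Tr.leaf))) 88487 7
 (Tr.node (Tr.node (Tr.node (Tr.node Tr.leaf 88491 7
 Tr.leaf) 88495 7
 Tr.leaf) 88497 6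
 (Tr.node (Tr.node Tr.leaf 88498 7
 Tr.leaf) 88502 6
 Tr.leaf)) 88509 7
 (Tr.node (Tr.node (Tr.node Tr.leaf 88510 7
 Tr.leaf) 88513 6
 Tr.leaf) 88517 7
 (Tr.node Tr.leaf 88521 7
 Tr.leaf))))) 88522 7
 (Tr.node (Tr.node (Tr.node (Tr.node (Tr.node (Tr.node Tr.leaf 88525 7
 Tr.leaf) 88535 7
 Tr.leaf) 88539 7
 (Tr.node (Tr.node Tr.leaf 88543 7
 Tr.leaf) 88545 6
 Tr.leaf)) 88546 6
 (Tr.node (Tr.node (Tr.node Tr.leaf 88550 6
 Tr.leaf) 88557 7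
 Tr.leaf) 88558 6
 (Tr.node (Tr.node Tr.leaf 88563 8
 Tr.leaf) 89105 6
 Tr.leaf))) 89109 6
 (Tr.node (Tr.node (Tr.node (Tr.node Tr.leaf 89137 6
 Tr.leaf) 89139 5
 Tr.leaf) 89141 7
 (Tr.node (Tr.node Tr.leaf 89143 7
 Tr.leaf) 89147 7
 Tr.leaf)) 89155 7
 (Tr.node (Tr.node (Tr.node Tr.leaf 89157 7
 Tr.leaf) 89161 6
 Tr.leaf) 89167 7
 (Tr.node Tr.leaf 89187 7
 Tr.leaf)))) 89189 7
 (Tr.node (Tr.node (Tr.node (Tr.node (Tr.node Tr.leaf 89193 6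
 Tr.leaf) 89195 7
 Tr.leaf) 89199 7
 (Tr.node (Tr.node Tr.leaf 89233 7
 Tr.leaf) 89235 7
 Tr.leaf)) 89245 5
 (Tr.node (Tr.node (Tr.node Tr.leaf 89247 7
 Tr.leaf) 89267 6
 Tr.leaf) 89269 7
 (Tr.node Tr.leaf 89273 6
 Tr.leaf))) 89275 6
 (Tr.node (Tr.node (Tr.node (Tr.node Tr.leaf 89283 7
 Tr.leaf) 89285 7
 Tr.leaf) 89287 6
 (Tr.node (Tr.node Tr.leaf 89317 7
 Tr.leaf) 89319 6
 Tr.leaf)) 89325 7
 (Tr.node (Tr.node (Tr.node Tr.leaf 89327 7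
 Tr.leaf) 89347 7
 Tr.leaf) 89349 7
 (Tr.node Tr.leaf 89351 7
 Tr.leaf))))))))

/-- A subtree. -/
def tr1_s22 : Tr := (Tr.node (Tr.node (Tr.node (Tr.node (Tr.node (Tr.node (Tr.node (Tr.node (Tr.node Tr.leaf 89357 7
 Tr.leaf) 89359 7
 Tr.leaf) 89379 5
 (Tr.node (Tr.node Tr.leaf 89429 7
 Tr.leaf) 89459 7
 Tr.leaf)) 89463 7
 (Tr.node (Tr.node (Tr.node Tr.leaf 89465 7
 Tr.leaf) 89471 7
 Tr.leaf) 89473 6
 (Tr.node (Tr.node Tr.leaf 89475 7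
 Tr.leaf) 89479 7
 Tr.leaf))) 89481 6
 (Tr.node (Tr.node (Tr.node (Tr.node Tr.leaf 89483 7
 Tr.leaf) 89485 5
 Tr.leaf) 89507 6
 (Tr.node (Tr.node Tr.leaf 89509 6
 Tr.leaf) 89511 6
 Tr.leaf)) 89519 6
 (Tr.node (Tr.node (Tr.node Tr.leaf 89553 8
 Tr.leaf) 89559 7
 Tr.leaf) 89561 7
 (Tr.node Tr.leaf 89563 7
 Tr.leaf)))) 89565 7
 (Tr.node (Tr.node (Tr.node (Tr.node (Tr.node Tr.leaf 89567 7
 Tr.leaf) 89587 7
 Tr.leaf) 89591 7
 (Tr.node (Tr.node Tr.leaf 89593 7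
 Tr.leaf) 89597 7
 Tr.leaf)) 89599 8
 (Tr.node (Tr.node (Tr.node Tr.leaf 90118 4
 Tr.leaf) 90121 7
 Tr.leaf) 90122 5
 (Tr.node (Tr.node Tr.leaf 90124 5
 Tr.leaf) 90127 5
 Tr.leaf))) 90131 7
 (Tr.node (Tr.node (Tr.node (Tr.node Tr.leaf 90138 5
 Tr.leaf) 90147 6
 Tr.leaf) 90153 7
 (Tr.node (Tr.node Tr.leaf 90154 6
 Tr.leaf) 90159 7
 Tr.leaf)) 90163 7
 (Tr.node (Tr.node (Tr.node Tr.leaf 90166 6
 Tr.leaf) 90169 6
 Tr.leaf) 90170 6
 (Tr.node Tr.leaf 90172 7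
 Tr.leaf))))) 90175 7
 (Tr.node (Tr.node (Tr.node (Tr.node (Tr.node (Tr.node Tr.leaf 90177 6
 Tr.leaf) 90178 5
 Tr.leaf) 90183 5
 (Tr.node (Tr.node Tr.leaf 90184 5
 Tr.leaf) 90187 5
 Tr.leaf)) 90189 5
 (Tr.node (Tr.node (Tr.node Tr.leaf 90194 7
 Tr.leaf) 90199 6
 Tr.leaf) 90203 7
 (Tr.node (Tr.node Tr.leaf 90210 7
 Tr.leaf) 90215 6
 Tr.leaf))) 90216 5
 (Tr.node (Tr.node (Tr.node (Tr.node Tr.leaf 90219 7
 Tr.leaf) 90222 6
 Tr.leaf) 90235 7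
 (Tr.node (Tr.node Tr.leaf 90237 6
 Tr.leaf) 90238 6
 Tr.leaf)) 90243 7
 (Tr.node (Tr.node (Tr.node Tr.leaf 90246 6
 Tr.leaf) 90261 6
 Tr.leaf) 90265 7
 (Tr.node Tr.leaf 90268 7
 Tr.leaf)))) 90281 7
 (Tr.node (Tr.node (Tr.node (Tr.node (Tr.node Tr.leaf 90282 5
 Tr.leaf) 90284 7
 Tr.leaf) 90287 7
 (Tr.node (Tr.node Tr.leaf 90291 7
 Tr.leaf) 90293 6
 Tr.leaf)) 90294 5
 (Tr.node (Tr.node (Tr.node Tr.leaf 90298 5
 Tr.leaf) 90300 5
 Tr.leaf) 90303 5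
 (Tr.node Tr.leaf 90305 6
 Tr.leaf))) 90306 7
 (Tr.node (Tr.node (Tr.node (Tr.node Tr.leaf 90308 6
 Tr.leaf) 90318 6
 Tr.leaf) 90324 6
 (Tr.node (Tr.node Tr.leaf 90328 5
 Tr.leaf) 90334 6
 Tr.leaf)) 90349 6
 (Tr.node (Tr.node (Tr.node Tr.leaf 90354 5
 Tr.leaf) 90359 5
 Tr.leaf) 90360 4
 (Tr.node Tr.leaf 90363 5
 Tr.leaf)))))) 90365 5
 (Tr.node (Tr.node (Tr.node (Tr.node (Tr.node (Tr.node (Tr.node Tr.leaf 90369 6
 Tr.leaf) 90375 6
 Tr.leaf) 90376 6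
 (Tr.node (Tr.node Tr.leaf 90379 7
 Tr.leaf) 90382 7
 Tr.leaf)) 90391 6
 (Tr.node (Tr.node (Tr.node Tr.leaf 90395 6
 Tr.leaf) 90398 5
 Tr.leaf) 90401 5
 (Tr.node (Tr.node Tr.leaf 90402 6
 Tr.leaf) 90404 6
 Tr.leaf))) 90407 7
 (Tr.node (Tr.node (Tr.node (Tr.node Tr.leaf 90411 7
 Tr.leaf) 90414 5
 Tr.leaf) 90417 5
 (Tr.node (Tr.node Tr.leaf 90423 7
 Tr.leaf) 90424 7
 Tr.leaf)) 90427 7
 (Tr.node (Tr.node (Tr.node Tr.leaf 90430 5
 Tr.leaf) 90435 6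
 Tr.leaf) 90437 7
 (Tr.node Tr.leaf 90438 6
 Tr.leaf)))) 90447 8
 (Tr.node (Tr.node (Tr.node (Tr.node (Tr.node Tr.leaf 90451 6
 Tr.leaf) 90454 5
 Tr.leaf) 90457 6
 (Tr.node (Tr.node Tr.leaf 90458 5
 Tr.leaf) 90460 5
 Tr.leaf)) 90463 6
 (Tr.node (Tr.node (Tr.node Tr.leaf 90469 6
 Tr.leaf) 90470 5
 Tr.leaf) 90473 7
 (Tr.node (Tr.node Tr.leaf 90474 5
 Tr.leaf) 90485 6
 Tr.leaf))) 90489 7
 (Tr.node (Tr.node (Tr.node (Tr.node Tr.leaf 90490 5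
 Tr.leaf) 90492 5
 Tr.leaf) 90497 5
 (Tr.node (Tr.node Tr.leaf 90498 6
 Tr.leaf) 90500 7
 Tr.leaf)) 90510 5
 (Tr.node (Tr.node (Tr.node Tr.leaf 90513 5
 Tr.leaf) 90519 6
 Tr.leaf) 90520 6
 (Tr.node Tr.leaf 90525 7
 Tr.leaf))))) 90526 5
 (Tr.node (Tr.node (Tr.node (Tr.node (Tr.node (Tr.node Tr.leaf 90535 6
 Tr.leaf) 90539 6
 Tr.leaf) 90541 6
 (Tr.node (Tr.node Tr.leaf 90542 5
 Tr.leaf) 90545 6
 Tr.leaf)) 90546 7
 (Tr.node (Tr.node (Tr.node Tr.leaf 90548 6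
 Tr.leaf) 90555 7
 Tr.leaf) 90557 6
 (Tr.node (Tr.node Tr.leaf 90563 7
 Tr.leaf) 90569 6
 Tr.leaf))) 90570 5
 (Tr.node (Tr.node (Tr.node (Tr.node Tr.leaf 90572 5
 Tr.leaf) 90575 6
 Tr.leaf) 90582 5
 (Tr.node (Tr.node Tr.leaf 90586 5
 Tr.leaf) 90591 6
 Tr.leaf)) 90598 5
 (Tr.node (Tr.node (Tr.node Tr.leaf 90601 6
 Tr.leaf) 90602 5
 Tr.leaf) 90604 5
 (Tr.node Tr.leaf 90607 6
 Tr.leaf)))) 90613 7
 (Tr.node (Tr.node (Tr.node (Tr.node (Tr.node Tr.leaf 90617 6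
 Tr.leaf) 90618 7
 Tr.leaf) 90620 6
 (Tr.node (Tr.node Tr.leaf 90623 8
 Tr.leaf) 91137 7
 Tr.leaf)) 91139 7
 (Tr.node (Tr.node (Tr.node Tr.leaf 91153 7
 Tr.leaf) 91169 7
 Tr.leaf) 91181 7
 (Tr.node Tr.leaf 91183 7
 Tr.leaf))) 91187 7
 (Tr.node (Tr.node (Tr.node (Tr.node Tr.leaf 91197 7
 Tr.leaf) 91205 7
 Tr.leaf) 91207 7
 (Tr.node (Tr.node Tr.leaf 91209 6
 Tr.leaf) 91211 7
 Tr.leaf)) 91221 6
 (Tr.node (Tr.node (Tr.node Tr.leaf 91225 7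
 Tr.leaf) 91239 7
 Tr.leaf) 91241 5
 (Tr.node Tr.leaf 91253 6
 Tr.leaf))))))) 91255 6
 (Tr.node (Tr.node (Tr.node (Tr.node (Tr.node (Tr.node (Tr.node (Tr.node Tr.leaf 91267 7
 Tr.leaf) 91281 7
 Tr.leaf) 91283 7
 (Tr.node (Tr.node Tr.leaf 91293 7
 Tr.leaf) 91297 7
 Tr.leaf)) 91299 7
 (Tr.node (Tr.node (Tr.node Tr.leaf 91311 7
 Tr.leaf) 91313 7
 Tr.leaf) 91325 7
 (Tr.node (Tr.node Tr.leaf 91327 7
 Tr.leaf) 91335 7
 Tr.leaf))) 91337 7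
 (Tr.node (Tr.node (Tr.node (Tr.node Tr.leaf 91353 7
 Tr.leaf) 91355 5
 Tr.leaf) 91365 6
 (Tr.node (Tr.node Tr.leaf 91367 5
 Tr.leaf) 91371 6
 Tr.leaf)) 91381 6
 (Tr.node (Tr.node (Tr.node Tr.leaf 91385 6
 Tr.leaf) 91397 7
 Tr.leaf) 91399 7
 (Tr.node Tr.leaf 91401 6
 Tr.leaf)))) 91403 7
 (Tr.node (Tr.node (Tr.node (Tr.node (Tr.node Tr.leaf 91413 7
 Tr.leaf) 91415 6
 Tr.leaf) 91417 6
 (Tr.node (Tr.node Tr.leaf 91433 7
 Tr.leaf) 91445 6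
 Tr.leaf)) 91449 7
 (Tr.node (Tr.node (Tr.node Tr.leaf 91451 6
 Tr.leaf) 91457 6
 Tr.leaf) 91459 7
 (Tr.node (Tr.node Tr.leaf 91469 8
 Tr.leaf) 91485 8
 Tr.leaf))) 91489 6
 (Tr.node (Tr.node (Tr.node (Tr.node Tr.leaf 91491 7
 Tr.leaf) 91501 8
 Tr.leaf) 91505 7
 (Tr.node (Tr.node Tr.leaf 91517 7
 Tr.leaf) 91519 7
 Tr.leaf)) 91531 6
 (Tr.node (Tr.node (Tr.node Tr.leaf 91541 7
 Tr.leaf) 91543 7
 Tr.leaf) 91547 7
 (Tr.node Tr.leaf 91557 6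
 Tr.leaf))))) 91559 7
 (Tr.node (Tr.node (Tr.node (Tr.node (Tr.node (Tr.node Tr.leaf 91561 6
 Tr.leaf) 91573 6
 Tr.leaf) 91587 6
 (Tr.node (Tr.node Tr.leaf 91597 8
 Tr.leaf) 91601 6
 Tr.leaf)) 91613 7
 (Tr.node (Tr.node (Tr.node Tr.leaf 91617 5
 Tr.leaf) 91629 7
 Tr.leaf) 91631 7
 (Tr.node (Tr.node Tr.leaf 91633 6
 Tr.leaf) 92161 6
 Tr.leaf))) 92175 7
 (Tr.node (Tr.node (Tr.node (Tr.node Tr.leaf 92181 6
 Tr.leaf) 92182 6
 Tr.leaf) 92191 6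
 (Tr.node (Tr.node Tr.leaf 92193 6
 Tr.leaf) 92194 5
 Tr.leaf)) 92203 7
 (Tr.node (Tr.node (Tr.node Tr.leaf 92207 6
 Tr.leaf) 92213 6
 Tr.leaf) 92238 6
 (Tr.node Tr.leaf 92243 7
 Tr.leaf)))) 92249 6
 (Tr.node (Tr.node (Tr.node (Tr.node (Tr.node Tr.leaf 92254 7
 Tr.leaf) 92263 6
 Tr.leaf) 92266 6
 (Tr.node (Tr.node Tr.leaf 92269 5
 Tr.leaf) 92270 7
 Tr.leaf)) 92275 7
 (Tr.node (Tr.node (Tr.node Tr.leaf 92279 7
 Tr.leaf) 92281 6
 Tr.leaf) 92282 6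
 (Tr.node Tr.leaf 92285 6
 Tr.leaf))) 92286 6
 (Tr.node (Tr.node (Tr.node (Tr.node Tr.leaf 92293 6
 Tr.leaf) 92299 6
 Tr.leaf) 92303 7
 (Tr.node (Tr.node Tr.leaf 92310 5
 Tr.leaf) 92315 7
 Tr.leaf)) 92319 7
 (Tr.node (Tr.node (Tr.node Tr.leaf 92322 6
 Tr.leaf) 92325 6
 Tr.leaf) 92331 6
 (Tr.node Tr.leaf 92355 7
 Tr.leaf)))))) 92362 6
 (Tr.node (Tr.node (Tr.node (Tr.node (Tr.node (Tr.node (Tr.node Tr.leaf 92366 5
 Tr.leaf) 92375 7
 Tr.leaf) 92377 5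
 (Tr.node (Tr.node Tr.leaf 92387 7
 Tr.leaf) 92393 6
 Tr.leaf)) 92397 6
 (Tr.node (Tr.node (Tr.node Tr.leaf 92403 6
 Tr.leaf) 92407 7
 Tr.leaf) 92409 6
 (Tr.node (Tr.node Tr.leaf 92413 7
 Tr.leaf) 92414 6
 Tr.leaf))) 92419 7
 (Tr.node (Tr.node (Tr.node (Tr.node Tr.leaf 92423 7
 Tr.leaf) 92425 7
 Tr.leaf) 92430 7
 (Tr.node (Tr.node Tr.leaf 92441 7
 Tr.leaf) 92442 6
 Tr.leaf)) 92445 7
 (Tr.node (Tr.node (Tr.node Tr.leaf 92457 7
 Tr.leaf) 92467 7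
 Tr.leaf) 92471 7
 (Tr.node Tr.leaf 92474 5
 Tr.leaf)))) 92477 7
 (Tr.node (Tr.node (Tr.node (Tr.node (Tr.node Tr.leaf 92478 7
 Tr.leaf) 92482 5
 Tr.leaf) 92486 6
 (Tr.node (Tr.node Tr.leaf 92497 6
 Tr.leaf) 92507 8
 Tr.leaf)) 92511 8
 (Tr.node (Tr.node (Tr.node Tr.leaf 92517 7
 Tr.leaf) 92527 7
 Tr.leaf) 92529 7
 (Tr.node Tr.leaf 92530 5
 Tr.leaf))) 92533 7
 (Tr.node (Tr.node (Tr.node (Tr.node Tr.leaf 92534 7
 Tr.leaf) 92539 8
 Tr.leaf) 92551 7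
 (Tr.node (Tr.node Tr.leaf 92553 7
 Tr.leaf) 92557 7
 Tr.leaf)) 92558 6
 (Tr.node (Tr.node (Tr.node Tr.leaf 92563 7
 Tr.leaf) 92567 7
 Tr.leaf) 92569 6
 (Tr.node Tr.leaf 92573 7
 Tr.leaf))))) 92574 7
 (Tr.node (Tr.node (Tr.node (Tr.node (Tr.node (Tr.node Tr.leaf 92585 7
 Tr.leaf) 92590 6
 Tr.leaf) 92599 7
 (Tr.node (Tr.node Tr.leaf 92605 7
 Tr.leaf) 92606 7
 Tr.leaf)) 92609 7
 (Tr.node (Tr.node (Tr.node Tr.leaf 92614 6
 Tr.leaf) 92623 8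
 Tr.leaf) 92625 6
 (Tr.node (Tr.node Tr.leaf 92626 7
 Tr.leaf) 92641 6
 Tr.leaf))) 92651 7
 (Tr.node (Tr.node (Tr.node (Tr.node Tr.leaf 92658 6
 Tr.leaf) 92661 7
 Tr.leaf) 92662 6
 (Tr.node (Tr.node Tr.leaf 93193 6
 Tr.leaf) 93199 7
 Tr.leaf)) 93209 6
 (Tr.node (Tr.node (Tr.node Tr.leaf 93213 7
 Tr.leaf) 93215 7
 Tr.leaf) 93229 5
 (Tr.node Tr.leaf 93231 7
 Tr.leaf)))) 93241 6
 (Tr.node (Tr.node (Tr.node (Tr.node (Tr.node Tr.leaf 93247 7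
 Tr.leaf) 93253 7
 Tr.leaf) 93267 7
 (Tr.node (Tr.node Tr.leaf 93285 5
 Tr.leaf) 93297 7
 Tr.leaf)) 93299 7
 (Tr.node (Tr.node (Tr.node Tr.leaf 93303 6
 Tr.leaf) 93325 7
 Tr.leaf) 93327 6
 (Tr.node Tr.leaf 93337 6
 Tr.leaf))) 93339 5
 (Tr.node (Tr.node (Tr.node (Tr.node Tr.leaf 93341 7
 Tr.leaf) 93343 7
 Tr.leaf) 93357 6
 (Tr.node (Tr.node Tr.leaf 93373 6
 Tr.leaf) 93377 6
 Tr.leaf)) 93379 7
 (Tr.node (Tr.node (Tr.node Tr.leaf 93393 6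
 Tr.leaf) 93395 5
 Tr.leaf) 93397 7
 (Tr.node Tr.leaf 93409 6
 Tr.leaf))))))))

/-- A subtree. -/
def tr1_s23 : Tr := (Tr.node (Tr.node (Tr.node (Tr.node (Tr.node (Tr.node (Tr.node (Tr.node (Tr.node Tr.leaf 93429 7
 Tr.leaf) 93431 6
 Tr.leaf) 93441 7
 (Tr.node (Tr.node Tr.leaf 93443 7
 Tr.leaf) 93447 7
 Tr.leaf)) 93457 6
 (Tr.node (Tr.node (Tr.node Tr.leaf 93461 6
 Tr.leaf) 93473 7
 Tr.leaf) 93489 7
 (Tr.node (Tr.node Tr.leaf 93491 7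
 Tr.leaf) 93493 7
 Tr.leaf))) 93495 7
 (Tr.node (Tr.node (Tr.node (Tr.node Tr.leaf 93513 8
 Tr.leaf) 93515 7
 Tr.leaf) 93517 7
 (Tr.node (Tr.node Tr.leaf 93529 7
 Tr.leaf) 93531 7
 Tr.leaf)) 93533 7
 (Tr.node (Tr.node (Tr.node Tr.leaf 93545 7
 Tr.leaf) 93549 7
 Tr.leaf) 93567 7
 (Tr.node Tr.leaf 93571 7
 Tr.leaf)))) 93587 7
 (Tr.node (Tr.node (Tr.node (Tr.node (Tr.node Tr.leaf 93589 7
 Tr.leaf) 93591 7
 Tr.leaf) 93603 6
 (Tr.node (Tr.node Tr.leaf 93607 6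
 Tr.leaf) 93645 7
 Tr.leaf)) 93657 7
 (Tr.node (Tr.node (Tr.node Tr.leaf 93659 7
 Tr.leaf) 93673 7
 Tr.leaf) 93675 7
 (Tr.node (Tr.node Tr.leaf 93677 7
 Tr.leaf) 93693 8
 Tr.leaf))) 94210 6
 (Tr.node (Tr.node (Tr.node (Tr.node Tr.leaf 94212 6
 Tr.leaf) 94217 7
 Tr.leaf) 94223 6
 (Tr.node (Tr.node Tr.leaf 94225 7
 Tr.leaf) 94226 6
 Tr.leaf)) 94228 6
 (Tr.node (Tr.node (Tr.node Tr.leaf 94231 6
 Tr.leaf) 94233 7
 Tr.leaf) 94236 6
 (Tr.node Tr.leaf 94241 7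
 Tr.leaf))))) 94244 6
 (Tr.node (Tr.node (Tr.node (Tr.node (Tr.node (Tr.node Tr.leaf 94250 5
 Tr.leaf) 94252 7
 Tr.leaf) 94265 7
 (Tr.node (Tr.node Tr.leaf 94266 5
 Tr.leaf) 94268 6
 Tr.leaf)) 94271 5
 (Tr.node (Tr.node (Tr.node Tr.leaf 94275 7
 Tr.leaf) 94278 7
 Tr.leaf) 94283 7
 (Tr.node (Tr.node Tr.leaf 94285 6
 Tr.leaf) 94291 7
 Tr.leaf))) 94293 6
 (Tr.node (Tr.node (Tr.node (Tr.node Tr.leaf 94294 7
 Tr.leaf) 94301 6
 Tr.leaf) 94302 6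
 (Tr.node (Tr.node Tr.leaf 94309 6
 Tr.leaf) 94310 6
 Tr.leaf)) 94315 7
 (Tr.node (Tr.node (Tr.node Tr.leaf 94317 6
 Tr.leaf) 94323 7
 Tr.leaf) 94325 7
 (Tr.node Tr.leaf 94331 7
 Tr.leaf)))) 94337 7
 (Tr.node (Tr.node (Tr.node (Tr.node (Tr.node Tr.leaf 94338 5
 Tr.leaf) 94340 6
 Tr.leaf) 94343 5
 (Tr.node (Tr.node Tr.leaf 94345 7
 Tr.leaf) 94346 6
 Tr.leaf)) 94348 7
 (Tr.node (Tr.node (Tr.node Tr.leaf 94351 7
 Tr.leaf) 94353 7
 Tr.leaf) 94354 6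
 (Tr.node Tr.leaf 94362 6
 Tr.leaf))) 94364 6
 (Tr.node (Tr.node (Tr.node (Tr.node Tr.leaf 94367 7
 Tr.leaf) 94370 6
 Tr.leaf) 94377 7
 (Tr.node (Tr.node Tr.leaf 94380 6
 Tr.leaf) 94383 7
 Tr.leaf)) 94385 7
 (Tr.node (Tr.node (Tr.node Tr.leaf 94386 6
 Tr.leaf) 94388 7
 Tr.leaf) 94391 7
 (Tr.node Tr.leaf 94393 7
 Tr.leaf)))))) 94399 6
 (Tr.node (Tr.node (Tr.node (Tr.node (Tr.node (Tr.node (Tr.node Tr.leaf 94406 7
 Tr.leaf) 94411 7
 Tr.leaf) 94414 7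
 (Tr.node (Tr.node Tr.leaf 94421 7
 Tr.leaf) 94430 6
 Tr.leaf)) 94438 6
 (Tr.node (Tr.node (Tr.node Tr.leaf 94445 5
 Tr.leaf) 94453 7
 Tr.leaf) 94454 7
 (Tr.node (Tr.node Tr.leaf 94461 7
 Tr.leaf) 94470 6
 Tr.leaf))) 94477 6
 (Tr.node (Tr.node (Tr.node (Tr.node Tr.leaf 94478 7
 Tr.leaf) 94486 6
 Tr.leaf) 94491 6
 (Tr.node (Tr.node Tr.leaf 94493 5
 Tr.leaf) 94499 6
 Tr.leaf)) 94502 6
 (Tr.node (Tr.node (Tr.node Tr.leaf 94507 7
 Tr.leaf) 94509 7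
 Tr.leaf) 94510 7
 (Tr.node Tr.leaf 94517 7
 Tr.leaf)))) 94518 7
 (Tr.node (Tr.node (Tr.node (Tr.node (Tr.node Tr.leaf 94523 7
 Tr.leaf) 94525 6
 Tr.leaf) 94526 7
 (Tr.node (Tr.node Tr.leaf 94537 6
 Tr.leaf) 94538 6
 Tr.leaf)) 94540 6
 (Tr.node (Tr.node (Tr.node Tr.leaf 94545 7
 Tr.leaf) 94551 7
 Tr.leaf) 94553 6
 (Tr.node (Tr.node Tr.leaf 94556 6
 Tr.leaf) 94559 7
 Tr.leaf))) 94562 6
 (Tr.node (Tr.node (Tr.node (Tr.node Tr.leaf 94564 6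
 Tr.leaf) 94567 7
 Tr.leaf) 94569 6
 (Tr.node (Tr.node Tr.leaf 94570 7
 Tr.leaf) 94572 7
 Tr.leaf)) 94575 7
 (Tr.node (Tr.node (Tr.node Tr.leaf 94578 6
 Tr.leaf) 94588 6
 Tr.leaf) 94591 8
 (Tr.node Tr.leaf 94595 7
 Tr.leaf))))) 94605 6
 (Tr.node (Tr.node (Tr.node (Tr.node (Tr.node (Tr.node Tr.leaf 94611 6
 Tr.leaf) 94613 6
 Tr.leaf) 94622 6
 (Tr.node (Tr.node Tr.leaf 94635 6
 Tr.leaf) 94638 6
 Tr.leaf)) 94643 7
 (Tr.node (Tr.node (Tr.node Tr.leaf 94645 7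
 Tr.leaf) 94651 6
 Tr.leaf) 94653 6
 (Tr.node (Tr.node Tr.leaf 94654 6
 Tr.leaf) 94657 7
 Tr.leaf))) 94658 7
 (Tr.node (Tr.node (Tr.node (Tr.node Tr.leaf 94660 6
 Tr.leaf) 94665 7
 Tr.leaf) 94666 6
 (Tr.node (Tr.node Tr.leaf 94668 7
 Tr.leaf) 94671 7
 Tr.leaf)) 94682 6
 (Tr.node (Tr.node (Tr.node Tr.leaf 94684 6
 Tr.leaf) 94687 8
 Tr.leaf) 94689 6
 (Tr.node Tr.leaf 94692 6
 Tr.leaf)))) 94697 7
 (Tr.node (Tr.node (Tr.node (Tr.node (Tr.node Tr.leaf 94703 8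
 Tr.leaf) 94705 7
 Tr.leaf) 94706 5
 (Tr.node (Tr.node Tr.leaf 94713 7
 Tr.leaf) 94716 7
 Tr.leaf)) 94719 8
 (Tr.node (Tr.node (Tr.node Tr.leaf 95239 5
 Tr.leaf) 95245 6
 Tr.leaf) 95247 6
 (Tr.node Tr.leaf 95253 6
 Tr.leaf))) 95255 6
 (Tr.node (Tr.node (Tr.node (Tr.node Tr.leaf 95261 6
 Tr.leaf) 95263 7
 Tr.leaf) 95271 6
 (Tr.node (Tr.node Tr.leaf 95277 6
 Tr.leaf) 95293 7
 Tr.leaf)) 95295 6
 (Tr.node (Tr.node (Tr.node Tr.leaf 95313 6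
 Tr.leaf) 95321 6
 Tr.leaf) 95329 6
 (Tr.node Tr.leaf 95337 7
 Tr.leaf))))))) 95347 6
 (Tr.node (Tr.node (Tr.node (Tr.node (Tr.node (Tr.node (Tr.node (Tr.node Tr.leaf 95353 6
 Tr.leaf) 95365 7
 Tr.leaf) 95367 6
 (Tr.node (Tr.node Tr.leaf 95373 7
 Tr.leaf) 95381 7
 Tr.leaf)) 95389 6
 (Tr.node (Tr.node (Tr.node Tr.leaf 95391 7
 Tr.leaf) 95405 6
 Tr.leaf) 95407 5
 (Tr.node (Tr.node Tr.leaf 95425 7
 Tr.leaf) 95433 6
 Tr.leaf))) 95435 6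
 (Tr.node (Tr.node (Tr.node (Tr.node Tr.leaf 95443 6
 Tr.leaf) 95449 7
 Tr.leaf) 95451 7
 (Tr.node (Tr.node Tr.leaf 95457 7
 Tr.leaf) 95459 6
 Tr.leaf)) 95465 6
 (Tr.node (Tr.node (Tr.node Tr.leaf 95467 5
 Tr.leaf) 95473 6
 Tr.leaf) 95475 5
 (Tr.node Tr.leaf 95481 6
 Tr.leaf)))) 95489 7
 (Tr.node (Tr.node (Tr.node (Tr.node (Tr.node Tr.leaf 95499 7
 Tr.leaf) 95507 6
 Tr.leaf) 95515 7
 (Tr.node (Tr.node Tr.leaf 95523 7
 Tr.leaf) 95539 7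
 Tr.leaf)) 95557 8
 (Tr.node (Tr.node (Tr.node Tr.leaf 95565 8
 Tr.leaf) 95573 7
 Tr.leaf) 95575 7
 (Tr.node (Tr.node Tr.leaf 95581 7
 Tr.leaf) 95583 7
 Tr.leaf))) 95589 7
 (Tr.node (Tr.node (Tr.node (Tr.node Tr.leaf 95591 7
 Tr.leaf) 95597 7
 Tr.leaf) 95599 8
 (Tr.node (Tr.node Tr.leaf 95605 8
 Tr.leaf) 95607 7
 Tr.leaf)) 95613 7
 (Tr.node (Tr.node (Tr.node Tr.leaf 95615 7
 Tr.leaf) 95619 7
 Tr.leaf) 95625 7
 (Tr.node Tr.leaf 95627 6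
 Tr.leaf))))) 95633 6
 (Tr.node (Tr.node (Tr.node (Tr.node (Tr.node (Tr.node Tr.leaf 95635 7
 Tr.leaf) 95641 7
 Tr.leaf) 95649 7
 (Tr.node (Tr.node Tr.leaf 95651 6
 Tr.leaf) 95665 7
 Tr.leaf)) 95675 7
 (Tr.node (Tr.node (Tr.node Tr.leaf 95695 8
 Tr.leaf) 95701 8
 Tr.leaf) 95717 7
 (Tr.node (Tr.node Tr.leaf 95719 7
 Tr.leaf) 95725 7
 Tr.leaf))) 95727 7
 (Tr.node (Tr.node (Tr.node (Tr.node Tr.leaf 95741 7
 Tr.leaf) 95743 8
 Tr.leaf) 96259 7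
 (Tr.node (Tr.node Tr.leaf 96271 7
 Tr.leaf) 96275 7
 Tr.leaf)) 96279 7
 (Tr.node (Tr.node (Tr.node Tr.leaf 96287 6
 Tr.leaf) 96291 7
 Tr.leaf) 96299 6
 (Tr.node Tr.leaf 96307 6
 Tr.leaf)))) 96311 7
 (Tr.node (Tr.node (Tr.node (Tr.node (Tr.node Tr.leaf 96315 7
 Tr.leaf) 96326 5
 Tr.leaf) 96330 5
 (Tr.node (Tr.node Tr.leaf 96338 6
 Tr.leaf) 96342 7
 Tr.leaf)) 96345 6
 (Tr.node (Tr.node (Tr.node Tr.leaf 96346 5
 Tr.leaf) 96349 7
 Tr.leaf) 96350 6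
 (Tr.node Tr.leaf 96353 7
 Tr.leaf))) 96354 6
 (Tr.node (Tr.node (Tr.node (Tr.node Tr.leaf 96357 6
 Tr.leaf) 96358 6
 Tr.leaf) 96362 7
 (Tr.node (Tr.node Tr.leaf 96369 7
 Tr.leaf) 96370 6
 Tr.leaf)) 96373 6
 (Tr.node (Tr.node (Tr.node Tr.leaf 96377 7
 Tr.leaf) 96381 7
 Tr.leaf) 96387 7
 (Tr.node Tr.leaf 96403 7
 Tr.leaf)))))) 96407 6
 (Tr.node (Tr.node (Tr.node (Tr.node (Tr.node (Tr.node (Tr.node Tr.leaf 96423 7
 Tr.leaf) 96427 6
 Tr.leaf) 96435 6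
 (Tr.node (Tr.node Tr.leaf 96439 7
 Tr.leaf) 96449 7
 Tr.leaf)) 96457 6
 (Tr.node (Tr.node (Tr.node Tr.leaf 96458 7
 Tr.leaf) 96462 6
 Tr.leaf) 96465 6
 (Tr.node (Tr.node Tr.leaf 96469 6
 Tr.leaf) 96474 6
 Tr.leaf))) 96477 6
 (Tr.node (Tr.node (Tr.node (Tr.node Tr.leaf 96478 6
 Tr.leaf) 96481 6
 Tr.leaf) 96482 6
 (Tr.node (Tr.node Tr.leaf 96486 6
 Tr.leaf) 96494 6
 Tr.leaf)) 96501 7
 (Tr.node (Tr.node (Tr.node Tr.leaf 96502 5
 Tr.leaf) 96505 7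
 Tr.leaf) 96506 5
 (Tr.node Tr.leaf 96509 7
 Tr.leaf)))) 96514 5
 (Tr.node (Tr.node (Tr.node (Tr.node (Tr.node Tr.leaf 96517 7
 Tr.leaf) 96518 7
 Tr.leaf) 96521 7
 (Tr.node (Tr.node Tr.leaf 96522 5
 Tr.leaf) 96525 6
 Tr.leaf)) 96533 6
 (Tr.node (Tr.node (Tr.node Tr.leaf 96537 6
 Tr.leaf) 96538 6
 Tr.leaf) 96545 6
 (Tr.node Tr.leaf 96546 6
 Tr.leaf))) 96549 7
 (Tr.node (Tr.node (Tr.node (Tr.node Tr.leaf 96553 7
 Tr.leaf) 96562 5
 Tr.leaf) 96569 7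
 (Tr.node (Tr.node Tr.leaf 96573 7
 Tr.leaf) 96574 7
 Tr.leaf)) 96579 8
 (Tr.node (Tr.node (Tr.node Tr.leaf 96583 7
 Tr.leaf) 96587 8
 Tr.leaf) 96603 7
 (Tr.node Tr.leaf 96607 7
 Tr.leaf))))) 96611 7
 (Tr.node (Tr.node (Tr.node (Tr.node (Tr.node (Tr.node Tr.leaf 96615 7
 Tr.leaf) 96627 7
 Tr.leaf) 96639 8
 (Tr.node (Tr.node Tr.leaf 96645 7
 Tr.leaf) 96646 7
 Tr.leaf)) 96653 5
 (Tr.node (Tr.node (Tr.node Tr.leaf 96654 6
 Tr.leaf) 96658 7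
 Tr.leaf) 96662 7
 (Tr.node (Tr.node Tr.leaf 96665 6
 Tr.leaf) 96666 7
 Tr.leaf))) 96670 6
 (Tr.node (Tr.node (Tr.node (Tr.node Tr.leaf 96673 7
 Tr.leaf) 96677 7
 Tr.leaf) 96678 6
 (Tr.node (Tr.node Tr.leaf 96685 6
 Tr.leaf) 96694 6
 Tr.leaf)) 96697 7
 (Tr.node (Tr.node (Tr.node Tr.leaf 96702 6
 Tr.leaf) 96707 8
 Tr.leaf) 96739 6
 (Tr.node Tr.leaf 96755 8
 Tr.leaf)))) 96759 8
 (Tr.node (Tr.node (Tr.node (Tr.node (Tr.node Tr.leaf 97281 5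
 Tr.leaf) 97283 7
 Tr.leaf) 97289 7
 (Tr.node (Tr.node Tr.leaf 97293 6
 Tr.leaf) 97295 5
 Tr.leaf)) 97297 7
 (Tr.node (Tr.node (Tr.node Tr.leaf 97299 7
 Tr.leaf) 97307 6
 Tr.leaf) 97317 7
 (Tr.node Tr.leaf 97319 7
 Tr.leaf))) 97321 7
 (Tr.node (Tr.node (Tr.node (Tr.node Tr.leaf 97323 7
 Tr.leaf) 97333 7
 Tr.leaf) 97335 6
 (Tr.node (Tr.node Tr.leaf 97337 7
 Tr.leaf) 97339 7
 Tr.leaf)) 97343 7
 (Tr.node (Tr.node (Tr.node Tr.leaf 97409 7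
 Tr.leaf) 97411 7
 Tr.leaf) 97415 7
 (Tr.node Tr.leaf 97417 6
 Tr.leaf))))))))

/-- A subtree. -/
def tr1_s24 : Tr := (Tr.node (Tr.node (Tr.node (Tr.node (Tr.node (Tr.node (Tr.node (Tr.node (Tr.node Tr.leaf 97427 7
 Tr.leaf) 97439 6
 Tr.leaf) 97443 6
 (Tr.node (Tr.node Tr.leaf 97445 6
 Tr.leaf) 97447 7
 Tr.leaf)) 97449 6
 (Tr.node (Tr.node (Tr.node Tr.leaf 97451 6
 Tr.leaf) 97453 7
 Tr.leaf) 97457 5
 (Tr.node (Tr.node Tr.leaf 97459 6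
 Tr.leaf) 97461 7
 Tr.leaf))) 97463 7
 (Tr.node (Tr.node (Tr.node (Tr.node Tr.leaf 97465 6
 Tr.leaf) 97467 7
 Tr.leaf) 97471 5
 (Tr.node (Tr.node Tr.leaf 97605 7
 Tr.leaf) 97613 7
 Tr.leaf)) 97615 8
 (Tr.node (Tr.node (Tr.node Tr.leaf 97617 7
 Tr.leaf) 97621 7
 Tr.leaf) 97625 7
 (Tr.node Tr.leaf 97627 7
 Tr.leaf)))) 97633 8
 (Tr.node (Tr.node (Tr.node (Tr.node (Tr.node Tr.leaf 97635 7
 Tr.leaf) 97637 7
 Tr.leaf) 97643 7
 (Tr.node (Tr.node Tr.leaf 97651 6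
 Tr.leaf) 97657 7
 Tr.leaf)) 97735 7
 (Tr.node (Tr.node (Tr.node Tr.leaf 97739 7
 Tr.leaf) 97743 7
 Tr.leaf) 97745 7
 (Tr.node (Tr.node Tr.leaf 97747 6
 Tr.leaf) 97751 7
 Tr.leaf))) 97759 7
 (Tr.node (Tr.node (Tr.node (Tr.node Tr.leaf 97761 7
 Tr.leaf) 97763 6
 Tr.leaf) 97765 7
 (Tr.node (Tr.node Tr.leaf 97767 7
 Tr.leaf) 97771 7
 Tr.leaf)) 97775 7
 (Tr.node (Tr.node (Tr.node Tr.leaf 97779 8
 Tr.leaf) 97783 7
 Tr.leaf) 97791 7
 (Tr.node Tr.leaf 98305 4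
 Tr.leaf))))) 98306 4
 (Tr.node (Tr.node (Tr.node (Tr.node (Tr.node (Tr.node Tr.leaf 98308 4
 Tr.leaf) 98312 4
 Tr.leaf) 98317 7
 (Tr.node (Tr.node Tr.leaf 98320 4
 Tr.leaf) 98325 6
 Tr.leaf)) 98332 5
 (Tr.node (Tr.node (Tr.node Tr.leaf 98335 7
 Tr.leaf) 98336 4
 Tr.leaf) 98345 7
 (Tr.node (Tr.node Tr.leaf 98353 6
 Tr.leaf) 98360 5
 Tr.leaf))) 98363 6
 (Tr.node (Tr.node (Tr.node (Tr.node Tr.leaf 98369 4
 Tr.leaf) 98370 4
 Tr.leaf) 98372 3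
 (Tr.node (Tr.node Tr.leaf 98376 4
 Tr.leaf) 98379 6
 Tr.leaf)) 98381 6
 (Tr.node (Tr.node (Tr.node Tr.leaf 98382 6
 Tr.leaf) 98384 3
 Tr.leaf) 98387 5
 (Tr.node Tr.leaf 98389 5
 Tr.leaf)))) 98390 6
 (Tr.node (Tr.node (Tr.node (Tr.node (Tr.node Tr.leaf 98393 5
 Tr.leaf) 98394 6
 Tr.leaf) 98396 6
 (Tr.node (Tr.node Tr.leaf 98400 4
 Tr.leaf) 98403 6
 Tr.leaf)) 98406 5
 (Tr.node (Tr.node (Tr.node Tr.leaf 98412 6
 Tr.leaf) 98418 6
 Tr.leaf) 98423 6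
 (Tr.node Tr.leaf 98429 7
 Tr.leaf))) 98433 4
 (Tr.node (Tr.node (Tr.node (Tr.node Tr.leaf 98434 4
 Tr.leaf) 98436 4
 Tr.leaf) 98439 6
 (Tr.node (Tr.node Tr.leaf 98440 4
 Tr.leaf) 98445 7
 Tr.leaf)) 98448 4
 (Tr.node (Tr.node (Tr.node Tr.leaf 98454 6
 Tr.leaf) 98464 4
 Tr.leaf) 98467 6
 (Tr.node Tr.leaf 98470 5
 Tr.leaf)))))) 98476 5
 (Tr.node (Tr.node (Tr.node (Tr.node (Tr.node (Tr.node (Tr.node Tr.leaf 98479 6
 Tr.leaf) 98481 6
 Tr.leaf) 98482 6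
 (Tr.node (Tr.node Tr.leaf 98487 6
 Tr.leaf) 98491 6
 Tr.leaf)) 98494 6
 (Tr.node (Tr.node (Tr.node Tr.leaf 98497 4
 Tr.leaf) 98498 4
 Tr.leaf) 98500 4
 (Tr.node (Tr.node Tr.leaf 98504 4
 Tr.leaf) 98510 7
 Tr.leaf))) 98512 4
 (Tr.node (Tr.node (Tr.node (Tr.node Tr.leaf 98518 7
 Tr.leaf) 98524 6
 Tr.leaf) 98527 7
 (Tr.node (Tr.node Tr.leaf 98528 4
 Tr.leaf) 98533 6
 Tr.leaf)) 98537 7
 (Tr.node (Tr.node (Tr.node Tr.leaf 98546 7
 Tr.leaf) 98548 6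
 Tr.leaf) 98551 6
 (Tr.node Tr.leaf 98552 5
 Tr.leaf)))) 98557 6
 (Tr.node (Tr.node (Tr.node (Tr.node (Tr.node Tr.leaf 98558 6
 Tr.leaf) 98565 6
 Tr.leaf) 98566 6
 (Tr.node (Tr.node Tr.leaf 98569 6
 Tr.leaf) 98570 7
 Tr.leaf)) 98572 6
 (Tr.node (Tr.node (Tr.node Tr.leaf 98577 7
 Tr.leaf) 98580 6
 Tr.leaf) 98584 5
 (Tr.node (Tr.node Tr.leaf 98587 6
 Tr.leaf) 98589 6
 Tr.leaf))) 98593 7
 (Tr.node (Tr.node (Tr.node (Tr.node Tr.leaf 98594 6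
 Tr.leaf) 98599 7
 Tr.leaf) 98605 6
 (Tr.node (Tr.node Tr.leaf 98606 5
 Tr.leaf) 98608 6
 Tr.leaf)) 98611 6
 (Tr.node (Tr.node (Tr.node Tr.leaf 98618 6
 Tr.leaf) 98623 7
 Tr.leaf) 98630 6
 (Tr.node Tr.leaf 98633 6
 Tr.leaf))))) 98634 6
 (Tr.node (Tr.node (Tr.node (Tr.node (Tr.node (Tr.node Tr.leaf 98636 7
 Tr.leaf) 98639 6
 Tr.leaf) 98641 6
 (Tr.node (Tr.node Tr.leaf 98642 6
 Tr.leaf) 98647 6
 Tr.leaf)) 98653 6
 (Tr.node (Tr.node (Tr.node Tr.leaf 98654 6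
 Tr.leaf) 98657 6
 Tr.leaf) 98658 6
 (Tr.node (Tr.node Tr.leaf 98660 5
 Tr.leaf) 98663 7
 Tr.leaf))) 98667 7
 (Tr.node (Tr.node (Tr.node (Tr.node Tr.leaf 98672 5
 Tr.leaf) 98677 6
 Tr.leaf) 98678 6
 (Tr.node (Tr.node Tr.leaf 98681 6
 Tr.leaf) 98682 6
 Tr.leaf)) 98684 6
 (Tr.node (Tr.node (Tr.node Tr.leaf 98687 7
 Tr.leaf) 98691 6
 Tr.leaf) 98693 6
 (Tr.node Tr.leaf 98697 6
 Tr.leaf)))) 98698 6
 (Tr.node (Tr.node (Tr.node (Tr.node (Tr.node Tr.leaf 98705 7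
 Tr.leaf) 98708 7
 Tr.leaf) 98715 6
 (Tr.node (Tr.node Tr.leaf 98717 7
 Tr.leaf) 98718 6
 Tr.leaf)) 98724 5
 (Tr.node (Tr.node (Tr.node Tr.leaf 98741 7
 Tr.leaf) 98745 6
 Tr.leaf) 98746 5
 (Tr.node Tr.leaf 98761 6
 Tr.leaf))) 98764 6
 (Tr.node (Tr.node (Tr.node (Tr.node Tr.leaf 98770 6
 Tr.leaf) 98772 6
 Tr.leaf) 98775 7
 (Tr.node (Tr.node Tr.leaf 98776 5
 Tr.leaf) 98781 6
 Tr.leaf)) 98782 7
 (Tr.node (Tr.node (Tr.node Tr.leaf 98785 7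
 Tr.leaf) 98786 6
 Tr.leaf) 98788 6
 (Tr.node Tr.leaf 98791 6
 Tr.leaf))))))) 98798 6
 (Tr.node (Tr.node (Tr.node (Tr.node (Tr.node (Tr.node (Tr.node (Tr.node Tr.leaf 98805 6
 Tr.leaf) 98809 6
 Tr.leaf) 98810 6
 (Tr.node (Tr.node Tr.leaf 98812 6
 Tr.leaf) 99335 6
 Tr.leaf)) 99337 6
 (Tr.node (Tr.node (Tr.node Tr.leaf 99345 6
 Tr.leaf) 99357 7
 Tr.leaf) 99359 7
 (Tr.node (Tr.node Tr.leaf 99361 6
 Tr.leaf) 99363 6
 Tr.leaf))) 99373 6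
 (Tr.node (Tr.node (Tr.node (Tr.node Tr.leaf 99385 7
 Tr.leaf) 99387 6
 Tr.leaf) 99397 6
 (Tr.node (Tr.node Tr.leaf 99421 6
 Tr.leaf) 99425 6
 Tr.leaf)) 99437 7
 (Tr.node (Tr.node (Tr.node Tr.leaf 99439 7
 Tr.leaf) 99445 6
 Tr.leaf) 99449 6
 (Tr.node Tr.leaf 99467 6
 Tr.leaf)))) 99475 6
 (Tr.node (Tr.node (Tr.node (Tr.node (Tr.node Tr.leaf 99485 6
 Tr.leaf) 99491 6
 Tr.leaf) 99501 7
 (Tr.node (Tr.node Tr.leaf 99509 7
 Tr.leaf) 99511 7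
 Tr.leaf)) 99527 6
 (Tr.node (Tr.node (Tr.node Tr.leaf 99529 6
 Tr.leaf) 99537 6
 Tr.leaf) 99549 6
 (Tr.node (Tr.node Tr.leaf 99551 7
 Tr.leaf) 99553 6
 Tr.leaf))) 99555 6
 (Tr.node (Tr.node (Tr.node (Tr.node Tr.leaf 99565 7
 Tr.leaf) 99567 6
 Tr.leaf) 99573 6
 (Tr.node (Tr.node Tr.leaf 99575 7
 Tr.leaf) 99577 6
 Tr.leaf)) 99579 7
 (Tr.node (Tr.node (Tr.node Tr.leaf 99587 6
 Tr.leaf) 99597 7
 Tr.leaf) 99605 6
 (Tr.node Tr.leaf 99609 6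
 Tr.leaf))))) 99611 7
 (Tr.node (Tr.node (Tr.node (Tr.node (Tr.node (Tr.node Tr.leaf 99621 7
 Tr.leaf) 99625 7
 Tr.leaf) 99627 7
 (Tr.node (Tr.node Tr.leaf 99633 7
 Tr.leaf) 99635 7
 Tr.leaf)) 99645 8
 (Tr.node (Tr.node (Tr.node Tr.leaf 99649 6
 Tr.leaf) 99661 6
 Tr.leaf) 99663 6
 (Tr.node (Tr.node Tr.leaf 99669 7
 Tr.leaf) 99671 7
 Tr.leaf))) 99673 7
 (Tr.node (Tr.node (Tr.node (Tr.node Tr.leaf 99685 6
 Tr.leaf) 99689 6
 Tr.leaf) 99691 7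
 (Tr.node (Tr.node Tr.leaf 99699 7
 Tr.leaf) 99727 7
 Tr.leaf)) 99735 7
 (Tr.node (Tr.node (Tr.node Tr.leaf 99737 7
 Tr.leaf) 99751 6
 Tr.leaf) 99761 7
 (Tr.node Tr.leaf 99763 7
 Tr.leaf)))) 99779 6
 (Tr.node (Tr.node (Tr.node (Tr.node (Tr.node Tr.leaf 99789 6
 Tr.leaf) 99791 7
 Tr.leaf) 99797 7
 (Tr.node (Tr.node Tr.leaf 99799 6
 Tr.leaf) 99801 7
 Tr.leaf)) 99803 6
 (Tr.node (Tr.node (Tr.node Tr.leaf 99813 6
 Tr.leaf) 99815 7
 Tr.leaf) 99817 6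
 (Tr.node Tr.leaf 99827 7
 Tr.leaf))) 99839 8
 (Tr.node (Tr.node (Tr.node (Tr.node Tr.leaf 100361 7
 Tr.leaf) 100366 6
 Tr.leaf) 100370 6
 (Tr.node (Tr.node Tr.leaf 100374 7
 Tr.leaf) 100383 7
 Tr.leaf)) 100385 6
 (Tr.node (Tr.node (Tr.node Tr.leaf 100390 5
 Tr.leaf) 100395 5
 Tr.leaf) 100403 6
 (Tr.node Tr.leaf 100407 7
 Tr.leaf)))))) 100410 5
 (Tr.node (Tr.node (Tr.node (Tr.node (Tr.node (Tr.node (Tr.node Tr.leaf 100413 6
 Tr.leaf) 100429 7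
 Tr.leaf) 100434 7
 (Tr.node (Tr.node Tr.leaf 100453 6
 Tr.leaf) 100459 6
 Tr.leaf)) 100467 6
 (Tr.node (Tr.node (Tr.node Tr.leaf 100471 6
 Tr.leaf) 100473 6
 Tr.leaf) 100474 6
 (Tr.node (Tr.node Tr.leaf 100477 7
 Tr.leaf) 100483 6
 Tr.leaf))) 100487 6
 (Tr.node (Tr.node (Tr.node (Tr.node Tr.leaf 100493 7
 Tr.leaf) 100494 6
 Tr.leaf) 100497 6
 (Tr.node (Tr.node Tr.leaf 100498 7
 Tr.leaf) 100507 6
 Tr.leaf)) 100511 6
 (Tr.node (Tr.node (Tr.node Tr.leaf 100517 6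
 Tr.leaf) 100527 7
 Tr.leaf) 100542 6
 (Tr.node Tr.leaf 100553 7
 Tr.leaf)))) 100557 7
 (Tr.node (Tr.node (Tr.node (Tr.node (Tr.node Tr.leaf 100561 6
 Tr.leaf) 100566 6
 Tr.leaf) 100571 7
 (Tr.node (Tr.node Tr.leaf 100578 5
 Tr.leaf) 100587 6
 Tr.leaf)) 100591 6
 (Tr.node (Tr.node (Tr.node Tr.leaf 100599 6
 Tr.leaf) 100601 6
 Tr.leaf) 100602 6
 (Tr.node (Tr.node Tr.leaf 100605 6
 Tr.leaf) 100606 6
 Tr.leaf))) 100619 6
 (Tr.node (Tr.node (Tr.node (Tr.node Tr.leaf 100623 7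
 Tr.leaf) 100631 6
 Tr.leaf) 100634 6
 (Tr.node (Tr.node Tr.leaf 100643 6
 Tr.leaf) 100647 5
 Tr.leaf)) 100653 7
 (Tr.node (Tr.node (Tr.node Tr.leaf 100658 6
 Tr.leaf) 100661 7
 Tr.leaf) 100662 7
 (Tr.node Tr.leaf 100667 7
 Tr.leaf))))) 100671 8
 (Tr.node (Tr.node (Tr.node (Tr.node (Tr.node (Tr.node Tr.leaf 100677 6
 Tr.leaf) 100687 7
 Tr.leaf) 100691 5
 (Tr.node (Tr.node Tr.leaf 100695 6
 Tr.leaf) 100698 6
 Tr.leaf)) 100702 6
 (Tr.node (Tr.node (Tr.node Tr.leaf 100711 7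
 Tr.leaf) 100714 6
 Tr.leaf) 100717 7
 (Tr.node (Tr.node Tr.leaf 100718 6
 Tr.leaf) 100721 6
 Tr.leaf))) 100722 6
 (Tr.node (Tr.node (Tr.node (Tr.node Tr.leaf 100725 6
 Tr.leaf) 100726 6
 Tr.leaf) 100731 7
 (Tr.node (Tr.node Tr.leaf 100742 6
 Tr.leaf) 100747 7
 Tr.leaf)) 100755 6
 (Tr.node (Tr.node (Tr.node Tr.leaf 100759 7
 Tr.leaf) 100761 7
 Tr.leaf) 100762 6
 (Tr.node Tr.leaf 100766 5
 Tr.leaf)))) 100778 6
 (Tr.node (Tr.node (Tr.node (Tr.node (Tr.node Tr.leaf 100781 7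
 Tr.leaf) 100782 6
 Tr.leaf) 100786 6
 (Tr.node (Tr.node Tr.leaf 100790 6
 Tr.leaf) 100795 8
 Tr.leaf)) 100799 8
 (Tr.node (Tr.node (Tr.node Tr.leaf 100805 6
 Tr.leaf) 100806 6
 Tr.leaf) 100811 7
 (Tr.node Tr.leaf 100825 7
 Tr.leaf))) 100826 7
 (Tr.node (Tr.node (Tr.node (Tr.node Tr.leaf 100829 7
 Tr.leaf) 100830 6
 Tr.leaf) 100835 6
 (Tr.node (Tr.node Tr.leaf 100839 7
 Tr.leaf) 100842 7
 Tr.leaf)) 100845 7
 (Tr.node (Tr.node (Tr.node Tr.leaf 100849 7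
 Tr.leaf) 100854 6
 Tr.leaf) 101379 6
 (Tr.node Tr.leaf 101383 6
 Tr.leaf))))))))

/-- A subtree. -/
def tr1_s25 : Tr := (Tr.node (Tr.node (Tr.node (Tr.node (Tr.node (Tr.node (Tr.node (Tr.node (Tr.node Tr.leaf 101403 7
 Tr.leaf) 101405 7
 Tr.leaf) 101407 7
 (Tr.node (Tr.node Tr.leaf 101417 7
 Tr.leaf) 101419 7
 Tr.leaf)) 101421 7
 (Tr.node (Tr.node (Tr.node Tr.leaf 101429 7
 Tr.leaf) 101431 6
 Tr.leaf) 101441 6
 (Tr.node (Tr.node Tr.leaf 101445 6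
 Tr.leaf) 101469 7
 Tr.leaf))) 101485 7
 (Tr.node (Tr.node (Tr.node (Tr.node Tr.leaf 101487 7
 Tr.leaf) 101491 6
 Tr.leaf) 101493 7
 (Tr.node (Tr.node Tr.leaf 101495 7
 Tr.leaf) 101533 6
 Tr.leaf)) 101535 7
 (Tr.node (Tr.node (Tr.node Tr.leaf 101547 7
 Tr.leaf) 101549 7
 Tr.leaf) 101557 7
 (Tr.node Tr.leaf 101571 6
 Tr.leaf)))) 101575 6
 (Tr.node (Tr.node (Tr.node (Tr.node (Tr.node Tr.leaf 101593 7
 Tr.leaf) 101595 7
 Tr.leaf) 101597 7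
 (Tr.node (Tr.node Tr.leaf 101599 7
 Tr.leaf) 101615 7
 Tr.leaf)) 101617 6
 (Tr.node (Tr.node (Tr.node Tr.leaf 101619 7
 Tr.leaf) 101621 6
 Tr.leaf) 101641 7
 (Tr.node (Tr.node Tr.leaf 101643 7
 Tr.leaf) 101649 7
 Tr.leaf))) 101651 6
 (Tr.node (Tr.node (Tr.node (Tr.node Tr.leaf 101665 7
 Tr.leaf) 101667 7
 Tr.leaf) 101669 7
 (Tr.node (Tr.node Tr.leaf 101695 8
 Tr.leaf) 101707 7
 Tr.leaf)) 101713 6
 (Tr.node (Tr.node (Tr.node Tr.leaf 101715 5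
 Tr.leaf) 101731 6
 Tr.leaf) 101755 7
 (Tr.node Tr.leaf 101757 8
 Tr.leaf))))) 101771 7
 (Tr.node (Tr.node (Tr.node (Tr.node (Tr.node (Tr.node Tr.leaf 101773 6
 Tr.leaf) 101775 6
 Tr.leaf) 101777 6
 (Tr.node (Tr.node Tr.leaf 101779 6
 Tr.leaf) 101781 5
 Tr.leaf)) 101783 6
 (Tr.node (Tr.node (Tr.node Tr.leaf 101793 6
 Tr.leaf) 101795 7
 Tr.leaf) 101799 7
 (Tr.node (Tr.node Tr.leaf 101819 8
 Tr.leaf) 101823 8
 Tr.leaf))) 101833 6
 (Tr.node (Tr.node (Tr.node (Tr.node Tr.leaf 101837 7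
 Tr.leaf) 101841 6
 Tr.leaf) 101857 7
 (Tr.node (Tr.node Tr.leaf 101861 7
 Tr.leaf) 101881 7
 Tr.leaf)) 102406 7
 (Tr.node (Tr.node (Tr.node Tr.leaf 102413 7
 Tr.leaf) 102425 6
 Tr.leaf) 102426 6
 (Tr.node Tr.leaf 102428 6
 Tr.leaf)))) 102434 6
 (Tr.node (Tr.node (Tr.node (Tr.node (Tr.node Tr.leaf 102441 7
 Tr.leaf) 102447 6
 Tr.leaf) 102462 6
 (Tr.node (Tr.node Tr.leaf 102467 6
 Tr.leaf) 102469 7
 Tr.leaf)) 102475 5
 (Tr.node (Tr.node (Tr.node Tr.leaf 102484 6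
 Tr.leaf) 102487 7
 Tr.leaf) 102497 7
 (Tr.node Tr.leaf 102498 5
 Tr.leaf))) 102500 5
 (Tr.node (Tr.node (Tr.node (Tr.node Tr.leaf 102505 6
 Tr.leaf) 102508 5
 Tr.leaf) 102511 6
 (Tr.node (Tr.node Tr.leaf 102515 6
 Tr.leaf) 102517 6
 Tr.leaf)) 102525 7
 (Tr.node (Tr.node (Tr.node Tr.leaf 102526 7
 Tr.leaf) 102533 7
 Tr.leaf) 102534 6
 (Tr.node Tr.leaf 102545 6
 Tr.leaf)))))) 102546 6
 (Tr.node (Tr.node (Tr.node (Tr.node (Tr.node (Tr.node (Tr.node Tr.leaf 102548 6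
 Tr.leaf) 102551 7
 Tr.leaf) 102556 5
 (Tr.node (Tr.node Tr.leaf 102559 7
 Tr.leaf) 102561 7
 Tr.leaf)) 102564 5
 (Tr.node (Tr.node (Tr.node Tr.leaf 102569 7
 Tr.leaf) 102570 6
 Tr.leaf) 102572 6
 (Tr.node (Tr.node Tr.leaf 102579 6
 Tr.leaf) 102581 7
 Tr.leaf))) 102587 6
 (Tr.node (Tr.node (Tr.node (Tr.node Tr.leaf 102589 6
 Tr.leaf) 102597 7
 Tr.leaf) 102605 7
 (Tr.node (Tr.node Tr.leaf 102615 6
 Tr.leaf) 102617 6
 Tr.leaf)) 102618 6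
 (Tr.node (Tr.node (Tr.node Tr.leaf 102620 6
 Tr.leaf) 102625 7
 Tr.leaf) 102631 6
 (Tr.node Tr.leaf 102634 5
 Tr.leaf)))) 102639 7
 (Tr.node (Tr.node (Tr.node (Tr.node (Tr.node Tr.leaf 102643 6
 Tr.leaf) 102645 7
 Tr.leaf) 102646 6
 (Tr.node (Tr.node Tr.leaf 102653 7
 Tr.leaf) 102654 7
 Tr.leaf)) 102658 6
 (Tr.node (Tr.node (Tr.node Tr.leaf 102660 7
 Tr.leaf) 102665 6
 Tr.leaf) 102677 6
 (Tr.node (Tr.node Tr.leaf 102678 5
 Tr.leaf) 102685 7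
 Tr.leaf))) 102691 5
 (Tr.node (Tr.node (Tr.node (Tr.node Tr.leaf 102701 7
 Tr.leaf) 102708 6
 Tr.leaf) 102713 7
 (Tr.node (Tr.node Tr.leaf 102714 6
 Tr.leaf) 102716 6
 Tr.leaf)) 102729 6
 (Tr.node (Tr.node (Tr.node Tr.leaf 102730 6
 Tr.leaf) 102732 6
 Tr.leaf) 102735 6
 (Tr.node Tr.leaf 102739 7
 Tr.leaf))))) 102742 6
 (Tr.node (Tr.node (Tr.node (Tr.node (Tr.node (Tr.node Tr.leaf 102749 7
 Tr.leaf) 102750 6
 Tr.leaf) 102755 6
 (Tr.node (Tr.node Tr.leaf 102765 6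
 Tr.leaf) 102766 6
 Tr.leaf)) 102785 6
 (Tr.node (Tr.node (Tr.node Tr.leaf 102788 6
 Tr.leaf) 102794 7
 Tr.leaf) 102796 7
 (Tr.node (Tr.node Tr.leaf 102799 7
 Tr.leaf) 102803 6
 Tr.leaf))) 102806 5
 (Tr.node (Tr.node (Tr.node (Tr.node Tr.leaf 102814 6
 Tr.leaf) 102819 7
 Tr.leaf) 102821 6
 (Tr.node (Tr.node Tr.leaf 102829 7
 Tr.leaf) 102833 6
 Tr.leaf)) 102836 7
 (Tr.node (Tr.node (Tr.node Tr.leaf 102841 6
 Tr.leaf) 102842 6
 Tr.leaf) 102844 7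
 (Tr.node Tr.leaf 102849 6
 Tr.leaf)))) 102850 7
 (Tr.node (Tr.node (Tr.node (Tr.node (Tr.node Tr.leaf 102852 7
 Tr.leaf) 102855 6
 Tr.leaf) 102858 6
 (Tr.node (Tr.node Tr.leaf 102863 6
 Tr.leaf) 102867 6
 Tr.leaf)) 102878 6
 (Tr.node (Tr.node (Tr.node Tr.leaf 102891 6
 Tr.leaf) 102893 7
 Tr.leaf) 102894 7
 (Tr.node Tr.leaf 102897 6
 Tr.leaf))) 102898 6
 (Tr.node (Tr.node (Tr.node (Tr.node Tr.leaf 102900 6
 Tr.leaf) 102903 7
 Tr.leaf) 102905 7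
 (Tr.node (Tr.node Tr.leaf 102906 7
 Tr.leaf) 102908 6
 Tr.leaf)) 102911 8
 (Tr.node (Tr.node (Tr.node Tr.leaf 103425 6
 Tr.leaf) 103433 6
 Tr.leaf) 103447 6
 (Tr.node Tr.leaf 103455 7
 Tr.leaf))))))) 103461 7
 (Tr.node (Tr.node (Tr.node (Tr.node (Tr.node (Tr.node (Tr.node (Tr.node Tr.leaf 103471 7
 Tr.leaf) 103475 7
 Tr.leaf) 103483 7
 (Tr.node (Tr.node Tr.leaf 103509 7
 Tr.leaf) 103511 6
 Tr.leaf)) 103517 6
 (Tr.node (Tr.node (Tr.node Tr.leaf 103527 7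
 Tr.leaf) 103537 7
 Tr.leaf) 103545 7
 (Tr.node (Tr.node Tr.leaf 103547 6
 Tr.leaf) 103555 6
 Tr.leaf))) 103563 6
 (Tr.node (Tr.node (Tr.node (Tr.node Tr.leaf 103581 7
 Tr.leaf) 103583 7
 Tr.leaf) 103589 7
 (Tr.node (Tr.node Tr.leaf 103599 7
 Tr.leaf) 103609 6
 Tr.leaf)) 103611 7
 (Tr.node (Tr.node (Tr.node Tr.leaf 103617 6
 Tr.leaf) 103625 6
 Tr.leaf) 103647 7
 (Tr.node Tr.leaf 103653 7
 Tr.leaf)))) 103655 7
 (Tr.node (Tr.node (Tr.node (Tr.node (Tr.node Tr.leaf 103663 7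
 Tr.leaf) 103667 7
 Tr.leaf) 103675 7
 (Tr.node (Tr.node Tr.leaf 103685 7
 Tr.leaf) 103687 7
 Tr.leaf)) 103693 7
 (Tr.node (Tr.node (Tr.node Tr.leaf 103699 6
 Tr.leaf) 103707 6
 Tr.leaf) 103721 7
 (Tr.node (Tr.node Tr.leaf 103735 7
 Tr.leaf) 103743 8
 Tr.leaf))) 103749 7
 (Tr.node (Tr.node (Tr.node (Tr.node Tr.leaf 103751 6
 Tr.leaf) 103757 7
 Tr.leaf) 103763 5
 (Tr.node (Tr.node Tr.leaf 103769 6
 Tr.leaf) 103771 6
 Tr.leaf)) 103777 6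
 (Tr.node (Tr.node (Tr.node Tr.leaf 103779 7
 Tr.leaf) 103785 6
 Tr.leaf) 103805 7
 (Tr.node Tr.leaf 103815 7
 Tr.leaf))))) 103823 7
 (Tr.node (Tr.node (Tr.node (Tr.node (Tr.node (Tr.node Tr.leaf 103833 5
 Tr.leaf) 103835 6
 Tr.leaf) 103841 7
 (Tr.node (Tr.node Tr.leaf 103843 6
 Tr.leaf) 103849 6
 Tr.leaf)) 103863 8
 (Tr.node (Tr.node (Tr.node Tr.leaf 103869 7
 Tr.leaf) 103877 7
 Tr.leaf) 103879 7
 (Tr.node (Tr.node Tr.leaf 103887 7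
 Tr.leaf) 103897 6
 Tr.leaf))) 103899 7
 (Tr.node (Tr.node (Tr.node (Tr.node Tr.leaf 103905 7
 Tr.leaf) 103907 7
 Tr.leaf) 103925 8
 (Tr.node (Tr.node Tr.leaf 104449 7
 Tr.leaf) 104453 7
 Tr.leaf)) 104458 6
 (Tr.node (Tr.node (Tr.node Tr.leaf 104461 7
 Tr.leaf) 104467 6
 Tr.leaf) 104471 6
 (Tr.node Tr.leaf 104483 7
 Tr.leaf)))) 104487 7
 (Tr.node (Tr.node (Tr.node (Tr.node (Tr.node Tr.leaf 104495 7
 Tr.leaf) 104506 6
 Tr.leaf) 104509 7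
 (Tr.node (Tr.node Tr.leaf 104510 6
 Tr.leaf) 104513 7
 Tr.leaf)) 104514 6
 (Tr.node (Tr.node (Tr.node Tr.leaf 104521 7
 Tr.leaf) 104525 7
 Tr.leaf) 104526 6
 (Tr.node Tr.leaf 104531 7
 Tr.leaf))) 104535 7
 (Tr.node (Tr.node (Tr.node (Tr.node Tr.leaf 104539 6
 Tr.leaf) 104551 6
 Tr.leaf) 104555 6
 (Tr.node (Tr.node Tr.leaf 104559 6
 Tr.leaf) 104561 7
 Tr.leaf)) 104565 7
 (Tr.node (Tr.node (Tr.node Tr.leaf 104566 7
 Tr.leaf) 104573 7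
 Tr.leaf) 104574 6
 (Tr.node Tr.leaf 104577 7
 Tr.leaf)))))) 104585 7
 (Tr.node (Tr.node (Tr.node (Tr.node (Tr.node (Tr.node (Tr.node Tr.leaf 104586 7
 Tr.leaf) 104589 7
 Tr.leaf) 104595 7
 (Tr.node (Tr.node Tr.leaf 104603 6
 Tr.leaf) 104607 7
 Tr.leaf)) 104611 7
 (Tr.node (Tr.node (Tr.node Tr.leaf 104615 6
 Tr.leaf) 104623 7
 Tr.leaf) 104626 5
 (Tr.node (Tr.node Tr.leaf 104638 7
 Tr.leaf) 104642 6
 Tr.leaf))) 104645 7
 (Tr.node (Tr.node (Tr.node (Tr.node Tr.leaf 104649 7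
 Tr.leaf) 104654 6
 Tr.leaf) 104663 6
 (Tr.node (Tr.node Tr.leaf 104683 7
 Tr.leaf) 104689 7
 Tr.leaf)) 104690 6
 (Tr.node (Tr.node (Tr.node Tr.leaf 104694 6
 Tr.leaf) 104697 7
 Tr.leaf) 104701 7
 (Tr.node Tr.leaf 104707 6
 Tr.leaf)))) 104719 6
 (Tr.node (Tr.node (Tr.node (Tr.node (Tr.node Tr.leaf 104721 6
 Tr.leaf) 104722 6
 Tr.leaf) 104725 7
 (Tr.node (Tr.node Tr.leaf 104726 6
 Tr.leaf) 104729 7
 Tr.leaf)) 104730 6
 (Tr.node (Tr.node (Tr.node Tr.leaf 104733 7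
 Tr.leaf) 104737 7
 Tr.leaf) 104738 7
 (Tr.node Tr.leaf 104741 5
 Tr.leaf))) 104746 6
 (Tr.node (Tr.node (Tr.node (Tr.node Tr.leaf 104750 7
 Tr.leaf) 104755 8
 Tr.leaf) 104759 8
 (Tr.node (Tr.node Tr.leaf 104763 8
 Tr.leaf) 104767 7
 Tr.leaf)) 104771 6
 (Tr.node (Tr.node (Tr.node Tr.leaf 104775 7
 Tr.leaf) 104779 5
 Tr.leaf) 104783 6
 (Tr.node Tr.leaf 104785 5
 Tr.leaf))))) 104786 7
 (Tr.node (Tr.node (Tr.node (Tr.node (Tr.node (Tr.node Tr.leaf 104790 7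
 Tr.leaf) 104797 6
 Tr.leaf) 104798 7
 (Tr.node (Tr.node Tr.leaf 104802 6
 Tr.leaf) 104805 6
 Tr.leaf)) 104806 7
 (Tr.node (Tr.node (Tr.node Tr.leaf 104809 6
 Tr.leaf) 104810 6
 Tr.leaf) 104813 6
 (Tr.node (Tr.node Tr.leaf 104814 6
 Tr.leaf) 104819 8
 Tr.leaf))) 104823 7
 (Tr.node (Tr.node (Tr.node (Tr.node Tr.leaf 104827 7
 Tr.leaf) 104835 7
 Tr.leaf) 104843 6
 (Tr.node (Tr.node Tr.leaf 104849 7
 Tr.leaf) 104861 5
 Tr.leaf)) 104865 7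
 (Tr.node (Tr.node (Tr.node Tr.leaf 104870 6
 Tr.leaf) 104873 7
 Tr.leaf) 104878 6
 (Tr.node Tr.leaf 104899 7
 Tr.leaf)))) 104914 7
 (Tr.node (Tr.node (Tr.node (Tr.node (Tr.node Tr.leaf 104918 6
 Tr.leaf) 104921 6
 Tr.leaf) 104922 6
 (Tr.node (Tr.node Tr.leaf 104926 6
 Tr.leaf) 104929 7
 Tr.leaf)) 104933 6
 (Tr.node (Tr.node (Tr.node Tr.leaf 104934 6
 Tr.leaf) 104937 6
 Tr.leaf) 104951 7
 (Tr.node Tr.leaf 104955 7
 Tr.leaf))) 105489 7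
 (Tr.node (Tr.node (Tr.node (Tr.node Tr.leaf 105491 6
 Tr.leaf) 105503 7
 Tr.leaf) 105507 7
 (Tr.node (Tr.node Tr.leaf 105511 7
 Tr.leaf) 105513 7
 Tr.leaf)) 105515 6
 (Tr.node (Tr.node (Tr.node Tr.leaf 105553 7
 Tr.leaf) 105557 7
 Tr.leaf) 105559 7
 (Tr.node Tr.leaf 105561 6
 Tr.leaf))))))))

/-- A subtree. -/
def tr1_s26 : Tr := (Tr.node (Tr.node (Tr.node (Tr.node (Tr.node (Tr.node (Tr.node (Tr.node (Tr.node Tr.leaf 105567 6
 Tr.leaf) 105569 7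
 Tr.leaf) 105571 6
 (Tr.node (Tr.node Tr.leaf 105573 6
 Tr.leaf) 105581 7
 Tr.leaf)) 105583 6
 (Tr.node (Tr.node (Tr.node Tr.leaf 105625 6
 Tr.leaf) 105627 6
 Tr.leaf) 105631 7
 (Tr.node (Tr.node Tr.leaf 105633 6
 Tr.leaf) 105639 7
 Tr.leaf))) 105643 6
 (Tr.node (Tr.node (Tr.node (Tr.node Tr.leaf 105645 6
 Tr.leaf) 105647 7
 Tr.leaf) 105683 6
 (Tr.node (Tr.node Tr.leaf 105685 7
 Tr.leaf) 105687 6
 Tr.leaf)) 105691 7
 (Tr.node (Tr.node (Tr.node Tr.leaf 105697 7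
 Tr.leaf) 105701 6
 Tr.leaf) 105707 7
 (Tr.node Tr.leaf 105709 7
 Tr.leaf)))) 105731 7
 (Tr.node (Tr.node (Tr.node (Tr.node (Tr.node Tr.leaf 105733 6
 Tr.leaf) 105737 7
 Tr.leaf) 105739 6
 (Tr.node (Tr.node Tr.leaf 105741 6
 Tr.leaf) 105779 7
 Tr.leaf)) 105785 7
 (Tr.node (Tr.node (Tr.node Tr.leaf 105797 7
 Tr.leaf) 105803 6
 Tr.leaf) 105843 8
 (Tr.node (Tr.node Tr.leaf 105845 7
 Tr.leaf) 105849 7
 Tr.leaf))) 105851 7
 (Tr.node (Tr.node (Tr.node (Tr.node Tr.leaf 105855 8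
 Tr.leaf) 105857 6
 Tr.leaf) 105859 7
 (Tr.node (Tr.node Tr.leaf 105861 7
 Tr.leaf) 105865 6
 Tr.leaf)) 105871 6
 (Tr.node (Tr.node (Tr.node Tr.leaf 105905 8
 Tr.leaf) 105913 7
 Tr.leaf) 105917 8
 (Tr.node Tr.leaf 105919 7
 Tr.leaf))))) 105925 7
 (Tr.node (Tr.node (Tr.node (Tr.node (Tr.node (Tr.node Tr.leaf 105929 6
 Tr.leaf) 105933 7
 Tr.leaf) 105935 7
 (Tr.node (Tr.node Tr.leaf 105973 7
 Tr.leaf) 105977 7
 Tr.leaf)) 105979 8
 (Tr.node (Tr.node (Tr.node Tr.leaf 106502 6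
 Tr.leaf) 106505 6
 Tr.leaf) 106506 6
 (Tr.node (Tr.node Tr.leaf 106508 6
 Tr.leaf) 106518 6
 Tr.leaf))) 106527 6
 (Tr.node (Tr.node (Tr.node (Tr.node Tr.leaf 106530 6
 Tr.leaf) 106539 6
 Tr.leaf) 106541 6
 (Tr.node (Tr.node Tr.leaf 106542 5
 Tr.leaf) 106546 7
 Tr.leaf)) 106551 5
 (Tr.node (Tr.node (Tr.node Tr.leaf 106555 6
 Tr.leaf) 106558 5
 Tr.leaf) 106563 6
 (Tr.node Tr.leaf 106579 6
 Tr.leaf)))) 106582 6
 (Tr.node (Tr.node (Tr.node (Tr.node (Tr.node Tr.leaf 106588 5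
 Tr.leaf) 106591 7
 Tr.leaf) 106593 6
 (Tr.node (Tr.node Tr.leaf 106594 7
 Tr.leaf) 106599 6
 Tr.leaf)) 106606 6
 (Tr.node (Tr.node (Tr.node Tr.leaf 106616 6
 Tr.leaf) 106621 5
 Tr.leaf) 106636 6
 (Tr.node Tr.leaf 106639 7
 Tr.leaf))) 106645 6
 (Tr.node (Tr.node (Tr.node (Tr.node Tr.leaf 106646 7
 Tr.leaf) 106649 6
 Tr.leaf) 106650 6
 (Tr.node (Tr.node Tr.leaf 106652 6
 Tr.leaf) 106655 6
 Tr.leaf)) 106658 7
 (Tr.node (Tr.node (Tr.node Tr.leaf 106663 7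
 Tr.leaf) 106664 5
 Tr.leaf) 106667 7
 (Tr.node Tr.leaf 106669 6
 Tr.leaf)))))) 106670 7
 (Tr.node (Tr.node (Tr.node (Tr.node (Tr.node (Tr.node (Tr.node Tr.leaf 106679 6
 Tr.leaf) 106683 6
 Tr.leaf) 106685 7
 (Tr.node (Tr.node Tr.leaf 106686 6
 Tr.leaf) 106694 6
 Tr.leaf)) 106697 6
 (Tr.node (Tr.node (Tr.node Tr.leaf 106698 6
 Tr.leaf) 106700 6
 Tr.leaf) 106709 6
 (Tr.node (Tr.node Tr.leaf 106721 6
 Tr.leaf) 106724 6
 Tr.leaf))) 106727 7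
 (Tr.node (Tr.node (Tr.node (Tr.node Tr.leaf 106734 6
 Tr.leaf) 106738 6
 Tr.leaf) 106740 6
 (Tr.node (Tr.node Tr.leaf 106747 6
 Tr.leaf) 106749 7
 Tr.leaf)) 106750 6
 (Tr.node (Tr.node (Tr.node Tr.leaf 106753 7
 Tr.leaf) 106754 5
 Tr.leaf) 106756 7
 (Tr.node Tr.leaf 106770 6
 Tr.leaf)))) 106779 6
 (Tr.node (Tr.node (Tr.node (Tr.node (Tr.node Tr.leaf 106782 6
 Tr.leaf) 106789 6
 Tr.leaf) 106790 6
 (Tr.node (Tr.node Tr.leaf 106793 5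
 Tr.leaf) 106794 5
 Tr.leaf)) 106799 7
 (Tr.node (Tr.node (Tr.node Tr.leaf 106806 6
 Tr.leaf) 106809 6
 Tr.leaf) 106810 5
 (Tr.node (Tr.node Tr.leaf 106812 5
 Tr.leaf) 106815 7
 Tr.leaf))) 106820 6
 (Tr.node (Tr.node (Tr.node (Tr.node Tr.leaf 106823 7
 Tr.leaf) 106830 5
 Tr.leaf) 106833 7
 (Tr.node (Tr.node Tr.leaf 106834 5
 Tr.leaf) 106836 7
 Tr.leaf)) 106839 7
 (Tr.node (Tr.node (Tr.node Tr.leaf 106840 6
 Tr.leaf) 106843 6
 Tr.leaf) 106846 7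
 (Tr.node Tr.leaf 106851 6
 Tr.leaf))))) 106853 7
 (Tr.node (Tr.node (Tr.node (Tr.node (Tr.node (Tr.node Tr.leaf 106854 6
 Tr.leaf) 106860 6
 Tr.leaf) 106863 7
 (Tr.node (Tr.node Tr.leaf 106867 7
 Tr.leaf) 106869 7
 Tr.leaf)) 106870 7
 (Tr.node (Tr.node (Tr.node Tr.leaf 106873 6
 Tr.leaf) 106874 6
 Tr.leaf) 106876 7
 (Tr.node (Tr.node Tr.leaf 106882 5
 Tr.leaf) 106888 6
 Tr.leaf))) 106891 6
 (Tr.node (Tr.node (Tr.node (Tr.node Tr.leaf 106893 7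
 Tr.leaf) 106897 7
 Tr.leaf) 106898 6
 (Tr.node (Tr.node Tr.leaf 106900 6
 Tr.leaf) 106907 7
 Tr.leaf)) 106909 7
 (Tr.node (Tr.node (Tr.node Tr.leaf 106910 6
 Tr.leaf) 106915 7
 Tr.leaf) 106917 7
 (Tr.node Tr.leaf 106927 8
 Tr.leaf)))) 106933 7
 (Tr.node (Tr.node (Tr.node (Tr.node (Tr.node Tr.leaf 106934 6
 Tr.leaf) 106940 6
 Tr.leaf) 106945 7
 (Tr.node (Tr.node Tr.leaf 106948 7
 Tr.leaf) 106957 7
 Tr.leaf)) 106958 5
 (Tr.node (Tr.node (Tr.node Tr.leaf 106961 7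
 Tr.leaf) 106962 6
 Tr.leaf) 106967 7
 (Tr.node Tr.leaf 106971 6
 Tr.leaf))) 106973 7
 (Tr.node (Tr.node (Tr.node (Tr.node Tr.leaf 106979 6
 Tr.leaf) 106982 5
 Tr.leaf) 106985 7
 (Tr.node (Tr.node Tr.leaf 106986 6
 Tr.leaf) 106988 6
 Tr.leaf)) 106991 8
 (Tr.node (Tr.node (Tr.node Tr.leaf 106998 6
 Tr.leaf) 107001 6
 Tr.leaf) 107002 6
 (Tr.node Tr.leaf 107521 6
 Tr.leaf))))))) 107535 7
 (Tr.node (Tr.node (Tr.node (Tr.node (Tr.node (Tr.node (Tr.node (Tr.node Tr.leaf 107537 6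
 Tr.leaf) 107549 7
 Tr.leaf) 107551 6
 (Tr.node (Tr.node Tr.leaf 107557 7
 Tr.leaf) 107559 7
 Tr.leaf)) 107563 7
 (Tr.node (Tr.node (Tr.node Tr.leaf 107573 6
 Tr.leaf) 107579 7
 Tr.leaf) 107599 6
 (Tr.node (Tr.node Tr.leaf 107613 6
 Tr.leaf) 107621 6
 Tr.leaf))) 107623 7
 (Tr.node (Tr.node (Tr.node (Tr.node Tr.leaf 107625 7
 Tr.leaf) 107637 6
 Tr.leaf) 107639 5
 (Tr.node (Tr.node Tr.leaf 107641 7
 Tr.leaf) 107643 5
 Tr.leaf)) 107651 6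
 (Tr.node (Tr.node (Tr.node Tr.leaf 107663 7
 Tr.leaf) 107667 6
 Tr.leaf) 107685 6
 (Tr.node Tr.leaf 107689 6
 Tr.leaf)))) 107703 6
 (Tr.node (Tr.node (Tr.node (Tr.node (Tr.node Tr.leaf 107713 6
 Tr.leaf) 107729 6
 Tr.leaf) 107743 6
 (Tr.node (Tr.node Tr.leaf 107755 7
 Tr.leaf) 107781 7
 Tr.leaf)) 107787 7
 (Tr.node (Tr.node (Tr.node Tr.leaf 107811 6
 Tr.leaf) 107821 7
 Tr.leaf) 107823 7
 (Tr.node (Tr.node Tr.leaf 107827 7
 Tr.leaf) 107837 7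
 Tr.leaf))) 107845 6
 (Tr.node (Tr.node (Tr.node (Tr.node Tr.leaf 107847 7
 Tr.leaf) 107851 7
 Tr.leaf) 107861 7
 (Tr.node (Tr.node Tr.leaf 107865 7
 Tr.leaf) 107867 6
 Tr.leaf)) 107873 7
 (Tr.node (Tr.node (Tr.node Tr.leaf 107891 6
 Tr.leaf) 107901 7
 Tr.leaf) 107903 8
 (Tr.node Tr.leaf 107915 7
 Tr.leaf))))) 107927 6
 (Tr.node (Tr.node (Tr.node (Tr.node (Tr.node (Tr.node Tr.leaf 107949 8
 Tr.leaf) 107953 6
 Tr.leaf) 107955 7
 (Tr.node (Tr.node Tr.leaf 107973 7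
 Tr.leaf) 107975 7
 Tr.leaf)) 107979 7
 (Tr.node (Tr.node (Tr.node Tr.leaf 107989 7
 Tr.leaf) 107991 7
 Tr.leaf) 107995 6
 (Tr.node (Tr.node Tr.leaf 108001 6
 Tr.leaf) 108003 7
 Tr.leaf))) 108013 7
 (Tr.node (Tr.node (Tr.node (Tr.node Tr.leaf 108019 6
 Tr.leaf) 108031 7
 Tr.leaf) 108545 6
 (Tr.node (Tr.node Tr.leaf 108550 6
 Tr.leaf) 108562 7
 Tr.leaf)) 108565 6
 (Tr.node (Tr.node (Tr.node Tr.leaf 108571 6
 Tr.leaf) 108583 5
 Tr.leaf) 108595 7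
 (Tr.node Tr.leaf 108601 7
 Tr.leaf)))) 108602 6
 (Tr.node (Tr.node (Tr.node (Tr.node (Tr.node Tr.leaf 108605 7
 Tr.leaf) 108606 6
 Tr.leaf) 108609 6
 (Tr.node (Tr.node Tr.leaf 108610 6
 Tr.leaf) 108614 7
 Tr.leaf)) 108623 6
 (Tr.node (Tr.node (Tr.node Tr.leaf 108629 6
 Tr.leaf) 108630 6
 Tr.leaf) 108635 7
 (Tr.node Tr.leaf 108639 7
 Tr.leaf))) 108650 6
 (Tr.node (Tr.node (Tr.node (Tr.node Tr.leaf 108654 6
 Tr.leaf) 108659 7
 Tr.leaf) 108670 6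
 (Tr.node (Tr.node Tr.leaf 108674 6
 Tr.leaf) 108677 6
 Tr.leaf)) 108678 7
 (Tr.node (Tr.node (Tr.node Tr.leaf 108683 7
 Tr.leaf) 108687 6
 Tr.leaf) 108694 6
 (Tr.node Tr.leaf 108703 7
 Tr.leaf)))))) 108707 7
 (Tr.node (Tr.node (Tr.node (Tr.node (Tr.node (Tr.node (Tr.node Tr.leaf 108714 6
 Tr.leaf) 108718 7
 Tr.leaf) 108727 7
 (Tr.node (Tr.node Tr.leaf 108729 7
 Tr.leaf) 108730 6
 Tr.leaf)) 108733 7
 (Tr.node (Tr.node (Tr.node Tr.leaf 108734 6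
 Tr.leaf) 108738 7
 Tr.leaf) 108741 6
 (Tr.node (Tr.node Tr.leaf 108754 6
 Tr.leaf) 108758 7
 Tr.leaf))) 108763 6
 (Tr.node (Tr.node (Tr.node (Tr.node Tr.leaf 108767 6
 Tr.leaf) 108771 7
 Tr.leaf) 108777 7
 (Tr.node (Tr.node Tr.leaf 108778 6
 Tr.leaf) 108782 6
 Tr.leaf)) 108787 6
 (Tr.node (Tr.node (Tr.node Tr.leaf 108793 7
 Tr.leaf) 108794 7
 Tr.leaf) 108797 6
 (Tr.node Tr.leaf 108803 7
 Tr.leaf)))) 108807 5
 (Tr.node (Tr.node (Tr.node (Tr.node (Tr.node Tr.leaf 108809 7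
 Tr.leaf) 108814 7
 Tr.leaf) 108819 7
 (Tr.node (Tr.node Tr.leaf 108830 7
 Tr.leaf) 108834 6
 Tr.leaf)) 108843 7
 (Tr.node (Tr.node (Tr.node Tr.leaf 108847 8
 Tr.leaf) 108849 7
 Tr.leaf) 108853 7
 (Tr.node (Tr.node Tr.leaf 108859 8
 Tr.leaf) 108867 6
 Tr.leaf))) 108874 6
 (Tr.node (Tr.node (Tr.node (Tr.node Tr.leaf 108878 6
 Tr.leaf) 108887 6
 Tr.leaf) 108893 6
 (Tr.node (Tr.node Tr.leaf 108897 7
 Tr.leaf) 108907 7
 Tr.leaf)) 108913 6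
 (Tr.node (Tr.node (Tr.node Tr.leaf 108931 6
 Tr.leaf) 108937 6
 Tr.leaf) 108941 7
 (Tr.node Tr.leaf 108942 7
 Tr.leaf))))) 108947 7
 (Tr.node (Tr.node (Tr.node (Tr.node (Tr.node (Tr.node Tr.leaf 108953 7
 Tr.leaf) 108954 6
 Tr.leaf) 108957 7
 (Tr.node (Tr.node Tr.leaf 108958 6
 Tr.leaf) 108962 7
 Tr.leaf)) 108966 7
 (Tr.node (Tr.node (Tr.node Tr.leaf 108975 7
 Tr.leaf) 108977 6
 Tr.leaf) 108995 6
 (Tr.node (Tr.node Tr.leaf 109001 7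
 Tr.leaf) 109005 7
 Tr.leaf))) 109011 6
 (Tr.node (Tr.node (Tr.node (Tr.node Tr.leaf 109021 7
 Tr.leaf) 109025 6
 Tr.leaf) 109026 7
 (Tr.node (Tr.node Tr.leaf 109035 7
 Tr.leaf) 109045 6
 Tr.leaf)) 109046 6
 (Tr.node (Tr.node (Tr.node Tr.leaf 109051 8
 Tr.leaf) 109055 7
 Tr.leaf) 109579 7
 (Tr.node Tr.leaf 109599 6
 Tr.leaf)))) 109607 6
 (Tr.node (Tr.node (Tr.node (Tr.node (Tr.node Tr.leaf 109617 7
 Tr.leaf) 109619 7
 Tr.leaf) 109621 6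
 (Tr.node (Tr.node Tr.leaf 109623 7
 Tr.leaf) 109641 6
 Tr.leaf)) 109645 5
 (Tr.node (Tr.node (Tr.node Tr.leaf 109647 6
 Tr.leaf) 109657 7
 Tr.leaf) 109659 7
 (Tr.node Tr.leaf 109661 7
 Tr.leaf))) 109663 7
 (Tr.node (Tr.node (Tr.node (Tr.node Tr.leaf 109671 7
 Tr.leaf) 109681 7
 Tr.leaf) 109705 7
 (Tr.node (Tr.node Tr.leaf 109707 7
 Tr.leaf) 109709 6
 Tr.leaf)) 109711 6
 (Tr.node (Tr.node (Tr.node Tr.leaf 109731 7
 Tr.leaf) 109745 6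
 Tr.leaf) 109747 6
 (Tr.node Tr.leaf 109749 7
 Tr.leaf))))))))

/-- A subtree. -/
def tr1_s27 : Tr := (Tr.node (Tr.node (Tr.node (Tr.node (Tr.node (Tr.node (Tr.node (Tr.node (Tr.node Tr.leaf 109771 7
 Tr.leaf) 109775 7
 Tr.leaf) 109785 7
 (Tr.node (Tr.node Tr.leaf 109787 6
 Tr.leaf) 109793 6
 Tr.leaf)) 109795 6
 (Tr.node (Tr.node (Tr.node Tr.leaf 109811 7
 Tr.leaf) 109813 7
 Tr.leaf) 109815 7
 (Tr.node (Tr.node Tr.leaf 109825 7
 Tr.leaf) 109827 7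
 Tr.leaf))) 109829 6
 (Tr.node (Tr.node (Tr.node (Tr.node Tr.leaf 109831 7
 Tr.leaf) 109841 7
 Tr.leaf) 109843 6
 (Tr.node (Tr.node Tr.leaf 109845 6
 Tr.leaf) 109867 8
 Tr.leaf)) 109871 7
 (Tr.node (Tr.node (Tr.node Tr.leaf 109881 8
 Tr.leaf) 109907 6
 Tr.leaf) 109947 7
 (Tr.node Tr.leaf 109951 7
 Tr.leaf)))) 109953 7
 (Tr.node (Tr.node (Tr.node (Tr.node (Tr.node Tr.leaf 109955 7
 Tr.leaf) 109959 6
 Tr.leaf) 109971 7
 (Tr.node (Tr.node Tr.leaf 109973 6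
 Tr.leaf) 109999 7
 Tr.leaf)) 110009 8
 (Tr.node (Tr.node (Tr.node Tr.leaf 110011 7
 Tr.leaf) 110021 6
 Tr.leaf) 110033 6
 (Tr.node (Tr.node Tr.leaf 110035 7
 Tr.leaf) 110037 7
 Tr.leaf))) 110063 8
 (Tr.node (Tr.node (Tr.node (Tr.node Tr.leaf 110073 6
 Tr.leaf) 110075 7
 Tr.leaf) 110077 8
 (Tr.node (Tr.node Tr.leaf 110079 8
 Tr.leaf) 110596 6
 Tr.leaf)) 110599 7
 (Tr.node (Tr.node (Tr.node Tr.leaf 110607 6
 Tr.leaf) 110609 6
 Tr.leaf) 110610 6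
 (Tr.node Tr.leaf 110612 6
 Tr.leaf))))) 110620 5
 (Tr.node (Tr.node (Tr.node (Tr.node (Tr.node (Tr.node Tr.leaf 110627 5
 Tr.leaf) 110635 6
 Tr.leaf) 110637 6
 (Tr.node (Tr.node Tr.leaf 110645 6
 Tr.leaf) 110653 7
 Tr.leaf)) 110654 6
 (Tr.node (Tr.node (Tr.node Tr.leaf 110657 6
 Tr.leaf) 110658 6
 Tr.leaf) 110660 5
 (Tr.node (Tr.node Tr.leaf 110668 5
 Tr.leaf) 110671 6
 Tr.leaf))) 110679 6
 (Tr.node (Tr.node (Tr.node (Tr.node Tr.leaf 110681 6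
 Tr.leaf) 110682 6
 Tr.leaf) 110684 6
 (Tr.node (Tr.node Tr.leaf 110693 7
 Tr.leaf) 110699 7
 Tr.leaf)) 110701 6
 (Tr.node (Tr.node (Tr.node Tr.leaf 110702 7
 Tr.leaf) 110709 6
 Tr.leaf) 110718 6
 (Tr.node Tr.leaf 110727 6
 Tr.leaf)))) 110729 6
 (Tr.node (Tr.node (Tr.node (Tr.node (Tr.node Tr.leaf 110730 6
 Tr.leaf) 110732 6
 Tr.leaf) 110740 5
 (Tr.node (Tr.node Tr.leaf 110743 6
 Tr.leaf) 110751 6
 Tr.leaf)) 110757 6
 (Tr.node (Tr.node (Tr.node Tr.leaf 110758 6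
 Tr.leaf) 110763 6
 Tr.leaf) 110771 7
 (Tr.node Tr.leaf 110773 6
 Tr.leaf))) 110779 6
 (Tr.node (Tr.node (Tr.node (Tr.node Tr.leaf 110781 7
 Tr.leaf) 110788 5
 Tr.leaf) 110799 6
 (Tr.node (Tr.node Tr.leaf 110801 6
 Tr.leaf) 110802 6
 Tr.leaf)) 110804 5
 (Tr.node (Tr.node (Tr.node Tr.leaf 110812 5
 Tr.leaf) 110815 7
 Tr.leaf) 110819 5
 (Tr.node Tr.leaf 110822 6
 Tr.leaf)))))) 110835 6
 (Tr.node (Tr.node (Tr.node (Tr.node (Tr.node (Tr.node (Tr.node Tr.leaf 110843 6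
 Tr.leaf) 110846 7
 Tr.leaf) 110851 5
 (Tr.node (Tr.node Tr.leaf 110854 7
 Tr.leaf) 110859 6
 Tr.leaf)) 110861 7
 (Tr.node (Tr.node (Tr.node Tr.leaf 110870 6
 Tr.leaf) 110877 7
 Tr.leaf) 110878 6
 (Tr.node (Tr.node Tr.leaf 110881 6
 Tr.leaf) 110887 7
 Tr.leaf))) 110889 6
 (Tr.node (Tr.node (Tr.node (Tr.node Tr.leaf 110890 6
 Tr.leaf) 110892 6
 Tr.leaf) 110895 7
 (Tr.node (Tr.node Tr.leaf 110897 7
 Tr.leaf) 110898 7
 Tr.leaf)) 110900 7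
 (Tr.node (Tr.node (Tr.node Tr.leaf 110905 7
 Tr.leaf) 110906 6
 Tr.leaf) 110915 6
 (Tr.node Tr.leaf 110923 7
 Tr.leaf)))) 110925 6
 (Tr.node (Tr.node (Tr.node (Tr.node (Tr.node Tr.leaf 110933 6
 Tr.leaf) 110941 6
 Tr.leaf) 110945 6
 (Tr.node (Tr.node Tr.leaf 110946 6
 Tr.leaf) 110948 6
 Tr.leaf)) 110951 7
 (Tr.node (Tr.node (Tr.node Tr.leaf 110959 8
 Tr.leaf) 110969 7
 Tr.leaf) 110970 7
 (Tr.node (Tr.node Tr.leaf 110972 7
 Tr.leaf) 110987 6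
 Tr.leaf))) 110995 7
 (Tr.node (Tr.node (Tr.node (Tr.node Tr.leaf 110997 6
 Tr.leaf) 110998 7
 Tr.leaf) 111003 6
 (Tr.node (Tr.node Tr.leaf 111005 6
 Tr.leaf) 111015 7
 Tr.leaf)) 111018 6
 (Tr.node (Tr.node (Tr.node Tr.leaf 111020 7
 Tr.leaf) 111031 8
 Tr.leaf) 111033 6
 (Tr.node Tr.leaf 111034 6
 Tr.leaf))))) 111036 6
 (Tr.node (Tr.node (Tr.node (Tr.node (Tr.node (Tr.node Tr.leaf 111039 7
 Tr.leaf) 111043 5
 Tr.leaf) 111046 6
 (Tr.node (Tr.node Tr.leaf 111053 6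
 Tr.leaf) 111054 6
 Tr.leaf)) 111061 7
 (Tr.node (Tr.node (Tr.node Tr.leaf 111067 6
 Tr.leaf) 111074 6
 Tr.leaf) 111079 7
 (Tr.node (Tr.node Tr.leaf 111087 7
 Tr.leaf) 111089 6
 Tr.leaf))) 111090 6
 (Tr.node (Tr.node (Tr.node (Tr.node Tr.leaf 111092 6
 Tr.leaf) 111095 7
 Tr.leaf) 111097 6
 (Tr.node (Tr.node Tr.leaf 111103 7
 Tr.leaf) 111621 7
 Tr.leaf)) 111623 7
 (Tr.node (Tr.node (Tr.node Tr.leaf 111645 7
 Tr.leaf) 111647 7
 Tr.leaf) 111651 7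
 (Tr.node Tr.leaf 111667 7
 Tr.leaf)))) 111673 6
 (Tr.node (Tr.node (Tr.node (Tr.node (Tr.node Tr.leaf 111675 7
 Tr.leaf) 111685 7
 Tr.leaf) 111693 6
 (Tr.node (Tr.node Tr.leaf 111695 6
 Tr.leaf) 111701 6
 Tr.leaf)) 111703 6
 (Tr.node (Tr.node (Tr.node Tr.leaf 111713 7
 Tr.leaf) 111721 6
 Tr.leaf) 111723 6
 (Tr.node Tr.leaf 111731 6
 Tr.leaf))) 111737 7
 (Tr.node (Tr.node (Tr.node (Tr.node Tr.leaf 111739 7
 Tr.leaf) 111749 6
 Tr.leaf) 111751 7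
 (Tr.node (Tr.node Tr.leaf 111765 6
 Tr.leaf) 111767 6
 Tr.leaf)) 111777 6
 (Tr.node (Tr.node (Tr.node Tr.leaf 111785 7
 Tr.leaf) 111795 6
 Tr.leaf) 111801 6
 (Tr.node Tr.leaf 111813 7
 Tr.leaf))))))) 111815 7
 (Tr.node (Tr.node (Tr.node (Tr.node (Tr.node (Tr.node (Tr.node (Tr.node Tr.leaf 111821 7
 Tr.leaf) 111823 6
 Tr.leaf) 111831 7
 (Tr.node (Tr.node Tr.leaf 111837 7
 Tr.leaf) 111839 7
 Tr.leaf)) 111841 7
 (Tr.node (Tr.node (Tr.node Tr.leaf 111843 6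
 Tr.leaf) 111851 7
 Tr.leaf) 111859 7
 (Tr.node (Tr.node Tr.leaf 111867 7
 Tr.leaf) 111873 7
 Tr.leaf))) 111883 6
 (Tr.node (Tr.node (Tr.node (Tr.node Tr.leaf 111889 7
 Tr.leaf) 111891 7
 Tr.leaf) 111897 7
 (Tr.node (Tr.node Tr.leaf 111899 6
 Tr.leaf) 111917 7
 Tr.leaf)) 111919 7
 (Tr.node (Tr.node (Tr.node Tr.leaf 111937 7
 Tr.leaf) 111945 6
 Tr.leaf) 111953 6
 (Tr.node Tr.leaf 111961 7
 Tr.leaf)))) 111973 7
 (Tr.node (Tr.node (Tr.node (Tr.node (Tr.node Tr.leaf 111989 7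
 Tr.leaf) 111991 7
 Tr.leaf) 112001 7
 (Tr.node (Tr.node Tr.leaf 112011 7
 Tr.leaf) 112017 6
 Tr.leaf)) 112019 6
 (Tr.node (Tr.node (Tr.node Tr.leaf 112037 7
 Tr.leaf) 112061 8
 Tr.leaf) 112063 7
 (Tr.node (Tr.node Tr.leaf 112065 6
 Tr.leaf) 112067 7
 Tr.leaf))) 112075 6
 (Tr.node (Tr.node (Tr.node (Tr.node Tr.leaf 112083 7
 Tr.leaf) 112089 7
 Tr.leaf) 112111 7
 (Tr.node (Tr.node Tr.leaf 112119 7
 Tr.leaf) 112643 7
 Tr.leaf)) 112655 6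
 (Tr.node (Tr.node (Tr.node Tr.leaf 112667 7
 Tr.leaf) 112671 7
 Tr.leaf) 112674 6
 (Tr.node Tr.leaf 112677 5
 Tr.leaf))))) 112681 7
 (Tr.node (Tr.node (Tr.node (Tr.node (Tr.node (Tr.node Tr.leaf 112682 6
 Tr.leaf) 112685 6
 Tr.leaf) 112686 7
 (Tr.node (Tr.node Tr.leaf 112689 6
 Tr.leaf) 112690 7
 Tr.leaf)) 112693 6
 (Tr.node (Tr.node (Tr.node Tr.leaf 112697 7
 Tr.leaf) 112698 7
 Tr.leaf) 112701 6
 (Tr.node (Tr.node Tr.leaf 112702 7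
 Tr.leaf) 112715 7
 Tr.leaf))) 112719 7
 (Tr.node (Tr.node (Tr.node (Tr.node Tr.leaf 112742 7
 Tr.leaf) 112746 6
 Tr.leaf) 112750 7
 (Tr.node (Tr.node Tr.leaf 112753 6
 Tr.leaf) 112757 7
 Tr.leaf)) 112761 6
 (Tr.node (Tr.node (Tr.node Tr.leaf 112762 6
 Tr.leaf) 112766 6
 Tr.leaf) 112775 6
 (Tr.node Tr.leaf 112779 7
 Tr.leaf)))) 112783 7
 (Tr.node (Tr.node (Tr.node (Tr.node (Tr.node Tr.leaf 112787 7
 Tr.leaf) 112791 7
 Tr.leaf) 112795 6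
 (Tr.node (Tr.node Tr.leaf 112801 5
 Tr.leaf) 112802 5
 Tr.leaf)) 112805 6
 (Tr.node (Tr.node (Tr.node Tr.leaf 112806 6
 Tr.leaf) 112809 6
 Tr.leaf) 112814 7
 (Tr.node Tr.leaf 112817 6
 Tr.leaf))) 112821 7
 (Tr.node (Tr.node (Tr.node (Tr.node Tr.leaf 112822 6
 Tr.leaf) 112829 7
 Tr.leaf) 112835 7
 (Tr.node (Tr.node Tr.leaf 112839 7
 Tr.leaf) 112843 6
 Tr.leaf)) 112863 7
 (Tr.node (Tr.node (Tr.node Tr.leaf 112865 6
 Tr.leaf) 112885 6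
 Tr.leaf) 112886 6
 (Tr.node Tr.leaf 112889 6
 Tr.leaf)))))) 112901 5
 (Tr.node (Tr.node (Tr.node (Tr.node (Tr.node (Tr.node (Tr.node Tr.leaf 112905 7
 Tr.leaf) 112914 6
 Tr.leaf) 112917 6
 (Tr.node (Tr.node Tr.leaf 112918 6
 Tr.leaf) 112921 6
 Tr.leaf)) 112922 7
 (Tr.node (Tr.node (Tr.node Tr.leaf 112925 7
 Tr.leaf) 112926 7
 Tr.leaf) 112931 8
 (Tr.node (Tr.node Tr.leaf 112935 7
 Tr.leaf) 112943 8
 Tr.leaf))) 112947 7
 (Tr.node (Tr.node (Tr.node (Tr.node Tr.leaf 112951 7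
 Tr.leaf) 112961 6
 Tr.leaf) 112962 5
 (Tr.node (Tr.node Tr.leaf 112969 7
 Tr.leaf) 112970 6
 Tr.leaf)) 112973 6
 (Tr.node (Tr.node (Tr.node Tr.leaf 112977 7
 Tr.leaf) 112981 6
 Tr.leaf) 112985 6
 (Tr.node Tr.leaf 112989 6
 Tr.leaf)))) 112990 7
 (Tr.node (Tr.node (Tr.node (Tr.node (Tr.node Tr.leaf 112995 7
 Tr.leaf) 112999 8
 Tr.leaf) 113003 7
 (Tr.node (Tr.node Tr.leaf 113011 7
 Tr.leaf) 113015 7
 Tr.leaf)) 113019 7
 (Tr.node (Tr.node (Tr.node Tr.leaf 113023 8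
 Tr.leaf) 113034 7
 Tr.leaf) 113037 6
 (Tr.node Tr.leaf 113042 7
 Tr.leaf))) 113046 6
 (Tr.node (Tr.node (Tr.node (Tr.node Tr.leaf 113049 7
 Tr.leaf) 113050 7
 Tr.leaf) 113053 7
 (Tr.node (Tr.node Tr.leaf 113054 6
 Tr.leaf) 113063 7
 Tr.leaf)) 113079 7
 (Tr.node (Tr.node (Tr.node Tr.leaf 113083 8
 Tr.leaf) 113093 6
 Tr.leaf) 113097 6
 (Tr.node Tr.leaf 113098 6
 Tr.leaf))))) 113101 5
 (Tr.node (Tr.node (Tr.node (Tr.node (Tr.node (Tr.node Tr.leaf 113102 6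
 Tr.leaf) 113106 7
 Tr.leaf) 113113 6
 (Tr.node (Tr.node Tr.leaf 113118 6
 Tr.leaf) 113123 7
 Tr.leaf)) 113127 7
 (Tr.node (Tr.node (Tr.node Tr.leaf 113131 7
 Tr.leaf) 113139 8
 Tr.leaf) 113143 7
 (Tr.node (Tr.node Tr.leaf 113147 7
 Tr.leaf) 113151 8
 Tr.leaf))) 113665 7
 (Tr.node (Tr.node (Tr.node (Tr.node Tr.leaf 113667 7
 Tr.leaf) 113669 7
 Tr.leaf) 113671 7
 (Tr.node (Tr.node Tr.leaf 113675 6
 Tr.leaf) 113677 7
 Tr.leaf)) 113679 6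
 (Tr.node (Tr.node (Tr.node Tr.leaf 113683 7
 Tr.leaf) 113687 7
 Tr.leaf) 113689 7
 (Tr.node Tr.leaf 113691 7
 Tr.leaf)))) 113693 7
 (Tr.node (Tr.node (Tr.node (Tr.node (Tr.node Tr.leaf 113695 7
 Tr.leaf) 113729 7
 Tr.leaf) 113737 7
 (Tr.node (Tr.node Tr.leaf 113739 7
 Tr.leaf) 113741 7
 Tr.leaf)) 113747 6
 (Tr.node (Tr.node (Tr.node Tr.leaf 113749 6
 Tr.leaf) 113753 7
 Tr.leaf) 113757 7
 (Tr.node Tr.leaf 113793 6
 Tr.leaf))) 113811 7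
 (Tr.node (Tr.node (Tr.node (Tr.node Tr.leaf 113813 7
 Tr.leaf) 113815 7
 Tr.leaf) 113817 6
 (Tr.node (Tr.node Tr.leaf 113819 7
 Tr.leaf) 113821 6
 Tr.leaf)) 113857 7
 (Tr.node (Tr.node (Tr.node Tr.leaf 113859 7
 Tr.leaf) 113861 7
 Tr.leaf) 113863 7
 (Tr.node Tr.leaf 113871 6
 Tr.leaf))))))))

/-- A subtree. -/
def tr1_s28 : Tr := (Tr.node (Tr.node (Tr.node (Tr.node (Tr.node (Tr.node (Tr.node (Tr.node (Tr.node Tr.leaf 113881 7
 Tr.leaf) 113883 7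
 Tr.leaf) 113885 7
 (Tr.node (Tr.node Tr.leaf 113887 7
 Tr.leaf) 113957 8
 Tr.leaf)) 113959 8
 (Tr.node (Tr.node (Tr.node Tr.leaf 113963 7
 Tr.leaf) 113965 7
 Tr.leaf) 113967 7
 (Tr.node (Tr.node Tr.leaf 113973 8
 Tr.leaf) 113975 7
 Tr.leaf))) 113979 7
 (Tr.node (Tr.node (Tr.node (Tr.node Tr.leaf 113981 7
 Tr.leaf) 114017 7
 Tr.leaf) 114019 7
 (Tr.node (Tr.node Tr.leaf 114021 7
 Tr.leaf) 114029 8
 Tr.leaf)) 114031 7
 (Tr.node (Tr.node (Tr.node Tr.leaf 114033 8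
 Tr.leaf) 114035 7
 Tr.leaf) 114037 7
 (Tr.node Tr.leaf 114039 8
 Tr.leaf)))) 114041 7
 (Tr.node (Tr.node (Tr.node (Tr.node (Tr.node Tr.leaf 114043 8
 Tr.leaf) 114081 7
 Tr.leaf) 114089 8
 (Tr.node (Tr.node Tr.leaf 114095 8
 Tr.leaf) 114097 7
 Tr.leaf)) 114099 8
 (Tr.node (Tr.node (Tr.node Tr.leaf 114105 7
 Tr.leaf) 114107 7
 Tr.leaf) 114109 7
 (Tr.node (Tr.node Tr.leaf 114147 8
 Tr.leaf) 114149 8
 Tr.leaf))) 114159 7
 (Tr.node (Tr.node (Tr.node (Tr.node Tr.leaf 114163 7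
 Tr.leaf) 114165 7
 Tr.leaf) 114167 8
 (Tr.node (Tr.node Tr.leaf 114169 8
 Tr.leaf) 114171 8
 Tr.leaf)) 114693 6
 (Tr.node (Tr.node (Tr.node Tr.leaf 114698 5
 Tr.leaf) 114703 7
 Tr.leaf) 114706 6
 (Tr.node Tr.leaf 114708 6
 Tr.leaf))))) 114712 5
 (Tr.node (Tr.node (Tr.node (Tr.node (Tr.node (Tr.node Tr.leaf 114715 6
 Tr.leaf) 114718 7
 Tr.leaf) 114726 6
 (Tr.node (Tr.node Tr.leaf 114729 7
 Tr.leaf) 114732 6
 Tr.leaf)) 114735 6
 (Tr.node (Tr.node (Tr.node Tr.leaf 114738 7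
 Tr.leaf) 114744 6
 Tr.leaf) 114749 6
 (Tr.node (Tr.node Tr.leaf 114750 6
 Tr.leaf) 114755 6
 Tr.leaf))) 114761 6
 (Tr.node (Tr.node (Tr.node (Tr.node Tr.leaf 114762 5
 Tr.leaf) 114769 5
 Tr.leaf) 114770 6
 (Tr.node (Tr.node Tr.leaf 114787 6
 Tr.leaf) 114789 6
 Tr.leaf)) 114793 7
 (Tr.node (Tr.node (Tr.node Tr.leaf 114799 7
 Tr.leaf) 114804 6
 Tr.leaf) 114814 6
 (Tr.node Tr.leaf 114819 6
 Tr.leaf)))) 114825 7
 (Tr.node (Tr.node (Tr.node (Tr.node (Tr.node Tr.leaf 114831 6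
 Tr.leaf) 114834 7
 Tr.leaf) 114839 6
 (Tr.node (Tr.node Tr.leaf 114845 6
 Tr.leaf) 114846 6
 Tr.leaf)) 114851 6
 (Tr.node (Tr.node (Tr.node Tr.leaf 114853 6
 Tr.leaf) 114857 7
 Tr.leaf) 114858 5
 (Tr.node Tr.leaf 114863 6
 Tr.leaf))) 114868 6
 (Tr.node (Tr.node (Tr.node (Tr.node Tr.leaf 114871 6
 Tr.leaf) 114875 7
 Tr.leaf) 114877 6
 (Tr.node (Tr.node Tr.leaf 114886 6
 Tr.leaf) 114889 7
 Tr.leaf)) 114892 5
 (Tr.node (Tr.node (Tr.node Tr.leaf 114897 6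
 Tr.leaf) 114903 7
 Tr.leaf) 114904 5
 (Tr.node Tr.leaf 114907 6
 Tr.leaf)))))) 114909 6
 (Tr.node (Tr.node (Tr.node (Tr.node (Tr.node (Tr.node (Tr.node Tr.leaf 114922 6
 Tr.leaf) 114930 6
 Tr.leaf) 114936 6
 (Tr.node (Tr.node Tr.leaf 114939 5
 Tr.leaf) 114945 7
 Tr.leaf)) 114948 6
 (Tr.node (Tr.node (Tr.node Tr.leaf 114955 7
 Tr.leaf) 114957 7
 Tr.leaf) 114958 6
 (Tr.node (Tr.node Tr.leaf 114963 6
 Tr.leaf) 114966 6
 Tr.leaf))) 114969 7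
 (Tr.node (Tr.node (Tr.node (Tr.node Tr.leaf 114970 7
 Tr.leaf) 114972 7
 Tr.leaf) 114975 8
 (Tr.node (Tr.node Tr.leaf 114978 7
 Tr.leaf) 114980 5
 Tr.leaf)) 114984 6
 (Tr.node (Tr.node (Tr.node Tr.leaf 114987 7
 Tr.leaf) 114989 6
 Tr.leaf) 114990 7
 (Tr.node Tr.leaf 114995 7
 Tr.leaf)))) 114997 7
 (Tr.node (Tr.node (Tr.node (Tr.node (Tr.node Tr.leaf 114998 6
 Tr.leaf) 115010 6
 Tr.leaf) 115015 7
 (Tr.node (Tr.node Tr.leaf 115016 5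
 Tr.leaf) 115019 6
 Tr.leaf)) 115021 7
 (Tr.node (Tr.node (Tr.node Tr.leaf 115027 6
 Tr.leaf) 115030 6
 Tr.leaf) 115033 6
 (Tr.node (Tr.node Tr.leaf 115034 6
 Tr.leaf) 115036 7
 Tr.leaf))) 115041 7
 (Tr.node (Tr.node (Tr.node (Tr.node Tr.leaf 115044 6
 Tr.leaf) 115047 7
 Tr.leaf) 115051 7
 (Tr.node (Tr.node Tr.leaf 115054 6
 Tr.leaf) 115065 6
 Tr.leaf)) 115068 6
 (Tr.node (Tr.node (Tr.node Tr.leaf 115073 7
 Tr.leaf) 115074 7
 Tr.leaf) 115085 7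
 (Tr.node Tr.leaf 115086 6
 Tr.leaf))))) 115091 6
 (Tr.node (Tr.node (Tr.node (Tr.node (Tr.node (Tr.node Tr.leaf 115093 6
 Tr.leaf) 115097 6
 Tr.leaf) 115100 6
 (Tr.node (Tr.node Tr.leaf 115103 7
 Tr.leaf) 115105 7
 Tr.leaf)) 115106 6
 (Tr.node (Tr.node (Tr.node Tr.leaf 115108 6
 Tr.leaf) 115112 5
 Tr.leaf) 115115 6
 (Tr.node (Tr.node Tr.leaf 115117 7
 Tr.leaf) 115118 7
 Tr.leaf))) 115120 6
 (Tr.node (Tr.node (Tr.node (Tr.node Tr.leaf 115125 7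
 Tr.leaf) 115126 5
 Tr.leaf) 115137 7
 (Tr.node (Tr.node Tr.leaf 115140 6
 Tr.leaf) 115144 5
 Tr.leaf)) 115149 6
 (Tr.node (Tr.node (Tr.node Tr.leaf 115157 7
 Tr.leaf) 115158 6
 Tr.leaf) 115170 7
 (Tr.node Tr.leaf 115175 6
 Tr.leaf)))) 115182 6
 (Tr.node (Tr.node (Tr.node (Tr.node (Tr.node Tr.leaf 115184 7
 Tr.leaf) 115190 5
 Tr.leaf) 115713 6
 (Tr.node (Tr.node Tr.leaf 115715 6
 Tr.leaf) 115727 7
 Tr.leaf)) 115739 7
 (Tr.node (Tr.node (Tr.node Tr.leaf 115745 6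
 Tr.leaf) 115747 6
 Tr.leaf) 115765 6
 (Tr.node Tr.leaf 115767 7
 Tr.leaf))) 115769 6
 (Tr.node (Tr.node (Tr.node (Tr.node Tr.leaf 115771 7
 Tr.leaf) 115777 6
 Tr.leaf) 115789 7
 (Tr.node (Tr.node Tr.leaf 115791 6
 Tr.leaf) 115801 7
 Tr.leaf)) 115809 6
 (Tr.node (Tr.node (Tr.node Tr.leaf 115821 7
 Tr.leaf) 115823 6
 Tr.leaf) 115833 7
 (Tr.node Tr.leaf 115835 7
 Tr.leaf))))))) 115843 6
 (Tr.node (Tr.node (Tr.node (Tr.node (Tr.node (Tr.node (Tr.node (Tr.node Tr.leaf 115853 6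
 Tr.leaf) 115863 7
 Tr.leaf) 115865 6
 (Tr.node (Tr.node Tr.leaf 115875 6
 Tr.leaf) 115885 6
 Tr.leaf)) 115887 7
 (Tr.node (Tr.node (Tr.node Tr.leaf 115893 7
 Tr.leaf) 115895 7
 Tr.leaf) 115897 6
 (Tr.node (Tr.node Tr.leaf 115905 6
 Tr.leaf) 115907 6
 Tr.leaf))) 115917 7
 (Tr.node (Tr.node (Tr.node (Tr.node Tr.leaf 115925 7
 Tr.leaf) 115927 6
 Tr.leaf) 115929 7
 (Tr.node (Tr.node Tr.leaf 115931 6
 Tr.leaf) 115937 6
 Tr.leaf)) 115939 6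
 (Tr.node (Tr.node (Tr.node Tr.leaf 115949 7
 Tr.leaf) 115957 7
 Tr.leaf) 115959 7
 (Tr.node Tr.leaf 115963 7
 Tr.leaf)))) 115973 7
 (Tr.node (Tr.node (Tr.node (Tr.node (Tr.node Tr.leaf 115977 7
 Tr.leaf) 115979 7
 Tr.leaf) 115985 7
 (Tr.node (Tr.node Tr.leaf 116005 6
 Tr.leaf) 116009 6
 Tr.leaf)) 116011 7
 (Tr.node (Tr.node (Tr.node Tr.leaf 116017 7
 Tr.leaf) 116031 7
 Tr.leaf) 116039 6
 (Tr.node (Tr.node Tr.leaf 116041 7
 Tr.leaf) 116043 7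
 Tr.leaf))) 116051 6
 (Tr.node (Tr.node (Tr.node (Tr.node Tr.leaf 116063 8
 Tr.leaf) 116069 7
 Tr.leaf) 116071 6
 (Tr.node (Tr.node Tr.leaf 116073 7
 Tr.leaf) 116081 6
 Tr.leaf)) 116093 7
 (Tr.node (Tr.node (Tr.node Tr.leaf 116095 7
 Tr.leaf) 116101 7
 Tr.leaf) 116103 7
 (Tr.node Tr.leaf 116107 7
 Tr.leaf))))) 116125 7
 (Tr.node (Tr.node (Tr.node (Tr.node (Tr.node (Tr.node Tr.leaf 116127 7
 Tr.leaf) 116135 7
 Tr.leaf) 116145 6
 (Tr.node (Tr.node Tr.leaf 116157 8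
 Tr.leaf) 116165 7
 Tr.leaf)) 116167 6
 (Tr.node (Tr.node (Tr.node Tr.leaf 116171 6
 Tr.leaf) 116177 6
 Tr.leaf) 116179 7
 (Tr.node (Tr.node Tr.leaf 116189 7
 Tr.leaf) 116197 7
 Tr.leaf))) 116211 7
 (Tr.node (Tr.node (Tr.node (Tr.node Tr.leaf 116738 5
 Tr.leaf) 116747 6
 Tr.leaf) 116755 6
 (Tr.node (Tr.node Tr.leaf 116761 6
 Tr.leaf) 116773 6
 Tr.leaf)) 116779 6
 (Tr.node (Tr.node (Tr.node Tr.leaf 116787 6
 Tr.leaf) 116791 6
 Tr.leaf) 116793 6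
 (Tr.node Tr.leaf 116794 6
 Tr.leaf)))) 116797 6
 (Tr.node (Tr.node (Tr.node (Tr.node (Tr.node Tr.leaf 116798 6
 Tr.leaf) 116801 6
 Tr.leaf) 116806 6
 (Tr.node (Tr.node Tr.leaf 116811 7
 Tr.leaf) 116823 7
 Tr.leaf)) 116826 7
 (Tr.node (Tr.node (Tr.node Tr.leaf 116829 7
 Tr.leaf) 116834 5
 Tr.leaf) 116843 7
 (Tr.node Tr.leaf 116847 6
 Tr.leaf))) 116855 6
 (Tr.node (Tr.node (Tr.node (Tr.node Tr.leaf 116858 6
 Tr.leaf) 116861 6
 Tr.leaf) 116862 6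
 (Tr.node (Tr.node Tr.leaf 116865 6
 Tr.leaf) 116870 5
 Tr.leaf)) 116875 6
 (Tr.node (Tr.node (Tr.node Tr.leaf 116887 5
 Tr.leaf) 116889 6
 Tr.leaf) 116890 6
 (Tr.node Tr.leaf 116893 5
 Tr.leaf)))))) 116894 6
 (Tr.node (Tr.node (Tr.node (Tr.node (Tr.node (Tr.node (Tr.node Tr.leaf 116898 6
 Tr.leaf) 116915 7
 Tr.leaf) 116921 7
 (Tr.node (Tr.node Tr.leaf 116933 6
 Tr.leaf) 116943 6
 Tr.leaf)) 116951 6
 (Tr.node (Tr.node (Tr.node Tr.leaf 116958 6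
 Tr.leaf) 116961 6
 Tr.leaf) 116966 5
 (Tr.node (Tr.node Tr.leaf 116971 7
 Tr.leaf) 116975 6
 Tr.leaf))) 116983 5
 (Tr.node (Tr.node (Tr.node (Tr.node Tr.leaf 116986 7
 Tr.leaf) 116989 5
 Tr.leaf) 116999 6
 (Tr.node (Tr.node Tr.leaf 117009 7
 Tr.leaf) 117013 6
 Tr.leaf)) 117014 6
 (Tr.node (Tr.node (Tr.node Tr.leaf 117019 7
 Tr.leaf) 117023 7
 Tr.leaf) 117027 6
 (Tr.node Tr.leaf 117033 7
 Tr.leaf)))) 117034 6
 (Tr.node (Tr.node (Tr.node (Tr.node (Tr.node Tr.leaf 117038 7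
 Tr.leaf) 117041 6
 Tr.leaf) 117051 7
 (Tr.node (Tr.node Tr.leaf 117059 6
 Tr.leaf) 117063 6
 Tr.leaf)) 117066 7
 (Tr.node (Tr.node (Tr.node Tr.leaf 117069 6
 Tr.leaf) 117077 6
 Tr.leaf) 117087 8
 (Tr.node (Tr.node Tr.leaf 117091 7
 Tr.leaf) 117095 7
 Tr.leaf))) 117097 7
 (Tr.node (Tr.node (Tr.node (Tr.node Tr.leaf 117101 6
 Tr.leaf) 117102 6
 Tr.leaf) 117106 6
 (Tr.node (Tr.node Tr.leaf 117109 6
 Tr.leaf) 117119 7
 Tr.leaf)) 117123 7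
 (Tr.node (Tr.node (Tr.node Tr.leaf 117130 6
 Tr.leaf) 117142 6
 Tr.leaf) 117147 7
 (Tr.node Tr.leaf 117151 7
 Tr.leaf))))) 117155 6
 (Tr.node (Tr.node (Tr.node (Tr.node (Tr.node (Tr.node Tr.leaf 117161 6
 Tr.leaf) 117165 6
 Tr.leaf) 117169 6
 (Tr.node (Tr.node Tr.leaf 117170 7
 Tr.leaf) 117173 6
 Tr.leaf)) 117179 8
 (Tr.node (Tr.node (Tr.node Tr.leaf 117183 7
 Tr.leaf) 117187 6
 Tr.leaf) 117193 6
 (Tr.node (Tr.node Tr.leaf 117197 7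
 Tr.leaf) 117198 6
 Tr.leaf))) 117201 6
 (Tr.node (Tr.node (Tr.node (Tr.node Tr.leaf 117215 7
 Tr.leaf) 117225 6
 Tr.leaf) 117226 7
 (Tr.node (Tr.node Tr.leaf 117234 6
 Tr.leaf) 117237 7
 Tr.leaf)) 117238 7
 (Tr.node (Tr.node (Tr.node Tr.leaf 117247 7
 Tr.leaf) 117771 7
 Tr.leaf) 117773 7
 (Tr.node Tr.leaf 117779 7
 Tr.leaf)))) 117781 7
 (Tr.node (Tr.node (Tr.node (Tr.node (Tr.node Tr.leaf 117783 7
 Tr.leaf) 117803 7
 Tr.leaf) 117805 7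
 (Tr.node (Tr.node Tr.leaf 117807 6
 Tr.leaf) 117809 6
 Tr.leaf)) 117813 7
 (Tr.node (Tr.node (Tr.node Tr.leaf 117815 7
 Tr.leaf) 117833 6
 Tr.leaf) 117839 7
 (Tr.node Tr.leaf 117843 7
 Tr.leaf))) 117845 6
 (Tr.node (Tr.node (Tr.node (Tr.node Tr.leaf 117847 7
 Tr.leaf) 117873 6
 Tr.leaf) 117875 5
 (Tr.node (Tr.node Tr.leaf 117877 7
 Tr.leaf) 117899 7
 Tr.leaf)) 117901 7
 (Tr.node (Tr.node (Tr.node Tr.leaf 117909 5
 Tr.leaf) 117931 7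
 Tr.leaf) 117935 6
 (Tr.node Tr.leaf 117939 6
 Tr.leaf))))))))

/-- A subtree. -/
def tr1_s29 : Tr := (Tr.node (Tr.node (Tr.node (Tr.node (Tr.node (Tr.node (Tr.node (Tr.node (Tr.node Tr.leaf 117943 6
 Tr.leaf) 117961 6
 Tr.leaf) 117965 7
 (Tr.node (Tr.node Tr.leaf 117967 7
 Tr.leaf) 117995 7
 Tr.leaf)) 117999 7
 (Tr.node (Tr.node (Tr.node Tr.leaf 118007 6
 Tr.leaf) 118017 6
 Tr.leaf) 118019 6
 (Tr.node (Tr.node Tr.leaf 118043 7
 Tr.leaf) 118049 7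
 Tr.leaf))) 118053 7
 (Tr.node (Tr.node (Tr.node (Tr.node Tr.leaf 118073 8
 Tr.leaf) 118079 7
 Tr.leaf) 118115 5
 (Tr.node (Tr.node Tr.leaf 118119 7
 Tr.leaf) 118137 7
 Tr.leaf)) 118139 7
 (Tr.node (Tr.node (Tr.node Tr.leaf 118141 7
 Tr.leaf) 118143 7
 Tr.leaf) 118145 6
 (Tr.node Tr.leaf 118147 7
 Tr.leaf)))) 118149 5
 (Tr.node (Tr.node (Tr.node (Tr.node (Tr.node Tr.leaf 118151 7
 Tr.leaf) 118173 7
 Tr.leaf) 118175 7
 (Tr.node (Tr.node Tr.leaf 118179 7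
 Tr.leaf) 118181 6
 Tr.leaf)) 118205 7
 (Tr.node (Tr.node (Tr.node Tr.leaf 118207 7
 Tr.leaf) 118213 7
 Tr.leaf) 118233 7
 (Tr.node (Tr.node Tr.leaf 118239 7
 Tr.leaf) 118241 6
 Tr.leaf))) 118245 6
 (Tr.node (Tr.node (Tr.node (Tr.node Tr.leaf 118265 7
 Tr.leaf) 118267 7
 Tr.leaf) 118271 8
 (Tr.node (Tr.node Tr.leaf 118785 7
 Tr.leaf) 118793 7
 Tr.leaf)) 118799 6
 (Tr.node (Tr.node (Tr.node Tr.leaf 118803 6
 Tr.leaf) 118805 7
 Tr.leaf) 118806 6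
 (Tr.node Tr.leaf 118811 7
 Tr.leaf))))) 118817 7
 (Tr.node (Tr.node (Tr.node (Tr.node (Tr.node (Tr.node Tr.leaf 118820 5
 Tr.leaf) 118826 5
 Tr.leaf) 118828 5
 (Tr.node (Tr.node Tr.leaf 118831 7
 Tr.leaf) 118835 6
 Tr.leaf)) 118837 7
 (Tr.node (Tr.node (Tr.node Tr.leaf 118838 6
 Tr.leaf) 118845 7
 Tr.leaf) 118849 7
 (Tr.node (Tr.node Tr.leaf 118855 6
 Tr.leaf) 118863 7
 Tr.leaf))) 118867 7
 (Tr.node (Tr.node (Tr.node (Tr.node Tr.leaf 118870 6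
 Tr.leaf) 118878 5
 Tr.leaf) 118889 7
 (Tr.node (Tr.node Tr.leaf 118890 6
 Tr.leaf) 118895 7
 Tr.leaf)) 118902 6
 (Tr.node (Tr.node (Tr.node Tr.leaf 118909 7
 Tr.leaf) 118913 7
 Tr.leaf) 118914 5
 (Tr.node Tr.leaf 118931 7
 Tr.leaf)))) 118933 6
 (Tr.node (Tr.node (Tr.node (Tr.node (Tr.node Tr.leaf 118939 7
 Tr.leaf) 118942 6
 Tr.leaf) 118951 7
 (Tr.node (Tr.node Tr.leaf 118953 7
 Tr.leaf) 118959 6
 Tr.leaf)) 118963 7
 (Tr.node (Tr.node (Tr.node Tr.leaf 118965 7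
 Tr.leaf) 118966 6
 Tr.leaf) 118971 7
 (Tr.node Tr.leaf 118973 7
 Tr.leaf))) 118974 6
 (Tr.node (Tr.node (Tr.node (Tr.node Tr.leaf 118978 5
 Tr.leaf) 118980 5
 Tr.leaf) 118983 7
 (Tr.node (Tr.node Tr.leaf 118985 7
 Tr.leaf) 118988 6
 Tr.leaf)) 118991 7
 (Tr.node (Tr.node (Tr.node Tr.leaf 119005 7
 Tr.leaf) 119006 6
 Tr.leaf) 119009 7
 (Tr.node Tr.leaf 119015 6
 Tr.leaf)))))) 119017 7
 (Tr.node (Tr.node (Tr.node (Tr.node (Tr.node (Tr.node (Tr.node Tr.leaf 119027 6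
 Tr.leaf) 119029 6
 Tr.leaf) 119035 7
 (Tr.node (Tr.node Tr.leaf 119037 6
 Tr.leaf) 119038 5
 Tr.leaf)) 119043 7
 (Tr.node (Tr.node (Tr.node Tr.leaf 119045 6
 Tr.leaf) 119046 6
 Tr.leaf) 119053 7
 (Tr.node (Tr.node Tr.leaf 119054 6
 Tr.leaf) 119058 5
 Tr.leaf))) 119060 5
 (Tr.node (Tr.node (Tr.node (Tr.node Tr.leaf 119063 8
 Tr.leaf) 119065 7
 Tr.leaf) 119068 6
 (Tr.node (Tr.node Tr.leaf 119075 6
 Tr.leaf) 119077 7
 Tr.leaf)) 119089 6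
 (Tr.node (Tr.node (Tr.node Tr.leaf 119092 6
 Tr.leaf) 119095 7
 Tr.leaf) 119098 6
 (Tr.node Tr.leaf 119100 6
 Tr.leaf)))) 119109 7
 (Tr.node (Tr.node (Tr.node (Tr.node (Tr.node Tr.leaf 119118 5
 Tr.leaf) 119121 7
 Tr.leaf) 119122 6
 (Tr.node (Tr.node Tr.leaf 119129 7
 Tr.leaf) 119130 5
 Tr.leaf)) 119132 5
 (Tr.node (Tr.node (Tr.node Tr.leaf 119135 8
 Tr.leaf) 119141 7
 Tr.leaf) 119142 6
 (Tr.node (Tr.node Tr.leaf 119147 7
 Tr.leaf) 119150 6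
 Tr.leaf))) 119153 7
 (Tr.node (Tr.node (Tr.node (Tr.node Tr.leaf 119161 6
 Tr.leaf) 119162 6
 Tr.leaf) 119171 7
 (Tr.node (Tr.node Tr.leaf 119173 6
 Tr.leaf) 119174 6
 Tr.leaf)) 119182 6
 (Tr.node (Tr.node (Tr.node Tr.leaf 119185 6
 Tr.leaf) 119186 6
 Tr.leaf) 119191 7
 (Tr.node Tr.leaf 119193 7
 Tr.leaf))))) 119203 7
 (Tr.node (Tr.node (Tr.node (Tr.node (Tr.node (Tr.node Tr.leaf 119205 7
 Tr.leaf) 119206 6
 Tr.leaf) 119211 6
 (Tr.node (Tr.node Tr.leaf 119213 6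
 Tr.leaf) 119217 7
 Tr.leaf)) 119218 6
 (Tr.node (Tr.node (Tr.node Tr.leaf 119220 6
 Tr.leaf) 119223 8
 Tr.leaf) 119226 6
 (Tr.node (Tr.node Tr.leaf 119231 7
 Tr.leaf) 119235 7
 Tr.leaf))) 119243 7
 (Tr.node (Tr.node (Tr.node (Tr.node Tr.leaf 119250 6
 Tr.leaf) 119252 6
 Tr.leaf) 119257 6
 (Tr.node (Tr.node Tr.leaf 119260 6
 Tr.leaf) 119267 7
 Tr.leaf)) 119269 7
 (Tr.node (Tr.node (Tr.node Tr.leaf 119270 6
 Tr.leaf) 119275 6
 Tr.leaf) 119277 7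
 (Tr.node Tr.leaf 119278 5
 Tr.leaf)))) 119284 6
 (Tr.node (Tr.node (Tr.node (Tr.node (Tr.node Tr.leaf 119287 7
 Tr.leaf) 119290 6
 Tr.leaf) 119292 6
 (Tr.node (Tr.node Tr.leaf 119295 8
 Tr.leaf) 119813 7
 Tr.leaf)) 119815 6
 (Tr.node (Tr.node (Tr.node Tr.leaf 119821 7
 Tr.leaf) 119823 7
 Tr.leaf) 119835 7
 (Tr.node Tr.leaf 119845 7
 Tr.leaf))) 119855 7
 (Tr.node (Tr.node (Tr.node (Tr.node Tr.leaf 119859 7
 Tr.leaf) 119867 7
 Tr.leaf) 119889 6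
 (Tr.node (Tr.node Tr.leaf 119891 6
 Tr.leaf) 119897 6
 Tr.leaf)) 119909 7
 (Tr.node (Tr.node (Tr.node Tr.leaf 119911 7
 Tr.leaf) 119917 6
 Tr.leaf) 119921 7
 (Tr.node Tr.leaf 119923 5
 Tr.leaf))))))) 119931 6
 (Tr.node (Tr.node (Tr.node (Tr.node (Tr.node (Tr.node (Tr.node (Tr.node Tr.leaf 119943 6
 Tr.leaf) 119951 7
 Tr.leaf) 119953 7
 (Tr.node (Tr.node Tr.leaf 119961 5
 Tr.leaf) 119973 7
 Tr.leaf)) 119983 7
 (Tr.node (Tr.node (Tr.node Tr.leaf 119995 6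
 Tr.leaf) 120007 7
 Tr.leaf) 120019 7
 (Tr.node (Tr.node Tr.leaf 120027 7
 Tr.leaf) 120039 7
 Tr.leaf))) 120045 6
 (Tr.node (Tr.node (Tr.node (Tr.node Tr.leaf 120059 6
 Tr.leaf) 120065 7
 Tr.leaf) 120067 6
 (Tr.node (Tr.node Tr.leaf 120075 6
 Tr.leaf) 120085 8
 Tr.leaf)) 120087 7
 (Tr.node (Tr.node (Tr.node Tr.leaf 120093 7
 Tr.leaf) 120117 7
 Tr.leaf) 120119 7
 (Tr.node Tr.leaf 120131 6
 Tr.leaf)))) 120151 7
 (Tr.node (Tr.node (Tr.node (Tr.node (Tr.node Tr.leaf 120157 8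
 Tr.leaf) 120163 5
 Tr.leaf) 120183 7
 (Tr.node (Tr.node Tr.leaf 120189 7
 Tr.leaf) 120195 7
 Tr.leaf)) 120201 5
 (Tr.node (Tr.node (Tr.node Tr.leaf 120213 7
 Tr.leaf) 120215 7
 Tr.leaf) 120221 7
 (Tr.node (Tr.node Tr.leaf 120225 7
 Tr.leaf) 120227 7
 Tr.leaf))) 120233 7
 (Tr.node (Tr.node (Tr.node (Tr.node Tr.leaf 120235 6
 Tr.leaf) 120255 7
 Tr.leaf) 120257 7
 (Tr.node (Tr.node Tr.leaf 120259 7
 Tr.leaf) 120265 6
 Tr.leaf)) 120267 6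
 (Tr.node (Tr.node (Tr.node Tr.leaf 120277 7
 Tr.leaf) 120285 7
 Tr.leaf) 120287 8
 (Tr.node Tr.leaf 120289 6
 Tr.leaf))))) 120291 7
 (Tr.node (Tr.node (Tr.node (Tr.node (Tr.node (Tr.node Tr.leaf 120835 7
 Tr.leaf) 120839 6
 Tr.leaf) 120849 7
 (Tr.node (Tr.node Tr.leaf 120850 7
 Tr.leaf) 120853 6
 Tr.leaf)) 120861 6
 (Tr.node (Tr.node (Tr.node Tr.leaf 120862 6
 Tr.leaf) 120871 6
 Tr.leaf) 120879 7
 (Tr.node (Tr.node Tr.leaf 120882 5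
 Tr.leaf) 120885 7
 Tr.leaf))) 120886 6
 (Tr.node (Tr.node (Tr.node (Tr.node Tr.leaf 120889 7
 Tr.leaf) 120893 7
 Tr.leaf) 120894 7
 (Tr.node (Tr.node Tr.leaf 120899 7
 Tr.leaf) 120903 7
 Tr.leaf)) 120914 7
 (Tr.node (Tr.node (Tr.node Tr.leaf 120917 6
 Tr.leaf) 120918 7
 Tr.leaf) 120922 6
 (Tr.node Tr.leaf 120926 6
 Tr.leaf)))) 120935 7
 (Tr.node (Tr.node (Tr.node (Tr.node (Tr.node Tr.leaf 120945 5
 Tr.leaf) 120953 6
 Tr.leaf) 120957 6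
 (Tr.node (Tr.node Tr.leaf 120963 7
 Tr.leaf) 120971 7
 Tr.leaf)) 120975 7
 (Tr.node (Tr.node (Tr.node Tr.leaf 120978 7
 Tr.leaf) 120986 7
 Tr.leaf) 120989 5
 (Tr.node Tr.leaf 120990 7
 Tr.leaf))) 120995 7
 (Tr.node (Tr.node (Tr.node (Tr.node Tr.leaf 121007 7
 Tr.leaf) 121009 7
 Tr.leaf) 121010 6
 (Tr.node (Tr.node Tr.leaf 121013 7
 Tr.leaf) 121014 6
 Tr.leaf)) 121017 6
 (Tr.node (Tr.node (Tr.node Tr.leaf 121021 7
 Tr.leaf) 121031 7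
 Tr.leaf) 121035 6
 (Tr.node Tr.leaf 121050 6
 Tr.leaf)))))) 121054 6
 (Tr.node (Tr.node (Tr.node (Tr.node (Tr.node (Tr.node (Tr.node Tr.leaf 121063 7
 Tr.leaf) 121067 6
 Tr.leaf) 121073 7
 (Tr.node (Tr.node Tr.leaf 121074 6
 Tr.leaf) 121077 6
 Tr.leaf)) 121078 7
 (Tr.node (Tr.node (Tr.node Tr.leaf 121094 6
 Tr.leaf) 121097 6
 Tr.leaf) 121101 6
 (Tr.node (Tr.node Tr.leaf 121107 8
 Tr.leaf) 121111 7
 Tr.leaf))) 121119 7
 (Tr.node (Tr.node (Tr.node (Tr.node Tr.leaf 121121 7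
 Tr.leaf) 121122 5
 Tr.leaf) 121126 6
 (Tr.node (Tr.node Tr.leaf 121130 6
 Tr.leaf) 121133 7
 Tr.leaf)) 121134 7
 (Tr.node (Tr.node (Tr.node Tr.leaf 121139 7
 Tr.leaf) 121143 7
 Tr.leaf) 121147 7
 (Tr.node Tr.leaf 121154 6
 Tr.leaf)))) 121157 7
 (Tr.node (Tr.node (Tr.node (Tr.node (Tr.node Tr.leaf 121158 7
 Tr.leaf) 121161 6
 Tr.leaf) 121171 7
 (Tr.node (Tr.node Tr.leaf 121179 8
 Tr.leaf) 121185 5
 Tr.leaf)) 121197 7
 (Tr.node (Tr.node (Tr.node Tr.leaf 121203 7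
 Tr.leaf) 121211 7
 Tr.leaf) 121215 8
 (Tr.node Tr.leaf 121218 7
 Tr.leaf))) 121221 7
 (Tr.node (Tr.node (Tr.node (Tr.node Tr.leaf 121225 7
 Tr.leaf) 121226 7
 Tr.leaf) 121229 5
 (Tr.node (Tr.node Tr.leaf 121230 7
 Tr.leaf) 121235 7
 Tr.leaf)) 121239 7
 (Tr.node (Tr.node (Tr.node Tr.leaf 121247 7
 Tr.leaf) 121250 7
 Tr.leaf) 121262 5
 (Tr.node Tr.leaf 121285 7
 Tr.leaf))))) 121286 6
 (Tr.node (Tr.node (Tr.node (Tr.node (Tr.node (Tr.node Tr.leaf 121290 6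
 Tr.leaf) 121293 6
 Tr.leaf) 121294 6
 (Tr.node (Tr.node Tr.leaf 121307 7
 Tr.leaf) 121314 7
 Tr.leaf)) 121317 6
 (Tr.node (Tr.node (Tr.node Tr.leaf 121318 7
 Tr.leaf) 121322 6
 Tr.leaf) 121325 6
 (Tr.node (Tr.node Tr.leaf 121335 7
 Tr.leaf) 121863 7
 Tr.leaf))) 121865 7
 (Tr.node (Tr.node (Tr.node (Tr.node Tr.leaf 121869 6
 Tr.leaf) 121889 6
 Tr.leaf) 121893 7
 (Tr.node (Tr.node Tr.leaf 121895 7
 Tr.leaf) 121897 7
 Tr.leaf)) 121903 7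
 (Tr.node (Tr.node (Tr.node Tr.leaf 121921 7
 Tr.leaf) 121923 6
 Tr.leaf) 121929 7
 (Tr.node Tr.leaf 121931 7
 Tr.leaf)))) 121933 7
 (Tr.node (Tr.node (Tr.node (Tr.node (Tr.node Tr.leaf 121935 7
 Tr.leaf) 121953 7
 Tr.leaf) 121955 7
 (Tr.node (Tr.node Tr.leaf 121963 7
 Tr.leaf) 121965 7
 Tr.leaf)) 121967 6
 (Tr.node (Tr.node (Tr.node Tr.leaf 121985 6
 Tr.leaf) 121987 7
 Tr.leaf) 121991 7
 (Tr.node Tr.leaf 121993 7
 Tr.leaf))) 121997 7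
 (Tr.node (Tr.node (Tr.node (Tr.node Tr.leaf 122017 7
 Tr.leaf) 122023 7
 Tr.leaf) 122025 7
 (Tr.node (Tr.node Tr.leaf 122029 6
 Tr.leaf) 122049 7
 Tr.leaf)) 122055 7
 (Tr.node (Tr.node (Tr.node Tr.leaf 122059 7
 Tr.leaf) 122061 7
 Tr.leaf) 122063 6
 (Tr.node Tr.leaf 122081 7
 Tr.leaf))))))))

/-- A subtree. -/
def tr1_s30 : Tr := (Tr.node (Tr.node (Tr.node (Tr.node (Tr.node (Tr.node (Tr.node (Tr.node (Tr.node Tr.leaf 122089 7
 Tr.leaf) 122091 7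
 Tr.leaf) 122093 7
 (Tr.node (Tr.node Tr.leaf 122131 8
 Tr.leaf) 122133 8
 Tr.leaf)) 122135 8
 (Tr.node (Tr.node (Tr.node Tr.leaf 122141 8
 Tr.leaf) 122143 7
 Tr.leaf) 122161 7
 (Tr.node (Tr.node Tr.leaf 122163 8
 Tr.leaf) 122169 7
 Tr.leaf))) 122195 8
 (Tr.node (Tr.node (Tr.node (Tr.node Tr.leaf 122199 7
 Tr.leaf) 122201 8
 Tr.leaf) 122225 8
 (Tr.node (Tr.node Tr.leaf 122227 8
 Tr.leaf) 122231 8
 Tr.leaf)) 122233 7
 (Tr.node (Tr.node (Tr.node Tr.leaf 122235 8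
 Tr.leaf) 122237 7
 Tr.leaf) 122239 7
 (Tr.node Tr.leaf 122257 7
 Tr.leaf)))) 122261 8
 (Tr.node (Tr.node (Tr.node (Tr.node (Tr.node Tr.leaf 122265 8
 Tr.leaf) 122269 8
 Tr.leaf) 122271 8
 (Tr.node (Tr.node Tr.leaf 122291 7
 Tr.leaf) 122293 7
 Tr.leaf)) 122295 8
 (Tr.node (Tr.node (Tr.node Tr.leaf 122301 8
 Tr.leaf) 122303 8
 Tr.leaf) 122321 7
 (Tr.node (Tr.node Tr.leaf 122329 7
 Tr.leaf) 122331 7
 Tr.leaf))) 122333 8
 (Tr.node (Tr.node (Tr.node (Tr.node Tr.leaf 122335 7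
 Tr.leaf) 122355 8
 Tr.leaf) 122359 8
 (Tr.node (Tr.node Tr.leaf 122361 8
 Tr.leaf) 122882 6
 Tr.leaf)) 122884 5
 (Tr.node (Tr.node (Tr.node Tr.leaf 122887 7
 Tr.leaf) 122893 7
 Tr.leaf) 122894 6
 (Tr.node Tr.leaf 122897 6
 Tr.leaf))))) 122900 6
 (Tr.node (Tr.node (Tr.node (Tr.node (Tr.node (Tr.node Tr.leaf 122903 6
 Tr.leaf) 122913 6
 Tr.leaf) 122919 6
 (Tr.node (Tr.node Tr.leaf 122925 7
 Tr.leaf) 122926 6
 Tr.leaf)) 122930 6
 (Tr.node (Tr.node (Tr.node Tr.leaf 122935 5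
 Tr.leaf) 122939 6
 Tr.leaf) 122941 6
 (Tr.node (Tr.node Tr.leaf 122942 7
 Tr.leaf) 122951 6
 Tr.leaf))) 122957 6
 (Tr.node (Tr.node (Tr.node (Tr.node Tr.leaf 122962 6
 Tr.leaf) 122967 6
 Tr.leaf) 122968 5
 (Tr.node (Tr.node Tr.leaf 122971 6
 Tr.leaf) 122973 7
 Tr.leaf)) 122978 6
 (Tr.node (Tr.node (Tr.node Tr.leaf 122980 6
 Tr.leaf) 122983 6
 Tr.leaf) 122989 7
 (Tr.node Tr.leaf 122990 6
 Tr.leaf)))) 122993 6
 (Tr.node (Tr.node (Tr.node (Tr.node (Tr.node Tr.leaf 122994 6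
 Tr.leaf) 122996 6
 Tr.leaf) 123000 5
 (Tr.node (Tr.node Tr.leaf 123003 7
 Tr.leaf) 123006 6
 Tr.leaf)) 123016 6
 (Tr.node (Tr.node (Tr.node Tr.leaf 123019 7
 Tr.leaf) 123021 7
 Tr.leaf) 123025 6
 (Tr.node Tr.leaf 123026 6
 Tr.leaf))) 123035 7
 (Tr.node (Tr.node (Tr.node (Tr.node Tr.leaf 123038 6
 Tr.leaf) 123041 6
 Tr.leaf) 123042 6
 (Tr.node (Tr.node Tr.leaf 123044 6
 Tr.leaf) 123048 5
 Tr.leaf)) 123051 6
 (Tr.node (Tr.node (Tr.node Tr.leaf 123054 7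
 Tr.leaf) 123058 7
 Tr.leaf) 123060 6
 (Tr.node Tr.leaf 123067 7
 Tr.leaf)))))) 123070 6
 (Tr.node (Tr.node (Tr.node (Tr.node (Tr.node (Tr.node (Tr.node Tr.leaf 123074 6
 Tr.leaf) 123079 5
 Tr.leaf) 123083 7
 (Tr.node (Tr.node Tr.leaf 123090 7
 Tr.leaf) 123099 6
 Tr.leaf)) 123101 7
 (Tr.node (Tr.node (Tr.node Tr.leaf 123102 6
 Tr.leaf) 123106 7
 Tr.leaf) 123111 6
 (Tr.node (Tr.node Tr.leaf 123117 7
 Tr.leaf) 123121 6
 Tr.leaf))) 123139 7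
 (Tr.node (Tr.node (Tr.node (Tr.node Tr.leaf 123141 7
 Tr.leaf) 123142 7
 Tr.leaf) 123145 7
 (Tr.node (Tr.node Tr.leaf 123146 7
 Tr.leaf) 123148 6
 Tr.leaf)) 123162 6
 (Tr.node (Tr.node (Tr.node Tr.leaf 123171 7
 Tr.leaf) 123173 7
 Tr.leaf) 123174 7
 (Tr.node Tr.leaf 123177 7
 Tr.leaf)))) 123178 7
 (Tr.node (Tr.node (Tr.node (Tr.node (Tr.node Tr.leaf 123180 7
 Tr.leaf) 123189 7
 Tr.leaf) 123190 7
 (Tr.node (Tr.node Tr.leaf 123199 7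
 Tr.leaf) 123212 6
 Tr.leaf)) 123219 7
 (Tr.node (Tr.node (Tr.node Tr.leaf 123221 6
 Tr.leaf) 123222 6
 Tr.leaf) 123231 7
 (Tr.node (Tr.node Tr.leaf 123237 7
 Tr.leaf) 123238 6
 Tr.leaf))) 123241 7
 (Tr.node (Tr.node (Tr.node (Tr.node Tr.leaf 123242 5
 Tr.leaf) 123244 5
 Tr.leaf) 123247 8
 (Tr.node (Tr.node Tr.leaf 123251 7
 Tr.leaf) 123254 7
 Tr.leaf)) 123267 7
 (Tr.node (Tr.node (Tr.node Tr.leaf 123273 7
 Tr.leaf) 123274 7
 Tr.leaf) 123283 7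
 (Tr.node Tr.leaf 123286 6
 Tr.leaf))))) 123289 7
 (Tr.node (Tr.node (Tr.node (Tr.node (Tr.node (Tr.node Tr.leaf 123290 6
 Tr.leaf) 123292 6
 Tr.leaf) 123295 8
 (Tr.node (Tr.node Tr.leaf 123299 7
 Tr.leaf) 123302 6
 Tr.leaf)) 123311 8
 (Tr.node (Tr.node (Tr.node Tr.leaf 123321 7
 Tr.leaf) 123322 7
 Tr.leaf) 123324 6
 (Tr.node (Tr.node Tr.leaf 123331 6
 Tr.leaf) 123333 6
 Tr.leaf))) 123337 7
 (Tr.node (Tr.node (Tr.node (Tr.node Tr.leaf 123340 7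
 Tr.leaf) 123347 7
 Tr.leaf) 123349 7
 (Tr.node (Tr.node Tr.leaf 123363 7
 Tr.leaf) 123365 6
 Tr.leaf)) 123370 6
 (Tr.node (Tr.node (Tr.node Tr.leaf 123375 7
 Tr.leaf) 123379 7
 Tr.leaf) 123385 7
 (Tr.node Tr.leaf 123388 6
 Tr.leaf)))) 123909 7
 (Tr.node (Tr.node (Tr.node (Tr.node (Tr.node Tr.leaf 123911 7
 Tr.leaf) 123915 7
 Tr.leaf) 123931 7
 (Tr.node (Tr.node Tr.leaf 123941 7
 Tr.leaf) 123943 6
 Tr.leaf)) 123947 7
 (Tr.node (Tr.node (Tr.node Tr.leaf 123959 6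
 Tr.leaf) 123973 7
 Tr.leaf) 123979 6
 (Tr.node Tr.leaf 123991 6
 Tr.leaf))) 123993 6
 (Tr.node (Tr.node (Tr.node (Tr.node Tr.leaf 124005 7
 Tr.leaf) 124007 7
 Tr.leaf) 124009 7
 (Tr.node (Tr.node Tr.leaf 124011 6
 Tr.leaf) 124023 7
 Tr.leaf)) 124025 6
 (Tr.node (Tr.node (Tr.node Tr.leaf 124027 6
 Tr.leaf) 124037 6
 Tr.leaf) 124039 6
 (Tr.node Tr.leaf 124043 6
 Tr.leaf))))))) 124069 7
 (Tr.node (Tr.node (Tr.node (Tr.node (Tr.node (Tr.node (Tr.node (Tr.node Tr.leaf 124073 7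
 Tr.leaf) 124075 7
 Tr.leaf) 124089 7
 (Tr.node (Tr.node Tr.leaf 124103 6
 Tr.leaf) 124107 7
 Tr.leaf)) 124117 6
 (Tr.node (Tr.node (Tr.node Tr.leaf 124119 7
 Tr.leaf) 124123 7
 Tr.leaf) 124133 6
 (Tr.node (Tr.node Tr.leaf 124139 7
 Tr.leaf) 124155 7
 Tr.leaf))) 124175 8
 (Tr.node (Tr.node (Tr.node (Tr.node Tr.leaf 124177 6
 Tr.leaf) 124179 7
 Tr.leaf) 124193 7
 (Tr.node (Tr.node Tr.leaf 124205 8
 Tr.leaf) 124211 7
 Tr.leaf)) 124223 7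
 (Tr.node (Tr.node (Tr.node Tr.leaf 124225 7
 Tr.leaf) 124239 7
 Tr.leaf) 124243 7
 (Tr.node Tr.leaf 124255 6
 Tr.leaf)))) 124257 7
 (Tr.node (Tr.node (Tr.node (Tr.node (Tr.node Tr.leaf 124271 7
 Tr.leaf) 124273 7
 Tr.leaf) 124275 6
 (Tr.node (Tr.node Tr.leaf 124287 7
 Tr.leaf) 124305 5
 Tr.leaf)) 124307 7
 (Tr.node (Tr.node (Tr.node Tr.leaf 124323 6
 Tr.leaf) 124333 7
 Tr.leaf) 124337 6
 (Tr.node (Tr.node Tr.leaf 124339 7
 Tr.leaf) 124351 7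
 Tr.leaf))) 124353 6
 (Tr.node (Tr.node (Tr.node (Tr.node Tr.leaf 124383 8
 Tr.leaf) 124385 6
 Tr.leaf) 124397 7
 (Tr.node (Tr.node Tr.leaf 124401 7
 Tr.leaf) 124413 8
 Tr.leaf)) 124415 7
 (Tr.node (Tr.node (Tr.node Tr.leaf 124935 6
 Tr.leaf) 124937 7
 Tr.leaf) 124941 7
 (Tr.node Tr.leaf 124947 7
 Tr.leaf))))) 124967 7
 (Tr.node (Tr.node (Tr.node (Tr.node (Tr.node (Tr.node Tr.leaf 124970 6
 Tr.leaf) 124974 6
 Tr.leaf) 124985 6
 (Tr.node (Tr.node Tr.leaf 124989 7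
 Tr.leaf) 124990 6
 Tr.leaf)) 125001 7
 (Tr.node (Tr.node (Tr.node Tr.leaf 125005 6
 Tr.leaf) 125011 7
 Tr.leaf) 125015 6
 (Tr.node (Tr.node Tr.leaf 125017 7
 Tr.leaf) 125018 7
 Tr.leaf))) 125021 6
 (Tr.node (Tr.node (Tr.node (Tr.node Tr.leaf 125027 6
 Tr.leaf) 125031 6
 Tr.leaf) 125033 7
 (Tr.node (Tr.node Tr.leaf 125034 7
 Tr.leaf) 125043 7
 Tr.leaf)) 125049 6
 (Tr.node (Tr.node (Tr.node Tr.leaf 125050 7
 Tr.leaf) 125054 6
 Tr.leaf) 125059 7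
 (Tr.node Tr.leaf 125063 7
 Tr.leaf)))) 125065 7
 (Tr.node (Tr.node (Tr.node (Tr.node (Tr.node Tr.leaf 125066 6
 Tr.leaf) 125069 6
 Tr.leaf) 125079 6
 (Tr.node (Tr.node Tr.leaf 125085 7
 Tr.leaf) 125091 6
 Tr.leaf)) 125097 6
 (Tr.node (Tr.node (Tr.node Tr.leaf 125107 6
 Tr.leaf) 125111 7
 Tr.leaf) 125117 6
 (Tr.node Tr.leaf 125129 6
 Tr.leaf))) 125130 5
 (Tr.node (Tr.node (Tr.node (Tr.node Tr.leaf 125139 6
 Tr.leaf) 125143 7
 Tr.leaf) 125146 5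
 (Tr.node (Tr.node Tr.leaf 125149 7
 Tr.leaf) 125150 6
 Tr.leaf)) 125155 7
 (Tr.node (Tr.node (Tr.node Tr.leaf 125161 7
 Tr.leaf) 125162 7
 Tr.leaf) 125165 7
 (Tr.node Tr.leaf 125171 7
 Tr.leaf)))))) 125175 7
 (Tr.node (Tr.node (Tr.node (Tr.node (Tr.node (Tr.node (Tr.node Tr.leaf 125185 7
 Tr.leaf) 125189 6
 Tr.leaf) 125190 6
 (Tr.node (Tr.node Tr.leaf 125199 7
 Tr.leaf) 125201 7
 Tr.leaf)) 125202 6
 (Tr.node (Tr.node (Tr.node Tr.leaf 125205 7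
 Tr.leaf) 125227 7
 Tr.leaf) 125234 5
 (Tr.node (Tr.node Tr.leaf 125238 6
 Tr.leaf) 125243 8
 Tr.leaf))) 125250 5
 (Tr.node (Tr.node (Tr.node (Tr.node Tr.leaf 125253 6
 Tr.leaf) 125254 7
 Tr.leaf) 125266 6
 (Tr.node (Tr.node Tr.leaf 125269 6
 Tr.leaf) 125281 7
 Tr.leaf)) 125286 6
 (Tr.node (Tr.node (Tr.node Tr.leaf 125295 7
 Tr.leaf) 125297 7
 Tr.leaf) 125302 6
 (Tr.node Tr.leaf 125311 7
 Tr.leaf)))) 125313 7
 (Tr.node (Tr.node (Tr.node (Tr.node (Tr.node Tr.leaf 125317 7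
 Tr.leaf) 125318 6
 Tr.leaf) 125323 7
 (Tr.node (Tr.node Tr.leaf 125330 6
 Tr.leaf) 125333 7
 Tr.leaf)) 125334 7
 (Tr.node (Tr.node (Tr.node Tr.leaf 125345 6
 Tr.leaf) 125349 7
 Tr.leaf) 125350 6
 (Tr.node Tr.leaf 125361 6
 Tr.leaf))) 125365 6
 (Tr.node (Tr.node (Tr.node (Tr.node Tr.leaf 125366 6
 Tr.leaf) 125375 7
 Tr.leaf) 125377 6
 (Tr.node (Tr.node Tr.leaf 125378 6
 Tr.leaf) 125382 6
 Tr.leaf)) 125387 7
 (Tr.node (Tr.node (Tr.node Tr.leaf 125393 6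
 Tr.leaf) 125394 7
 Tr.leaf) 125397 7
 (Tr.node Tr.leaf 125398 6
 Tr.leaf))))) 125403 7
 (Tr.node (Tr.node (Tr.node (Tr.node (Tr.node (Tr.node Tr.leaf 125407 7
 Tr.leaf) 125413 7
 Tr.leaf) 125414 6
 (Tr.node (Tr.node Tr.leaf 125429 7
 Tr.leaf) 125430 6
 Tr.leaf)) 125953 5
 (Tr.node (Tr.node (Tr.node Tr.leaf 125955 7
 Tr.leaf) 125957 6
 Tr.leaf) 125969 7
 (Tr.node (Tr.node Tr.leaf 125971 6
 Tr.leaf) 126001 7
 Tr.leaf))) 126003 7
 (Tr.node (Tr.node (Tr.node (Tr.node Tr.leaf 126021 6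
 Tr.leaf) 126023 5
 Tr.leaf) 126033 7
 (Tr.node (Tr.node Tr.leaf 126035 7
 Tr.leaf) 126037 7
 Tr.leaf)) 126049 7
 (Tr.node (Tr.node (Tr.node Tr.leaf 126055 6
 Tr.leaf) 126065 6
 Tr.leaf) 126067 7
 (Tr.node Tr.leaf 126081 7
 Tr.leaf)))) 126083 7
 (Tr.node (Tr.node (Tr.node (Tr.node (Tr.node Tr.leaf 126087 6
 Tr.leaf) 126097 6
 Tr.leaf) 126101 7
 (Tr.node (Tr.node Tr.leaf 126103 7
 Tr.leaf) 126113 6
 Tr.leaf)) 126115 7
 (Tr.node (Tr.node (Tr.node Tr.leaf 126129 5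
 Tr.leaf) 126135 7
 Tr.leaf) 126145 6
 (Tr.node Tr.leaf 126147 7
 Tr.leaf))) 126161 6
 (Tr.node (Tr.node (Tr.node (Tr.node Tr.leaf 126165 7
 Tr.leaf) 126167 7
 Tr.leaf) 126177 6
 (Tr.node (Tr.node Tr.leaf 126179 7
 Tr.leaf) 126181 6
 Tr.leaf)) 126183 7
 (Tr.node (Tr.node (Tr.node Tr.leaf 126197 7
 Tr.leaf) 126199 5
 Tr.leaf) 126217 7
 (Tr.node Tr.leaf 126221 7
 Tr.leaf))))))))

/-- A subtree. -/
def tr1_s31 : Tr := (Tr.node (Tr.node (Tr.node (Tr.node (Tr.node (Tr.node (Tr.node (Tr.node (Tr.node Tr.leaf 126237 7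
 Tr.leaf) 126271 7
 Tr.leaf) 126281 7
 (Tr.node (Tr.node Tr.leaf 126285 7
 Tr.leaf) 126287 8
 Tr.leaf)) 126297 7
 (Tr.node (Tr.node (Tr.node Tr.leaf 126301 7
 Tr.leaf) 126319 7
 Tr.leaf) 126329 7
 (Tr.node (Tr.node Tr.leaf 126331 7
 Tr.leaf) 126335 7
 Tr.leaf))) 126351 7
 (Tr.node (Tr.node (Tr.node (Tr.node Tr.leaf 126361 8
 Tr.leaf) 126363 6
 Tr.leaf) 126365 6
 (Tr.node (Tr.node Tr.leaf 126379 7
 Tr.leaf) 126383 7
 Tr.leaf)) 126397 7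
 (Tr.node (Tr.node (Tr.node Tr.leaf 126399 7
 Tr.leaf) 126409 7
 Tr.leaf) 126411 7
 (Tr.node Tr.leaf 126413 7
 Tr.leaf)))) 126425 6
 (Tr.node (Tr.node (Tr.node (Tr.node (Tr.node Tr.leaf 126427 7
 Tr.leaf) 126457 7
 Tr.leaf) 126459 8
 (Tr.node (Tr.node Tr.leaf 126981 6
 Tr.leaf) 126982 6
 Tr.leaf)) 126987 6
 (Tr.node (Tr.node (Tr.node Tr.leaf 126989 7
 Tr.leaf) 126990 5
 Tr.leaf) 126998 6
 (Tr.node (Tr.node Tr.leaf 127003 6
 Tr.leaf) 127006 6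
 Tr.leaf))) 127011 6
 (Tr.node (Tr.node (Tr.node (Tr.node Tr.leaf 127013 6
 Tr.leaf) 127027 7
 Tr.leaf) 127035 5
 (Tr.node (Tr.node Tr.leaf 127037 5
 Tr.leaf) 127045 6
 Tr.leaf)) 127046 5
 (Tr.node (Tr.node (Tr.node Tr.leaf 127069 6
 Tr.leaf) 127070 5
 Tr.leaf) 127077 7
 (Tr.node Tr.leaf 127083 6
 Tr.leaf))))) 127085 7
 (Tr.node (Tr.node (Tr.node (Tr.node (Tr.node (Tr.node Tr.leaf 127086 7
 Tr.leaf) 127094 6
 Tr.leaf) 127102 6
 (Tr.node (Tr.node Tr.leaf 127107 7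
 Tr.leaf) 127115 7
 Tr.leaf)) 127117 7
 (Tr.node (Tr.node (Tr.node Tr.leaf 127118 6
 Tr.leaf) 127123 6
 Tr.leaf) 127131 7
 (Tr.node (Tr.node Tr.leaf 127139 7
 Tr.leaf) 127142 6
 Tr.leaf))) 127147 7
 (Tr.node (Tr.node (Tr.node (Tr.node Tr.leaf 127155 7
 Tr.leaf) 127158 7
 Tr.leaf) 127165 7
 (Tr.node (Tr.node Tr.leaf 127166 5
 Tr.leaf) 127171 5
 Tr.leaf)) 127173 5
 (Tr.node (Tr.node (Tr.node Tr.leaf 127179 6
 Tr.leaf) 127181 6
 Tr.leaf) 127182 7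
 (Tr.node Tr.leaf 127189 7
 Tr.leaf)))) 127197 6
 (Tr.node (Tr.node (Tr.node (Tr.node (Tr.node Tr.leaf 127198 7
 Tr.leaf) 127205 7
 Tr.leaf) 127206 6
 (Tr.node (Tr.node Tr.leaf 127211 6
 Tr.leaf) 127214 5
 Tr.leaf)) 127222 5
 (Tr.node (Tr.node (Tr.node Tr.leaf 127227 7
 Tr.leaf) 127247 8
 Tr.leaf) 127249 6
 (Tr.node Tr.leaf 127252 6
 Tr.leaf))) 127263 7
 (Tr.node (Tr.node (Tr.node (Tr.node Tr.leaf 127265 7
 Tr.leaf) 127266 7
 Tr.leaf) 127268 7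
 (Tr.node (Tr.node Tr.leaf 127271 7
 Tr.leaf) 127273 7
 Tr.leaf)) 127282 6
 (Tr.node (Tr.node (Tr.node Tr.leaf 127284 7
 Tr.leaf) 127295 7
 Tr.leaf) 127298 6
 (Tr.node Tr.leaf 127300 6
 Tr.leaf)))))) 127306 6
 (Tr.node (Tr.node (Tr.node (Tr.node (Tr.node (Tr.node (Tr.node Tr.leaf 127313 6
 Tr.leaf) 127314 6
 Tr.leaf) 127316 6
 (Tr.node (Tr.node Tr.leaf 127319 7
 Tr.leaf) 127322 6
 Tr.leaf)) 127327 8
 (Tr.node (Tr.node (Tr.node Tr.leaf 127329 7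
 Tr.leaf) 127332 6
 Tr.leaf) 127337 7
 (Tr.node (Tr.node Tr.leaf 127338 7
 Tr.leaf) 127340 7
 Tr.leaf))) 127353 7
 (Tr.node (Tr.node (Tr.node (Tr.node Tr.leaf 127354 7
 Tr.leaf) 127356 6
 Tr.leaf) 127359 7
 (Tr.node (Tr.node Tr.leaf 127361 7
 Tr.leaf) 127364 5
 Tr.leaf)) 127369 7
 (Tr.node (Tr.node (Tr.node Tr.leaf 127370 7
 Tr.leaf) 127372 7
 Tr.leaf) 127388 6
 (Tr.node Tr.leaf 127391 7
 Tr.leaf)))) 127394 6
 (Tr.node (Tr.node (Tr.node (Tr.node (Tr.node Tr.leaf 127401 6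
 Tr.leaf) 127402 6
 Tr.leaf) 127404 6
 (Tr.node (Tr.node Tr.leaf 127407 7
 Tr.leaf) 127409 7
 Tr.leaf)) 127410 6
 (Tr.node (Tr.node (Tr.node Tr.leaf 127412 7
 Tr.leaf) 127418 5
 Tr.leaf) 127420 5
 (Tr.node (Tr.node Tr.leaf 127423 7
 Tr.leaf) 127425 7
 Tr.leaf))) 127426 7
 (Tr.node (Tr.node (Tr.node (Tr.node Tr.leaf 127428 7
 Tr.leaf) 127431 7
 Tr.leaf) 127434 6
 (Tr.node (Tr.node Tr.leaf 127439 7
 Tr.leaf) 127441 7
 Tr.leaf)) 127442 7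
 (Tr.node (Tr.node (Tr.node Tr.leaf 127444 7
 Tr.leaf) 127463 7
 Tr.leaf) 127465 6
 (Tr.node Tr.leaf 127468 6
 Tr.leaf))))) 127471 7
 (Tr.node (Tr.node (Tr.node (Tr.node (Tr.node (Tr.node Tr.leaf 127473 7
 Tr.leaf) 127474 7
 Tr.leaf) 127476 7
 (Tr.node (Tr.node Tr.leaf 127479 7
 Tr.leaf) 127481 7
 Tr.leaf)) 127482 7
 (Tr.node (Tr.node (Tr.node Tr.leaf 127487 8
 Tr.leaf) 128001 5
 Tr.leaf) 128003 7
 (Tr.node (Tr.node Tr.leaf 128011 7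
 Tr.leaf) 128019 7
 Tr.leaf))) 128025 7
 (Tr.node (Tr.node (Tr.node (Tr.node Tr.leaf 128027 6
 Tr.leaf) 128033 7
 Tr.leaf) 128035 6
 (Tr.node (Tr.node Tr.leaf 128043 7
 Tr.leaf) 128051 7
 Tr.leaf)) 128059 7
 (Tr.node (Tr.node (Tr.node Tr.leaf 128065 7
 Tr.leaf) 128067 6
 Tr.leaf) 128073 6
 (Tr.node Tr.leaf 128075 5
 Tr.leaf)))) 128081 6
 (Tr.node (Tr.node (Tr.node (Tr.node (Tr.node Tr.leaf 128083 6
 Tr.leaf) 128089 6
 Tr.leaf) 128097 7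
 (Tr.node (Tr.node Tr.leaf 128105 7
 Tr.leaf) 128113 7
 Tr.leaf)) 128121 7
 (Tr.node (Tr.node (Tr.node Tr.leaf 128129 6
 Tr.leaf) 128145 6
 Tr.leaf) 128147 7
 (Tr.node Tr.leaf 128177 5
 Tr.leaf))) 128185 6
 (Tr.node (Tr.node (Tr.node (Tr.node Tr.leaf 128195 7
 Tr.leaf) 128211 7
 Tr.leaf) 128217 6
 (Tr.node (Tr.node Tr.leaf 128219 7
 Tr.leaf) 128225 6
 Tr.leaf)) 128227 7
 (Tr.node (Tr.node (Tr.node Tr.leaf 128235 7
 Tr.leaf) 128243 7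
 Tr.leaf) 128249 7
 (Tr.node Tr.leaf 128251 5
 Tr.leaf))))))) 128261 8
 (Tr.node (Tr.node (Tr.node (Tr.node (Tr.node (Tr.node (Tr.node (Tr.node Tr.leaf 128263 7
 Tr.leaf) 128277 7
 Tr.leaf) 128279 7
 (Tr.node (Tr.node Tr.leaf 128287 7
 Tr.leaf) 128319 7
 Tr.leaf)) 128327 8
 (Tr.node (Tr.node (Tr.node Tr.leaf 128341 7
 Tr.leaf) 128343 6
 Tr.leaf) 128351 7
 (Tr.node (Tr.node Tr.leaf 128359 6
 Tr.leaf) 128365 7
 Tr.leaf))) 128373 7
 (Tr.node (Tr.node (Tr.node (Tr.node Tr.leaf 128375 7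
 Tr.leaf) 128383 8
 Tr.leaf) 128389 7
 (Tr.node (Tr.node Tr.leaf 128391 7
 Tr.leaf) 128405 7
 Tr.leaf)) 128407 7
 (Tr.node (Tr.node (Tr.node Tr.leaf 128431 7
 Tr.leaf) 128437 7
 Tr.leaf) 128445 7
 (Tr.node Tr.leaf 128447 7
 Tr.leaf)))) 128455 6
 (Tr.node (Tr.node (Tr.node (Tr.node (Tr.node Tr.leaf 128463 7
 Tr.leaf) 128469 7
 Tr.leaf) 128485 7
 (Tr.node (Tr.node Tr.leaf 128493 7
 Tr.leaf) 128495 7
 Tr.leaf)) 129025 5
 (Tr.node (Tr.node (Tr.node Tr.leaf 129026 7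
 Tr.leaf) 129029 7
 Tr.leaf) 129030 5
 (Tr.node (Tr.node Tr.leaf 129033 7
 Tr.leaf) 129034 5
 Tr.leaf))) 129038 5
 (Tr.node (Tr.node (Tr.node (Tr.node Tr.leaf 129041 7
 Tr.leaf) 129042 6
 Tr.leaf) 129046 6
 (Tr.node (Tr.node Tr.leaf 129049 6
 Tr.leaf) 129062 6
 Tr.leaf)) 129073 6
 (Tr.node (Tr.node (Tr.node Tr.leaf 129074 5
 Tr.leaf) 129086 6
 Tr.leaf) 129090 5
 (Tr.node Tr.leaf 129094 5
 Tr.leaf))))) 129098 5
 (Tr.node (Tr.node (Tr.node (Tr.node (Tr.node (Tr.node Tr.leaf 129101 5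
 Tr.leaf) 129105 7
 Tr.leaf) 129106 6
 (Tr.node (Tr.node Tr.leaf 129109 7
 Tr.leaf) 129110 7
 Tr.leaf)) 129113 6
 (Tr.node (Tr.node (Tr.node Tr.leaf 129117 6
 Tr.leaf) 129121 7
 Tr.leaf) 129125 7
 (Tr.node (Tr.node Tr.leaf 129126 5
 Tr.leaf) 129129 6
 Tr.leaf))) 129133 7
 (Tr.node (Tr.node (Tr.node (Tr.node Tr.leaf 129138 6
 Tr.leaf) 129142 5
 Tr.leaf) 129145 7
 (Tr.node (Tr.node Tr.leaf 129153 7
 Tr.leaf) 129157 7
 Tr.leaf)) 129161 7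
 (Tr.node (Tr.node (Tr.node Tr.leaf 129162 6
 Tr.leaf) 129165 7
 Tr.leaf) 129166 6
 (Tr.node Tr.leaf 129170 6
 Tr.leaf)))) 129173 6
 (Tr.node (Tr.node (Tr.node (Tr.node (Tr.node Tr.leaf 129178 6
 Tr.leaf) 129182 7
 Tr.leaf) 129186 7
 (Tr.node (Tr.node Tr.leaf 129193 7
 Tr.leaf) 129198 5
 Tr.leaf)) 129201 5
 (Tr.node (Tr.node (Tr.node Tr.leaf 129202 7
 Tr.leaf) 129206 5
 Tr.leaf) 129209 6
 (Tr.node Tr.leaf 129210 5
 Tr.leaf))) 129213 6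
 (Tr.node (Tr.node (Tr.node (Tr.node Tr.leaf 129214 4
 Tr.leaf) 129222 7
 Tr.leaf) 129225 6
 (Tr.node (Tr.node Tr.leaf 129229 6
 Tr.leaf) 129230 6
 Tr.leaf)) 129233 7
 (Tr.node (Tr.node (Tr.node Tr.leaf 129237 7
 Tr.leaf) 129238 7
 Tr.leaf) 129241 6
 (Tr.node Tr.leaf 129242 6
 Tr.leaf)))))) 129245 7
 (Tr.node (Tr.node (Tr.node (Tr.node (Tr.node (Tr.node (Tr.node Tr.leaf 129246 6
 Tr.leaf) 129249 7
 Tr.leaf) 129250 7
 (Tr.node (Tr.node Tr.leaf 129253 6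
 Tr.leaf) 129254 7
 Tr.leaf)) 129257 7
 (Tr.node (Tr.node (Tr.node Tr.leaf 129258 6
 Tr.leaf) 129261 7
 Tr.leaf) 129262 6
 (Tr.node (Tr.node Tr.leaf 129266 5
 Tr.leaf) 129269 7
 Tr.leaf))) 129270 5
 (Tr.node (Tr.node (Tr.node (Tr.node Tr.leaf 129274 5
 Tr.leaf) 129277 5
 Tr.leaf) 129287 7
 (Tr.node (Tr.node Tr.leaf 129295 7
 Tr.leaf) 129303 7
 Tr.leaf)) 129315 7
 (Tr.node (Tr.node (Tr.node Tr.leaf 129319 7
 Tr.leaf) 129331 7
 Tr.leaf) 129347 8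
 (Tr.node Tr.leaf 129355 7
 Tr.leaf)))) 129367 7
 (Tr.node (Tr.node (Tr.node (Tr.node (Tr.node Tr.leaf 129379 7
 Tr.leaf) 129387 7
 Tr.leaf) 129423 6
 (Tr.node (Tr.node Tr.leaf 129431 7
 Tr.leaf) 129435 7
 Tr.leaf)) 129451 7
 (Tr.node (Tr.node (Tr.node Tr.leaf 129455 7
 Tr.leaf) 129459 7
 Tr.leaf) 129467 7
 (Tr.node Tr.leaf 129471 7
 Tr.leaf))) 129475 7
 (Tr.node (Tr.node (Tr.node (Tr.node Tr.leaf 129479 6
 Tr.leaf) 129483 6
 Tr.leaf) 129487 8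
 (Tr.node (Tr.node Tr.leaf 129491 7
 Tr.leaf) 129499 7
 Tr.leaf)) 129515 7
 (Tr.node (Tr.node (Tr.node Tr.leaf 129519 7
 Tr.leaf) 129531 7
 Tr.leaf) 129535 8
 (Tr.node Tr.leaf 130309 7
 Tr.leaf))))) 130315 8
 (Tr.node (Tr.node (Tr.node (Tr.node (Tr.node (Tr.node Tr.leaf 130317 7
 Tr.leaf) 130319 8
 Tr.leaf) 130321 7
 (Tr.node (Tr.node Tr.leaf 130323 8
 Tr.leaf) 130325 7
 Tr.leaf)) 130327 8
 (Tr.node (Tr.node (Tr.node Tr.leaf 130329 8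
 Tr.leaf) 130333 7
 Tr.leaf) 130341 7
 (Tr.node (Tr.node Tr.leaf 130345 8
 Tr.leaf) 130347 7
 Tr.leaf))) 130349 7
 (Tr.node (Tr.node (Tr.node (Tr.node Tr.leaf 130351 7
 Tr.leaf) 130357 7
 Tr.leaf) 130365 7
 (Tr.node (Tr.node Tr.leaf 130367 7
 Tr.leaf) 130377 7
 Tr.leaf)) 130381 8
 (Tr.node (Tr.node (Tr.node Tr.leaf 130383 7
 Tr.leaf) 130387 7
 Tr.leaf) 130389 7
 (Tr.node Tr.leaf 130391 8
 Tr.leaf)))) 130401 7
 (Tr.node (Tr.node (Tr.node (Tr.node (Tr.node Tr.leaf 130403 7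
 Tr.leaf) 130419 7
 Tr.leaf) 130421 7
 (Tr.node (Tr.node Tr.leaf 130427 7
 Tr.leaf) 130429 8
 Tr.leaf)) 130433 7
 (Tr.node (Tr.node (Tr.node Tr.leaf 130435 7
 Tr.leaf) 130441 7
 Tr.leaf) 130445 8
 (Tr.node Tr.leaf 130447 7
 Tr.leaf))) 130449 7
 (Tr.node (Tr.node (Tr.node (Tr.node Tr.leaf 130453 7
 Tr.leaf) 130457 8
 Tr.leaf) 130461 8
 (Tr.node (Tr.node Tr.leaf 130467 7
 Tr.leaf) 130471 7
 Tr.leaf)) 130475 7
 (Tr.node (Tr.node (Tr.node Tr.leaf 130477 7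
 Tr.leaf) 130479 7
 Tr.leaf) 130481 7
 (Tr.node Tr.leaf 130485 8
 Tr.leaf))))))))

/-- A subtree. -/
def tr1_s32 : Tr := (Tr.node (Tr.node (Tr.node (Tr.node (Tr.node (Tr.node (Tr.node (Tr.node (Tr.node Tr.leaf 130493 7
 Tr.leaf) 130495 7
 Tr.leaf) 130505 7
 (Tr.node (Tr.node Tr.leaf 130507 7
 Tr.leaf) 130509 8
 Tr.leaf)) 130511 7
 (Tr.node (Tr.node (Tr.node Tr.leaf 130513 7
 Tr.leaf) 130519 7
 Tr.leaf) 130521 7
 (Tr.node (Tr.node Tr.leaf 130525 7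
 Tr.leaf) 130527 7
 Tr.leaf))) 130531 7
 (Tr.node (Tr.node (Tr.node (Tr.node Tr.leaf 130535 8
 Tr.leaf) 130541 8
 Tr.leaf) 130543 7
 (Tr.node (Tr.node Tr.leaf 130549 8
 Tr.leaf) 130553 8
 Tr.leaf)) 131075 4
 (Tr.node (Tr.node (Tr.node Tr.leaf 131077 4
 Tr.leaf) 131078 4
 Tr.leaf) 131081 4
 (Tr.node Tr.leaf 131084 4
 Tr.leaf)))) 131090 4
 (Tr.node (Tr.node (Tr.node (Tr.node (Tr.node Tr.leaf 131092 4
 Tr.leaf) 131095 7
 Tr.leaf) 131096 4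
 (Tr.node (Tr.node Tr.leaf 131101 6
 Tr.leaf) 131105 4
 Tr.leaf)) 131106 4
 (Tr.node (Tr.node (Tr.node Tr.leaf 131111 6
 Tr.leaf) 131112 4
 Tr.leaf) 131115 6
 (Tr.node (Tr.node Tr.leaf 131120 3
 Tr.leaf) 131126 5
 Tr.leaf))) 131130 7
 (Tr.node (Tr.node (Tr.node (Tr.node Tr.leaf 131132 6
 Tr.leaf) 131137 4
 Tr.leaf) 131138 4
 (Tr.node (Tr.node Tr.leaf 131140 4
 Tr.leaf) 131144 3
 Tr.leaf)) 131147 6
 (Tr.node (Tr.node (Tr.node Tr.leaf 131149 5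
 Tr.leaf) 131152 4
 Tr.leaf) 131157 5
 (Tr.node Tr.leaf 131161 6
 Tr.leaf))))) 131167 5
 (Tr.node (Tr.node (Tr.node (Tr.node (Tr.node (Tr.node Tr.leaf 131168 4
 Tr.leaf) 131173 6
 Tr.leaf) 131177 6
 (Tr.node (Tr.node Tr.leaf 131178 6
 Tr.leaf) 131180 5
 Tr.leaf)) 131191 6
 (Tr.node (Tr.node (Tr.node Tr.leaf 131195 6
 Tr.leaf) 131198 6
 Tr.leaf) 131201 4
 (Tr.node (Tr.node Tr.leaf 131202 4
 Tr.leaf) 131204 4
 Tr.leaf))) 131208 4
 (Tr.node (Tr.node (Tr.node (Tr.node Tr.leaf 131213 6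
 Tr.leaf) 131216 3
 Tr.leaf) 131219 7
 (Tr.node (Tr.node Tr.leaf 131225 6
 Tr.leaf) 131228 6
 Tr.leaf)) 131231 6
 (Tr.node (Tr.node (Tr.node Tr.leaf 131232 3
 Tr.leaf) 131235 6
 Tr.leaf) 131244 7
 (Tr.node Tr.leaf 131249 6
 Tr.leaf)))) 131250 6
 (Tr.node (Tr.node (Tr.node (Tr.node (Tr.node Tr.leaf 131252 6
 Tr.leaf) 131259 7
 Tr.leaf) 131273 5
 (Tr.node (Tr.node Tr.leaf 131274 6
 Tr.leaf) 131276 6
 Tr.leaf)) 131279 5
 (Tr.node (Tr.node (Tr.node Tr.leaf 131281 6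
 Tr.leaf) 131284 6
 Tr.leaf) 131288 5
 (Tr.node Tr.leaf 131291 5
 Tr.leaf))) 131294 5
 (Tr.node (Tr.node (Tr.node (Tr.node Tr.leaf 131297 6
 Tr.leaf) 131300 6
 Tr.leaf) 131307 7
 (Tr.node (Tr.node Tr.leaf 131315 6
 Tr.leaf) 131317 7
 Tr.leaf)) 131321 7
 (Tr.node (Tr.node (Tr.node Tr.leaf 131322 7
 Tr.leaf) 131324 7
 Tr.leaf) 131327 7
 (Tr.node Tr.leaf 131331 4
 Tr.leaf)))))) 131333 4
 (Tr.node (Tr.node (Tr.node (Tr.node (Tr.node (Tr.node (Tr.node Tr.leaf 131334 3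
 Tr.leaf) 131337 4
 Tr.leaf) 131340 4
 (Tr.node (Tr.node Tr.leaf 131343 6
 Tr.leaf) 131346 4
 Tr.leaf)) 131348 4
 (Tr.node (Tr.node (Tr.node Tr.leaf 131351 6
 Tr.leaf) 131352 4
 Tr.leaf) 131361 4
 (Tr.node (Tr.node Tr.leaf 131362 4
 Tr.leaf) 131367 5
 Tr.leaf))) 131368 4
 (Tr.node (Tr.node (Tr.node (Tr.node Tr.leaf 131374 6
 Tr.leaf) 131376 3
 Tr.leaf) 131379 6
 (Tr.node (Tr.node Tr.leaf 131381 6
 Tr.leaf) 131382 6
 Tr.leaf)) 131385 7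
 (Tr.node (Tr.node (Tr.node Tr.leaf 131391 5
 Tr.leaf) 131393 4
 Tr.leaf) 131394 4
 (Tr.node Tr.leaf 131396 4
 Tr.leaf)))) 131399 5
 (Tr.node (Tr.node (Tr.node (Tr.node (Tr.node Tr.leaf 131400 4
 Tr.leaf) 131408 4
 Tr.leaf) 131411 6
 (Tr.node (Tr.node Tr.leaf 131413 5
 Tr.leaf) 131417 7
 Tr.leaf)) 131423 5
 (Tr.node (Tr.node (Tr.node Tr.leaf 131424 4
 Tr.leaf) 131427 6
 Tr.leaf) 131430 6
 (Tr.node (Tr.node Tr.leaf 131439 5
 Tr.leaf) 131442 6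
 Tr.leaf))) 131444 6
 (Tr.node (Tr.node (Tr.node (Tr.node Tr.leaf 131451 6
 Tr.leaf) 131454 5
 Tr.leaf) 131457 4
 (Tr.node (Tr.node Tr.leaf 131458 4
 Tr.leaf) 131460 4
 Tr.leaf)) 131463 6
 (Tr.node (Tr.node (Tr.node Tr.leaf 131464 4
 Tr.leaf) 131467 6
 Tr.leaf) 131470 6
 (Tr.node Tr.leaf 131472 3
 Tr.leaf))))) 131482 7
 (Tr.node (Tr.node (Tr.node (Tr.node (Tr.node (Tr.node Tr.leaf 131487 6
 Tr.leaf) 131488 3
 Tr.leaf) 131493 6
 (Tr.node (Tr.node Tr.leaf 131497 6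
 Tr.leaf) 131503 7
 Tr.leaf)) 131505 6
 (Tr.node (Tr.node (Tr.node Tr.leaf 131511 7
 Tr.leaf) 131512 6
 Tr.leaf) 131515 7
 (Tr.node (Tr.node Tr.leaf 131517 6
 Tr.leaf) 131518 7
 Tr.leaf))) 131525 6
 (Tr.node (Tr.node (Tr.node (Tr.node Tr.leaf 131526 5
 Tr.leaf) 131529 6
 Tr.leaf) 131538 6
 (Tr.node (Tr.node Tr.leaf 131544 5
 Tr.leaf) 131549 6
 Tr.leaf)) 131550 6
 (Tr.node (Tr.node (Tr.node Tr.leaf 131554 7
 Tr.leaf) 131556 5
 Tr.leaf) 131568 6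
 (Tr.node Tr.leaf 131573 7
 Tr.leaf)))) 131574 7
 (Tr.node (Tr.node (Tr.node (Tr.node (Tr.node Tr.leaf 131583 7
 Tr.leaf) 132097 4
 Tr.leaf) 132099 4
 (Tr.node (Tr.node Tr.leaf 132109 7
 Tr.leaf) 132111 6
 Tr.leaf)) 132117 7
 (Tr.node (Tr.node (Tr.node Tr.leaf 132121 6
 Tr.leaf) 132123 6
 Tr.leaf) 132135 6
 (Tr.node Tr.leaf 132147 6
 Tr.leaf))) 132159 7
 (Tr.node (Tr.node (Tr.node (Tr.node Tr.leaf 132171 6
 Tr.leaf) 132179 5
 Tr.leaf) 132189 6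
 (Tr.node (Tr.node Tr.leaf 132191 6
 Tr.leaf) 132195 5
 Tr.leaf)) 132229 6
 (Tr.node (Tr.node (Tr.node Tr.leaf 132243 6
 Tr.leaf) 132269 6
 Tr.leaf) 132271 7
 (Tr.node Tr.leaf 132283 6
 Tr.leaf))))))) 132291 5
 (Tr.node (Tr.node (Tr.node (Tr.node (Tr.node (Tr.node (Tr.node (Tr.node Tr.leaf 132301 6
 Tr.leaf) 132303 6
 Tr.leaf) 132309 6
 (Tr.node (Tr.node Tr.leaf 132311 7
 Tr.leaf) 132313 6
 Tr.leaf)) 132315 6
 (Tr.node (Tr.node (Tr.node Tr.leaf 132325 6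
 Tr.leaf) 132327 6
 Tr.leaf) 132329 7
 (Tr.node (Tr.node Tr.leaf 132331 6
 Tr.leaf) 132337 7
 Tr.leaf))) 132351 7
 (Tr.node (Tr.node (Tr.node (Tr.node Tr.leaf 132353 4
 Tr.leaf) 132355 4
 Tr.leaf) 132367 7
 (Tr.node (Tr.node Tr.leaf 132375 7
 Tr.leaf) 132377 6
 Tr.leaf)) 132379 6
 (Tr.node (Tr.node (Tr.node Tr.leaf 132389 6
 Tr.leaf) 132393 6
 Tr.leaf) 132421 6
 (Tr.node Tr.leaf 132423 6
 Tr.leaf)))) 132425 7
 (Tr.node (Tr.node (Tr.node (Tr.node (Tr.node Tr.leaf 132427 7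
 Tr.leaf) 132445 6
 Tr.leaf) 132463 6
 (Tr.node (Tr.node Tr.leaf 132469 6
 Tr.leaf) 132471 6
 Tr.leaf)) 132473 6
 (Tr.node (Tr.node (Tr.node Tr.leaf 132475 6
 Tr.leaf) 132489 6
 Tr.leaf) 132491 6
 (Tr.node (Tr.node Tr.leaf 132497 7
 Tr.leaf) 132499 7
 Tr.leaf))) 132511 6
 (Tr.node (Tr.node (Tr.node (Tr.node Tr.leaf 132513 6
 Tr.leaf) 132527 7
 Tr.leaf) 132533 6
 (Tr.node (Tr.node Tr.leaf 132547 6
 Tr.leaf) 132557 7
 Tr.leaf)) 132569 7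
 (Tr.node (Tr.node (Tr.node Tr.leaf 132571 6
 Tr.leaf) 132581 6
 Tr.leaf) 132595 7
 (Tr.node Tr.leaf 132607 7
 Tr.leaf))))) 133121 4
 (Tr.node (Tr.node (Tr.node (Tr.node (Tr.node (Tr.node Tr.leaf 133122 4
 Tr.leaf) 133125 4
 Tr.leaf) 133126 4
 (Tr.node (Tr.node Tr.leaf 133131 7
 Tr.leaf) 133135 6
 Tr.leaf)) 133139 7
 (Tr.node (Tr.node (Tr.node Tr.leaf 133150 6
 Tr.leaf) 133155 6
 Tr.leaf) 133159 6
 (Tr.node (Tr.node Tr.leaf 133161 6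
 Tr.leaf) 133162 6
 Tr.leaf))) 133166 7
 (Tr.node (Tr.node (Tr.node (Tr.node Tr.leaf 133169 7
 Tr.leaf) 133173 6
 Tr.leaf) 133179 6
 (Tr.node (Tr.node Tr.leaf 133191 6
 Tr.leaf) 133198 6
 Tr.leaf)) 133205 6
 (Tr.node (Tr.node (Tr.node Tr.leaf 133218 7
 Tr.leaf) 133222 6
 Tr.leaf) 133231 6
 (Tr.node Tr.leaf 133239 7
 Tr.leaf)))) 133241 7
 (Tr.node (Tr.node (Tr.node (Tr.node (Tr.node Tr.leaf 133242 5
 Tr.leaf) 133245 7
 Tr.leaf) 133255 5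
 (Tr.node (Tr.node Tr.leaf 133257 6
 Tr.leaf) 133258 5
 Tr.leaf)) 133261 5
 (Tr.node (Tr.node (Tr.node Tr.leaf 133262 6
 Tr.leaf) 133265 6
 Tr.leaf) 133266 5
 (Tr.node Tr.leaf 133279 7
 Tr.leaf))) 133281 7
 (Tr.node (Tr.node (Tr.node (Tr.node Tr.leaf 133282 5
 Tr.leaf) 133285 6
 Tr.leaf) 133291 6
 (Tr.node (Tr.node Tr.leaf 133295 6
 Tr.leaf) 133303 6
 Tr.leaf)) 133309 6
 (Tr.node (Tr.node (Tr.node Tr.leaf 133310 6
 Tr.leaf) 133317 5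
 Tr.leaf) 133318 6
 (Tr.node Tr.leaf 133323 7
 Tr.leaf)))))) 133331 6
 (Tr.node (Tr.node (Tr.node (Tr.node (Tr.node (Tr.node (Tr.node Tr.leaf 133341 6
 Tr.leaf) 133347 6
 Tr.leaf) 133357 6
 (Tr.node (Tr.node Tr.leaf 133358 6
 Tr.leaf) 133361 6
 Tr.leaf)) 133362 6
 (Tr.node (Tr.node (Tr.node Tr.leaf 133366 6
 Tr.leaf) 133371 7
 Tr.leaf) 133375 7
 (Tr.node (Tr.node Tr.leaf 133377 4
 Tr.leaf) 133378 4
 Tr.leaf))) 133381 4
 (Tr.node (Tr.node (Tr.node (Tr.node Tr.leaf 133382 4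
 Tr.leaf) 133387 7
 Tr.leaf) 133399 7
 (Tr.node (Tr.node Tr.leaf 133402 5
 Tr.leaf) 133405 6
 Tr.leaf)) 133411 6
 (Tr.node (Tr.node (Tr.node Tr.leaf 133415 6
 Tr.leaf) 133417 6
 Tr.leaf) 133422 6
 (Tr.node Tr.leaf 133429 7
 Tr.leaf)))) 133449 6
 (Tr.node (Tr.node (Tr.node (Tr.node (Tr.node Tr.leaf 133454 7
 Tr.leaf) 133457 6
 Tr.leaf) 133467 6
 (Tr.node (Tr.node Tr.leaf 133473 6
 Tr.leaf) 133474 6
 Tr.leaf)) 133501 6
 (Tr.node (Tr.node (Tr.node Tr.leaf 133502 6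
 Tr.leaf) 133518 6
 Tr.leaf) 133521 6
 (Tr.node (Tr.node Tr.leaf 133526 5
 Tr.leaf) 133535 6
 Tr.leaf))) 133537 7
 (Tr.node (Tr.node (Tr.node (Tr.node Tr.leaf 133542 5
 Tr.leaf) 133547 7
 Tr.leaf) 133551 6
 (Tr.node (Tr.node Tr.leaf 133555 6
 Tr.leaf) 133559 6
 Tr.leaf)) 133561 7
 (Tr.node (Tr.node (Tr.node Tr.leaf 133565 6
 Tr.leaf) 133566 6
 Tr.leaf) 133583 7
 (Tr.node Tr.leaf 133587 6
 Tr.leaf))))) 133593 6
 (Tr.node (Tr.node (Tr.node (Tr.node (Tr.node (Tr.node Tr.leaf 133594 6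
 Tr.leaf) 133597 6
 Tr.leaf) 133598 6
 (Tr.node (Tr.node Tr.leaf 133603 6
 Tr.leaf) 133610 6
 Tr.leaf)) 133613 7
 (Tr.node (Tr.node (Tr.node Tr.leaf 133614 7
 Tr.leaf) 133618 5
 Tr.leaf) 133622 6
 (Tr.node (Tr.node Tr.leaf 134155 7
 Tr.leaf) 134157 7
 Tr.leaf))) 134163 7
 (Tr.node (Tr.node (Tr.node (Tr.node Tr.leaf 134165 7
 Tr.leaf) 134167 6
 Tr.leaf) 134179 6
 (Tr.node (Tr.node Tr.leaf 134183 6
 Tr.leaf) 134203 7
 Tr.leaf)) 134207 6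
 (Tr.node (Tr.node (Tr.node Tr.leaf 134213 6
 Tr.leaf) 134215 5
 Tr.leaf) 134235 6
 (Tr.node Tr.leaf 134239 6
 Tr.leaf)))) 134255 6
 (Tr.node (Tr.node (Tr.node (Tr.node (Tr.node Tr.leaf 134257 5
 Tr.leaf) 134261 6
 Tr.leaf) 134275 6
 (Tr.node (Tr.node Tr.leaf 134301 6
 Tr.leaf) 134303 7
 Tr.leaf)) 134313 6
 (Tr.node (Tr.node (Tr.node Tr.leaf 134315 7
 Tr.leaf) 134319 7
 Tr.leaf) 134323 7
 (Tr.node Tr.leaf 134349 7
 Tr.leaf))) 134357 6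
 (Tr.node (Tr.node (Tr.node (Tr.node Tr.leaf 134373 7
 Tr.leaf) 134409 7
 Tr.leaf) 134413 7
 (Tr.node (Tr.node Tr.leaf 134415 7
 Tr.leaf) 134417 7
 Tr.leaf)) 134419 7
 (Tr.node (Tr.node (Tr.node Tr.leaf 134421 7
 Tr.leaf) 134433 6
 Tr.leaf) 134437 6
 (Tr.node Tr.leaf 134457 6
 Tr.leaf))))))))

/-- A subtree. -/
def tr1_s33 : Tr := (Tr.node (Tr.node (Tr.node (Tr.node (Tr.node (Tr.node (Tr.node (Tr.node (Tr.node Tr.leaf 134463 7
 Tr.leaf) 134493 6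
 Tr.leaf) 134495 7
 (Tr.node (Tr.node Tr.leaf 134507 7
 Tr.leaf) 134509 6
 Tr.leaf)) 134511 6
 (Tr.node (Tr.node (Tr.node Tr.leaf 134513 7
 Tr.leaf) 134519 6
 Tr.leaf) 134529 6
 (Tr.node (Tr.node Tr.leaf 134535 6
 Tr.leaf) 134553 7
 Tr.leaf))) 134555 6
 (Tr.node (Tr.node (Tr.node (Tr.node Tr.leaf 134557 7
 Tr.leaf) 134559 7
 Tr.leaf) 134577 6
 (Tr.node (Tr.node Tr.leaf 134579 6
 Tr.leaf) 134581 6
 Tr.leaf)) 134583 7
 (Tr.node (Tr.node (Tr.node Tr.leaf 134601 7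
 Tr.leaf) 134603 7
 Tr.leaf) 134605 6
 (Tr.node Tr.leaf 134609 6
 Tr.leaf)))) 134611 6
 (Tr.node (Tr.node (Tr.node (Tr.node (Tr.node Tr.leaf 134613 6
 Tr.leaf) 134625 6
 Tr.leaf) 134629 6
 (Tr.node (Tr.node Tr.leaf 134653 7
 Tr.leaf) 134655 8
 Tr.leaf)) 135169 4
 (Tr.node (Tr.node (Tr.node Tr.leaf 135172 4
 Tr.leaf) 135175 7
 Tr.leaf) 135177 4
 (Tr.node (Tr.node Tr.leaf 135180 4
 Tr.leaf) 135183 7
 Tr.leaf))) 135187 6
 (Tr.node (Tr.node (Tr.node (Tr.node Tr.leaf 135190 5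
 Tr.leaf) 135195 6
 Tr.leaf) 135203 6
 (Tr.node (Tr.node Tr.leaf 135205 6
 Tr.leaf) 135206 6
 Tr.leaf)) 135211 6
 (Tr.node (Tr.node (Tr.node Tr.leaf 135214 7
 Tr.leaf) 135217 7
 Tr.leaf) 135218 6
 (Tr.node Tr.leaf 135220 6
 Tr.leaf))))) 135223 6
 (Tr.node (Tr.node (Tr.node (Tr.node (Tr.node (Tr.node Tr.leaf 135225 7
 Tr.leaf) 135231 7
 Tr.leaf) 135235 7
 (Tr.node (Tr.node Tr.leaf 135237 6
 Tr.leaf) 135238 6
 Tr.leaf)) 135245 6
 (Tr.node (Tr.node (Tr.node Tr.leaf 135249 7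
 Tr.leaf) 135252 6
 Tr.leaf) 135263 6
 (Tr.node (Tr.node Tr.leaf 135274 5
 Tr.leaf) 135279 7
 Tr.leaf))) 135283 6
 (Tr.node (Tr.node (Tr.node (Tr.node Tr.leaf 135307 6
 Tr.leaf) 135314 7
 Tr.leaf) 135319 6
 (Tr.node (Tr.node Tr.leaf 135322 6
 Tr.leaf) 135327 6
 Tr.leaf)) 135330 6
 (Tr.node (Tr.node (Tr.node Tr.leaf 135337 6
 Tr.leaf) 135340 6
 Tr.leaf) 135349 7
 (Tr.node Tr.leaf 135358 6
 Tr.leaf)))) 135362 6
 (Tr.node (Tr.node (Tr.node (Tr.node (Tr.node Tr.leaf 135367 6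
 Tr.leaf) 135369 6
 Tr.leaf) 135372 6
 (Tr.node (Tr.node Tr.leaf 135381 6
 Tr.leaf) 135382 6
 Tr.leaf)) 135389 6
 (Tr.node (Tr.node (Tr.node Tr.leaf 135390 5
 Tr.leaf) 135395 7
 Tr.leaf) 135405 6
 (Tr.node Tr.leaf 135410 6
 Tr.leaf))) 135415 7
 (Tr.node (Tr.node (Tr.node (Tr.node Tr.leaf 135417 6
 Tr.leaf) 135420 6
 Tr.leaf) 135425 4
 (Tr.node (Tr.node Tr.leaf 135428 3
 Tr.leaf) 135431 6
 Tr.leaf)) 135433 4
 (Tr.node (Tr.node (Tr.node Tr.leaf 135436 4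
 Tr.leaf) 135443 6
 Tr.leaf) 135445 5
 (Tr.node Tr.leaf 135451 6
 Tr.leaf)))))) 135454 6
 (Tr.node (Tr.node (Tr.node (Tr.node (Tr.node (Tr.node (Tr.node Tr.leaf 135461 5
 Tr.leaf) 135470 6
 Tr.leaf) 135473 6
 (Tr.node (Tr.node Tr.leaf 135474 7
 Tr.leaf) 135476 6
 Tr.leaf)) 135479 6
 (Tr.node (Tr.node (Tr.node Tr.leaf 135482 6
 Tr.leaf) 135484 5
 Tr.leaf) 135487 6
 (Tr.node (Tr.node Tr.leaf 135491 6
 Tr.leaf) 135494 5
 Tr.leaf))) 135499 7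
 (Tr.node (Tr.node (Tr.node (Tr.node Tr.leaf 135511 6
 Tr.leaf) 135513 7
 Tr.leaf) 135516 6
 (Tr.node (Tr.node Tr.leaf 135519 6
 Tr.leaf) 135522 5
 Tr.leaf)) 135527 6
 (Tr.node (Tr.node (Tr.node Tr.leaf 135529 6
 Tr.leaf) 135530 6
 Tr.leaf) 135532 6
 (Tr.node Tr.leaf 135535 6
 Tr.leaf)))) 135541 7
 (Tr.node (Tr.node (Tr.node (Tr.node (Tr.node Tr.leaf 135542 6
 Tr.leaf) 135549 6
 Tr.leaf) 135550 6
 (Tr.node (Tr.node Tr.leaf 135557 5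
 Tr.leaf) 135558 6
 Tr.leaf)) 135566 6
 (Tr.node (Tr.node (Tr.node Tr.leaf 135569 6
 Tr.leaf) 135570 6
 Tr.leaf) 135572 6
 (Tr.node (Tr.node Tr.leaf 135586 6
 Tr.leaf) 135588 6
 Tr.leaf))) 135591 6
 (Tr.node (Tr.node (Tr.node (Tr.node Tr.leaf 135596 7
 Tr.leaf) 135599 7
 Tr.leaf) 135603 6
 (Tr.node (Tr.node Tr.leaf 135606 6
 Tr.leaf) 135613 7
 Tr.leaf)) 135614 7
 (Tr.node (Tr.node (Tr.node Tr.leaf 135617 6
 Tr.leaf) 135618 6
 Tr.leaf) 135620 6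
 (Tr.node Tr.leaf 135626 6
 Tr.leaf))))) 135628 7
 (Tr.node (Tr.node (Tr.node (Tr.node (Tr.node (Tr.node Tr.leaf 135635 7
 Tr.leaf) 135638 6
 Tr.leaf) 135646 6
 (Tr.node (Tr.node Tr.leaf 135651 7
 Tr.leaf) 135653 6
 Tr.leaf)) 135654 6
 (Tr.node (Tr.node (Tr.node Tr.leaf 135659 6
 Tr.leaf) 135661 6
 Tr.leaf) 135671 7
 (Tr.node (Tr.node Tr.leaf 135674 6
 Tr.leaf) 135676 6
 Tr.leaf))) 136199 7
 (Tr.node (Tr.node (Tr.node (Tr.node Tr.leaf 136205 7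
 Tr.leaf) 136209 6
 Tr.leaf) 136219 6
 (Tr.node (Tr.node Tr.leaf 136245 7
 Tr.leaf) 136253 7
 Tr.leaf)) 136257 7
 (Tr.node (Tr.node (Tr.node Tr.leaf 136265 7
 Tr.leaf) 136267 7
 Tr.leaf) 136279 7
 (Tr.node Tr.leaf 136293 7
 Tr.leaf)))) 136301 7
 (Tr.node (Tr.node (Tr.node (Tr.node (Tr.node Tr.leaf 136303 7
 Tr.leaf) 136305 6
 Tr.leaf) 136307 7
 (Tr.node (Tr.node Tr.leaf 136313 5
 Tr.leaf) 136329 6
 Tr.leaf)) 136331 6
 (Tr.node (Tr.node (Tr.node Tr.leaf 136343 5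
 Tr.leaf) 136349 6
 Tr.leaf) 136359 7
 (Tr.node Tr.leaf 136367 6
 Tr.leaf))) 136369 7
 (Tr.node (Tr.node (Tr.node (Tr.node Tr.leaf 136371 6
 Tr.leaf) 136379 6
 Tr.leaf) 136391 7
 (Tr.node (Tr.node Tr.leaf 136397 7
 Tr.leaf) 136399 7
 Tr.leaf)) 136403 6
 (Tr.node (Tr.node (Tr.node Tr.leaf 136411 6
 Tr.leaf) 136417 6
 Tr.leaf) 136419 6
 (Tr.node Tr.leaf 136427 6
 Tr.leaf))))))) 136439 7
 (Tr.node (Tr.node (Tr.node (Tr.node (Tr.node (Tr.node (Tr.node (Tr.node Tr.leaf 136453 7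
 Tr.leaf) 136461 7
 Tr.leaf) 136463 7
 (Tr.node (Tr.node Tr.leaf 136465 6
 Tr.leaf) 136475 6
 Tr.leaf)) 136481 6
 (Tr.node (Tr.node (Tr.node Tr.leaf 136489 6
 Tr.leaf) 136501 6
 Tr.leaf) 136503 6
 (Tr.node (Tr.node Tr.leaf 136515 7
 Tr.leaf) 136521 7
 Tr.leaf))) 136535 7
 (Tr.node (Tr.node (Tr.node (Tr.node Tr.leaf 136549 7
 Tr.leaf) 136551 7
 Tr.leaf) 136557 7
 (Tr.node (Tr.node Tr.leaf 136563 6
 Tr.leaf) 136569 6
 Tr.leaf)) 136599 7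
 (Tr.node (Tr.node (Tr.node Tr.leaf 136605 6
 Tr.leaf) 136607 7
 Tr.leaf) 136613 6
 (Tr.node Tr.leaf 136615 6
 Tr.leaf)))) 136623 6
 (Tr.node (Tr.node (Tr.node (Tr.node (Tr.node Tr.leaf 136625 6
 Tr.leaf) 136627 6
 Tr.leaf) 136635 7
 (Tr.node (Tr.node Tr.leaf 136645 7
 Tr.leaf) 136653 7
 Tr.leaf)) 136655 7
 (Tr.node (Tr.node (Tr.node Tr.leaf 136665 7
 Tr.leaf) 136667 7
 Tr.leaf) 136673 6
 (Tr.node (Tr.node Tr.leaf 136675 7
 Tr.leaf) 136695 7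
 Tr.leaf))) 137219 7
 (Tr.node (Tr.node (Tr.node (Tr.node Tr.leaf 137231 7
 Tr.leaf) 137233 6
 Tr.leaf) 137242 5
 (Tr.node (Tr.node Tr.leaf 137245 6
 Tr.leaf) 137250 7
 Tr.leaf)) 137261 6
 (Tr.node (Tr.node (Tr.node Tr.leaf 137262 6
 Tr.leaf) 137275 7
 Tr.leaf) 137279 7
 (Tr.node Tr.leaf 137290 6
 Tr.leaf))))) 137299 5
 (Tr.node (Tr.node (Tr.node (Tr.node (Tr.node (Tr.node Tr.leaf 137303 6
 Tr.leaf) 137315 6
 Tr.leaf) 137323 7
 (Tr.node (Tr.node Tr.leaf 137327 7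
 Tr.leaf) 137329 6
 Tr.leaf)) 137334 6
 (Tr.node (Tr.node (Tr.node Tr.leaf 137337 5
 Tr.leaf) 137341 7
 Tr.leaf) 137342 6
 (Tr.node (Tr.node Tr.leaf 137346 6
 Tr.leaf) 137350 6
 Tr.leaf))) 137354 5
 (Tr.node (Tr.node (Tr.node (Tr.node Tr.leaf 137358 6
 Tr.leaf) 137367 6
 Tr.leaf) 137371 6
 (Tr.node (Tr.node Tr.leaf 137375 7
 Tr.leaf) 137397 6
 Tr.leaf)) 137398 6
 (Tr.node (Tr.node (Tr.node Tr.leaf 137401 7
 Tr.leaf) 137405 6
 Tr.leaf) 137406 6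
 (Tr.node Tr.leaf 137419 7
 Tr.leaf)))) 137425 6
 (Tr.node (Tr.node (Tr.node (Tr.node (Tr.node Tr.leaf 137426 5
 Tr.leaf) 137429 6
 Tr.leaf) 137430 6
 (Tr.node (Tr.node Tr.leaf 137433 7
 Tr.leaf) 137437 6
 Tr.leaf)) 137442 6
 (Tr.node (Tr.node (Tr.node Tr.leaf 137445 5
 Tr.leaf) 137446 6
 Tr.leaf) 137449 6
 (Tr.node Tr.leaf 137453 6
 Tr.leaf))) 137454 6
 (Tr.node (Tr.node (Tr.node (Tr.node Tr.leaf 137459 7
 Tr.leaf) 137463 7
 Tr.leaf) 137467 8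
 (Tr.node (Tr.node Tr.leaf 137479 7
 Tr.leaf) 137483 7
 Tr.leaf)) 137487 7
 (Tr.node (Tr.node (Tr.node Tr.leaf 137494 5
 Tr.leaf) 137497 6
 Tr.leaf) 137506 6
 (Tr.node Tr.leaf 137510 7
 Tr.leaf)))))) 137514 7
 (Tr.node (Tr.node (Tr.node (Tr.node (Tr.node (Tr.node (Tr.node Tr.leaf 137517 6
 Tr.leaf) 137531 7
 Tr.leaf) 137535 7
 (Tr.node (Tr.node Tr.leaf 137537 6
 Tr.leaf) 137545 6
 Tr.leaf)) 137546 6
 (Tr.node (Tr.node (Tr.node Tr.leaf 137559 6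
 Tr.leaf) 137563 7
 Tr.leaf) 137567 6
 (Tr.node (Tr.node Tr.leaf 137571 7
 Tr.leaf) 137575 7
 Tr.leaf))) 137586 6
 (Tr.node (Tr.node (Tr.node (Tr.node Tr.leaf 137589 6
 Tr.leaf) 137590 7
 Tr.leaf) 137594 6
 (Tr.node (Tr.node Tr.leaf 137597 7
 Tr.leaf) 137601 6
 Tr.leaf)) 137605 6
 (Tr.node (Tr.node (Tr.node Tr.leaf 137606 5
 Tr.leaf) 137614 5
 Tr.leaf) 137623 6
 (Tr.node Tr.leaf 137631 6
 Tr.leaf)))) 137635 7
 (Tr.node (Tr.node (Tr.node (Tr.node (Tr.node Tr.leaf 137639 7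
 Tr.leaf) 137647 7
 Tr.leaf) 137650 5
 (Tr.node (Tr.node Tr.leaf 137653 7
 Tr.leaf) 137654 7
 Tr.leaf)) 137658 5
 (Tr.node (Tr.node (Tr.node Tr.leaf 137667 6
 Tr.leaf) 137671 7
 Tr.leaf) 137675 6
 (Tr.node Tr.leaf 137686 6
 Tr.leaf))) 137690 6
 (Tr.node (Tr.node (Tr.node (Tr.node Tr.leaf 137693 6
 Tr.leaf) 137694 6
 Tr.leaf) 137697 6
 (Tr.node (Tr.node Tr.leaf 137698 6
 Tr.leaf) 137702 7
 Tr.leaf)) 137705 7
 (Tr.node (Tr.node (Tr.node Tr.leaf 137706 5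
 Tr.leaf) 137710 6
 Tr.leaf) 137715 8
 (Tr.node Tr.leaf 137723 8
 Tr.leaf))))) 138241 7
 (Tr.node (Tr.node (Tr.node (Tr.node (Tr.node (Tr.node Tr.leaf 138245 7
 Tr.leaf) 138247 7
 Tr.leaf) 138249 7
 (Tr.node (Tr.node Tr.leaf 138251 7
 Tr.leaf) 138255 7
 Tr.leaf)) 138289 7
 (Tr.node (Tr.node (Tr.node Tr.leaf 138295 6
 Tr.leaf) 138297 5
 Tr.leaf) 138301 6
 (Tr.node (Tr.node Tr.leaf 138303 6
 Tr.leaf) 138321 7
 Tr.leaf))) 138327 6
 (Tr.node (Tr.node (Tr.node (Tr.node Tr.leaf 138329 7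
 Tr.leaf) 138331 7
 Tr.leaf) 138333 6
 (Tr.node (Tr.node Tr.leaf 138335 6
 Tr.leaf) 138337 6
 Tr.leaf)) 138341 6
 (Tr.node (Tr.node (Tr.node Tr.leaf 138343 5
 Tr.leaf) 138347 6
 Tr.leaf) 138349 7
 (Tr.node Tr.leaf 138351 6
 Tr.leaf)))) 138389 7
 (Tr.node (Tr.node (Tr.node (Tr.node (Tr.node Tr.leaf 138395 7
 Tr.leaf) 138397 7
 Tr.leaf) 138399 7
 (Tr.node (Tr.node Tr.leaf 138401 6
 Tr.leaf) 138403 7
 Tr.leaf)) 138405 5
 (Tr.node (Tr.node (Tr.node Tr.leaf 138409 7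
 Tr.leaf) 138411 7
 Tr.leaf) 138415 6
 (Tr.node Tr.leaf 138433 6
 Tr.leaf))) 138437 7
 (Tr.node (Tr.node (Tr.node (Tr.node Tr.leaf 138439 6
 Tr.leaf) 138441 6
 Tr.leaf) 138445 7
 (Tr.node (Tr.node Tr.leaf 138481 8
 Tr.leaf) 138483 8
 Tr.leaf)) 138485 8
 (Tr.node (Tr.node (Tr.node Tr.leaf 138487 7
 Tr.leaf) 138489 8
 Tr.leaf) 138491 7
 (Tr.node Tr.leaf 138493 7
 Tr.leaf))))))))

/-- A subtree. -/
def tr1_s34 : Tr := (Tr.node (Tr.node (Tr.node (Tr.node (Tr.node (Tr.node (Tr.node (Tr.node (Tr.node Tr.leaf 138499 7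
 Tr.leaf) 138503 7
 Tr.leaf) 138507 7
 (Tr.node (Tr.node Tr.leaf 138509 7
 Tr.leaf) 138545 7
 Tr.leaf)) 138547 7
 (Tr.node (Tr.node (Tr.node Tr.leaf 138549 7
 Tr.leaf) 138551 6
 Tr.leaf) 138557 6
 (Tr.node (Tr.node Tr.leaf 138577 7
 Tr.leaf) 138583 7
 Tr.leaf))) 138585 6
 (Tr.node (Tr.node (Tr.node (Tr.node Tr.leaf 138587 7
 Tr.leaf) 138593 7
 Tr.leaf) 138595 6
 (Tr.node (Tr.node Tr.leaf 138597 7
 Tr.leaf) 138645 7
 Tr.leaf)) 138647 7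
 (Tr.node (Tr.node (Tr.node Tr.leaf 138655 7
 Tr.leaf) 138657 7
 Tr.leaf) 138663 6
 (Tr.node Tr.leaf 138667 5
 Tr.leaf)))) 138689 7
 (Tr.node (Tr.node (Tr.node (Tr.node (Tr.node Tr.leaf 138691 6
 Tr.leaf) 138699 7
 Tr.leaf) 138701 6
 (Tr.node (Tr.node Tr.leaf 138743 7
 Tr.leaf) 138749 7
 Tr.leaf)) 139266 4
 (Tr.node (Tr.node (Tr.node Tr.leaf 139268 4
 Tr.leaf) 139271 7
 Tr.leaf) 139272 3
 (Tr.node (Tr.node Tr.leaf 139275 6
 Tr.leaf) 139278 5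
 Tr.leaf))) 139282 4
 (Tr.node (Tr.node (Tr.node (Tr.node Tr.leaf 139284 4
 Tr.leaf) 139288 4
 Tr.leaf) 139291 6
 (Tr.node (Tr.node Tr.leaf 139301 6
 Tr.leaf) 139305 6
 Tr.leaf)) 139308 6
 (Tr.node (Tr.node (Tr.node Tr.leaf 139311 7
 Tr.leaf) 139317 7
 Tr.leaf) 139321 7
 (Tr.node Tr.leaf 139322 6
 Tr.leaf))))) 139333 6
 (Tr.node (Tr.node (Tr.node (Tr.node (Tr.node (Tr.node Tr.leaf 139334 5
 Tr.leaf) 139337 6
 Tr.leaf) 139338 4
 (Tr.node (Tr.node Tr.leaf 139340 4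
 Tr.leaf) 139347 6
 Tr.leaf)) 139349 6
 (Tr.node (Tr.node (Tr.node Tr.leaf 139361 6
 Tr.leaf) 139364 6
 Tr.leaf) 139367 7
 (Tr.node (Tr.node Tr.leaf 139371 6
 Tr.leaf) 139378 6
 Tr.leaf))) 139380 6
 (Tr.node (Tr.node (Tr.node (Tr.node Tr.leaf 139383 7
 Tr.leaf) 139387 7
 Tr.leaf) 139395 6
 (Tr.node (Tr.node Tr.leaf 139401 6
 Tr.leaf) 139402 6
 Tr.leaf)) 139407 7
 (Tr.node (Tr.node (Tr.node Tr.leaf 139413 6
 Tr.leaf) 139417 6
 Tr.leaf) 139418 6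
 (Tr.node Tr.leaf 139425 6
 Tr.leaf)))) 139431 7
 (Tr.node (Tr.node (Tr.node (Tr.node (Tr.node Tr.leaf 139432 7
 Tr.leaf) 139435 6
 Tr.leaf) 139437 7
 (Tr.node (Tr.node Tr.leaf 139451 7
 Tr.leaf) 139453 7
 Tr.leaf)) 139454 5
 (Tr.node (Tr.node (Tr.node Tr.leaf 139457 6
 Tr.leaf) 139458 6
 Tr.leaf) 139463 7
 (Tr.node Tr.leaf 139469 6
 Tr.leaf))) 139474 6
 (Tr.node (Tr.node (Tr.node (Tr.node Tr.leaf 139476 6
 Tr.leaf) 139479 7
 Tr.leaf) 139483 7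
 (Tr.node (Tr.node Tr.leaf 139491 7
 Tr.leaf) 139493 6
 Tr.leaf)) 139497 6
 (Tr.node (Tr.node (Tr.node Tr.leaf 139498 6
 Tr.leaf) 139500 6
 Tr.leaf) 139509 7
 (Tr.node Tr.leaf 139510 5
 Tr.leaf)))))) 139514 5
 (Tr.node (Tr.node (Tr.node (Tr.node (Tr.node (Tr.node (Tr.node Tr.leaf 139516 5
 Tr.leaf) 139522 4
 Tr.leaf) 139524 4
 (Tr.node (Tr.node Tr.leaf 139528 4
 Tr.leaf) 139531 6
 Tr.leaf)) 139533 6
 (Tr.node (Tr.node (Tr.node Tr.leaf 139538 3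
 Tr.leaf) 139540 3
 Tr.leaf) 139543 6
 (Tr.node (Tr.node Tr.leaf 139544 4
 Tr.leaf) 139547 6
 Tr.leaf))) 139550 4
 (Tr.node (Tr.node (Tr.node (Tr.node Tr.leaf 139555 6
 Tr.leaf) 139562 6
 Tr.leaf) 139564 6
 (Tr.node (Tr.node Tr.leaf 139567 7
 Tr.leaf) 139571 6
 Tr.leaf)) 139573 6
 (Tr.node (Tr.node (Tr.node Tr.leaf 139577 6
 Tr.leaf) 139578 6
 Tr.leaf) 139580 5
 (Tr.node Tr.leaf 139589 6
 Tr.leaf)))) 139605 6
 (Tr.node (Tr.node (Tr.node (Tr.node (Tr.node Tr.leaf 139606 4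
 Tr.leaf) 139609 7
 Tr.leaf) 139610 5
 (Tr.node (Tr.node Tr.leaf 139612 5
 Tr.leaf) 139617 6
 Tr.leaf)) 139620 6
 (Tr.node (Tr.node (Tr.node Tr.leaf 139629 7
 Tr.leaf) 139639 6
 Tr.leaf) 139643 7
 (Tr.node (Tr.node Tr.leaf 139645 7
 Tr.leaf) 139651 7
 Tr.leaf))) 139658 6
 (Tr.node (Tr.node (Tr.node (Tr.node Tr.leaf 139660 6
 Tr.leaf) 139663 7
 Tr.leaf) 139667 6
 (Tr.node (Tr.node Tr.leaf 139669 6
 Tr.leaf) 139679 6
 Tr.leaf)) 139691 7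
 (Tr.node (Tr.node (Tr.node Tr.leaf 139694 5
 Tr.leaf) 139697 6
 Tr.leaf) 139698 6
 (Tr.node Tr.leaf 139700 6
 Tr.leaf))))) 139703 6
 (Tr.node (Tr.node (Tr.node (Tr.node (Tr.node (Tr.node Tr.leaf 139707 6
 Tr.leaf) 139709 7
 Tr.leaf) 139710 6
 (Tr.node (Tr.node Tr.leaf 139713 7
 Tr.leaf) 139716 6
 Tr.leaf)) 139725 7
 (Tr.node (Tr.node (Tr.node Tr.leaf 139729 6
 Tr.leaf) 139730 5
 Tr.leaf) 139732 6
 (Tr.node (Tr.node Tr.leaf 139739 7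
 Tr.leaf) 139741 7
 Tr.leaf))) 139747 7
 (Tr.node (Tr.node (Tr.node (Tr.node Tr.leaf 139749 7
 Tr.leaf) 139750 5
 Tr.leaf) 139754 5
 (Tr.node (Tr.node Tr.leaf 139756 5
 Tr.leaf) 139763 7
 Tr.leaf)) 139765 6
 (Tr.node (Tr.node (Tr.node Tr.leaf 139766 6
 Tr.leaf) 139769 7
 Tr.leaf) 140295 6
 (Tr.node Tr.leaf 140299 6
 Tr.leaf)))) 140309 7
 (Tr.node (Tr.node (Tr.node (Tr.node (Tr.node Tr.leaf 140311 7
 Tr.leaf) 140313 6
 Tr.leaf) 140323 5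
 (Tr.node (Tr.node Tr.leaf 140333 6
 Tr.leaf) 140339 6
 Tr.leaf)) 140351 6
 (Tr.node (Tr.node (Tr.node Tr.leaf 140353 6
 Tr.leaf) 140365 7
 Tr.leaf) 140381 6
 (Tr.node Tr.leaf 140405 6
 Tr.leaf))) 140407 6
 (Tr.node (Tr.node (Tr.node (Tr.node Tr.leaf 140409 6
 Tr.leaf) 140411 7
 Tr.leaf) 140417 7
 (Tr.node (Tr.node Tr.leaf 140429 7
 Tr.leaf) 140431 6
 Tr.leaf)) 140433 7
 (Tr.node (Tr.node (Tr.node Tr.leaf 140435 7
 Tr.leaf) 140453 7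
 Tr.leaf) 140455 6
 (Tr.node Tr.leaf 140457 6
 Tr.leaf))))))) 140459 6
 (Tr.node (Tr.node (Tr.node (Tr.node (Tr.node (Tr.node (Tr.node (Tr.node Tr.leaf 140469 6
 Tr.leaf) 140473 6
 Tr.leaf) 140485 7
 (Tr.node (Tr.node Tr.leaf 140487 7
 Tr.leaf) 140491 7
 Tr.leaf)) 140501 7
 (Tr.node (Tr.node (Tr.node Tr.leaf 140503 6
 Tr.leaf) 140525 8
 Tr.leaf) 140529 6
 (Tr.node (Tr.node Tr.leaf 140531 7
 Tr.leaf) 140541 7
 Tr.leaf))) 140549 7
 (Tr.node (Tr.node (Tr.node (Tr.node Tr.leaf 140551 7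
 Tr.leaf) 140555 6
 Tr.leaf) 140565 7
 (Tr.node (Tr.node Tr.leaf 140569 6
 Tr.leaf) 140605 7
 Tr.leaf)) 140607 5
 (Tr.node (Tr.node (Tr.node Tr.leaf 140611 6
 Tr.leaf) 140621 6
 Tr.leaf) 140623 7
 (Tr.node Tr.leaf 140625 6
 Tr.leaf)))) 140637 6
 (Tr.node (Tr.node (Tr.node (Tr.node (Tr.node Tr.leaf 140645 6
 Tr.leaf) 140661 6
 Tr.leaf) 140665 6
 (Tr.node (Tr.node Tr.leaf 140675 7
 Tr.leaf) 140685 7
 Tr.leaf)) 140687 7
 (Tr.node (Tr.node (Tr.node Tr.leaf 140689 7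
 Tr.leaf) 140701 6
 Tr.leaf) 140711 6
 (Tr.node (Tr.node Tr.leaf 140713 7
 Tr.leaf) 140741 6
 Tr.leaf))) 140747 7
 (Tr.node (Tr.node (Tr.node (Tr.node Tr.leaf 140757 7
 Tr.leaf) 140763 6
 Tr.leaf) 140769 7
 (Tr.node (Tr.node Tr.leaf 140785 7
 Tr.leaf) 141319 6
 Tr.leaf)) 141321 6
 (Tr.node (Tr.node (Tr.node Tr.leaf 141331 7
 Tr.leaf) 141335 7
 Tr.leaf) 141338 6
 (Tr.node Tr.leaf 141341 6
 Tr.leaf))))) 141345 7
 (Tr.node (Tr.node (Tr.node (Tr.node (Tr.node (Tr.node Tr.leaf 141350 5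
 Tr.leaf) 141355 7
 Tr.leaf) 141359 7
 (Tr.node (Tr.node Tr.leaf 141362 6
 Tr.leaf) 141365 7
 Tr.leaf)) 141371 6
 (Tr.node (Tr.node (Tr.node Tr.leaf 141378 5
 Tr.leaf) 141381 6
 Tr.leaf) 141382 5
 (Tr.node (Tr.node Tr.leaf 141387 7
 Tr.leaf) 141397 6
 Tr.leaf))) 141403 6
 (Tr.node (Tr.node (Tr.node (Tr.node Tr.leaf 141407 7
 Tr.leaf) 141411 7
 Tr.leaf) 141415 6
 (Tr.node (Tr.node Tr.leaf 141418 6
 Tr.leaf) 141421 7
 Tr.leaf)) 141427 7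
 (Tr.node (Tr.node (Tr.node Tr.leaf 141431 7
 Tr.leaf) 141434 7
 Tr.leaf) 141437 7
 (Tr.node Tr.leaf 141438 6
 Tr.leaf)))) 141442 5
 (Tr.node (Tr.node (Tr.node (Tr.node (Tr.node Tr.leaf 141445 5
 Tr.leaf) 141458 6
 Tr.leaf) 141467 6
 (Tr.node (Tr.node Tr.leaf 141475 7
 Tr.leaf) 141479 6
 Tr.leaf)) 141482 7
 (Tr.node (Tr.node (Tr.node Tr.leaf 141486 7
 Tr.leaf) 141495 6
 Tr.leaf) 141497 7
 (Tr.node Tr.leaf 141502 6
 Tr.leaf))) 141507 6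
 (Tr.node (Tr.node (Tr.node (Tr.node Tr.leaf 141514 7
 Tr.leaf) 141530 6
 Tr.leaf) 141534 6
 (Tr.node (Tr.node Tr.leaf 141537 6
 Tr.leaf) 141538 7
 Tr.leaf)) 141541 6
 (Tr.node (Tr.node (Tr.node Tr.leaf 141542 6
 Tr.leaf) 141547 8
 Tr.leaf) 141553 7
 (Tr.node Tr.leaf 141571 7
 Tr.leaf)))))) 141575 7
 (Tr.node (Tr.node (Tr.node (Tr.node (Tr.node (Tr.node (Tr.node Tr.leaf 141582 5
 Tr.leaf) 141587 7
 Tr.leaf) 141593 6
 (Tr.node (Tr.node Tr.leaf 141601 7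
 Tr.leaf) 141605 7
 Tr.leaf)) 141606 5
 (Tr.node (Tr.node (Tr.node Tr.leaf 141611 7
 Tr.leaf) 141615 6
 Tr.leaf) 141617 7
 (Tr.node (Tr.node Tr.leaf 141618 5
 Tr.leaf) 141627 7
 Tr.leaf))) 141633 6
 (Tr.node (Tr.node (Tr.node (Tr.node Tr.leaf 141643 6
 Tr.leaf) 141649 6
 Tr.leaf) 141650 5
 (Tr.node (Tr.node Tr.leaf 141654 6
 Tr.leaf) 141659 6
 Tr.leaf)) 141674 6
 (Tr.node (Tr.node (Tr.node Tr.leaf 141683 6
 Tr.leaf) 141690 7
 Tr.leaf) 141693 6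
 (Tr.node Tr.leaf 141694 6
 Tr.leaf)))) 141701 6
 (Tr.node (Tr.node (Tr.node (Tr.node (Tr.node Tr.leaf 141702 5
 Tr.leaf) 141707 6
 Tr.leaf) 141711 6
 (Tr.node (Tr.node Tr.leaf 141718 6
 Tr.leaf) 141723 6
 Tr.leaf)) 141731 6
 (Tr.node (Tr.node (Tr.node Tr.leaf 141737 6
 Tr.leaf) 141738 6
 Tr.leaf) 141741 7
 (Tr.node (Tr.node Tr.leaf 141753 7
 Tr.leaf) 141767 6
 Tr.leaf))) 141769 6
 (Tr.node (Tr.node (Tr.node (Tr.node Tr.leaf 141770 6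
 Tr.leaf) 141773 7
 Tr.leaf) 141779 7
 (Tr.node (Tr.node Tr.leaf 141783 5
 Tr.leaf) 141785 6
 Tr.leaf)) 141793 6
 (Tr.node (Tr.node (Tr.node Tr.leaf 141803 7
 Tr.leaf) 142337 7
 Tr.leaf) 142339 7
 (Tr.node Tr.leaf 142341 7
 Tr.leaf))))) 142353 7
 (Tr.node (Tr.node (Tr.node (Tr.node (Tr.node (Tr.node Tr.leaf 142359 7
 Tr.leaf) 142377 6
 Tr.leaf) 142379 7
 (Tr.node (Tr.node Tr.leaf 142381 7
 Tr.leaf) 142393 7
 Tr.leaf)) 142397 7
 (Tr.node (Tr.node (Tr.node Tr.leaf 142411 6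
 Tr.leaf) 142413 6
 Tr.leaf) 142415 7
 (Tr.node (Tr.node Tr.leaf 142427 7
 Tr.leaf) 142431 7
 Tr.leaf))) 142433 7
 (Tr.node (Tr.node (Tr.node (Tr.node Tr.leaf 142449 6
 Tr.leaf) 142455 7
 Tr.leaf) 142473 7
 (Tr.node (Tr.node Tr.leaf 142489 7
 Tr.leaf) 142491 7
 Tr.leaf)) 142495 7
 (Tr.node (Tr.node (Tr.node Tr.leaf 142499 7
 Tr.leaf) 142501 7
 Tr.leaf) 142503 7
 (Tr.node Tr.leaf 142513 6
 Tr.leaf)))) 142517 7
 (Tr.node (Tr.node (Tr.node (Tr.node (Tr.node Tr.leaf 142519 6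
 Tr.leaf) 142529 6
 Tr.leaf) 142531 7
 (Tr.node (Tr.node Tr.leaf 142533 7
 Tr.leaf) 142545 6
 Tr.leaf)) 142569 8
 (Tr.node (Tr.node (Tr.node Tr.leaf 142575 8
 Tr.leaf) 142585 7
 Tr.leaf) 142593 7
 (Tr.node Tr.leaf 142599 7
 Tr.leaf))) 142611 7
 (Tr.node (Tr.node (Tr.node (Tr.node Tr.leaf 142613 7
 Tr.leaf) 142615 7
 Tr.leaf) 142633 6
 (Tr.node (Tr.node Tr.leaf 142649 7
 Tr.leaf) 142651 6
 Tr.leaf)) 142653 7
 (Tr.node (Tr.node (Tr.node Tr.leaf 142655 7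
 Tr.leaf) 142669 7
 Tr.leaf) 142671 7
 (Tr.node Tr.leaf 142681 7
 Tr.leaf))))))))

/-- A subtree. -/
def tr1_s35 : Tr := (Tr.node (Tr.node (Tr.node (Tr.node (Tr.node (Tr.node (Tr.node (Tr.node (Tr.node Tr.leaf 142685 6
 Tr.leaf) 142689 7
 Tr.leaf) 142693 7
 (Tr.node (Tr.node Tr.leaf 142695 7
 Tr.leaf) 142705 7
 Tr.leaf)) 142707 6
 (Tr.node (Tr.node (Tr.node Tr.leaf 142709 7
 Tr.leaf) 142711 6
 Tr.leaf) 142729 6
 (Tr.node (Tr.node Tr.leaf 142735 7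
 Tr.leaf) 142745 7
 Tr.leaf))) 142747 7
 (Tr.node (Tr.node (Tr.node (Tr.node Tr.leaf 142749 6
 Tr.leaf) 142751 6
 Tr.leaf) 142753 6
 (Tr.node (Tr.node Tr.leaf 142755 7
 Tr.leaf) 142759 6
 Tr.leaf)) 142769 7
 (Tr.node (Tr.node (Tr.node Tr.leaf 142785 7
 Tr.leaf) 142787 7
 Tr.leaf) 142801 7
 (Tr.node Tr.leaf 142803 7
 Tr.leaf)))) 142805 6
 (Tr.node (Tr.node (Tr.node (Tr.node (Tr.node Tr.leaf 142807 7
 Tr.leaf) 142825 7
 Tr.leaf) 142841 8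
 (Tr.node (Tr.node Tr.leaf 142843 7
 Tr.leaf) 142845 7
 Tr.leaf)) 142847 8
 (Tr.node (Tr.node (Tr.node Tr.leaf 143371 6
 Tr.leaf) 143373 6
 Tr.leaf) 143379 6
 (Tr.node (Tr.node Tr.leaf 143381 6
 Tr.leaf) 143390 5
 Tr.leaf))) 143394 7
 (Tr.node (Tr.node (Tr.node (Tr.node Tr.leaf 143399 6
 Tr.leaf) 143401 7
 Tr.leaf) 143402 6
 (Tr.node (Tr.node Tr.leaf 143404 6
 Tr.leaf) 143409 7
 Tr.leaf)) 143412 6
 (Tr.node (Tr.node (Tr.node Tr.leaf 143415 7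
 Tr.leaf) 143418 7
 Tr.leaf) 143420 6
 (Tr.node Tr.leaf 143426 5
 Tr.leaf))))) 143433 7
 (Tr.node (Tr.node (Tr.node (Tr.node (Tr.node (Tr.node Tr.leaf 143434 6
 Tr.leaf) 143439 6
 Tr.leaf) 143441 7
 (Tr.node (Tr.node Tr.leaf 143447 7
 Tr.leaf) 143449 7
 Tr.leaf)) 143452 5
 (Tr.node (Tr.node (Tr.node Tr.leaf 143455 6
 Tr.leaf) 143462 6
 Tr.leaf) 143467 6
 (Tr.node (Tr.node Tr.leaf 143469 7
 Tr.leaf) 143470 7
 Tr.leaf))) 143475 7
 (Tr.node (Tr.node (Tr.node (Tr.node Tr.leaf 143478 6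
 Tr.leaf) 143483 7
 Tr.leaf) 143485 6
 (Tr.node (Tr.node Tr.leaf 143486 7
 Tr.leaf) 143490 6
 Tr.leaf)) 143500 6
 (Tr.node (Tr.node (Tr.node Tr.leaf 143503 6
 Tr.leaf) 143508 6
 Tr.leaf) 143514 7
 (Tr.node Tr.leaf 143526 6
 Tr.leaf)))) 143533 7
 (Tr.node (Tr.node (Tr.node (Tr.node (Tr.node Tr.leaf 143534 6
 Tr.leaf) 143547 7
 Tr.leaf) 143549 7
 (Tr.node (Tr.node Tr.leaf 143550 6
 Tr.leaf) 143555 6
 Tr.leaf)) 143563 7
 (Tr.node (Tr.node (Tr.node Tr.leaf 143565 6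
 Tr.leaf) 143574 6
 Tr.leaf) 143581 6
 (Tr.node Tr.leaf 143582 6
 Tr.leaf))) 143601 6
 (Tr.node (Tr.node (Tr.node (Tr.node Tr.leaf 143604 6
 Tr.leaf) 143622 5
 Tr.leaf) 143627 6
 (Tr.node (Tr.node Tr.leaf 143635 6
 Tr.leaf) 143645 6
 Tr.leaf)) 143649 7
 (Tr.node (Tr.node (Tr.node Tr.leaf 143652 5
 Tr.leaf) 143657 7
 Tr.leaf) 143658 7
 (Tr.node Tr.leaf 143666 6
 Tr.leaf)))))) 143671 7
 (Tr.node (Tr.node (Tr.node (Tr.node (Tr.node (Tr.node (Tr.node Tr.leaf 143673 7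
 Tr.leaf) 143676 6
 Tr.leaf) 143681 7
 (Tr.node (Tr.node Tr.leaf 143684 5
 Tr.leaf) 143689 7
 Tr.leaf)) 143695 6
 (Tr.node (Tr.node (Tr.node Tr.leaf 143697 6
 Tr.leaf) 143698 6
 Tr.leaf) 143706 5
 (Tr.node (Tr.node Tr.leaf 143711 7
 Tr.leaf) 143717 6
 Tr.leaf))) 143725 7
 (Tr.node (Tr.node (Tr.node (Tr.node Tr.leaf 143726 5
 Tr.leaf) 143731 6
 Tr.leaf) 143733 7
 (Tr.node (Tr.node Tr.leaf 143739 7
 Tr.leaf) 143741 7
 Tr.leaf)) 143742 6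
 (Tr.node (Tr.node (Tr.node Tr.leaf 143745 6
 Tr.leaf) 143751 7
 Tr.leaf) 143754 7
 (Tr.node Tr.leaf 143759 6
 Tr.leaf)))) 143761 5
 (Tr.node (Tr.node (Tr.node (Tr.node (Tr.node Tr.leaf 143762 6
 Tr.leaf) 143770 6
 Tr.leaf) 143772 6
 (Tr.node (Tr.node Tr.leaf 143781 7
 Tr.leaf) 143782 6
 Tr.leaf)) 143787 6
 (Tr.node (Tr.node (Tr.node Tr.leaf 143789 6
 Tr.leaf) 143795 6
 Tr.leaf) 143798 6
 (Tr.node (Tr.node Tr.leaf 143803 6
 Tr.leaf) 143806 6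
 Tr.leaf))) 143811 7
 (Tr.node (Tr.node (Tr.node (Tr.node Tr.leaf 143813 6
 Tr.leaf) 143821 6
 Tr.leaf) 143822 5
 (Tr.node (Tr.node Tr.leaf 143835 5
 Tr.leaf) 143838 7
 Tr.leaf)) 143849 6
 (Tr.node (Tr.node (Tr.node Tr.leaf 143852 6
 Tr.leaf) 143855 7
 Tr.leaf) 143857 6
 (Tr.node Tr.leaf 143858 6
 Tr.leaf))))) 143860 7
 (Tr.node (Tr.node (Tr.node (Tr.node (Tr.node (Tr.node Tr.leaf 143865 7
 Tr.leaf) 143866 7
 Tr.leaf) 143868 7
 (Tr.node (Tr.node Tr.leaf 143871 7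
 Tr.leaf) 144385 6
 Tr.leaf)) 144387 6
 (Tr.node (Tr.node (Tr.node Tr.leaf 144393 6
 Tr.leaf) 144403 6
 Tr.leaf) 144409 6
 (Tr.node (Tr.node Tr.leaf 144411 6
 Tr.leaf) 144423 7
 Tr.leaf))) 144429 7
 (Tr.node (Tr.node (Tr.node (Tr.node Tr.leaf 144437 6
 Tr.leaf) 144439 7
 Tr.leaf) 144447 6
 (Tr.node (Tr.node Tr.leaf 144455 7
 Tr.leaf) 144461 7
 Tr.leaf)) 144463 6
 (Tr.node (Tr.node (Tr.node Tr.leaf 144469 6
 Tr.leaf) 144471 7
 Tr.leaf) 144499 7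
 (Tr.node Tr.leaf 144505 7
 Tr.leaf)))) 144507 6
 (Tr.node (Tr.node (Tr.node (Tr.node (Tr.node Tr.leaf 144517 7
 Tr.leaf) 144519 7
 Tr.leaf) 144525 7
 (Tr.node (Tr.node Tr.leaf 144527 7
 Tr.leaf) 144541 7
 Tr.leaf)) 144543 6
 (Tr.node (Tr.node (Tr.node Tr.leaf 144545 7
 Tr.leaf) 144555 6
 Tr.leaf) 144563 6
 (Tr.node Tr.leaf 144571 7
 Tr.leaf))) 144577 7
 (Tr.node (Tr.node (Tr.node (Tr.node Tr.leaf 144587 6
 Tr.leaf) 144593 7
 Tr.leaf) 144595 7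
 (Tr.node (Tr.node Tr.leaf 144601 7
 Tr.leaf) 144603 6
 Tr.leaf)) 144623 8
 (Tr.node (Tr.node (Tr.node Tr.leaf 144629 7
 Tr.leaf) 144631 7
 Tr.leaf) 144637 7
 (Tr.node Tr.leaf 144641 6
 Tr.leaf))))))) 144643 6
 (Tr.node (Tr.node (Tr.node (Tr.node (Tr.node (Tr.node (Tr.node (Tr.node Tr.leaf 144649 6
 Tr.leaf) 144659 6
 Tr.leaf) 144665 6
 (Tr.node (Tr.node Tr.leaf 144667 6
 Tr.leaf) 144677 6
 Tr.leaf)) 144679 7
 (Tr.node (Tr.node (Tr.node Tr.leaf 144685 7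
 Tr.leaf) 144687 7
 Tr.leaf) 144693 6
 (Tr.node (Tr.node Tr.leaf 144703 7
 Tr.leaf) 144711 7
 Tr.leaf))) 144719 6
 (Tr.node (Tr.node (Tr.node (Tr.node Tr.leaf 144725 6
 Tr.leaf) 144727 7
 Tr.leaf) 144733 7
 (Tr.node (Tr.node Tr.leaf 144737 6
 Tr.leaf) 144745 7
 Tr.leaf)) 144753 7
 (Tr.node (Tr.node (Tr.node Tr.leaf 144755 7
 Tr.leaf) 144761 7
 Tr.leaf) 144763 7
 (Tr.node Tr.leaf 144773 6
 Tr.leaf)))) 144775 7
 (Tr.node (Tr.node (Tr.node (Tr.node (Tr.node Tr.leaf 144781 7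
 Tr.leaf) 144801 7
 Tr.leaf) 144803 6
 (Tr.node (Tr.node Tr.leaf 144817 6
 Tr.leaf) 144827 7
 Tr.leaf)) 144833 6
 (Tr.node (Tr.node (Tr.node Tr.leaf 144835 7
 Tr.leaf) 144843 6
 Tr.leaf) 144851 7
 (Tr.node (Tr.node Tr.leaf 144857 7
 Tr.leaf) 144871 7
 Tr.leaf))) 144877 7
 (Tr.node (Tr.node (Tr.node (Tr.node Tr.leaf 144879 7
 Tr.leaf) 144885 8
 Tr.leaf) 145410 5
 (Tr.node (Tr.node Tr.leaf 145413 6
 Tr.leaf) 145422 5
 Tr.leaf)) 145430 5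
 (Tr.node (Tr.node (Tr.node Tr.leaf 145433 6
 Tr.leaf) 145455 6
 Tr.leaf) 145459 7
 (Tr.node Tr.leaf 145463 7
 Tr.leaf))))) 145471 6
 (Tr.node (Tr.node (Tr.node (Tr.node (Tr.node (Tr.node Tr.leaf 145475 6
 Tr.leaf) 145479 7
 Tr.leaf) 145491 6
 (Tr.node (Tr.node Tr.leaf 145495 7
 Tr.leaf) 145503 6
 Tr.leaf)) 145509 6
 (Tr.node (Tr.node (Tr.node Tr.leaf 145510 7
 Tr.leaf) 145513 6
 Tr.leaf) 145517 6
 (Tr.node (Tr.node Tr.leaf 145521 6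
 Tr.leaf) 145522 6
 Tr.leaf))) 145525 7
 (Tr.node (Tr.node (Tr.node (Tr.node Tr.leaf 145530 7
 Tr.leaf) 145533 7
 Tr.leaf) 145534 6
 (Tr.node (Tr.node Tr.leaf 145539 6
 Tr.leaf) 145551 7
 Tr.leaf)) 145555 6
 (Tr.node (Tr.node (Tr.node Tr.leaf 145563 6
 Tr.leaf) 145567 6
 Tr.leaf) 145569 7
 (Tr.node Tr.leaf 145570 7
 Tr.leaf)))) 145574 6
 (Tr.node (Tr.node (Tr.node (Tr.node (Tr.node Tr.leaf 145577 6
 Tr.leaf) 145581 6
 Tr.leaf) 145582 7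
 (Tr.node (Tr.node Tr.leaf 145585 6
 Tr.leaf) 145590 6
 Tr.leaf)) 145597 6
 (Tr.node (Tr.node (Tr.node Tr.leaf 145601 6
 Tr.leaf) 145606 7
 Tr.leaf) 145613 7
 (Tr.node Tr.leaf 145617 6
 Tr.leaf))) 145618 6
 (Tr.node (Tr.node (Tr.node (Tr.node Tr.leaf 145622 6
 Tr.leaf) 145625 6
 Tr.leaf) 145626 6
 (Tr.node (Tr.node Tr.leaf 145629 6
 Tr.leaf) 145630 6
 Tr.leaf)) 145635 7
 (Tr.node (Tr.node (Tr.node Tr.leaf 145643 7
 Tr.leaf) 145647 8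
 Tr.leaf) 145651 7
 (Tr.node Tr.leaf 145663 7
 Tr.leaf)))))) 145665 6
 (Tr.node (Tr.node (Tr.node (Tr.node (Tr.node (Tr.node (Tr.node Tr.leaf 145674 6
 Tr.leaf) 145677 6
 Tr.leaf) 145682 5
 (Tr.node (Tr.node Tr.leaf 145685 6
 Tr.leaf) 145694 6
 Tr.leaf)) 145703 6
 (Tr.node (Tr.node (Tr.node Tr.leaf 145711 7
 Tr.leaf) 145715 6
 Tr.leaf) 145719 6
 (Tr.node (Tr.node Tr.leaf 145723 6
 Tr.leaf) 145731 6
 Tr.leaf))) 145743 6
 (Tr.node (Tr.node (Tr.node (Tr.node Tr.leaf 145751 7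
 Tr.leaf) 145759 6
 Tr.leaf) 145761 7
 (Tr.node (Tr.node Tr.leaf 145762 6
 Tr.leaf) 145765 6
 Tr.leaf)) 145774 6
 (Tr.node (Tr.node (Tr.node Tr.leaf 145777 6
 Tr.leaf) 145782 7
 Tr.leaf) 145795 6
 (Tr.node Tr.leaf 145803 5
 Tr.leaf)))) 145811 7
 (Tr.node (Tr.node (Tr.node (Tr.node (Tr.node Tr.leaf 145823 5
 Tr.leaf) 145829 6
 Tr.leaf) 145834 6
 (Tr.node (Tr.node Tr.leaf 145841 6
 Tr.leaf) 145849 6
 Tr.leaf)) 145850 6
 (Tr.node (Tr.node (Tr.node Tr.leaf 145853 7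
 Tr.leaf) 145858 6
 Tr.leaf) 145865 5
 (Tr.node Tr.leaf 145866 6
 Tr.leaf))) 145869 6
 (Tr.node (Tr.node (Tr.node (Tr.node Tr.leaf 145870 6
 Tr.leaf) 145873 7
 Tr.leaf) 145878 7
 (Tr.node (Tr.node Tr.leaf 145885 5
 Tr.leaf) 145891 7
 Tr.leaf)) 145899 7
 (Tr.node (Tr.node (Tr.node Tr.leaf 145903 7
 Tr.leaf) 145907 8
 Tr.leaf) 145915 7
 (Tr.node Tr.leaf 145919 7
 Tr.leaf))))) 146467 6
 (Tr.node (Tr.node (Tr.node (Tr.node (Tr.node (Tr.node Tr.leaf 146471 6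
 Tr.leaf) 146475 6
 Tr.leaf) 146477 7
 (Tr.node (Tr.node Tr.leaf 146481 7
 Tr.leaf) 146485 5
 Tr.leaf)) 146491 7
 (Tr.node (Tr.node (Tr.node Tr.leaf 146495 7
 Tr.leaf) 146497 7
 Tr.leaf) 146501 7
 (Tr.node (Tr.node Tr.leaf 146505 6
 Tr.leaf) 146509 7
 Tr.leaf))) 146521 6
 (Tr.node (Tr.node (Tr.node (Tr.node Tr.leaf 146523 7
 Tr.leaf) 146525 7
 Tr.leaf) 146561 7
 (Tr.node (Tr.node Tr.leaf 146569 6
 Tr.leaf) 146571 6
 Tr.leaf)) 146573 6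
 (Tr.node (Tr.node (Tr.node Tr.leaf 146579 7
 Tr.leaf) 146581 5
 Tr.leaf) 146583 6
 (Tr.node Tr.leaf 146585 7
 Tr.leaf)))) 146587 7
 (Tr.node (Tr.node (Tr.node (Tr.node (Tr.node Tr.leaf 146591 6
 Tr.leaf) 146657 8
 Tr.leaf) 146661 7
 (Tr.node (Tr.node Tr.leaf 146663 8
 Tr.leaf) 146665 7
 Tr.leaf)) 146667 7
 (Tr.node (Tr.node (Tr.node Tr.leaf 146673 7
 Tr.leaf) 146675 7
 Tr.leaf) 146677 7
 (Tr.node Tr.leaf 146679 7
 Tr.leaf))) 146681 7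
 (Tr.node (Tr.node (Tr.node (Tr.node Tr.leaf 146687 8
 Tr.leaf) 146723 7
 Tr.leaf) 146729 7
 (Tr.node (Tr.node Tr.leaf 146731 5
 Tr.leaf) 146733 7
 Tr.leaf)) 146735 6
 (Tr.node (Tr.node (Tr.node Tr.leaf 146749 6
 Tr.leaf) 146751 6
 Tr.leaf) 146753 7
 (Tr.node Tr.leaf 146755 7
 Tr.leaf))))))))

/-- A subtree. -/
def tr1_s36 : Tr := (Tr.node (Tr.node (Tr.node (Tr.node (Tr.node (Tr.node (Tr.node (Tr.node (Tr.node Tr.leaf 146763 7
 Tr.leaf) 146765 7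
 Tr.leaf) 146769 7
 (Tr.node (Tr.node Tr.leaf 146775 6
 Tr.leaf) 146779 7
 Tr.leaf)) 146781 7
 (Tr.node (Tr.node (Tr.node Tr.leaf 146827 5
 Tr.leaf) 146833 7
 Tr.leaf) 146835 6
 (Tr.node (Tr.node Tr.leaf 146837 7
 Tr.leaf) 146841 7
 Tr.leaf))) 146843 7
 (Tr.node (Tr.node (Tr.node (Tr.node Tr.leaf 146845 6
 Tr.leaf) 146913 7
 Tr.leaf) 146919 7
 (Tr.node (Tr.node Tr.leaf 146921 7
 Tr.leaf) 146923 7
 Tr.leaf)) 146941 7
 (Tr.node (Tr.node (Tr.node Tr.leaf 147457 4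
 Tr.leaf) 147458 4
 Tr.leaf) 147463 6
 (Tr.node Tr.leaf 147464 4
 Tr.leaf)))) 147470 5
 (Tr.node (Tr.node (Tr.node (Tr.node (Tr.node Tr.leaf 147472 3
 Tr.leaf) 147475 6
 Tr.leaf) 147477 7
 (Tr.node (Tr.node Tr.leaf 147481 7
 Tr.leaf) 147484 6
 Tr.leaf)) 147489 4
 (Tr.node (Tr.node (Tr.node Tr.leaf 147490 4
 Tr.leaf) 147496 3
 Tr.leaf) 147501 6
 (Tr.node (Tr.node Tr.leaf 147502 7
 Tr.leaf) 147504 3
 Tr.leaf))) 147509 6
 (Tr.node (Tr.node (Tr.node (Tr.node Tr.leaf 147513 6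
 Tr.leaf) 147514 6
 Tr.leaf) 147516 5
 (Tr.node (Tr.node Tr.leaf 147519 5
 Tr.leaf) 147523 6
 Tr.leaf)) 147525 6
 (Tr.node (Tr.node (Tr.node Tr.leaf 147526 5
 Tr.leaf) 147530 5
 Tr.leaf) 147535 7
 (Tr.node Tr.leaf 147537 6
 Tr.leaf))))) 147540 7
 (Tr.node (Tr.node (Tr.node (Tr.node (Tr.node (Tr.node Tr.leaf 147544 5
 Tr.leaf) 147549 7
 Tr.leaf) 147550 6
 (Tr.node (Tr.node Tr.leaf 147557 6
 Tr.leaf) 147558 7
 Tr.leaf)) 147567 7
 (Tr.node (Tr.node (Tr.node Tr.leaf 147572 6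
 Tr.leaf) 147575 5
 Tr.leaf) 147589 7
 (Tr.node (Tr.node Tr.leaf 147594 6
 Tr.leaf) 147599 7
 Tr.leaf))) 147607 6
 (Tr.node (Tr.node (Tr.node (Tr.node Tr.leaf 147621 6
 Tr.leaf) 147628 6
 Tr.leaf) 147631 5
 (Tr.node (Tr.node Tr.leaf 147633 5
 Tr.leaf) 147640 6
 Tr.leaf)) 147643 5
 (Tr.node (Tr.node (Tr.node Tr.leaf 147646 4
 Tr.leaf) 147650 7
 Tr.leaf) 147655 6
 (Tr.node Tr.leaf 147656 5
 Tr.leaf)))) 147659 7
 (Tr.node (Tr.node (Tr.node (Tr.node (Tr.node Tr.leaf 147661 7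
 Tr.leaf) 147662 6
 Tr.leaf) 147667 7
 (Tr.node (Tr.node Tr.leaf 147669 6
 Tr.leaf) 147679 7
 Tr.leaf)) 147681 6
 (Tr.node (Tr.node (Tr.node Tr.leaf 147682 6
 Tr.leaf) 147684 5
 Tr.leaf) 147687 5
 (Tr.node Tr.leaf 147696 6
 Tr.leaf))) 147699 5
 (Tr.node (Tr.node (Tr.node (Tr.node Tr.leaf 147702 4
 Tr.leaf) 147706 5
 Tr.leaf) 147711 7
 (Tr.node (Tr.node Tr.leaf 147713 4
 Tr.leaf) 147714 4
 Tr.leaf)) 147720 4
 (Tr.node (Tr.node (Tr.node Tr.leaf 147728 3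
 Tr.leaf) 147737 6
 Tr.leaf) 147738 6
 (Tr.node Tr.leaf 147743 7
 Tr.leaf)))))) 147745 4
 (Tr.node (Tr.node (Tr.node (Tr.node (Tr.node (Tr.node (Tr.node Tr.leaf 147746 4
 Tr.leaf) 147751 6
 Tr.leaf) 147752 4
 (Tr.node (Tr.node Tr.leaf 147755 6
 Tr.leaf) 147757 6
 Tr.leaf)) 147758 5
 (Tr.node (Tr.node (Tr.node Tr.leaf 147760 3
 Tr.leaf) 147765 7
 Tr.leaf) 147770 7
 (Tr.node (Tr.node Tr.leaf 147775 6
 Tr.leaf) 147785 6
 Tr.leaf))) 147786 6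
 (Tr.node (Tr.node (Tr.node (Tr.node Tr.leaf 147788 6
 Tr.leaf) 147793 6
 Tr.leaf) 147794 6
 (Tr.node (Tr.node Tr.leaf 147796 6
 Tr.leaf) 147805 6
 Tr.leaf)) 147814 5
 (Tr.node (Tr.node (Tr.node Tr.leaf 147818 5
 Tr.leaf) 147823 7
 Tr.leaf) 147826 6
 (Tr.node Tr.leaf 147831 7
 Tr.leaf)))) 147832 5
 (Tr.node (Tr.node (Tr.node (Tr.node (Tr.node Tr.leaf 147835 7
 Tr.leaf) 147837 7
 Tr.leaf) 147838 6
 (Tr.node (Tr.node Tr.leaf 147849 6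
 Tr.leaf) 147850 6
 Tr.leaf)) 147852 6
 (Tr.node (Tr.node (Tr.node Tr.leaf 147857 5
 Tr.leaf) 147858 6
 Tr.leaf) 147860 6
 (Tr.node (Tr.node Tr.leaf 147870 5
 Tr.leaf) 147875 6
 Tr.leaf))) 147877 7
 (Tr.node (Tr.node (Tr.node (Tr.node Tr.leaf 147881 6
 Tr.leaf) 147884 7
 Tr.leaf) 147895 6
 (Tr.node (Tr.node Tr.leaf 147899 7
 Tr.leaf) 147901 6
 Tr.leaf)) 147905 6
 (Tr.node (Tr.node (Tr.node Tr.leaf 147906 6
 Tr.leaf) 147911 7
 Tr.leaf) 147917 6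
 (Tr.node Tr.leaf 147926 5
 Tr.leaf))))) 147929 6
 (Tr.node (Tr.node (Tr.node (Tr.node (Tr.node (Tr.node Tr.leaf 147930 5
 Tr.leaf) 147937 7
 Tr.leaf) 147940 6
 (Tr.node (Tr.node Tr.leaf 147944 6
 Tr.leaf) 147949 7
 Tr.leaf)) 147950 6
 (Tr.node (Tr.node (Tr.node Tr.leaf 147967 7
 Tr.leaf) 148485 6
 Tr.leaf) 148489 6
 (Tr.node (Tr.node Tr.leaf 148511 7
 Tr.leaf) 148517 6
 Tr.leaf))) 148519 6
 (Tr.node (Tr.node (Tr.node (Tr.node Tr.leaf 148523 6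
 Tr.leaf) 148529 6
 Tr.leaf) 148541 6
 (Tr.node (Tr.node Tr.leaf 148543 6
 Tr.leaf) 148557 7
 Tr.leaf)) 148559 7
 (Tr.node (Tr.node (Tr.node Tr.leaf 148565 7
 Tr.leaf) 148569 6
 Tr.leaf) 148577 6
 (Tr.node Tr.leaf 148597 6
 Tr.leaf)))) 148599 6
 (Tr.node (Tr.node (Tr.node (Tr.node (Tr.node Tr.leaf 148601 7
 Tr.leaf) 148603 7
 Tr.leaf) 148609 6
 (Tr.node (Tr.node Tr.leaf 148621 7
 Tr.leaf) 148629 6
 Tr.leaf)) 148631 7
 (Tr.node (Tr.node (Tr.node Tr.leaf 148633 7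
 Tr.leaf) 148635 6
 Tr.leaf) 148643 6
 (Tr.node Tr.leaf 148653 6
 Tr.leaf))) 148655 6
 (Tr.node (Tr.node (Tr.node (Tr.node Tr.leaf 148661 7
 Tr.leaf) 148663 7
 Tr.leaf) 148665 6
 (Tr.node (Tr.node Tr.leaf 148667 6
 Tr.leaf) 148677 7
 Tr.leaf)) 148681 6
 (Tr.node (Tr.node (Tr.node Tr.leaf 148683 7
 Tr.leaf) 148689 7
 Tr.leaf) 148701 8
 (Tr.node Tr.leaf 148709 6
 Tr.leaf))))))) 148711 6
 (Tr.node (Tr.node (Tr.node (Tr.node (Tr.node (Tr.node (Tr.node (Tr.node Tr.leaf 148713 7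
 Tr.leaf) 148715 7
 Tr.leaf) 148721 6
 (Tr.node (Tr.node Tr.leaf 148723 6
 Tr.leaf) 148741 6
 Tr.leaf)) 148743 6
 (Tr.node (Tr.node (Tr.node Tr.leaf 148747 6
 Tr.leaf) 148753 6
 Tr.leaf) 148767 7
 (Tr.node (Tr.node Tr.leaf 148775 6
 Tr.leaf) 148787 6
 Tr.leaf))) 148799 7
 (Tr.node (Tr.node (Tr.node (Tr.node Tr.leaf 148801 6
 Tr.leaf) 148813 7
 Tr.leaf) 148815 7
 (Tr.node (Tr.node Tr.leaf 148823 6
 Tr.leaf) 148827 7
 Tr.leaf)) 148835 6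
 (Tr.node (Tr.node (Tr.node Tr.leaf 148845 7
 Tr.leaf) 148847 7
 Tr.leaf) 148855 7
 (Tr.node Tr.leaf 148857 7
 Tr.leaf)))) 148859 6
 (Tr.node (Tr.node (Tr.node (Tr.node (Tr.node Tr.leaf 148867 6
 Tr.leaf) 148877 6
 Tr.leaf) 148889 7
 (Tr.node (Tr.node Tr.leaf 148911 7
 Tr.leaf) 148917 7
 Tr.leaf)) 148919 6
 (Tr.node (Tr.node (Tr.node Tr.leaf 148923 7
 Tr.leaf) 148933 7
 Tr.leaf) 148937 7
 (Tr.node (Tr.node Tr.leaf 148947 7
 Tr.leaf) 148965 7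
 Tr.leaf))) 148971 6
 (Tr.node (Tr.node (Tr.node (Tr.node Tr.leaf 148977 6
 Tr.leaf) 148979 7
 Tr.leaf) 148991 8
 (Tr.node (Tr.node Tr.leaf 149507 6
 Tr.leaf) 149511 6
 Tr.leaf)) 149514 7
 (Tr.node (Tr.node (Tr.node Tr.leaf 149517 6
 Tr.leaf) 149521 7
 Tr.leaf) 149522 5
 (Tr.node Tr.leaf 149531 7
 Tr.leaf))))) 149550 6
 (Tr.node (Tr.node (Tr.node (Tr.node (Tr.node (Tr.node Tr.leaf 149557 7
 Tr.leaf) 149558 6
 Tr.leaf) 149563 7
 (Tr.node (Tr.node Tr.leaf 149567 5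
 Tr.leaf) 149574 7
 Tr.leaf)) 149579 7
 (Tr.node (Tr.node (Tr.node Tr.leaf 149583 6
 Tr.leaf) 149593 6
 Tr.leaf) 149597 6
 (Tr.node (Tr.node Tr.leaf 149602 6
 Tr.leaf) 149611 6
 Tr.leaf))) 149615 6
 (Tr.node (Tr.node (Tr.node (Tr.node Tr.leaf 149619 6
 Tr.leaf) 149625 6
 Tr.leaf) 149626 5
 (Tr.node (Tr.node Tr.leaf 149629 7
 Tr.leaf) 149634 6
 Tr.leaf)) 149637 7
 (Tr.node (Tr.node (Tr.node Tr.leaf 149643 7
 Tr.leaf) 149647 6
 Tr.leaf) 149657 7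
 (Tr.node Tr.leaf 149661 7
 Tr.leaf)))) 149662 6
 (Tr.node (Tr.node (Tr.node (Tr.node (Tr.node Tr.leaf 149665 7
 Tr.leaf) 149666 5
 Tr.leaf) 149679 6
 (Tr.node (Tr.node Tr.leaf 149683 7
 Tr.leaf) 149687 7
 Tr.leaf)) 149693 7
 (Tr.node (Tr.node (Tr.node Tr.leaf 149694 7
 Tr.leaf) 149706 7
 Tr.leaf) 149709 6
 (Tr.node Tr.leaf 149710 6
 Tr.leaf))) 149717 7
 (Tr.node (Tr.node (Tr.node (Tr.node Tr.leaf 149718 6
 Tr.leaf) 149731 6
 Tr.leaf) 149735 7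
 (Tr.node (Tr.node Tr.leaf 149737 7
 Tr.leaf) 149741 6
 Tr.leaf)) 149742 6
 (Tr.node (Tr.node (Tr.node Tr.leaf 149745 7
 Tr.leaf) 149746 7
 Tr.leaf) 149755 7
 (Tr.node Tr.leaf 149759 7
 Tr.leaf)))))) 149770 6
 (Tr.node (Tr.node (Tr.node (Tr.node (Tr.node (Tr.node (Tr.node Tr.leaf 149773 6
 Tr.leaf) 149774 7
 Tr.leaf) 149777 7
 (Tr.node (Tr.node Tr.leaf 149778 5
 Tr.leaf) 149781 7
 Tr.leaf)) 149787 6
 (Tr.node (Tr.node (Tr.node Tr.leaf 149791 6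
 Tr.leaf) 149795 6
 Tr.leaf) 149799 6
 (Tr.node (Tr.node Tr.leaf 149802 7
 Tr.leaf) 149809 7
 Tr.leaf))) 149814 5
 (Tr.node (Tr.node (Tr.node (Tr.node Tr.leaf 149825 6
 Tr.leaf) 149826 7
 Tr.leaf) 149830 6
 (Tr.node (Tr.node Tr.leaf 149847 7
 Tr.leaf) 149850 7
 Tr.leaf)) 149854 6
 (Tr.node (Tr.node (Tr.node Tr.leaf 149857 6
 Tr.leaf) 149862 7
 Tr.leaf) 149867 6
 (Tr.node Tr.leaf 149871 7
 Tr.leaf)))) 149875 6
 (Tr.node (Tr.node (Tr.node (Tr.node (Tr.node Tr.leaf 149879 7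
 Tr.leaf) 149881 6
 Tr.leaf) 149882 6
 (Tr.node (Tr.node Tr.leaf 149886 7
 Tr.leaf) 149889 7
 Tr.leaf)) 149893 7
 (Tr.node (Tr.node (Tr.node Tr.leaf 149894 5
 Tr.leaf) 149899 7
 Tr.leaf) 149913 7
 (Tr.node (Tr.node Tr.leaf 149917 7
 Tr.leaf) 149925 7
 Tr.leaf))) 149926 6
 (Tr.node (Tr.node (Tr.node (Tr.node Tr.leaf 149945 7
 Tr.leaf) 149946 6
 Tr.leaf) 149955 6
 (Tr.node (Tr.node Tr.leaf 149959 5
 Tr.leaf) 149962 6
 Tr.leaf)) 149966 7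
 (Tr.node (Tr.node (Tr.node Tr.leaf 149969 7
 Tr.leaf) 149973 7
 Tr.leaf) 149991 6
 (Tr.node Tr.leaf 149993 6
 Tr.leaf))))) 149997 6
 (Tr.node (Tr.node (Tr.node (Tr.node (Tr.node (Tr.node Tr.leaf 150001 7
 Tr.leaf) 150002 6
 Tr.leaf) 150005 7
 (Tr.node (Tr.node Tr.leaf 150529 6
 Tr.leaf) 150533 6
 Tr.leaf)) 150557 6
 (Tr.node (Tr.node (Tr.node Tr.leaf 150559 7
 Tr.leaf) 150561 6
 Tr.leaf) 150563 6
 (Tr.node (Tr.node Tr.leaf 150565 6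
 Tr.leaf) 150567 6
 Tr.leaf))) 150587 7
 (Tr.node (Tr.node (Tr.node (Tr.node Tr.leaf 150591 7
 Tr.leaf) 150601 7
 Tr.leaf) 150605 7
 (Tr.node (Tr.node Tr.leaf 150607 6
 Tr.leaf) 150609 7
 Tr.leaf)) 150611 7
 (Tr.node (Tr.node (Tr.node Tr.leaf 150613 6
 Tr.leaf) 150635 6
 Tr.leaf) 150637 6
 (Tr.node Tr.leaf 150643 7
 Tr.leaf)))) 150645 7
 (Tr.node (Tr.node (Tr.node (Tr.node (Tr.node Tr.leaf 150647 7
 Tr.leaf) 150667 6
 Tr.leaf) 150669 6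
 (Tr.node (Tr.node Tr.leaf 150671 6
 Tr.leaf) 150675 6
 Tr.leaf)) 150679 6
 (Tr.node (Tr.node (Tr.node Tr.leaf 150697 7
 Tr.leaf) 150699 7
 Tr.leaf) 150701 7
 (Tr.node Tr.leaf 150705 7
 Tr.leaf))) 150707 7
 (Tr.node (Tr.node (Tr.node (Tr.node Tr.leaf 150709 7
 Tr.leaf) 150711 7
 Tr.leaf) 150721 7
 (Tr.node (Tr.node Tr.leaf 150725 6
 Tr.leaf) 150747 7
 Tr.leaf)) 150751 8
 (Tr.node (Tr.node (Tr.node Tr.leaf 150753 7
 Tr.leaf) 150757 7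
 Tr.leaf) 150779 7
 (Tr.node Tr.leaf 150781 7
 Tr.leaf))))))))

/-- A subtree. -/
def tr1_s37 : Tr := (Tr.node (Tr.node (Tr.node (Tr.node (Tr.node (Tr.node (Tr.node (Tr.node (Tr.node Tr.leaf 150787 6
 Tr.leaf) 150789 6
 Tr.leaf) 150791 6
 (Tr.node (Tr.node Tr.leaf 150811 7
 Tr.leaf) 150813 7
 Tr.leaf)) 150815 7
 (Tr.node (Tr.node (Tr.node Tr.leaf 150819 6
 Tr.leaf) 150823 6
 Tr.leaf) 150843 6
 (Tr.node (Tr.node Tr.leaf 150847 7
 Tr.leaf) 150867 7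
 Tr.leaf))) 150871 7
 (Tr.node (Tr.node (Tr.node (Tr.node Tr.leaf 150889 6
 Tr.leaf) 150891 7
 Tr.leaf) 150895 7
 (Tr.node (Tr.node Tr.leaf 150897 6
 Tr.leaf) 150899 6
 Tr.leaf)) 150901 6
 (Tr.node (Tr.node (Tr.node Tr.leaf 150921 7
 Tr.leaf) 150925 7
 Tr.leaf) 150929 7
 (Tr.node Tr.leaf 150935 7
 Tr.leaf)))) 150955 6
 (Tr.node (Tr.node (Tr.node (Tr.node (Tr.node Tr.leaf 150957 7
 Tr.leaf) 150959 7
 Tr.leaf) 150961 6
 (Tr.node (Tr.node Tr.leaf 150965 6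
 Tr.leaf) 150977 7
 Tr.leaf)) 150979 7
 (Tr.node (Tr.node (Tr.node Tr.leaf 150981 7
 Tr.leaf) 151003 7
 Tr.leaf) 151005 7
 (Tr.node (Tr.node Tr.leaf 151009 7
 Tr.leaf) 151011 6
 Tr.leaf))) 151033 8
 (Tr.node (Tr.node (Tr.node (Tr.node Tr.leaf 151037 7
 Tr.leaf) 151558 6
 Tr.leaf) 151565 6
 (Tr.node (Tr.node Tr.leaf 151569 7
 Tr.leaf) 151570 7
 Tr.leaf)) 151572 5
 (Tr.node (Tr.node (Tr.node Tr.leaf 151578 6
 Tr.leaf) 151583 7
 Tr.leaf) 151598 6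
 (Tr.node Tr.leaf 151604 5
 Tr.leaf))))) 151609 7
 (Tr.node (Tr.node (Tr.node (Tr.node (Tr.node (Tr.node Tr.leaf 151610 7
 Tr.leaf) 151617 6
 Tr.leaf) 151618 6
 (Tr.node (Tr.node Tr.leaf 151620 6
 Tr.leaf) 151646 5
 Tr.leaf)) 151650 6
 (Tr.node (Tr.node (Tr.node Tr.leaf 151655 7
 Tr.leaf) 151657 6
 Tr.leaf) 151658 6
 (Tr.node (Tr.node Tr.leaf 151660 6
 Tr.leaf) 151667 7
 Tr.leaf))) 151669 6
 (Tr.node (Tr.node (Tr.node (Tr.node Tr.leaf 151675 7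
 Tr.leaf) 151678 5
 Tr.leaf) 151684 6
 (Tr.node (Tr.node Tr.leaf 151689 6
 Tr.leaf) 151692 7
 Tr.leaf)) 151695 6
 (Tr.node (Tr.node (Tr.node Tr.leaf 151699 6
 Tr.leaf) 151702 6
 Tr.leaf) 151707 7
 (Tr.node Tr.leaf 151709 6
 Tr.leaf)))) 151710 6
 (Tr.node (Tr.node (Tr.node (Tr.node (Tr.node Tr.leaf 151716 7
 Tr.leaf) 151719 7
 Tr.leaf) 151721 6
 (Tr.node (Tr.node Tr.leaf 151722 6
 Tr.leaf) 151727 7
 Tr.leaf)) 151731 7
 (Tr.node (Tr.node (Tr.node Tr.leaf 151733 7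
 Tr.leaf) 151741 6
 Tr.leaf) 151742 5
 (Tr.node Tr.leaf 151747 6
 Tr.leaf))) 151749 6
 (Tr.node (Tr.node (Tr.node (Tr.node Tr.leaf 151750 5
 Tr.leaf) 151758 6
 Tr.leaf) 151761 5
 (Tr.node (Tr.node Tr.leaf 151764 5
 Tr.leaf) 151767 7
 Tr.leaf)) 151770 6
 (Tr.node (Tr.node (Tr.node Tr.leaf 151775 7
 Tr.leaf) 151779 6
 Tr.leaf) 151781 7
 (Tr.node Tr.leaf 151782 7
 Tr.leaf)))))) 151790 6
 (Tr.node (Tr.node (Tr.node (Tr.node (Tr.node (Tr.node (Tr.node Tr.leaf 151799 8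
 Tr.leaf) 151801 7
 Tr.leaf) 151802 6
 (Tr.node (Tr.node Tr.leaf 151804 6
 Tr.leaf) 151807 8
 Tr.leaf)) 151814 6
 (Tr.node (Tr.node (Tr.node Tr.leaf 151821 6
 Tr.leaf) 151822 6
 Tr.leaf) 151828 6
 (Tr.node (Tr.node Tr.leaf 151833 7
 Tr.leaf) 151834 7
 Tr.leaf))) 151836 5
 (Tr.node (Tr.node (Tr.node (Tr.node Tr.leaf 151839 7
 Tr.leaf) 151843 6
 Tr.leaf) 151846 7
 (Tr.node (Tr.node Tr.leaf 151851 6
 Tr.leaf) 151857 7
 Tr.leaf)) 151858 6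
 (Tr.node (Tr.node (Tr.node Tr.leaf 151860 6
 Tr.leaf) 151865 7
 Tr.leaf) 151868 6
 (Tr.node Tr.leaf 151871 7
 Tr.leaf)))) 151879 6
 (Tr.node (Tr.node (Tr.node (Tr.node (Tr.node Tr.leaf 151882 5
 Tr.leaf) 151887 7
 Tr.leaf) 151893 6
 (Tr.node (Tr.node Tr.leaf 151894 6
 Tr.leaf) 151901 6
 Tr.leaf)) 151902 7
 (Tr.node (Tr.node (Tr.node Tr.leaf 151905 6
 Tr.leaf) 151906 6
 Tr.leaf) 151908 6
 (Tr.node (Tr.node Tr.leaf 151911 6
 Tr.leaf) 151923 7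
 Tr.leaf))) 151925 7
 (Tr.node (Tr.node (Tr.node (Tr.node Tr.leaf 151926 6
 Tr.leaf) 151931 7
 Tr.leaf) 151933 6
 (Tr.node (Tr.node Tr.leaf 151940 7
 Tr.leaf) 151943 5
 Tr.leaf)) 151958 6
 (Tr.node (Tr.node (Tr.node Tr.leaf 151963 7
 Tr.leaf) 151965 7
 Tr.leaf) 151966 7
 (Tr.node Tr.leaf 151975 6
 Tr.leaf))))) 151978 6
 (Tr.node (Tr.node (Tr.node (Tr.node (Tr.node (Tr.node Tr.leaf 151980 6
 Tr.leaf) 151987 7
 Tr.leaf) 151990 6
 (Tr.node (Tr.node Tr.leaf 151998 6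
 Tr.leaf) 152005 6
 Tr.leaf)) 152006 5
 (Tr.node (Tr.node (Tr.node Tr.leaf 152011 5
 Tr.leaf) 152017 6
 Tr.leaf) 152018 5
 (Tr.node (Tr.node Tr.leaf 152020 5
 Tr.leaf) 152023 7
 Tr.leaf))) 152025 6
 (Tr.node (Tr.node (Tr.node (Tr.node Tr.leaf 152026 7
 Tr.leaf) 152028 6
 Tr.leaf) 152035 7
 (Tr.node (Tr.node Tr.leaf 152037 6
 Tr.leaf) 152038 6
 Tr.leaf)) 152043 7
 (Tr.node (Tr.node (Tr.node Tr.leaf 152045 6
 Tr.leaf) 152046 6
 Tr.leaf) 152050 6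
 (Tr.node Tr.leaf 152057 6
 Tr.leaf)))) 152060 6
 (Tr.node (Tr.node (Tr.node (Tr.node (Tr.node Tr.leaf 152577 6
 Tr.leaf) 152585 6
 Tr.leaf) 152597 7
 (Tr.node (Tr.node Tr.leaf 152599 5
 Tr.leaf) 152605 6
 Tr.leaf)) 152611 6
 (Tr.node (Tr.node (Tr.node Tr.leaf 152619 6
 Tr.leaf) 152629 6
 Tr.leaf) 152637 6
 (Tr.node Tr.leaf 152655 6
 Tr.leaf))) 152657 7
 (Tr.node (Tr.node (Tr.node (Tr.node Tr.leaf 152677 7
 Tr.leaf) 152679 6
 Tr.leaf) 152689 6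
 (Tr.node (Tr.node Tr.leaf 152691 7
 Tr.leaf) 152697 7
 Tr.leaf)) 152699 7
 (Tr.node (Tr.node (Tr.node Tr.leaf 152711 5
 Tr.leaf) 152729 7
 Tr.leaf) 152741 7
 (Tr.node Tr.leaf 152749 7
 Tr.leaf))))))) 152761 6
 (Tr.node (Tr.node (Tr.node (Tr.node (Tr.node (Tr.node (Tr.node (Tr.node Tr.leaf 152789 7
 Tr.leaf) 152791 8
 Tr.leaf) 152797 7
 (Tr.node (Tr.node Tr.leaf 152809 7
 Tr.leaf) 152823 7
 Tr.leaf)) 152829 7
 (Tr.node (Tr.node (Tr.node Tr.leaf 152835 6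
 Tr.leaf) 152843 6
 Tr.leaf) 152853 7
 (Tr.node (Tr.node Tr.leaf 152863 6
 Tr.leaf) 152885 7
 Tr.leaf))) 152893 6
 (Tr.node (Tr.node (Tr.node (Tr.node Tr.leaf 152901 6
 Tr.leaf) 152909 7
 Tr.leaf) 152911 7
 (Tr.node (Tr.node Tr.leaf 152923 6
 Tr.leaf) 152935 7
 Tr.leaf)) 152941 6
 (Tr.node (Tr.node (Tr.node Tr.leaf 152943 6
 Tr.leaf) 152945 7
 Tr.leaf) 152947 7
 (Tr.node Tr.leaf 152955 7
 Tr.leaf)))) 152965 7
 (Tr.node (Tr.node (Tr.node (Tr.node (Tr.node Tr.leaf 152973 7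
 Tr.leaf) 152977 7
 Tr.leaf) 152979 7
 (Tr.node (Tr.node Tr.leaf 152985 6
 Tr.leaf) 152999 7
 Tr.leaf)) 153005 6
 (Tr.node (Tr.node (Tr.node Tr.leaf 153009 6
 Tr.leaf) 153019 6
 Tr.leaf) 153025 7
 (Tr.node (Tr.node Tr.leaf 153027 7
 Tr.leaf) 153045 8
 Tr.leaf))) 153057 7
 (Tr.node (Tr.node (Tr.node (Tr.node Tr.leaf 153059 7
 Tr.leaf) 153065 7
 Tr.leaf) 153067 6
 (Tr.node (Tr.node Tr.leaf 153085 8
 Tr.leaf) 153087 7
 Tr.leaf)) 153601 6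
 (Tr.node (Tr.node (Tr.node Tr.leaf 153606 6
 Tr.leaf) 153610 6
 Tr.leaf) 153614 7
 (Tr.node Tr.leaf 153619 7
 Tr.leaf))))) 153627 6
 (Tr.node (Tr.node (Tr.node (Tr.node (Tr.node (Tr.node Tr.leaf 153631 7
 Tr.leaf) 153634 6
 Tr.leaf) 153637 6
 (Tr.node (Tr.node Tr.leaf 153638 7
 Tr.leaf) 153641 6
 Tr.leaf)) 153642 7
 (Tr.node (Tr.node (Tr.node Tr.leaf 153659 7
 Tr.leaf) 153663 7
 Tr.leaf) 153671 7
 (Tr.node (Tr.node Tr.leaf 153679 6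
 Tr.leaf) 153682 6
 Tr.leaf))) 153685 7
 (Tr.node (Tr.node (Tr.node (Tr.node Tr.leaf 153686 6
 Tr.leaf) 153693 7
 Tr.leaf) 153703 7
 (Tr.node (Tr.node Tr.leaf 153714 6
 Tr.leaf) 153717 7
 Tr.leaf)) 153725 7
 (Tr.node (Tr.node (Tr.node Tr.leaf 153726 6
 Tr.leaf) 153731 7
 Tr.leaf) 153735 7
 (Tr.node Tr.leaf 153739 6
 Tr.leaf)))) 153743 7
 (Tr.node (Tr.node (Tr.node (Tr.node (Tr.node Tr.leaf 153749 6
 Tr.leaf) 153753 7
 Tr.leaf) 153758 6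
 (Tr.node (Tr.node Tr.leaf 153763 6
 Tr.leaf) 153778 7
 Tr.leaf)) 153782 7
 (Tr.node (Tr.node (Tr.node Tr.leaf 153785 6
 Tr.leaf) 153786 7
 Tr.leaf) 153789 7
 (Tr.node Tr.leaf 153790 6
 Tr.leaf))) 153794 6
 (Tr.node (Tr.node (Tr.node (Tr.node Tr.leaf 153797 7
 Tr.leaf) 153801 7
 Tr.leaf) 153802 7
 (Tr.node (Tr.node Tr.leaf 153811 7
 Tr.leaf) 153815 7
 Tr.leaf)) 153825 6
 (Tr.node (Tr.node (Tr.node Tr.leaf 153834 7
 Tr.leaf) 153837 7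
 Tr.leaf) 153843 8
 (Tr.node Tr.leaf 153851 7
 Tr.leaf)))))) 153857 6
 (Tr.node (Tr.node (Tr.node (Tr.node (Tr.node (Tr.node (Tr.node Tr.leaf 153858 6
 Tr.leaf) 153870 6
 Tr.leaf) 153883 7
 (Tr.node (Tr.node Tr.leaf 153893 6
 Tr.leaf) 153894 6
 Tr.leaf)) 153897 6
 (Tr.node (Tr.node (Tr.node Tr.leaf 153898 6
 Tr.leaf) 153902 6
 Tr.leaf) 153911 6
 (Tr.node (Tr.node Tr.leaf 153915 7
 Tr.leaf) 153919 7
 Tr.leaf))) 153923 7
 (Tr.node (Tr.node (Tr.node (Tr.node Tr.leaf 153927 6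
 Tr.leaf) 153931 6
 Tr.leaf) 153938 6
 (Tr.node (Tr.node Tr.leaf 153945 7
 Tr.leaf) 153946 7
 Tr.leaf)) 153949 6
 (Tr.node (Tr.node (Tr.node Tr.leaf 153950 6
 Tr.leaf) 153967 6
 Tr.leaf) 153974 7
 (Tr.node Tr.leaf 153978 6
 Tr.leaf)))) 153981 6
 (Tr.node (Tr.node (Tr.node (Tr.node (Tr.node Tr.leaf 153982 5
 Tr.leaf) 153987 6
 Tr.leaf) 153995 6
 (Tr.node (Tr.node Tr.leaf 153999 5
 Tr.leaf) 154002 6
 Tr.leaf)) 154005 7
 (Tr.node (Tr.node (Tr.node Tr.leaf 154013 6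
 Tr.leaf) 154023 6
 Tr.leaf) 154033 6
 (Tr.node Tr.leaf 154034 6
 Tr.leaf))) 154037 7
 (Tr.node (Tr.node (Tr.node (Tr.node Tr.leaf 154045 6
 Tr.leaf) 154053 7
 Tr.leaf) 154057 7
 (Tr.node (Tr.node Tr.leaf 154058 7
 Tr.leaf) 154061 5
 Tr.leaf)) 154067 7
 (Tr.node (Tr.node (Tr.node Tr.leaf 154075 7
 Tr.leaf) 154079 8
 Tr.leaf) 154094 6
 (Tr.node Tr.leaf 154111 7
 Tr.leaf))))) 154641 7
 (Tr.node (Tr.node (Tr.node (Tr.node (Tr.node (Tr.node Tr.leaf 154643 6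
 Tr.leaf) 154645 7
 Tr.leaf) 154647 7
 (Tr.node (Tr.node Tr.leaf 154673 7
 Tr.leaf) 154677 7
 Tr.leaf)) 154679 6
 (Tr.node (Tr.node (Tr.node Tr.leaf 154683 6
 Tr.leaf) 154693 7
 Tr.leaf) 154697 6
 (Tr.node (Tr.node Tr.leaf 154699 5
 Tr.leaf) 154703 6
 Tr.leaf))) 154721 7
 (Tr.node (Tr.node (Tr.node (Tr.node Tr.leaf 154723 6
 Tr.leaf) 154725 7
 Tr.leaf) 154727 6
 (Tr.node (Tr.node Tr.leaf 154733 7
 Tr.leaf) 154735 7
 Tr.leaf)) 154759 6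
 (Tr.node (Tr.node (Tr.node Tr.leaf 154767 7
 Tr.leaf) 154789 7
 Tr.leaf) 154793 6
 (Tr.node Tr.leaf 154797 6
 Tr.leaf)))) 154837 8
 (Tr.node (Tr.node (Tr.node (Tr.node (Tr.node Tr.leaf 154839 7
 Tr.leaf) 154871 7
 Tr.leaf) 154879 8
 (Tr.node (Tr.node Tr.leaf 154897 7
 Tr.leaf) 154899 6
 Tr.leaf)) 154901 6
 (Tr.node (Tr.node (Tr.node Tr.leaf 154909 6
 Tr.leaf) 154931 6
 Tr.leaf) 154933 7
 (Tr.node Tr.leaf 154937 6
 Tr.leaf))) 154939 7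
 (Tr.node (Tr.node (Tr.node (Tr.node Tr.leaf 154941 7
 Tr.leaf) 154951 6
 Tr.leaf) 154953 7
 (Tr.node (Tr.node Tr.leaf 154955 7
 Tr.leaf) 154957 7
 Tr.leaf)) 154959 7
 (Tr.node (Tr.node (Tr.node Tr.leaf 154985 7
 Tr.leaf) 154989 6
 Tr.leaf) 155009 7
 (Tr.node Tr.leaf 155011 6
 Tr.leaf))))))))

/-- A subtree. -/
def tr1_s38 : Tr := (Tr.node (Tr.node (Tr.node (Tr.node (Tr.node (Tr.node (Tr.node (Tr.node (Tr.node Tr.leaf 155015 7
 Tr.leaf) 155017 7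
 Tr.leaf) 155041 6
 (Tr.node (Tr.node Tr.leaf 155043 7
 Tr.leaf) 155045 6
 Tr.leaf)) 155047 7
 (Tr.node (Tr.node (Tr.node Tr.leaf 155051 7
 Tr.leaf) 155053 7
 Tr.leaf) 155055 7
 (Tr.node (Tr.node Tr.leaf 155089 8
 Tr.leaf) 155101 7
 Tr.leaf))) 155103 7
 (Tr.node (Tr.node (Tr.node (Tr.node Tr.leaf 155121 8
 Tr.leaf) 155125 7
 Tr.leaf) 155129 6
 (Tr.node (Tr.node Tr.leaf 155131 8
 Tr.leaf) 155133 7
 Tr.leaf)) 155135 8
 (Tr.node (Tr.node (Tr.node Tr.leaf 155651 6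
 Tr.leaf) 155653 7
 Tr.leaf) 155654 5
 (Tr.node Tr.leaf 155658 5
 Tr.leaf)))) 155660 5
 (Tr.node (Tr.node (Tr.node (Tr.node (Tr.node Tr.leaf 155663 5
 Tr.leaf) 155667 6
 Tr.leaf) 155673 7
 (Tr.node (Tr.node Tr.leaf 155674 7
 Tr.leaf) 155689 7
 Tr.leaf)) 155690 7
 (Tr.node (Tr.node (Tr.node Tr.leaf 155692 5
 Tr.leaf) 155695 7
 Tr.leaf) 155701 7
 (Tr.node (Tr.node Tr.leaf 155702 5
 Tr.leaf) 155716 5
 Tr.leaf))) 155719 5
 (Tr.node (Tr.node (Tr.node (Tr.node Tr.leaf 155720 4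
 Tr.leaf) 155723 5
 Tr.leaf) 155725 5
 (Tr.node (Tr.node Tr.leaf 155730 6
 Tr.leaf) 155736 6
 Tr.leaf)) 155742 6
 (Tr.node (Tr.node (Tr.node Tr.leaf 155755 6
 Tr.leaf) 155761 6
 Tr.leaf) 155762 6
 (Tr.node Tr.leaf 155764 7
 Tr.leaf))))) 155774 6
 (Tr.node (Tr.node (Tr.node (Tr.node (Tr.node (Tr.node Tr.leaf 155777 6
 Tr.leaf) 155778 6
 Tr.leaf) 155780 6
 (Tr.node (Tr.node Tr.leaf 155787 6
 Tr.leaf) 155789 7
 Tr.leaf)) 155793 5
 (Tr.node (Tr.node (Tr.node Tr.leaf 155799 6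
 Tr.leaf) 155800 6
 Tr.leaf) 155803 7
 (Tr.node (Tr.node Tr.leaf 155806 5
 Tr.leaf) 155815 6
 Tr.leaf))) 155819 6
 (Tr.node (Tr.node (Tr.node (Tr.node Tr.leaf 155821 6
 Tr.leaf) 155822 5
 Tr.leaf) 155825 5
 (Tr.node (Tr.node Tr.leaf 155826 6
 Tr.leaf) 155828 6
 Tr.leaf)) 155838 5
 (Tr.node (Tr.node (Tr.node Tr.leaf 155843 7
 Tr.leaf) 155849 6
 Tr.leaf) 155850 6
 (Tr.node Tr.leaf 155852 7
 Tr.leaf)))) 155855 8
 (Tr.node (Tr.node (Tr.node (Tr.node (Tr.node Tr.leaf 155862 5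
 Tr.leaf) 155868 5
 Tr.leaf) 155871 6
 (Tr.node (Tr.node Tr.leaf 155878 5
 Tr.leaf) 155881 6
 Tr.leaf)) 155882 5
 (Tr.node (Tr.node (Tr.node Tr.leaf 155884 5
 Tr.leaf) 155887 6
 Tr.leaf) 155893 7
 (Tr.node Tr.leaf 155897 6
 Tr.leaf))) 155898 5
 (Tr.node (Tr.node (Tr.node (Tr.node Tr.leaf 155900 5
 Tr.leaf) 155903 6
 Tr.leaf) 155909 7
 (Tr.node (Tr.node Tr.leaf 155910 5
 Tr.leaf) 155913 6
 Tr.leaf)) 155914 7
 (Tr.node (Tr.node (Tr.node Tr.leaf 155916 6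
 Tr.leaf) 155919 7
 Tr.leaf) 155925 7
 (Tr.node Tr.leaf 155932 5
 Tr.leaf)))))) 155941 6
 (Tr.node (Tr.node (Tr.node (Tr.node (Tr.node (Tr.node (Tr.node Tr.leaf 155945 7
 Tr.leaf) 155948 6
 Tr.leaf) 155951 7
 (Tr.node (Tr.node Tr.leaf 155958 4
 Tr.leaf) 155961 7
 Tr.leaf)) 155962 5
 (Tr.node (Tr.node (Tr.node Tr.leaf 155964 5
 Tr.leaf) 155967 5
 Tr.leaf) 155979 6
 (Tr.node (Tr.node Tr.leaf 155981 7
 Tr.leaf) 155982 6
 Tr.leaf))) 155988 7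
 (Tr.node (Tr.node (Tr.node (Tr.node Tr.leaf 155991 6
 Tr.leaf) 155997 7
 Tr.leaf) 156004 7
 (Tr.node (Tr.node Tr.leaf 156007 6
 Tr.leaf) 156008 6
 Tr.leaf)) 156013 7
 (Tr.node (Tr.node (Tr.node Tr.leaf 156014 6
 Tr.leaf) 156017 6
 Tr.leaf) 156020 5
 (Tr.node Tr.leaf 156023 5
 Tr.leaf)))) 156024 5
 (Tr.node (Tr.node (Tr.node (Tr.node (Tr.node Tr.leaf 156027 5
 Tr.leaf) 156029 5
 Tr.leaf) 156033 5
 (Tr.node (Tr.node Tr.leaf 156039 7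
 Tr.leaf) 156040 6
 Tr.leaf)) 156045 7
 (Tr.node (Tr.node (Tr.node Tr.leaf 156046 5
 Tr.leaf) 156055 6
 Tr.leaf) 156061 6
 (Tr.node (Tr.node Tr.leaf 156062 5
 Tr.leaf) 156065 5
 Tr.leaf))) 156066 6
 (Tr.node (Tr.node (Tr.node (Tr.node Tr.leaf 156068 7
 Tr.leaf) 156071 7
 Tr.leaf) 156077 7
 (Tr.node (Tr.node Tr.leaf 156078 5
 Tr.leaf) 156081 6
 Tr.leaf)) 156087 6
 (Tr.node (Tr.node (Tr.node Tr.leaf 156088 7
 Tr.leaf) 156093 7
 Tr.leaf) 156094 7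
 (Tr.node Tr.leaf 156099 6
 Tr.leaf))))) 156105 7
 (Tr.node (Tr.node (Tr.node (Tr.node (Tr.node (Tr.node Tr.leaf 156106 5
 Tr.leaf) 156108 5
 Tr.leaf) 156117 6
 (Tr.node (Tr.node Tr.leaf 156118 5
 Tr.leaf) 156121 6
 Tr.leaf)) 156122 5
 (Tr.node (Tr.node (Tr.node Tr.leaf 156124 5
 Tr.leaf) 156127 6
 Tr.leaf) 156131 6
 (Tr.node (Tr.node Tr.leaf 156134 5
 Tr.leaf) 156137 7
 Tr.leaf))) 156140 5
 (Tr.node (Tr.node (Tr.node (Tr.node Tr.leaf 156147 7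
 Tr.leaf) 156149 6
 Tr.leaf) 156150 6
 (Tr.node (Tr.node Tr.leaf 156159 8
 Tr.leaf) 156701 7
 Tr.leaf)) 156703 7
 (Tr.node (Tr.node (Tr.node Tr.leaf 156705 6
 Tr.leaf) 156719 6
 Tr.leaf) 156721 6
 (Tr.node Tr.leaf 156733 7
 Tr.leaf)))) 156735 6
 (Tr.node (Tr.node (Tr.node (Tr.node (Tr.node Tr.leaf 156741 7
 Tr.leaf) 156743 6
 Tr.leaf) 156745 7
 (Tr.node (Tr.node Tr.leaf 156747 6
 Tr.leaf) 156757 7
 Tr.leaf)) 156763 5
 (Tr.node (Tr.node (Tr.node Tr.leaf 156775 7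
 Tr.leaf) 156777 6
 Tr.leaf) 156779 6
 (Tr.node Tr.leaf 156791 7
 Tr.leaf))) 156805 7
 (Tr.node (Tr.node (Tr.node (Tr.node Tr.leaf 156809 7
 Tr.leaf) 156821 7
 Tr.leaf) 156823 7
 (Tr.node (Tr.node Tr.leaf 156825 7
 Tr.leaf) 156827 6
 Tr.leaf)) 156843 7
 (Tr.node (Tr.node (Tr.node Tr.leaf 156853 7
 Tr.leaf) 156857 7
 Tr.leaf) 156859 7
 (Tr.node Tr.leaf 156865 7
 Tr.leaf))))))) 156883 6
 (Tr.node (Tr.node (Tr.node (Tr.node (Tr.node (Tr.node (Tr.node (Tr.node Tr.leaf 156899 6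
 Tr.leaf) 156911 7
 Tr.leaf) 156915 7
 (Tr.node (Tr.node Tr.leaf 156925 8
 Tr.leaf) 156929 6
 Tr.leaf)) 156945 6
 (Tr.node (Tr.node (Tr.node Tr.leaf 156957 6
 Tr.leaf) 156963 6
 Tr.leaf) 156973 6
 (Tr.node (Tr.node Tr.leaf 156975 7
 Tr.leaf) 156979 6
 Tr.leaf))) 156989 7
 (Tr.node (Tr.node (Tr.node (Tr.node Tr.leaf 156997 7
 Tr.leaf) 156999 7
 Tr.leaf) 157001 6
 (Tr.node (Tr.node Tr.leaf 157003 6
 Tr.leaf) 157015 7
 Tr.leaf)) 157019 6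
 (Tr.node (Tr.node (Tr.node Tr.leaf 157029 6
 Tr.leaf) 157033 5
 Tr.leaf) 157061 7
 (Tr.node Tr.leaf 157063 7
 Tr.leaf)))) 157065 7
 (Tr.node (Tr.node (Tr.node (Tr.node (Tr.node Tr.leaf 157081 7
 Tr.leaf) 157083 7
 Tr.leaf) 157099 7
 (Tr.node (Tr.node Tr.leaf 157109 7
 Tr.leaf) 157111 7
 Tr.leaf)) 157115 7
 (Tr.node (Tr.node (Tr.node Tr.leaf 157121 7
 Tr.leaf) 157123 7
 Tr.leaf) 157135 8
 (Tr.node (Tr.node Tr.leaf 157139 6
 Tr.leaf) 157149 8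
 Tr.leaf))) 157151 7
 (Tr.node (Tr.node (Tr.node (Tr.node Tr.leaf 157153 7
 Tr.leaf) 157165 7
 Tr.leaf) 157701 7
 (Tr.node (Tr.node Tr.leaf 157707 7
 Tr.leaf) 157711 7
 Tr.leaf)) 157713 7
 (Tr.node (Tr.node (Tr.node Tr.leaf 157717 7
 Tr.leaf) 157718 5
 Tr.leaf) 157727 7
 (Tr.node Tr.leaf 157729 7
 Tr.leaf))))) 157730 5
 (Tr.node (Tr.node (Tr.node (Tr.node (Tr.node (Tr.node Tr.leaf 157733 7
 Tr.leaf) 157739 7
 Tr.leaf) 157745 7
 (Tr.node (Tr.node Tr.leaf 157767 6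
 Tr.leaf) 157770 7
 Tr.leaf)) 157773 6
 (Tr.node (Tr.node (Tr.node Tr.leaf 157785 5
 Tr.leaf) 157786 7
 Tr.leaf) 157789 7
 (Tr.node (Tr.node Tr.leaf 157790 7
 Tr.leaf) 157795 6
 Tr.leaf))) 157799 6
 (Tr.node (Tr.node (Tr.node (Tr.node Tr.leaf 157801 6
 Tr.leaf) 157802 7
 Tr.leaf) 157806 6
 (Tr.node (Tr.node Tr.leaf 157811 7
 Tr.leaf) 157821 7
 Tr.leaf)) 157822 6
 (Tr.node (Tr.node (Tr.node Tr.leaf 157831 6
 Tr.leaf) 157838 6
 Tr.leaf) 157843 7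
 (Tr.node Tr.leaf 157847 7
 Tr.leaf)))) 157849 7
 (Tr.node (Tr.node (Tr.node (Tr.node (Tr.node Tr.leaf 157850 7
 Tr.leaf) 157854 6
 Tr.leaf) 157859 7
 (Tr.node (Tr.node Tr.leaf 157863 6
 Tr.leaf) 157869 6
 Tr.leaf)) 157881 6
 (Tr.node (Tr.node (Tr.node Tr.leaf 157886 6
 Tr.leaf) 157893 6
 Tr.leaf) 157894 6
 (Tr.node Tr.leaf 157906 6
 Tr.leaf))) 157909 6
 (Tr.node (Tr.node (Tr.node (Tr.node Tr.leaf 157910 7
 Tr.leaf) 157919 7
 Tr.leaf) 157925 5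
 (Tr.node (Tr.node Tr.leaf 157926 6
 Tr.leaf) 157931 7
 Tr.leaf)) 157935 7
 (Tr.node (Tr.node (Tr.node Tr.leaf 157937 6
 Tr.leaf) 157942 6
 Tr.leaf) 157951 8
 (Tr.node Tr.leaf 157953 7
 Tr.leaf)))))) 157967 7
 (Tr.node (Tr.node (Tr.node (Tr.node (Tr.node (Tr.node (Tr.node Tr.leaf 157973 7
 Tr.leaf) 157974 6
 Tr.leaf) 157986 6
 (Tr.node (Tr.node Tr.leaf 157989 7
 Tr.leaf) 157995 7
 Tr.leaf)) 157999 7
 (Tr.node (Tr.node (Tr.node Tr.leaf 158001 7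
 Tr.leaf) 158005 7
 Tr.leaf) 158019 6
 (Tr.node (Tr.node Tr.leaf 158023 6
 Tr.leaf) 158026 6
 Tr.leaf))) 158039 5
 (Tr.node (Tr.node (Tr.node (Tr.node Tr.leaf 158042 6
 Tr.leaf) 158045 7
 Tr.leaf) 158051 7
 (Tr.node (Tr.node Tr.leaf 158061 5
 Tr.leaf) 158067 7
 Tr.leaf)) 158071 7
 (Tr.node (Tr.node (Tr.node Tr.leaf 158073 7
 Tr.leaf) 158074 7
 Tr.leaf) 158077 6
 (Tr.node Tr.leaf 158087 6
 Tr.leaf)))) 158089 6
 (Tr.node (Tr.node (Tr.node (Tr.node (Tr.node Tr.leaf 158090 6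
 Tr.leaf) 158093 7
 Tr.leaf) 158094 7
 (Tr.node (Tr.node Tr.leaf 158099 6
 Tr.leaf) 158103 7
 Tr.leaf)) 158109 6
 (Tr.node (Tr.node (Tr.node Tr.leaf 158122 6
 Tr.leaf) 158125 7
 Tr.leaf) 158131 7
 (Tr.node Tr.leaf 158135 7
 Tr.leaf))) 158137 7
 (Tr.node (Tr.node (Tr.node (Tr.node Tr.leaf 158138 5
 Tr.leaf) 158141 6
 Tr.leaf) 158146 6
 (Tr.node (Tr.node Tr.leaf 158149 7
 Tr.leaf) 158150 7
 Tr.leaf)) 158155 7
 (Tr.node (Tr.node (Tr.node Tr.leaf 158159 7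
 Tr.leaf) 158162 6
 Tr.leaf) 158175 8
 (Tr.node Tr.leaf 158177 7
 Tr.leaf))))) 158181 6
 (Tr.node (Tr.node (Tr.node (Tr.node (Tr.node (Tr.node Tr.leaf 158182 6
 Tr.leaf) 158191 8
 Tr.leaf) 158193 7
 (Tr.node (Tr.node Tr.leaf 158197 6
 Tr.leaf) 158198 7
 Tr.leaf)) 158207 8
 (Tr.node (Tr.node (Tr.node Tr.leaf 158733 6
 Tr.leaf) 158745 7
 Tr.leaf) 158747 5
 (Tr.node (Tr.node Tr.leaf 158749 7
 Tr.leaf) 158751 6
 Tr.leaf))) 158765 6
 (Tr.node (Tr.node (Tr.node (Tr.node Tr.leaf 158777 6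
 Tr.leaf) 158781 7
 Tr.leaf) 158785 6
 (Tr.node (Tr.node Tr.leaf 158787 6
 Tr.leaf) 158789 7
 Tr.leaf)) 158803 5
 (Tr.node (Tr.node (Tr.node Tr.leaf 158805 7
 Tr.leaf) 158807 6
 Tr.leaf) 158823 6
 (Tr.node Tr.leaf 158835 7
 Tr.leaf)))) 158839 6
 (Tr.node (Tr.node (Tr.node (Tr.node (Tr.node Tr.leaf 158865 7
 Tr.leaf) 158867 7
 Tr.leaf) 158869 7
 (Tr.node (Tr.node Tr.leaf 158881 6
 Tr.leaf) 158883 6
 Tr.leaf)) 158899 7
 (Tr.node (Tr.node (Tr.node Tr.leaf 158925 8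
 Tr.leaf) 158939 7
 Tr.leaf) 158943 7
 (Tr.node Tr.leaf 158955 7
 Tr.leaf))) 158957 7
 (Tr.node (Tr.node (Tr.node (Tr.node Tr.leaf 158959 8
 Tr.leaf) 158973 7
 Tr.leaf) 158985 6
 (Tr.node (Tr.node Tr.leaf 158991 6
 Tr.leaf) 159001 7
 Tr.leaf)) 159005 7
 (Tr.node (Tr.node (Tr.node Tr.leaf 159007 6
 Tr.leaf) 159017 7
 Tr.leaf) 159021 5
 (Tr.node Tr.leaf 159033 7
 Tr.leaf))))))))

/-- A subtree. -/
def tr1_s39 : Tr := (Tr.node (Tr.node (Tr.node (Tr.node (Tr.node (Tr.node (Tr.node (Tr.node (Tr.node Tr.leaf 159041 6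
 Tr.leaf) 159043 7
 Tr.leaf) 159047 7
 (Tr.node (Tr.node Tr.leaf 159059 7
 Tr.leaf) 159077 5
 Tr.leaf)) 159093 7
 (Tr.node (Tr.node (Tr.node Tr.leaf 159105 7
 Tr.leaf) 159107 7
 Tr.leaf) 159109 7
 (Tr.node (Tr.node Tr.leaf 159111 7
 Tr.leaf) 159125 6
 Tr.leaf))) 159127 6
 (Tr.node (Tr.node (Tr.node (Tr.node Tr.leaf 159143 7
 Tr.leaf) 159153 7
 Tr.leaf) 159155 7
 (Tr.node (Tr.node Tr.leaf 159159 7
 Tr.leaf) 159177 7
 Tr.leaf)) 159195 7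
 (Tr.node (Tr.node (Tr.node Tr.leaf 159197 7
 Tr.leaf) 159199 7
 Tr.leaf) 159213 7
 (Tr.node Tr.leaf 159215 7
 Tr.leaf)))) 159227 7
 (Tr.node (Tr.node (Tr.node (Tr.node (Tr.node Tr.leaf 159229 7
 Tr.leaf) 159231 8
 Tr.leaf) 159745 7
 (Tr.node (Tr.node Tr.leaf 159751 6
 Tr.leaf) 159753 7
 Tr.leaf)) 159754 7
 (Tr.node (Tr.node (Tr.node Tr.leaf 159756 6
 Tr.leaf) 159759 7
 Tr.leaf) 159762 6
 (Tr.node (Tr.node Tr.leaf 159764 6
 Tr.leaf) 159767 7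
 Tr.leaf))) 159769 7
 (Tr.node (Tr.node (Tr.node (Tr.node Tr.leaf 159772 5
 Tr.leaf) 159777 7
 Tr.leaf) 159778 6
 (Tr.node (Tr.node Tr.leaf 159783 7
 Tr.leaf) 159788 6
 Tr.leaf)) 159793 7
 (Tr.node (Tr.node (Tr.node Tr.leaf 159794 7
 Tr.leaf) 159796 6
 Tr.leaf) 159799 7
 (Tr.node Tr.leaf 159801 7
 Tr.leaf))))) 159802 6
 (Tr.node (Tr.node (Tr.node (Tr.node (Tr.node (Tr.node Tr.leaf 159804 5
 Tr.leaf) 159807 5
 Tr.leaf) 159811 7
 (Tr.node (Tr.node Tr.leaf 159819 7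
 Tr.leaf) 159822 7
 Tr.leaf)) 159830 6
 (Tr.node (Tr.node (Tr.node Tr.leaf 159835 7
 Tr.leaf) 159843 6
 Tr.leaf) 159854 6
 (Tr.node (Tr.node Tr.leaf 159861 7
 Tr.leaf) 159862 7
 Tr.leaf))) 159870 7
 (Tr.node (Tr.node (Tr.node (Tr.node Tr.leaf 159875 6
 Tr.leaf) 159877 6
 Tr.leaf) 159878 6
 (Tr.node (Tr.node Tr.leaf 159883 7
 Tr.leaf) 159885 7
 Tr.leaf)) 159894 5
 (Tr.node (Tr.node (Tr.node Tr.leaf 159899 6
 Tr.leaf) 159901 6
 Tr.leaf) 159909 6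
 (Tr.node Tr.leaf 159910 6
 Tr.leaf)))) 159923 6
 (Tr.node (Tr.node (Tr.node (Tr.node (Tr.node Tr.leaf 159933 7
 Tr.leaf) 159937 7
 Tr.leaf) 159938 7
 (Tr.node (Tr.node Tr.leaf 159943 8
 Tr.leaf) 159945 7
 Tr.leaf)) 159948 6
 (Tr.node (Tr.node (Tr.node Tr.leaf 159954 6
 Tr.leaf) 159956 6
 Tr.leaf) 159959 8
 (Tr.node Tr.leaf 159969 7
 Tr.leaf))) 159975 8
 (Tr.node (Tr.node (Tr.node (Tr.node Tr.leaf 159977 6
 Tr.leaf) 159978 6
 Tr.leaf) 159985 7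
 (Tr.node (Tr.node Tr.leaf 159986 7
 Tr.leaf) 159988 6
 Tr.leaf)) 159991 7
 (Tr.node (Tr.node (Tr.node Tr.leaf 159993 7
 Tr.leaf) 159994 6
 Tr.leaf) 159996 7
 (Tr.node Tr.leaf 160001 7
 Tr.leaf)))))) 160002 6
 (Tr.node (Tr.node (Tr.node (Tr.node (Tr.node (Tr.node (Tr.node Tr.leaf 160004 5
 Tr.leaf) 160007 5
 Tr.leaf) 160017 7
 (Tr.node (Tr.node Tr.leaf 160018 6
 Tr.leaf) 160025 7
 Tr.leaf)) 160026 6
 (Tr.node (Tr.node (Tr.node Tr.leaf 160028 6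
 Tr.leaf) 160031 6
 Tr.leaf) 160034 7
 (Tr.node (Tr.node Tr.leaf 160036 6
 Tr.leaf) 160041 7
 Tr.leaf))) 160042 6
 (Tr.node (Tr.node (Tr.node (Tr.node Tr.leaf 160049 7
 Tr.leaf) 160055 6
 Tr.leaf) 160058 6
 (Tr.node (Tr.node Tr.leaf 160060 6
 Tr.leaf) 160069 7
 Tr.leaf)) 160075 7
 (Tr.node (Tr.node (Tr.node Tr.leaf 160077 7
 Tr.leaf) 160083 6
 Tr.leaf) 160086 6
 (Tr.node Tr.leaf 160091 5
 Tr.leaf)))) 160093 7
 (Tr.node (Tr.node (Tr.node (Tr.node (Tr.node Tr.leaf 160094 7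
 Tr.leaf) 160099 6
 Tr.leaf) 160101 7
 (Tr.node (Tr.node Tr.leaf 160107 6
 Tr.leaf) 160110 5
 Tr.leaf)) 160115 6
 (Tr.node (Tr.node (Tr.node Tr.leaf 160117 7
 Tr.leaf) 160125 7
 Tr.leaf) 160126 7
 (Tr.node (Tr.node Tr.leaf 160131 6
 Tr.leaf) 160133 7
 Tr.leaf))) 160134 7
 (Tr.node (Tr.node (Tr.node (Tr.node Tr.leaf 160139 7
 Tr.leaf) 160142 7
 Tr.leaf) 160147 5
 (Tr.node (Tr.node Tr.leaf 160149 6
 Tr.leaf) 160158 6
 Tr.leaf)) 160163 7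
 (Tr.node (Tr.node (Tr.node Tr.leaf 160165 7
 Tr.leaf) 160166 7
 Tr.leaf) 160173 6
 (Tr.node Tr.leaf 160174 6
 Tr.leaf))))) 160179 6
 (Tr.node (Tr.node (Tr.node (Tr.node (Tr.node (Tr.node Tr.leaf 160182 7
 Tr.leaf) 160190 6
 Tr.leaf) 160194 6
 (Tr.node (Tr.node Tr.leaf 160199 8
 Tr.leaf) 160204 6
 Tr.leaf)) 160209 6
 (Tr.node (Tr.node (Tr.node Tr.leaf 160210 6
 Tr.leaf) 160215 7
 Tr.leaf) 160217 7
 (Tr.node (Tr.node Tr.leaf 160223 7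
 Tr.leaf) 160225 6
 Tr.leaf))) 160226 7
 (Tr.node (Tr.node (Tr.node (Tr.node Tr.leaf 160228 7
 Tr.leaf) 160231 7
 Tr.leaf) 160234 5
 (Tr.node (Tr.node Tr.leaf 160236 5
 Tr.leaf) 160239 7
 Tr.leaf)) 160241 6
 (Tr.node (Tr.node (Tr.node Tr.leaf 160242 6
 Tr.leaf) 160244 6
 Tr.leaf) 160781 7
 (Tr.node Tr.leaf 160783 6
 Tr.leaf)))) 160797 6
 (Tr.node (Tr.node (Tr.node (Tr.node (Tr.node Tr.leaf 160799 7
 Tr.leaf) 160807 6
 Tr.leaf) 160813 7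
 (Tr.node (Tr.node Tr.leaf 160831 7
 Tr.leaf) 160833 7
 Tr.leaf)) 160835 7
 (Tr.node (Tr.node (Tr.node Tr.leaf 160841 7
 Tr.leaf) 160849 6
 Tr.leaf) 160857 6
 (Tr.node Tr.leaf 160859 6
 Tr.leaf))) 160875 6
 (Tr.node (Tr.node (Tr.node (Tr.node Tr.leaf 160883 6
 Tr.leaf) 160891 7
 Tr.leaf) 160899 7
 (Tr.node (Tr.node Tr.leaf 160915 6
 Tr.leaf) 160929 6
 Tr.leaf)) 160937 7
 (Tr.node (Tr.node (Tr.node Tr.leaf 160939 7
 Tr.leaf) 160945 5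
 Tr.leaf) 160953 7
 (Tr.node Tr.leaf 160973 8
 Tr.leaf))))))) 160975 7
 (Tr.node (Tr.node (Tr.node (Tr.node (Tr.node (Tr.node (Tr.node (Tr.node Tr.leaf 161007 6
 Tr.leaf) 161023 8
 Tr.leaf) 161031 7
 (Tr.node (Tr.node Tr.leaf 161037 7
 Tr.leaf) 161039 6
 Tr.leaf)) 161045 7
 (Tr.node (Tr.node (Tr.node Tr.leaf 161053 7
 Tr.leaf) 161055 7
 Tr.leaf) 161063 6
 (Tr.node (Tr.node Tr.leaf 161071 6
 Tr.leaf) 161077 7
 Tr.leaf))) 161087 7
 (Tr.node (Tr.node (Tr.node (Tr.node Tr.leaf 161089 7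
 Tr.leaf) 161091 7
 Tr.leaf) 161097 6
 (Tr.node (Tr.node Tr.leaf 161099 7
 Tr.leaf) 161105 7
 Tr.leaf)) 161107 6
 (Tr.node (Tr.node (Tr.node Tr.leaf 161129 6
 Tr.leaf) 161131 7
 Tr.leaf) 161153 7
 (Tr.node Tr.leaf 161155 7
 Tr.leaf)))) 161171 6
 (Tr.node (Tr.node (Tr.node (Tr.node (Tr.node Tr.leaf 161177 6
 Tr.leaf) 161187 7
 Tr.leaf) 161193 7
 (Tr.node (Tr.node Tr.leaf 161195 6
 Tr.leaf) 161201 6
 Tr.leaf)) 161203 7
 (Tr.node (Tr.node (Tr.node Tr.leaf 161209 7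
 Tr.leaf) 161221 8
 Tr.leaf) 161231 7
 (Tr.node (Tr.node Tr.leaf 161237 7
 Tr.leaf) 161239 7
 Tr.leaf))) 161261 7
 (Tr.node (Tr.node (Tr.node (Tr.node Tr.leaf 161263 7
 Tr.leaf) 161271 8
 Tr.leaf) 161277 7
 (Tr.node (Tr.node Tr.leaf 161279 7
 Tr.leaf) 161811 7
 Tr.leaf)) 161815 6
 (Tr.node (Tr.node (Tr.node Tr.leaf 161823 6
 Tr.leaf) 161827 6
 Tr.leaf) 161831 6
 (Tr.node Tr.leaf 161847 7
 Tr.leaf))))) 161851 6
 (Tr.node (Tr.node (Tr.node (Tr.node (Tr.node (Tr.node Tr.leaf 161855 7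
 Tr.leaf) 161861 6
 Tr.leaf) 161862 5
 (Tr.node (Tr.node Tr.leaf 161865 5
 Tr.leaf) 161866 5
 Tr.leaf)) 161869 6
 (Tr.node (Tr.node (Tr.node Tr.leaf 161873 7
 Tr.leaf) 161877 7
 Tr.leaf) 161878 7
 (Tr.node (Tr.node Tr.leaf 161881 6
 Tr.leaf) 161882 6
 Tr.leaf))) 161886 6
 (Tr.node (Tr.node (Tr.node (Tr.node Tr.leaf 161889 6
 Tr.leaf) 161893 6
 Tr.leaf) 161894 7
 (Tr.node (Tr.node Tr.leaf 161897 6
 Tr.leaf) 161901 7
 Tr.leaf)) 161905 7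
 (Tr.node (Tr.node (Tr.node Tr.leaf 161906 6
 Tr.leaf) 161909 6
 Tr.leaf) 161910 7
 (Tr.node Tr.leaf 161914 6
 Tr.leaf)))) 161917 7
 (Tr.node (Tr.node (Tr.node (Tr.node (Tr.node Tr.leaf 161921 7
 Tr.leaf) 161926 6
 Tr.leaf) 161933 7
 (Tr.node (Tr.node Tr.leaf 161934 7
 Tr.leaf) 161941 7
 Tr.leaf)) 161942 7
 (Tr.node (Tr.node (Tr.node Tr.leaf 161945 7
 Tr.leaf) 161946 7
 Tr.leaf) 161949 6
 (Tr.node Tr.leaf 161950 7
 Tr.leaf))) 161958 6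
 (Tr.node (Tr.node (Tr.node (Tr.node Tr.leaf 161961 6
 Tr.leaf) 161965 7
 Tr.leaf) 161966 6
 (Tr.node (Tr.node Tr.leaf 161969 6
 Tr.leaf) 161973 7
 Tr.leaf)) 161974 7
 (Tr.node (Tr.node (Tr.node Tr.leaf 161977 7
 Tr.leaf) 161982 6
 Tr.leaf) 161987 8
 (Tr.node Tr.leaf 161991 8
 Tr.leaf)))))) 162015 8
 (Tr.node (Tr.node (Tr.node (Tr.node (Tr.node (Tr.node (Tr.node Tr.leaf 162019 7
 Tr.leaf) 162023 7
 Tr.leaf) 162027 7
 (Tr.node (Tr.node Tr.leaf 162031 7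
 Tr.leaf) 162035 8
 Tr.leaf)) 162051 6
 (Tr.node (Tr.node (Tr.node Tr.leaf 162055 7
 Tr.leaf) 162067 7
 Tr.leaf) 162071 6
 (Tr.node (Tr.node Tr.leaf 162075 6
 Tr.leaf) 162079 5
 Tr.leaf))) 162087 6
 (Tr.node (Tr.node (Tr.node (Tr.node Tr.leaf 162091 6
 Tr.leaf) 162099 6
 Tr.leaf) 162103 6
 (Tr.node (Tr.node Tr.leaf 162107 5
 Tr.leaf) 162117 6
 Tr.leaf)) 162118 5
 (Tr.node (Tr.node (Tr.node Tr.leaf 162121 6
 Tr.leaf) 162126 6
 Tr.leaf) 162133 6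
 (Tr.node Tr.leaf 162134 7
 Tr.leaf)))) 162141 5
 (Tr.node (Tr.node (Tr.node (Tr.node (Tr.node Tr.leaf 162146 6
 Tr.leaf) 162149 7
 Tr.leaf) 162150 5
 (Tr.node (Tr.node Tr.leaf 162157 6
 Tr.leaf) 162166 5
 Tr.leaf)) 162170 5
 (Tr.node (Tr.node (Tr.node Tr.leaf 162178 6
 Tr.leaf) 162185 7
 Tr.leaf) 162190 7
 (Tr.node Tr.leaf 162193 7
 Tr.leaf))) 162194 6
 (Tr.node (Tr.node (Tr.node (Tr.node Tr.leaf 162201 6
 Tr.leaf) 162202 6
 Tr.leaf) 162217 7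
 (Tr.node (Tr.node Tr.leaf 162225 7
 Tr.leaf) 162230 7
 Tr.leaf)) 162234 5
 (Tr.node (Tr.node (Tr.node Tr.leaf 162237 7
 Tr.leaf) 162238 6
 Tr.leaf) 162243 7
 (Tr.node Tr.leaf 162247 7
 Tr.leaf))))) 162251 7
 (Tr.node (Tr.node (Tr.node (Tr.node (Tr.node (Tr.node Tr.leaf 162255 8
 Tr.leaf) 162259 7
 Tr.leaf) 162263 7
 (Tr.node (Tr.node Tr.leaf 162267 7
 Tr.leaf) 162271 7
 Tr.leaf)) 162275 8
 (Tr.node (Tr.node (Tr.node Tr.leaf 162279 7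
 Tr.leaf) 162283 7
 Tr.leaf) 162287 7
 (Tr.node (Tr.node Tr.leaf 162295 7
 Tr.leaf) 162303 8
 Tr.leaf))) 162817 5
 (Tr.node (Tr.node (Tr.node (Tr.node Tr.leaf 162819 7
 Tr.leaf) 162823 6
 Tr.leaf) 162825 7
 (Tr.node (Tr.node Tr.leaf 162827 6
 Tr.leaf) 162829 7
 Tr.leaf)) 162831 5
 (Tr.node (Tr.node (Tr.node Tr.leaf 162833 6
 Tr.leaf) 162843 7
 Tr.leaf) 162851 6
 (Tr.node Tr.leaf 162853 7
 Tr.leaf)))) 162855 6
 (Tr.node (Tr.node (Tr.node (Tr.node (Tr.node Tr.leaf 162857 7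
 Tr.leaf) 162859 6
 Tr.leaf) 162861 6
 (Tr.node (Tr.node Tr.leaf 162865 6
 Tr.leaf) 162871 6
 Tr.leaf)) 162873 7
 (Tr.node (Tr.node (Tr.node Tr.leaf 162875 7
 Tr.leaf) 162879 7
 Tr.leaf) 163009 8
 (Tr.node Tr.leaf 163017 7
 Tr.leaf))) 163019 8
 (Tr.node (Tr.node (Tr.node (Tr.node Tr.leaf 163025 7
 Tr.leaf) 163033 7
 Tr.leaf) 163035 6
 (Tr.node (Tr.node Tr.leaf 163039 7
 Tr.leaf) 163041 7
 Tr.leaf)) 163043 7
 (Tr.node (Tr.node (Tr.node Tr.leaf 163049 7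
 Tr.leaf) 163051 6
 Tr.leaf) 163053 7
 (Tr.node Tr.leaf 163055 7
 Tr.leaf))))))))

/-- A subtree. -/
def tr1_s40 : Tr := (Tr.node (Tr.node (Tr.node (Tr.node (Tr.node (Tr.node (Tr.node (Tr.node (Tr.node Tr.leaf 163059 7
 Tr.leaf) 163065 7
 Tr.leaf) 163073 7
 (Tr.node (Tr.node Tr.leaf 163075 7
 Tr.leaf) 163079 7
 Tr.leaf)) 163081 6
 (Tr.node (Tr.node (Tr.node Tr.leaf 163085 7
 Tr.leaf) 163091 6
 Tr.leaf) 163099 7
 (Tr.node (Tr.node Tr.leaf 163103 7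
 Tr.leaf) 163107 7
 Tr.leaf))) 163111 7
 (Tr.node (Tr.node (Tr.node (Tr.node Tr.leaf 163113 7
 Tr.leaf) 163117 7
 Tr.leaf) 163121 5
 (Tr.node (Tr.node Tr.leaf 163125 6
 Tr.leaf) 163127 7
 Tr.leaf)) 163131 7
 (Tr.node (Tr.node (Tr.node Tr.leaf 163135 5
 Tr.leaf) 163271 7
 Tr.leaf) 163275 6
 (Tr.node Tr.leaf 163283 7
 Tr.leaf)))) 163287 7
 (Tr.node (Tr.node (Tr.node (Tr.node (Tr.node Tr.leaf 163293 7
 Tr.leaf) 163295 7
 Tr.leaf) 163299 7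
 (Tr.node (Tr.node Tr.leaf 163307 7
 Tr.leaf) 163309 7
 Tr.leaf)) 163311 8
 (Tr.node (Tr.node (Tr.node Tr.leaf 163313 7
 Tr.leaf) 163317 7
 Tr.leaf) 163325 7
 (Tr.node (Tr.node Tr.leaf 163841 4
 Tr.leaf) 163842 4
 Tr.leaf))) 163844 4
 (Tr.node (Tr.node (Tr.node (Tr.node Tr.leaf 163848 4
 Tr.leaf) 163854 6
 Tr.leaf) 163856 4
 (Tr.node (Tr.node Tr.leaf 163859 6
 Tr.leaf) 163865 7
 Tr.leaf)) 163872 4
 (Tr.node (Tr.node (Tr.node Tr.leaf 163878 7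
 Tr.leaf) 163882 5
 Tr.leaf) 163887 7
 (Tr.node Tr.leaf 163890 6
 Tr.leaf))))) 163892 7
 (Tr.node (Tr.node (Tr.node (Tr.node (Tr.node (Tr.node Tr.leaf 163895 6
 Tr.leaf) 163896 6
 Tr.leaf) 163899 6
 (Tr.node (Tr.node Tr.leaf 163902 6
 Tr.leaf) 163905 4
 Tr.leaf)) 163906 4
 (Tr.node (Tr.node (Tr.node Tr.leaf 163908 4
 Tr.leaf) 163911 6
 Tr.leaf) 163912 4
 (Tr.node (Tr.node Tr.leaf 163915 7
 Tr.leaf) 163920 4
 Tr.leaf))) 163925 6
 (Tr.node (Tr.node (Tr.node (Tr.node Tr.leaf 163926 5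
 Tr.leaf) 163930 5
 Tr.leaf) 163935 6
 (Tr.node (Tr.node Tr.leaf 163936 4
 Tr.leaf) 163942 6
 Tr.leaf)) 163953 6
 (Tr.node (Tr.node (Tr.node Tr.leaf 163956 6
 Tr.leaf) 163959 6
 Tr.leaf) 163965 6
 (Tr.node Tr.leaf 163966 6
 Tr.leaf)))) 163977 6
 (Tr.node (Tr.node (Tr.node (Tr.node (Tr.node Tr.leaf 163978 6
 Tr.leaf) 163985 7
 Tr.leaf) 163986 6
 (Tr.node (Tr.node Tr.leaf 163988 6
 Tr.leaf) 163991 6
 Tr.leaf)) 163998 6
 (Tr.node (Tr.node (Tr.node Tr.leaf 164002 6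
 Tr.leaf) 164004 6
 Tr.leaf) 164007 7
 (Tr.node Tr.leaf 164008 6
 Tr.leaf))) 164011 6
 (Tr.node (Tr.node (Tr.node (Tr.node Tr.leaf 164014 7
 Tr.leaf) 164019 6
 Tr.leaf) 164025 6
 (Tr.node (Tr.node Tr.leaf 164026 6
 Tr.leaf) 164028 6
 Tr.leaf)) 164035 6
 (Tr.node (Tr.node (Tr.node Tr.leaf 164037 6
 Tr.leaf) 164041 6
 Tr.leaf) 164044 6
 (Tr.node Tr.leaf 164050 5
 Tr.leaf)))))) 164065 7
 (Tr.node (Tr.node (Tr.node (Tr.node (Tr.node (Tr.node (Tr.node Tr.leaf 164066 7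
 Tr.leaf) 164075 7
 Tr.leaf) 164077 6
 (Tr.node (Tr.node Tr.leaf 164078 6
 Tr.leaf) 164083 7
 Tr.leaf)) 164089 6
 (Tr.node (Tr.node (Tr.node Tr.leaf 164092 5
 Tr.leaf) 164097 4
 Tr.leaf) 164098 3
 (Tr.node (Tr.node Tr.leaf 164100 4
 Tr.leaf) 164104 4
 Tr.leaf))) 164107 6
 (Tr.node (Tr.node (Tr.node (Tr.node Tr.leaf 164109 6
 Tr.leaf) 164110 6
 Tr.leaf) 164112 4
 (Tr.node (Tr.node Tr.leaf 164117 6
 Tr.leaf) 164118 6
 Tr.leaf)) 164122 5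
 (Tr.node (Tr.node (Tr.node Tr.leaf 164128 3
 Tr.leaf) 164131 5
 Tr.leaf) 164133 5
 (Tr.node Tr.leaf 164134 6
 Tr.leaf)))) 164137 5
 (Tr.node (Tr.node (Tr.node (Tr.node (Tr.node Tr.leaf 164138 6
 Tr.leaf) 164140 6
 Tr.leaf) 164148 6
 (Tr.node (Tr.node Tr.leaf 164151 6
 Tr.leaf) 164155 7
 Tr.leaf)) 164161 4
 (Tr.node (Tr.node (Tr.node Tr.leaf 164162 4
 Tr.leaf) 164164 4
 Tr.leaf) 164168 4
 (Tr.node (Tr.node Tr.leaf 164171 7
 Tr.leaf) 164176 4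
 Tr.leaf))) 164185 7
 (Tr.node (Tr.node (Tr.node (Tr.node Tr.leaf 164192 4
 Tr.leaf) 164195 6
 Tr.leaf) 164202 6
 (Tr.node (Tr.node Tr.leaf 164207 7
 Tr.leaf) 164209 6
 Tr.leaf)) 164216 6
 (Tr.node (Tr.node (Tr.node Tr.leaf 164221 6
 Tr.leaf) 164230 6
 Tr.leaf) 164233 6
 (Tr.node Tr.leaf 164234 7
 Tr.leaf))))) 164236 6
 (Tr.node (Tr.node (Tr.node (Tr.node (Tr.node (Tr.node Tr.leaf 164239 6
 Tr.leaf) 164241 6
 Tr.leaf) 164242 5
 (Tr.node (Tr.node Tr.leaf 164244 6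
 Tr.leaf) 164247 7
 Tr.leaf)) 164253 7
 (Tr.node (Tr.node (Tr.node Tr.leaf 164257 6
 Tr.leaf) 164260 6
 Tr.leaf) 164263 6
 (Tr.node (Tr.node Tr.leaf 164267 6
 Tr.leaf) 164270 6
 Tr.leaf))) 164272 5
 (Tr.node (Tr.node (Tr.node (Tr.node Tr.leaf 164275 6
 Tr.leaf) 164278 6
 Tr.leaf) 164281 6
 (Tr.node (Tr.node Tr.leaf 164282 6
 Tr.leaf) 164284 6
 Tr.leaf)) 164287 7
 (Tr.node (Tr.node (Tr.node Tr.leaf 164291 6
 Tr.leaf) 164294 6
 Tr.leaf) 164297 6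
 (Tr.node Tr.leaf 164298 6
 Tr.leaf)))) 164300 7
 (Tr.node (Tr.node (Tr.node (Tr.node (Tr.node Tr.leaf 164305 7
 Tr.leaf) 164308 6
 Tr.leaf) 164311 7
 (Tr.node (Tr.node Tr.leaf 164315 6
 Tr.leaf) 164318 6
 Tr.leaf)) 164321 7
 (Tr.node (Tr.node (Tr.node Tr.leaf 164322 6
 Tr.leaf) 164328 5
 Tr.leaf) 164331 6
 (Tr.node Tr.leaf 164333 6
 Tr.leaf))) 164336 6
 (Tr.node (Tr.node (Tr.node (Tr.node Tr.leaf 164341 6
 Tr.leaf) 164348 6
 Tr.leaf) 164351 7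
 (Tr.node (Tr.node Tr.leaf 164873 7
 Tr.leaf) 164875 7
 Tr.leaf)) 164893 6
 (Tr.node (Tr.node (Tr.node Tr.leaf 164895 6
 Tr.leaf) 164899 6
 Tr.leaf) 164911 7
 (Tr.node Tr.leaf 164917 6
 Tr.leaf))))))) 164921 6
 (Tr.node (Tr.node (Tr.node (Tr.node (Tr.node (Tr.node (Tr.node (Tr.node Tr.leaf 164923 6
 Tr.leaf) 164933 6
 Tr.leaf) 164935 6
 (Tr.node (Tr.node Tr.leaf 164937 7
 Tr.leaf) 164945 6
 Tr.leaf)) 164957 7
 (Tr.node (Tr.node (Tr.node Tr.leaf 164963 6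
 Tr.leaf) 164973 6
 Tr.leaf) 164975 6
 (Tr.node (Tr.node Tr.leaf 164993 6
 Tr.leaf) 165007 7
 Tr.leaf))) 165013 7
 (Tr.node (Tr.node (Tr.node (Tr.node Tr.leaf 165015 5
 Tr.leaf) 165017 7
 Tr.leaf) 165033 7
 (Tr.node (Tr.node Tr.leaf 165035 7
 Tr.leaf) 165043 7
 Tr.leaf)) 165071 7
 (Tr.node (Tr.node (Tr.node Tr.leaf 165081 7
 Tr.leaf) 165093 7
 Tr.leaf) 165095 6
 (Tr.node Tr.leaf 165099 7
 Tr.leaf)))) 165117 8
 (Tr.node (Tr.node (Tr.node (Tr.node (Tr.node Tr.leaf 165119 7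
 Tr.leaf) 165129 7
 Tr.leaf) 165137 6
 (Tr.node (Tr.node Tr.leaf 165151 6
 Tr.leaf) 165173 6
 Tr.leaf)) 165175 6
 (Tr.node (Tr.node (Tr.node Tr.leaf 165177 7
 Tr.leaf) 165179 6
 Tr.leaf) 165195 7
 (Tr.node (Tr.node Tr.leaf 165203 6
 Tr.leaf) 165215 5
 Tr.leaf))) 165229 7
 (Tr.node (Tr.node (Tr.node (Tr.node Tr.leaf 165237 7
 Tr.leaf) 165239 6
 Tr.leaf) 165241 6
 (Tr.node (Tr.node Tr.leaf 165249 6
 Tr.leaf) 165261 7
 Tr.leaf)) 165269 7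
 (Tr.node (Tr.node (Tr.node Tr.leaf 165273 7
 Tr.leaf) 165285 6
 Tr.leaf) 165287 5
 (Tr.node Tr.leaf 165297 6
 Tr.leaf))))) 165299 6
 (Tr.node (Tr.node (Tr.node (Tr.node (Tr.node (Tr.node Tr.leaf 165311 7
 Tr.leaf) 165325 7
 Tr.leaf) 165327 6
 (Tr.node (Tr.node Tr.leaf 165333 6
 Tr.leaf) 165335 6
 Tr.leaf)) 165337 7
 (Tr.node (Tr.node (Tr.node Tr.leaf 165349 7
 Tr.leaf) 165361 7
 Tr.leaf) 165373 8
 (Tr.node (Tr.node Tr.leaf 165375 7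
 Tr.leaf) 165891 6
 Tr.leaf))) 165901 6
 (Tr.node (Tr.node (Tr.node (Tr.node Tr.leaf 165905 6
 Tr.leaf) 165909 6
 Tr.leaf) 165915 6
 (Tr.node (Tr.node Tr.leaf 165919 7
 Tr.leaf) 165922 6
 Tr.leaf)) 165925 6
 (Tr.node (Tr.node (Tr.node Tr.leaf 165931 7
 Tr.leaf) 165935 6
 Tr.leaf) 165939 7
 (Tr.node Tr.leaf 165943 6
 Tr.leaf)))) 165945 7
 (Tr.node (Tr.node (Tr.node (Tr.node (Tr.node Tr.leaf 165946 6
 Tr.leaf) 165949 6
 Tr.leaf) 165950 6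
 (Tr.node (Tr.node Tr.leaf 165961 6
 Tr.leaf) 165962 6
 Tr.leaf)) 165969 6
 (Tr.node (Tr.node (Tr.node Tr.leaf 165970 5
 Tr.leaf) 165974 6
 Tr.leaf) 165983 7
 (Tr.node Tr.leaf 165985 6
 Tr.leaf))) 165990 7
 (Tr.node (Tr.node (Tr.node (Tr.node Tr.leaf 165999 6
 Tr.leaf) 166003 7
 Tr.leaf) 166007 7
 (Tr.node (Tr.node Tr.leaf 166010 6
 Tr.leaf) 166017 6
 Tr.leaf)) 166022 6
 (Tr.node (Tr.node (Tr.node Tr.leaf 166027 7
 Tr.leaf) 166031 6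
 Tr.leaf) 166035 7
 (Tr.node Tr.leaf 166039 6
 Tr.leaf)))))) 166042 6
 (Tr.node (Tr.node (Tr.node (Tr.node (Tr.node (Tr.node (Tr.node Tr.leaf 166045 6
 Tr.leaf) 166046 6
 Tr.leaf) 166051 6
 (Tr.node (Tr.node Tr.leaf 166055 7
 Tr.leaf) 166057 6
 Tr.leaf)) 166061 7
 (Tr.node (Tr.node (Tr.node Tr.leaf 166065 7
 Tr.leaf) 166070 6
 Tr.leaf) 166075 8
 (Tr.node (Tr.node Tr.leaf 166086 6
 Tr.leaf) 166091 7
 Tr.leaf))) 166099 6
 (Tr.node (Tr.node (Tr.node (Tr.node Tr.leaf 166115 7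
 Tr.leaf) 166122 7
 Tr.leaf) 166125 7
 (Tr.node (Tr.node Tr.leaf 166129 7
 Tr.leaf) 166133 7
 Tr.leaf)) 166134 7
 (Tr.node (Tr.node (Tr.node Tr.leaf 166151 6
 Tr.leaf) 166162 5
 Tr.leaf) 166165 6
 (Tr.node Tr.leaf 166166 5
 Tr.leaf)))) 166171 7
 (Tr.node (Tr.node (Tr.node (Tr.node (Tr.node Tr.leaf 166175 7
 Tr.leaf) 166182 7
 Tr.leaf) 166191 6
 (Tr.node (Tr.node Tr.leaf 166199 6
 Tr.leaf) 166205 6
 Tr.leaf)) 166206 6
 (Tr.node (Tr.node (Tr.node Tr.leaf 166211 6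
 Tr.leaf) 166218 7
 Tr.leaf) 166221 6
 (Tr.node (Tr.node Tr.leaf 166225 6
 Tr.leaf) 166229 6
 Tr.leaf))) 166239 6
 (Tr.node (Tr.node (Tr.node (Tr.node Tr.leaf 166242 7
 Tr.leaf) 166245 6
 Tr.leaf) 166246 6
 (Tr.node (Tr.node Tr.leaf 166251 7
 Tr.leaf) 166255 7
 Tr.leaf)) 166265 6
 (Tr.node (Tr.node (Tr.node Tr.leaf 166269 7
 Tr.leaf) 166270 6
 Tr.leaf) 166277 6
 (Tr.node Tr.leaf 166283 6
 Tr.leaf))))) 166287 6
 (Tr.node (Tr.node (Tr.node (Tr.node (Tr.node (Tr.node Tr.leaf 166295 6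
 Tr.leaf) 166297 7
 Tr.leaf) 166301 6
 (Tr.node (Tr.node Tr.leaf 166302 6
 Tr.leaf) 166307 7
 Tr.leaf)) 166311 7
 (Tr.node (Tr.node (Tr.node Tr.leaf 166317 7
 Tr.leaf) 166321 7
 Tr.leaf) 166326 7
 (Tr.node (Tr.node Tr.leaf 166337 6
 Tr.leaf) 166351 7
 Tr.leaf))) 166359 7
 (Tr.node (Tr.node (Tr.node (Tr.node Tr.leaf 166361 7
 Tr.leaf) 166362 6
 Tr.leaf) 166365 7
 (Tr.node (Tr.node Tr.leaf 166366 6
 Tr.leaf) 166375 6
 Tr.leaf)) 166377 7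
 (Tr.node (Tr.node (Tr.node Tr.leaf 166378 7
 Tr.leaf) 166381 6
 Tr.leaf) 166385 7
 (Tr.node Tr.leaf 166386 5
 Tr.leaf)))) 166389 7
 (Tr.node (Tr.node (Tr.node (Tr.node (Tr.node Tr.leaf 166390 7
 Tr.leaf) 166399 8
 Tr.leaf) 166913 6
 (Tr.node (Tr.node Tr.leaf 166915 6
 Tr.leaf) 166937 7
 Tr.leaf)) 166953 7
 (Tr.node (Tr.node (Tr.node Tr.leaf 166955 7
 Tr.leaf) 166957 7
 Tr.leaf) 166959 7
 (Tr.node Tr.leaf 166963 7
 Tr.leaf))) 166965 6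
 (Tr.node (Tr.node (Tr.node (Tr.node Tr.leaf 166967 6
 Tr.leaf) 167003 7
 Tr.leaf) 167005 7
 (Tr.node (Tr.node Tr.leaf 167017 7
 Tr.leaf) 167021 6
 Tr.leaf)) 167029 7
 (Tr.node (Tr.node (Tr.node Tr.leaf 167053 7
 Tr.leaf) 167055 6
 Tr.leaf) 167061 7
 (Tr.node Tr.leaf 167063 7
 Tr.leaf))))))))

/-- A subtree. -/
def tr1_s41 : Tr := (Tr.node (Tr.node (Tr.node (Tr.node (Tr.node (Tr.node (Tr.node (Tr.node (Tr.node Tr.leaf 167103 7
 Tr.leaf) 167113 6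
 Tr.leaf) 167115 7
 (Tr.node (Tr.node Tr.leaf 167117 6
 Tr.leaf) 167121 7
 Tr.leaf)) 167123 7
 (Tr.node (Tr.node (Tr.node Tr.leaf 167127 6
 Tr.leaf) 167137 6
 Tr.leaf) 167139 6
 (Tr.node (Tr.node Tr.leaf 167141 5
 Tr.leaf) 167143 6
 Tr.leaf))) 167161 7
 (Tr.node (Tr.node (Tr.node (Tr.node Tr.leaf 167163 8
 Tr.leaf) 167173 6
 Tr.leaf) 167175 6
 (Tr.node (Tr.node Tr.leaf 167193 7
 Tr.leaf) 167197 7
 Tr.leaf)) 167213 7
 (Tr.node (Tr.node (Tr.node Tr.leaf 167217 7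
 Tr.leaf) 167219 6
 Tr.leaf) 167221 7
 (Tr.node Tr.leaf 167233 6
 Tr.leaf)))) 167235 6
 (Tr.node (Tr.node (Tr.node (Tr.node (Tr.node Tr.leaf 167259 7
 Tr.leaf) 167261 7
 Tr.leaf) 167263 7
 (Tr.node (Tr.node Tr.leaf 167273 7
 Tr.leaf) 167275 7
 Tr.leaf)) 167277 7
 (Tr.node (Tr.node (Tr.node Tr.leaf 167279 7
 Tr.leaf) 167281 6
 Tr.leaf) 167285 7
 (Tr.node (Tr.node Tr.leaf 167307 7
 Tr.leaf) 167315 6
 Tr.leaf))) 167331 5
 (Tr.node (Tr.node (Tr.node (Tr.node Tr.leaf 167335 6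
 Tr.leaf) 167355 7
 Tr.leaf) 167357 8
 (Tr.node (Tr.node Tr.leaf 167371 7
 Tr.leaf) 167375 7
 Tr.leaf)) 167379 7
 (Tr.node (Tr.node (Tr.node Tr.leaf 167381 7
 Tr.leaf) 167383 7
 Tr.leaf) 167395 6
 (Tr.node Tr.leaf 167399 7
 Tr.leaf))))) 167417 8
 (Tr.node (Tr.node (Tr.node (Tr.node (Tr.node (Tr.node Tr.leaf 167939 7
 Tr.leaf) 167947 7
 Tr.leaf) 167956 5
 (Tr.node (Tr.node Tr.leaf 167959 7
 Tr.leaf) 167961 7
 Tr.leaf)) 167967 6
 (Tr.node (Tr.node (Tr.node Tr.leaf 167969 6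
 Tr.leaf) 167970 6
 Tr.leaf) 167972 6
 (Tr.node (Tr.node Tr.leaf 167983 6
 Tr.leaf) 167987 7
 Tr.leaf))) 167990 7
 (Tr.node (Tr.node (Tr.node (Tr.node Tr.leaf 167995 7
 Tr.leaf) 167997 6
 Tr.leaf) 167998 6
 (Tr.node (Tr.node Tr.leaf 168011 7
 Tr.leaf) 168014 6
 Tr.leaf)) 168017 7
 (Tr.node (Tr.node (Tr.node Tr.leaf 168018 5
 Tr.leaf) 168020 5
 Tr.leaf) 168025 7
 (Tr.node Tr.leaf 168026 6
 Tr.leaf)))) 168034 6
 (Tr.node (Tr.node (Tr.node (Tr.node (Tr.node Tr.leaf 168039 7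
 Tr.leaf) 168041 6
 Tr.leaf) 168042 6
 (Tr.node (Tr.node Tr.leaf 168044 6
 Tr.leaf) 168047 7
 Tr.leaf)) 168051 6
 (Tr.node (Tr.node (Tr.node Tr.leaf 168053 6
 Tr.leaf) 168059 7
 Tr.leaf) 168061 6
 (Tr.node Tr.leaf 168068 6
 Tr.leaf))) 168071 6
 (Tr.node (Tr.node (Tr.node (Tr.node Tr.leaf 168073 6
 Tr.leaf) 168074 7
 Tr.leaf) 168076 7
 (Tr.node (Tr.node Tr.leaf 168079 6
 Tr.leaf) 168083 7
 Tr.leaf)) 168085 5
 (Tr.node (Tr.node (Tr.node Tr.leaf 168086 7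
 Tr.leaf) 168102 6
 Tr.leaf) 168109 6
 (Tr.node Tr.leaf 168113 7
 Tr.leaf)))))) 168114 6
 (Tr.node (Tr.node (Tr.node (Tr.node (Tr.node (Tr.node (Tr.node Tr.leaf 168116 7
 Tr.leaf) 168119 7
 Tr.leaf) 168121 6
 (Tr.node (Tr.node Tr.leaf 168122 5
 Tr.leaf) 168124 5
 Tr.leaf)) 168127 7
 (Tr.node (Tr.node (Tr.node Tr.leaf 168130 7
 Tr.leaf) 168132 7
 Tr.leaf) 168135 7
 (Tr.node (Tr.node Tr.leaf 168137 6
 Tr.leaf) 168138 6
 Tr.leaf))) 168147 7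
 (Tr.node (Tr.node (Tr.node (Tr.node Tr.leaf 168155 6
 Tr.leaf) 168157 7
 Tr.leaf) 168166 6
 (Tr.node (Tr.node Tr.leaf 168173 6
 Tr.leaf) 168174 6
 Tr.leaf)) 168177 6
 (Tr.node (Tr.node (Tr.node Tr.leaf 168178 7
 Tr.leaf) 168180 6
 Tr.leaf) 168185 6
 (Tr.node Tr.leaf 168186 7
 Tr.leaf)))) 168197 5
 (Tr.node (Tr.node (Tr.node (Tr.node (Tr.node Tr.leaf 168203 7
 Tr.leaf) 168205 6
 Tr.leaf) 168209 6
 (Tr.node (Tr.node Tr.leaf 168210 6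
 Tr.leaf) 168215 6
 Tr.leaf)) 168217 7
 (Tr.node (Tr.node (Tr.node Tr.leaf 168218 5
 Tr.leaf) 168220 5
 Tr.leaf) 168234 5
 (Tr.node (Tr.node Tr.leaf 168239 7
 Tr.leaf) 168243 7
 Tr.leaf))) 168246 7
 (Tr.node (Tr.node (Tr.node (Tr.node Tr.leaf 168251 6
 Tr.leaf) 168253 6
 Tr.leaf) 168259 7
 (Tr.node (Tr.node Tr.leaf 168270 6
 Tr.leaf) 168273 7
 Tr.leaf)) 168279 6
 (Tr.node (Tr.node (Tr.node Tr.leaf 168284 5
 Tr.leaf) 168289 6
 Tr.leaf) 168290 6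
 (Tr.node Tr.leaf 168292 6
 Tr.leaf))))) 168310 6
 (Tr.node (Tr.node (Tr.node (Tr.node (Tr.node (Tr.node Tr.leaf 168321 6
 Tr.leaf) 168322 6
 Tr.leaf) 168324 6
 (Tr.node (Tr.node Tr.leaf 168327 6
 Tr.leaf) 168339 6
 Tr.leaf)) 168342 6
 (Tr.node (Tr.node (Tr.node Tr.leaf 168349 7
 Tr.leaf) 168355 7
 Tr.leaf) 168358 6
 (Tr.node (Tr.node Tr.leaf 168365 7
 Tr.leaf) 168366 6
 Tr.leaf))) 168385 6
 (Tr.node (Tr.node (Tr.node (Tr.node Tr.leaf 168394 7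
 Tr.leaf) 168396 6
 Tr.leaf) 168403 7
 (Tr.node (Tr.node Tr.leaf 168413 6
 Tr.leaf) 168419 7
 Tr.leaf)) 168427 6
 (Tr.node (Tr.node (Tr.node Tr.leaf 168430 6
 Tr.leaf) 168433 7
 Tr.leaf) 168434 6
 (Tr.node Tr.leaf 168436 6
 Tr.leaf)))) 168442 6
 (Tr.node (Tr.node (Tr.node (Tr.node (Tr.node Tr.leaf 168963 7
 Tr.leaf) 168969 7
 Tr.leaf) 168983 7
 (Tr.node (Tr.node Tr.leaf 169005 6
 Tr.leaf) 169009 7
 Tr.leaf)) 169011 7
 (Tr.node (Tr.node (Tr.node Tr.leaf 169019 7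
 Tr.leaf) 169025 7
 Tr.leaf) 169027 7
 (Tr.node Tr.leaf 169035 7
 Tr.leaf))) 169045 7
 (Tr.node (Tr.node (Tr.node (Tr.node Tr.leaf 169053 6
 Tr.leaf) 169055 7
 Tr.leaf) 169061 7
 (Tr.node (Tr.node Tr.leaf 169063 6
 Tr.leaf) 169071 7
 Tr.leaf)) 169103 7
 (Tr.node (Tr.node (Tr.node Tr.leaf 169107 5
 Tr.leaf) 169113 6
 Tr.leaf) 169115 7
 (Tr.node Tr.leaf 169123 6
 Tr.leaf))))))) 169143 7
 (Tr.node (Tr.node (Tr.node (Tr.node (Tr.node (Tr.node (Tr.node (Tr.node Tr.leaf 169149 7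
 Tr.leaf) 169159 6
 Tr.leaf) 169167 7
 (Tr.node (Tr.node Tr.leaf 169171 7
 Tr.leaf) 169179 7
 Tr.leaf)) 169185 5
 (Tr.node (Tr.node (Tr.node Tr.leaf 169195 7
 Tr.leaf) 169217 7
 Tr.leaf) 169219 7
 (Tr.node (Tr.node Tr.leaf 169227 7
 Tr.leaf) 169237 6
 Tr.leaf))) 169239 6
 (Tr.node (Tr.node (Tr.node (Tr.node Tr.leaf 169245 6
 Tr.leaf) 169255 6
 Tr.leaf) 169261 7
 (Tr.node (Tr.node Tr.leaf 169263 7
 Tr.leaf) 169265 7
 Tr.leaf)) 169273 7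
 (Tr.node (Tr.node (Tr.node Tr.leaf 169275 7
 Tr.leaf) 169281 7
 Tr.leaf) 169289 7
 (Tr.node Tr.leaf 169291 7
 Tr.leaf)))) 169301 7
 (Tr.node (Tr.node (Tr.node (Tr.node (Tr.node Tr.leaf 169309 7
 Tr.leaf) 169311 7
 Tr.leaf) 169325 6
 (Tr.node (Tr.node Tr.leaf 169327 6
 Tr.leaf) 169329 7
 Tr.leaf)) 169349 6
 (Tr.node (Tr.node (Tr.node Tr.leaf 169351 5
 Tr.leaf) 169357 7
 Tr.leaf) 169359 6
 (Tr.node (Tr.node Tr.leaf 169361 6
 Tr.leaf) 169363 6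
 Tr.leaf))) 169369 6
 (Tr.node (Tr.node (Tr.node (Tr.node Tr.leaf 169377 6
 Tr.leaf) 169387 5
 Tr.leaf) 169399 7
 (Tr.node (Tr.node Tr.leaf 169405 7
 Tr.leaf) 169407 8
 Tr.leaf)) 169413 6
 (Tr.node (Tr.node (Tr.node Tr.leaf 169423 6
 Tr.leaf) 169433 6
 Tr.leaf) 169435 7
 (Tr.node Tr.leaf 169441 7
 Tr.leaf))))) 169443 7
 (Tr.node (Tr.node (Tr.node (Tr.node (Tr.node (Tr.node Tr.leaf 169449 7
 Tr.leaf) 169451 6
 Tr.leaf) 169461 7
 (Tr.node (Tr.node Tr.leaf 169463 8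
 Tr.leaf) 169469 8
 Tr.leaf)) 169471 8
 (Tr.node (Tr.node (Tr.node Tr.leaf 169986 6
 Tr.leaf) 169989 6
 Tr.leaf) 169997 6
 (Tr.node (Tr.node Tr.leaf 169998 6
 Tr.leaf) 170003 7
 Tr.leaf))) 170011 7
 (Tr.node (Tr.node (Tr.node (Tr.node Tr.leaf 170015 7
 Tr.leaf) 170019 7
 Tr.leaf) 170033 7
 (Tr.node (Tr.node Tr.leaf 170034 6
 Tr.leaf) 170041 7
 Tr.leaf)) 170046 6
 (Tr.node (Tr.node (Tr.node Tr.leaf 170049 6
 Tr.leaf) 170054 6
 Tr.leaf) 170057 6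
 (Tr.node Tr.leaf 170067 7
 Tr.leaf)))) 170079 7
 (Tr.node (Tr.node (Tr.node (Tr.node (Tr.node Tr.leaf 170083 7
 Tr.leaf) 170087 7
 Tr.leaf) 170097 7
 (Tr.node (Tr.node Tr.leaf 170098 7
 Tr.leaf) 170101 6
 Tr.leaf)) 170110 6
 (Tr.node (Tr.node (Tr.node Tr.leaf 170115 7
 Tr.leaf) 170123 7
 Tr.leaf) 170127 7
 (Tr.node Tr.leaf 170130 7
 Tr.leaf))) 170134 6
 (Tr.node (Tr.node (Tr.node (Tr.node Tr.leaf 170137 7
 Tr.leaf) 170138 7
 Tr.leaf) 170141 7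
 (Tr.node (Tr.node Tr.leaf 170142 6
 Tr.leaf) 170145 7
 Tr.leaf)) 170146 7
 (Tr.node (Tr.node (Tr.node Tr.leaf 170149 6
 Tr.leaf) 170158 5
 Tr.leaf) 170175 8
 (Tr.node Tr.leaf 170179 7
 Tr.leaf)))))) 170187 7
 (Tr.node (Tr.node (Tr.node (Tr.node (Tr.node (Tr.node (Tr.node Tr.leaf 170194 7
 Tr.leaf) 170197 6
 Tr.leaf) 170201 6
 (Tr.node (Tr.node Tr.leaf 170205 7
 Tr.leaf) 170206 7
 Tr.leaf)) 170209 6
 (Tr.node (Tr.node (Tr.node Tr.leaf 170210 7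
 Tr.leaf) 170213 5
 Tr.leaf) 170214 7
 (Tr.node (Tr.node Tr.leaf 170218 6
 Tr.leaf) 170231 7
 Tr.leaf))) 170235 8
 (Tr.node (Tr.node (Tr.node (Tr.node Tr.leaf 170242 5
 Tr.leaf) 170254 6
 Tr.leaf) 170267 7
 (Tr.node (Tr.node Tr.leaf 170279 6
 Tr.leaf) 170283 6
 Tr.leaf)) 170287 7
 (Tr.node (Tr.node (Tr.node Tr.leaf 170289 6
 Tr.leaf) 170290 6
 Tr.leaf) 170293 7
 (Tr.node Tr.leaf 170298 7
 Tr.leaf)))) 170301 7
 (Tr.node (Tr.node (Tr.node (Tr.node (Tr.node Tr.leaf 170309 6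
 Tr.leaf) 170310 6
 Tr.leaf) 170317 6
 (Tr.node (Tr.node Tr.leaf 170323 7
 Tr.leaf) 170335 7
 Tr.leaf)) 170339 7
 (Tr.node (Tr.node (Tr.node Tr.leaf 170347 6
 Tr.leaf) 170353 7
 Tr.leaf) 170354 5
 (Tr.node Tr.leaf 170361 7
 Tr.leaf))) 170366 5
 (Tr.node (Tr.node (Tr.node (Tr.node Tr.leaf 170375 7
 Tr.leaf) 170379 6
 Tr.leaf) 170383 7
 (Tr.node (Tr.node Tr.leaf 170389 6
 Tr.leaf) 170393 7
 Tr.leaf)) 170397 6
 (Tr.node (Tr.node (Tr.node Tr.leaf 170401 6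
 Tr.leaf) 170405 6
 Tr.leaf) 170406 6
 (Tr.node Tr.leaf 170409 5
 Tr.leaf))))) 170423 7
 (Tr.node (Tr.node (Tr.node (Tr.node (Tr.node (Tr.node Tr.leaf 170439 7
 Tr.leaf) 170443 7
 Tr.leaf) 170447 7
 (Tr.node (Tr.node Tr.leaf 170450 5
 Tr.leaf) 170453 7
 Tr.leaf)) 170458 6
 (Tr.node (Tr.node (Tr.node Tr.leaf 170465 6
 Tr.leaf) 170466 6
 Tr.leaf) 170470 7
 (Tr.node (Tr.node Tr.leaf 170473 6
 Tr.leaf) 170483 8
 Tr.leaf))) 170491 8
 (Tr.node (Tr.node (Tr.node (Tr.node Tr.leaf 171027 7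
 Tr.leaf) 171029 7
 Tr.leaf) 171037 6
 (Tr.node (Tr.node Tr.leaf 171039 7
 Tr.leaf) 171043 7
 Tr.leaf)) 171049 6
 (Tr.node (Tr.node (Tr.node Tr.leaf 171051 6
 Tr.leaf) 171053 7
 Tr.leaf) 171089 7
 (Tr.node Tr.leaf 171091 6
 Tr.leaf)))) 171093 6
 (Tr.node (Tr.node (Tr.node (Tr.node (Tr.node Tr.leaf 171097 7
 Tr.leaf) 171103 6
 Tr.leaf) 171105 7
 (Tr.node (Tr.node Tr.leaf 171107 6
 Tr.leaf) 171111 6
 Tr.leaf)) 171137 7
 (Tr.node (Tr.node (Tr.node Tr.leaf 171141 7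
 Tr.leaf) 171143 6
 Tr.leaf) 171149 7
 (Tr.node Tr.leaf 171187 7
 Tr.leaf))) 171191 7
 (Tr.node (Tr.node (Tr.node (Tr.node Tr.leaf 171197 7
 Tr.leaf) 171201 6
 Tr.leaf) 171207 6
 (Tr.node (Tr.node Tr.leaf 171211 7
 Tr.leaf) 171213 7
 Tr.leaf)) 171215 6
 (Tr.node (Tr.node (Tr.node Tr.leaf 171249 7
 Tr.leaf) 171253 8
 Tr.leaf) 171255 7
 (Tr.node Tr.leaf 171263 8
 Tr.leaf))))))))

/-- A subtree. -/
def tr1_s42 : Tr := (Tr.node (Tr.node (Tr.node (Tr.node (Tr.node (Tr.node (Tr.node (Tr.node (Tr.node Tr.leaf 171285 7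
 Tr.leaf) 171291 6
 Tr.leaf) 171293 6
 (Tr.node (Tr.node Tr.leaf 171295 7
 Tr.leaf) 171297 6
 Tr.leaf)) 171299 6
 (Tr.node (Tr.node (Tr.node Tr.leaf 171303 6
 Tr.leaf) 171305 7
 Tr.leaf) 171309 7
 (Tr.node (Tr.node Tr.leaf 171311 7
 Tr.leaf) 171347 6
 Tr.leaf))) 171351 7
 (Tr.node (Tr.node (Tr.node (Tr.node Tr.leaf 171353 7
 Tr.leaf) 171355 7
 Tr.leaf) 171361 7
 (Tr.node (Tr.node Tr.leaf 171371 6
 Tr.leaf) 171375 7
 Tr.leaf)) 171395 6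
 (Tr.node (Tr.node (Tr.node Tr.leaf 171405 7
 Tr.leaf) 171441 8
 Tr.leaf) 171443 7
 (Tr.node Tr.leaf 171447 7
 Tr.leaf)))) 171451 8
 (Tr.node (Tr.node (Tr.node (Tr.node (Tr.node Tr.leaf 171453 7
 Tr.leaf) 171459 6
 Tr.leaf) 171461 6
 (Tr.node (Tr.node Tr.leaf 171463 7
 Tr.leaf) 171467 7
 Tr.leaf)) 171469 6
 (Tr.node (Tr.node (Tr.node Tr.leaf 171511 8
 Tr.leaf) 171515 7
 Tr.leaf) 172044 5
 (Tr.node (Tr.node Tr.leaf 172054 5
 Tr.leaf) 172057 7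
 Tr.leaf))) 172058 5
 (Tr.node (Tr.node (Tr.node (Tr.node Tr.leaf 172068 6
 Tr.leaf) 172072 5
 Tr.leaf) 172077 6
 (Tr.node (Tr.node Tr.leaf 172081 6
 Tr.leaf) 172087 7
 Tr.leaf)) 172088 5
 (Tr.node (Tr.node (Tr.node Tr.leaf 172091 6
 Tr.leaf) 172093 7
 Tr.leaf) 172099 6
 (Tr.node Tr.leaf 172101 6
 Tr.leaf))))) 172105 7
 (Tr.node (Tr.node (Tr.node (Tr.node (Tr.node (Tr.node Tr.leaf 172108 6
 Tr.leaf) 172111 6
 Tr.leaf) 172117 6
 (Tr.node (Tr.node Tr.leaf 172121 7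
 Tr.leaf) 172127 6
 Tr.leaf)) 172130 6
 (Tr.node (Tr.node (Tr.node Tr.leaf 172135 6
 Tr.leaf) 172139 6
 Tr.leaf) 172141 7
 (Tr.node (Tr.node Tr.leaf 172148 7
 Tr.leaf) 172151 6
 Tr.leaf))) 172155 6
 (Tr.node (Tr.node (Tr.node (Tr.node Tr.leaf 172158 5
 Tr.leaf) 172164 7
 Tr.leaf) 172167 6
 (Tr.node (Tr.node Tr.leaf 172174 6
 Tr.leaf) 172177 7
 Tr.leaf)) 172178 5
 (Tr.node (Tr.node (Tr.node Tr.leaf 172184 5
 Tr.leaf) 172187 6
 Tr.leaf) 172198 6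
 (Tr.node Tr.leaf 172211 7
 Tr.leaf)))) 172214 6
 (Tr.node (Tr.node (Tr.node (Tr.node (Tr.node Tr.leaf 172225 7
 Tr.leaf) 172226 6
 Tr.leaf) 172228 6
 (Tr.node (Tr.node Tr.leaf 172232 6
 Tr.leaf) 172235 7
 Tr.leaf)) 172237 6
 (Tr.node (Tr.node (Tr.node Tr.leaf 172238 7
 Tr.leaf) 172241 7
 Tr.leaf) 172244 7
 (Tr.node Tr.leaf 172251 7
 Tr.leaf))) 172254 5
 (Tr.node (Tr.node (Tr.node (Tr.node Tr.leaf 172259 7
 Tr.leaf) 172262 6
 Tr.leaf) 172275 6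
 (Tr.node (Tr.node Tr.leaf 172277 6
 Tr.leaf) 172281 6
 Tr.leaf)) 172282 6
 (Tr.node (Tr.node (Tr.node Tr.leaf 172287 7
 Tr.leaf) 172291 6
 Tr.leaf) 172293 6
 (Tr.node Tr.leaf 172297 7
 Tr.leaf)))))) 172303 7
 (Tr.node (Tr.node (Tr.node (Tr.node (Tr.node (Tr.node (Tr.node Tr.leaf 172309 6
 Tr.leaf) 172313 6
 Tr.leaf) 172316 6
 (Tr.node (Tr.node Tr.leaf 172322 6
 Tr.leaf) 172334 6
 Tr.leaf)) 172337 5
 (Tr.node (Tr.node (Tr.node Tr.leaf 172340 6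
 Tr.leaf) 172358 5
 Tr.leaf) 172361 7
 (Tr.node (Tr.node Tr.leaf 172362 5
 Tr.leaf) 172367 6
 Tr.leaf))) 172371 6
 (Tr.node (Tr.node (Tr.node (Tr.node Tr.leaf 172380 5
 Tr.leaf) 172383 7
 Tr.leaf) 172388 7
 (Tr.node (Tr.node Tr.leaf 172392 5
 Tr.leaf) 172395 6
 Tr.leaf)) 172398 6
 (Tr.node (Tr.node (Tr.node Tr.leaf 172402 6
 Tr.leaf) 172404 6
 Tr.leaf) 172408 5
 (Tr.node Tr.leaf 172413 5
 Tr.leaf)))) 172414 7
 (Tr.node (Tr.node (Tr.node (Tr.node (Tr.node Tr.leaf 172417 7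
 Tr.leaf) 172418 6
 Tr.leaf) 172423 7
 (Tr.node (Tr.node Tr.leaf 172429 7
 Tr.leaf) 172430 6
 Tr.leaf)) 172436 6
 (Tr.node (Tr.node (Tr.node Tr.leaf 172439 7
 Tr.leaf) 172440 6
 Tr.leaf) 172443 7
 (Tr.node (Tr.node Tr.leaf 172445 6
 Tr.leaf) 172457 6
 Tr.leaf))) 172458 6
 (Tr.node (Tr.node (Tr.node (Tr.node Tr.leaf 172469 6
 Tr.leaf) 172470 6
 Tr.leaf) 172473 6
 (Tr.node (Tr.node Tr.leaf 172474 7
 Tr.leaf) 172476 6
 Tr.leaf)) 172482 6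
 (Tr.node (Tr.node (Tr.node Tr.leaf 172484 7
 Tr.leaf) 172488 5
 Tr.leaf) 172491 6
 (Tr.node Tr.leaf 172493 7
 Tr.leaf))))) 172494 7
 (Tr.node (Tr.node (Tr.node (Tr.node (Tr.node (Tr.node Tr.leaf 172497 7
 Tr.leaf) 172498 6
 Tr.leaf) 172507 7
 (Tr.node (Tr.node Tr.leaf 172509 7
 Tr.leaf) 172510 6
 Tr.leaf)) 172515 7
 (Tr.node (Tr.node (Tr.node Tr.leaf 172517 7
 Tr.leaf) 172518 6
 Tr.leaf) 172533 6
 (Tr.node (Tr.node Tr.leaf 172534 6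
 Tr.leaf) 172537 7
 Tr.leaf))) 172538 7
 (Tr.node (Tr.node (Tr.node (Tr.node Tr.leaf 172540 7
 Tr.leaf) 172543 7
 Tr.leaf) 173059 6
 (Tr.node (Tr.node Tr.leaf 173069 6
 Tr.leaf) 173071 7
 Tr.leaf)) 173073 6
 (Tr.node (Tr.node (Tr.node Tr.leaf 173085 6
 Tr.leaf) 173093 6
 Tr.leaf) 173097 6
 (Tr.node Tr.leaf 173109 6
 Tr.leaf)))) 173139 6
 (Tr.node (Tr.node (Tr.node (Tr.node (Tr.node Tr.leaf 173151 6
 Tr.leaf) 173159 7
 Tr.leaf) 173163 7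
 (Tr.node (Tr.node Tr.leaf 173173 5
 Tr.leaf) 173177 5
 Tr.leaf)) 173179 6
 (Tr.node (Tr.node (Tr.node Tr.leaf 173195 6
 Tr.leaf) 173207 6
 Tr.leaf) 173209 7
 (Tr.node Tr.leaf 173211 6
 Tr.leaf))) 173217 7
 (Tr.node (Tr.node (Tr.node (Tr.node Tr.leaf 173229 7
 Tr.leaf) 173235 6
 Tr.leaf) 173245 7
 (Tr.node (Tr.node Tr.leaf 173255 6
 Tr.leaf) 173257 6
 Tr.leaf)) 173259 6
 (Tr.node (Tr.node (Tr.node Tr.leaf 173271 7
 Tr.leaf) 173281 6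
 Tr.leaf) 173283 6
 (Tr.node Tr.leaf 173293 7
 Tr.leaf))))))) 173295 8
 (Tr.node (Tr.node (Tr.node (Tr.node (Tr.node (Tr.node (Tr.node (Tr.node Tr.leaf 173309 7
 Tr.leaf) 173311 7
 Tr.leaf) 173325 6
 (Tr.node (Tr.node Tr.leaf 173327 7
 Tr.leaf) 173331 6
 Tr.leaf)) 173343 7
 (Tr.node (Tr.node (Tr.node Tr.leaf 173349 6
 Tr.leaf) 173353 6
 Tr.leaf) 173365 7
 (Tr.node (Tr.node Tr.leaf 173369 7
 Tr.leaf) 173377 6
 Tr.leaf))) 173391 6
 (Tr.node (Tr.node (Tr.node (Tr.node Tr.leaf 173407 6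
 Tr.leaf) 173413 6
 Tr.leaf) 173415 6
 (Tr.node (Tr.node Tr.leaf 173417 6
 Tr.leaf) 173419 6
 Tr.leaf)) 173431 5
 (Tr.node (Tr.node (Tr.node Tr.leaf 173435 5
 Tr.leaf) 173445 7
 Tr.leaf) 173447 7
 (Tr.node Tr.leaf 173449 6
 Tr.leaf)))) 173451 7
 (Tr.node (Tr.node (Tr.node (Tr.node (Tr.node Tr.leaf 173461 6
 Tr.leaf) 173463 6
 Tr.leaf) 173465 6
 (Tr.node (Tr.node Tr.leaf 173473 6
 Tr.leaf) 173485 7
 Tr.leaf)) 173489 6
 (Tr.node (Tr.node (Tr.node Tr.leaf 173501 8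
 Tr.leaf) 173511 6
 Tr.leaf) 173515 7
 (Tr.node (Tr.node Tr.leaf 173525 6
 Tr.leaf) 173539 6
 Tr.leaf))) 173551 7
 (Tr.node (Tr.node (Tr.node (Tr.node Tr.leaf 173553 6
 Tr.leaf) 173555 7
 Tr.leaf) 173565 7
 (Tr.node (Tr.node Tr.leaf 173567 7
 Tr.leaf) 174081 6
 Tr.leaf)) 174085 6
 (Tr.node (Tr.node (Tr.node Tr.leaf 174095 7
 Tr.leaf) 174097 6
 Tr.leaf) 174098 6
 (Tr.node Tr.leaf 174101 6
 Tr.leaf))))) 174102 5
 (Tr.node (Tr.node (Tr.node (Tr.node (Tr.node (Tr.node Tr.leaf 174111 7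
 Tr.leaf) 174115 7
 Tr.leaf) 174119 7
 (Tr.node (Tr.node Tr.leaf 174121 7
 Tr.leaf) 174122 6
 Tr.leaf)) 174131 6
 (Tr.node (Tr.node (Tr.node Tr.leaf 174135 7
 Tr.leaf) 174137 6
 Tr.leaf) 174141 7
 (Tr.node (Tr.node Tr.leaf 174142 7
 Tr.leaf) 174145 6
 Tr.leaf))) 174155 7
 (Tr.node (Tr.node (Tr.node (Tr.node Tr.leaf 174159 6
 Tr.leaf) 174161 6
 Tr.leaf) 174175 6
 (Tr.node (Tr.node Tr.leaf 174179 7
 Tr.leaf) 174183 7
 Tr.leaf)) 174186 6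
 (Tr.node (Tr.node (Tr.node Tr.leaf 174189 6
 Tr.leaf) 174190 6
 Tr.leaf) 174195 7
 (Tr.node Tr.leaf 174205 6
 Tr.leaf)))) 174215 7
 (Tr.node (Tr.node (Tr.node (Tr.node (Tr.node Tr.leaf 174218 6
 Tr.leaf) 174222 5
 Tr.leaf) 174227 6
 (Tr.node (Tr.node Tr.leaf 174231 7
 Tr.leaf) 174233 6
 Tr.leaf)) 174238 7
 (Tr.node (Tr.node (Tr.node Tr.leaf 174241 7
 Tr.leaf) 174242 7
 Tr.leaf) 174257 7
 (Tr.node Tr.leaf 174261 6
 Tr.leaf))) 174262 6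
 (Tr.node (Tr.node (Tr.node (Tr.node Tr.leaf 174271 7
 Tr.leaf) 174275 7
 Tr.leaf) 174282 7
 (Tr.node (Tr.node Tr.leaf 174286 6
 Tr.leaf) 174291 7
 Tr.leaf)) 174295 7
 (Tr.node (Tr.node (Tr.node Tr.leaf 174297 7
 Tr.leaf) 174306 6
 Tr.leaf) 174309 6
 (Tr.node Tr.leaf 174310 7
 Tr.leaf)))))) 174319 8
 (Tr.node (Tr.node (Tr.node (Tr.node (Tr.node (Tr.node (Tr.node Tr.leaf 174326 6
 Tr.leaf) 174331 7
 Tr.leaf) 174335 7
 (Tr.node (Tr.node Tr.leaf 174341 6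
 Tr.leaf) 174347 6
 Tr.leaf)) 174351 7
 (Tr.node (Tr.node (Tr.node Tr.leaf 174357 6
 Tr.leaf) 174363 6
 Tr.leaf) 174367 7
 (Tr.node (Tr.node Tr.leaf 174377 7
 Tr.leaf) 174381 7
 Tr.leaf))) 174382 7
 (Tr.node (Tr.node (Tr.node (Tr.node Tr.leaf 174394 6
 Tr.leaf) 174397 7
 Tr.leaf) 174398 6
 (Tr.node (Tr.node Tr.leaf 174401 6
 Tr.leaf) 174402 6
 Tr.leaf)) 174405 6
 (Tr.node (Tr.node (Tr.node Tr.leaf 174406 5
 Tr.leaf) 174417 6
 Tr.leaf) 174421 6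
 (Tr.node Tr.leaf 174427 7
 Tr.leaf)))) 174435 7
 (Tr.node (Tr.node (Tr.node (Tr.node (Tr.node Tr.leaf 174439 6
 Tr.leaf) 174441 7
 Tr.leaf) 174445 6
 (Tr.node (Tr.node Tr.leaf 174457 7
 Tr.leaf) 174458 7
 Tr.leaf)) 174462 6
 (Tr.node (Tr.node (Tr.node Tr.leaf 174467 6
 Tr.leaf) 174471 7
 Tr.leaf) 174477 7
 (Tr.node (Tr.node Tr.leaf 174478 7
 Tr.leaf) 174483 6
 Tr.leaf))) 174489 7
 (Tr.node (Tr.node (Tr.node (Tr.node Tr.leaf 174490 6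
 Tr.leaf) 174493 7
 Tr.leaf) 174498 6
 (Tr.node (Tr.node Tr.leaf 174501 6
 Tr.leaf) 174507 7
 Tr.leaf)) 174511 7
 (Tr.node (Tr.node (Tr.node Tr.leaf 174513 6
 Tr.leaf) 174518 6
 Tr.leaf) 174523 8
 (Tr.node Tr.leaf 174535 6
 Tr.leaf))))) 174537 7
 (Tr.node (Tr.node (Tr.node (Tr.node (Tr.node (Tr.node Tr.leaf 174541 6
 Tr.leaf) 174551 7
 Tr.leaf) 174553 7
 (Tr.node (Tr.node Tr.leaf 174554 6
 Tr.leaf) 174557 7
 Tr.leaf)) 174558 6
 (Tr.node (Tr.node (Tr.node Tr.leaf 174562 6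
 Tr.leaf) 174565 7
 Tr.leaf) 174571 7
 (Tr.node (Tr.node Tr.leaf 174581 7
 Tr.leaf) 175113 7
 Tr.leaf))) 175115 7
 (Tr.node (Tr.node (Tr.node (Tr.node Tr.leaf 175129 7
 Tr.leaf) 175133 7
 Tr.leaf) 175135 6
 (Tr.node (Tr.node Tr.leaf 175137 7
 Tr.leaf) 175177 6
 Tr.leaf)) 175179 7
 (Tr.node (Tr.node (Tr.node Tr.leaf 175195 7
 Tr.leaf) 175197 7
 Tr.leaf) 175201 6
 (Tr.node Tr.leaf 175203 6
 Tr.leaf)))) 175205 6
 (Tr.node (Tr.node (Tr.node (Tr.node (Tr.node Tr.leaf 175221 5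
 Tr.leaf) 175237 6
 Tr.leaf) 175239 6
 (Tr.node (Tr.node Tr.leaf 175253 7
 Tr.leaf) 175273 8
 Tr.leaf)) 175275 7
 (Tr.node (Tr.node (Tr.node Tr.leaf 175279 8
 Tr.leaf) 175289 7
 Tr.leaf) 175295 7
 (Tr.node Tr.leaf 175299 7
 Tr.leaf))) 175301 6
 (Tr.node (Tr.node (Tr.node (Tr.node Tr.leaf 175313 7
 Tr.leaf) 175315 7
 Tr.leaf) 175317 5
 (Tr.node (Tr.node Tr.leaf 175319 6
 Tr.leaf) 175337 7
 Tr.leaf)) 175341 7
 (Tr.node (Tr.node (Tr.node Tr.leaf 175353 7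
 Tr.leaf) 175357 7
 Tr.leaf) 175385 7
 (Tr.node Tr.leaf 175391 6
 Tr.leaf))))))))

/-- A subtree. -/
def tr1_s43 : Tr := (Tr.node (Tr.node (Tr.node (Tr.node (Tr.node (Tr.node (Tr.node (Tr.node (Tr.node Tr.leaf 175397 7
 Tr.leaf) 175399 6
 Tr.leaf) 175409 7
 (Tr.node (Tr.node Tr.leaf 175411 7
 Tr.leaf) 175413 6
 Tr.leaf)) 175433 6
 (Tr.node (Tr.node (Tr.node Tr.leaf 175435 7
 Tr.leaf) 175437 7
 Tr.leaf) 175451 7
 (Tr.node (Tr.node Tr.leaf 175453 7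
 Tr.leaf) 175457 7
 Tr.leaf))) 175461 7
 (Tr.node (Tr.node (Tr.node (Tr.node Tr.leaf 175463 6
 Tr.leaf) 175473 7
 Tr.leaf) 175475 6
 (Tr.node (Tr.node Tr.leaf 175477 7
 Tr.leaf) 175489 7
 Tr.leaf)) 175491 5
 (Tr.node (Tr.node (Tr.node Tr.leaf 175529 7
 Tr.leaf) 175531 7
 Tr.leaf) 175533 7
 (Tr.node Tr.leaf 175535 7
 Tr.leaf)))) 175557 7
 (Tr.node (Tr.node (Tr.node (Tr.node (Tr.node Tr.leaf 175559 7
 Tr.leaf) 175571 6
 Tr.leaf) 175575 6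
 (Tr.node (Tr.node Tr.leaf 175593 7
 Tr.leaf) 175599 8
 Tr.leaf)) 175611 7
 (Tr.node (Tr.node (Tr.node Tr.leaf 176129 7
 Tr.leaf) 176137 7
 Tr.leaf) 176143 6
 (Tr.node (Tr.node Tr.leaf 176145 7
 Tr.leaf) 176146 5
 Tr.leaf))) 176151 7
 (Tr.node (Tr.node (Tr.node (Tr.node Tr.leaf 176154 6
 Tr.leaf) 176156 6
 Tr.leaf) 176159 7
 (Tr.node (Tr.node Tr.leaf 176163 6
 Tr.leaf) 176165 7
 Tr.leaf)) 176166 6
 (Tr.node (Tr.node (Tr.node Tr.leaf 176171 6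
 Tr.leaf) 176173 6
 Tr.leaf) 176179 7
 (Tr.node Tr.leaf 176182 6
 Tr.leaf))))) 176193 7
 (Tr.node (Tr.node (Tr.node (Tr.node (Tr.node (Tr.node Tr.leaf 176199 6
 Tr.leaf) 176207 7
 Tr.leaf) 176217 7
 (Tr.node (Tr.node Tr.leaf 176220 5
 Tr.leaf) 176227 7
 Tr.leaf)) 176229 7
 (Tr.node (Tr.node (Tr.node Tr.leaf 176230 6
 Tr.leaf) 176235 7
 Tr.leaf) 176237 7
 (Tr.node (Tr.node Tr.leaf 176238 6
 Tr.leaf) 176245 7
 Tr.leaf))) 176246 6
 (Tr.node (Tr.node (Tr.node (Tr.node Tr.leaf 176251 6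
 Tr.leaf) 176253 7
 Tr.leaf) 176259 7
 (Tr.node (Tr.node Tr.leaf 176261 6
 Tr.leaf) 176262 6
 Tr.leaf)) 176267 7
 (Tr.node (Tr.node (Tr.node Tr.leaf 176269 7
 Tr.leaf) 176270 6
 Tr.leaf) 176277 7
 (Tr.node Tr.leaf 176285 7
 Tr.leaf)))) 176290 6
 (Tr.node (Tr.node (Tr.node (Tr.node (Tr.node Tr.leaf 176292 6
 Tr.leaf) 176295 8
 Tr.leaf) 176298 6
 (Tr.node (Tr.node Tr.leaf 176303 7
 Tr.leaf) 176305 6
 Tr.leaf)) 176306 6
 (Tr.node (Tr.node (Tr.node Tr.leaf 176314 6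
 Tr.leaf) 176316 6
 Tr.leaf) 176323 6
 (Tr.node Tr.leaf 176325 6
 Tr.leaf))) 176331 7
 (Tr.node (Tr.node (Tr.node (Tr.node Tr.leaf 176333 7
 Tr.leaf) 176334 6
 Tr.leaf) 176342 6
 (Tr.node (Tr.node Tr.leaf 176347 6
 Tr.leaf) 176349 7
 Tr.leaf)) 176350 6
 (Tr.node (Tr.node (Tr.node Tr.leaf 176356 6
 Tr.leaf) 176359 7
 Tr.leaf) 176361 7
 (Tr.node Tr.leaf 176362 6
 Tr.leaf)))))) 176364 6
 (Tr.node (Tr.node (Tr.node (Tr.node (Tr.node (Tr.node (Tr.node Tr.leaf 176367 8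
 Tr.leaf) 176369 7
 Tr.leaf) 176377 6
 (Tr.node (Tr.node Tr.leaf 176380 6
 Tr.leaf) 176383 7
 Tr.leaf)) 176385 7
 (Tr.node (Tr.node (Tr.node Tr.leaf 176388 5
 Tr.leaf) 176391 7
 Tr.leaf) 176407 7
 (Tr.node (Tr.node Tr.leaf 176409 7
 Tr.leaf) 176415 6
 Tr.leaf))) 176419 7
 (Tr.node (Tr.node (Tr.node (Tr.node Tr.leaf 176430 6
 Tr.leaf) 176438 5
 Tr.leaf) 176445 7
 (Tr.node (Tr.node Tr.leaf 176446 6
 Tr.leaf) 176450 6
 Tr.leaf)) 176452 6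
 (Tr.node (Tr.node (Tr.node Tr.leaf 176455 7
 Tr.leaf) 176457 7
 Tr.leaf) 176458 5
 (Tr.node Tr.leaf 176465 7
 Tr.leaf)))) 176471 6
 (Tr.node (Tr.node (Tr.node (Tr.node (Tr.node Tr.leaf 176473 7
 Tr.leaf) 176483 7
 Tr.leaf) 176491 7
 (Tr.node (Tr.node Tr.leaf 176493 6
 Tr.leaf) 176494 6
 Tr.leaf)) 176501 7
 (Tr.node (Tr.node (Tr.node Tr.leaf 176507 7
 Tr.leaf) 176509 6
 Tr.leaf) 176510 6
 (Tr.node (Tr.node Tr.leaf 176517 7
 Tr.leaf) 176518 6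
 Tr.leaf))) 176523 7
 (Tr.node (Tr.node (Tr.node (Tr.node Tr.leaf 176526 6
 Tr.leaf) 176534 5
 Tr.leaf) 176539 7
 (Tr.node (Tr.node Tr.leaf 176545 6
 Tr.leaf) 176548 6
 Tr.leaf)) 176553 7
 (Tr.node (Tr.node (Tr.node Tr.leaf 176561 7
 Tr.leaf) 176562 5
 Tr.leaf) 176564 5
 (Tr.node Tr.leaf 176567 8
 Tr.leaf))))) 176569 7
 (Tr.node (Tr.node (Tr.node (Tr.node (Tr.node (Tr.node Tr.leaf 176572 6
 Tr.leaf) 176587 7
 Tr.leaf) 176589 6
 (Tr.node (Tr.node Tr.leaf 176595 7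
 Tr.leaf) 176598 6
 Tr.leaf)) 176603 6
 (Tr.node (Tr.node (Tr.node Tr.leaf 176605 7
 Tr.leaf) 176606 6
 Tr.leaf) 176610 6
 (Tr.node (Tr.node Tr.leaf 176612 6
 Tr.leaf) 176617 6
 Tr.leaf))) 176618 6
 (Tr.node (Tr.node (Tr.node (Tr.node Tr.leaf 176623 7
 Tr.leaf) 176625 7
 Tr.leaf) 176626 6
 (Tr.node (Tr.node Tr.leaf 176634 6
 Tr.leaf) 176636 6
 Tr.leaf)) 176639 8
 (Tr.node (Tr.node (Tr.node Tr.leaf 177159 6
 Tr.leaf) 177165 7
 Tr.leaf) 177175 6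
 (Tr.node Tr.leaf 177181 7
 Tr.leaf)))) 177193 7
 (Tr.node (Tr.node (Tr.node (Tr.node (Tr.node Tr.leaf 177195 7
 Tr.leaf) 177221 7
 Tr.leaf) 177231 7
 (Tr.node (Tr.node Tr.leaf 177237 7
 Tr.leaf) 177239 7
 Tr.leaf)) 177247 7
 (Tr.node (Tr.node (Tr.node Tr.leaf 177249 7
 Tr.leaf) 177251 6
 Tr.leaf) 177257 7
 (Tr.node Tr.leaf 177259 7
 Tr.leaf))) 177265 5
 (Tr.node (Tr.node (Tr.node (Tr.node Tr.leaf 177281 6
 Tr.leaf) 177289 6
 Tr.leaf) 177297 6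
 (Tr.node (Tr.node Tr.leaf 177305 7
 Tr.leaf) 177325 7
 Tr.leaf)) 177335 7
 (Tr.node (Tr.node (Tr.node Tr.leaf 177361 5
 Tr.leaf) 177363 7
 Tr.leaf) 177369 7
 (Tr.node Tr.leaf 177397 7
 Tr.leaf))))))) 177405 7
 (Tr.node (Tr.node (Tr.node (Tr.node (Tr.node (Tr.node (Tr.node (Tr.node Tr.leaf 177407 7
 Tr.leaf) 177421 7
 Tr.leaf) 177437 7
 (Tr.node (Tr.node Tr.leaf 177439 7
 Tr.leaf) 177441 6
 Tr.leaf)) 177443 6
 (Tr.node (Tr.node (Tr.node Tr.leaf 177451 5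
 Tr.leaf) 177465 6
 Tr.leaf) 177477 7
 (Tr.node (Tr.node Tr.leaf 177485 6
 Tr.leaf) 177501 6
 Tr.leaf))) 177503 7
 (Tr.node (Tr.node (Tr.node (Tr.node Tr.leaf 177505 7
 Tr.leaf) 177507 7
 Tr.leaf) 177513 7
 (Tr.node (Tr.node Tr.leaf 177521 6
 Tr.leaf) 177529 6
 Tr.leaf)) 177531 6
 (Tr.node (Tr.node (Tr.node Tr.leaf 177537 7
 Tr.leaf) 177547 5
 Tr.leaf) 177555 6
 (Tr.node Tr.leaf 177561 7
 Tr.leaf)))) 177573 8
 (Tr.node (Tr.node (Tr.node (Tr.node (Tr.node Tr.leaf 177575 7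
 Tr.leaf) 177583 7
 Tr.leaf) 177591 7
 (Tr.node (Tr.node Tr.leaf 177599 7
 Tr.leaf) 177601 7
 Tr.leaf)) 177611 7
 (Tr.node (Tr.node (Tr.node Tr.leaf 177617 6
 Tr.leaf) 177619 6
 Tr.leaf) 177639 7
 (Tr.node (Tr.node Tr.leaf 177645 7
 Tr.leaf) 177647 7
 Tr.leaf))) 177653 7
 (Tr.node (Tr.node (Tr.node (Tr.node Tr.leaf 177661 7
 Tr.leaf) 177663 8
 Tr.leaf) 178183 6
 (Tr.node (Tr.node Tr.leaf 178187 7
 Tr.leaf) 178203 7
 Tr.leaf)) 178209 6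
 (Tr.node (Tr.node (Tr.node Tr.leaf 178214 6
 Tr.leaf) 178218 5
 Tr.leaf) 178225 7
 (Tr.node Tr.leaf 178233 7
 Tr.leaf))))) 178234 7
 (Tr.node (Tr.node (Tr.node (Tr.node (Tr.node (Tr.node Tr.leaf 178238 6
 Tr.leaf) 178243 7
 Tr.leaf) 178255 7
 (Tr.node (Tr.node Tr.leaf 178259 7
 Tr.leaf) 178267 6
 Tr.leaf)) 178273 6
 (Tr.node (Tr.node (Tr.node Tr.leaf 178274 7
 Tr.leaf) 178278 7
 Tr.leaf) 178286 7
 (Tr.node (Tr.node Tr.leaf 178293 5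
 Tr.leaf) 178298 6
 Tr.leaf))) 178301 7
 (Tr.node (Tr.node (Tr.node (Tr.node Tr.leaf 178302 5
 Tr.leaf) 178313 7
 Tr.leaf) 178317 6
 (Tr.node (Tr.node Tr.leaf 178321 6
 Tr.leaf) 178325 6
 Tr.leaf)) 178329 7
 (Tr.node (Tr.node (Tr.node Tr.leaf 178330 7
 Tr.leaf) 178333 7
 Tr.leaf) 178355 8
 (Tr.node Tr.leaf 178359 7
 Tr.leaf)))) 178367 7
 (Tr.node (Tr.node (Tr.node (Tr.node (Tr.node Tr.leaf 178369 7
 Tr.leaf) 178370 7
 Tr.leaf) 178373 7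
 (Tr.node (Tr.node Tr.leaf 178374 6
 Tr.leaf) 178377 7
 Tr.leaf)) 178378 6
 (Tr.node (Tr.node (Tr.node Tr.leaf 178381 7
 Tr.leaf) 178382 6
 Tr.leaf) 178389 5
 (Tr.node Tr.leaf 178393 7
 Tr.leaf))) 178394 6
 (Tr.node (Tr.node (Tr.node (Tr.node Tr.leaf 178398 5
 Tr.leaf) 178403 7
 Tr.leaf) 178423 7
 (Tr.node (Tr.node Tr.leaf 178427 7
 Tr.leaf) 178431 7
 Tr.leaf)) 178439 6
 (Tr.node (Tr.node (Tr.node Tr.leaf 178443 7
 Tr.leaf) 178447 7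
 Tr.leaf) 178465 6
 (Tr.node Tr.leaf 178466 6
 Tr.leaf)))))) 178470 6
 (Tr.node (Tr.node (Tr.node (Tr.node (Tr.node (Tr.node (Tr.node Tr.leaf 178473 5
 Tr.leaf) 178474 7
 Tr.leaf) 178477 7
 (Tr.node (Tr.node Tr.leaf 178478 7
 Tr.leaf) 178485 6
 Tr.leaf)) 178489 6
 (Tr.node (Tr.node (Tr.node Tr.leaf 178493 6
 Tr.leaf) 178499 7
 Tr.leaf) 178511 7
 (Tr.node (Tr.node Tr.leaf 178515 7
 Tr.leaf) 178519 7
 Tr.leaf))) 178523 6
 (Tr.node (Tr.node (Tr.node (Tr.node Tr.leaf 178527 7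
 Tr.leaf) 178529 7
 Tr.leaf) 178530 6
 (Tr.node (Tr.node Tr.leaf 178537 7
 Tr.leaf) 178542 7
 Tr.leaf)) 178545 7
 (Tr.node (Tr.node (Tr.node Tr.leaf 178546 7
 Tr.leaf) 178550 6
 Tr.leaf) 178554 6
 (Tr.node Tr.leaf 178562 6
 Tr.leaf)))) 178566 6
 (Tr.node (Tr.node (Tr.node (Tr.node (Tr.node Tr.leaf 178569 5
 Tr.leaf) 178570 7
 Tr.leaf) 178574 7
 (Tr.node (Tr.node Tr.leaf 178578 6
 Tr.leaf) 178582 6
 Tr.leaf)) 178585 6
 (Tr.node (Tr.node (Tr.node Tr.leaf 178586 5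
 Tr.leaf) 178599 7
 Tr.leaf) 178603 7
 (Tr.node Tr.leaf 178615 7
 Tr.leaf))) 178619 7
 (Tr.node (Tr.node (Tr.node (Tr.node Tr.leaf 178638 7
 Tr.leaf) 178641 6
 Tr.leaf) 178642 7
 (Tr.node (Tr.node Tr.leaf 178646 7
 Tr.leaf) 178649 6
 Tr.leaf)) 178653 6
 (Tr.node (Tr.node (Tr.node Tr.leaf 178654 7
 Tr.leaf) 178667 7
 Tr.leaf) 178671 7
 (Tr.node Tr.leaf 178679 7
 Tr.leaf))))) 178683 7
 (Tr.node (Tr.node (Tr.node (Tr.node (Tr.node (Tr.node Tr.leaf 178687 8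
 Tr.leaf) 179203 7
 Tr.leaf) 179205 7
 (Tr.node (Tr.node Tr.leaf 179207 7
 Tr.leaf) 179211 6
 Tr.leaf)) 179215 7
 (Tr.node (Tr.node (Tr.node Tr.leaf 179217 6
 Tr.leaf) 179219 7
 Tr.leaf) 179221 7
 (Tr.node (Tr.node Tr.leaf 179225 7
 Tr.leaf) 179231 7
 Tr.leaf))) 179269 6
 (Tr.node (Tr.node (Tr.node (Tr.node Tr.leaf 179271 7
 Tr.leaf) 179273 7
 Tr.leaf) 179279 7
 (Tr.node (Tr.node Tr.leaf 179285 7
 Tr.leaf) 179287 7
 Tr.leaf)) 179289 7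
 (Tr.node (Tr.node (Tr.node Tr.leaf 179291 7
 Tr.leaf) 179295 6
 Tr.leaf) 179367 8
 (Tr.node Tr.leaf 179369 8
 Tr.leaf)))) 179371 8
 (Tr.node (Tr.node (Tr.node (Tr.node (Tr.node Tr.leaf 179377 7
 Tr.leaf) 179379 7
 Tr.leaf) 179381 8
 (Tr.node (Tr.node Tr.leaf 179383 7
 Tr.leaf) 179391 7
 Tr.leaf)) 179425 8
 (Tr.node (Tr.node (Tr.node Tr.leaf 179429 8
 Tr.leaf) 179433 8
 Tr.leaf) 179435 7
 (Tr.node Tr.leaf 179437 7
 Tr.leaf))) 179441 8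
 (Tr.node (Tr.node (Tr.node (Tr.node Tr.leaf 179445 8
 Tr.leaf) 179447 8
 Tr.leaf) 179453 8
 (Tr.node (Tr.node Tr.leaf 179455 7
 Tr.leaf) 179457 6
 Tr.leaf)) 179459 7
 (Tr.node (Tr.node (Tr.node Tr.leaf 179461 7
 Tr.leaf) 179467 7
 Tr.leaf) 179471 7
 (Tr.node Tr.leaf 179473 7
 Tr.leaf))))))))

/-- A subtree. -/
def tr1_s44 : Tr := (Tr.node (Tr.node (Tr.node (Tr.node (Tr.node (Tr.node (Tr.node (Tr.node (Tr.node Tr.leaf 179477 7
 Tr.leaf) 179479 7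
 Tr.leaf) 179483 6
 (Tr.node (Tr.node Tr.leaf 179487 7
 Tr.leaf) 179521 7
 Tr.leaf)) 179527 7
 (Tr.node (Tr.node (Tr.node Tr.leaf 179529 7
 Tr.leaf) 179533 7
 Tr.leaf) 179535 6
 (Tr.node (Tr.node Tr.leaf 179541 6
 Tr.leaf) 179543 7
 Tr.leaf))) 179545 7
 (Tr.node (Tr.node (Tr.node (Tr.node Tr.leaf 179617 7
 Tr.leaf) 179619 8
 Tr.leaf) 179621 7
 (Tr.node (Tr.node Tr.leaf 179623 7
 Tr.leaf) 179625 8
 Tr.leaf)) 179627 8
 (Tr.node (Tr.node (Tr.node Tr.leaf 179631 8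
 Tr.leaf) 179639 8
 Tr.leaf) 179641 7
 (Tr.node Tr.leaf 179643 8
 Tr.leaf)))) 179687 7
 (Tr.node (Tr.node (Tr.node (Tr.node (Tr.node Tr.leaf 179691 8
 Tr.leaf) 179695 7
 Tr.leaf) 179697 7
 (Tr.node (Tr.node Tr.leaf 179701 8
 Tr.leaf) 179705 8
 Tr.leaf)) 179707 8
 (Tr.node (Tr.node (Tr.node Tr.leaf 179709 8
 Tr.leaf) 180227 6
 Tr.leaf) 180242 6
 (Tr.node (Tr.node Tr.leaf 180244 6
 Tr.leaf) 180251 7
 Tr.leaf))) 180253 6
 (Tr.node (Tr.node (Tr.node (Tr.node Tr.leaf 180254 6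
 Tr.leaf) 180262 6
 Tr.leaf) 180265 6
 (Tr.node (Tr.node Tr.leaf 180266 6
 Tr.leaf) 180268 6
 Tr.leaf)) 180273 6
 (Tr.node (Tr.node (Tr.node Tr.leaf 180274 6
 Tr.leaf) 180279 7
 Tr.leaf) 180286 6
 (Tr.node Tr.leaf 180291 6
 Tr.leaf))))) 180294 7
 (Tr.node (Tr.node (Tr.node (Tr.node (Tr.node (Tr.node Tr.leaf 180297 6
 Tr.leaf) 180298 6
 Tr.leaf) 180300 6
 (Tr.node (Tr.node Tr.leaf 180303 6
 Tr.leaf) 180311 6
 Tr.leaf)) 180315 7
 (Tr.node (Tr.node (Tr.node Tr.leaf 180317 6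
 Tr.leaf) 180318 6
 Tr.leaf) 180330 5
 (Tr.node (Tr.node Tr.leaf 180335 7
 Tr.leaf) 180340 7
 Tr.leaf))) 180343 6
 (Tr.node (Tr.node (Tr.node (Tr.node Tr.leaf 180344 5
 Tr.leaf) 180347 5
 Tr.leaf) 180349 7
 (Tr.node (Tr.node Tr.leaf 180350 7
 Tr.leaf) 180353 7
 Tr.leaf)) 180356 5
 (Tr.node (Tr.node (Tr.node Tr.leaf 180359 7
 Tr.leaf) 180363 7
 Tr.leaf) 180365 6
 (Tr.node Tr.leaf 180374 6
 Tr.leaf)))) 180377 6
 (Tr.node (Tr.node (Tr.node (Tr.node (Tr.node Tr.leaf 180380 6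
 Tr.leaf) 180385 7
 Tr.leaf) 180386 7
 (Tr.node (Tr.node Tr.leaf 180395 7
 Tr.leaf) 180398 5
 Tr.leaf)) 180400 6
 (Tr.node (Tr.node (Tr.node Tr.leaf 180405 6
 Tr.leaf) 180406 5
 Tr.leaf) 180409 7
 (Tr.node Tr.leaf 180410 6
 Tr.leaf))) 180412 6
 (Tr.node (Tr.node (Tr.node (Tr.node Tr.leaf 180415 8
 Tr.leaf) 180417 7
 Tr.leaf) 180418 6
 (Tr.node (Tr.node Tr.leaf 180420 6
 Tr.leaf) 180427 7
 Tr.leaf)) 180429 7
 (Tr.node (Tr.node (Tr.node Tr.leaf 180430 6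
 Tr.leaf) 180435 7
 Tr.leaf) 180438 6
 (Tr.node Tr.leaf 180442 6
 Tr.leaf)))))) 180452 5
 (Tr.node (Tr.node (Tr.node (Tr.node (Tr.node (Tr.node (Tr.node Tr.leaf 180456 5
 Tr.leaf) 180459 7
 Tr.leaf) 180461 6
 (Tr.node (Tr.node Tr.leaf 180464 6
 Tr.leaf) 180467 7
 Tr.leaf)) 180469 7
 (Tr.node (Tr.node (Tr.node Tr.leaf 180479 8
 Tr.leaf) 180485 6
 Tr.leaf) 180486 6
 (Tr.node (Tr.node Tr.leaf 180490 6
 Tr.leaf) 180495 7
 Tr.leaf))) 180504 5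
 (Tr.node (Tr.node (Tr.node (Tr.node Tr.leaf 180507 6
 Tr.leaf) 180517 6
 Tr.leaf) 180529 6
 (Tr.node (Tr.node Tr.leaf 180532 7
 Tr.leaf) 180535 6
 Tr.leaf)) 180542 6
 (Tr.node (Tr.node (Tr.node Tr.leaf 180550 6
 Tr.leaf) 180559 6
 Tr.leaf) 180564 7
 (Tr.node Tr.leaf 180567 5
 Tr.leaf)))) 180573 6
 (Tr.node (Tr.node (Tr.node (Tr.node (Tr.node Tr.leaf 180574 6
 Tr.leaf) 180582 6
 Tr.leaf) 180585 6
 (Tr.node (Tr.node Tr.leaf 180586 6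
 Tr.leaf) 180588 6
 Tr.leaf)) 180596 6
 (Tr.node (Tr.node (Tr.node Tr.leaf 180603 6
 Tr.leaf) 180605 6
 Tr.leaf) 180606 6
 (Tr.node (Tr.node Tr.leaf 180609 7
 Tr.leaf) 180610 7
 Tr.leaf))) 180612 5
 (Tr.node (Tr.node (Tr.node (Tr.node Tr.leaf 180615 7
 Tr.leaf) 180616 5
 Tr.leaf) 180621 6
 (Tr.node (Tr.node Tr.leaf 180622 7
 Tr.leaf) 180627 7
 Tr.leaf)) 180629 7
 (Tr.node (Tr.node (Tr.node Tr.leaf 180630 7
 Tr.leaf) 180633 6
 Tr.leaf) 180634 7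
 (Tr.node Tr.leaf 180636 6
 Tr.leaf))))) 180642 6
 (Tr.node (Tr.node (Tr.node (Tr.node (Tr.node (Tr.node Tr.leaf 180647 7
 Tr.leaf) 180654 5
 Tr.leaf) 180659 7
 (Tr.node (Tr.node Tr.leaf 180661 6
 Tr.leaf) 180662 6
 Tr.leaf)) 180666 6
 (Tr.node (Tr.node (Tr.node Tr.leaf 180671 8
 Tr.leaf) 180676 6
 Tr.leaf) 180685 6
 (Tr.node (Tr.node Tr.leaf 180686 6
 Tr.leaf) 180694 6
 Tr.leaf))) 180697 6
 (Tr.node (Tr.node (Tr.node (Tr.node Tr.leaf 180698 6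
 Tr.leaf) 180700 6
 Tr.leaf) 180703 7
 (Tr.node (Tr.node Tr.leaf 180705 7
 Tr.leaf) 180706 7
 Tr.leaf)) 180708 6
 (Tr.node (Tr.node (Tr.node Tr.leaf 180723 6
 Tr.leaf) 180726 6
 Tr.leaf) 180729 5
 (Tr.node Tr.leaf 180732 5
 Tr.leaf)))) 180735 7
 (Tr.node (Tr.node (Tr.node (Tr.node (Tr.node Tr.leaf 181261 6
 Tr.leaf) 181263 6
 Tr.leaf) 181271 5
 (Tr.node (Tr.node Tr.leaf 181273 6
 Tr.leaf) 181275 6
 Tr.leaf)) 181281 6
 (Tr.node (Tr.node (Tr.node Tr.leaf 181303 7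
 Tr.leaf) 181307 7
 Tr.leaf) 181325 7
 (Tr.node Tr.leaf 181333 7
 Tr.leaf))) 181337 7
 (Tr.node (Tr.node (Tr.node (Tr.node Tr.leaf 181339 7
 Tr.leaf) 181345 6
 Tr.leaf) 181357 6
 (Tr.node (Tr.node Tr.leaf 181359 7
 Tr.leaf) 181367 7
 Tr.leaf)) 181383 5
 (Tr.node (Tr.node (Tr.node Tr.leaf 181385 7
 Tr.leaf) 181393 6
 Tr.leaf) 181405 7
 (Tr.node Tr.leaf 181407 8
 Tr.leaf))))))) 181415 6
 (Tr.node (Tr.node (Tr.node (Tr.node (Tr.node (Tr.node (Tr.node (Tr.node Tr.leaf 181417 7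
 Tr.leaf) 181419 7
 Tr.leaf) 181427 6
 (Tr.node (Tr.node Tr.leaf 181439 7
 Tr.leaf) 181447 7
 Tr.leaf)) 181449 7
 (Tr.node (Tr.node (Tr.node Tr.leaf 181451 7
 Tr.leaf) 181459 6
 Tr.leaf) 181479 6
 (Tr.node (Tr.node Tr.leaf 181481 7
 Tr.leaf) 181483 6
 Tr.leaf))) 181501 7
 (Tr.node (Tr.node (Tr.node (Tr.node Tr.leaf 181505 6
 Tr.leaf) 181517 7
 Tr.leaf) 181519 7
 (Tr.node (Tr.node Tr.leaf 181527 7
 Tr.leaf) 181539 6
 Tr.leaf)) 181549 6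
 (Tr.node (Tr.node (Tr.node Tr.leaf 181569 6
 Tr.leaf) 181583 6
 Tr.leaf) 181591 7
 (Tr.node Tr.leaf 181593 7
 Tr.leaf)))) 181595 7
 (Tr.node (Tr.node (Tr.node (Tr.node (Tr.node Tr.leaf 181603 6
 Tr.leaf) 181621 6
 Tr.leaf) 181637 6
 (Tr.node (Tr.node Tr.leaf 181641 6
 Tr.leaf) 181651 6
 Tr.leaf)) 181671 6
 (Tr.node (Tr.node (Tr.node Tr.leaf 181683 7
 Tr.leaf) 181695 7
 Tr.leaf) 181703 7
 (Tr.node (Tr.node Tr.leaf 181713 7
 Tr.leaf) 181715 7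
 Tr.leaf))) 181727 7
 (Tr.node (Tr.node (Tr.node (Tr.node Tr.leaf 181733 6
 Tr.leaf) 181735 7
 Tr.leaf) 181739 7
 (Tr.node (Tr.node Tr.leaf 181757 8
 Tr.leaf) 181759 7
 Tr.leaf)) 182274 6
 (Tr.node (Tr.node (Tr.node Tr.leaf 182277 6
 Tr.leaf) 182278 6
 Tr.leaf) 182283 6
 (Tr.node Tr.leaf 182298 6
 Tr.leaf))))) 182309 6
 (Tr.node (Tr.node (Tr.node (Tr.node (Tr.node (Tr.node Tr.leaf 182310 7
 Tr.leaf) 182329 7
 Tr.leaf) 182334 7
 (Tr.node (Tr.node Tr.leaf 182337 6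
 Tr.leaf) 182338 6
 Tr.leaf)) 182355 6
 (Tr.node (Tr.node (Tr.node Tr.leaf 182369 6
 Tr.leaf) 182370 7
 Tr.leaf) 182374 6
 (Tr.node (Tr.node Tr.leaf 182379 7
 Tr.leaf) 182391 5
 Tr.leaf))) 182397 5
 (Tr.node (Tr.node (Tr.node (Tr.node Tr.leaf 182403 7
 Tr.leaf) 182407 7
 Tr.leaf) 182409 6
 (Tr.node (Tr.node Tr.leaf 182410 5
 Tr.leaf) 182414 6
 Tr.leaf)) 182417 6
 (Tr.node (Tr.node (Tr.node Tr.leaf 182427 7
 Tr.leaf) 182435 7
 Tr.leaf) 182439 7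
 (Tr.node Tr.leaf 182441 7
 Tr.leaf)))) 182442 6
 (Tr.node (Tr.node (Tr.node (Tr.node (Tr.node Tr.leaf 182449 7
 Tr.leaf) 182450 6
 Tr.leaf) 182453 6
 (Tr.node (Tr.node Tr.leaf 182454 7
 Tr.leaf) 182463 7
 Tr.leaf)) 182467 6
 (Tr.node (Tr.node (Tr.node Tr.leaf 182474 7
 Tr.leaf) 182481 7
 Tr.leaf) 182485 6
 (Tr.node Tr.leaf 182486 6
 Tr.leaf))) 182505 7
 (Tr.node (Tr.node (Tr.node (Tr.node Tr.leaf 182510 6
 Tr.leaf) 182514 7
 Tr.leaf) 182518 7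
 (Tr.node (Tr.node Tr.leaf 182527 8
 Tr.leaf) 182530 6
 Tr.leaf)) 182543 6
 (Tr.node (Tr.node (Tr.node Tr.leaf 182547 6
 Tr.leaf) 182551 6
 Tr.leaf) 182553 6
 (Tr.node Tr.leaf 182557 7
 Tr.leaf)))))) 182558 7
 (Tr.node (Tr.node (Tr.node (Tr.node (Tr.node (Tr.node (Tr.node Tr.leaf 182562 7
 Tr.leaf) 182566 6
 Tr.leaf) 182571 6
 (Tr.node (Tr.node Tr.leaf 182579 7
 Tr.leaf) 182583 6
 Tr.leaf)) 182589 7
 (Tr.node (Tr.node (Tr.node Tr.leaf 182590 7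
 Tr.leaf) 182597 6
 Tr.leaf) 182598 6
 (Tr.node (Tr.node Tr.leaf 182603 6
 Tr.leaf) 182607 7
 Tr.leaf))) 182615 6
 (Tr.node (Tr.node (Tr.node (Tr.node Tr.leaf 182617 7
 Tr.leaf) 182626 6
 Tr.leaf) 182629 6
 (Tr.node (Tr.node Tr.leaf 182635 7
 Tr.leaf) 182643 7
 Tr.leaf)) 182647 7
 (Tr.node (Tr.node (Tr.node Tr.leaf 182649 7
 Tr.leaf) 182654 6
 Tr.leaf) 182663 7
 (Tr.node Tr.leaf 182665 7
 Tr.leaf)))) 182666 6
 (Tr.node (Tr.node (Tr.node (Tr.node (Tr.node Tr.leaf 182669 7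
 Tr.leaf) 182670 7
 Tr.leaf) 182673 6
 (Tr.node (Tr.node Tr.leaf 182683 8
 Tr.leaf) 182687 7
 Tr.leaf)) 182691 7
 (Tr.node (Tr.node (Tr.node Tr.leaf 182695 6
 Tr.leaf) 182697 7
 Tr.leaf) 182706 6
 (Tr.node (Tr.node Tr.leaf 182709 7
 Tr.leaf) 182734 6
 Tr.leaf))) 182737 7
 (Tr.node (Tr.node (Tr.node (Tr.node Tr.leaf 182742 6
 Tr.leaf) 182751 7
 Tr.leaf) 182759 7
 (Tr.node (Tr.node Tr.leaf 182761 7
 Tr.leaf) 182762 5
 Tr.leaf)) 182766 6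
 (Tr.node (Tr.node (Tr.node Tr.leaf 182769 6
 Tr.leaf) 182779 8
 Tr.leaf) 182783 7
 (Tr.node Tr.leaf 183307 6
 Tr.leaf))))) 183311 7
 (Tr.node (Tr.node (Tr.node (Tr.node (Tr.node (Tr.node Tr.leaf 183313 7
 Tr.leaf) 183315 6
 Tr.leaf) 183317 7
 (Tr.node (Tr.node Tr.leaf 183337 7
 Tr.leaf) 183339 7
 Tr.leaf)) 183347 6
 (Tr.node (Tr.node (Tr.node Tr.leaf 183351 6
 Tr.leaf) 183377 7
 Tr.leaf) 183379 6
 (Tr.node (Tr.node Tr.leaf 183381 7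
 Tr.leaf) 183383 6
 Tr.leaf))) 183401 6
 (Tr.node (Tr.node (Tr.node (Tr.node Tr.leaf 183403 7
 Tr.leaf) 183405 6
 Tr.leaf) 183407 7
 (Tr.node (Tr.node Tr.leaf 183411 7
 Tr.leaf) 183427 7
 Tr.leaf)) 183429 7
 (Tr.node (Tr.node (Tr.node Tr.leaf 183431 6
 Tr.leaf) 183449 7
 Tr.leaf) 183451 7
 (Tr.node Tr.leaf 183453 8
 Tr.leaf)))) 183455 6
 (Tr.node (Tr.node (Tr.node (Tr.node (Tr.node Tr.leaf 183461 6
 Tr.leaf) 183481 8
 Tr.leaf) 183491 7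
 (Tr.node (Tr.node Tr.leaf 183493 6
 Tr.leaf) 183515 7
 Tr.leaf)) 183519 7
 (Tr.node (Tr.node (Tr.node Tr.leaf 183521 6
 Tr.leaf) 183523 7
 Tr.leaf) 183527 7
 (Tr.node Tr.leaf 183545 7
 Tr.leaf))) 183561 7
 (Tr.node (Tr.node (Tr.node (Tr.node Tr.leaf 183563 7
 Tr.leaf) 183565 7
 Tr.leaf) 183567 7
 (Tr.node (Tr.node Tr.leaf 183575 7
 Tr.leaf) 183593 6
 Tr.leaf)) 183597 5
 (Tr.node (Tr.node (Tr.node Tr.leaf 183599 6
 Tr.leaf) 183601 7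
 Tr.leaf) 183625 6
 (Tr.node Tr.leaf 183633 7
 Tr.leaf))))))))

/-- A subtree. -/
def tr1_s45 : Tr := (Tr.node (Tr.node (Tr.node (Tr.node (Tr.node (Tr.node (Tr.node (Tr.node (Tr.node Tr.leaf 183637 6
 Tr.leaf) 183639 7
 Tr.leaf) 183659 7
 (Tr.node (Tr.node Tr.leaf 183665 7
 Tr.leaf) 183683 6
 Tr.leaf)) 183705 7
 (Tr.node (Tr.node (Tr.node Tr.leaf 183707 7
 Tr.leaf) 183747 6
 Tr.leaf) 183749 6
 (Tr.node (Tr.node Tr.leaf 183751 7
 Tr.leaf) 183775 8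
 Tr.leaf))) 183777 7
 (Tr.node (Tr.node (Tr.node (Tr.node Tr.leaf 183779 7
 Tr.leaf) 183781 6
 Tr.leaf) 183783 7
 (Tr.node (Tr.node Tr.leaf 183801 7
 Tr.leaf) 183803 8
 Tr.leaf)) 184322 6
 (Tr.node (Tr.node (Tr.node Tr.leaf 184327 7
 Tr.leaf) 184329 6
 Tr.leaf) 184330 5
 (Tr.node Tr.leaf 184332 6
 Tr.leaf)))) 184341 5
 (Tr.node (Tr.node (Tr.node (Tr.node (Tr.node Tr.leaf 184342 7
 Tr.leaf) 184349 6
 Tr.leaf) 184359 6
 (Tr.node (Tr.node Tr.leaf 184362 5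
 Tr.leaf) 184381 5
 Tr.leaf)) 184382 6
 (Tr.node (Tr.node (Tr.node Tr.leaf 184391 6
 Tr.leaf) 184394 5
 Tr.leaf) 184399 6
 (Tr.node (Tr.node Tr.leaf 184403 7
 Tr.leaf) 184405 6
 Tr.leaf))) 184411 6
 (Tr.node (Tr.node (Tr.node (Tr.node Tr.leaf 184413 7
 Tr.leaf) 184417 6
 Tr.leaf) 184418 6
 (Tr.node (Tr.node Tr.leaf 184420 6
 Tr.leaf) 184431 6
 Tr.leaf)) 184437 6
 (Tr.node (Tr.node (Tr.node Tr.leaf 184443 6
 Tr.leaf) 184446 6
 Tr.leaf) 184453 5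
 (Tr.node Tr.leaf 184459 7
 Tr.leaf))))) 184465 6
 (Tr.node (Tr.node (Tr.node (Tr.node (Tr.node (Tr.node Tr.leaf 184471 7
 Tr.leaf) 184473 6
 Tr.leaf) 184474 6
 (Tr.node (Tr.node Tr.leaf 184476 6
 Tr.leaf) 184479 7
 Tr.leaf)) 184483 6
 (Tr.node (Tr.node (Tr.node Tr.leaf 184486 6
 Tr.leaf) 184493 5
 Tr.leaf) 184494 6
 (Tr.node (Tr.node Tr.leaf 184503 7
 Tr.leaf) 184508 6
 Tr.leaf))) 184511 7
 (Tr.node (Tr.node (Tr.node (Tr.node Tr.leaf 184515 6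
 Tr.leaf) 184517 6
 Tr.leaf) 184523 6
 (Tr.node (Tr.node Tr.leaf 184525 7
 Tr.leaf) 184526 7
 Tr.leaf)) 184529 6
 (Tr.node (Tr.node (Tr.node Tr.leaf 184530 6
 Tr.leaf) 184532 6
 Tr.leaf) 184535 7
 (Tr.node Tr.leaf 184543 8
 Tr.leaf)))) 184549 6
 (Tr.node (Tr.node (Tr.node (Tr.node (Tr.node Tr.leaf 184562 7
 Tr.leaf) 184564 6
 Tr.leaf) 184575 7
 (Tr.node (Tr.node Tr.leaf 184577 6
 Tr.leaf) 184578 6
 Tr.leaf)) 184580 6
 (Tr.node (Tr.node (Tr.node Tr.leaf 184591 6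
 Tr.leaf) 184598 6
 Tr.leaf) 184603 6
 (Tr.node Tr.leaf 184610 5
 Tr.leaf))) 184615 6
 (Tr.node (Tr.node (Tr.node (Tr.node Tr.leaf 184617 6
 Tr.leaf) 184618 5
 Tr.leaf) 184620 6
 (Tr.node (Tr.node Tr.leaf 184627 6
 Tr.leaf) 184629 7
 Tr.leaf)) 184630 7
 (Tr.node (Tr.node (Tr.node Tr.leaf 184635 7
 Tr.leaf) 184642 5
 Tr.leaf) 184649 6
 (Tr.node Tr.leaf 184650 6
 Tr.leaf)))))) 184652 6
 (Tr.node (Tr.node (Tr.node (Tr.node (Tr.node (Tr.node (Tr.node Tr.leaf 184659 7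
 Tr.leaf) 184662 6
 Tr.leaf) 184667 6
 (Tr.node (Tr.node Tr.leaf 184679 6
 Tr.leaf) 184682 5
 Tr.leaf)) 184687 7
 (Tr.node (Tr.node (Tr.node Tr.leaf 184691 6
 Tr.leaf) 184693 6
 Tr.leaf) 184701 6
 (Tr.node (Tr.node Tr.leaf 184707 6
 Tr.leaf) 184715 6
 Tr.leaf))) 184721 7
 (Tr.node (Tr.node (Tr.node (Tr.node Tr.leaf 184722 7
 Tr.leaf) 184724 7
 Tr.leaf) 184739 6
 (Tr.node (Tr.node Tr.leaf 184741 7
 Tr.leaf) 184749 6
 Tr.leaf)) 184759 8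
 (Tr.node (Tr.node (Tr.node Tr.leaf 184761 6
 Tr.leaf) 184762 6
 Tr.leaf) 184764 6
 (Tr.node Tr.leaf 184767 7
 Tr.leaf)))) 184771 7
 (Tr.node (Tr.node (Tr.node (Tr.node (Tr.node Tr.leaf 184774 6
 Tr.leaf) 184782 6
 Tr.leaf) 184785 7
 (Tr.node (Tr.node Tr.leaf 184788 6
 Tr.leaf) 184793 7
 Tr.leaf)) 184794 7
 (Tr.node (Tr.node (Tr.node Tr.leaf 184796 7
 Tr.leaf) 184803 7
 Tr.leaf) 184805 6
 (Tr.node (Tr.node Tr.leaf 184813 6
 Tr.leaf) 184814 7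
 Tr.leaf))) 184817 6
 (Tr.node (Tr.node (Tr.node (Tr.node Tr.leaf 184818 6
 Tr.leaf) 184820 6
 Tr.leaf) 184823 7
 (Tr.node (Tr.node Tr.leaf 184825 6
 Tr.leaf) 184831 7
 Tr.leaf)) 185349 7
 (Tr.node (Tr.node (Tr.node Tr.leaf 185363 5
 Tr.leaf) 185369 6
 Tr.leaf) 185383 6
 (Tr.node Tr.leaf 185389 7
 Tr.leaf))))) 185391 7
 (Tr.node (Tr.node (Tr.node (Tr.node (Tr.node (Tr.node Tr.leaf 185403 6
 Tr.leaf) 185415 6
 Tr.leaf) 185421 7
 (Tr.node (Tr.node Tr.leaf 185423 7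
 Tr.leaf) 185425 7
 Tr.leaf)) 185433 7
 (Tr.node (Tr.node (Tr.node Tr.leaf 185435 6
 Tr.leaf) 185445 7
 Tr.leaf) 185447 7
 (Tr.node (Tr.node Tr.leaf 185453 6
 Tr.leaf) 185459 6
 Tr.leaf))) 185465 6
 (Tr.node (Tr.node (Tr.node (Tr.node Tr.leaf 185467 5
 Tr.leaf) 185475 5
 Tr.leaf) 185493 8
 (Tr.node (Tr.node Tr.leaf 185495 7
 Tr.leaf) 185501 7
 Tr.leaf)) 185503 8
 (Tr.node (Tr.node (Tr.node Tr.leaf 185505 5
 Tr.leaf) 185507 6
 Tr.leaf) 185513 6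
 (Tr.node Tr.leaf 185527 7
 Tr.leaf)))) 185533 7
 (Tr.node (Tr.node (Tr.node (Tr.node (Tr.node Tr.leaf 185535 7
 Tr.leaf) 185537 7
 Tr.leaf) 185539 6
 (Tr.node (Tr.node Tr.leaf 185559 8
 Tr.leaf) 185565 7
 Tr.leaf)) 185569 6
 (Tr.node (Tr.node (Tr.node Tr.leaf 185597 7
 Tr.leaf) 185619 6
 Tr.leaf) 185625 7
 (Tr.node Tr.leaf 185627 6
 Tr.leaf))) 185637 7
 (Tr.node (Tr.node (Tr.node (Tr.node Tr.leaf 185639 7
 Tr.leaf) 185669 7
 Tr.leaf) 185671 7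
 (Tr.node (Tr.node Tr.leaf 185681 6
 Tr.leaf) 185683 7
 Tr.leaf)) 185689 6
 (Tr.node (Tr.node (Tr.node Tr.leaf 185691 6
 Tr.leaf) 185701 6
 Tr.leaf) 185711 7
 (Tr.node Tr.leaf 185713 7
 Tr.leaf))))))) 185715 7
 (Tr.node (Tr.node (Tr.node (Tr.node (Tr.node (Tr.node (Tr.node (Tr.node Tr.leaf 185721 6
 Tr.leaf) 185729 6
 Tr.leaf) 185731 6
 (Tr.node (Tr.node Tr.leaf 185737 6
 Tr.leaf) 185739 7
 Tr.leaf)) 185749 7
 (Tr.node (Tr.node (Tr.node Tr.leaf 185751 7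
 Tr.leaf) 185757 7
 Tr.leaf) 185759 7
 (Tr.node (Tr.node Tr.leaf 185761 6
 Tr.leaf) 185763 7
 Tr.leaf))) 185771 6
 (Tr.node (Tr.node (Tr.node (Tr.node Tr.leaf 185783 7
 Tr.leaf) 185789 8
 Tr.leaf) 185791 7
 (Tr.node (Tr.node Tr.leaf 185793 7
 Tr.leaf) 185795 6
 Tr.leaf)) 185801 6
 (Tr.node (Tr.node (Tr.node Tr.leaf 185821 7
 Tr.leaf) 185823 8
 Tr.leaf) 185827 7
 (Tr.node Tr.leaf 185833 6
 Tr.leaf)))) 185845 8
 (Tr.node (Tr.node (Tr.node (Tr.node (Tr.node Tr.leaf 185853 7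
 Tr.leaf) 185855 8
 Tr.leaf) 186371 7
 (Tr.node (Tr.node Tr.leaf 186375 7
 Tr.leaf) 186379 7
 Tr.leaf)) 186385 7
 (Tr.node (Tr.node (Tr.node Tr.leaf 186386 6
 Tr.leaf) 186390 6
 Tr.leaf) 186393 7
 (Tr.node (Tr.node Tr.leaf 186394 6
 Tr.leaf) 186398 6
 Tr.leaf))) 186403 6
 (Tr.node (Tr.node (Tr.node (Tr.node Tr.leaf 186407 7
 Tr.leaf) 186411 7
 Tr.leaf) 186415 7
 (Tr.node (Tr.node Tr.leaf 186417 7
 Tr.leaf) 186418 6
 Tr.leaf)) 186422 6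
 (Tr.node (Tr.node (Tr.node Tr.leaf 186425 6
 Tr.leaf) 186426 7
 Tr.leaf) 186429 7
 (Tr.node Tr.leaf 186430 6
 Tr.leaf))))) 186443 6
 (Tr.node (Tr.node (Tr.node (Tr.node (Tr.node (Tr.node Tr.leaf 186447 6
 Tr.leaf) 186450 6
 Tr.leaf) 186453 6
 (Tr.node (Tr.node Tr.leaf 186454 6
 Tr.leaf) 186457 6
 Tr.leaf)) 186462 7
 (Tr.node (Tr.node (Tr.node Tr.leaf 186475 7
 Tr.leaf) 186479 6
 Tr.leaf) 186482 6
 (Tr.node (Tr.node Tr.leaf 186485 7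
 Tr.leaf) 186493 6
 Tr.leaf))) 186494 6
 (Tr.node (Tr.node (Tr.node (Tr.node Tr.leaf 186501 7
 Tr.leaf) 186502 6
 Tr.leaf) 186505 7
 (Tr.node (Tr.node Tr.leaf 186510 6
 Tr.leaf) 186523 7
 Tr.leaf)) 186529 6
 (Tr.node (Tr.node (Tr.node Tr.leaf 186530 6
 Tr.leaf) 186537 7
 Tr.leaf) 186538 6
 (Tr.node Tr.leaf 186541 6
 Tr.leaf)))) 186542 7
 (Tr.node (Tr.node (Tr.node (Tr.node (Tr.node Tr.leaf 186547 7
 Tr.leaf) 186566 5
 Tr.leaf) 186569 6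
 (Tr.node (Tr.node Tr.leaf 186573 6
 Tr.leaf) 186579 7
 Tr.leaf)) 186583 7
 (Tr.node (Tr.node (Tr.node Tr.leaf 186593 7
 Tr.leaf) 186598 6
 Tr.leaf) 186602 6
 (Tr.node Tr.leaf 186605 7
 Tr.leaf))) 186606 6
 (Tr.node (Tr.node (Tr.node (Tr.node Tr.leaf 186623 7
 Tr.leaf) 186635 6
 Tr.leaf) 186639 6
 (Tr.node (Tr.node Tr.leaf 186641 7
 Tr.leaf) 186645 7
 Tr.leaf)) 186649 6
 (Tr.node (Tr.node (Tr.node Tr.leaf 186650 7
 Tr.leaf) 186654 6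
 Tr.leaf) 186659 6
 (Tr.node Tr.leaf 186663 6
 Tr.leaf)))))) 186671 7
 (Tr.node (Tr.node (Tr.node (Tr.node (Tr.node (Tr.node (Tr.node Tr.leaf 186673 6
 Tr.leaf) 186677 6
 Tr.leaf) 186682 6
 (Tr.node (Tr.node Tr.leaf 186685 7
 Tr.leaf) 186691 7
 Tr.leaf)) 186695 7
 (Tr.node (Tr.node (Tr.node Tr.leaf 186705 7
 Tr.leaf) 186709 6
 Tr.leaf) 186713 7
 (Tr.node (Tr.node Tr.leaf 186714 6
 Tr.leaf) 186718 5
 Tr.leaf))) 186731 7
 (Tr.node (Tr.node (Tr.node (Tr.node Tr.leaf 186735 7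
 Tr.leaf) 186738 5
 Tr.leaf) 186745 7
 (Tr.node (Tr.node Tr.leaf 186746 6
 Tr.leaf) 186754 6
 Tr.leaf)) 186757 7
 (Tr.node (Tr.node (Tr.node Tr.leaf 186758 6
 Tr.leaf) 186762 6
 Tr.leaf) 186765 6
 (Tr.node Tr.leaf 186766 7
 Tr.leaf)))) 186779 7
 (Tr.node (Tr.node (Tr.node (Tr.node (Tr.node Tr.leaf 186783 7
 Tr.leaf) 186786 7
 Tr.leaf) 186789 6
 (Tr.node (Tr.node Tr.leaf 186794 6
 Tr.leaf) 186797 7
 Tr.leaf)) 186798 6
 (Tr.node (Tr.node (Tr.node Tr.leaf 186815 7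
 Tr.leaf) 186817 6
 Tr.leaf) 186821 7
 (Tr.node Tr.leaf 186825 7
 Tr.leaf))) 186829 7
 (Tr.node (Tr.node (Tr.node (Tr.node Tr.leaf 186849 6
 Tr.leaf) 186850 6
 Tr.leaf) 186854 6
 (Tr.node (Tr.node Tr.leaf 186858 6
 Tr.leaf) 186861 7
 Tr.leaf)) 186862 6
 (Tr.node (Tr.node (Tr.node Tr.leaf 186867 8
 Tr.leaf) 186871 7
 Tr.leaf) 187393 7
 (Tr.node Tr.leaf 187395 7
 Tr.leaf))))) 187397 7
 (Tr.node (Tr.node (Tr.node (Tr.node (Tr.node (Tr.node Tr.leaf 187399 7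
 Tr.leaf) 187401 7
 Tr.leaf) 187425 6
 (Tr.node (Tr.node Tr.leaf 187433 7
 Tr.leaf) 187435 7
 Tr.leaf)) 187437 7
 (Tr.node (Tr.node (Tr.node Tr.leaf 187439 7
 Tr.leaf) 187459 7
 Tr.leaf) 187461 6
 (Tr.node (Tr.node Tr.leaf 187463 6
 Tr.leaf) 187465 7
 Tr.leaf))) 187467 7
 (Tr.node (Tr.node (Tr.node (Tr.node Tr.leaf 187469 7
 Tr.leaf) 187503 6
 Tr.leaf) 187539 8
 (Tr.node (Tr.node Tr.leaf 187543 8
 Tr.leaf) 187545 7
 Tr.leaf)) 187547 7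
 (Tr.node (Tr.node (Tr.node Tr.leaf 187549 7
 Tr.leaf) 187569 7
 Tr.leaf) 187579 8
 (Tr.node Tr.leaf 187581 8
 Tr.leaf)))) 187603 7
 (Tr.node (Tr.node (Tr.node (Tr.node (Tr.node Tr.leaf 187605 7
 Tr.leaf) 187607 7
 Tr.leaf) 187611 8
 (Tr.node (Tr.node Tr.leaf 187615 7
 Tr.leaf) 187633 8
 Tr.leaf)) 187639 8
 (Tr.node (Tr.node (Tr.node Tr.leaf 187647 7
 Tr.leaf) 187653 7
 Tr.leaf) 187655 7
 (Tr.node Tr.leaf 187659 6
 Tr.leaf))) 187661 6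
 (Tr.node (Tr.node (Tr.node (Tr.node Tr.leaf 187683 7
 Tr.leaf) 187685 7
 Tr.leaf) 187687 7
 (Tr.node (Tr.node Tr.leaf 187695 7
 Tr.leaf) 187713 7
 Tr.leaf)) 187715 7
 (Tr.node (Tr.node (Tr.node Tr.leaf 187717 7
 Tr.leaf) 187719 7
 Tr.leaf) 187721 7
 (Tr.node Tr.leaf 187723 7
 Tr.leaf))))))))

/-- A subtree. -/
def tr1_s46 : Tr := (Tr.node (Tr.node (Tr.node (Tr.node (Tr.node (Tr.node (Tr.node (Tr.node (Tr.node Tr.leaf 187747 6
 Tr.leaf) 187749 7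
 Tr.leaf) 187753 7
 (Tr.node (Tr.node Tr.leaf 187755 7
 Tr.leaf) 187757 7
 Tr.leaf)) 187759 7
 (Tr.node (Tr.node (Tr.node Tr.leaf 187795 8
 Tr.leaf) 187799 7
 Tr.leaf) 187801 8
 (Tr.node (Tr.node Tr.leaf 187803 7
 Tr.leaf) 187805 7
 Tr.leaf))) 187807 8
 (Tr.node (Tr.node (Tr.node (Tr.node Tr.leaf 187825 7
 Tr.leaf) 187829 8
 Tr.leaf) 187835 7
 (Tr.node (Tr.node Tr.leaf 187837 7
 Tr.leaf) 187839 8
 Tr.leaf)) 187859 7
 (Tr.node (Tr.node (Tr.node Tr.leaf 187861 7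
 Tr.leaf) 187865 7
 Tr.leaf) 187869 8
 (Tr.node Tr.leaf 187889 7
 Tr.leaf)))) 187891 7
 (Tr.node (Tr.node (Tr.node (Tr.node (Tr.node Tr.leaf 187893 7
 Tr.leaf) 187897 8
 Tr.leaf) 187901 8
 (Tr.node (Tr.node Tr.leaf 188417 6
 Tr.leaf) 188436 7
 Tr.leaf)) 188443 7
 (Tr.node (Tr.node (Tr.node Tr.leaf 188445 6
 Tr.leaf) 188446 6
 Tr.leaf) 188452 7
 (Tr.node (Tr.node Tr.leaf 188455 6
 Tr.leaf) 188459 7
 Tr.leaf))) 188468 6
 (Tr.node (Tr.node (Tr.node (Tr.node Tr.leaf 188471 5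
 Tr.leaf) 188477 7
 Tr.leaf) 188482 6
 (Tr.node (Tr.node Tr.leaf 188484 7
 Tr.leaf) 188493 7
 Tr.leaf)) 188494 6
 (Tr.node (Tr.node (Tr.node Tr.leaf 188497 6
 Tr.leaf) 188500 6
 Tr.leaf) 188509 7
 (Tr.node Tr.leaf 188510 5
 Tr.leaf))))) 188513 6
 (Tr.node (Tr.node (Tr.node (Tr.node (Tr.node (Tr.node Tr.leaf 188514 6
 Tr.leaf) 188516 6
 Tr.leaf) 188520 6
 (Tr.node (Tr.node Tr.leaf 188525 6
 Tr.leaf) 188526 7
 Tr.leaf)) 188536 5
 (Tr.node (Tr.node (Tr.node Tr.leaf 188539 7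
 Tr.leaf) 188541 7
 Tr.leaf) 188549 7
 (Tr.node (Tr.node Tr.leaf 188553 7
 Tr.leaf) 188554 5
 Tr.leaf))) 188563 7
 (Tr.node (Tr.node (Tr.node (Tr.node Tr.leaf 188565 7
 Tr.leaf) 188579 6
 Tr.leaf) 188581 7
 (Tr.node (Tr.node Tr.leaf 188588 6
 Tr.leaf) 188591 8
 Tr.leaf)) 188595 6
 (Tr.node (Tr.node (Tr.node Tr.leaf 188597 6
 Tr.leaf) 188601 7
 Tr.leaf) 188602 7
 (Tr.node Tr.leaf 188617 7
 Tr.leaf)))) 188618 6
 (Tr.node (Tr.node (Tr.node (Tr.node (Tr.node Tr.leaf 188620 7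
 Tr.leaf) 188629 7
 Tr.leaf) 188630 5
 (Tr.node (Tr.node Tr.leaf 188633 7
 Tr.leaf) 188634 6
 Tr.leaf)) 188636 6
 (Tr.node (Tr.node (Tr.node Tr.leaf 188639 8
 Tr.leaf) 188645 7
 Tr.leaf) 188646 6
 (Tr.node Tr.leaf 188655 8
 Tr.leaf))) 188661 7
 (Tr.node (Tr.node (Tr.node (Tr.node Tr.leaf 188665 7
 Tr.leaf) 188668 7
 Tr.leaf) 188673 6
 (Tr.node (Tr.node Tr.leaf 188674 6
 Tr.leaf) 188676 6
 Tr.leaf)) 188680 5
 (Tr.node (Tr.node (Tr.node Tr.leaf 188685 7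
 Tr.leaf) 188686 6
 Tr.leaf) 188692 6
 (Tr.node Tr.leaf 188695 6
 Tr.leaf)))))) 188696 6
 (Tr.node (Tr.node (Tr.node (Tr.node (Tr.node (Tr.node (Tr.node Tr.leaf 188699 7
 Tr.leaf) 188701 6
 Tr.leaf) 188706 6
 (Tr.node (Tr.node Tr.leaf 188708 6
 Tr.leaf) 188711 6
 Tr.leaf)) 188715 7
 (Tr.node (Tr.node (Tr.node Tr.leaf 188718 6
 Tr.leaf) 188727 6
 Tr.leaf) 188731 6
 (Tr.node (Tr.node Tr.leaf 188740 6
 Tr.leaf) 188743 5
 Tr.leaf))) 188747 6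
 (Tr.node (Tr.node (Tr.node (Tr.node Tr.leaf 188749 6
 Tr.leaf) 188750 7
 Tr.leaf) 188753 6
 (Tr.node (Tr.node Tr.leaf 188754 6
 Tr.leaf) 188759 6
 Tr.leaf)) 188769 6
 (Tr.node (Tr.node (Tr.node Tr.leaf 188775 6
 Tr.leaf) 188779 7
 Tr.leaf) 188782 6
 (Tr.node Tr.leaf 188786 5
 Tr.leaf)))) 188788 6
 (Tr.node (Tr.node (Tr.node (Tr.node (Tr.node Tr.leaf 188791 7
 Tr.leaf) 188795 7
 Tr.leaf) 188798 6
 (Tr.node (Tr.node Tr.leaf 188805 7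
 Tr.leaf) 188806 7
 Tr.leaf)) 188819 6
 (Tr.node (Tr.node (Tr.node Tr.leaf 188821 7
 Tr.leaf) 188822 6
 Tr.leaf) 188831 7
 (Tr.node (Tr.node Tr.leaf 188835 7
 Tr.leaf) 188838 6
 Tr.leaf))) 188841 7
 (Tr.node (Tr.node (Tr.node (Tr.node Tr.leaf 188842 5
 Tr.leaf) 188844 5
 Tr.leaf) 188847 8
 (Tr.node (Tr.node Tr.leaf 188858 6
 Tr.leaf) 188867 7
 Tr.leaf)) 188870 7
 (Tr.node (Tr.node (Tr.node Tr.leaf 188879 7
 Tr.leaf) 188892 6
 Tr.leaf) 188899 7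
 (Tr.node Tr.leaf 188901 7
 Tr.leaf))))) 188902 7
 (Tr.node (Tr.node (Tr.node (Tr.node (Tr.node (Tr.node Tr.leaf 188905 7
 Tr.leaf) 188906 7
 Tr.leaf) 188908 7
 (Tr.node (Tr.node Tr.leaf 188915 7
 Tr.leaf) 188917 7
 Tr.leaf)) 188918 7
 (Tr.node (Tr.node (Tr.node Tr.leaf 188921 7
 Tr.leaf) 188922 6
 Tr.leaf) 188924 7
 (Tr.node (Tr.node Tr.leaf 189445 7
 Tr.leaf) 189447 7
 Tr.leaf))) 189461 7
 (Tr.node (Tr.node (Tr.node (Tr.node Tr.leaf 189463 6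
 Tr.leaf) 189465 7
 Tr.leaf) 189479 7
 (Tr.node (Tr.node Tr.leaf 189481 7
 Tr.leaf) 189483 7
 Tr.leaf)) 189499 6
 (Tr.node (Tr.node (Tr.node Tr.leaf 189509 7
 Tr.leaf) 189511 6
 Tr.leaf) 189513 6
 (Tr.node Tr.leaf 189525 6
 Tr.leaf)))) 189529 7
 (Tr.node (Tr.node (Tr.node (Tr.node (Tr.node Tr.leaf 189543 6
 Tr.leaf) 189547 6
 Tr.leaf) 189557 7
 (Tr.node (Tr.node Tr.leaf 189559 7
 Tr.leaf) 189561 6
 Tr.leaf)) 189563 7
 (Tr.node (Tr.node (Tr.node Tr.leaf 189569 7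
 Tr.leaf) 189585 7
 Tr.leaf) 189587 6
 (Tr.node Tr.leaf 189597 7
 Tr.leaf))) 189599 7
 (Tr.node (Tr.node (Tr.node (Tr.node Tr.leaf 189601 7
 Tr.leaf) 189619 6
 Tr.leaf) 189631 7
 (Tr.node (Tr.node Tr.leaf 189633 6
 Tr.leaf) 189635 6
 Tr.leaf)) 189645 7
 (Tr.node (Tr.node (Tr.node Tr.leaf 189649 7
 Tr.leaf) 189665 7
 Tr.leaf) 189667 6
 (Tr.node Tr.leaf 189681 7
 Tr.leaf))))))) 189683 7
 (Tr.node (Tr.node (Tr.node (Tr.node (Tr.node (Tr.node (Tr.node (Tr.node Tr.leaf 189695 7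
 Tr.leaf) 189703 7
 Tr.leaf) 189707 6
 (Tr.node (Tr.node Tr.leaf 189717 6
 Tr.leaf) 189719 7
 Tr.leaf)) 189721 6
 (Tr.node (Tr.node (Tr.node Tr.leaf 189723 7
 Tr.leaf) 189733 6
 Tr.leaf) 189735 6
 (Tr.node (Tr.node Tr.leaf 189739 7
 Tr.leaf) 189753 6
 Tr.leaf))) 189755 7
 (Tr.node (Tr.node (Tr.node (Tr.node Tr.leaf 189769 7
 Tr.leaf) 189771 6
 Tr.leaf) 189783 7
 (Tr.node (Tr.node Tr.leaf 189797 7
 Tr.leaf) 189813 6
 Tr.leaf)) 189817 7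
 (Tr.node (Tr.node (Tr.node Tr.leaf 189819 7
 Tr.leaf) 189827 7
 Tr.leaf) 189837 7
 (Tr.node Tr.leaf 189841 6
 Tr.leaf)))) 189859 7
 (Tr.node (Tr.node (Tr.node (Tr.node (Tr.node Tr.leaf 189869 8
 Tr.leaf) 189873 6
 Tr.leaf) 189903 7
 (Tr.node (Tr.node Tr.leaf 189905 7
 Tr.leaf) 189907 7
 Tr.leaf)) 189935 7
 (Tr.node (Tr.node (Tr.node Tr.leaf 189937 6
 Tr.leaf) 189939 7
 Tr.leaf) 189949 7
 (Tr.node (Tr.node Tr.leaf 190473 7
 Tr.leaf) 190478 5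
 Tr.leaf))) 190483 7
 (Tr.node (Tr.node (Tr.node (Tr.node Tr.leaf 190487 6
 Tr.leaf) 190489 7
 Tr.leaf) 190494 7
 (Tr.node (Tr.node Tr.leaf 190503 6
 Tr.leaf) 190505 7
 Tr.leaf)) 190506 6
 (Tr.node (Tr.node (Tr.node Tr.leaf 190510 5
 Tr.leaf) 190515 6
 Tr.leaf) 190521 7
 (Tr.node Tr.leaf 190526 6
 Tr.leaf))))) 190538 5
 (Tr.node (Tr.node (Tr.node (Tr.node (Tr.node (Tr.node Tr.leaf 190541 7
 Tr.leaf) 190558 6
 Tr.leaf) 190567 7
 (Tr.node (Tr.node Tr.leaf 190569 7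
 Tr.leaf) 190570 7
 Tr.leaf)) 190573 6
 (Tr.node (Tr.node (Tr.node Tr.leaf 190574 6
 Tr.leaf) 190579 6
 Tr.leaf) 190583 6
 (Tr.node (Tr.node Tr.leaf 190585 6
 Tr.leaf) 190590 6
 Tr.leaf))) 190594 6
 (Tr.node (Tr.node (Tr.node (Tr.node Tr.leaf 190597 7
 Tr.leaf) 190598 6
 Tr.leaf) 190603 8
 (Tr.node (Tr.node Tr.leaf 190607 8
 Tr.leaf) 190610 7
 Tr.leaf)) 190614 7
 (Tr.node (Tr.node (Tr.node Tr.leaf 190619 8
 Tr.leaf) 190629 6
 Tr.leaf) 190630 6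
 (Tr.node Tr.leaf 190639 7
 Tr.leaf)))) 190645 6
 (Tr.node (Tr.node (Tr.node (Tr.node (Tr.node Tr.leaf 190646 7
 Tr.leaf) 190657 7
 Tr.leaf) 190661 6
 (Tr.node (Tr.node Tr.leaf 190662 6
 Tr.leaf) 190667 7
 Tr.leaf)) 190673 7
 (Tr.node (Tr.node (Tr.node Tr.leaf 190674 7
 Tr.leaf) 190677 5
 Tr.leaf) 190689 6
 (Tr.node Tr.leaf 190703 7
 Tr.leaf))) 190706 6
 (Tr.node (Tr.node (Tr.node (Tr.node Tr.leaf 190710 6
 Tr.leaf) 190723 7
 Tr.leaf) 190729 7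
 (Tr.node (Tr.node Tr.leaf 190730 6
 Tr.leaf) 190733 6
 Tr.leaf)) 190734 7
 (Tr.node (Tr.node (Tr.node Tr.leaf 190739 6
 Tr.leaf) 190746 6
 Tr.leaf) 190749 6
 (Tr.node Tr.leaf 190755 7
 Tr.leaf)))))) 190759 7
 (Tr.node (Tr.node (Tr.node (Tr.node (Tr.node (Tr.node (Tr.node Tr.leaf 190761 6
 Tr.leaf) 190762 6
 Tr.leaf) 190765 7
 (Tr.node (Tr.node Tr.leaf 190775 7
 Tr.leaf) 190777 6
 Tr.leaf)) 190782 5
 (Tr.node (Tr.node (Tr.node Tr.leaf 190787 6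
 Tr.leaf) 190794 6
 Tr.leaf) 190809 7
 (Tr.node (Tr.node Tr.leaf 190810 6
 Tr.leaf) 190814 6
 Tr.leaf))) 190819 6
 (Tr.node (Tr.node (Tr.node (Tr.node Tr.leaf 190823 7
 Tr.leaf) 190825 7
 Tr.leaf) 190835 7
 (Tr.node (Tr.node Tr.leaf 190839 7
 Tr.leaf) 190841 7
 Tr.leaf)) 190842 5
 (Tr.node (Tr.node (Tr.node Tr.leaf 190849 6
 Tr.leaf) 190850 6
 Tr.leaf) 190853 7
 (Tr.node Tr.leaf 190854 6
 Tr.leaf)))) 190859 7
 (Tr.node (Tr.node (Tr.node (Tr.node (Tr.node Tr.leaf 190865 7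
 Tr.leaf) 190875 6
 Tr.leaf) 190885 7
 (Tr.node (Tr.node Tr.leaf 190891 7
 Tr.leaf) 190898 5
 Tr.leaf)) 190901 7
 (Tr.node (Tr.node (Tr.node Tr.leaf 190902 7
 Tr.leaf) 190907 8
 Tr.leaf) 190913 7
 (Tr.node Tr.leaf 190918 7
 Tr.leaf))) 190923 7
 (Tr.node (Tr.node (Tr.node (Tr.node Tr.leaf 190929 7
 Tr.leaf) 190930 6
 Tr.leaf) 190933 6
 (Tr.node (Tr.node Tr.leaf 190949 7
 Tr.leaf) 190959 8
 Tr.leaf)) 190962 5
 (Tr.node (Tr.node (Tr.node Tr.leaf 190966 6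
 Tr.leaf) 190971 8
 Tr.leaf) 191489 5
 (Tr.node Tr.leaf 191493 7
 Tr.leaf))))) 191505 7
 (Tr.node (Tr.node (Tr.node (Tr.node (Tr.node (Tr.node Tr.leaf 191509 7
 Tr.leaf) 191511 6
 Tr.leaf) 191521 7
 (Tr.node (Tr.node Tr.leaf 191523 7
 Tr.leaf) 191525 6
 Tr.leaf)) 191527 6
 (Tr.node (Tr.node (Tr.node Tr.leaf 191539 7
 Tr.leaf) 191543 6
 Tr.leaf) 191553 7
 (Tr.node (Tr.node Tr.leaf 191559 5
 Tr.leaf) 191569 7
 Tr.leaf))) 191573 7
 (Tr.node (Tr.node (Tr.node (Tr.node Tr.leaf 191575 6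
 Tr.leaf) 191587 7
 Tr.leaf) 191591 6
 (Tr.node (Tr.node Tr.leaf 191601 6
 Tr.leaf) 191603 7
 Tr.leaf)) 191607 7
 (Tr.node (Tr.node (Tr.node Tr.leaf 191627 8
 Tr.leaf) 191631 7
 Tr.leaf) 191643 7
 (Tr.node Tr.leaf 191647 6
 Tr.leaf)))) 191675 7
 (Tr.node (Tr.node (Tr.node (Tr.node (Tr.node Tr.leaf 191677 7
 Tr.leaf) 191679 7
 Tr.leaf) 191689 7
 (Tr.node (Tr.node Tr.leaf 191693 7
 Tr.leaf) 191707 6
 Tr.leaf)) 191709 6
 (Tr.node (Tr.node (Tr.node Tr.leaf 191711 8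
 Tr.leaf) 191721 7
 Tr.leaf) 191723 7
 (Tr.node Tr.leaf 191737 7
 Tr.leaf))) 191747 7
 (Tr.node (Tr.node (Tr.node (Tr.node Tr.leaf 191751 6
 Tr.leaf) 191763 7
 Tr.leaf) 191765 7
 (Tr.node (Tr.node Tr.leaf 191767 7
 Tr.leaf) 191777 6
 Tr.leaf)) 191783 7
 (Tr.node (Tr.node (Tr.node Tr.leaf 191793 5
 Tr.leaf) 191797 6
 Tr.leaf) 191811 7
 (Tr.node Tr.leaf 191815 7
 Tr.leaf))))))))

/-- A subtree. -/
def tr1_s47 : Tr := (Tr.node (Tr.node (Tr.node (Tr.node (Tr.node (Tr.node (Tr.node (Tr.node (Tr.node Tr.leaf 191831 7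
 Tr.leaf) 191859 7
 Tr.leaf) 191861 6
 (Tr.node (Tr.node Tr.leaf 191863 5
 Tr.leaf) 191881 7
 Tr.leaf)) 191883 7
 (Tr.node (Tr.node (Tr.node Tr.leaf 191887 7
 Tr.leaf) 191901 7
 Tr.leaf) 191903 7
 (Tr.node (Tr.node Tr.leaf 191913 7
 Tr.leaf) 191929 7
 Tr.leaf))) 191933 7
 (Tr.node (Tr.node (Tr.node (Tr.node Tr.leaf 191935 7
 Tr.leaf) 191945 7
 Tr.leaf) 191965 7
 (Tr.node (Tr.node Tr.leaf 191967 7
 Tr.leaf) 191997 7
 Tr.leaf)) 191999 8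
 (Tr.node (Tr.node (Tr.node Tr.leaf 192517 6
 Tr.leaf) 192526 5
 Tr.leaf) 192531 6
 (Tr.node Tr.leaf 192534 7
 Tr.leaf)))) 192539 7
 (Tr.node (Tr.node (Tr.node (Tr.node (Tr.node Tr.leaf 192549 6
 Tr.leaf) 192550 6
 Tr.leaf) 192555 7
 (Tr.node (Tr.node Tr.leaf 192558 6
 Tr.leaf) 192563 6
 Tr.leaf)) 192565 6
 (Tr.node (Tr.node (Tr.node Tr.leaf 192566 7
 Tr.leaf) 192571 5
 Tr.leaf) 192573 5
 (Tr.node (Tr.node Tr.leaf 192579 7
 Tr.leaf) 192582 5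
 Tr.leaf))) 192589 7
 (Tr.node (Tr.node (Tr.node (Tr.node Tr.leaf 192590 7
 Tr.leaf) 192597 7
 Tr.leaf) 192605 6
 (Tr.node (Tr.node Tr.leaf 192613 7
 Tr.leaf) 192621 7
 Tr.leaf)) 192622 6
 (Tr.node (Tr.node (Tr.node Tr.leaf 192627 7
 Tr.leaf) 192629 7
 Tr.leaf) 192630 6
 (Tr.node Tr.leaf 192637 7
 Tr.leaf))))) 192641 7
 (Tr.node (Tr.node (Tr.node (Tr.node (Tr.node (Tr.node Tr.leaf 192644 7
 Tr.leaf) 192647 8
 Tr.leaf) 192649 7
 (Tr.node (Tr.node Tr.leaf 192650 7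
 Tr.leaf) 192652 7
 Tr.leaf)) 192655 7
 (Tr.node (Tr.node (Tr.node Tr.leaf 192665 7
 Tr.leaf) 192666 7
 Tr.leaf) 192668 7
 (Tr.node (Tr.node Tr.leaf 192673 6
 Tr.leaf) 192674 6
 Tr.leaf))) 192679 7
 (Tr.node (Tr.node (Tr.node (Tr.node Tr.leaf 192687 7
 Tr.leaf) 192692 5
 Tr.leaf) 192695 7
 (Tr.node (Tr.node Tr.leaf 192697 7
 Tr.leaf) 192698 7
 Tr.leaf)) 192700 7
 (Tr.node (Tr.node (Tr.node Tr.leaf 192703 7
 Tr.leaf) 192706 5
 Tr.leaf) 192708 5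
 (Tr.node Tr.leaf 192711 7
 Tr.leaf)))) 192713 7
 (Tr.node (Tr.node (Tr.node (Tr.node (Tr.node Tr.leaf 192714 7
 Tr.leaf) 192716 6
 Tr.leaf) 192722 6
 (Tr.node (Tr.node Tr.leaf 192727 7
 Tr.leaf) 192737 6
 Tr.leaf)) 192738 6
 (Tr.node (Tr.node (Tr.node Tr.leaf 192740 6
 Tr.leaf) 192743 7
 Tr.leaf) 192748 6
 (Tr.node Tr.leaf 192753 7
 Tr.leaf))) 192754 7
 (Tr.node (Tr.node (Tr.node (Tr.node Tr.leaf 192756 7
 Tr.leaf) 192761 7
 Tr.leaf) 192762 5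
 (Tr.node (Tr.node Tr.leaf 192774 6
 Tr.leaf) 192782 6
 Tr.leaf)) 192787 6
 (Tr.node (Tr.node (Tr.node Tr.leaf 192790 5
 Tr.leaf) 192803 7
 Tr.leaf) 192805 6
 (Tr.node Tr.leaf 192806 7
 Tr.leaf)))))) 192811 7
 (Tr.node (Tr.node (Tr.node (Tr.node (Tr.node (Tr.node (Tr.node Tr.leaf 192827 6
 Tr.leaf) 192830 5
 Tr.leaf) 192835 5
 (Tr.node (Tr.node Tr.leaf 192837 5
 Tr.leaf) 192845 7
 Tr.leaf)) 192853 6
 (Tr.node (Tr.node (Tr.node Tr.leaf 192854 6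
 Tr.leaf) 192862 6
 Tr.leaf) 192875 6
 (Tr.node (Tr.node Tr.leaf 192877 7
 Tr.leaf) 192883 7
 Tr.leaf))) 192885 6
 (Tr.node (Tr.node (Tr.node (Tr.node Tr.leaf 192886 5
 Tr.leaf) 192891 6
 Tr.leaf) 192894 6
 (Tr.node (Tr.node Tr.leaf 192897 7
 Tr.leaf) 192898 6
 Tr.leaf)) 192900 7
 (Tr.node (Tr.node (Tr.node Tr.leaf 192903 7
 Tr.leaf) 192916 6
 Tr.leaf) 192919 7
 (Tr.node Tr.leaf 192921 6
 Tr.leaf)))) 192922 6
 (Tr.node (Tr.node (Tr.node (Tr.node (Tr.node Tr.leaf 192924 6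
 Tr.leaf) 192927 7
 Tr.leaf) 192929 7
 (Tr.node (Tr.node Tr.leaf 192930 7
 Tr.leaf) 192932 7
 Tr.leaf)) 192937 7
 (Tr.node (Tr.node (Tr.node Tr.leaf 192938 6
 Tr.leaf) 192948 6
 Tr.leaf) 192954 6
 (Tr.node (Tr.node Tr.leaf 192956 6
 Tr.leaf) 192967 7
 Tr.leaf))) 192970 7
 (Tr.node (Tr.node (Tr.node (Tr.node Tr.leaf 192972 6
 Tr.leaf) 192983 7
 Tr.leaf) 192985 6
 (Tr.node (Tr.node Tr.leaf 192986 6
 Tr.leaf) 192993 7
 Tr.leaf)) 193001 7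
 (Tr.node (Tr.node (Tr.node Tr.leaf 193002 7
 Tr.leaf) 193004 7
 Tr.leaf) 193007 7
 (Tr.node Tr.leaf 193015 8
 Tr.leaf))))) 193537 5
 (Tr.node (Tr.node (Tr.node (Tr.node (Tr.node (Tr.node Tr.leaf 193545 7
 Tr.leaf) 193553 7
 Tr.leaf) 193555 6
 (Tr.node (Tr.node Tr.leaf 193561 7
 Tr.leaf) 193563 7
 Tr.leaf)) 193569 7
 (Tr.node (Tr.node (Tr.node Tr.leaf 193571 7
 Tr.leaf) 193577 6
 Tr.leaf) 193579 7
 (Tr.node (Tr.node Tr.leaf 193585 6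
 Tr.leaf) 193587 6
 Tr.leaf))) 193601 6
 (Tr.node (Tr.node (Tr.node (Tr.node Tr.leaf 193603 6
 Tr.leaf) 193611 5
 Tr.leaf) 193625 6
 (Tr.node (Tr.node Tr.leaf 193635 7
 Tr.leaf) 193649 7
 Tr.leaf)) 193651 7
 (Tr.node (Tr.node (Tr.node Tr.leaf 193657 7
 Tr.leaf) 193659 7
 Tr.leaf) 193669 7
 (Tr.node Tr.leaf 193671 7
 Tr.leaf)))) 193687 7
 (Tr.node (Tr.node (Tr.node (Tr.node (Tr.node Tr.leaf 193695 7
 Tr.leaf) 193701 7
 Tr.leaf) 193703 7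
 (Tr.node (Tr.node Tr.leaf 193717 8
 Tr.leaf) 193719 6
 Tr.leaf)) 193725 6
 (Tr.node (Tr.node (Tr.node Tr.leaf 193727 7
 Tr.leaf) 193733 7
 Tr.leaf) 193735 7
 (Tr.node Tr.leaf 193743 8
 Tr.leaf))) 193751 7
 (Tr.node (Tr.node (Tr.node (Tr.node Tr.leaf 193757 7
 Tr.leaf) 193765 7
 Tr.leaf) 193767 7
 (Tr.node (Tr.node Tr.leaf 193781 6
 Tr.leaf) 193795 7
 Tr.leaf)) 193809 6
 (Tr.node (Tr.node (Tr.node Tr.leaf 193811 6
 Tr.leaf) 193817 7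
 Tr.leaf) 193819 7
 (Tr.node Tr.leaf 193825 7
 Tr.leaf))))))) 193827 6
 (Tr.node (Tr.node (Tr.node (Tr.node (Tr.node (Tr.node (Tr.node (Tr.node Tr.leaf 193833 7
 Tr.leaf) 193835 7
 Tr.leaf) 193841 5
 (Tr.node (Tr.node Tr.leaf 193867 6
 Tr.leaf) 193875 6
 Tr.leaf)) 193883 7
 (Tr.node (Tr.node (Tr.node Tr.leaf 193907 7
 Tr.leaf) 193913 7
 Tr.leaf) 193915 5
 (Tr.node (Tr.node Tr.leaf 193949 7
 Tr.leaf) 193959 7
 Tr.leaf))) 193967 7
 (Tr.node (Tr.node (Tr.node (Tr.node Tr.leaf 193975 7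
 Tr.leaf) 193983 8
 Tr.leaf) 193999 7
 (Tr.node (Tr.node Tr.leaf 194013 7
 Tr.leaf) 194029 7
 Tr.leaf)) 194031 7
 (Tr.node (Tr.node (Tr.node Tr.leaf 194037 7
 Tr.leaf) 194045 7
 Tr.leaf) 194561 5
 (Tr.node Tr.leaf 194565 7
 Tr.leaf)))) 194566 5
 (Tr.node (Tr.node (Tr.node (Tr.node (Tr.node Tr.leaf 194569 7
 Tr.leaf) 194570 4
 Tr.leaf) 194577 7
 (Tr.node (Tr.node Tr.leaf 194581 6
 Tr.leaf) 194585 7
 Tr.leaf)) 194586 6
 (Tr.node (Tr.node (Tr.node Tr.leaf 194593 7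
 Tr.leaf) 194601 7
 Tr.leaf) 194605 6
 (Tr.node (Tr.node Tr.leaf 194610 6
 Tr.leaf) 194617 7
 Tr.leaf))) 194618 7
 (Tr.node (Tr.node (Tr.node (Tr.node Tr.leaf 194629 6
 Tr.leaf) 194630 5
 Tr.leaf) 194634 5
 (Tr.node (Tr.node Tr.leaf 194637 5
 Tr.leaf) 194638 6
 Tr.leaf)) 194642 6
 (Tr.node (Tr.node (Tr.node Tr.leaf 194649 7
 Tr.leaf) 194650 6
 Tr.leaf) 194653 6
 (Tr.node Tr.leaf 194658 7
 Tr.leaf))))) 194662 6
 (Tr.node (Tr.node (Tr.node (Tr.node (Tr.node (Tr.node Tr.leaf 194666 6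
 Tr.leaf) 194674 6
 Tr.leaf) 194685 6
 (Tr.node (Tr.node Tr.leaf 194686 5
 Tr.leaf) 194719 7
 Tr.leaf)) 194723 7
 (Tr.node (Tr.node (Tr.node Tr.leaf 194727 7
 Tr.leaf) 194735 7
 Tr.leaf) 194739 7
 (Tr.node (Tr.node Tr.leaf 194747 6
 Tr.leaf) 194755 7
 Tr.leaf))) 194759 7
 (Tr.node (Tr.node (Tr.node (Tr.node Tr.leaf 194767 8
 Tr.leaf) 194779 7
 Tr.leaf) 194783 7
 (Tr.node (Tr.node Tr.leaf 194787 7
 Tr.leaf) 194811 7
 Tr.leaf)) 194815 7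
 (Tr.node (Tr.node (Tr.node Tr.leaf 194818 6
 Tr.leaf) 194821 7
 Tr.leaf) 194829 7
 (Tr.node Tr.leaf 194830 6
 Tr.leaf)))) 194837 6
 (Tr.node (Tr.node (Tr.node (Tr.node (Tr.node Tr.leaf 194838 6
 Tr.leaf) 194841 6
 Tr.leaf) 194842 5
 (Tr.node (Tr.node Tr.leaf 194845 6
 Tr.leaf) 194850 7
 Tr.leaf)) 194853 7
 (Tr.node (Tr.node (Tr.node Tr.leaf 194854 6
 Tr.leaf) 194858 7
 Tr.leaf) 194861 7
 (Tr.node Tr.leaf 194862 6
 Tr.leaf))) 194865 5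
 (Tr.node (Tr.node (Tr.node (Tr.node Tr.leaf 194869 6
 Tr.leaf) 194870 5
 Tr.leaf) 194873 6
 (Tr.node (Tr.node Tr.leaf 194874 5
 Tr.leaf) 194877 7
 Tr.leaf)) 194881 7
 (Tr.node (Tr.node (Tr.node Tr.leaf 194882 6
 Tr.leaf) 194889 7
 Tr.leaf) 194894 6
 (Tr.node Tr.leaf 194897 6
 Tr.leaf)))))) 194898 7
 (Tr.node (Tr.node (Tr.node (Tr.node (Tr.node (Tr.node (Tr.node Tr.leaf 194901 7
 Tr.leaf) 194902 7
 Tr.leaf) 194905 7
 (Tr.node (Tr.node Tr.leaf 194910 6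
 Tr.leaf) 194913 7
 Tr.leaf)) 194914 7
 (Tr.node (Tr.node (Tr.node Tr.leaf 194918 6
 Tr.leaf) 194921 6
 Tr.leaf) 194925 7
 (Tr.node (Tr.node Tr.leaf 194926 6
 Tr.leaf) 194929 7
 Tr.leaf))) 194934 5
 (Tr.node (Tr.node (Tr.node (Tr.node Tr.leaf 194937 7
 Tr.leaf) 194938 5
 Tr.leaf) 194941 5
 (Tr.node (Tr.node Tr.leaf 194942 7
 Tr.leaf) 194947 8
 Tr.leaf)) 194955 7
 (Tr.node (Tr.node (Tr.node Tr.leaf 194959 7
 Tr.leaf) 194963 7
 Tr.leaf) 194971 6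
 (Tr.node Tr.leaf 194975 7
 Tr.leaf)))) 194983 7
 (Tr.node (Tr.node (Tr.node (Tr.node (Tr.node Tr.leaf 194987 6
 Tr.leaf) 195003 8
 Tr.leaf) 195011 7
 (Tr.node (Tr.node Tr.leaf 195027 7
 Tr.leaf) 195035 7
 Tr.leaf)) 195039 7
 (Tr.node (Tr.node (Tr.node Tr.leaf 195067 7
 Tr.leaf) 195071 7
 Tr.leaf) 195719 7
 (Tr.node Tr.leaf 195725 8
 Tr.leaf))) 195729 7
 (Tr.node (Tr.node (Tr.node (Tr.node Tr.leaf 195733 7
 Tr.leaf) 195735 7
 Tr.leaf) 195737 7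
 (Tr.node (Tr.node Tr.leaf 195743 7
 Tr.leaf) 195745 7
 Tr.leaf)) 195749 8
 (Tr.node (Tr.node (Tr.node Tr.leaf 195753 8
 Tr.leaf) 195755 7
 Tr.leaf) 195761 7
 (Tr.node Tr.leaf 195763 7
 Tr.leaf))))) 195765 8
 (Tr.node (Tr.node (Tr.node (Tr.node (Tr.node (Tr.node Tr.leaf 195767 7
 Tr.leaf) 195777 7
 Tr.leaf) 195781 7
 (Tr.node (Tr.node Tr.leaf 195783 8
 Tr.leaf) 195789 8
 Tr.leaf)) 195791 7
 (Tr.node (Tr.node (Tr.node Tr.leaf 195797 8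
 Tr.leaf) 195799 8
 Tr.leaf) 195805 7
 (Tr.node (Tr.node Tr.leaf 195807 7
 Tr.leaf) 195809 7
 Tr.leaf))) 195811 7
 (Tr.node (Tr.node (Tr.node (Tr.node Tr.leaf 195813 7
 Tr.leaf) 195817 8
 Tr.leaf) 195819 8
 (Tr.node (Tr.node Tr.leaf 195825 7
 Tr.leaf) 195829 8
 Tr.leaf)) 195831 7
 (Tr.node (Tr.node (Tr.node Tr.leaf 195835 7
 Tr.leaf) 195839 7
 Tr.leaf) 195971 7
 (Tr.node Tr.leaf 195973 8
 Tr.leaf)))) 195979 7
 (Tr.node (Tr.node (Tr.node (Tr.node (Tr.node Tr.leaf 195981 7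
 Tr.leaf) 195993 7
 Tr.leaf) 195995 7
 (Tr.node (Tr.node Tr.leaf 195997 7
 Tr.leaf) 196011 7
 Tr.leaf)) 196015 7
 (Tr.node (Tr.node (Tr.node Tr.leaf 196017 7
 Tr.leaf) 196021 8
 Tr.leaf) 196023 8
 (Tr.node Tr.leaf 196033 7
 Tr.leaf))) 196037 7
 (Tr.node (Tr.node (Tr.node (Tr.node Tr.leaf 196045 7
 Tr.leaf) 196053 7
 Tr.leaf) 196055 8
 (Tr.node (Tr.node Tr.leaf 196057 7
 Tr.leaf) 196059 8
 Tr.leaf)) 196061 7
 (Tr.node (Tr.node (Tr.node Tr.leaf 196063 7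
 Tr.leaf) 196065 7
 Tr.leaf) 196067 7
 (Tr.node Tr.leaf 196069 7
 Tr.leaf))))))))

/-- A subtree. -/
def tr1_s48 : Tr := (Tr.node (Tr.node (Tr.node (Tr.node (Tr.node (Tr.node (Tr.node (Tr.node (Tr.node Tr.leaf 196077 7
 Tr.leaf) 196081 8
 Tr.leaf) 196083 8
 (Tr.node (Tr.node Tr.leaf 196085 7
 Tr.leaf) 196093 7
 Tr.leaf)) 196609 4
 (Tr.node (Tr.node (Tr.node Tr.leaf 196610 4
 Tr.leaf) 196612 4
 Tr.leaf) 196616 4
 (Tr.node (Tr.node Tr.leaf 196619 6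
 Tr.leaf) 196622 5
 Tr.leaf))) 196624 3
 (Tr.node (Tr.node (Tr.node (Tr.node Tr.leaf 196630 5
 Tr.leaf) 196634 7
 Tr.leaf) 196636 6
 (Tr.node (Tr.node Tr.leaf 196639 7
 Tr.leaf) 196640 3
 Tr.leaf)) 196643 6
 (Tr.node (Tr.node (Tr.node Tr.leaf 196645 7
 Tr.leaf) 196646 5
 Tr.leaf) 196649 6
 (Tr.node Tr.leaf 196667 7
 Tr.leaf)))) 196675 6
 (Tr.node (Tr.node (Tr.node (Tr.node (Tr.node Tr.leaf 196681 6
 Tr.leaf) 196682 5
 Tr.leaf) 196684 5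
 (Tr.node (Tr.node Tr.leaf 196687 7
 Tr.leaf) 196689 7
 Tr.leaf)) 196695 7
 (Tr.node (Tr.node (Tr.node Tr.leaf 196699 6
 Tr.leaf) 196701 7
 Tr.leaf) 196702 6
 (Tr.node (Tr.node Tr.leaf 196705 7
 Tr.leaf) 196706 7
 Tr.leaf))) 196708 6
 (Tr.node (Tr.node (Tr.node (Tr.node Tr.leaf 196711 7
 Tr.leaf) 196718 6
 Tr.leaf) 196723 6
 (Tr.node (Tr.node Tr.leaf 196729 6
 Tr.leaf) 196735 7
 Tr.leaf)) 196737 4
 (Tr.node (Tr.node (Tr.node Tr.leaf 196738 4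
 Tr.leaf) 196740 4
 Tr.leaf) 196743 6
 (Tr.node Tr.leaf 196744 4
 Tr.leaf))))) 196750 6
 (Tr.node (Tr.node (Tr.node (Tr.node (Tr.node (Tr.node Tr.leaf 196752 3
 Tr.leaf) 196755 6
 Tr.leaf) 196757 6
 (Tr.node (Tr.node Tr.leaf 196762 6
 Tr.leaf) 196764 6
 Tr.leaf)) 196768 3
 (Tr.node (Tr.node (Tr.node Tr.leaf 196771 6
 Tr.leaf) 196773 6
 Tr.leaf) 196778 6
 (Tr.node (Tr.node Tr.leaf 196780 6
 Tr.leaf) 196785 5
 Tr.leaf))) 196791 6
 (Tr.node (Tr.node (Tr.node (Tr.node Tr.leaf 196792 6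
 Tr.leaf) 196798 5
 Tr.leaf) 196806 6
 (Tr.node (Tr.node Tr.leaf 196820 6
 Tr.leaf) 196823 6
 Tr.leaf)) 196827 7
 (Tr.node (Tr.node (Tr.node Tr.leaf 196834 6
 Tr.leaf) 196839 6
 Tr.leaf) 196845 7
 (Tr.node Tr.leaf 196848 6
 Tr.leaf)))) 196858 5
 (Tr.node (Tr.node (Tr.node (Tr.node (Tr.node Tr.leaf 196860 5
 Tr.leaf) 196865 4
 Tr.leaf) 196866 3
 (Tr.node (Tr.node Tr.leaf 196868 3
 Tr.leaf) 196872 4
 Tr.leaf)) 196880 3
 (Tr.node (Tr.node (Tr.node Tr.leaf 196883 6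
 Tr.leaf) 196890 6
 Tr.leaf) 196896 3
 (Tr.node Tr.leaf 196901 6
 Tr.leaf))) 196908 6
 (Tr.node (Tr.node (Tr.node (Tr.node Tr.leaf 196913 5
 Tr.leaf) 196914 6
 Tr.leaf) 196916 6
 (Tr.node (Tr.node Tr.leaf 196923 5
 Tr.leaf) 196925 5
 Tr.leaf)) 196926 5
 (Tr.node (Tr.node (Tr.node Tr.leaf 196931 6
 Tr.leaf) 196933 6
 Tr.leaf) 196938 7
 (Tr.node Tr.leaf 196940 7
 Tr.leaf)))))) 196943 7
 (Tr.node (Tr.node (Tr.node (Tr.node (Tr.node (Tr.node (Tr.node Tr.leaf 196945 6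
 Tr.leaf) 196946 5
 Tr.leaf) 196948 6
 (Tr.node (Tr.node Tr.leaf 196955 5
 Tr.leaf) 196957 5
 Tr.leaf)) 196961 6
 (Tr.node (Tr.node (Tr.node Tr.leaf 196962 6
 Tr.leaf) 196964 5
 Tr.leaf) 196971 5
 (Tr.node (Tr.node Tr.leaf 196973 5
 Tr.leaf) 196986 4
 Tr.leaf))) 196988 4
 (Tr.node (Tr.node (Tr.node (Tr.node Tr.leaf 196991 7
 Tr.leaf) 196993 4
 Tr.leaf) 196994 4
 (Tr.node (Tr.node Tr.leaf 196996 4
 Tr.leaf) 197000 4
 Tr.leaf)) 197005 6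
 (Tr.node (Tr.node (Tr.node Tr.leaf 197006 5
 Tr.leaf) 197008 3
 Tr.leaf) 197011 7
 (Tr.node Tr.leaf 197013 6
 Tr.leaf)))) 197014 6
 (Tr.node (Tr.node (Tr.node (Tr.node (Tr.node Tr.leaf 197017 6
 Tr.leaf) 197024 3
 Tr.leaf) 197030 5
 (Tr.node (Tr.node Tr.leaf 197034 6
 Tr.leaf) 197036 7
 Tr.leaf)) 197039 7
 (Tr.node (Tr.node (Tr.node Tr.leaf 197053 7
 Tr.leaf) 197061 6
 Tr.leaf) 197065 6
 (Tr.node (Tr.node Tr.leaf 197066 5
 Tr.leaf) 197068 5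
 Tr.leaf))) 197071 7
 (Tr.node (Tr.node (Tr.node (Tr.node Tr.leaf 197073 7
 Tr.leaf) 197074 6
 Tr.leaf) 197076 7
 (Tr.node (Tr.node Tr.leaf 197079 7
 Tr.leaf) 197086 6
 Tr.leaf)) 197089 7
 (Tr.node (Tr.node (Tr.node Tr.leaf 197095 7
 Tr.leaf) 197099 7
 Tr.leaf) 197101 6
 (Tr.node Tr.leaf 197102 6
 Tr.leaf))))) 197109 6
 (Tr.node (Tr.node (Tr.node (Tr.node (Tr.node (Tr.node Tr.leaf 197113 6
 Tr.leaf) 197119 7
 Tr.leaf) 197639 6
 (Tr.node (Tr.node Tr.leaf 197641 6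
 Tr.leaf) 197643 6
 Tr.leaf)) 197649 7
 (Tr.node (Tr.node (Tr.node Tr.leaf 197651 7
 Tr.leaf) 197661 7
 Tr.leaf) 197663 7
 (Tr.node (Tr.node Tr.leaf 197677 7
 Tr.leaf) 197679 7
 Tr.leaf))) 197685 6
 (Tr.node (Tr.node (Tr.node (Tr.node Tr.leaf 197691 7
 Tr.leaf) 197711 6
 Tr.leaf) 197717 6
 (Tr.node (Tr.node Tr.leaf 197719 7
 Tr.leaf) 197721 7
 Tr.leaf)) 197733 6
 (Tr.node (Tr.node (Tr.node Tr.leaf 197735 6
 Tr.leaf) 197739 6
 Tr.leaf) 197777 7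
 (Tr.node Tr.leaf 197805 6
 Tr.leaf)))) 197813 6
 (Tr.node (Tr.node (Tr.node (Tr.node (Tr.node Tr.leaf 197815 6
 Tr.leaf) 197817 7
 Tr.leaf) 197825 6
 (Tr.node (Tr.node Tr.leaf 197837 7
 Tr.leaf) 197839 6
 Tr.leaf)) 197845 6
 (Tr.node (Tr.node (Tr.node Tr.leaf 197847 6
 Tr.leaf) 197849 7
 Tr.leaf) 197863 6
 (Tr.node Tr.leaf 197867 5
 Tr.leaf))) 197873 7
 (Tr.node (Tr.node (Tr.node (Tr.node Tr.leaf 197887 7
 Tr.leaf) 197893 6
 Tr.leaf) 197905 7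
 (Tr.node (Tr.node Tr.leaf 197917 7
 Tr.leaf) 197919 7
 Tr.leaf)) 197921 6
 (Tr.node (Tr.node (Tr.node Tr.leaf 197935 5
 Tr.leaf) 197941 7
 Tr.leaf) 197947 7
 (Tr.node Tr.leaf 197967 7
 Tr.leaf))))))) 197975 6
 (Tr.node (Tr.node (Tr.node (Tr.node (Tr.node (Tr.node (Tr.node (Tr.node Tr.leaf 197991 7
 Tr.leaf) 197993 7
 Tr.leaf) 197995 6
 (Tr.node (Tr.node Tr.leaf 198001 6
 Tr.leaf) 198003 7
 Tr.leaf)) 198013 8
 (Tr.node (Tr.node (Tr.node Tr.leaf 198015 8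
 Tr.leaf) 198023 6
 Tr.leaf) 198035 7
 (Tr.node (Tr.node Tr.leaf 198049 6
 Tr.leaf) 198063 6
 Tr.leaf))) 198071 5
 (Tr.node (Tr.node (Tr.node (Tr.node Tr.leaf 198073 7
 Tr.leaf) 198075 6
 Tr.leaf) 198081 6
 (Tr.node (Tr.node Tr.leaf 198105 7
 Tr.leaf) 198119 6
 Tr.leaf)) 198121 6
 (Tr.node (Tr.node (Tr.node Tr.leaf 198129 6
 Tr.leaf) 198141 8
 Tr.leaf) 198143 7
 (Tr.node Tr.leaf 198659 6
 Tr.leaf)))) 198666 6
 (Tr.node (Tr.node (Tr.node (Tr.node (Tr.node Tr.leaf 198677 6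
 Tr.leaf) 198683 6
 Tr.leaf) 198689 7
 (Tr.node (Tr.node Tr.leaf 198707 5
 Tr.leaf) 198713 6
 Tr.leaf)) 198717 7
 (Tr.node (Tr.node (Tr.node Tr.leaf 198718 6
 Tr.leaf) 198722 6
 Tr.leaf) 198725 6
 (Tr.node (Tr.node Tr.leaf 198739 6
 Tr.leaf) 198746 5
 Tr.leaf))) 198749 6
 (Tr.node (Tr.node (Tr.node (Tr.node Tr.leaf 198750 6
 Tr.leaf) 198765 7
 Tr.leaf) 198766 5
 (Tr.node (Tr.node Tr.leaf 198770 5
 Tr.leaf) 198773 6
 Tr.leaf)) 198779 7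
 (Tr.node (Tr.node (Tr.node Tr.leaf 198783 7
 Tr.leaf) 198798 5
 Tr.leaf) 198806 6
 (Tr.node Tr.leaf 198815 5
 Tr.leaf))))) 198821 7
 (Tr.node (Tr.node (Tr.node (Tr.node (Tr.node (Tr.node Tr.leaf 198822 6
 Tr.leaf) 198835 6
 Tr.leaf) 198839 6
 (Tr.node (Tr.node Tr.leaf 198842 5
 Tr.leaf) 198845 7
 Tr.leaf)) 198846 7
 (Tr.node (Tr.node (Tr.node Tr.leaf 198853 6
 Tr.leaf) 198859 6
 Tr.leaf) 198863 7
 (Tr.node (Tr.node Tr.leaf 198867 6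
 Tr.leaf) 198873 5
 Tr.leaf))) 198874 5
 (Tr.node (Tr.node (Tr.node (Tr.node Tr.leaf 198883 6
 Tr.leaf) 198887 6
 Tr.leaf) 198890 6
 (Tr.node (Tr.node Tr.leaf 198893 7
 Tr.leaf) 198894 7
 Tr.leaf)) 198898 5
 (Tr.node (Tr.node (Tr.node Tr.leaf 198901 7
 Tr.leaf) 198902 6
 Tr.leaf) 198907 7
 (Tr.node Tr.leaf 198919 6
 Tr.leaf)))) 198922 6
 (Tr.node (Tr.node (Tr.node (Tr.node (Tr.node Tr.leaf 198926 6
 Tr.leaf) 198930 5
 Tr.leaf) 198933 6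
 (Tr.node (Tr.node Tr.leaf 198939 6
 Tr.leaf) 198946 6
 Tr.leaf)) 198949 7
 (Tr.node (Tr.node (Tr.node Tr.leaf 198955 7
 Tr.leaf) 198959 7
 Tr.leaf) 198967 7
 (Tr.node Tr.leaf 198969 7
 Tr.leaf))) 198974 6
 (Tr.node (Tr.node (Tr.node (Tr.node Tr.leaf 198982 6
 Tr.leaf) 198987 7
 Tr.leaf) 198995 7
 (Tr.node (Tr.node Tr.leaf 199001 7
 Tr.leaf) 199002 7
 Tr.leaf)) 199005 7
 (Tr.node (Tr.node (Tr.node Tr.leaf 199006 6
 Tr.leaf) 199011 6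
 Tr.leaf) 199022 5
 (Tr.node Tr.leaf 199025 7
 Tr.leaf)))))) 199029 6
 (Tr.node (Tr.node (Tr.node (Tr.node (Tr.node (Tr.node (Tr.node Tr.leaf 199030 6
 Tr.leaf) 199035 8
 Tr.leaf) 199039 8
 (Tr.node (Tr.node Tr.leaf 199043 6
 Tr.leaf) 199049 6
 Tr.leaf)) 199050 6
 (Tr.node (Tr.node (Tr.node Tr.leaf 199053 6
 Tr.leaf) 199067 7
 Tr.leaf) 199071 7
 (Tr.node (Tr.node Tr.leaf 199073 7
 Tr.leaf) 199077 7
 Tr.leaf))) 199083 7
 (Tr.node (Tr.node (Tr.node (Tr.node Tr.leaf 199087 7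
 Tr.leaf) 199095 6
 Tr.leaf) 199097 7
 (Tr.node (Tr.node Tr.leaf 199098 6
 Tr.leaf) 199106 6
 Tr.leaf)) 199115 6
 (Tr.node (Tr.node (Tr.node Tr.leaf 199123 6
 Tr.leaf) 199127 6
 Tr.leaf) 199129 6
 (Tr.node Tr.leaf 199130 6
 Tr.leaf)))) 199134 6
 (Tr.node (Tr.node (Tr.node (Tr.node (Tr.node Tr.leaf 199139 7
 Tr.leaf) 199143 6
 Tr.leaf) 199146 6
 (Tr.node (Tr.node Tr.leaf 199149 7
 Tr.leaf) 199158 6
 Tr.leaf)) 199685 6
 (Tr.node (Tr.node (Tr.node Tr.leaf 199707 6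
 Tr.leaf) 199709 7
 Tr.leaf) 199711 6
 (Tr.node (Tr.node Tr.leaf 199723 7
 Tr.leaf) 199727 6
 Tr.leaf))) 199729 6
 (Tr.node (Tr.node (Tr.node (Tr.node Tr.leaf 199731 6
 Tr.leaf) 199733 6
 Tr.leaf) 199753 7
 (Tr.node (Tr.node Tr.leaf 199755 6
 Tr.leaf) 199759 6
 Tr.leaf)) 199761 5
 (Tr.node (Tr.node (Tr.node Tr.leaf 199763 6
 Tr.leaf) 199767 7
 Tr.leaf) 199777 5
 (Tr.node Tr.leaf 199779 6
 Tr.leaf))))) 199781 6
 (Tr.node (Tr.node (Tr.node (Tr.node (Tr.node (Tr.node Tr.leaf 199783 7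
 Tr.leaf) 199801 7
 Tr.leaf) 199803 7
 (Tr.node (Tr.node Tr.leaf 199805 7
 Tr.leaf) 199807 8
 Tr.leaf)) 199809 6
 (Tr.node (Tr.node (Tr.node Tr.leaf 199815 6
 Tr.leaf) 199833 6
 Tr.leaf) 199835 7
 (Tr.node (Tr.node Tr.leaf 199837 6
 Tr.leaf) 199851 7
 Tr.leaf))) 199853 6
 (Tr.node (Tr.node (Tr.node (Tr.node Tr.leaf 199855 6
 Tr.leaf) 199857 7
 Tr.leaf) 199859 7
 (Tr.node (Tr.node Tr.leaf 199863 7
 Tr.leaf) 199885 6
 Tr.leaf)) 199939 6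
 (Tr.node (Tr.node (Tr.node Tr.leaf 199961 6
 Tr.leaf) 199983 6
 Tr.leaf) 200009 6
 (Tr.node Tr.leaf 200015 6
 Tr.leaf)))) 200019 6
 (Tr.node (Tr.node (Tr.node (Tr.node (Tr.node Tr.leaf 200021 5
 Tr.leaf) 200035 6
 Tr.leaf) 200037 5
 (Tr.node (Tr.node Tr.leaf 200057 7
 Tr.leaf) 200061 7
 Tr.leaf)) 200063 7
 (Tr.node (Tr.node (Tr.node Tr.leaf 200069 6
 Tr.leaf) 200089 6
 Tr.leaf) 200091 7
 (Tr.node Tr.leaf 200105 6
 Tr.leaf))) 200107 6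
 (Tr.node (Tr.node (Tr.node (Tr.node Tr.leaf 200109 7
 Tr.leaf) 200115 6
 Tr.leaf) 200117 6
 (Tr.node (Tr.node Tr.leaf 200119 6
 Tr.leaf) 200137 6
 Tr.leaf)) 200139 6
 (Tr.node (Tr.node (Tr.node Tr.leaf 200143 7
 Tr.leaf) 200145 7
 Tr.leaf) 200147 6
 (Tr.node Tr.leaf 200149 6
 Tr.leaf))))))))

/-- A subtree. -/
def tr1_s49 : Tr := (Tr.node (Tr.node (Tr.node (Tr.node (Tr.node (Tr.node (Tr.node (Tr.node (Tr.node Tr.leaf 200161 7
 Tr.leaf) 200163 6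
 Tr.leaf) 200167 6
 (Tr.node (Tr.node Tr.leaf 200185 8
 Tr.leaf) 200187 7
 Tr.leaf)) 200189 7
 (Tr.node (Tr.node (Tr.node Tr.leaf 200191 7
 Tr.leaf) 200709 6
 Tr.leaf) 200710 6
 (Tr.node (Tr.node Tr.leaf 200718 5
 Tr.leaf) 200721 6
 Tr.leaf))) 200722 6
 (Tr.node (Tr.node (Tr.node (Tr.node Tr.leaf 200727 6
 Tr.leaf) 200735 7
 Tr.leaf) 200740 6
 (Tr.node (Tr.node Tr.leaf 200743 6
 Tr.leaf) 200746 6
 Tr.leaf)) 200748 7
 (Tr.node (Tr.node (Tr.node Tr.leaf 200755 7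
 Tr.leaf) 200757 7
 Tr.leaf) 200765 6
 (Tr.node Tr.leaf 200769 6
 Tr.leaf)))) 200772 7
 (Tr.node (Tr.node (Tr.node (Tr.node (Tr.node Tr.leaf 200775 7
 Tr.leaf) 200778 7
 Tr.leaf) 200783 7
 (Tr.node (Tr.node Tr.leaf 200787 7
 Tr.leaf) 200789 7
 Tr.leaf)) 200803 7
 (Tr.node (Tr.node (Tr.node Tr.leaf 200806 7
 Tr.leaf) 200813 7
 Tr.leaf) 200814 7
 (Tr.node (Tr.node Tr.leaf 200817 6
 Tr.leaf) 200818 6
 Tr.leaf))) 200820 6
 (Tr.node (Tr.node (Tr.node (Tr.node Tr.leaf 200823 8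
 Tr.leaf) 200825 7
 Tr.leaf) 200835 6
 (Tr.node (Tr.node Tr.leaf 200838 6
 Tr.leaf) 200845 6
 Tr.leaf)) 200846 6
 (Tr.node (Tr.node (Tr.node Tr.leaf 200855 7
 Tr.leaf) 200857 6
 Tr.leaf) 200858 7
 (Tr.node Tr.leaf 200865 6
 Tr.leaf))))) 200868 7
 (Tr.node (Tr.node (Tr.node (Tr.node (Tr.node (Tr.node Tr.leaf 200879 7
 Tr.leaf) 200885 7
 Tr.leaf) 200886 7
 (Tr.node (Tr.node Tr.leaf 200891 7
 Tr.leaf) 200894 7
 Tr.leaf)) 200897 6
 (Tr.node (Tr.node (Tr.node Tr.leaf 200898 7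
 Tr.leaf) 200900 6
 Tr.leaf) 200903 7
 (Tr.node (Tr.node Tr.leaf 200905 6
 Tr.leaf) 200906 6
 Tr.leaf))) 200908 7
 (Tr.node (Tr.node (Tr.node (Tr.node Tr.leaf 200911 7
 Tr.leaf) 200915 7
 Tr.leaf) 200917 6
 (Tr.node (Tr.node Tr.leaf 200926 5
 Tr.leaf) 200934 5
 Tr.leaf)) 200939 6
 (Tr.node (Tr.node (Tr.node Tr.leaf 200941 7
 Tr.leaf) 200946 6
 Tr.leaf) 200956 6
 (Tr.node Tr.leaf 200963 6
 Tr.leaf)))) 200973 6
 (Tr.node (Tr.node (Tr.node (Tr.node (Tr.node Tr.leaf 200980 6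
 Tr.leaf) 200983 7
 Tr.leaf) 200985 6
 (Tr.node (Tr.node Tr.leaf 200986 7
 Tr.leaf) 200991 7
 Tr.leaf)) 200993 6
 (Tr.node (Tr.node (Tr.node Tr.leaf 200996 7
 Tr.leaf) 200999 7
 Tr.leaf) 201002 6
 (Tr.node Tr.leaf 201007 7
 Tr.leaf))) 201011 6
 (Tr.node (Tr.node (Tr.node (Tr.node Tr.leaf 201013 6
 Tr.leaf) 201019 6
 Tr.leaf) 201021 6
 (Tr.node (Tr.node Tr.leaf 201025 6
 Tr.leaf) 201026 6
 Tr.leaf)) 201033 6
 (Tr.node (Tr.node (Tr.node Tr.leaf 201036 6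
 Tr.leaf) 201043 6
 Tr.leaf) 201045 6
 (Tr.node Tr.leaf 201046 6
 Tr.leaf)))))) 201051 6
 (Tr.node (Tr.node (Tr.node (Tr.node (Tr.node (Tr.node (Tr.node Tr.leaf 201053 6
 Tr.leaf) 201054 7
 Tr.leaf) 201059 6
 (Tr.node (Tr.node Tr.leaf 201061 6
 Tr.leaf) 201062 7
 Tr.leaf)) 201067 6
 (Tr.node (Tr.node (Tr.node Tr.leaf 201069 6
 Tr.leaf) 201070 6
 Tr.leaf) 201073 7
 (Tr.node (Tr.node Tr.leaf 201074 6
 Tr.leaf) 201076 6
 Tr.leaf))) 201081 7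
 (Tr.node (Tr.node (Tr.node (Tr.node Tr.leaf 201082 6
 Tr.leaf) 201084 6
 Tr.leaf) 201094 5
 (Tr.node (Tr.node Tr.leaf 201099 6
 Tr.leaf) 201102 5
 Tr.leaf)) 201106 7
 (Tr.node (Tr.node (Tr.node Tr.leaf 201108 6
 Tr.leaf) 201114 6
 Tr.leaf) 201119 6
 (Tr.node Tr.leaf 201127 7
 Tr.leaf)))) 201129 6
 (Tr.node (Tr.node (Tr.node (Tr.node (Tr.node Tr.leaf 201132 6
 Tr.leaf) 201135 6
 Tr.leaf) 201139 6
 (Tr.node (Tr.node Tr.leaf 201147 7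
 Tr.leaf) 201149 7
 Tr.leaf)) 201156 7
 (Tr.node (Tr.node (Tr.node Tr.leaf 201159 7
 Tr.leaf) 201161 6
 Tr.leaf) 201162 7
 (Tr.node (Tr.node Tr.leaf 201167 7
 Tr.leaf) 201171 7
 Tr.leaf))) 201174 7
 (Tr.node (Tr.node (Tr.node (Tr.node Tr.leaf 201181 7
 Tr.leaf) 201182 7
 Tr.leaf) 201195 7
 (Tr.node (Tr.node Tr.leaf 201197 7
 Tr.leaf) 201201 7
 Tr.leaf)) 201209 6
 (Tr.node (Tr.node (Tr.node Tr.leaf 201210 6
 Tr.leaf) 201212 6
 Tr.leaf) 201215 8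
 (Tr.node Tr.leaf 201749 7
 Tr.leaf))))) 201751 7
 (Tr.node (Tr.node (Tr.node (Tr.node (Tr.node (Tr.node Tr.leaf 201759 7
 Tr.leaf) 201765 6
 Tr.leaf) 201767 7
 (Tr.node (Tr.node Tr.leaf 201773 6
 Tr.leaf) 201775 7
 Tr.leaf)) 201777 6
 (Tr.node (Tr.node (Tr.node Tr.leaf 201787 6
 Tr.leaf) 201797 6
 Tr.leaf) 201799 7
 (Tr.node (Tr.node Tr.leaf 201805 6
 Tr.leaf) 201817 5
 Tr.leaf))) 201819 7
 (Tr.node (Tr.node (Tr.node (Tr.node Tr.leaf 201827 7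
 Tr.leaf) 201833 5
 Tr.leaf) 201845 7
 (Tr.node (Tr.node Tr.leaf 201853 8
 Tr.leaf) 201857 6
 Tr.leaf)) 201859 6
 (Tr.node (Tr.node (Tr.node Tr.leaf 201877 6
 Tr.leaf) 201895 7
 Tr.leaf) 201903 7
 (Tr.node Tr.leaf 201907 7
 Tr.leaf)))) 201913 6
 (Tr.node (Tr.node (Tr.node (Tr.node (Tr.node Tr.leaf 201915 7
 Tr.leaf) 201925 7
 Tr.leaf) 201933 7
 (Tr.node (Tr.node Tr.leaf 201935 6
 Tr.leaf) 201937 6
 Tr.leaf)) 201947 7
 (Tr.node (Tr.node (Tr.node Tr.leaf 201961 7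
 Tr.leaf) 201963 7
 Tr.leaf) 201983 7
 (Tr.node Tr.leaf 201985 6
 Tr.leaf))) 201987 6
 (Tr.node (Tr.node (Tr.node (Tr.node Tr.leaf 202005 7
 Tr.leaf) 202007 7
 Tr.leaf) 202013 7
 (Tr.node (Tr.node Tr.leaf 202015 6
 Tr.leaf) 202029 7
 Tr.leaf)) 202041 6
 (Tr.node (Tr.node (Tr.node Tr.leaf 202055 6
 Tr.leaf) 202063 7
 Tr.leaf) 202073 6
 (Tr.node Tr.leaf 202075 6
 Tr.leaf))))))) 202089 7
 (Tr.node (Tr.node (Tr.node (Tr.node (Tr.node (Tr.node (Tr.node (Tr.node Tr.leaf 202091 7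
 Tr.leaf) 202103 7
 Tr.leaf) 202109 7
 (Tr.node (Tr.node Tr.leaf 202121 6
 Tr.leaf) 202123 6
 Tr.leaf)) 202143 7
 (Tr.node (Tr.node (Tr.node Tr.leaf 202169 7
 Tr.leaf) 202181 6
 Tr.leaf) 202195 6
 (Tr.node (Tr.node Tr.leaf 202201 6
 Tr.leaf) 202203 7
 Tr.leaf))) 202211 6
 (Tr.node (Tr.node (Tr.node (Tr.node Tr.leaf 202231 8
 Tr.leaf) 202237 7
 Tr.leaf) 202239 7
 (Tr.node (Tr.node Tr.leaf 202753 6
 Tr.leaf) 202754 6
 Tr.leaf)) 202757 6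
 (Tr.node (Tr.node (Tr.node Tr.leaf 202762 5
 Tr.leaf) 202787 7
 Tr.leaf) 202802 6
 (Tr.node Tr.leaf 202805 7
 Tr.leaf)))) 202806 6
 (Tr.node (Tr.node (Tr.node (Tr.node (Tr.node Tr.leaf 202810 6
 Tr.leaf) 202831 6
 Tr.leaf) 202838 6
 (Tr.node (Tr.node Tr.leaf 202841 5
 Tr.leaf) 202846 6
 Tr.leaf)) 202849 7
 (Tr.node (Tr.node (Tr.node Tr.leaf 202853 6
 Tr.leaf) 202854 6
 Tr.leaf) 202857 5
 (Tr.node (Tr.node Tr.leaf 202858 7
 Tr.leaf) 202862 6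
 Tr.leaf))) 202867 7
 (Tr.node (Tr.node (Tr.node (Tr.node Tr.leaf 202871 7
 Tr.leaf) 202875 8
 Tr.leaf) 202886 6
 (Tr.node (Tr.node Tr.leaf 202889 6
 Tr.leaf) 202893 6
 Tr.leaf)) 202894 5
 (Tr.node (Tr.node (Tr.node Tr.leaf 202899 7
 Tr.leaf) 202907 7
 Tr.leaf) 202927 6
 (Tr.node Tr.leaf 202929 7
 Tr.leaf))))) 202930 5
 (Tr.node (Tr.node (Tr.node (Tr.node (Tr.node (Tr.node Tr.leaf 202933 6
 Tr.leaf) 202937 7
 Tr.leaf) 202942 7
 (Tr.node (Tr.node Tr.leaf 202947 6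
 Tr.leaf) 202951 7
 Tr.leaf)) 202959 7
 (Tr.node (Tr.node (Tr.node Tr.leaf 202961 7
 Tr.leaf) 202962 6
 Tr.leaf) 202965 7
 (Tr.node (Tr.node Tr.leaf 202970 6
 Tr.leaf) 202974 6
 Tr.leaf))) 202977 7
 (Tr.node (Tr.node (Tr.node (Tr.node Tr.leaf 202986 7
 Tr.leaf) 202989 6
 Tr.leaf) 202995 8
 (Tr.node (Tr.node Tr.leaf 203010 5
 Tr.leaf) 203014 6
 Tr.leaf)) 203017 6
 (Tr.node (Tr.node (Tr.node Tr.leaf 203018 5
 Tr.leaf) 203021 6
 Tr.leaf) 203022 6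
 (Tr.node Tr.leaf 203031 7
 Tr.leaf)))) 203043 6
 (Tr.node (Tr.node (Tr.node (Tr.node (Tr.node Tr.leaf 203047 7
 Tr.leaf) 203051 7
 Tr.leaf) 203055 7
 (Tr.node (Tr.node Tr.leaf 203061 6
 Tr.leaf) 203062 7
 Tr.leaf)) 203070 6
 (Tr.node (Tr.node (Tr.node Tr.leaf 203075 7
 Tr.leaf) 203083 6
 Tr.leaf) 203089 7
 (Tr.node Tr.leaf 203090 6
 Tr.leaf))) 203093 7
 (Tr.node (Tr.node (Tr.node (Tr.node Tr.leaf 203094 6
 Tr.leaf) 203098 7
 Tr.leaf) 203102 6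
 (Tr.node (Tr.node Tr.leaf 203105 6
 Tr.leaf) 203109 6
 Tr.leaf)) 203114 7
 (Tr.node (Tr.node (Tr.node Tr.leaf 203127 7
 Tr.leaf) 203131 7
 Tr.leaf) 203138 6
 (Tr.node Tr.leaf 203146 6
 Tr.leaf)))))) 203155 7
 (Tr.node (Tr.node (Tr.node (Tr.node (Tr.node (Tr.node (Tr.node Tr.leaf 203159 7
 Tr.leaf) 203163 7
 Tr.leaf) 203167 6
 (Tr.node (Tr.node Tr.leaf 203171 7
 Tr.leaf) 203179 7
 Tr.leaf)) 203183 7
 (Tr.node (Tr.node (Tr.node Tr.leaf 203185 6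
 Tr.leaf) 203190 6
 Tr.leaf) 203194 6
 (Tr.node (Tr.node Tr.leaf 203197 6
 Tr.leaf) 203198 5
 Tr.leaf))) 203207 6
 (Tr.node (Tr.node (Tr.node (Tr.node Tr.leaf 203211 7
 Tr.leaf) 203215 6
 Tr.leaf) 203218 6
 (Tr.node (Tr.node Tr.leaf 203221 6
 Tr.leaf) 203222 7
 Tr.leaf)) 203225 7
 (Tr.node (Tr.node (Tr.node Tr.leaf 203226 6
 Tr.leaf) 203233 7
 Tr.leaf) 203234 6
 (Tr.node Tr.leaf 203237 6
 Tr.leaf)))) 203242 6
 (Tr.node (Tr.node (Tr.node (Tr.node (Tr.node Tr.leaf 203255 8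
 Tr.leaf) 203263 7
 Tr.leaf) 203795 7
 (Tr.node (Tr.node Tr.leaf 203801 5
 Tr.leaf) 203803 6
 Tr.leaf)) 203811 7
 (Tr.node (Tr.node (Tr.node Tr.leaf 203813 6
 Tr.leaf) 203815 7
 Tr.leaf) 203817 5
 (Tr.node Tr.leaf 203823 6
 Tr.leaf))) 203841 7
 (Tr.node (Tr.node (Tr.node (Tr.node Tr.leaf 203847 7
 Tr.leaf) 203851 6
 Tr.leaf) 203855 7
 (Tr.node (Tr.node Tr.leaf 203889 8
 Tr.leaf) 203893 7
 Tr.leaf)) 203895 7
 (Tr.node (Tr.node (Tr.node Tr.leaf 203897 7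
 Tr.leaf) 203899 8
 Tr.leaf) 203901 8
 (Tr.node Tr.leaf 203921 6
 Tr.leaf))))) 203923 7
 (Tr.node (Tr.node (Tr.node (Tr.node (Tr.node (Tr.node Tr.leaf 203925 6
 Tr.leaf) 203927 6
 Tr.leaf) 203929 6
 (Tr.node (Tr.node Tr.leaf 203931 6
 Tr.leaf) 203933 7
 Tr.leaf)) 203939 6
 (Tr.node (Tr.node (Tr.node Tr.leaf 203941 7
 Tr.leaf) 203943 6
 Tr.leaf) 203945 6
 (Tr.node (Tr.node Tr.leaf 203947 7
 Tr.leaf) 203949 6
 Tr.leaf))) 203951 6
 (Tr.node (Tr.node (Tr.node (Tr.node Tr.leaf 203971 7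
 Tr.leaf) 203979 7
 Tr.leaf) 204017 7
 (Tr.node (Tr.node Tr.leaf 204021 7
 Tr.leaf) 204023 7
 Tr.leaf)) 204025 7
 (Tr.node (Tr.node (Tr.node Tr.leaf 204029 7
 Tr.leaf) 204031 8
 Tr.leaf) 204049 5
 (Tr.node Tr.leaf 204051 6
 Tr.leaf)))) 204053 6
 (Tr.node (Tr.node (Tr.node (Tr.node (Tr.node Tr.leaf 204057 6
 Tr.leaf) 204071 6
 Tr.leaf) 204075 6
 (Tr.node (Tr.node Tr.leaf 204077 6
 Tr.leaf) 204079 5
 Tr.leaf)) 204099 7
 (Tr.node (Tr.node (Tr.node Tr.leaf 204101 7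
 Tr.leaf) 204103 6
 Tr.leaf) 204105 6
 (Tr.node Tr.leaf 204107 7
 Tr.leaf))) 204109 7
 (Tr.node (Tr.node (Tr.node (Tr.node Tr.leaf 204149 7
 Tr.leaf) 204151 7
 Tr.leaf) 204153 7
 (Tr.node (Tr.node Tr.leaf 204157 7
 Tr.leaf) 204177 6
 Tr.leaf)) 204183 6
 (Tr.node (Tr.node (Tr.node Tr.leaf 204185 7
 Tr.leaf) 204187 7
 Tr.leaf) 204189 6
 (Tr.node Tr.leaf 204195 7
 Tr.leaf))))))))

/-- A subtree. -/
def tr1_s50 : Tr := (Tr.node (Tr.node (Tr.node (Tr.node (Tr.node (Tr.node (Tr.node (Tr.node (Tr.node Tr.leaf 204203 7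
 Tr.leaf) 204225 7
 Tr.leaf) 204227 6
 (Tr.node (Tr.node Tr.leaf 204233 7
 Tr.leaf) 204239 7
 Tr.leaf)) 204275 8
 (Tr.node (Tr.node (Tr.node Tr.leaf 204277 8
 Tr.leaf) 204279 7
 Tr.leaf) 204281 7
 (Tr.node (Tr.node Tr.leaf 204285 7
 Tr.leaf) 204287 8
 Tr.leaf))) 204803 7
 (Tr.node (Tr.node (Tr.node (Tr.node Tr.leaf 204805 6
 Tr.leaf) 204806 5
 Tr.leaf) 204810 5
 (Tr.node (Tr.node Tr.leaf 204815 5
 Tr.leaf) 204819 7
 Tr.leaf)) 204822 5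
 (Tr.node (Tr.node (Tr.node Tr.leaf 204833 6
 Tr.leaf) 204834 6
 Tr.leaf) 204836 6
 (Tr.node Tr.leaf 204845 7
 Tr.leaf)))) 204849 5
 (Tr.node (Tr.node (Tr.node (Tr.node (Tr.node Tr.leaf 204855 7
 Tr.leaf) 204856 6
 Tr.leaf) 204861 6
 (Tr.node (Tr.node Tr.leaf 204866 5
 Tr.leaf) 204868 5
 Tr.leaf)) 204871 5
 (Tr.node (Tr.node (Tr.node Tr.leaf 204872 4
 Tr.leaf) 204875 5
 Tr.leaf) 204877 5
 (Tr.node (Tr.node Tr.leaf 204881 6
 Tr.leaf) 204882 6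
 Tr.leaf))) 204884 7
 (Tr.node (Tr.node (Tr.node (Tr.node Tr.leaf 204887 7
 Tr.leaf) 204891 7
 Tr.leaf) 204893 6
 (Tr.node (Tr.node Tr.leaf 204894 6
 Tr.leaf) 204899 7
 Tr.leaf)) 204901 6
 (Tr.node (Tr.node (Tr.node Tr.leaf 204905 6
 Tr.leaf) 204906 7
 Tr.leaf) 204908 6
 (Tr.node Tr.leaf 204911 8
 Tr.leaf))))) 204915 7
 (Tr.node (Tr.node (Tr.node (Tr.node (Tr.node (Tr.node Tr.leaf 204918 5
 Tr.leaf) 204921 7
 Tr.leaf) 204922 5
 (Tr.node (Tr.node Tr.leaf 204924 5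
 Tr.leaf) 204947 6
 Tr.leaf)) 204954 7
 (Tr.node (Tr.node (Tr.node Tr.leaf 204959 6
 Tr.leaf) 204967 6
 Tr.leaf) 204974 5
 (Tr.node (Tr.node Tr.leaf 204977 5
 Tr.leaf) 204978 7
 Tr.leaf))) 204980 6
 (Tr.node (Tr.node (Tr.node (Tr.node Tr.leaf 204983 7
 Tr.leaf) 204989 6
 Tr.leaf) 204990 5
 (Tr.node (Tr.node Tr.leaf 204993 7
 Tr.leaf) 204994 5
 Tr.leaf)) 204996 7
 (Tr.node (Tr.node (Tr.node Tr.leaf 204999 7
 Tr.leaf) 205005 6
 Tr.leaf) 205009 7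
 (Tr.node Tr.leaf 205010 6
 Tr.leaf)))) 205015 7
 (Tr.node (Tr.node (Tr.node (Tr.node (Tr.node Tr.leaf 205016 6
 Tr.leaf) 205019 7
 Tr.leaf) 205022 6
 (Tr.node (Tr.node Tr.leaf 205027 6
 Tr.leaf) 205029 6
 Tr.leaf)) 205030 5
 (Tr.node (Tr.node (Tr.node Tr.leaf 205033 6
 Tr.leaf) 205034 5
 Tr.leaf) 205036 5
 (Tr.node Tr.leaf 205039 6
 Tr.leaf))) 205043 7
 (Tr.node (Tr.node (Tr.node (Tr.node Tr.leaf 205046 5
 Tr.leaf) 205049 7
 Tr.leaf) 205050 5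
 (Tr.node (Tr.node Tr.leaf 205061 6
 Tr.leaf) 205068 6
 Tr.leaf)) 205075 7
 (Tr.node (Tr.node (Tr.node Tr.leaf 205082 7
 Tr.leaf) 205087 6
 Tr.leaf) 205089 5
 (Tr.node Tr.leaf 205095 6
 Tr.leaf)))))) 205096 7
 (Tr.node (Tr.node (Tr.node (Tr.node (Tr.node (Tr.node (Tr.node Tr.leaf 205102 5
 Tr.leaf) 205111 6
 Tr.leaf) 205115 6
 (Tr.node (Tr.node Tr.leaf 205118 5
 Tr.leaf) 205121 7
 Tr.leaf)) 205124 7
 (Tr.node (Tr.node (Tr.node Tr.leaf 205128 6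
 Tr.leaf) 205134 6
 Tr.leaf) 205138 5
 (Tr.node (Tr.node Tr.leaf 205147 7
 Tr.leaf) 205157 7
 Tr.leaf))) 205158 5
 (Tr.node (Tr.node (Tr.node (Tr.node Tr.leaf 205162 5
 Tr.leaf) 205167 6
 Tr.leaf) 205171 6
 (Tr.node (Tr.node Tr.leaf 205174 5
 Tr.leaf) 205177 6
 Tr.leaf)) 205178 5
 (Tr.node (Tr.node (Tr.node Tr.leaf 205180 5
 Tr.leaf) 205183 6
 Tr.leaf) 205187 7
 (Tr.node Tr.leaf 205190 5
 Tr.leaf)))) 205193 6
 (Tr.node (Tr.node (Tr.node (Tr.node (Tr.node Tr.leaf 205194 7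
 Tr.leaf) 205196 6
 Tr.leaf) 205206 4
 (Tr.node (Tr.node Tr.leaf 205209 6
 Tr.leaf) 205210 5
 Tr.leaf)) 205215 5
 (Tr.node (Tr.node (Tr.node Tr.leaf 205217 5
 Tr.leaf) 205218 6
 Tr.leaf) 205220 6
 (Tr.node (Tr.node Tr.leaf 205227 7
 Tr.leaf) 205233 6
 Tr.leaf))) 205239 6
 (Tr.node (Tr.node (Tr.node (Tr.node Tr.leaf 205240 6
 Tr.leaf) 205243 6
 Tr.leaf) 205245 7
 (Tr.node (Tr.node Tr.leaf 205246 6
 Tr.leaf) 205262 6
 Tr.leaf)) 205265 7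
 (Tr.node (Tr.node (Tr.node Tr.leaf 205266 5
 Tr.leaf) 205268 5
 Tr.leaf) 205271 5
 (Tr.node Tr.leaf 205272 5
 Tr.leaf))))) 205275 5
 (Tr.node (Tr.node (Tr.node (Tr.node (Tr.node (Tr.node Tr.leaf 205277 5
 Tr.leaf) 205286 5
 Tr.leaf) 205289 6
 (Tr.node (Tr.node Tr.leaf 205290 5
 Tr.leaf) 205292 5
 Tr.leaf)) 205295 6
 (Tr.node (Tr.node (Tr.node Tr.leaf 205299 7
 Tr.leaf) 205302 7
 Tr.leaf) 205311 8
 (Tr.node (Tr.node Tr.leaf 205827 7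
 Tr.leaf) 205839 6
 Tr.leaf))) 205841 7
 (Tr.node (Tr.node (Tr.node (Tr.node Tr.leaf 205853 6
 Tr.leaf) 205855 6
 Tr.leaf) 205863 6
 (Tr.node (Tr.node Tr.leaf 205867 6
 Tr.leaf) 205879 6
 Tr.leaf)) 205883 7
 (Tr.node (Tr.node (Tr.node Tr.leaf 205893 7
 Tr.leaf) 205895 7
 Tr.leaf) 205899 6
 (Tr.node Tr.leaf 205911 7
 Tr.leaf)))) 205937 6
 (Tr.node (Tr.node (Tr.node (Tr.node (Tr.node Tr.leaf 205939 7
 Tr.leaf) 205949 7
 Tr.leaf) 205951 7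
 (Tr.node (Tr.node Tr.leaf 205953 7
 Tr.leaf) 205955 7
 Tr.leaf)) 205965 6
 (Tr.node (Tr.node (Tr.node Tr.leaf 205967 6
 Tr.leaf) 205971 7
 Tr.leaf) 205981 7
 (Tr.node Tr.leaf 205989 7
 Tr.leaf))) 205991 6
 (Tr.node (Tr.node (Tr.node (Tr.node Tr.leaf 205995 5
 Tr.leaf) 206009 7
 Tr.leaf) 206011 6
 (Tr.node (Tr.node Tr.leaf 206021 7
 Tr.leaf) 206025 6
 Tr.leaf)) 206037 7
 (Tr.node (Tr.node (Tr.node Tr.leaf 206039 7
 Tr.leaf) 206043 5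
 Tr.leaf) 206051 6
 (Tr.node Tr.leaf 206061 7
 Tr.leaf))))))) 206063 7
 (Tr.node (Tr.node (Tr.node (Tr.node (Tr.node (Tr.node (Tr.node (Tr.node Tr.leaf 206067 7
 Tr.leaf) 206079 8
 Tr.leaf) 206081 7
 (Tr.node (Tr.node Tr.leaf 206083 7
 Tr.leaf) 206099 7
 Tr.leaf)) 206111 5
 (Tr.node (Tr.node (Tr.node Tr.leaf 206117 7
 Tr.leaf) 206119 7
 Tr.leaf) 206123 6
 (Tr.node (Tr.node Tr.leaf 206133 6
 Tr.leaf) 206135 7
 Tr.leaf))) 206151 7
 (Tr.node (Tr.node (Tr.node (Tr.node Tr.leaf 206153 5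
 Tr.leaf) 206155 7
 Tr.leaf) 206171 7
 (Tr.node (Tr.node Tr.leaf 206177 7
 Tr.leaf) 206191 7
 Tr.leaf)) 206195 6
 (Tr.node (Tr.node (Tr.node Tr.leaf 206207 8
 Tr.leaf) 206209 7
 Tr.leaf) 206221 7
 (Tr.node Tr.leaf 206225 7
 Tr.leaf)))) 206227 7
 (Tr.node (Tr.node (Tr.node (Tr.node (Tr.node Tr.leaf 206237 7
 Tr.leaf) 206239 7
 Tr.leaf) 206249 6
 (Tr.node (Tr.node Tr.leaf 206261 7
 Tr.leaf) 206263 7
 Tr.leaf)) 206265 7
 (Tr.node (Tr.node (Tr.node Tr.leaf 206267 6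
 Tr.leaf) 206283 7
 Tr.leaf) 206297 7
 (Tr.node (Tr.node Tr.leaf 206299 6
 Tr.leaf) 206305 6
 Tr.leaf))) 206319 8
 (Tr.node (Tr.node (Tr.node (Tr.node Tr.leaf 206321 7
 Tr.leaf) 206323 6
 Tr.leaf) 206335 8
 (Tr.node (Tr.node Tr.leaf 206859 7
 Tr.leaf) 206863 6
 Tr.leaf)) 206865 6
 (Tr.node (Tr.node (Tr.node Tr.leaf 206875 7
 Tr.leaf) 206879 7
 Tr.leaf) 206883 7
 (Tr.node Tr.leaf 206889 7
 Tr.leaf))))) 206890 6
 (Tr.node (Tr.node (Tr.node (Tr.node (Tr.node (Tr.node Tr.leaf 206894 6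
 Tr.leaf) 206899 7
 Tr.leaf) 206903 7
 (Tr.node (Tr.node Tr.leaf 206905 7
 Tr.leaf) 206906 7
 Tr.leaf)) 206909 7
 (Tr.node (Tr.node (Tr.node Tr.leaf 206910 5
 Tr.leaf) 206921 7
 Tr.leaf) 206922 6
 (Tr.node (Tr.node Tr.leaf 206925 6
 Tr.leaf) 206937 6
 Tr.leaf))) 206938 6
 (Tr.node (Tr.node (Tr.node (Tr.node Tr.leaf 206941 6
 Tr.leaf) 206942 6
 Tr.leaf) 206945 7
 (Tr.node (Tr.node Tr.leaf 206946 7
 Tr.leaf) 206961 7
 Tr.leaf)) 206962 7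
 (Tr.node (Tr.node (Tr.node Tr.leaf 206966 5
 Tr.leaf) 206975 8
 Tr.leaf) 206977 6
 (Tr.node Tr.leaf 206982 5
 Tr.leaf)))) 206991 7
 (Tr.node (Tr.node (Tr.node (Tr.node (Tr.node Tr.leaf 206997 6
 Tr.leaf) 206998 5
 Tr.leaf) 207003 6
 (Tr.node (Tr.node Tr.leaf 207021 6
 Tr.leaf) 207033 7
 Tr.leaf)) 207047 6
 (Tr.node (Tr.node (Tr.node Tr.leaf 207049 6
 Tr.leaf) 207053 6
 Tr.leaf) 207059 6
 (Tr.node Tr.leaf 207063 7
 Tr.leaf))) 207065 5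
 (Tr.node (Tr.node (Tr.node (Tr.node Tr.leaf 207066 7
 Tr.leaf) 207070 6
 Tr.leaf) 207074 6
 (Tr.node (Tr.node Tr.leaf 207077 7
 Tr.leaf) 207087 7
 Tr.leaf)) 207093 7
 (Tr.node (Tr.node (Tr.node Tr.leaf 207099 7
 Tr.leaf) 207106 6
 Tr.leaf) 207115 7
 (Tr.node Tr.leaf 207121 6
 Tr.leaf)))))) 207122 5
 (Tr.node (Tr.node (Tr.node (Tr.node (Tr.node (Tr.node (Tr.node Tr.leaf 207135 7
 Tr.leaf) 207139 7
 Tr.leaf) 207143 7
 (Tr.node (Tr.node Tr.leaf 207149 6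
 Tr.leaf) 207150 7
 Tr.leaf)) 207165 6
 (Tr.node (Tr.node (Tr.node Tr.leaf 207171 7
 Tr.leaf) 207175 7
 Tr.leaf) 207181 5
 (Tr.node (Tr.node Tr.leaf 207187 6
 Tr.leaf) 207194 7
 Tr.leaf))) 207197 6
 (Tr.node (Tr.node (Tr.node (Tr.node Tr.leaf 207201 7
 Tr.leaf) 207202 7
 Tr.leaf) 207205 6
 (Tr.node (Tr.node Tr.leaf 207217 7
 Tr.leaf) 207221 7
 Tr.leaf)) 207222 6
 (Tr.node (Tr.node (Tr.node Tr.leaf 207227 8
 Tr.leaf) 207231 7
 Tr.leaf) 207233 6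
 (Tr.node Tr.leaf 207247 7
 Tr.leaf)))) 207253 6
 (Tr.node (Tr.node (Tr.node (Tr.node (Tr.node Tr.leaf 207267 7
 Tr.leaf) 207274 6
 Tr.leaf) 207277 7
 (Tr.node (Tr.node Tr.leaf 207283 7
 Tr.leaf) 207287 7
 Tr.leaf)) 207290 6
 (Tr.node (Tr.node (Tr.node Tr.leaf 207294 6
 Tr.leaf) 207299 7
 Tr.leaf) 207303 6
 (Tr.node (Tr.node Tr.leaf 207306 6
 Tr.leaf) 207310 6
 Tr.leaf))) 207315 7
 (Tr.node (Tr.node (Tr.node (Tr.node Tr.leaf 207322 6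
 Tr.leaf) 207329 7
 Tr.leaf) 207330 6
 (Tr.node (Tr.node Tr.leaf 207333 7
 Tr.leaf) 207339 8
 Tr.leaf)) 207346 7
 (Tr.node (Tr.node (Tr.node Tr.leaf 207349 7
 Tr.leaf) 207881 6
 Tr.leaf) 207883 7
 (Tr.node Tr.leaf 207885 6
 Tr.leaf))))) 207897 6
 (Tr.node (Tr.node (Tr.node (Tr.node (Tr.node (Tr.node Tr.leaf 207901 7
 Tr.leaf) 207903 7
 Tr.leaf) 207921 7
 (Tr.node (Tr.node Tr.leaf 207923 7
 Tr.leaf) 207925 7
 Tr.leaf)) 207927 7
 (Tr.node (Tr.node (Tr.node Tr.leaf 207939 6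
 Tr.leaf) 207953 6
 Tr.leaf) 207959 6
 (Tr.node (Tr.node Tr.leaf 207979 8
 Tr.leaf) 207993 7
 Tr.leaf))) 208015 6
 (Tr.node (Tr.node (Tr.node (Tr.node Tr.leaf 208027 5
 Tr.leaf) 208033 6
 Tr.leaf) 208037 6
 (Tr.node (Tr.node Tr.leaf 208055 7
 Tr.leaf) 208067 6
 Tr.leaf)) 208081 7
 (Tr.node (Tr.node (Tr.node Tr.leaf 208083 5
 Tr.leaf) 208107 7
 Tr.leaf) 208109 7
 (Tr.node Tr.leaf 208111 8
 Tr.leaf)))) 208123 7
 (Tr.node (Tr.node (Tr.node (Tr.node (Tr.node Tr.leaf 208127 7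
 Tr.leaf) 208139 7
 Tr.leaf) 208141 5
 (Tr.node (Tr.node Tr.leaf 208143 6
 Tr.leaf) 208157 7
 Tr.leaf)) 208161 7
 (Tr.node (Tr.node (Tr.node Tr.leaf 208163 7
 Tr.leaf) 208165 7
 Tr.leaf) 208179 6
 (Tr.node Tr.leaf 208183 6
 Tr.leaf))) 208193 7
 (Tr.node (Tr.node (Tr.node (Tr.node Tr.leaf 208195 7
 Tr.leaf) 208197 5
 Tr.leaf) 208199 6
 (Tr.node (Tr.node Tr.leaf 208209 7
 Tr.leaf) 208211 7
 Tr.leaf)) 208215 6
 (Tr.node (Tr.node (Tr.node Tr.leaf 208237 7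
 Tr.leaf) 208239 7
 Tr.leaf) 208251 7
 (Tr.node Tr.leaf 208253 7
 Tr.leaf))))))))

/-- A subtree. -/
def tr1_s51 : Tr := (Tr.node (Tr.node (Tr.node (Tr.node (Tr.node (Tr.node (Tr.node (Tr.node (Tr.node Tr.leaf 208269 7
 Tr.leaf) 208271 6
 Tr.leaf) 208283 7
 (Tr.node (Tr.node Tr.leaf 208293 7
 Tr.leaf) 208305 7
 Tr.leaf)) 208309 7
 (Tr.node (Tr.node (Tr.node Tr.leaf 208311 7
 Tr.leaf) 208321 6
 Tr.leaf) 208323 7
 (Tr.node (Tr.node Tr.leaf 208337 7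
 Tr.leaf) 208343 7
 Tr.leaf))) 208363 7
 (Tr.node (Tr.node (Tr.node (Tr.node Tr.leaf 208379 7
 Tr.leaf) 208381 7
 Tr.leaf) 208383 8
 (Tr.node (Tr.node Tr.leaf 208897 6
 Tr.leaf) 208906 7
 Tr.leaf)) 208908 6
 (Tr.node (Tr.node (Tr.node Tr.leaf 208913 6
 Tr.leaf) 208914 6
 Tr.leaf) 208916 6
 (Tr.node Tr.leaf 208922 6
 Tr.leaf)))) 208927 5
 (Tr.node (Tr.node (Tr.node (Tr.node (Tr.node Tr.leaf 208931 7
 Tr.leaf) 208947 7
 Tr.leaf) 208950 7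
 (Tr.node (Tr.node Tr.leaf 208957 7
 Tr.leaf) 208958 7
 Tr.leaf)) 208971 7
 (Tr.node (Tr.node (Tr.node Tr.leaf 208974 6
 Tr.leaf) 208979 7
 Tr.leaf) 208982 6
 (Tr.node (Tr.node Tr.leaf 208987 6
 Tr.leaf) 208989 6
 Tr.leaf))) 208990 7
 (Tr.node (Tr.node (Tr.node (Tr.node Tr.leaf 208993 7
 Tr.leaf) 208996 5
 Tr.leaf) 209001 7
 (Tr.node (Tr.node Tr.leaf 209002 7
 Tr.leaf) 209004 6
 Tr.leaf)) 209023 7
 (Tr.node (Tr.node (Tr.node Tr.leaf 209026 7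
 Tr.leaf) 209031 6
 Tr.leaf) 209033 6
 (Tr.node Tr.leaf 209034 6
 Tr.leaf))))) 209036 6
 (Tr.node (Tr.node (Tr.node (Tr.node (Tr.node (Tr.node Tr.leaf 209042 6
 Tr.leaf) 209044 6
 Tr.leaf) 209047 6
 (Tr.node (Tr.node Tr.leaf 209049 6
 Tr.leaf) 209055 6
 Tr.leaf)) 209059 7
 (Tr.node (Tr.node (Tr.node Tr.leaf 209061 6
 Tr.leaf) 209067 7
 Tr.leaf) 209070 6
 (Tr.node (Tr.node Tr.leaf 209077 7
 Tr.leaf) 209078 6
 Tr.leaf))) 209083 7
 (Tr.node (Tr.node (Tr.node (Tr.node Tr.leaf 209085 7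
 Tr.leaf) 209086 7
 Tr.leaf) 209093 7
 (Tr.node (Tr.node Tr.leaf 209099 6
 Tr.leaf) 209102 7
 Tr.leaf)) 209109 7
 (Tr.node (Tr.node (Tr.node Tr.leaf 209110 6
 Tr.leaf) 209117 7
 Tr.leaf) 209118 6
 (Tr.node Tr.leaf 209122 6
 Tr.leaf)))) 209127 8
 (Tr.node (Tr.node (Tr.node (Tr.node (Tr.node Tr.leaf 209135 8
 Tr.leaf) 209137 7
 Tr.leaf) 209138 5
 (Tr.node (Tr.node Tr.leaf 209140 5
 Tr.leaf) 209143 8
 Tr.leaf)) 209145 7
 (Tr.node (Tr.node (Tr.node Tr.leaf 209146 7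
 Tr.leaf) 209148 7
 Tr.leaf) 209154 7
 (Tr.node Tr.leaf 209161 6
 Tr.leaf))) 209162 6
 (Tr.node (Tr.node (Tr.node (Tr.node Tr.leaf 209170 6
 Tr.leaf) 209175 6
 Tr.leaf) 209177 6
 (Tr.node (Tr.node Tr.leaf 209180 6
 Tr.leaf) 209183 6
 Tr.leaf)) 209187 7
 (Tr.node (Tr.node (Tr.node Tr.leaf 209189 7
 Tr.leaf) 209195 7
 Tr.leaf) 209198 5
 (Tr.node Tr.leaf 209203 7
 Tr.leaf)))))) 209205 6
 (Tr.node (Tr.node (Tr.node (Tr.node (Tr.node (Tr.node (Tr.node Tr.leaf 209206 6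
 Tr.leaf) 209219 6
 Tr.leaf) 209221 7
 (Tr.node (Tr.node Tr.leaf 209222 6
 Tr.leaf) 209227 7
 Tr.leaf)) 209230 5
 (Tr.node (Tr.node (Tr.node Tr.leaf 209235 6
 Tr.leaf) 209237 7
 Tr.leaf) 209257 7
 (Tr.node (Tr.node Tr.leaf 209258 6
 Tr.leaf) 209260 6
 Tr.leaf))) 209263 8
 (Tr.node (Tr.node (Tr.node (Tr.node Tr.leaf 209271 7
 Tr.leaf) 209274 6
 Tr.leaf) 209282 6
 (Tr.node (Tr.node Tr.leaf 209287 5
 Tr.leaf) 209303 6
 Tr.leaf)) 209306 6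
 (Tr.node (Tr.node (Tr.node Tr.leaf 209308 5
 Tr.leaf) 209311 7
 Tr.leaf) 209315 6
 (Tr.node Tr.leaf 209317 6
 Tr.leaf)))) 209323 7
 (Tr.node (Tr.node (Tr.node (Tr.node (Tr.node Tr.leaf 209339 7
 Tr.leaf) 209341 7
 Tr.leaf) 209342 7
 (Tr.node (Tr.node Tr.leaf 209347 7
 Tr.leaf) 209355 7
 Tr.leaf)) 209357 7
 (Tr.node (Tr.node (Tr.node Tr.leaf 209365 6
 Tr.leaf) 209373 7
 Tr.leaf) 209374 6
 (Tr.node (Tr.node Tr.leaf 209377 7
 Tr.leaf) 209380 7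
 Tr.leaf))) 209385 7
 (Tr.node (Tr.node (Tr.node (Tr.node Tr.leaf 209386 7
 Tr.leaf) 209396 6
 Tr.leaf) 209401 7
 (Tr.node (Tr.node Tr.leaf 209402 7
 Tr.leaf) 209404 6
 Tr.leaf)) 209941 7
 (Tr.node (Tr.node (Tr.node Tr.leaf 209949 6
 Tr.leaf) 209955 7
 Tr.leaf) 209961 7
 (Tr.node Tr.leaf 209963 6
 Tr.leaf))))) 209969 6
 (Tr.node (Tr.node (Tr.node (Tr.node (Tr.node (Tr.node Tr.leaf 209971 7
 Tr.leaf) 209977 7
 Tr.leaf) 209985 7
 (Tr.node (Tr.node Tr.leaf 209995 7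
 Tr.leaf) 210001 7
 Tr.leaf)) 210003 6
 (Tr.node (Tr.node (Tr.node Tr.leaf 210021 8
 Tr.leaf) 210023 8
 Tr.leaf) 210029 7
 (Tr.node (Tr.node Tr.leaf 210037 7
 Tr.leaf) 210045 7
 Tr.leaf))) 210055 6
 (Tr.node (Tr.node (Tr.node (Tr.node Tr.leaf 210063 7
 Tr.leaf) 210069 7
 Tr.leaf) 210071 7
 (Tr.node (Tr.node Tr.leaf 210077 6
 Tr.leaf) 210079 7
 Tr.leaf)) 210083 6
 (Tr.node (Tr.node (Tr.node Tr.leaf 210089 6
 Tr.leaf) 210099 7
 Tr.leaf) 210107 7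
 (Tr.node Tr.leaf 210113 7
 Tr.leaf)))) 210121 7
 (Tr.node (Tr.node (Tr.node (Tr.node (Tr.node Tr.leaf 210123 6
 Tr.leaf) 210129 6
 Tr.leaf) 210131 7
 (Tr.node (Tr.node Tr.leaf 210137 7
 Tr.leaf) 210151 7
 Tr.leaf)) 210159 7
 (Tr.node (Tr.node (Tr.node Tr.leaf 210165 7
 Tr.leaf) 210175 8
 Tr.leaf) 210181 7
 (Tr.node Tr.leaf 210183 6
 Tr.leaf))) 210197 6
 (Tr.node (Tr.node (Tr.node (Tr.node Tr.leaf 210217 7
 Tr.leaf) 210219 5
 Tr.leaf) 210225 7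
 (Tr.node (Tr.node Tr.leaf 210233 7
 Tr.leaf) 210235 6
 Tr.leaf)) 210241 7
 (Tr.node (Tr.node (Tr.node Tr.leaf 210259 6
 Tr.leaf) 210265 7
 Tr.leaf) 210277 8
 (Tr.node Tr.leaf 210293 6
 Tr.leaf))))))) 210309 6
 (Tr.node (Tr.node (Tr.node (Tr.node (Tr.node (Tr.node (Tr.node (Tr.node Tr.leaf 210317 6
 Tr.leaf) 210319 6
 Tr.leaf) 210327 7
 (Tr.node (Tr.node Tr.leaf 210333 7
 Tr.leaf) 210335 7
 Tr.leaf)) 210339 6
 (Tr.node (Tr.node (Tr.node Tr.leaf 210355 7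
 Tr.leaf) 210369 7
 Tr.leaf) 210377 6
 (Tr.node (Tr.node Tr.leaf 210385 6
 Tr.leaf) 210393 7
 Tr.leaf))) 210421 8
 (Tr.node (Tr.node (Tr.node (Tr.node Tr.leaf 210429 8
 Tr.leaf) 210947 7
 Tr.leaf) 210951 7
 (Tr.node (Tr.node Tr.leaf 210955 7
 Tr.leaf) 210959 6
 Tr.leaf)) 210967 7
 (Tr.node (Tr.node (Tr.node Tr.leaf 210977 7
 Tr.leaf) 210978 6
 Tr.leaf) 210985 6
 (Tr.node Tr.leaf 210986 6
 Tr.leaf)))) 210989 6
 (Tr.node (Tr.node (Tr.node (Tr.node (Tr.node Tr.leaf 210994 6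
 Tr.leaf) 210997 7
 Tr.leaf) 211002 6
 (Tr.node (Tr.node Tr.leaf 211006 5
 Tr.leaf) 211017 6
 Tr.leaf)) 211026 6
 (Tr.node (Tr.node (Tr.node Tr.leaf 211029 6
 Tr.leaf) 211030 7
 Tr.leaf) 211033 7
 (Tr.node (Tr.node Tr.leaf 211034 6
 Tr.leaf) 211037 6
 Tr.leaf))) 211051 7
 (Tr.node (Tr.node (Tr.node (Tr.node Tr.leaf 211059 7
 Tr.leaf) 211071 7
 Tr.leaf) 211079 7
 (Tr.node (Tr.node Tr.leaf 211087 6
 Tr.leaf) 211091 6
 Tr.leaf)) 211095 6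
 (Tr.node (Tr.node (Tr.node Tr.leaf 211099 7
 Tr.leaf) 211105 7
 Tr.leaf) 211106 6
 (Tr.node Tr.leaf 211113 7
 Tr.leaf))))) 211114 6
 (Tr.node (Tr.node (Tr.node (Tr.node (Tr.node (Tr.node Tr.leaf 211117 6
 Tr.leaf) 211122 6
 Tr.leaf) 211125 7
 (Tr.node (Tr.node Tr.leaf 211137 7
 Tr.leaf) 211141 7
 Tr.leaf)) 211142 7
 (Tr.node (Tr.node (Tr.node Tr.leaf 211149 6
 Tr.leaf) 211157 7
 Tr.leaf) 211158 7
 (Tr.node (Tr.node Tr.leaf 211162 6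
 Tr.leaf) 211166 6
 Tr.leaf))) 211187 8
 (Tr.node (Tr.node (Tr.node (Tr.node Tr.leaf 211199 7
 Tr.leaf) 211203 7
 Tr.leaf) 211207 6
 (Tr.node (Tr.node Tr.leaf 211211 6
 Tr.leaf) 211219 6
 Tr.leaf)) 211223 7
 (Tr.node (Tr.node (Tr.node Tr.leaf 211231 7
 Tr.leaf) 211233 7
 Tr.leaf) 211234 6
 (Tr.node Tr.leaf 211237 6
 Tr.leaf)))) 211238 7
 (Tr.node (Tr.node (Tr.node (Tr.node (Tr.node Tr.leaf 211241 7
 Tr.leaf) 211242 7
 Tr.leaf) 211246 6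
 (Tr.node (Tr.node Tr.leaf 211249 6
 Tr.leaf) 211254 6
 Tr.leaf)) 211257 7
 (Tr.node (Tr.node (Tr.node Tr.leaf 211261 7
 Tr.leaf) 211262 6
 Tr.leaf) 211265 7
 (Tr.node Tr.leaf 211266 6
 Tr.leaf))) 211270 5
 (Tr.node (Tr.node (Tr.node (Tr.node Tr.leaf 211273 7
 Tr.leaf) 211281 6
 Tr.leaf) 211285 7
 (Tr.node (Tr.node Tr.leaf 211286 7
 Tr.leaf) 211299 7
 Tr.leaf)) 211303 7
 (Tr.node (Tr.node (Tr.node Tr.leaf 211339 7
 Tr.leaf) 211343 7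
 Tr.leaf) 211355 6
 (Tr.node Tr.leaf 211362 6
 Tr.leaf)))))) 211365 6
 (Tr.node (Tr.node (Tr.node (Tr.node (Tr.node (Tr.node (Tr.node Tr.leaf 211366 6
 Tr.leaf) 211369 7
 Tr.leaf) 211370 6
 (Tr.node (Tr.node Tr.leaf 211373 7
 Tr.leaf) 211377 6
 Tr.leaf)) 211378 7
 (Tr.node (Tr.node (Tr.node Tr.leaf 211382 6
 Tr.leaf) 211385 6
 Tr.leaf) 211386 6
 (Tr.node (Tr.node Tr.leaf 211389 7
 Tr.leaf) 211397 6
 Tr.leaf))) 211398 5
 (Tr.node (Tr.node (Tr.node (Tr.node Tr.leaf 211401 6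
 Tr.leaf) 211405 7
 Tr.leaf) 211406 6
 (Tr.node (Tr.node Tr.leaf 211409 6
 Tr.leaf) 211413 7
 Tr.leaf)) 211417 7
 (Tr.node (Tr.node (Tr.node Tr.leaf 211421 7
 Tr.leaf) 211431 7
 Tr.leaf) 211439 7
 (Tr.node Tr.leaf 211451 7
 Tr.leaf)))) 211969 5
 (Tr.node (Tr.node (Tr.node (Tr.node (Tr.node Tr.leaf 211971 7
 Tr.leaf) 211977 7
 Tr.leaf) 211983 5
 (Tr.node (Tr.node Tr.leaf 211989 7
 Tr.leaf) 211991 6
 Tr.leaf)) 211997 7
 (Tr.node (Tr.node (Tr.node Tr.leaf 211999 7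
 Tr.leaf) 212069 8
 Tr.leaf) 212071 7
 (Tr.node Tr.leaf 212073 7
 Tr.leaf))) 212075 7
 (Tr.node (Tr.node (Tr.node (Tr.node Tr.leaf 212081 7
 Tr.leaf) 212085 7
 Tr.leaf) 212087 7
 (Tr.node (Tr.node Tr.leaf 212089 7
 Tr.leaf) 212097 7
 Tr.leaf)) 212099 6
 (Tr.node (Tr.node (Tr.node Tr.leaf 212101 7
 Tr.leaf) 212103 6
 Tr.leaf) 212109 7
 (Tr.node Tr.leaf 212111 6
 Tr.leaf))))) 212113 6
 (Tr.node (Tr.node (Tr.node (Tr.node (Tr.node (Tr.node Tr.leaf 212119 7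
 Tr.leaf) 212201 7
 Tr.leaf) 212205 7
 (Tr.node (Tr.node Tr.leaf 212209 7
 Tr.leaf) 212225 7
 Tr.leaf)) 212227 7
 (Tr.node (Tr.node (Tr.node Tr.leaf 212231 6
 Tr.leaf) 212233 7
 Tr.leaf) 212235 7
 (Tr.node (Tr.node Tr.leaf 212239 6
 Tr.leaf) 212243 7
 Tr.leaf))) 212245 7
 (Tr.node (Tr.node (Tr.node (Tr.node Tr.leaf 212247 7
 Tr.leaf) 212253 6
 Tr.leaf) 212255 7
 (Tr.node (Tr.node Tr.leaf 212325 7
 Tr.leaf) 212327 6
 Tr.leaf)) 212331 6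
 (Tr.node (Tr.node (Tr.node Tr.leaf 212333 6
 Tr.leaf) 212335 8
 Tr.leaf) 212339 7
 (Tr.node Tr.leaf 212343 7
 Tr.leaf)))) 212347 7
 (Tr.node (Tr.node (Tr.node (Tr.node (Tr.node Tr.leaf 212351 7
 Tr.leaf) 212357 7
 Tr.leaf) 212359 6
 (Tr.node (Tr.node Tr.leaf 212361 6
 Tr.leaf) 212365 7
 Tr.leaf)) 212367 7
 (Tr.node (Tr.node (Tr.node Tr.leaf 212369 5
 Tr.leaf) 212371 6
 Tr.leaf) 212379 6
 (Tr.node Tr.leaf 212381 7
 Tr.leaf))) 212383 5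
 (Tr.node (Tr.node (Tr.node (Tr.node Tr.leaf 212451 7
 Tr.leaf) 212453 7
 Tr.leaf) 212455 7
 (Tr.node (Tr.node Tr.leaf 212457 7
 Tr.leaf) 212465 7
 Tr.leaf)) 212467 7
 (Tr.node (Tr.node (Tr.node Tr.leaf 212471 7
 Tr.leaf) 212475 7
 Tr.leaf) 212479 8
 (Tr.node Tr.leaf 212998 4
 Tr.leaf))))))))

/-- A subtree. -/
def tr1_s52 : Tr := (Tr.node (Tr.node (Tr.node (Tr.node (Tr.node (Tr.node (Tr.node (Tr.node (Tr.node Tr.leaf 213004 5
 Tr.leaf) 213007 5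
 Tr.leaf) 213009 6
 (Tr.node (Tr.node Tr.leaf 213015 6
 Tr.leaf) 213016 6
 Tr.leaf)) 213019 7
 (Tr.node (Tr.node (Tr.node Tr.leaf 213021 6
 Tr.leaf) 213022 6
 Tr.leaf) 213029 7
 (Tr.node (Tr.node Tr.leaf 213030 6
 Tr.leaf) 213033 6
 Tr.leaf))) 213034 6
 (Tr.node (Tr.node (Tr.node (Tr.node Tr.leaf 213036 7
 Tr.leaf) 213041 5
 Tr.leaf) 213042 7
 (Tr.node (Tr.node Tr.leaf 213044 6
 Tr.leaf) 213053 7
 Tr.leaf)) 213057 7
 (Tr.node (Tr.node (Tr.node Tr.leaf 213058 5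
 Tr.leaf) 213060 5
 Tr.leaf) 213063 5
 (Tr.node Tr.leaf 213064 5
 Tr.leaf)))) 213067 5
 (Tr.node (Tr.node (Tr.node (Tr.node (Tr.node Tr.leaf 213069 5
 Tr.leaf) 213072 6
 Tr.leaf) 213077 7
 (Tr.node (Tr.node Tr.leaf 213078 7
 Tr.leaf) 213087 8
 Tr.leaf)) 213102 6
 (Tr.node (Tr.node (Tr.node Tr.leaf 213110 5
 Tr.leaf) 213113 6
 Tr.leaf) 213114 5
 (Tr.node (Tr.node Tr.leaf 213116 5
 Tr.leaf) 213119 6
 Tr.leaf))) 213125 6
 (Tr.node (Tr.node (Tr.node (Tr.node Tr.leaf 213132 7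
 Tr.leaf) 213135 6
 Tr.leaf) 213137 5
 (Tr.node (Tr.node Tr.leaf 213138 6
 Tr.leaf) 213140 6
 Tr.leaf)) 213143 7
 (Tr.node (Tr.node (Tr.node Tr.leaf 213147 6
 Tr.leaf) 213150 5
 Tr.leaf) 213175 6
 (Tr.node Tr.leaf 213182 5
 Tr.leaf))))) 213185 7
 (Tr.node (Tr.node (Tr.node (Tr.node (Tr.node (Tr.node Tr.leaf 213188 6
 Tr.leaf) 213191 7
 Tr.leaf) 213192 5
 (Tr.node (Tr.node Tr.leaf 213197 7
 Tr.leaf) 213198 6
 Tr.leaf)) 213205 7
 (Tr.node (Tr.node (Tr.node Tr.leaf 213206 5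
 Tr.leaf) 213209 7
 Tr.leaf) 213212 5
 (Tr.node (Tr.node Tr.leaf 213217 7
 Tr.leaf) 213218 7
 Tr.leaf))) 213220 5
 (Tr.node (Tr.node (Tr.node (Tr.node Tr.leaf 213223 7
 Tr.leaf) 213227 6
 Tr.leaf) 213235 6
 (Tr.node (Tr.node Tr.leaf 213237 6
 Tr.leaf) 213238 5
 Tr.leaf)) 213241 6
 (Tr.node (Tr.node (Tr.node Tr.leaf 213242 5
 Tr.leaf) 213244 5
 Tr.leaf) 213247 6
 (Tr.node Tr.leaf 213253 7
 Tr.leaf)))) 213260 7
 (Tr.node (Tr.node (Tr.node (Tr.node (Tr.node Tr.leaf 213263 6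
 Tr.leaf) 213271 6
 Tr.leaf) 213277 6
 (Tr.node (Tr.node Tr.leaf 213278 5
 Tr.leaf) 213283 6
 Tr.leaf)) 213290 6
 (Tr.node (Tr.node (Tr.node Tr.leaf 213297 5
 Tr.leaf) 213303 6
 Tr.leaf) 213304 6
 (Tr.node Tr.leaf 213310 5
 Tr.leaf))) 213316 5
 (Tr.node (Tr.node (Tr.node (Tr.node Tr.leaf 213325 7
 Tr.leaf) 213333 6
 Tr.leaf) 213334 5
 (Tr.node (Tr.node Tr.leaf 213337 6
 Tr.leaf) 213338 5
 Tr.leaf)) 213340 5
 (Tr.node (Tr.node (Tr.node Tr.leaf 213343 6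
 Tr.leaf) 213345 7
 Tr.leaf) 213346 7
 (Tr.node Tr.leaf 213352 5
 Tr.leaf)))))) 213358 6
 (Tr.node (Tr.node (Tr.node (Tr.node (Tr.node (Tr.node (Tr.node Tr.leaf 213360 6
 Tr.leaf) 213363 7
 Tr.leaf) 213366 5
 (Tr.node (Tr.node Tr.leaf 213372 5
 Tr.leaf) 213375 6
 Tr.leaf)) 213381 7
 (Tr.node (Tr.node (Tr.node Tr.leaf 213382 6
 Tr.leaf) 213393 5
 Tr.leaf) 213399 7
 (Tr.node (Tr.node Tr.leaf 213400 6
 Tr.leaf) 213403 6
 Tr.leaf))) 213411 6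
 (Tr.node (Tr.node (Tr.node (Tr.node Tr.leaf 213413 7
 Tr.leaf) 213414 5
 Tr.leaf) 213420 5
 (Tr.node (Tr.node Tr.leaf 213423 5
 Tr.leaf) 213425 6
 Tr.leaf)) 213426 6
 (Tr.node (Tr.node (Tr.node Tr.leaf 213428 7
 Tr.leaf) 213435 7
 Tr.leaf) 213441 6
 (Tr.node Tr.leaf 213442 7
 Tr.leaf)))) 213444 6
 (Tr.node (Tr.node (Tr.node (Tr.node (Tr.node Tr.leaf 213447 7
 Tr.leaf) 213451 6
 Tr.leaf) 213453 7
 (Tr.node (Tr.node Tr.leaf 213454 6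
 Tr.leaf) 213456 7
 Tr.leaf)) 213461 7
 (Tr.node (Tr.node (Tr.node Tr.leaf 213462 5
 Tr.leaf) 213465 7
 Tr.leaf) 213466 5
 (Tr.node (Tr.node Tr.leaf 213468 5
 Tr.leaf) 213474 5
 Tr.leaf))) 213476 5
 (Tr.node (Tr.node (Tr.node (Tr.node Tr.leaf 213479 5
 Tr.leaf) 213480 4
 Tr.leaf) 213483 5
 (Tr.node (Tr.node Tr.leaf 213485 5
 Tr.leaf) 213491 6
 Tr.leaf)) 213493 7
 (Tr.node (Tr.node (Tr.node Tr.leaf 213497 6
 Tr.leaf) 213498 6
 Tr.leaf) 213500 7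
 (Tr.node Tr.leaf 213503 8
 Tr.leaf))))) 214017 6
 (Tr.node (Tr.node (Tr.node (Tr.node (Tr.node (Tr.node Tr.leaf 214037 7
 Tr.leaf) 214039 7
 Tr.leaf) 214051 6
 (Tr.node (Tr.node Tr.leaf 214061 7
 Tr.leaf) 214071 7
 Tr.leaf)) 214073 7
 (Tr.node (Tr.node (Tr.node Tr.leaf 214087 7
 Tr.leaf) 214097 7
 Tr.leaf) 214117 6
 (Tr.node (Tr.node Tr.leaf 214119 7
 Tr.leaf) 214129 7
 Tr.leaf))) 214131 7
 (Tr.node (Tr.node (Tr.node (Tr.node Tr.leaf 214143 8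
 Tr.leaf) 214145 6
 Tr.leaf) 214159 6
 (Tr.node (Tr.node Tr.leaf 214171 7
 Tr.leaf) 214179 6
 Tr.leaf)) 214189 7
 (Tr.node (Tr.node (Tr.node Tr.leaf 214201 6
 Tr.leaf) 214213 7
 Tr.leaf) 214215 6
 (Tr.node Tr.leaf 214219 5
 Tr.leaf)))) 214225 7
 (Tr.node (Tr.node (Tr.node (Tr.node (Tr.node Tr.leaf 214239 7
 Tr.leaf) 214245 6
 Tr.leaf) 214249 6
 (Tr.node (Tr.node Tr.leaf 214251 6
 Tr.leaf) 214257 7
 Tr.leaf)) 214269 7
 (Tr.node (Tr.node (Tr.node Tr.leaf 214275 6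
 Tr.leaf) 214285 7
 Tr.leaf) 214297 6
 (Tr.node Tr.leaf 214319 7
 Tr.leaf))) 214325 7
 (Tr.node (Tr.node (Tr.node (Tr.node Tr.leaf 214327 7
 Tr.leaf) 214329 6
 Tr.leaf) 214343 6
 (Tr.node (Tr.node Tr.leaf 214345 6
 Tr.leaf) 214353 7
 Tr.leaf)) 214355 7
 (Tr.node (Tr.node (Tr.node Tr.leaf 214365 8
 Tr.leaf) 214367 8
 Tr.leaf) 214373 7
 (Tr.node Tr.leaf 214375 7
 Tr.leaf))))))) 214377 5
 (Tr.node (Tr.node (Tr.node (Tr.node (Tr.node (Tr.node (Tr.node (Tr.node Tr.leaf 214385 6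
 Tr.leaf) 214387 7
 Tr.leaf) 214403 6
 (Tr.node (Tr.node Tr.leaf 214413 7
 Tr.leaf) 214415 7
 Tr.leaf)) 214421 7
 (Tr.node (Tr.node (Tr.node Tr.leaf 214423 7
 Tr.leaf) 214425 7
 Tr.leaf) 214427 7
 (Tr.node (Tr.node Tr.leaf 214445 6
 Tr.leaf) 214447 7
 Tr.leaf))) 214455 7
 (Tr.node (Tr.node (Tr.node (Tr.node Tr.leaf 214459 7
 Tr.leaf) 214473 6
 Tr.leaf) 214475 6
 (Tr.node (Tr.node Tr.leaf 214483 7
 Tr.leaf) 214493 8
 Tr.leaf)) 214505 6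
 (Tr.node (Tr.node (Tr.node Tr.leaf 214507 7
 Tr.leaf) 214515 7
 Tr.leaf) 215041 7
 (Tr.node Tr.leaf 215045 7
 Tr.leaf)))) 215051 7
 (Tr.node (Tr.node (Tr.node (Tr.node (Tr.node Tr.leaf 215055 7
 Tr.leaf) 215059 7
 Tr.leaf) 215063 7
 (Tr.node (Tr.node Tr.leaf 215065 6
 Tr.leaf) 215066 7
 Tr.leaf)) 215069 7
 (Tr.node (Tr.node (Tr.node Tr.leaf 215077 7
 Tr.leaf) 215087 7
 Tr.leaf) 215098 6
 (Tr.node (Tr.node Tr.leaf 215101 6
 Tr.leaf) 215113 6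
 Tr.leaf))) 215117 7
 (Tr.node (Tr.node (Tr.node (Tr.node Tr.leaf 215118 7
 Tr.leaf) 215121 6
 Tr.leaf) 215125 7
 (Tr.node (Tr.node Tr.leaf 215126 6
 Tr.leaf) 215131 8
 Tr.leaf)) 215145 7
 (Tr.node (Tr.node (Tr.node Tr.leaf 215146 6
 Tr.leaf) 215154 6
 Tr.leaf) 215157 6
 (Tr.node Tr.leaf 215163 8
 Tr.leaf))))) 215169 7
 (Tr.node (Tr.node (Tr.node (Tr.node (Tr.node (Tr.node Tr.leaf 215174 5
 Tr.leaf) 215183 7
 Tr.leaf) 215193 6
 (Tr.node (Tr.node Tr.leaf 215194 6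
 Tr.leaf) 215197 7
 Tr.leaf)) 215201 7
 (Tr.node (Tr.node (Tr.node Tr.leaf 215205 7
 Tr.leaf) 215206 5
 Tr.leaf) 215211 6
 (Tr.node (Tr.node Tr.leaf 215215 5
 Tr.leaf) 215219 6
 Tr.leaf))) 215223 7
 (Tr.node (Tr.node (Tr.node (Tr.node Tr.leaf 215225 5
 Tr.leaf) 215226 6
 Tr.leaf) 215235 7
 (Tr.node (Tr.node Tr.leaf 215239 7
 Tr.leaf) 215241 5
 Tr.leaf)) 215249 7
 (Tr.node (Tr.node (Tr.node Tr.leaf 215254 6
 Tr.leaf) 215259 8
 Tr.leaf) 215271 7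
 (Tr.node Tr.leaf 215274 6
 Tr.leaf)))) 215277 6
 (Tr.node (Tr.node (Tr.node (Tr.node (Tr.node Tr.leaf 215278 7
 Tr.leaf) 215281 6
 Tr.leaf) 215291 7
 (Tr.node (Tr.node Tr.leaf 215295 7
 Tr.leaf) 215297 7
 Tr.leaf)) 215298 5
 (Tr.node (Tr.node (Tr.node Tr.leaf 215307 6
 Tr.leaf) 215315 7
 Tr.leaf) 215319 6
 (Tr.node Tr.leaf 215326 6
 Tr.leaf))) 215329 7
 (Tr.node (Tr.node (Tr.node (Tr.node Tr.leaf 215330 5
 Tr.leaf) 215333 7
 Tr.leaf) 215347 7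
 (Tr.node (Tr.node Tr.leaf 215351 7
 Tr.leaf) 215353 6
 Tr.leaf)) 215354 7
 (Tr.node (Tr.node (Tr.node Tr.leaf 215358 6
 Tr.leaf) 215369 7
 Tr.leaf) 215374 6
 (Tr.node Tr.leaf 215377 6
 Tr.leaf)))))) 215387 8
 (Tr.node (Tr.node (Tr.node (Tr.node (Tr.node (Tr.node (Tr.node Tr.leaf 215395 7
 Tr.leaf) 215401 7
 Tr.leaf) 215402 7
 (Tr.node (Tr.node Tr.leaf 215405 5
 Tr.leaf) 215406 7
 Tr.leaf)) 215410 6
 (Tr.node (Tr.node (Tr.node Tr.leaf 215413 7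
 Tr.leaf) 215414 7
 Tr.leaf) 215419 7
 (Tr.node (Tr.node Tr.leaf 215429 7
 Tr.leaf) 215435 6
 Tr.leaf))) 215439 6
 (Tr.node (Tr.node (Tr.node (Tr.node Tr.leaf 215443 6
 Tr.leaf) 215449 7
 Tr.leaf) 215450 7
 (Tr.node (Tr.node Tr.leaf 215454 5
 Tr.leaf) 215457 7
 Tr.leaf)) 215467 6
 (Tr.node (Tr.node (Tr.node Tr.leaf 215475 6
 Tr.leaf) 215481 6
 Tr.leaf) 215482 6
 (Tr.node Tr.leaf 215491 7
 Tr.leaf)))) 215502 5
 (Tr.node (Tr.node (Tr.node (Tr.node (Tr.node Tr.leaf 215505 7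
 Tr.leaf) 215506 7
 Tr.leaf) 215509 6
 (Tr.node (Tr.node Tr.leaf 215510 5
 Tr.leaf) 215515 7
 Tr.leaf)) 215519 7
 (Tr.node (Tr.node (Tr.node Tr.leaf 215523 7
 Tr.leaf) 215527 7
 Tr.leaf) 215529 6
 (Tr.node (Tr.node Tr.leaf 215534 7
 Tr.leaf) 215538 6
 Tr.leaf))) 216075 7
 (Tr.node (Tr.node (Tr.node (Tr.node Tr.leaf 216081 7
 Tr.leaf) 216085 7
 Tr.leaf) 216087 7
 (Tr.node (Tr.node Tr.leaf 216105 6
 Tr.leaf) 216109 7
 Tr.leaf)) 216117 7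
 (Tr.node (Tr.node (Tr.node Tr.leaf 216129 6
 Tr.leaf) 216135 7
 Tr.leaf) 216153 8
 (Tr.node Tr.leaf 216155 7
 Tr.leaf))))) 216157 7
 (Tr.node (Tr.node (Tr.node (Tr.node (Tr.node (Tr.node Tr.leaf 216163 7
 Tr.leaf) 216167 6
 Tr.leaf) 216187 7
 (Tr.node (Tr.node Tr.leaf 216203 5
 Tr.leaf) 216209 7
 Tr.leaf)) 216233 6
 (Tr.node (Tr.node (Tr.node Tr.leaf 216245 6
 Tr.leaf) 216247 6
 Tr.leaf) 216259 5
 (Tr.node (Tr.node Tr.leaf 216263 7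
 Tr.leaf) 216281 7
 Tr.leaf))) 216283 7
 (Tr.node (Tr.node (Tr.node (Tr.node Tr.leaf 216291 6
 Tr.leaf) 216313 7
 Tr.leaf) 216315 7
 (Tr.node (Tr.node Tr.leaf 216317 7
 Tr.leaf) 216333 7
 Tr.leaf)) 216337 6
 (Tr.node (Tr.node (Tr.node Tr.leaf 216339 6
 Tr.leaf) 216361 6
 Tr.leaf) 216363 7
 (Tr.node Tr.leaf 216365 5
 Tr.leaf)))) 216371 7
 (Tr.node (Tr.node (Tr.node (Tr.node (Tr.node Tr.leaf 216373 7
 Tr.leaf) 216375 7
 Tr.leaf) 216385 6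
 (Tr.node (Tr.node Tr.leaf 216387 7
 Tr.leaf) 216391 7
 Tr.leaf)) 216409 7
 (Tr.node (Tr.node (Tr.node Tr.leaf 216411 7
 Tr.leaf) 216413 7
 Tr.leaf) 216417 6
 (Tr.node Tr.leaf 216419 7
 Tr.leaf))) 216421 5
 (Tr.node (Tr.node (Tr.node (Tr.node Tr.leaf 216423 7
 Tr.leaf) 216441 7
 Tr.leaf) 216445 7
 (Tr.node (Tr.node Tr.leaf 216457 7
 Tr.leaf) 216461 7
 Tr.leaf)) 216463 6
 (Tr.node (Tr.node (Tr.node Tr.leaf 216465 7
 Tr.leaf) 216467 7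
 Tr.leaf) 216469 7
 (Tr.node Tr.leaf 216471 7
 Tr.leaf))))))))

/-- A subtree. -/
def tr1_s53 : Tr := (Tr.node (Tr.node (Tr.node (Tr.node (Tr.node (Tr.node (Tr.node (Tr.node (Tr.node Tr.leaf 216493 6
 Tr.leaf) 216495 6
 Tr.leaf) 216513 6
 (Tr.node (Tr.node Tr.leaf 216519 7
 Tr.leaf) 216543 7
 Tr.leaf)) 216547 6
 (Tr.node (Tr.node (Tr.node Tr.leaf 216571 8
 Tr.leaf) 217090 5
 Tr.leaf) 217092 6
 (Tr.node (Tr.node Tr.leaf 217095 7
 Tr.leaf) 217103 6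
 Tr.leaf))) 217107 7
 (Tr.node (Tr.node (Tr.node (Tr.node Tr.leaf 217109 7
 Tr.leaf) 217110 7
 Tr.leaf) 217132 6
 (Tr.node (Tr.node Tr.leaf 217135 5
 Tr.leaf) 217141 7
 Tr.leaf)) 217147 6
 (Tr.node (Tr.node (Tr.node Tr.leaf 217149 6
 Tr.leaf) 217155 7
 Tr.leaf) 217158 6
 (Tr.node Tr.leaf 217163 6
 Tr.leaf)))) 217169 7
 (Tr.node (Tr.node (Tr.node (Tr.node (Tr.node Tr.leaf 217170 6
 Tr.leaf) 217172 7
 Tr.leaf) 217178 6
 (Tr.node (Tr.node Tr.leaf 217187 7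
 Tr.leaf) 217189 7
 Tr.leaf)) 217197 7
 (Tr.node (Tr.node (Tr.node Tr.leaf 217201 7
 Tr.leaf) 217204 7
 Tr.leaf) 217209 7
 (Tr.node (Tr.node Tr.leaf 217210 7
 Tr.leaf) 217217 6
 Tr.leaf))) 217223 6
 (Tr.node (Tr.node (Tr.node (Tr.node Tr.leaf 217226 6
 Tr.leaf) 217228 6
 Tr.leaf) 217231 6
 (Tr.node (Tr.node Tr.leaf 217235 7
 Tr.leaf) 217237 7
 Tr.leaf)) 217238 7
 (Tr.node (Tr.node (Tr.node Tr.leaf 217243 7
 Tr.leaf) 217246 6
 Tr.leaf) 217249 6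
 (Tr.node Tr.leaf 217250 6
 Tr.leaf))))) 217252 6
 (Tr.node (Tr.node (Tr.node (Tr.node (Tr.node (Tr.node Tr.leaf 217260 7
 Tr.leaf) 217263 6
 Tr.leaf) 217269 7
 (Tr.node (Tr.node Tr.leaf 217270 6
 Tr.leaf) 217275 6
 Tr.leaf)) 217277 7
 (Tr.node (Tr.node (Tr.node Tr.leaf 217283 7
 Tr.leaf) 217286 6
 Tr.leaf) 217291 7
 (Tr.node (Tr.node Tr.leaf 217294 6
 Tr.leaf) 217297 7
 Tr.leaf))) 217298 7
 (Tr.node (Tr.node (Tr.node (Tr.node Tr.leaf 217300 7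
 Tr.leaf) 217305 7
 Tr.leaf) 217306 5
 (Tr.node (Tr.node Tr.leaf 217308 5
 Tr.leaf) 217311 8
 Tr.leaf)) 217317 6
 (Tr.node (Tr.node (Tr.node Tr.leaf 217318 7
 Tr.leaf) 217323 7
 Tr.leaf) 217335 8
 (Tr.node Tr.leaf 217340 6
 Tr.leaf)))) 217343 7
 (Tr.node (Tr.node (Tr.node (Tr.node (Tr.node Tr.leaf 217345 6
 Tr.leaf) 217346 6
 Tr.leaf) 217351 6
 (Tr.node (Tr.node Tr.leaf 217356 6
 Tr.leaf) 217359 6
 Tr.leaf)) 217371 6
 (Tr.node (Tr.node (Tr.node Tr.leaf 217373 7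
 Tr.leaf) 217374 6
 Tr.leaf) 217377 6
 (Tr.node Tr.leaf 217380 6
 Tr.leaf))) 217388 7
 (Tr.node (Tr.node (Tr.node (Tr.node Tr.leaf 217397 7
 Tr.leaf) 217398 6
 Tr.leaf) 217403 7
 (Tr.node (Tr.node Tr.leaf 217405 7
 Tr.leaf) 217419 7
 Tr.leaf)) 217421 6
 (Tr.node (Tr.node (Tr.node Tr.leaf 217428 6
 Tr.leaf) 217439 7
 Tr.leaf) 217445 7
 (Tr.node Tr.leaf 217446 6
 Tr.leaf)))))) 217451 7
 (Tr.node (Tr.node (Tr.node (Tr.node (Tr.node (Tr.node (Tr.node Tr.leaf 217453 6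
 Tr.leaf) 217454 6
 Tr.leaf) 217457 7
 (Tr.node (Tr.node Tr.leaf 217458 6
 Tr.leaf) 217460 6
 Tr.leaf)) 217463 8
 (Tr.node (Tr.node (Tr.node Tr.leaf 217476 6
 Tr.leaf) 217479 5
 Tr.leaf) 217481 6
 (Tr.node (Tr.node Tr.leaf 217482 6
 Tr.leaf) 217484 6
 Tr.leaf))) 217491 7
 (Tr.node (Tr.node (Tr.node (Tr.node Tr.leaf 217494 7
 Tr.leaf) 217501 7
 Tr.leaf) 217502 7
 (Tr.node (Tr.node Tr.leaf 217506 6
 Tr.leaf) 217508 7
 Tr.leaf)) 217513 6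
 (Tr.node (Tr.node (Tr.node Tr.leaf 217533 7
 Tr.leaf) 217539 6
 Tr.leaf) 217541 6
 (Tr.node Tr.leaf 217542 7
 Tr.leaf)))) 217549 7
 (Tr.node (Tr.node (Tr.node (Tr.node (Tr.node Tr.leaf 217550 6
 Tr.leaf) 217559 7
 Tr.leaf) 217573 7
 (Tr.node (Tr.node Tr.leaf 217574 6
 Tr.leaf) 217585 7
 Tr.leaf)) 217586 6
 (Tr.node (Tr.node (Tr.node Tr.leaf 217588 7
 Tr.leaf) 217593 7
 Tr.leaf) 217594 6
 (Tr.node (Tr.node Tr.leaf 218119 6
 Tr.leaf) 218129 7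
 Tr.leaf))) 218131 6
 (Tr.node (Tr.node (Tr.node (Tr.node Tr.leaf 218139 6
 Tr.leaf) 218149 7
 Tr.leaf) 218151 7
 (Tr.node (Tr.node Tr.leaf 218161 7
 Tr.leaf) 218163 7
 Tr.leaf)) 218169 6
 (Tr.node (Tr.node (Tr.node Tr.leaf 218177 7
 Tr.leaf) 218179 7
 Tr.leaf) 218185 7
 (Tr.node Tr.leaf 218187 6
 Tr.leaf))))) 218199 7
 (Tr.node (Tr.node (Tr.node (Tr.node (Tr.node (Tr.node Tr.leaf 218209 7
 Tr.leaf) 218211 6
 Tr.leaf) 218217 6
 (Tr.node (Tr.node Tr.leaf 218229 7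
 Tr.leaf) 218237 7
 Tr.leaf)) 218247 7
 (Tr.node (Tr.node (Tr.node Tr.leaf 218253 6
 Tr.leaf) 218255 6
 Tr.leaf) 218265 7
 (Tr.node (Tr.node Tr.leaf 218277 6
 Tr.leaf) 218285 7
 Tr.leaf))) 218289 6
 (Tr.node (Tr.node (Tr.node (Tr.node Tr.leaf 218291 7
 Tr.leaf) 218299 7
 Tr.leaf) 218313 7
 (Tr.node (Tr.node Tr.leaf 218325 7
 Tr.leaf) 218335 7
 Tr.leaf)) 218337 6
 (Tr.node (Tr.node (Tr.node Tr.leaf 218345 7
 Tr.leaf) 218347 7
 Tr.leaf) 218373 7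
 (Tr.node Tr.leaf 218381 7
 Tr.leaf)))) 218383 6
 (Tr.node (Tr.node (Tr.node (Tr.node (Tr.node Tr.leaf 218385 7
 Tr.leaf) 218387 7
 Tr.leaf) 218395 6
 (Tr.node (Tr.node Tr.leaf 218407 6
 Tr.leaf) 218413 6
 Tr.leaf)) 218415 7
 (Tr.node (Tr.node (Tr.node Tr.leaf 218419 7
 Tr.leaf) 218425 6
 Tr.leaf) 218427 7
 (Tr.node Tr.leaf 218441 7
 Tr.leaf))) 218443 6
 (Tr.node (Tr.node (Tr.node (Tr.node Tr.leaf 218467 7
 Tr.leaf) 218475 7
 Tr.leaf) 218493 7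
 (Tr.node (Tr.node Tr.leaf 218495 7
 Tr.leaf) 218509 7
 Tr.leaf)) 218521 7
 (Tr.node (Tr.node (Tr.node Tr.leaf 218533 6
 Tr.leaf) 218535 7
 Tr.leaf) 218541 7
 (Tr.node Tr.leaf 218543 7
 Tr.leaf))))))) 218545 6
 (Tr.node (Tr.node (Tr.node (Tr.node (Tr.node (Tr.node (Tr.node (Tr.node Tr.leaf 218547 6
 Tr.leaf) 218555 7
 Tr.leaf) 218561 6
 (Tr.node (Tr.node Tr.leaf 218563 7
 Tr.leaf) 218569 6
 Tr.leaf)) 218581 8
 (Tr.node (Tr.node (Tr.node Tr.leaf 218591 7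
 Tr.leaf) 218595 6
 Tr.leaf) 218615 7
 (Tr.node (Tr.node Tr.leaf 219139 7
 Tr.leaf) 219143 7
 Tr.leaf))) 219147 7
 (Tr.node (Tr.node (Tr.node (Tr.node Tr.leaf 219154 6
 Tr.leaf) 219158 6
 Tr.leaf) 219161 7
 (Tr.node (Tr.node Tr.leaf 219162 7
 Tr.leaf) 219166 6
 Tr.leaf)) 219171 6
 (Tr.node (Tr.node (Tr.node Tr.leaf 219175 6
 Tr.leaf) 219183 6
 Tr.leaf) 219186 6
 (Tr.node Tr.leaf 219190 6
 Tr.leaf)))) 219193 6
 (Tr.node (Tr.node (Tr.node (Tr.node (Tr.node Tr.leaf 219194 7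
 Tr.leaf) 219205 7
 Tr.leaf) 219206 5
 (Tr.node (Tr.node Tr.leaf 219210 5
 Tr.leaf) 219213 6
 Tr.leaf)) 219223 8
 (Tr.node (Tr.node (Tr.node Tr.leaf 219231 7
 Tr.leaf) 219234 6
 Tr.leaf) 219237 6
 (Tr.node (Tr.node Tr.leaf 219242 6
 Tr.leaf) 219245 7
 Tr.leaf))) 219267 7
 (Tr.node (Tr.node (Tr.node (Tr.node Tr.leaf 219271 6
 Tr.leaf) 219275 7
 Tr.leaf) 219279 7
 (Tr.node (Tr.node Tr.leaf 219281 7
 Tr.leaf) 219289 7
 Tr.leaf)) 219299 7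
 (Tr.node (Tr.node (Tr.node Tr.leaf 219307 6
 Tr.leaf) 219317 6
 Tr.leaf) 219321 6
 (Tr.node Tr.leaf 219322 6
 Tr.leaf))))) 219333 7
 (Tr.node (Tr.node (Tr.node (Tr.node (Tr.node (Tr.node Tr.leaf 219337 7
 Tr.leaf) 219341 6
 Tr.leaf) 219342 6
 (Tr.node (Tr.node Tr.leaf 219347 8
 Tr.leaf) 219359 7
 Tr.leaf)) 219361 7
 (Tr.node (Tr.node (Tr.node Tr.leaf 219362 6
 Tr.leaf) 219365 7
 Tr.leaf) 219366 7
 (Tr.node (Tr.node Tr.leaf 219370 6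
 Tr.leaf) 219373 7
 Tr.leaf))) 219374 6
 (Tr.node (Tr.node (Tr.node (Tr.node Tr.leaf 219379 7
 Tr.leaf) 219387 7
 Tr.leaf) 219407 6
 (Tr.node (Tr.node Tr.leaf 219409 6
 Tr.leaf) 219413 7
 Tr.leaf)) 219414 6
 (Tr.node (Tr.node (Tr.node Tr.leaf 219421 7
 Tr.leaf) 219435 6
 Tr.leaf) 219439 7
 (Tr.node Tr.leaf 219441 5
 Tr.leaf)))) 219445 7
 (Tr.node (Tr.node (Tr.node (Tr.node (Tr.node Tr.leaf 219446 7
 Tr.leaf) 219450 7
 Tr.leaf) 219454 7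
 (Tr.node (Tr.node Tr.leaf 219458 6
 Tr.leaf) 219461 7
 Tr.leaf)) 219462 6
 (Tr.node (Tr.node (Tr.node Tr.leaf 219465 6
 Tr.leaf) 219470 6
 Tr.leaf) 219487 6
 (Tr.node Tr.leaf 219490 6
 Tr.leaf))) 219498 7
 (Tr.node (Tr.node (Tr.node (Tr.node Tr.leaf 219501 7
 Tr.leaf) 219519 8
 Tr.leaf) 219527 6
 (Tr.node (Tr.node Tr.leaf 219535 7
 Tr.leaf) 219538 7
 Tr.leaf)) 219541 7
 (Tr.node (Tr.node (Tr.node Tr.leaf 219545 7
 Tr.leaf) 219546 6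
 Tr.leaf) 219549 6
 (Tr.node Tr.leaf 219550 5
 Tr.leaf)))))) 219569 6
 (Tr.node (Tr.node (Tr.node (Tr.node (Tr.node (Tr.node (Tr.node Tr.leaf 219570 6
 Tr.leaf) 219573 7
 Tr.leaf) 219577 7
 (Tr.node (Tr.node Tr.leaf 219578 6
 Tr.leaf) 219582 6
 Tr.leaf)) 219590 6
 (Tr.node (Tr.node (Tr.node Tr.leaf 219593 6
 Tr.leaf) 219594 7
 Tr.leaf) 219597 6
 (Tr.node (Tr.node Tr.leaf 219598 6
 Tr.leaf) 219607 7
 Tr.leaf))) 219615 7
 (Tr.node (Tr.node (Tr.node (Tr.node Tr.leaf 219617 7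
 Tr.leaf) 219622 5
 Tr.leaf) 219626 5
 (Tr.node (Tr.node Tr.leaf 219629 7
 Tr.leaf) 219639 7
 Tr.leaf)) 219643 8
 (Tr.node (Tr.node (Tr.node Tr.leaf 219647 7
 Tr.leaf) 220161 5
 Tr.leaf) 220163 6
 (Tr.node Tr.leaf 220165 7
 Tr.leaf)))) 220171 6
 (Tr.node (Tr.node (Tr.node (Tr.node (Tr.node Tr.leaf 220175 5
 Tr.leaf) 220193 7
 Tr.leaf) 220197 7
 (Tr.node (Tr.node Tr.leaf 220199 6
 Tr.leaf) 220201 6
 Tr.leaf)) 220205 7
 (Tr.node (Tr.node (Tr.node Tr.leaf 220241 7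
 Tr.leaf) 220243 7
 Tr.leaf) 220249 7
 (Tr.node Tr.leaf 220251 7
 Tr.leaf))) 220255 8
 (Tr.node (Tr.node (Tr.node (Tr.node Tr.leaf 220279 7
 Tr.leaf) 220281 7
 Tr.leaf) 220283 7
 (Tr.node (Tr.node Tr.leaf 220285 7
 Tr.leaf) 220297 7
 Tr.leaf)) 220303 6
 (Tr.node (Tr.node (Tr.node Tr.leaf 220321 6
 Tr.leaf) 220325 7
 Tr.leaf) 220329 6
 (Tr.node Tr.leaf 220331 6
 Tr.leaf))))) 220333 7
 (Tr.node (Tr.node (Tr.node (Tr.node (Tr.node (Tr.node Tr.leaf 220335 7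
 Tr.leaf) 220383 7
 Tr.leaf) 220405 7
 (Tr.node (Tr.node Tr.leaf 220407 7
 Tr.leaf) 220417 7
 Tr.leaf)) 220421 6
 (Tr.node (Tr.node (Tr.node Tr.leaf 220425 7
 Tr.leaf) 220427 7
 Tr.leaf) 220429 7
 (Tr.node (Tr.node Tr.leaf 220449 6
 Tr.leaf) 220451 7
 Tr.leaf))) 220455 7
 (Tr.node (Tr.node (Tr.node (Tr.node Tr.leaf 220457 6
 Tr.leaf) 220459 7
 Tr.leaf) 220463 7
 (Tr.node (Tr.node Tr.leaf 220497 7
 Tr.leaf) 220499 7
 Tr.leaf)) 220505 7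
 (Tr.node (Tr.node (Tr.node Tr.leaf 220507 7
 Tr.leaf) 220529 8
 Tr.leaf) 220531 6
 (Tr.node Tr.leaf 220533 6
 Tr.leaf)))) 220537 6
 (Tr.node (Tr.node (Tr.node (Tr.node (Tr.node Tr.leaf 220541 7
 Tr.leaf) 220545 7
 Tr.leaf) 220549 7
 (Tr.node (Tr.node Tr.leaf 220553 6
 Tr.leaf) 220557 7
 Tr.leaf)) 220577 5
 (Tr.node (Tr.node (Tr.node Tr.leaf 220583 7
 Tr.leaf) 220587 7
 Tr.leaf) 220591 5
 (Tr.node Tr.leaf 220631 7
 Tr.leaf))) 220633 7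
 (Tr.node (Tr.node (Tr.node (Tr.node Tr.leaf 220637 7
 Tr.leaf) 220639 7
 Tr.leaf) 220659 7
 (Tr.node (Tr.node Tr.leaf 220663 7
 Tr.leaf) 220665 7
 Tr.leaf)) 220669 8
 (Tr.node (Tr.node (Tr.node Tr.leaf 221195 7
 Tr.leaf) 221197 7
 Tr.leaf) 221201 6
 (Tr.node Tr.leaf 221202 5
 Tr.leaf))))))))

/-- A subtree. -/
def tr1_s54 : Tr := (Tr.node (Tr.node (Tr.node (Tr.node (Tr.node (Tr.node (Tr.node (Tr.node (Tr.node Tr.leaf 221211 7
 Tr.leaf) 221217 6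
 Tr.leaf) 221223 7
 (Tr.node (Tr.node Tr.leaf 221224 5
 Tr.leaf) 221229 7
 Tr.leaf)) 221230 6
 (Tr.node (Tr.node (Tr.node Tr.leaf 221239 7
 Tr.leaf) 221245 6
 Tr.leaf) 221251 7
 (Tr.node (Tr.node Tr.leaf 221253 7
 Tr.leaf) 221269 7
 Tr.leaf))) 221273 7
 (Tr.node (Tr.node (Tr.node (Tr.node Tr.leaf 221274 6
 Tr.leaf) 221276 7
 Tr.leaf) 221283 7
 (Tr.node (Tr.node Tr.leaf 221286 7
 Tr.leaf) 221301 6
 Tr.leaf)) 221313 6
 (Tr.node (Tr.node (Tr.node Tr.leaf 221319 7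
 Tr.leaf) 221320 6
 Tr.leaf) 221325 7
 (Tr.node Tr.leaf 221326 7
 Tr.leaf)))) 221339 6
 (Tr.node (Tr.node (Tr.node (Tr.node (Tr.node Tr.leaf 221341 6
 Tr.leaf) 221345 6
 Tr.leaf) 221346 6
 (Tr.node (Tr.node Tr.leaf 221348 6
 Tr.leaf) 221355 6
 Tr.leaf)) 221357 6
 (Tr.node (Tr.node (Tr.node Tr.leaf 221358 7
 Tr.leaf) 221361 6
 Tr.leaf) 221367 7
 (Tr.node (Tr.node Tr.leaf 221368 6
 Tr.leaf) 221371 7
 Tr.leaf))) 221374 7
 (Tr.node (Tr.node (Tr.node (Tr.node Tr.leaf 221379 7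
 Tr.leaf) 221382 6
 Tr.leaf) 221401 7
 (Tr.node (Tr.node Tr.leaf 221411 6
 Tr.leaf) 221413 6
 Tr.leaf)) 221414 7
 (Tr.node (Tr.node (Tr.node Tr.leaf 221429 7
 Tr.leaf) 221430 6
 Tr.leaf) 221441 6
 (Tr.node Tr.leaf 221442 6
 Tr.leaf))))) 221444 5
 (Tr.node (Tr.node (Tr.node (Tr.node (Tr.node (Tr.node Tr.leaf 221451 7
 Tr.leaf) 221457 6
 Tr.leaf) 221464 6
 (Tr.node (Tr.node Tr.leaf 221467 6
 Tr.leaf) 221469 6
 Tr.leaf)) 221489 6
 (Tr.node (Tr.node (Tr.node Tr.leaf 221490 5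
 Tr.leaf) 221492 6
 Tr.leaf) 221501 7
 (Tr.node (Tr.node Tr.leaf 221509 7
 Tr.leaf) 221513 7
 Tr.leaf))) 221514 7
 (Tr.node (Tr.node (Tr.node (Tr.node Tr.leaf 221516 6
 Tr.leaf) 221523 6
 Tr.leaf) 221525 6
 (Tr.node (Tr.node Tr.leaf 221530 7
 Tr.leaf) 221532 7
 Tr.leaf)) 221539 6
 (Tr.node (Tr.node (Tr.node Tr.leaf 221541 6
 Tr.leaf) 221545 7
 Tr.leaf) 221555 7
 (Tr.node Tr.leaf 221561 7
 Tr.leaf)))) 221562 6
 (Tr.node (Tr.node (Tr.node (Tr.node (Tr.node Tr.leaf 221564 7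
 Tr.leaf) 221575 7
 Tr.leaf) 221579 6
 (Tr.node (Tr.node Tr.leaf 221585 6
 Tr.leaf) 221586 6
 Tr.leaf)) 221588 5
 (Tr.node (Tr.node (Tr.node Tr.leaf 221597 7
 Tr.leaf) 221601 6
 Tr.leaf) 221607 7
 (Tr.node Tr.leaf 221608 5
 Tr.leaf))) 221611 7
 (Tr.node (Tr.node (Tr.node (Tr.node Tr.leaf 221614 6
 Tr.leaf) 221627 7
 Tr.leaf) 221629 7
 (Tr.node (Tr.node Tr.leaf 221635 6
 Tr.leaf) 221651 7
 Tr.leaf)) 221657 7
 (Tr.node (Tr.node (Tr.node Tr.leaf 221658 7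
 Tr.leaf) 221660 6
 Tr.leaf) 221669 7
 (Tr.node Tr.leaf 221670 7
 Tr.leaf)))))) 221683 7
 (Tr.node (Tr.node (Tr.node (Tr.node (Tr.node (Tr.node (Tr.node Tr.leaf 221685 7
 Tr.leaf) 222215 6
 Tr.leaf) 222217 7
 (Tr.node (Tr.node Tr.leaf 222245 7
 Tr.leaf) 222247 7
 Tr.leaf)) 222249 7
 (Tr.node (Tr.node (Tr.node Tr.leaf 222261 6
 Tr.leaf) 222263 6
 Tr.leaf) 222265 7
 (Tr.node (Tr.node Tr.leaf 222267 7
 Tr.leaf) 222275 6
 Tr.leaf))) 222287 8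
 (Tr.node (Tr.node (Tr.node (Tr.node Tr.leaf 222289 6
 Tr.leaf) 222291 7
 Tr.leaf) 222321 7
 (Tr.node (Tr.node Tr.leaf 222323 7
 Tr.leaf) 222333 7
 Tr.leaf)) 222335 7
 (Tr.node (Tr.node (Tr.node Tr.leaf 222341 7
 Tr.leaf) 222347 6
 Tr.leaf) 222359 6
 (Tr.node Tr.leaf 222377 6
 Tr.leaf)))) 222389 7
 (Tr.node (Tr.node (Tr.node (Tr.node (Tr.node Tr.leaf 222391 7
 Tr.leaf) 222401 7
 Tr.leaf) 222403 6
 (Tr.node (Tr.node Tr.leaf 222413 8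
 Tr.leaf) 222415 7
 Tr.leaf)) 222417 6
 (Tr.node (Tr.node (Tr.node Tr.leaf 222431 8
 Tr.leaf) 222435 6
 Tr.leaf) 222445 7
 (Tr.node (Tr.node Tr.leaf 222447 7
 Tr.leaf) 222451 7
 Tr.leaf))) 222469 7
 (Tr.node (Tr.node (Tr.node (Tr.node Tr.leaf 222473 6
 Tr.leaf) 222485 7
 Tr.leaf) 222487 7
 (Tr.node (Tr.node Tr.leaf 222501 6
 Tr.leaf) 222507 6
 Tr.leaf)) 222521 7
 (Tr.node (Tr.node (Tr.node Tr.leaf 222523 6
 Tr.leaf) 222529 7
 Tr.leaf) 222531 7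
 (Tr.node Tr.leaf 222541 7
 Tr.leaf))))) 222573 8
 (Tr.node (Tr.node (Tr.node (Tr.node (Tr.node (Tr.node Tr.leaf 222597 6
 Tr.leaf) 222599 6
 Tr.leaf) 222603 6
 (Tr.node (Tr.node Tr.leaf 222615 7
 Tr.leaf) 222617 7
 Tr.leaf)) 222619 7
 (Tr.node (Tr.node (Tr.node Tr.leaf 222631 7
 Tr.leaf) 222633 6
 Tr.leaf) 222635 7
 (Tr.node (Tr.node Tr.leaf 222645 6
 Tr.leaf) 222649 6
 Tr.leaf))) 222657 6
 (Tr.node (Tr.node (Tr.node (Tr.node Tr.leaf 222675 6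
 Tr.leaf) 222687 7
 Tr.leaf) 222689 6
 (Tr.node (Tr.node Tr.leaf 222701 7
 Tr.leaf) 222703 7
 Tr.leaf)) 222707 7
 (Tr.node (Tr.node (Tr.node Tr.leaf 222717 8
 Tr.leaf) 223239 6
 Tr.leaf) 223242 6
 (Tr.node Tr.leaf 223245 6
 Tr.leaf)))) 223246 6
 (Tr.node (Tr.node (Tr.node (Tr.node (Tr.node Tr.leaf 223251 7
 Tr.leaf) 223257 7
 Tr.leaf) 223258 7
 (Tr.node (Tr.node Tr.leaf 223261 7
 Tr.leaf) 223267 7
 Tr.leaf)) 223273 7
 (Tr.node (Tr.node (Tr.node Tr.leaf 223274 6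
 Tr.leaf) 223277 6
 Tr.leaf) 223278 5
 (Tr.node Tr.leaf 223283 6
 Tr.leaf))) 223287 6
 (Tr.node (Tr.node (Tr.node (Tr.node Tr.leaf 223289 6
 Tr.leaf) 223290 6
 Tr.leaf) 223297 7
 (Tr.node (Tr.node Tr.leaf 223298 6
 Tr.leaf) 223302 6
 Tr.leaf)) 223311 8
 (Tr.node (Tr.node (Tr.node Tr.leaf 223313 6
 Tr.leaf) 223314 6
 Tr.leaf) 223323 7
 (Tr.node Tr.leaf 223330 6
 Tr.leaf))))))) 223333 6
 (Tr.node (Tr.node (Tr.node (Tr.node (Tr.node (Tr.node (Tr.node (Tr.node Tr.leaf 223339 8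
 Tr.leaf) 223343 7
 Tr.leaf) 223349 6
 (Tr.node (Tr.node Tr.leaf 223350 6
 Tr.leaf) 223363 7
 Tr.leaf)) 223367 7
 (Tr.node (Tr.node (Tr.node Tr.leaf 223370 5
 Tr.leaf) 223379 6
 Tr.leaf) 223386 6
 (Tr.node (Tr.node Tr.leaf 223405 6
 Tr.leaf) 223415 7
 Tr.leaf))) 223417 6
 (Tr.node (Tr.node (Tr.node (Tr.node Tr.leaf 223422 6
 Tr.leaf) 223425 7
 Tr.leaf) 223430 7
 (Tr.node (Tr.node Tr.leaf 223442 6
 Tr.leaf) 223445 6
 Tr.leaf)) 223451 8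
 (Tr.node (Tr.node (Tr.node Tr.leaf 223457 6
 Tr.leaf) 223467 7
 Tr.leaf) 223471 7
 (Tr.node Tr.leaf 223473 6
 Tr.leaf)))) 223474 6
 (Tr.node (Tr.node (Tr.node (Tr.node (Tr.node Tr.leaf 223477 7
 Tr.leaf) 223478 6
 Tr.leaf) 223483 7
 (Tr.node (Tr.node Tr.leaf 223487 7
 Tr.leaf) 223497 6
 Tr.leaf)) 223501 7
 (Tr.node (Tr.node (Tr.node Tr.leaf 223502 7
 Tr.leaf) 223507 7
 Tr.leaf) 223511 7
 (Tr.node (Tr.node Tr.leaf 223514 7
 Tr.leaf) 223518 7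
 Tr.leaf))) 223527 6
 (Tr.node (Tr.node (Tr.node (Tr.node Tr.leaf 223529 6
 Tr.leaf) 223534 6
 Tr.leaf) 223543 7
 (Tr.node (Tr.node Tr.leaf 223549 6
 Tr.leaf) 223550 6
 Tr.leaf)) 223554 6
 (Tr.node (Tr.node (Tr.node Tr.leaf 223558 6
 Tr.leaf) 223570 7
 Tr.leaf) 223574 7
 (Tr.node Tr.leaf 223590 6
 Tr.leaf))))) 223599 8
 (Tr.node (Tr.node (Tr.node (Tr.node (Tr.node (Tr.node Tr.leaf 223601 7
 Tr.leaf) 223605 7
 Tr.leaf) 223606 7
 (Tr.node (Tr.node Tr.leaf 223615 7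
 Tr.leaf) 223619 6
 Tr.leaf)) 223623 6
 (Tr.node (Tr.node (Tr.node Tr.leaf 223625 7
 Tr.leaf) 223629 7
 Tr.leaf) 223630 6
 (Tr.node (Tr.node Tr.leaf 223642 6
 Tr.leaf) 223646 6
 Tr.leaf))) 223651 7
 (Tr.node (Tr.node (Tr.node (Tr.node Tr.leaf 223655 7
 Tr.leaf) 223658 7
 Tr.leaf) 223661 7
 (Tr.node (Tr.node Tr.leaf 223667 6
 Tr.leaf) 223674 6
 Tr.leaf)) 223677 7
 (Tr.node (Tr.node (Tr.node Tr.leaf 223678 6
 Tr.leaf) 223681 7
 Tr.leaf) 223682 6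
 (Tr.node Tr.leaf 223685 7
 Tr.leaf)))) 223691 7
 (Tr.node (Tr.node (Tr.node (Tr.node (Tr.node Tr.leaf 223695 7
 Tr.leaf) 223697 7
 Tr.leaf) 223698 7
 (Tr.node (Tr.node Tr.leaf 223701 6
 Tr.leaf) 223718 5
 Tr.leaf)) 223729 6
 (Tr.node (Tr.node (Tr.node Tr.leaf 223730 6
 Tr.leaf) 223734 6
 Tr.leaf) 223739 8
 (Tr.node Tr.leaf 224259 6
 Tr.leaf))) 224261 6
 (Tr.node (Tr.node (Tr.node (Tr.node Tr.leaf 224263 7
 Tr.leaf) 224277 7
 Tr.leaf) 224289 7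
 (Tr.node (Tr.node Tr.leaf 224291 7
 Tr.leaf) 224293 7
 Tr.leaf)) 224295 7
 (Tr.node (Tr.node (Tr.node Tr.leaf 224331 7
 Tr.leaf) 224333 7
 Tr.leaf) 224345 8
 (Tr.node Tr.leaf 224347 8
 Tr.leaf)))))) 224351 7
 (Tr.node (Tr.node (Tr.node (Tr.node (Tr.node (Tr.node (Tr.node Tr.leaf 224363 7
 Tr.leaf) 224365 8
 Tr.leaf) 224385 7
 (Tr.node (Tr.node Tr.leaf 224387 7
 Tr.leaf) 224389 7
 Tr.leaf)) 224391 7
 (Tr.node (Tr.node (Tr.node Tr.leaf 224401 6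
 Tr.leaf) 224403 7
 Tr.leaf) 224407 6
 (Tr.node (Tr.node Tr.leaf 224417 7
 Tr.leaf) 224423 7
 Tr.leaf))) 224433 7
 (Tr.node (Tr.node (Tr.node (Tr.node Tr.leaf 224435 7
 Tr.leaf) 224437 7
 Tr.leaf) 224439 7
 (Tr.node (Tr.node Tr.leaf 224459 8
 Tr.leaf) 224461 7
 Tr.leaf)) 224473 8
 (Tr.node (Tr.node (Tr.node Tr.leaf 224475 8
 Tr.leaf) 224479 8
 Tr.leaf) 224489 8
 (Tr.node Tr.leaf 224491 7
 Tr.leaf)))) 224493 7
 (Tr.node (Tr.node (Tr.node (Tr.node (Tr.node Tr.leaf 224495 8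
 Tr.leaf) 224507 8
 Tr.leaf) 224509 7
 (Tr.node (Tr.node Tr.leaf 224515 7
 Tr.leaf) 224529 7
 Tr.leaf)) 224531 7
 (Tr.node (Tr.node (Tr.node Tr.leaf 224533 7
 Tr.leaf) 224535 7
 Tr.leaf) 224545 6
 (Tr.node Tr.leaf 224549 7
 Tr.leaf))) 224551 6
 (Tr.node (Tr.node (Tr.node (Tr.node Tr.leaf 224563 7
 Tr.leaf) 224585 8
 Tr.leaf) 224589 8
 (Tr.node (Tr.node Tr.leaf 224591 7
 Tr.leaf) 224601 8
 Tr.leaf)) 224607 8
 (Tr.node (Tr.node (Tr.node Tr.leaf 224617 8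
 Tr.leaf) 224621 8
 Tr.leaf) 224623 8
 (Tr.node Tr.leaf 224633 7
 Tr.leaf))))) 224637 8
 (Tr.node (Tr.node (Tr.node (Tr.node (Tr.node (Tr.node Tr.leaf 224639 8
 Tr.leaf) 224661 7
 Tr.leaf) 224673 7
 (Tr.node (Tr.node Tr.leaf 224675 7
 Tr.leaf) 224677 7
 Tr.leaf)) 224679 7
 (Tr.node (Tr.node (Tr.node Tr.leaf 224689 7
 Tr.leaf) 224691 6
 Tr.leaf) 224693 6
 (Tr.node (Tr.node Tr.leaf 224729 7
 Tr.leaf) 224731 8
 Tr.leaf))) 224735 8
 (Tr.node (Tr.node (Tr.node (Tr.node Tr.leaf 224747 7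
 Tr.leaf) 224749 8
 Tr.leaf) 224763 7
 (Tr.node (Tr.node Tr.leaf 224765 7
 Tr.leaf) 225285 7
 Tr.leaf)) 225291 6
 (Tr.node (Tr.node (Tr.node Tr.leaf 225299 7
 Tr.leaf) 225307 6
 Tr.leaf) 225309 6
 (Tr.node Tr.leaf 225315 6
 Tr.leaf)))) 225323 7
 (Tr.node (Tr.node (Tr.node (Tr.node (Tr.node Tr.leaf 225326 7
 Tr.leaf) 225331 6
 Tr.leaf) 225346 6
 (Tr.node (Tr.node Tr.leaf 225348 6
 Tr.leaf) 225353 6
 Tr.leaf)) 225354 6
 (Tr.node (Tr.node (Tr.node Tr.leaf 225356 6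
 Tr.leaf) 225359 8
 Tr.leaf) 225361 7
 (Tr.node Tr.leaf 225362 6
 Tr.leaf))) 225364 6
 (Tr.node (Tr.node (Tr.node (Tr.node Tr.leaf 225367 8
 Tr.leaf) 225370 5
 Tr.leaf) 225375 7
 (Tr.node (Tr.node Tr.leaf 225380 6
 Tr.leaf) 225386 7
 Tr.leaf)) 225388 6
 (Tr.node (Tr.node (Tr.node Tr.leaf 225401 6
 Tr.leaf) 225402 6
 Tr.leaf) 225404 6
 (Tr.node Tr.leaf 225407 8
 Tr.leaf))))))))

/-- A subtree. -/
def tr1_s55 : Tr := (Tr.node (Tr.node (Tr.node (Tr.node (Tr.node (Tr.node (Tr.node (Tr.node (Tr.node Tr.leaf 225413 6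
 Tr.leaf) 225414 7
 Tr.leaf) 225419 7
 (Tr.node (Tr.node Tr.leaf 225422 6
 Tr.leaf) 225427 6
 Tr.leaf)) 225430 6
 (Tr.node (Tr.node (Tr.node Tr.leaf 225437 6
 Tr.leaf) 225438 6
 Tr.leaf) 225446 6
 (Tr.node (Tr.node Tr.leaf 225454 6
 Tr.leaf) 225461 7
 Tr.leaf))) 225462 6
 (Tr.node (Tr.node (Tr.node (Tr.node Tr.leaf 225467 6
 Tr.leaf) 225469 7
 Tr.leaf) 225470 7
 (Tr.node (Tr.node Tr.leaf 225473 7
 Tr.leaf) 225474 7
 Tr.leaf)) 225476 6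
 (Tr.node (Tr.node (Tr.node Tr.leaf 225479 7
 Tr.leaf) 225489 6
 Tr.leaf) 225490 6
 (Tr.node Tr.leaf 225497 6
 Tr.leaf)))) 225500 6
 (Tr.node (Tr.node (Tr.node (Tr.node (Tr.node Tr.leaf 225505 7
 Tr.leaf) 225506 7
 Tr.leaf) 225508 7
 (Tr.node (Tr.node Tr.leaf 225513 7
 Tr.leaf) 225514 7
 Tr.leaf)) 225516 7
 (Tr.node (Tr.node (Tr.node Tr.leaf 225529 7
 Tr.leaf) 225530 6
 Tr.leaf) 225532 7
 (Tr.node (Tr.node Tr.leaf 225535 7
 Tr.leaf) 225541 7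
 Tr.leaf))) 225550 6
 (Tr.node (Tr.node (Tr.node (Tr.node Tr.leaf 225557 6
 Tr.leaf) 225558 5
 Tr.leaf) 225563 6
 (Tr.node (Tr.node Tr.leaf 225566 5
 Tr.leaf) 225571 7
 Tr.leaf)) 225573 7
 (Tr.node (Tr.node (Tr.node Tr.leaf 225574 6
 Tr.leaf) 225579 7
 Tr.leaf) 225581 7
 (Tr.node Tr.leaf 225582 6
 Tr.leaf))))) 225590 6
 (Tr.node (Tr.node (Tr.node (Tr.node (Tr.node (Tr.node Tr.leaf 225595 7
 Tr.leaf) 225601 7
 Tr.leaf) 225602 5
 (Tr.node (Tr.node Tr.leaf 225609 7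
 Tr.leaf) 225612 7
 Tr.leaf)) 225623 7
 (Tr.node (Tr.node (Tr.node Tr.leaf 225631 7
 Tr.leaf) 225633 6
 Tr.leaf) 225636 6
 (Tr.node (Tr.node Tr.leaf 225639 7
 Tr.leaf) 225641 6
 Tr.leaf))) 225642 6
 (Tr.node (Tr.node (Tr.node (Tr.node Tr.leaf 225647 7
 Tr.leaf) 225649 7
 Tr.leaf) 225650 7
 (Tr.node (Tr.node Tr.leaf 225657 7
 Tr.leaf) 225660 5
 Tr.leaf)) 225677 6
 (Tr.node (Tr.node (Tr.node Tr.leaf 225683 6
 Tr.leaf) 225685 6
 Tr.leaf) 225693 7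
 (Tr.node Tr.leaf 225701 7
 Tr.leaf)))) 225702 7
 (Tr.node (Tr.node (Tr.node (Tr.node (Tr.node Tr.leaf 225709 6
 Tr.leaf) 225717 6
 Tr.leaf) 225723 7
 (Tr.node (Tr.node Tr.leaf 225729 6
 Tr.leaf) 225730 6
 Tr.leaf)) 225732 6
 (Tr.node (Tr.node (Tr.node Tr.leaf 225735 8
 Tr.leaf) 225748 6
 Tr.leaf) 225751 7
 (Tr.node Tr.leaf 225753 7
 Tr.leaf))) 225754 6
 (Tr.node (Tr.node (Tr.node (Tr.node Tr.leaf 225756 6
 Tr.leaf) 225759 7
 Tr.leaf) 225762 6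
 (Tr.node (Tr.node Tr.leaf 225764 7
 Tr.leaf) 225770 6
 Tr.leaf)) 225777 6
 (Tr.node (Tr.node (Tr.node Tr.leaf 225778 6
 Tr.leaf) 225780 6
 Tr.leaf) 225783 8
 (Tr.node Tr.leaf 225786 6
 Tr.leaf)))))) 225788 6
 (Tr.node (Tr.node (Tr.node (Tr.node (Tr.node (Tr.node (Tr.node Tr.leaf 226305 7
 Tr.leaf) 226307 6
 Tr.leaf) 226321 7
 (Tr.node (Tr.node Tr.leaf 226331 7
 Tr.leaf) 226337 7
 Tr.leaf)) 226339 7
 (Tr.node (Tr.node (Tr.node Tr.leaf 226355 7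
 Tr.leaf) 226361 6
 Tr.leaf) 226375 7
 (Tr.node (Tr.node Tr.leaf 226383 7
 Tr.leaf) 226389 8
 Tr.leaf))) 226397 8
 (Tr.node (Tr.node (Tr.node (Tr.node Tr.leaf 226405 8
 Tr.leaf) 226413 8
 Tr.leaf) 226421 7
 (Tr.node (Tr.node Tr.leaf 226423 8
 Tr.leaf) 226429 7
 Tr.leaf)) 226431 7
 (Tr.node (Tr.node (Tr.node Tr.leaf 226441 7
 Tr.leaf) 226443 6
 Tr.leaf) 226449 7
 (Tr.node Tr.leaf 226457 7
 Tr.leaf)))) 226459 6
 (Tr.node (Tr.node (Tr.node (Tr.node (Tr.node Tr.leaf 226465 7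
 Tr.leaf) 226473 7
 Tr.leaf) 226475 7
 (Tr.node (Tr.node Tr.leaf 226481 7
 Tr.leaf) 226489 7
 Tr.leaf)) 226491 7
 (Tr.node (Tr.node (Tr.node Tr.leaf 226503 8
 Tr.leaf) 226511 7
 Tr.leaf) 226517 7
 (Tr.node (Tr.node Tr.leaf 226525 7
 Tr.leaf) 226527 7
 Tr.leaf))) 226541 7
 (Tr.node (Tr.node (Tr.node (Tr.node Tr.leaf 226543 8
 Tr.leaf) 226549 8
 Tr.leaf) 226561 7
 (Tr.node (Tr.node Tr.leaf 226569 7
 Tr.leaf) 226571 7
 Tr.leaf)) 226577 7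
 (Tr.node (Tr.node (Tr.node Tr.leaf 226585 7
 Tr.leaf) 226587 7
 Tr.leaf) 226595 7
 (Tr.node Tr.leaf 226601 6
 Tr.leaf))))) 226611 7
 (Tr.node (Tr.node (Tr.node (Tr.node (Tr.node (Tr.node Tr.leaf 226619 7
 Tr.leaf) 226639 8
 Tr.leaf) 226645 8
 (Tr.node (Tr.node Tr.leaf 226653 7
 Tr.leaf) 226661 7
 Tr.leaf)) 226663 8
 (Tr.node (Tr.node (Tr.node Tr.leaf 226669 7
 Tr.leaf) 226671 7
 Tr.leaf) 226685 8
 (Tr.node (Tr.node Tr.leaf 226687 7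
 Tr.leaf) 226689 6
 Tr.leaf))) 226697 7
 (Tr.node (Tr.node (Tr.node (Tr.node Tr.leaf 226699 7
 Tr.leaf) 226705 6
 Tr.leaf) 226713 7
 (Tr.node (Tr.node Tr.leaf 226721 7
 Tr.leaf) 226731 7
 Tr.leaf)) 226739 6
 (Tr.node (Tr.node (Tr.node Tr.leaf 226747 7
 Tr.leaf) 226757 7
 Tr.leaf) 226765 7
 (Tr.node Tr.leaf 226767 7
 Tr.leaf)))) 226773 7
 (Tr.node (Tr.node (Tr.node (Tr.node (Tr.node Tr.leaf 226775 8
 Tr.leaf) 226797 8
 Tr.leaf) 226799 8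
 (Tr.node (Tr.node Tr.leaf 226805 7
 Tr.leaf) 226807 7
 Tr.leaf)) 227329 7
 (Tr.node (Tr.node (Tr.node Tr.leaf 227330 6
 Tr.leaf) 227337 6
 Tr.leaf) 227342 6
 (Tr.node Tr.leaf 227346 6
 Tr.leaf))) 227349 7
 (Tr.node (Tr.node (Tr.node (Tr.node Tr.leaf 227354 6
 Tr.leaf) 227357 6
 Tr.leaf) 227358 6
 (Tr.node (Tr.node Tr.leaf 227361 7
 Tr.leaf) 227362 6
 Tr.leaf)) 227366 5
 (Tr.node (Tr.node (Tr.node Tr.leaf 227370 7
 Tr.leaf) 227373 7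
 Tr.leaf) 227377 7
 (Tr.node Tr.leaf 227381 7
 Tr.leaf))))))) 227382 6
 (Tr.node (Tr.node (Tr.node (Tr.node (Tr.node (Tr.node (Tr.node (Tr.node Tr.leaf 227386 6
 Tr.leaf) 227389 6
 Tr.leaf) 227390 6
 (Tr.node (Tr.node Tr.leaf 227403 7
 Tr.leaf) 227407 7
 Tr.leaf)) 227419 8
 (Tr.node (Tr.node (Tr.node Tr.leaf 227423 7
 Tr.leaf) 227427 8
 Tr.leaf) 227431 8
 (Tr.node (Tr.node Tr.leaf 227443 7
 Tr.leaf) 227447 7
 Tr.leaf))) 227455 7
 (Tr.node (Tr.node (Tr.node (Tr.node Tr.leaf 227457 7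
 Tr.leaf) 227461 7
 Tr.leaf) 227462 7
 (Tr.node (Tr.node Tr.leaf 227466 5
 Tr.leaf) 227469 7
 Tr.leaf)) 227470 7
 (Tr.node (Tr.node (Tr.node Tr.leaf 227473 6
 Tr.leaf) 227474 6
 Tr.leaf) 227477 7
 (Tr.node Tr.leaf 227485 7
 Tr.leaf)))) 227489 7
 (Tr.node (Tr.node (Tr.node (Tr.node (Tr.node Tr.leaf 227493 7
 Tr.leaf) 227498 6
 Tr.leaf) 227501 7
 (Tr.node (Tr.node Tr.leaf 227505 6
 Tr.leaf) 227506 6
 Tr.leaf)) 227509 7
 (Tr.node (Tr.node (Tr.node Tr.leaf 227510 7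
 Tr.leaf) 227514 6
 Tr.leaf) 227535 8
 (Tr.node (Tr.node Tr.leaf 227539 7
 Tr.leaf) 227543 7
 Tr.leaf))) 227551 7
 (Tr.node (Tr.node (Tr.node (Tr.node Tr.leaf 227555 8
 Tr.leaf) 227559 7
 Tr.leaf) 227571 7
 (Tr.node (Tr.node Tr.leaf 227579 8
 Tr.leaf) 227585 7
 Tr.leaf)) 227590 6
 (Tr.node (Tr.node (Tr.node Tr.leaf 227593 7
 Tr.leaf) 227598 6
 Tr.leaf) 227601 7
 (Tr.node Tr.leaf 227602 6
 Tr.leaf))))) 227605 7
 (Tr.node (Tr.node (Tr.node (Tr.node (Tr.node (Tr.node Tr.leaf 227606 6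
 Tr.leaf) 227613 7
 Tr.leaf) 227614 7
 (Tr.node (Tr.node Tr.leaf 227621 6
 Tr.leaf) 227625 7
 Tr.leaf)) 227630 6
 (Tr.node (Tr.node (Tr.node Tr.leaf 227633 7
 Tr.leaf) 227637 7
 Tr.leaf) 227638 6
 (Tr.node (Tr.node Tr.leaf 227645 7
 Tr.leaf) 227646 6
 Tr.leaf))) 227651 8
 (Tr.node (Tr.node (Tr.node (Tr.node Tr.leaf 227655 8
 Tr.leaf) 227671 7
 Tr.leaf) 227679 8
 (Tr.node (Tr.node Tr.leaf 227683 7
 Tr.leaf) 227687 7
 Tr.leaf)) 227691 8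
 (Tr.node (Tr.node (Tr.node Tr.leaf 227695 7
 Tr.leaf) 227699 8
 Tr.leaf) 227714 6
 (Tr.node Tr.leaf 227717 6
 Tr.leaf)))) 227718 6
 (Tr.node (Tr.node (Tr.node (Tr.node (Tr.node Tr.leaf 227721 7
 Tr.leaf) 227722 6
 Tr.leaf) 227729 7
 (Tr.node (Tr.node Tr.leaf 227730 6
 Tr.leaf) 227738 6
 Tr.leaf)) 227741 7
 (Tr.node (Tr.node (Tr.node Tr.leaf 227746 6
 Tr.leaf) 227750 5
 Tr.leaf) 227753 7
 (Tr.node Tr.leaf 227754 6
 Tr.leaf))) 227757 7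
 (Tr.node (Tr.node (Tr.node (Tr.node Tr.leaf 227758 5
 Tr.leaf) 227762 6
 Tr.leaf) 227769 6
 (Tr.node (Tr.node Tr.leaf 227773 7
 Tr.leaf) 227774 5
 Tr.leaf)) 227779 7
 (Tr.node (Tr.node (Tr.node Tr.leaf 227783 7
 Tr.leaf) 227787 8
 Tr.leaf) 227791 7
 (Tr.node Tr.leaf 227799 8
 Tr.leaf)))))) 227807 8
 (Tr.node (Tr.node (Tr.node (Tr.node (Tr.node (Tr.node (Tr.node Tr.leaf 227815 8
 Tr.leaf) 227823 7
 Tr.leaf) 227827 7
 (Tr.node (Tr.node Tr.leaf 227835 7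
 Tr.leaf) 228419 7
 Tr.leaf)) 228425 7
 (Tr.node (Tr.node (Tr.node Tr.leaf 228427 7
 Tr.leaf) 228431 7
 Tr.leaf) 228433 7
 (Tr.node (Tr.node Tr.leaf 228437 7
 Tr.leaf) 228441 7
 Tr.leaf))) 228443 7
 (Tr.node (Tr.node (Tr.node (Tr.node Tr.leaf 228445 7
 Tr.leaf) 228447 8
 Tr.leaf) 228453 7
 (Tr.node (Tr.node Tr.leaf 228459 7
 Tr.leaf) 228473 7
 Tr.leaf)) 228477 7
 (Tr.node (Tr.node (Tr.node Tr.leaf 228479 8
 Tr.leaf) 228547 7
 Tr.leaf) 228549 8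
 (Tr.node Tr.leaf 228553 8
 Tr.leaf)))) 228555 8
 (Tr.node (Tr.node (Tr.node (Tr.node (Tr.node Tr.leaf 228559 8
 Tr.leaf) 228561 7
 Tr.leaf) 228563 8
 (Tr.node (Tr.node Tr.leaf 228565 7
 Tr.leaf) 228567 7
 Tr.leaf)) 228569 7
 (Tr.node (Tr.node (Tr.node Tr.leaf 228571 8
 Tr.leaf) 228573 7
 Tr.leaf) 228575 7
 (Tr.node Tr.leaf 228577 8
 Tr.leaf))) 228579 7
 (Tr.node (Tr.node (Tr.node (Tr.node Tr.leaf 228587 7
 Tr.leaf) 228591 7
 Tr.leaf) 228593 8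
 (Tr.node (Tr.node Tr.leaf 228595 8
 Tr.leaf) 228599 8
 Tr.leaf)) 228603 7
 (Tr.node (Tr.node (Tr.node Tr.leaf 228605 8
 Tr.leaf) 228675 7
 Tr.leaf) 228679 8
 (Tr.node Tr.leaf 228681 8
 Tr.leaf))))) 228695 8
 (Tr.node (Tr.node (Tr.node (Tr.node (Tr.node (Tr.node Tr.leaf 228697 7
 Tr.leaf) 228709 7
 Tr.leaf) 228711 7
 (Tr.node (Tr.node Tr.leaf 228713 7
 Tr.leaf) 228717 7
 Tr.leaf)) 228727 8
 (Tr.node (Tr.node (Tr.node Tr.leaf 228729 7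
 Tr.leaf) 228731 7
 Tr.leaf) 228801 8
 (Tr.node (Tr.node Tr.leaf 228805 7
 Tr.leaf) 228807 7
 Tr.leaf))) 228817 8
 (Tr.node (Tr.node (Tr.node (Tr.node Tr.leaf 228819 7
 Tr.leaf) 228821 7
 Tr.leaf) 228823 7
 (Tr.node (Tr.node Tr.leaf 228829 7
 Tr.leaf) 228831 7
 Tr.leaf)) 228835 7
 (Tr.node (Tr.node (Tr.node Tr.leaf 228845 7
 Tr.leaf) 228849 7
 Tr.leaf) 228851 7
 (Tr.node Tr.leaf 228855 7
 Tr.leaf)))) 228859 7
 (Tr.node (Tr.node (Tr.node (Tr.node (Tr.node Tr.leaf 229385 6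
 Tr.leaf) 229388 7
 Tr.leaf) 229391 7
 (Tr.node (Tr.node Tr.leaf 229394 6
 Tr.leaf) 229396 7
 Tr.leaf)) 229400 6
 (Tr.node (Tr.node (Tr.node Tr.leaf 229405 7
 Tr.leaf) 229406 7
 Tr.leaf) 229409 7
 (Tr.node Tr.leaf 229415 6
 Tr.leaf))) 229416 5
 (Tr.node (Tr.node (Tr.node (Tr.node Tr.leaf 229421 7
 Tr.leaf) 229429 7
 Tr.leaf) 229445 6
 (Tr.node (Tr.node Tr.leaf 229449 6
 Tr.leaf) 229450 7
 Tr.leaf)) 229455 6
 (Tr.node (Tr.node (Tr.node Tr.leaf 229457 7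
 Tr.leaf) 229458 6
 Tr.leaf) 229460 6
 (Tr.node Tr.leaf 229463 6
 Tr.leaf))))))))

/-- A subtree. -/
def tr1_s56 : Tr := (Tr.node (Tr.node (Tr.node (Tr.node (Tr.node (Tr.node (Tr.node (Tr.node (Tr.node Tr.leaf 229470 6
 Tr.leaf) 229474 6
 Tr.leaf) 229476 6
 (Tr.node (Tr.node Tr.leaf 229479 6
 Tr.leaf) 229491 7
 Tr.leaf)) 229493 7
 (Tr.node (Tr.node (Tr.node Tr.leaf 229498 6
 Tr.leaf) 229500 6
 Tr.leaf) 229507 6
 (Tr.node (Tr.node Tr.leaf 229510 6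
 Tr.leaf) 229514 7
 Tr.leaf))) 229516 6
 (Tr.node (Tr.node (Tr.node (Tr.node Tr.leaf 229521 7
 Tr.leaf) 229522 6
 Tr.leaf) 229531 6
 (Tr.node (Tr.node Tr.leaf 229533 7
 Tr.leaf) 229534 6
 Tr.leaf)) 229537 7
 (Tr.node (Tr.node (Tr.node Tr.leaf 229538 7
 Tr.leaf) 229540 6
 Tr.leaf) 229544 5
 (Tr.node Tr.leaf 229549 6
 Tr.leaf)))) 229550 7
 (Tr.node (Tr.node (Tr.node (Tr.node (Tr.node Tr.leaf 229552 6
 Tr.leaf) 229555 7
 Tr.leaf) 229557 7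
 (Tr.node (Tr.node Tr.leaf 229558 7
 Tr.leaf) 229573 6
 Tr.leaf)) 229574 6
 (Tr.node (Tr.node (Tr.node Tr.leaf 229578 6
 Tr.leaf) 229580 7
 Tr.leaf) 229585 7
 (Tr.node (Tr.node Tr.leaf 229586 5
 Tr.leaf) 229588 7
 Tr.leaf))) 229592 5
 (Tr.node (Tr.node (Tr.node (Tr.node Tr.leaf 229595 5
 Tr.leaf) 229598 7
 Tr.leaf) 229601 7
 (Tr.node (Tr.node Tr.leaf 229604 6
 Tr.leaf) 229611 7
 Tr.leaf)) 229613 6
 (Tr.node (Tr.node (Tr.node Tr.leaf 229614 6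
 Tr.leaf) 229616 6
 Tr.leaf) 229619 7
 (Tr.node Tr.leaf 229621 7
 Tr.leaf))))) 229622 7
 (Tr.node (Tr.node (Tr.node (Tr.node (Tr.node (Tr.node Tr.leaf 229642 6
 Tr.leaf) 229647 6
 Tr.leaf) 229649 7
 (Tr.node (Tr.node Tr.leaf 229650 6
 Tr.leaf) 229655 7
 Tr.leaf)) 229656 5
 (Tr.node (Tr.node (Tr.node Tr.leaf 229659 6
 Tr.leaf) 229666 7
 Tr.leaf) 229671 6
 (Tr.node (Tr.node Tr.leaf 229675 6
 Tr.leaf) 229677 7
 Tr.leaf))) 229678 5
 (Tr.node (Tr.node (Tr.node (Tr.node Tr.leaf 229683 7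
 Tr.leaf) 229689 7
 Tr.leaf) 229690 7
 (Tr.node (Tr.node Tr.leaf 229695 7
 Tr.leaf) 229708 6
 Tr.leaf)) 229711 6
 (Tr.node (Tr.node (Tr.node Tr.leaf 229716 7
 Tr.leaf) 229719 6
 Tr.leaf) 229723 7
 (Tr.node Tr.leaf 229725 6
 Tr.leaf)))) 229726 6
 (Tr.node (Tr.node (Tr.node (Tr.node (Tr.node Tr.leaf 229729 7
 Tr.leaf) 229732 5
 Tr.leaf) 229735 7
 (Tr.node (Tr.node Tr.leaf 229736 6
 Tr.leaf) 229741 5
 Tr.leaf)) 229749 7
 (Tr.node (Tr.node (Tr.node Tr.leaf 229753 7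
 Tr.leaf) 229756 7
 Tr.leaf) 229759 7
 (Tr.node Tr.leaf 229763 6
 Tr.leaf))) 229769 6
 (Tr.node (Tr.node (Tr.node (Tr.node Tr.leaf 229772 7
 Tr.leaf) 229775 6
 Tr.leaf) 229778 5
 (Tr.node (Tr.node Tr.leaf 229780 6
 Tr.leaf) 229783 6
 Tr.leaf)) 229793 7
 (Tr.node (Tr.node (Tr.node Tr.leaf 229794 6
 Tr.leaf) 229796 5
 Tr.leaf) 229799 6
 (Tr.node Tr.leaf 229803 6
 Tr.leaf)))))) 229806 6
 (Tr.node (Tr.node (Tr.node (Tr.node (Tr.node (Tr.node (Tr.node Tr.leaf 229811 7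
 Tr.leaf) 229813 7
 Tr.leaf) 229818 6
 (Tr.node (Tr.node Tr.leaf 229820 6
 Tr.leaf) 229833 6
 Tr.leaf)) 229834 7
 (Tr.node (Tr.node (Tr.node Tr.leaf 229839 7
 Tr.leaf) 229841 7
 Tr.leaf) 229847 6
 (Tr.node (Tr.node Tr.leaf 229848 6
 Tr.leaf) 229851 6
 Tr.leaf))) 229858 7
 (Tr.node (Tr.node (Tr.node (Tr.node Tr.leaf 229860 6
 Tr.leaf) 229864 5
 Tr.leaf) 229867 7
 (Tr.node (Tr.node Tr.leaf 229870 7
 Tr.leaf) 229875 7
 Tr.leaf)) 230403 6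
 (Tr.node (Tr.node (Tr.node Tr.leaf 230413 6
 Tr.leaf) 230421 6
 Tr.leaf) 230425 7
 (Tr.node Tr.leaf 230427 6
 Tr.leaf)))) 230443 6
 (Tr.node (Tr.node (Tr.node (Tr.node (Tr.node Tr.leaf 230449 6
 Tr.leaf) 230451 7
 Tr.leaf) 230461 7
 (Tr.node (Tr.node Tr.leaf 230465 6
 Tr.leaf) 230489 7
 Tr.leaf)) 230515 6
 (Tr.node (Tr.node (Tr.node Tr.leaf 230543 6
 Tr.leaf) 230549 7
 Tr.leaf) 230565 6
 (Tr.node (Tr.node Tr.leaf 230567 7
 Tr.leaf) 230569 6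
 Tr.leaf))) 230577 6
 (Tr.node (Tr.node (Tr.node (Tr.node Tr.leaf 230579 7
 Tr.leaf) 230589 8
 Tr.leaf) 230595 6
 (Tr.node (Tr.node Tr.leaf 230605 6
 Tr.leaf) 230607 7
 Tr.leaf)) 230613 7
 (Tr.node (Tr.node (Tr.node Tr.leaf 230617 7
 Tr.leaf) 230629 7
 Tr.leaf) 230633 6
 (Tr.node Tr.leaf 230635 6
 Tr.leaf))))) 230653 7
 (Tr.node (Tr.node (Tr.node (Tr.node (Tr.node (Tr.node Tr.leaf 230655 7
 Tr.leaf) 230659 6
 Tr.leaf) 230671 7
 (Tr.node (Tr.node Tr.leaf 230677 7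
 Tr.leaf) 230679 7
 Tr.leaf)) 230681 7
 (Tr.node (Tr.node (Tr.node Tr.leaf 230693 7
 Tr.leaf) 230705 7
 Tr.leaf) 230721 6
 (Tr.node (Tr.node Tr.leaf 230745 7
 Tr.leaf) 230759 5
 Tr.leaf))) 230763 5
 (Tr.node (Tr.node (Tr.node (Tr.node Tr.leaf 230769 6
 Tr.leaf) 230781 7
 Tr.leaf) 230783 8
 (Tr.node (Tr.node Tr.leaf 230797 6
 Tr.leaf) 230799 7
 Tr.leaf)) 230805 7
 (Tr.node (Tr.node (Tr.node Tr.leaf 230807 7
 Tr.leaf) 230809 7
 Tr.leaf) 230823 7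
 (Tr.node Tr.leaf 230825 7
 Tr.leaf)))) 230827 7
 (Tr.node (Tr.node (Tr.node (Tr.node (Tr.node Tr.leaf 230835 6
 Tr.leaf) 230847 8
 Tr.leaf) 230851 6
 (Tr.node (Tr.node Tr.leaf 230873 6
 Tr.leaf) 230875 7
 Tr.leaf)) 230885 7
 (Tr.node (Tr.node (Tr.node Tr.leaf 230889 6
 Tr.leaf) 230891 7
 Tr.leaf) 230897 7
 (Tr.node Tr.leaf 230911 7
 Tr.leaf))) 231425 6
 (Tr.node (Tr.node (Tr.node (Tr.node Tr.leaf 231426 6
 Tr.leaf) 231447 7
 Tr.leaf) 231449 7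
 (Tr.node (Tr.node Tr.leaf 231450 6
 Tr.leaf) 231453 6
 Tr.leaf)) 231454 7
 (Tr.node (Tr.node (Tr.node Tr.leaf 231465 7
 Tr.leaf) 231466 6
 Tr.leaf) 231469 6
 (Tr.node Tr.leaf 231477 7
 Tr.leaf))))))) 231478 6
 (Tr.node (Tr.node (Tr.node (Tr.node (Tr.node (Tr.node (Tr.node (Tr.node Tr.leaf 231483 7
 Tr.leaf) 231490 6
 Tr.leaf) 231499 7
 (Tr.node (Tr.node Tr.leaf 231503 6
 Tr.leaf) 231507 7
 Tr.leaf)) 231513 7
 (Tr.node (Tr.node (Tr.node Tr.leaf 231517 7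
 Tr.leaf) 231523 7
 Tr.leaf) 231527 7
 (Tr.node (Tr.node Tr.leaf 231530 6
 Tr.leaf) 231533 7
 Tr.leaf))) 231537 6
 (Tr.node (Tr.node (Tr.node (Tr.node Tr.leaf 231538 6
 Tr.leaf) 231542 6
 Tr.leaf) 231547 7
 (Tr.node (Tr.node Tr.leaf 231553 6
 Tr.leaf) 231563 7
 Tr.leaf)) 231567 6
 (Tr.node (Tr.node (Tr.node Tr.leaf 231575 7
 Tr.leaf) 231577 6
 Tr.leaf) 231581 6
 (Tr.node Tr.leaf 231582 7
 Tr.leaf)))) 231591 7
 (Tr.node (Tr.node (Tr.node (Tr.node (Tr.node Tr.leaf 231594 6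
 Tr.leaf) 231597 7
 Tr.leaf) 231598 7
 (Tr.node (Tr.node Tr.leaf 231602 5
 Tr.leaf) 231606 6
 Tr.leaf)) 231611 7
 (Tr.node (Tr.node (Tr.node Tr.leaf 231615 7
 Tr.leaf) 231627 6
 Tr.leaf) 231635 7
 (Tr.node (Tr.node Tr.leaf 231639 5
 Tr.leaf) 231645 5
 Tr.leaf))) 231655 6
 (Tr.node (Tr.node (Tr.node (Tr.node Tr.leaf 231662 6
 Tr.leaf) 231665 7
 Tr.leaf) 231669 6
 (Tr.node (Tr.node Tr.leaf 231670 7
 Tr.leaf) 231679 8
 Tr.leaf)) 231685 6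
 (Tr.node (Tr.node (Tr.node Tr.leaf 231686 6
 Tr.leaf) 231699 6
 Tr.leaf) 231705 6
 (Tr.node Tr.leaf 231710 7
 Tr.leaf))))) 231722 6
 (Tr.node (Tr.node (Tr.node (Tr.node (Tr.node (Tr.node Tr.leaf 231725 7
 Tr.leaf) 231733 6
 Tr.leaf) 231734 7
 (Tr.node (Tr.node Tr.leaf 231739 8
 Tr.leaf) 231743 7
 Tr.leaf)) 231745 6
 (Tr.node (Tr.node (Tr.node Tr.leaf 231750 6
 Tr.leaf) 231755 7
 Tr.leaf) 231767 7
 (Tr.node (Tr.node Tr.leaf 231779 7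
 Tr.leaf) 231783 7
 Tr.leaf))) 231789 7
 (Tr.node (Tr.node (Tr.node (Tr.node Tr.leaf 231790 6
 Tr.leaf) 231794 6
 Tr.leaf) 231797 7
 (Tr.node (Tr.node Tr.leaf 231798 6
 Tr.leaf) 231810 6
 Tr.leaf)) 231813 6
 (Tr.node (Tr.node (Tr.node Tr.leaf 231853 7
 Tr.leaf) 231854 6
 Tr.leaf) 231857 6
 (Tr.node Tr.leaf 231858 6
 Tr.leaf)))) 231862 6
 (Tr.node (Tr.node (Tr.node (Tr.node (Tr.node Tr.leaf 231873 6
 Tr.leaf) 231874 6
 Tr.leaf) 231887 6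
 (Tr.node (Tr.node Tr.leaf 231897 6
 Tr.leaf) 231902 6
 Tr.leaf)) 231911 6
 (Tr.node (Tr.node (Tr.node Tr.leaf 231913 6
 Tr.leaf) 231914 7
 Tr.leaf) 231917 7
 (Tr.node Tr.leaf 231918 5
 Tr.leaf))) 231921 7
 (Tr.node (Tr.node (Tr.node (Tr.node Tr.leaf 231922 6
 Tr.leaf) 231925 6
 Tr.leaf) 231935 7
 (Tr.node (Tr.node Tr.leaf 232457 7
 Tr.leaf) 232461 7
 Tr.leaf)) 232463 6
 (Tr.node (Tr.node (Tr.node Tr.leaf 232469 7
 Tr.leaf) 232471 6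
 Tr.leaf) 232481 7
 (Tr.node Tr.leaf 232485 7
 Tr.leaf)))))) 232487 6
 (Tr.node (Tr.node (Tr.node (Tr.node (Tr.node (Tr.node (Tr.node Tr.leaf 232507 7
 Tr.leaf) 232509 7
 Tr.leaf) 232521 7
 (Tr.node (Tr.node Tr.leaf 232527 6
 Tr.leaf) 232529 7
 Tr.leaf)) 232535 6
 (Tr.node (Tr.node (Tr.node Tr.leaf 232547 6
 Tr.leaf) 232571 7
 Tr.leaf) 232587 7
 (Tr.node (Tr.node Tr.leaf 232589 6
 Tr.leaf) 232595 6
 Tr.leaf))) 232599 7
 (Tr.node (Tr.node (Tr.node (Tr.node Tr.leaf 232609 7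
 Tr.leaf) 232611 7
 Tr.leaf) 232613 6
 (Tr.node (Tr.node Tr.leaf 232615 7
 Tr.leaf) 232637 7
 Tr.leaf)) 232651 7
 (Tr.node (Tr.node (Tr.node Tr.leaf 232653 6
 Tr.leaf) 232657 7
 Tr.leaf) 232659 7
 (Tr.node Tr.leaf 232661 6
 Tr.leaf)))) 232663 7
 (Tr.node (Tr.node (Tr.node (Tr.node (Tr.node Tr.leaf 232673 7
 Tr.leaf) 232675 6
 Tr.leaf) 232701 7
 (Tr.node (Tr.node Tr.leaf 232713 6
 Tr.leaf) 232717 7
 Tr.leaf)) 232719 7
 (Tr.node (Tr.node (Tr.node Tr.leaf 232721 6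
 Tr.leaf) 232723 7
 Tr.leaf) 232725 7
 (Tr.node (Tr.node Tr.leaf 232737 7
 Tr.leaf) 232741 6
 Tr.leaf))) 232761 7
 (Tr.node (Tr.node (Tr.node (Tr.node Tr.leaf 232777 7
 Tr.leaf) 232781 7
 Tr.leaf) 232783 6
 (Tr.node (Tr.node Tr.leaf 232789 6
 Tr.leaf) 232791 7
 Tr.leaf)) 232803 7
 (Tr.node (Tr.node (Tr.node Tr.leaf 232805 7
 Tr.leaf) 232807 6
 Tr.leaf) 232831 7
 (Tr.node Tr.leaf 232841 6
 Tr.leaf))))) 232847 7
 (Tr.node (Tr.node (Tr.node (Tr.node (Tr.node (Tr.node Tr.leaf 232851 6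
 Tr.leaf) 232865 6
 Tr.leaf) 232871 7
 (Tr.node (Tr.node Tr.leaf 232891 8
 Tr.leaf) 232905 6
 Tr.leaf)) 232909 7
 (Tr.node (Tr.node (Tr.node Tr.leaf 232911 7
 Tr.leaf) 232913 6
 Tr.leaf) 232917 7
 (Tr.node (Tr.node Tr.leaf 232919 7
 Tr.leaf) 232929 6
 Tr.leaf))) 232933 7
 (Tr.node (Tr.node (Tr.node (Tr.node Tr.leaf 232955 7
 Tr.leaf) 232957 7
 Tr.leaf) 233473 6
 (Tr.node (Tr.node Tr.leaf 233474 7
 Tr.leaf) 233479 7
 Tr.leaf)) 233482 6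
 (Tr.node (Tr.node (Tr.node Tr.leaf 233484 6
 Tr.leaf) 233491 7
 Tr.leaf) 233494 7
 (Tr.node Tr.leaf 233501 6
 Tr.leaf)))) 233502 6
 (Tr.node (Tr.node (Tr.node (Tr.node (Tr.node Tr.leaf 233507 7
 Tr.leaf) 233515 7
 Tr.leaf) 233518 6
 (Tr.node (Tr.node Tr.leaf 233522 6
 Tr.leaf) 233524 6
 Tr.leaf)) 233529 6
 (Tr.node (Tr.node (Tr.node Tr.leaf 233535 7
 Tr.leaf) 233537 6
 Tr.leaf) 233538 6
 (Tr.node Tr.leaf 233540 6
 Tr.leaf))) 233543 7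
 (Tr.node (Tr.node (Tr.node (Tr.node Tr.leaf 233548 7
 Tr.leaf) 233551 6
 Tr.leaf) 233555 6
 (Tr.node (Tr.node Tr.leaf 233557 6
 Tr.leaf) 233565 6
 Tr.leaf)) 233571 6
 (Tr.node (Tr.node (Tr.node Tr.leaf 233573 6
 Tr.leaf) 233581 7
 Tr.leaf) 233582 7
 (Tr.node Tr.leaf 233593 6
 Tr.leaf))))))))

/-- A subtree. -/
def tr1_s57 : Tr := (Tr.node (Tr.node (Tr.node (Tr.node (Tr.node (Tr.node (Tr.node (Tr.node (Tr.node Tr.leaf 233596 6
 Tr.leaf) 233599 8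
 Tr.leaf) 233601 6
 (Tr.node (Tr.node Tr.leaf 233602 6
 Tr.leaf) 233604 7
 Tr.leaf)) 233609 6
 (Tr.node (Tr.node (Tr.node Tr.leaf 233619 7
 Tr.leaf) 233621 7
 Tr.leaf) 233622 6
 (Tr.node (Tr.node Tr.leaf 233627 7
 Tr.leaf) 233630 6
 Tr.leaf))) 233643 7
 (Tr.node (Tr.node (Tr.node (Tr.node Tr.leaf 233645 7
 Tr.leaf) 233649 7
 Tr.leaf) 233650 6
 (Tr.node (Tr.node Tr.leaf 233652 7
 Tr.leaf) 233663 7
 Tr.leaf)) 233665 6
 (Tr.node (Tr.node (Tr.node Tr.leaf 233673 6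
 Tr.leaf) 233674 7
 Tr.leaf) 233676 6
 (Tr.node Tr.leaf 233683 7
 Tr.leaf)))) 233685 7
 (Tr.node (Tr.node (Tr.node (Tr.node (Tr.node Tr.leaf 233701 7
 Tr.leaf) 233702 6
 Tr.leaf) 233707 7
 (Tr.node (Tr.node Tr.leaf 233709 7
 Tr.leaf) 233710 6
 Tr.leaf)) 233719 7
 (Tr.node (Tr.node (Tr.node Tr.leaf 233721 7
 Tr.leaf) 233722 7
 Tr.leaf) 233724 6
 (Tr.node (Tr.node Tr.leaf 233729 6
 Tr.leaf) 233732 6
 Tr.leaf))) 233737 6
 (Tr.node (Tr.node (Tr.node (Tr.node Tr.leaf 233738 7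
 Tr.leaf) 233740 7
 Tr.leaf) 233743 6
 (Tr.node (Tr.node Tr.leaf 233747 7
 Tr.leaf) 233749 7
 Tr.leaf)) 233757 7
 (Tr.node (Tr.node (Tr.node Tr.leaf 233766 6
 Tr.leaf) 233771 7
 Tr.leaf) 233773 7
 (Tr.node Tr.leaf 233774 6
 Tr.leaf))))) 233777 7
 (Tr.node (Tr.node (Tr.node (Tr.node (Tr.node (Tr.node Tr.leaf 233780 6
 Tr.leaf) 233785 7
 Tr.leaf) 233786 7
 (Tr.node (Tr.node Tr.leaf 233788 7
 Tr.leaf) 233791 7
 Tr.leaf)) 233793 6
 (Tr.node (Tr.node (Tr.node Tr.leaf 233794 7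
 Tr.leaf) 233796 7
 Tr.leaf) 233799 6
 (Tr.node (Tr.node Tr.leaf 233801 6
 Tr.leaf) 233802 6
 Tr.leaf))) 233811 7
 (Tr.node (Tr.node (Tr.node (Tr.node Tr.leaf 233813 7
 Tr.leaf) 233814 6
 Tr.leaf) 233822 6
 (Tr.node (Tr.node Tr.leaf 233827 7
 Tr.leaf) 233835 7
 Tr.leaf)) 233837 7
 (Tr.node (Tr.node (Tr.node Tr.leaf 233841 7
 Tr.leaf) 233842 7
 Tr.leaf) 233844 7
 (Tr.node Tr.leaf 233847 7
 Tr.leaf)))) 233849 7
 (Tr.node (Tr.node (Tr.node (Tr.node (Tr.node Tr.leaf 233850 5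
 Tr.leaf) 233858 7
 Tr.leaf) 233863 6
 (Tr.node (Tr.node Tr.leaf 233865 6
 Tr.leaf) 233866 6
 Tr.leaf)) 233868 6
 (Tr.node (Tr.node (Tr.node Tr.leaf 233871 7
 Tr.leaf) 233875 7
 Tr.leaf) 233878 7
 (Tr.node Tr.leaf 233883 6
 Tr.leaf))) 233885 6
 (Tr.node (Tr.node (Tr.node (Tr.node Tr.leaf 233891 6
 Tr.leaf) 233899 6
 Tr.leaf) 233901 6
 (Tr.node (Tr.node Tr.leaf 233905 6
 Tr.leaf) 233906 6
 Tr.leaf)) 233908 6
 (Tr.node (Tr.node (Tr.node Tr.leaf 233911 8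
 Tr.leaf) 233922 6
 Tr.leaf) 233924 6
 (Tr.node Tr.leaf 233929 6
 Tr.leaf)))))) 233932 7
 (Tr.node (Tr.node (Tr.node (Tr.node (Tr.node (Tr.node (Tr.node Tr.leaf 233935 7
 Tr.leaf) 233941 7
 Tr.leaf) 233942 6
 (Tr.node (Tr.node Tr.leaf 233949 7
 Tr.leaf) 233955 6
 Tr.leaf)) 233958 6
 (Tr.node (Tr.node (Tr.node Tr.leaf 233965 7
 Tr.leaf) 233966 7
 Tr.leaf) 233969 6
 (Tr.node (Tr.node Tr.leaf 233975 7
 Tr.leaf) 233978 6
 Tr.leaf))) 233980 6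
 (Tr.node (Tr.node (Tr.node (Tr.node Tr.leaf 234509 6
 Tr.leaf) 234521 7
 Tr.leaf) 234523 7
 (Tr.node (Tr.node Tr.leaf 234529 7
 Tr.leaf) 234531 7
 Tr.leaf)) 234537 6
 (Tr.node (Tr.node (Tr.node Tr.leaf 234539 6
 Tr.leaf) 234549 7
 Tr.leaf) 234557 7
 (Tr.node Tr.leaf 234559 7
 Tr.leaf)))) 234573 7
 (Tr.node (Tr.node (Tr.node (Tr.node (Tr.node Tr.leaf 234577 7
 Tr.leaf) 234579 6
 Tr.leaf) 234585 6
 (Tr.node (Tr.node Tr.leaf 234593 7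
 Tr.leaf) 234595 7
 Tr.leaf)) 234603 6
 (Tr.node (Tr.node (Tr.node Tr.leaf 234613 8
 Tr.leaf) 234621 6
 Tr.leaf) 234623 7
 (Tr.node (Tr.node Tr.leaf 234629 7
 Tr.leaf) 234631 6
 Tr.leaf))) 234637 7
 (Tr.node (Tr.node (Tr.node (Tr.node Tr.leaf 234649 6
 Tr.leaf) 234651 6
 Tr.leaf) 234659 7
 (Tr.node (Tr.node Tr.leaf 234667 7
 Tr.leaf) 234677 7
 Tr.leaf)) 234685 7
 (Tr.node (Tr.node (Tr.node Tr.leaf 234693 7
 Tr.leaf) 234701 7
 Tr.leaf) 234707 6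
 (Tr.node Tr.leaf 234715 7
 Tr.leaf))))) 234723 6
 (Tr.node (Tr.node (Tr.node (Tr.node (Tr.node (Tr.node Tr.leaf 234729 7
 Tr.leaf) 234731 7
 Tr.leaf) 234751 8
 (Tr.node (Tr.node Tr.leaf 234757 7
 Tr.leaf) 234759 6
 Tr.leaf)) 234765 7
 (Tr.node (Tr.node (Tr.node Tr.leaf 234767 7
 Tr.leaf) 234771 6
 Tr.leaf) 234779 7
 (Tr.node (Tr.node Tr.leaf 234793 6
 Tr.leaf) 234795 7
 Tr.leaf))) 234805 8
 (Tr.node (Tr.node (Tr.node (Tr.node Tr.leaf 234807 7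
 Tr.leaf) 234823 6
 Tr.leaf) 234831 7
 (Tr.node (Tr.node Tr.leaf 234833 6
 Tr.leaf) 234843 7
 Tr.leaf)) 234857 6
 (Tr.node (Tr.node (Tr.node Tr.leaf 234885 6
 Tr.leaf) 234895 7
 Tr.leaf) 234899 7
 (Tr.node Tr.leaf 234907 7
 Tr.leaf)))) 234913 7
 (Tr.node (Tr.node (Tr.node (Tr.node (Tr.node Tr.leaf 234915 7
 Tr.leaf) 234935 7
 Tr.leaf) 234943 8
 (Tr.node (Tr.node Tr.leaf 234949 5
 Tr.leaf) 234957 6
 Tr.leaf)) 234963 6
 (Tr.node (Tr.node (Tr.node Tr.leaf 234971 7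
 Tr.leaf) 235527 6
 Tr.leaf) 235535 5
 (Tr.node Tr.leaf 235538 6
 Tr.leaf))) 235546 6
 (Tr.node (Tr.node (Tr.node (Tr.node Tr.leaf 235550 6
 Tr.leaf) 235553 7
 Tr.leaf) 235554 6
 (Tr.node (Tr.node Tr.leaf 235561 6
 Tr.leaf) 235562 6
 Tr.leaf)) 235587 7
 (Tr.node (Tr.node (Tr.node Tr.leaf 235599 6
 Tr.leaf) 235602 7
 Tr.leaf) 235609 6
 (Tr.node Tr.leaf 235613 7
 Tr.leaf))))))) 235617 7
 (Tr.node (Tr.node (Tr.node (Tr.node (Tr.node (Tr.node (Tr.node (Tr.node Tr.leaf 235622 7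
 Tr.leaf) 235625 7
 Tr.leaf) 235630 6
 (Tr.node (Tr.node Tr.leaf 235635 8
 Tr.leaf) 235643 7
 Tr.leaf)) 235655 7
 (Tr.node (Tr.node (Tr.node Tr.leaf 235663 7
 Tr.leaf) 235665 7
 Tr.leaf) 235666 6
 (Tr.node (Tr.node Tr.leaf 235669 7
 Tr.leaf) 235670 6
 Tr.leaf))) 235673 6
 (Tr.node (Tr.node (Tr.node (Tr.node Tr.leaf 235674 7
 Tr.leaf) 235678 7
 Tr.leaf) 235681 7
 (Tr.node (Tr.node Tr.leaf 235682 5
 Tr.leaf) 235686 6
 Tr.leaf)) 235689 6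
 (Tr.node (Tr.node (Tr.node Tr.leaf 235690 6
 Tr.leaf) 235694 7
 Tr.leaf) 235699 8
 (Tr.node Tr.leaf 235719 7
 Tr.leaf)))) 235723 6
 (Tr.node (Tr.node (Tr.node (Tr.node (Tr.node Tr.leaf 235727 7
 Tr.leaf) 235729 7
 Tr.leaf) 235737 7
 (Tr.node (Tr.node Tr.leaf 235742 7
 Tr.leaf) 235745 6
 Tr.leaf)) 235749 6
 (Tr.node (Tr.node (Tr.node Tr.leaf 235767 7
 Tr.leaf) 235775 7
 Tr.leaf) 235779 7
 (Tr.node (Tr.node Tr.leaf 235787 6
 Tr.leaf) 235797 6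
 Tr.leaf))) 235802 7
 (Tr.node (Tr.node (Tr.node (Tr.node Tr.leaf 235809 7
 Tr.leaf) 235810 7
 Tr.leaf) 235818 7
 (Tr.node (Tr.node Tr.leaf 235821 6
 Tr.leaf) 235822 7
 Tr.leaf)) 235843 7
 (Tr.node (Tr.node (Tr.node Tr.leaf 235847 7
 Tr.leaf) 235851 6
 Tr.leaf) 235855 7
 (Tr.node Tr.leaf 235857 7
 Tr.leaf))))) 235861 6
 (Tr.node (Tr.node (Tr.node (Tr.node (Tr.node (Tr.node Tr.leaf 235866 6
 Tr.leaf) 235870 5
 Tr.leaf) 235873 7
 (Tr.node (Tr.node Tr.leaf 235878 6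
 Tr.leaf) 235881 6
 Tr.leaf)) 235882 6
 (Tr.node (Tr.node (Tr.node Tr.leaf 235886 6
 Tr.leaf) 235899 7
 Tr.leaf) 235903 8
 (Tr.node (Tr.node Tr.leaf 235911 7
 Tr.leaf) 235921 6
 Tr.leaf))) 235929 7
 (Tr.node (Tr.node (Tr.node (Tr.node Tr.leaf 235930 7
 Tr.leaf) 235933 7
 Tr.leaf) 235938 5
 (Tr.node (Tr.node Tr.leaf 235941 6
 Tr.leaf) 235945 6
 Tr.leaf)) 235949 7
 (Tr.node (Tr.node (Tr.node Tr.leaf 235950 7
 Tr.leaf) 235955 8
 Tr.leaf) 235959 6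
 (Tr.node Tr.leaf 235967 8
 Tr.leaf)))) 235975 6
 (Tr.node (Tr.node (Tr.node (Tr.node (Tr.node Tr.leaf 235985 6
 Tr.leaf) 235986 5
 Tr.leaf) 235989 7
 (Tr.node (Tr.node Tr.leaf 235990 6
 Tr.leaf) 235993 7
 Tr.leaf)) 235997 7
 (Tr.node (Tr.node (Tr.node Tr.leaf 235998 5
 Tr.leaf) 236001 7
 Tr.leaf) 236005 7
 (Tr.node Tr.leaf 236006 6
 Tr.leaf))) 236014 6
 (Tr.node (Tr.node (Tr.node (Tr.node Tr.leaf 236019 7
 Tr.leaf) 236023 7
 Tr.leaf) 236031 8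
 (Tr.node (Tr.node Tr.leaf 236545 7
 Tr.leaf) 236549 7
 Tr.leaf)) 236551 7
 (Tr.node (Tr.node (Tr.node Tr.leaf 236553 7
 Tr.leaf) 236555 7
 Tr.leaf) 236559 7
 (Tr.node Tr.leaf 236597 7
 Tr.leaf)))))) 236601 8
 (Tr.node (Tr.node (Tr.node (Tr.node (Tr.node (Tr.node (Tr.node Tr.leaf 236603 7
 Tr.leaf) 236605 7
 Tr.leaf) 236607 8
 (Tr.node (Tr.node Tr.leaf 236609 7
 Tr.leaf) 236611 6
 Tr.leaf)) 236615 7
 (Tr.node (Tr.node (Tr.node Tr.leaf 236617 7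
 Tr.leaf) 236619 6
 Tr.leaf) 236659 7
 (Tr.node (Tr.node Tr.leaf 236661 7
 Tr.leaf) 236665 8
 Tr.leaf))) 236667 7
 (Tr.node (Tr.node (Tr.node (Tr.node Tr.leaf 236671 7
 Tr.leaf) 236675 7
 Tr.leaf) 236679 7
 (Tr.node (Tr.node Tr.leaf 236683 7
 Tr.leaf) 236685 6
 Tr.leaf)) 236687 7
 (Tr.node (Tr.node (Tr.node Tr.leaf 236725 8
 Tr.leaf) 236727 7
 Tr.leaf) 236729 8
 (Tr.node Tr.leaf 236731 7
 Tr.leaf)))) 236733 7
 (Tr.node (Tr.node (Tr.node (Tr.node (Tr.node Tr.leaf 236737 7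
 Tr.leaf) 236739 7
 Tr.leaf) 236741 6
 (Tr.node (Tr.node Tr.leaf 236745 7
 Tr.leaf) 236747 7
 Tr.leaf)) 236787 7
 (Tr.node (Tr.node (Tr.node Tr.leaf 236789 7
 Tr.leaf) 236791 8
 Tr.leaf) 236793 7
 (Tr.node Tr.leaf 236797 8
 Tr.leaf))) 236801 6
 (Tr.node (Tr.node (Tr.node (Tr.node Tr.leaf 236805 7
 Tr.leaf) 236813 7
 Tr.leaf) 236849 7
 (Tr.node (Tr.node Tr.leaf 236851 8
 Tr.leaf) 236861 8
 Tr.leaf)) 236869 7
 (Tr.node (Tr.node (Tr.node Tr.leaf 236877 7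
 Tr.leaf) 236879 6
 Tr.leaf) 236917 8
 (Tr.node Tr.leaf 236923 8
 Tr.leaf))))) 236927 7
 (Tr.node (Tr.node (Tr.node (Tr.node (Tr.node (Tr.node Tr.leaf 236931 6
 Tr.leaf) 236935 7
 Tr.leaf) 236937 7
 (Tr.node (Tr.node Tr.leaf 236939 6
 Tr.leaf) 236943 7
 Tr.leaf)) 236977 7
 (Tr.node (Tr.node (Tr.node Tr.leaf 236979 7
 Tr.leaf) 236983 8
 Tr.leaf) 236987 7
 (Tr.node (Tr.node Tr.leaf 236989 7
 Tr.leaf) 236993 7
 Tr.leaf))) 236995 7
 (Tr.node (Tr.node (Tr.node (Tr.node Tr.leaf 236999 7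
 Tr.leaf) 237001 7
 Tr.leaf) 237005 7
 (Tr.node (Tr.node Tr.leaf 237007 7
 Tr.leaf) 237041 8
 Tr.leaf)) 237043 7
 (Tr.node (Tr.node (Tr.node Tr.leaf 237045 7
 Tr.leaf) 237047 8
 Tr.leaf) 237053 8
 (Tr.node Tr.leaf 237569 7
 Tr.leaf)))) 237575 6
 (Tr.node (Tr.node (Tr.node (Tr.node (Tr.node Tr.leaf 237581 7
 Tr.leaf) 237585 7
 Tr.leaf) 237586 5
 (Tr.node (Tr.node Tr.leaf 237588 6
 Tr.leaf) 237591 5
 Tr.leaf)) 237595 7
 (Tr.node (Tr.node (Tr.node Tr.leaf 237603 6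
 Tr.leaf) 237605 6
 Tr.leaf) 237606 6
 (Tr.node Tr.leaf 237609 7
 Tr.leaf))) 237612 7
 (Tr.node (Tr.node (Tr.node (Tr.node Tr.leaf 237615 8
 Tr.leaf) 237619 7
 Tr.leaf) 237621 6
 (Tr.node (Tr.node Tr.leaf 237622 7
 Tr.leaf) 237628 6
 Tr.leaf)) 237631 8
 (Tr.node (Tr.node (Tr.node Tr.leaf 237633 7
 Tr.leaf) 237634 6
 Tr.leaf) 237636 7
 (Tr.node Tr.leaf 237639 7
 Tr.leaf))))))))

/-- A subtree. -/
def tr1_s58 : Tr := (Tr.node (Tr.node (Tr.node (Tr.node (Tr.node (Tr.node (Tr.node (Tr.node (Tr.node Tr.leaf 237646 7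
 Tr.leaf) 237656 5
 Tr.leaf) 237659 7
 (Tr.node (Tr.node Tr.leaf 237661 7
 Tr.leaf) 237667 7
 Tr.leaf)) 237669 7
 (Tr.node (Tr.node (Tr.node Tr.leaf 237673 7
 Tr.leaf) 237674 6
 Tr.leaf) 237685 7
 (Tr.node (Tr.node Tr.leaf 237686 7
 Tr.leaf) 237690 6
 Tr.leaf))) 237697 7
 (Tr.node (Tr.node (Tr.node (Tr.node Tr.leaf 237700 6
 Tr.leaf) 237703 7
 Tr.leaf) 237704 5
 (Tr.node (Tr.node Tr.leaf 237709 6
 Tr.leaf) 237714 6
 Tr.leaf)) 237716 7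
 (Tr.node (Tr.node (Tr.node Tr.leaf 237723 7
 Tr.leaf) 237725 6
 Tr.leaf) 237731 6
 (Tr.node Tr.leaf 237734 6
 Tr.leaf)))) 237737 7
 (Tr.node (Tr.node (Tr.node (Tr.node (Tr.node Tr.leaf 237743 8
 Tr.leaf) 237747 7
 Tr.leaf) 237749 7
 (Tr.node (Tr.node Tr.leaf 237750 7
 Tr.leaf) 237753 6
 Tr.leaf)) 237754 7
 (Tr.node (Tr.node (Tr.node Tr.leaf 237756 7
 Tr.leaf) 237759 7
 Tr.leaf) 237762 6
 (Tr.node (Tr.node Tr.leaf 237774 6
 Tr.leaf) 237777 7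
 Tr.leaf))) 237780 6
 (Tr.node (Tr.node (Tr.node (Tr.node Tr.leaf 237789 6
 Tr.leaf) 237790 5
 Tr.leaf) 237801 6
 (Tr.node (Tr.node Tr.leaf 237804 6
 Tr.leaf) 237811 6
 Tr.leaf)) 237814 6
 (Tr.node (Tr.node (Tr.node Tr.leaf 237818 5
 Tr.leaf) 237820 5
 Tr.leaf) 237823 7
 (Tr.node Tr.leaf 237826 6
 Tr.leaf))))) 237828 6
 (Tr.node (Tr.node (Tr.node (Tr.node (Tr.node (Tr.node Tr.leaf 237831 7
 Tr.leaf) 237838 6
 Tr.leaf) 237841 7
 (Tr.node (Tr.node Tr.leaf 237844 6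
 Tr.leaf) 237853 6
 Tr.leaf)) 237854 6
 (Tr.node (Tr.node (Tr.node Tr.leaf 237862 5
 Tr.leaf) 237866 6
 Tr.leaf) 237868 6
 (Tr.node (Tr.node Tr.leaf 237871 8
 Tr.leaf) 237875 6
 Tr.leaf))) 237877 5
 (Tr.node (Tr.node (Tr.node (Tr.node Tr.leaf 237881 6
 Tr.leaf) 237884 6
 Tr.leaf) 237887 7
 (Tr.node (Tr.node Tr.leaf 237889 7
 Tr.leaf) 237890 5
 Tr.leaf)) 237901 7
 (Tr.node (Tr.node (Tr.node Tr.leaf 237905 7
 Tr.leaf) 237906 6
 Tr.leaf) 237908 6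
 (Tr.node Tr.leaf 237911 6
 Tr.leaf)))) 237912 5
 (Tr.node (Tr.node (Tr.node (Tr.node (Tr.node Tr.leaf 237915 7
 Tr.leaf) 237917 5
 Tr.leaf) 237918 7
 (Tr.node (Tr.node Tr.leaf 237923 6
 Tr.leaf) 237925 6
 Tr.leaf)) 237942 6
 (Tr.node (Tr.node (Tr.node Tr.leaf 237945 7
 Tr.leaf) 237951 7
 Tr.leaf) 237953 7
 (Tr.node Tr.leaf 237954 6
 Tr.leaf))) 237956 7
 (Tr.node (Tr.node (Tr.node (Tr.node Tr.leaf 237959 7
 Tr.leaf) 237960 5
 Tr.leaf) 237963 7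
 (Tr.node (Tr.node Tr.leaf 237966 7
 Tr.leaf) 237969 7
 Tr.leaf)) 237975 6
 (Tr.node (Tr.node (Tr.node Tr.leaf 237979 7
 Tr.leaf) 237981 6
 Tr.leaf) 237989 6
 (Tr.node Tr.leaf 237993 7
 Tr.leaf)))))) 237994 6
 (Tr.node (Tr.node (Tr.node (Tr.node (Tr.node (Tr.node (Tr.node Tr.leaf 237996 7
 Tr.leaf) 237999 7
 Tr.leaf) 238005 6
 (Tr.node (Tr.node Tr.leaf 238006 7
 Tr.leaf) 238009 6
 Tr.leaf)) 238010 6
 (Tr.node (Tr.node (Tr.node Tr.leaf 238012 6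
 Tr.leaf) 238017 7
 Tr.leaf) 238018 5
 (Tr.node (Tr.node Tr.leaf 238020 6
 Tr.leaf) 238023 5
 Tr.leaf))) 238030 7
 (Tr.node (Tr.node (Tr.node (Tr.node Tr.leaf 238034 6
 Tr.leaf) 238036 6
 Tr.leaf) 238043 7
 (Tr.node (Tr.node Tr.leaf 238046 7
 Tr.leaf) 238051 7
 Tr.leaf)) 238057 7
 (Tr.node (Tr.node (Tr.node Tr.leaf 238058 7
 Tr.leaf) 238060 6
 Tr.leaf) 238070 6
 (Tr.node Tr.leaf 238603 6
 Tr.leaf)))) 238613 6
 (Tr.node (Tr.node (Tr.node (Tr.node (Tr.node Tr.leaf 238615 7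
 Tr.leaf) 238619 6
 Tr.leaf) 238625 7
 (Tr.node (Tr.node Tr.leaf 238637 8
 Tr.leaf) 238639 8
 Tr.leaf)) 238653 7
 (Tr.node (Tr.node (Tr.node Tr.leaf 238655 7
 Tr.leaf) 238665 5
 Tr.leaf) 238667 6
 (Tr.node (Tr.node Tr.leaf 238681 6
 Tr.leaf) 238691 7
 Tr.leaf))) 238705 7
 (Tr.node (Tr.node (Tr.node (Tr.node Tr.leaf 238717 7
 Tr.leaf) 238719 8
 Tr.leaf) 238725 6
 (Tr.node (Tr.node Tr.leaf 238727 6
 Tr.leaf) 238729 6
 Tr.leaf)) 238731 6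
 (Tr.node (Tr.node (Tr.node Tr.leaf 238743 6
 Tr.leaf) 238747 7
 Tr.leaf) 238765 7
 (Tr.node Tr.leaf 238767 7
 Tr.leaf))))) 238781 8
 (Tr.node (Tr.node (Tr.node (Tr.node (Tr.node (Tr.node Tr.leaf 238783 7
 Tr.leaf) 238793 6
 Tr.leaf) 238795 7
 (Tr.node (Tr.node Tr.leaf 238805 6
 Tr.leaf) 238811 6
 Tr.leaf)) 238817 6
 (Tr.node (Tr.node (Tr.node Tr.leaf 238819 7
 Tr.leaf) 238829 7
 Tr.leaf) 238831 7
 (Tr.node (Tr.node Tr.leaf 238833 7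
 Tr.leaf) 238845 7
 Tr.leaf))) 238847 7
 (Tr.node (Tr.node (Tr.node (Tr.node Tr.leaf 238853 7
 Tr.leaf) 238855 6
 Tr.leaf) 238857 7
 (Tr.node (Tr.node Tr.leaf 238859 7
 Tr.leaf) 238869 7
 Tr.leaf)) 238871 6
 (Tr.node (Tr.node (Tr.node Tr.leaf 238875 6
 Tr.leaf) 238883 7
 Tr.leaf) 238897 7
 (Tr.node Tr.leaf 238909 7
 Tr.leaf)))) 238911 7
 (Tr.node (Tr.node (Tr.node (Tr.node (Tr.node Tr.leaf 238919 6
 Tr.leaf) 238921 6
 Tr.leaf) 238933 6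
 (Tr.node (Tr.node Tr.leaf 238935 5
 Tr.leaf) 238939 5
 Tr.leaf)) 238945 7
 (Tr.node (Tr.node (Tr.node Tr.leaf 238947 6
 Tr.leaf) 238959 8
 Tr.leaf) 238961 6
 (Tr.node Tr.leaf 238973 7
 Tr.leaf))) 238975 7
 (Tr.node (Tr.node (Tr.node (Tr.node Tr.leaf 238983 7
 Tr.leaf) 238985 7
 Tr.leaf) 238987 6
 (Tr.node (Tr.node Tr.leaf 238997 6
 Tr.leaf) 238999 6
 Tr.leaf)) 239009 6
 (Tr.node (Tr.node (Tr.node Tr.leaf 239011 7
 Tr.leaf) 239021 8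
 Tr.leaf) 239025 7
 (Tr.node Tr.leaf 239039 7
 Tr.leaf))))))) 239045 6
 (Tr.node (Tr.node (Tr.node (Tr.node (Tr.node (Tr.node (Tr.node (Tr.node Tr.leaf 239047 7
 Tr.leaf) 239051 7
 Tr.leaf) 239061 5
 (Tr.node (Tr.node Tr.leaf 239073 7
 Tr.leaf) 239091 7
 Tr.leaf)) 239103 8
 (Tr.node (Tr.node (Tr.node Tr.leaf 239625 7
 Tr.leaf) 239629 7
 Tr.leaf) 239630 5
 (Tr.node (Tr.node Tr.leaf 239639 7
 Tr.leaf) 239641 7
 Tr.leaf))) 239645 7
 (Tr.node (Tr.node (Tr.node (Tr.node Tr.leaf 239650 6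
 Tr.leaf) 239653 7
 Tr.leaf) 239665 7
 (Tr.node (Tr.node Tr.leaf 239666 7
 Tr.leaf) 239669 7
 Tr.leaf)) 239675 8
 (Tr.node (Tr.node (Tr.node Tr.leaf 239683 7
 Tr.leaf) 239687 6
 Tr.leaf) 239689 7
 (Tr.node Tr.leaf 239690 5
 Tr.leaf)))) 239699 7
 (Tr.node (Tr.node (Tr.node (Tr.node (Tr.node Tr.leaf 239703 6
 Tr.leaf) 239705 6
 Tr.leaf) 239709 7
 (Tr.node (Tr.node Tr.leaf 239710 6
 Tr.leaf) 239714 6
 Tr.leaf)) 239723 8
 (Tr.node (Tr.node (Tr.node Tr.leaf 239727 7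
 Tr.leaf) 239734 5
 Tr.leaf) 239743 7
 (Tr.node (Tr.node Tr.leaf 239751 6
 Tr.leaf) 239754 6
 Tr.leaf))) 239767 6
 (Tr.node (Tr.node (Tr.node (Tr.node Tr.leaf 239774 7
 Tr.leaf) 239777 6
 Tr.leaf) 239797 7
 (Tr.node (Tr.node Tr.leaf 239811 7
 Tr.leaf) 239818 6
 Tr.leaf)) 239821 6
 (Tr.node (Tr.node (Tr.node Tr.leaf 239822 6
 Tr.leaf) 239831 6
 Tr.leaf) 239833 6
 (Tr.node Tr.leaf 239834 6
 Tr.leaf))))) 239837 7
 (Tr.node (Tr.node (Tr.node (Tr.node (Tr.node (Tr.node Tr.leaf 239838 6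
 Tr.leaf) 239841 7
 Tr.leaf) 239842 6
 (Tr.node (Tr.node Tr.leaf 239845 7
 Tr.leaf) 239855 6
 Tr.leaf)) 239857 7
 (Tr.node (Tr.node (Tr.node Tr.leaf 239861 6
 Tr.leaf) 239862 6
 Tr.leaf) 239867 7
 (Tr.node (Tr.node Tr.leaf 239871 7
 Tr.leaf) 239881 6
 Tr.leaf))) 239882 6
 (Tr.node (Tr.node (Tr.node (Tr.node Tr.leaf 239886 6
 Tr.leaf) 239891 7
 Tr.leaf) 239897 7
 (Tr.node (Tr.node Tr.leaf 239898 6
 Tr.leaf) 239901 6
 Tr.leaf)) 239902 6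
 (Tr.node (Tr.node (Tr.node Tr.leaf 239906 6
 Tr.leaf) 239909 6
 Tr.leaf) 239910 7
 (Tr.node Tr.leaf 239925 6
 Tr.leaf)))) 239926 6
 (Tr.node (Tr.node (Tr.node (Tr.node (Tr.node Tr.leaf 239931 7
 Tr.leaf) 239935 7
 Tr.leaf) 239939 6
 (Tr.node (Tr.node Tr.leaf 239943 7
 Tr.leaf) 239945 6
 Tr.leaf)) 239949 6
 (Tr.node (Tr.node (Tr.node Tr.leaf 239955 7
 Tr.leaf) 239959 7
 Tr.leaf) 239962 7
 (Tr.node Tr.leaf 239966 6
 Tr.leaf))) 239970 7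
 (Tr.node (Tr.node (Tr.node (Tr.node Tr.leaf 239974 7
 Tr.leaf) 239985 6
 Tr.leaf) 240010 6
 (Tr.node (Tr.node Tr.leaf 240013 6
 Tr.leaf) 240014 7
 Tr.leaf)) 240019 7
 (Tr.node (Tr.node (Tr.node Tr.leaf 240030 5
 Tr.leaf) 240033 5
 Tr.leaf) 240034 6
 (Tr.node Tr.leaf 240049 6
 Tr.leaf)))))) 240053 7
 (Tr.node (Tr.node (Tr.node (Tr.node (Tr.node (Tr.node (Tr.node Tr.leaf 240054 6
 Tr.leaf) 240063 8
 Tr.leaf) 240071 7
 (Tr.node (Tr.node Tr.leaf 240077 7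
 Tr.leaf) 240087 7
 Tr.leaf)) 240090 5
 (Tr.node (Tr.node (Tr.node Tr.leaf 240097 7
 Tr.leaf) 240098 7
 Tr.leaf) 240111 8
 (Tr.node (Tr.node Tr.leaf 240113 7
 Tr.leaf) 240114 7
 Tr.leaf))) 240118 6
 (Tr.node (Tr.node (Tr.node (Tr.node Tr.leaf 240123 7
 Tr.leaf) 240127 7
 Tr.leaf) 240641 5
 (Tr.node (Tr.node Tr.leaf 240645 7
 Tr.leaf) 240647 6
 Tr.leaf)) 240657 7
 (Tr.node (Tr.node (Tr.node Tr.leaf 240661 7
 Tr.leaf) 240663 7
 Tr.leaf) 240681 8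
 (Tr.node Tr.leaf 240703 7
 Tr.leaf)))) 240705 7
 (Tr.node (Tr.node (Tr.node (Tr.node (Tr.node Tr.leaf 240707 7
 Tr.leaf) 240709 6
 Tr.leaf) 240711 5
 (Tr.node (Tr.node Tr.leaf 240721 6
 Tr.leaf) 240723 7
 Tr.leaf)) 240745 7
 (Tr.node (Tr.node (Tr.node Tr.leaf 240749 8
 Tr.leaf) 240765 6
 Tr.leaf) 240771 7
 (Tr.node (Tr.node Tr.leaf 240773 6
 Tr.leaf) 240775 6
 Tr.leaf))) 240789 7
 (Tr.node (Tr.node (Tr.node (Tr.node Tr.leaf 240791 7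
 Tr.leaf) 240809 7
 Tr.leaf) 240813 7
 (Tr.node (Tr.node Tr.leaf 240829 7
 Tr.leaf) 240833 7
 Tr.leaf)) 240835 6
 (Tr.node (Tr.node (Tr.node Tr.leaf 240837 6
 Tr.leaf) 240849 7
 Tr.leaf) 240851 7
 (Tr.node Tr.leaf 240873 7
 Tr.leaf))))) 240875 7
 (Tr.node (Tr.node (Tr.node (Tr.node (Tr.node (Tr.node Tr.leaf 240877 6
 Tr.leaf) 240879 7
 Tr.leaf) 240891 7
 (Tr.node (Tr.node Tr.leaf 240893 7
 Tr.leaf) 240895 8
 Tr.leaf)) 240897 6
 (Tr.node (Tr.node (Tr.node Tr.leaf 240917 6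
 Tr.leaf) 240937 7
 Tr.leaf) 240957 7
 (Tr.node (Tr.node Tr.leaf 240959 7
 Tr.leaf) 240965 7
 Tr.leaf))) 240981 7
 (Tr.node (Tr.node (Tr.node (Tr.node Tr.leaf 240983 7
 Tr.leaf) 241001 7
 Tr.leaf) 241005 6
 (Tr.node (Tr.node Tr.leaf 241007 7
 Tr.leaf) 241019 7
 Tr.leaf)) 241023 7
 (Tr.node (Tr.node (Tr.node Tr.leaf 241025 6
 Tr.leaf) 241031 6
 Tr.leaf) 241041 5
 (Tr.node Tr.leaf 241043 6
 Tr.leaf)))) 241047 7
 (Tr.node (Tr.node (Tr.node (Tr.node (Tr.node Tr.leaf 241065 7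
 Tr.leaf) 241069 7
 Tr.leaf) 241081 7
 (Tr.node (Tr.node Tr.leaf 241083 7
 Tr.leaf) 241089 7
 Tr.leaf)) 241093 7
 (Tr.node (Tr.node (Tr.node Tr.leaf 241095 7
 Tr.leaf) 241109 7
 Tr.leaf) 241111 5
 (Tr.node Tr.leaf 241129 7
 Tr.leaf))) 241147 7
 (Tr.node (Tr.node (Tr.node (Tr.node Tr.leaf 241667 6
 Tr.leaf) 241677 7
 Tr.leaf) 241678 5
 (Tr.node (Tr.node Tr.leaf 241686 6
 Tr.leaf) 241691 5
 Tr.leaf)) 241693 5
 (Tr.node (Tr.node (Tr.node Tr.leaf 241697 7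
 Tr.leaf) 241698 7
 Tr.leaf) 241703 8
 (Tr.node Tr.leaf 241706 5
 Tr.leaf))))))))

/-- A subtree. -/
def tr1_s59 : Tr := (Tr.node (Tr.node (Tr.node (Tr.node (Tr.node (Tr.node (Tr.node (Tr.node (Tr.node Tr.leaf 241711 7
 Tr.leaf) 241713 7
 Tr.leaf) 241714 7
 (Tr.node (Tr.node Tr.leaf 241716 6
 Tr.leaf) 241719 7
 Tr.leaf)) 241727 7
 (Tr.node (Tr.node (Tr.node Tr.leaf 241734 5
 Tr.leaf) 241739 7
 Tr.leaf) 241742 7
 (Tr.node (Tr.node Tr.leaf 241750 6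
 Tr.leaf) 241755 7
 Tr.leaf))) 241761 7
 (Tr.node (Tr.node (Tr.node (Tr.node Tr.leaf 241762 7
 Tr.leaf) 241764 7
 Tr.leaf) 241767 7
 (Tr.node (Tr.node Tr.leaf 241769 7
 Tr.leaf) 241770 6
 Tr.leaf)) 241772 7
 (Tr.node (Tr.node (Tr.node Tr.leaf 241786 6
 Tr.leaf) 241788 7
 Tr.leaf) 241795 6
 (Tr.node Tr.leaf 241798 6
 Tr.leaf)))) 241803 7
 (Tr.node (Tr.node (Tr.node (Tr.node (Tr.node Tr.leaf 241811 6
 Tr.leaf) 241813 7
 Tr.leaf) 241814 7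
 (Tr.node (Tr.node Tr.leaf 241825 6
 Tr.leaf) 241828 6
 Tr.leaf)) 241831 7
 (Tr.node (Tr.node (Tr.node Tr.leaf 241833 6
 Tr.leaf) 241834 6
 Tr.leaf) 241836 6
 (Tr.node (Tr.node Tr.leaf 241839 7
 Tr.leaf) 241841 7
 Tr.leaf))) 241842 7
 (Tr.node (Tr.node (Tr.node (Tr.node Tr.leaf 241844 7
 Tr.leaf) 241849 7
 Tr.leaf) 241861 7
 (Tr.node (Tr.node Tr.leaf 241862 6
 Tr.leaf) 241867 7
 Tr.leaf)) 241870 6
 (Tr.node (Tr.node (Tr.node Tr.leaf 241877 7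
 Tr.leaf) 241883 7
 Tr.leaf) 241885 6
 (Tr.node Tr.leaf 241895 7
 Tr.leaf))))) 241898 6
 (Tr.node (Tr.node (Tr.node (Tr.node (Tr.node (Tr.node Tr.leaf 241905 7
 Tr.leaf) 241908 6
 Tr.leaf) 241913 7
 (Tr.node (Tr.node Tr.leaf 241914 7
 Tr.leaf) 241916 7
 Tr.leaf)) 241919 7
 (Tr.node (Tr.node (Tr.node Tr.leaf 241925 6
 Tr.leaf) 241926 7
 Tr.leaf) 241931 7
 (Tr.node (Tr.node Tr.leaf 241941 6
 Tr.leaf) 241942 5
 Tr.leaf))) 241947 6
 (Tr.node (Tr.node (Tr.node (Tr.node Tr.leaf 241950 6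
 Tr.leaf) 241964 6
 Tr.leaf) 241967 7
 (Tr.node (Tr.node Tr.leaf 241970 6
 Tr.leaf) 241975 7
 Tr.leaf)) 241983 7
 (Tr.node (Tr.node (Tr.node Tr.leaf 241989 7
 Tr.leaf) 241995 6
 Tr.leaf) 242014 6
 (Tr.node Tr.leaf 242017 7
 Tr.leaf)))) 242018 7
 (Tr.node (Tr.node (Tr.node (Tr.node (Tr.node Tr.leaf 242020 7
 Tr.leaf) 242033 6
 Tr.leaf) 242034 6
 (Tr.node (Tr.node Tr.leaf 242036 6
 Tr.leaf) 242039 7
 Tr.leaf)) 242041 6
 (Tr.node (Tr.node (Tr.node Tr.leaf 242044 6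
 Tr.leaf) 242051 6
 Tr.leaf) 242053 6
 (Tr.node Tr.leaf 242054 7
 Tr.leaf))) 242059 7
 (Tr.node (Tr.node (Tr.node (Tr.node Tr.leaf 242061 7
 Tr.leaf) 242062 6
 Tr.leaf) 242075 6
 (Tr.node (Tr.node Tr.leaf 242077 7
 Tr.leaf) 242078 5
 Tr.leaf)) 242082 5
 (Tr.node (Tr.node (Tr.node Tr.leaf 242087 7
 Tr.leaf) 242089 7
 Tr.leaf) 242090 7
 (Tr.node Tr.leaf 242092 7
 Tr.leaf)))))) 242098 6
 (Tr.node (Tr.node (Tr.node (Tr.node (Tr.node (Tr.node (Tr.node Tr.leaf 242111 8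
 Tr.leaf) 242115 5
 Tr.leaf) 242117 5
 (Tr.node (Tr.node Tr.leaf 242123 7
 Tr.leaf) 242133 6
 Tr.leaf)) 242134 5
 (Tr.node (Tr.node (Tr.node Tr.leaf 242141 6
 Tr.leaf) 242142 6
 Tr.leaf) 242145 7
 (Tr.node (Tr.node Tr.leaf 242146 7
 Tr.leaf) 242148 7
 Tr.leaf))) 242151 7
 (Tr.node (Tr.node (Tr.node (Tr.node Tr.leaf 242153 7
 Tr.leaf) 242156 5
 Tr.leaf) 242162 6
 (Tr.node (Tr.node Tr.leaf 242164 6
 Tr.leaf) 242689 5
 Tr.leaf)) 242691 7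
 (Tr.node (Tr.node (Tr.node Tr.leaf 242699 6
 Tr.leaf) 242707 7
 Tr.leaf) 242713 7
 (Tr.node Tr.leaf 242733 7
 Tr.leaf)))) 242735 7
 (Tr.node (Tr.node (Tr.node (Tr.node (Tr.node Tr.leaf 242741 8
 Tr.leaf) 242749 7
 Tr.leaf) 242753 7
 (Tr.node (Tr.node Tr.leaf 242763 5
 Tr.leaf) 242771 7
 Tr.leaf)) 242777 7
 (Tr.node (Tr.node (Tr.node Tr.leaf 242799 8
 Tr.leaf) 242805 7
 Tr.leaf) 242807 7
 (Tr.node (Tr.node Tr.leaf 242817 7
 Tr.leaf) 242835 7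
 Tr.leaf))) 242841 7
 (Tr.node (Tr.node (Tr.node (Tr.node Tr.leaf 242853 7
 Tr.leaf) 242855 7
 Tr.leaf) 242861 7
 (Tr.node (Tr.node Tr.leaf 242871 7
 Tr.leaf) 242881 7
 Tr.leaf)) 242883 6
 (Tr.node (Tr.node (Tr.node Tr.leaf 242899 7
 Tr.leaf) 242905 6
 Tr.leaf) 242907 7
 (Tr.node Tr.leaf 242919 7
 Tr.leaf))))) 242933 6
 (Tr.node (Tr.node (Tr.node (Tr.node (Tr.node (Tr.node Tr.leaf 242945 7
 Tr.leaf) 242947 6
 Tr.leaf) 242963 6
 (Tr.node (Tr.node Tr.leaf 242969 6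
 Tr.leaf) 242971 7
 Tr.leaf)) 242997 7
 (Tr.node (Tr.node (Tr.node Tr.leaf 243005 7
 Tr.leaf) 243009 7
 Tr.leaf) 243017 7
 (Tr.node (Tr.node Tr.leaf 243019 6
 Tr.leaf) 243025 6
 Tr.leaf))) 243027 6
 (Tr.node (Tr.node (Tr.node (Tr.node Tr.leaf 243033 7
 Tr.leaf) 243047 7
 Tr.leaf) 243053 7
 (Tr.node (Tr.node Tr.leaf 243055 7
 Tr.leaf) 243061 6
 Tr.leaf)) 243063 7
 (Tr.node (Tr.node (Tr.node Tr.leaf 243069 7
 Tr.leaf) 243071 7
 Tr.leaf) 243089 5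
 (Tr.node Tr.leaf 243091 6
 Tr.leaf)))) 243097 7
 (Tr.node (Tr.node (Tr.node (Tr.node (Tr.node Tr.leaf 243109 7
 Tr.leaf) 243137 7
 Tr.leaf) 243147 6
 (Tr.node (Tr.node Tr.leaf 243153 6
 Tr.leaf) 243155 7
 Tr.leaf)) 243161 7
 (Tr.node (Tr.node (Tr.node Tr.leaf 243163 5
 Tr.leaf) 243173 6
 Tr.leaf) 243181 7
 (Tr.node Tr.leaf 243183 7
 Tr.leaf))) 243189 8
 (Tr.node (Tr.node (Tr.node (Tr.node Tr.leaf 243197 7
 Tr.leaf) 243199 7
 Tr.leaf) 243713 5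
 (Tr.node (Tr.node Tr.leaf 243718 5
 Tr.leaf) 243721 6
 Tr.leaf)) 243722 4
 (Tr.node (Tr.node (Tr.node Tr.leaf 243725 6
 Tr.leaf) 243726 5
 Tr.leaf) 243733 7
 (Tr.node Tr.leaf 243738 6
 Tr.leaf))))))) 243747 7
 (Tr.node (Tr.node (Tr.node (Tr.node (Tr.node (Tr.node (Tr.node (Tr.node Tr.leaf 243751 7
 Tr.leaf) 243755 7
 Tr.leaf) 243759 7
 (Tr.node (Tr.node Tr.leaf 243777 7
 Tr.leaf) 243778 5
 Tr.leaf)) 243782 5
 (Tr.node (Tr.node (Tr.node Tr.leaf 243786 5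
 Tr.leaf) 243789 5
 Tr.leaf) 243790 7
 (Tr.node (Tr.node Tr.leaf 243794 6
 Tr.leaf) 243798 6
 Tr.leaf))) 243805 6
 (Tr.node (Tr.node (Tr.node (Tr.node Tr.leaf 243806 5
 Tr.leaf) 243823 8
 Tr.leaf) 243839 7
 (Tr.node (Tr.node Tr.leaf 243841 7
 Tr.leaf) 243842 6
 Tr.leaf)) 243845 7
 (Tr.node (Tr.node (Tr.node Tr.leaf 243846 6
 Tr.leaf) 243850 5
 Tr.leaf) 243853 7
 (Tr.node Tr.leaf 243857 7
 Tr.leaf)))) 243861 6
 (Tr.node (Tr.node (Tr.node (Tr.node (Tr.node Tr.leaf 243875 7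
 Tr.leaf) 243879 7
 Tr.leaf) 243883 7
 (Tr.node (Tr.node Tr.leaf 243887 7
 Tr.leaf) 243895 7
 Tr.leaf)) 243905 6
 (Tr.node (Tr.node (Tr.node Tr.leaf 243906 7
 Tr.leaf) 243909 7
 Tr.leaf) 243910 7
 (Tr.node (Tr.node Tr.leaf 243918 7
 Tr.leaf) 243921 7
 Tr.leaf))) 243922 6
 (Tr.node (Tr.node (Tr.node (Tr.node Tr.leaf 243925 7
 Tr.leaf) 243930 6
 Tr.leaf) 243959 7
 (Tr.node (Tr.node Tr.leaf 243963 7
 Tr.leaf) 243967 7
 Tr.leaf)) 243969 7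
 (Tr.node (Tr.node (Tr.node Tr.leaf 243970 6
 Tr.leaf) 243973 6
 Tr.leaf) 243974 6
 (Tr.node Tr.leaf 243978 7
 Tr.leaf))))) 243982 6
 (Tr.node (Tr.node (Tr.node (Tr.node (Tr.node (Tr.node Tr.leaf 243985 6
 Tr.leaf) 243989 6
 Tr.leaf) 243997 6
 (Tr.node (Tr.node Tr.leaf 244007 7
 Tr.leaf) 244015 7
 Tr.leaf)) 244033 7
 (Tr.node (Tr.node (Tr.node Tr.leaf 244034 7
 Tr.leaf) 244037 7
 Tr.leaf) 244041 6
 (Tr.node (Tr.node Tr.leaf 244046 6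
 Tr.leaf) 244049 7
 Tr.leaf))) 244050 7
 (Tr.node (Tr.node (Tr.node (Tr.node Tr.leaf 244053 7
 Tr.leaf) 244054 6
 Tr.leaf) 244058 6
 (Tr.node (Tr.node Tr.leaf 244061 7
 Tr.leaf) 244062 6
 Tr.leaf)) 244071 7
 (Tr.node (Tr.node (Tr.node Tr.leaf 244075 7
 Tr.leaf) 244083 7
 Tr.leaf) 244091 7
 (Tr.node Tr.leaf 244097 6
 Tr.leaf)))) 244098 6
 (Tr.node (Tr.node (Tr.node (Tr.node (Tr.node Tr.leaf 244101 6
 Tr.leaf) 244105 7
 Tr.leaf) 244106 6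
 (Tr.node (Tr.node Tr.leaf 244109 7
 Tr.leaf) 244110 6
 Tr.leaf)) 244113 5
 (Tr.node (Tr.node (Tr.node Tr.leaf 244118 5
 Tr.leaf) 244122 5
 Tr.leaf) 244125 7
 (Tr.node Tr.leaf 244126 5
 Tr.leaf))) 244131 8
 (Tr.node (Tr.node (Tr.node (Tr.node Tr.leaf 244135 6
 Tr.leaf) 244139 6
 Tr.leaf) 244151 7
 (Tr.node (Tr.node Tr.leaf 244155 7
 Tr.leaf) 244162 7
 Tr.leaf)) 244169 7
 (Tr.node (Tr.node (Tr.node Tr.leaf 244173 7
 Tr.leaf) 244178 5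
 Tr.leaf) 244182 5
 (Tr.node Tr.leaf 244185 7
 Tr.leaf)))))) 244186 5
 (Tr.node (Tr.node (Tr.node (Tr.node (Tr.node (Tr.node (Tr.node Tr.leaf 244189 5
 Tr.leaf) 244190 7
 Tr.leaf) 244195 6
 (Tr.node (Tr.node Tr.leaf 244199 7
 Tr.leaf) 244215 8
 Tr.leaf)) 244219 7
 (Tr.node (Tr.node (Tr.node Tr.leaf 244775 7
 Tr.leaf) 244777 7
 Tr.leaf) 244779 7
 (Tr.node (Tr.node Tr.leaf 244783 8
 Tr.leaf) 244787 8
 Tr.leaf))) 244789 7
 (Tr.node (Tr.node (Tr.node (Tr.node Tr.leaf 244793 7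
 Tr.leaf) 244795 7
 Tr.leaf) 244835 8
 (Tr.node (Tr.node Tr.leaf 244843 8
 Tr.leaf) 244847 7
 Tr.leaf)) 244851 7
 (Tr.node (Tr.node (Tr.node Tr.leaf 244853 7
 Tr.leaf) 244859 7
 Tr.leaf) 244897 7
 (Tr.node Tr.leaf 244899 8
 Tr.leaf)))) 244905 7
 (Tr.node (Tr.node (Tr.node (Tr.node (Tr.node Tr.leaf 244907 7
 Tr.leaf) 244909 7
 Tr.leaf) 244921 7
 (Tr.node (Tr.node Tr.leaf 244923 7
 Tr.leaf) 244925 7
 Tr.leaf)) 244927 8
 (Tr.node (Tr.node (Tr.node Tr.leaf 244961 8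
 Tr.leaf) 244965 7
 Tr.leaf) 244969 8
 (Tr.node Tr.leaf 244973 8
 Tr.leaf))) 244981 7
 (Tr.node (Tr.node (Tr.node (Tr.node Tr.leaf 244983 7
 Tr.leaf) 244987 7
 Tr.leaf) 245025 7
 (Tr.node (Tr.node Tr.leaf 245027 7
 Tr.leaf) 245031 7
 Tr.leaf)) 245035 8
 (Tr.node (Tr.node (Tr.node Tr.leaf 245039 8
 Tr.leaf) 245051 7
 Tr.leaf) 245055 8
 (Tr.node Tr.leaf 245089 7
 Tr.leaf))))) 245095 7
 (Tr.node (Tr.node (Tr.node (Tr.node (Tr.node (Tr.node Tr.leaf 245099 7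
 Tr.leaf) 245103 7
 Tr.leaf) 245105 7
 (Tr.node (Tr.node Tr.leaf 245107 7
 Tr.leaf) 245109 7
 Tr.leaf)) 245113 7
 (Tr.node (Tr.node (Tr.node Tr.leaf 245115 7
 Tr.leaf) 245117 8
 Tr.leaf) 245119 7
 (Tr.node (Tr.node Tr.leaf 245153 7
 Tr.leaf) 245155 8
 Tr.leaf))) 245157 7
 (Tr.node (Tr.node (Tr.node (Tr.node Tr.leaf 245159 7
 Tr.leaf) 245161 7
 Tr.leaf) 245163 8
 (Tr.node (Tr.node Tr.leaf 245167 7
 Tr.leaf) 245169 7
 Tr.leaf)) 245171 8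
 (Tr.node (Tr.node (Tr.node Tr.leaf 245175 8
 Tr.leaf) 245177 8
 Tr.leaf) 245179 7
 (Tr.node Tr.leaf 245181 8
 Tr.leaf)))) 245229 7
 (Tr.node (Tr.node (Tr.node (Tr.node (Tr.node Tr.leaf 245231 7
 Tr.leaf) 245243 7
 Tr.leaf) 245762 6
 (Tr.node (Tr.node Tr.leaf 245764 6
 Tr.leaf) 245773 7
 Tr.leaf)) 245774 7
 (Tr.node (Tr.node (Tr.node Tr.leaf 245776 6
 Tr.leaf) 245782 6
 Tr.leaf) 245793 7
 (Tr.node Tr.leaf 245794 6
 Tr.leaf))) 245796 5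
 (Tr.node (Tr.node (Tr.node (Tr.node Tr.leaf 245799 5
 Tr.leaf) 245806 7
 Tr.leaf) 245813 7
 (Tr.node (Tr.node Tr.leaf 245817 7
 Tr.leaf) 245818 6
 Tr.leaf)) 245820 7
 (Tr.node (Tr.node (Tr.node Tr.leaf 245825 7
 Tr.leaf) 245831 6
 Tr.leaf) 245835 6
 (Tr.node Tr.leaf 245837 7
 Tr.leaf))))))))

/-- A subtree. -/
def tr1_s60 : Tr := (Tr.node (Tr.node (Tr.node (Tr.node (Tr.node (Tr.node (Tr.node (Tr.node (Tr.node Tr.leaf 245843 6
 Tr.leaf) 245846 7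
 Tr.leaf) 245849 6
 (Tr.node (Tr.node Tr.leaf 245850 6
 Tr.leaf) 245852 6
 Tr.leaf)) 245857 7
 (Tr.node (Tr.node (Tr.node Tr.leaf 245858 7
 Tr.leaf) 245860 6
 Tr.leaf) 245863 7
 (Tr.node (Tr.node Tr.leaf 245864 5
 Tr.leaf) 245869 7
 Tr.leaf))) 245870 7
 (Tr.node (Tr.node (Tr.node (Tr.node Tr.leaf 245875 6
 Tr.leaf) 245881 7
 Tr.leaf) 245882 7
 (Tr.node (Tr.node Tr.leaf 245884 6
 Tr.leaf) 245887 7
 Tr.leaf)) 245889 7
 (Tr.node (Tr.node (Tr.node Tr.leaf 245890 6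
 Tr.leaf) 245899 6
 Tr.leaf) 245902 6
 (Tr.node Tr.leaf 245909 6
 Tr.leaf)))) 245910 6
 (Tr.node (Tr.node (Tr.node (Tr.node (Tr.node Tr.leaf 245914 6
 Tr.leaf) 245916 6
 Tr.leaf) 245919 7
 (Tr.node (Tr.node Tr.leaf 245924 6
 Tr.leaf) 245934 6
 Tr.leaf)) 245945 6
 (Tr.node (Tr.node (Tr.node Tr.leaf 245946 6
 Tr.leaf) 245954 7
 Tr.leaf) 245956 5
 (Tr.node (Tr.node Tr.leaf 245963 6
 Tr.leaf) 245965 7
 Tr.leaf))) 245971 7
 (Tr.node (Tr.node (Tr.node (Tr.node Tr.leaf 245973 7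
 Tr.leaf) 245974 7
 Tr.leaf) 245977 6
 (Tr.node (Tr.node Tr.leaf 245978 7
 Tr.leaf) 245980 7
 Tr.leaf)) 245983 7
 (Tr.node (Tr.node (Tr.node Tr.leaf 245985 7
 Tr.leaf) 245986 6
 Tr.leaf) 245991 7
 (Tr.node Tr.leaf 245992 6
 Tr.leaf))))) 245995 5
 (Tr.node (Tr.node (Tr.node (Tr.node (Tr.node (Tr.node Tr.leaf 246005 6
 Tr.leaf) 246006 6
 Tr.leaf) 246009 7
 (Tr.node (Tr.node Tr.leaf 246015 8
 Tr.leaf) 246017 7
 Tr.leaf)) 246018 6
 (Tr.node (Tr.node (Tr.node Tr.leaf 246020 6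
 Tr.leaf) 246023 6
 Tr.leaf) 246024 5
 (Tr.node (Tr.node Tr.leaf 246027 6
 Tr.leaf) 246029 7
 Tr.leaf))) 246030 7
 (Tr.node (Tr.node (Tr.node (Tr.node Tr.leaf 246038 6
 Tr.leaf) 246041 7
 Tr.leaf) 246047 7
 (Tr.node (Tr.node Tr.leaf 246049 7
 Tr.leaf) 246052 6
 Tr.leaf)) 246059 7
 (Tr.node (Tr.node (Tr.node Tr.leaf 246064 7
 Tr.leaf) 246067 6
 Tr.leaf) 246069 6
 (Tr.node Tr.leaf 246081 7
 Tr.leaf)))) 246082 6
 (Tr.node (Tr.node (Tr.node (Tr.node (Tr.node Tr.leaf 246091 6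
 Tr.leaf) 246094 6
 Tr.leaf) 246099 5
 (Tr.node (Tr.node Tr.leaf 246101 6
 Tr.leaf) 246105 6
 Tr.leaf)) 246106 6
 (Tr.node (Tr.node (Tr.node Tr.leaf 246111 7
 Tr.leaf) 246114 6
 Tr.leaf) 246116 6
 (Tr.node Tr.leaf 246119 7
 Tr.leaf))) 246126 6
 (Tr.node (Tr.node (Tr.node (Tr.node Tr.leaf 246128 6
 Tr.leaf) 246134 6
 Tr.leaf) 246138 6
 (Tr.node (Tr.node Tr.leaf 246140 6
 Tr.leaf) 246143 8
 Tr.leaf)) 246152 6
 (Tr.node (Tr.node (Tr.node Tr.leaf 246155 7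
 Tr.leaf) 246157 7
 Tr.leaf) 246160 6
 (Tr.node Tr.leaf 246163 7
 Tr.leaf)))))) 246166 7
 (Tr.node (Tr.node (Tr.node (Tr.node (Tr.node (Tr.node (Tr.node Tr.leaf 246172 6
 Tr.leaf) 246177 7
 Tr.leaf) 246178 7
 (Tr.node (Tr.node Tr.leaf 246180 6
 Tr.leaf) 246183 7
 Tr.leaf)) 246187 7
 (Tr.node (Tr.node (Tr.node Tr.leaf 246190 7
 Tr.leaf) 246195 7
 Tr.leaf) 246197 7
 (Tr.node (Tr.node Tr.leaf 246201 7
 Tr.leaf) 246204 5
 Tr.leaf))) 246209 7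
 (Tr.node (Tr.node (Tr.node (Tr.node Tr.leaf 246210 6
 Tr.leaf) 246212 5
 Tr.leaf) 246215 5
 (Tr.node (Tr.node Tr.leaf 246221 7
 Tr.leaf) 246224 6
 Tr.leaf)) 246227 6
 (Tr.node (Tr.node (Tr.node Tr.leaf 246229 7
 Tr.leaf) 246230 7
 Tr.leaf) 246234 6
 (Tr.node Tr.leaf 246239 8
 Tr.leaf)))) 246241 7
 (Tr.node (Tr.node (Tr.node (Tr.node (Tr.node Tr.leaf 246247 6
 Tr.leaf) 246251 7
 Tr.leaf) 246259 6
 (Tr.node (Tr.node Tr.leaf 246261 6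
 Tr.leaf) 246262 6
 Tr.leaf)) 246265 7
 (Tr.node (Tr.node (Tr.node Tr.leaf 246266 7
 Tr.leaf) 246271 8
 Tr.leaf) 246789 7
 (Tr.node (Tr.node Tr.leaf 246803 7
 Tr.leaf) 246813 8
 Tr.leaf))) 246815 7
 (Tr.node (Tr.node (Tr.node (Tr.node Tr.leaf 246821 7
 Tr.leaf) 246825 7
 Tr.leaf) 246835 7
 (Tr.node (Tr.node Tr.leaf 246845 8
 Tr.leaf) 246855 7
 Tr.leaf)) 246865 7
 (Tr.node (Tr.node (Tr.node Tr.leaf 246867 6
 Tr.leaf) 246877 8
 Tr.leaf) 246889 6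
 (Tr.node Tr.leaf 246899 5
 Tr.leaf))))) 246917 7
 (Tr.node (Tr.node (Tr.node (Tr.node (Tr.node (Tr.node Tr.leaf 246921 7
 Tr.leaf) 246923 6
 Tr.leaf) 246929 6
 (Tr.node (Tr.node Tr.leaf 246931 7
 Tr.leaf) 246941 7
 Tr.leaf)) 246943 7
 (Tr.node (Tr.node (Tr.node Tr.leaf 246951 7
 Tr.leaf) 246953 6
 Tr.leaf) 246961 7
 (Tr.node (Tr.node Tr.leaf 246963 7
 Tr.leaf) 246973 6
 Tr.leaf))) 246981 6
 (Tr.node (Tr.node (Tr.node (Tr.node Tr.leaf 246993 7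
 Tr.leaf) 247013 6
 Tr.leaf) 247027 6
 (Tr.node (Tr.node Tr.leaf 247045 7
 Tr.leaf) 247047 7
 Tr.leaf)) 247059 6
 (Tr.node (Tr.node (Tr.node Tr.leaf 247077 7
 Tr.leaf) 247079 6
 Tr.leaf) 247081 6
 (Tr.node Tr.leaf 247083 6
 Tr.leaf)))) 247111 6
 (Tr.node (Tr.node (Tr.node (Tr.node (Tr.node Tr.leaf 247113 6
 Tr.leaf) 247115 7
 Tr.leaf) 247121 6
 (Tr.node (Tr.node Tr.leaf 247133 7
 Tr.leaf) 247135 7
 Tr.leaf)) 247147 6
 (Tr.node (Tr.node (Tr.node Tr.leaf 247153 6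
 Tr.leaf) 247173 6
 Tr.leaf) 247175 7
 (Tr.node Tr.leaf 247177 7
 Tr.leaf))) 247179 6
 (Tr.node (Tr.node (Tr.node (Tr.node Tr.leaf 247197 7
 Tr.leaf) 247205 6
 Tr.leaf) 247207 7
 (Tr.node (Tr.node Tr.leaf 247211 7
 Tr.leaf) 247229 8
 Tr.leaf)) 247231 8
 (Tr.node (Tr.node (Tr.node Tr.leaf 247237 7
 Tr.leaf) 247241 7
 Tr.leaf) 247243 7
 (Tr.node Tr.leaf 247249 7
 Tr.leaf))))))) 247251 7
 (Tr.node (Tr.node (Tr.node (Tr.node (Tr.node (Tr.node (Tr.node (Tr.node Tr.leaf 247263 8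
 Tr.leaf) 247273 7
 Tr.leaf) 247275 7
 (Tr.node (Tr.node Tr.leaf 247281 7
 Tr.leaf) 247815 5
 Tr.leaf)) 247822 5
 (Tr.node (Tr.node (Tr.node Tr.leaf 247825 7
 Tr.leaf) 247826 6
 Tr.leaf) 247830 6
 (Tr.node (Tr.node Tr.leaf 247835 8
 Tr.leaf) 247843 7
 Tr.leaf))) 247847 6
 (Tr.node (Tr.node (Tr.node (Tr.node Tr.leaf 247849 7
 Tr.leaf) 247854 6
 Tr.leaf) 247858 6
 (Tr.node (Tr.node Tr.leaf 247861 7
 Tr.leaf) 247875 6
 Tr.leaf)) 247879 6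
 (Tr.node (Tr.node (Tr.node Tr.leaf 247882 5
 Tr.leaf) 247890 7
 Tr.leaf) 247893 7
 (Tr.node Tr.leaf 247899 8
 Tr.leaf)))) 247907 7
 (Tr.node (Tr.node (Tr.node (Tr.node (Tr.node Tr.leaf 247913 6
 Tr.leaf) 247914 7
 Tr.leaf) 247917 6
 (Tr.node (Tr.node Tr.leaf 247918 6
 Tr.leaf) 247921 7
 Tr.leaf)) 247922 7
 (Tr.node (Tr.node (Tr.node Tr.leaf 247925 6
 Tr.leaf) 247935 8
 Tr.leaf) 247943 6
 (Tr.node (Tr.node Tr.leaf 247945 6
 Tr.leaf) 247957 7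
 Tr.leaf))) 247963 7
 (Tr.node (Tr.node (Tr.node (Tr.node Tr.leaf 247967 7
 Tr.leaf) 247977 7
 Tr.leaf) 247981 6
 (Tr.node (Tr.node Tr.leaf 247985 7
 Tr.leaf) 247986 6
 Tr.leaf)) 247989 6
 (Tr.node (Tr.node (Tr.node Tr.leaf 247995 7
 Tr.leaf) 247999 7
 Tr.leaf) 248003 6
 (Tr.node Tr.leaf 248009 7
 Tr.leaf))))) 248010 5
 (Tr.node (Tr.node (Tr.node (Tr.node (Tr.node (Tr.node Tr.leaf 248014 6
 Tr.leaf) 248027 7
 Tr.leaf) 248031 8
 (Tr.node (Tr.node Tr.leaf 248035 6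
 Tr.leaf) 248039 5
 Tr.leaf)) 248041 6
 (Tr.node (Tr.node (Tr.node Tr.leaf 248042 7
 Tr.leaf) 248045 5
 Tr.leaf) 248050 6
 (Tr.node (Tr.node Tr.leaf 248059 7
 Tr.leaf) 248063 7
 Tr.leaf))) 248067 6
 (Tr.node (Tr.node (Tr.node (Tr.node Tr.leaf 248071 6
 Tr.leaf) 248073 6
 Tr.leaf) 248085 6
 (Tr.node (Tr.node Tr.leaf 248086 6
 Tr.leaf) 248091 7
 Tr.leaf)) 248095 7
 (Tr.node (Tr.node (Tr.node Tr.leaf 248099 7
 Tr.leaf) 248106 6
 Tr.leaf) 248109 6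
 (Tr.node Tr.leaf 248110 6
 Tr.leaf)))) 248113 6
 (Tr.node (Tr.node (Tr.node (Tr.node (Tr.node Tr.leaf 248114 7
 Tr.leaf) 248117 7
 Tr.leaf) 248118 7
 (Tr.node (Tr.node Tr.leaf 248123 8
 Tr.leaf) 248131 6
 Tr.leaf)) 248135 7
 (Tr.node (Tr.node (Tr.node Tr.leaf 248137 6
 Tr.leaf) 248138 7
 Tr.leaf) 248149 7
 (Tr.node Tr.leaf 248150 6
 Tr.leaf))) 248155 7
 (Tr.node (Tr.node (Tr.node (Tr.node Tr.leaf 248159 7
 Tr.leaf) 248163 6
 Tr.leaf) 248167 7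
 (Tr.node (Tr.node Tr.leaf 248169 7
 Tr.leaf) 248170 7
 Tr.leaf)) 248173 7
 (Tr.node (Tr.node (Tr.node Tr.leaf 248177 7
 Tr.leaf) 248178 7
 Tr.leaf) 248202 6
 (Tr.node Tr.leaf 248205 6
 Tr.leaf)))))) 248210 7
 (Tr.node (Tr.node (Tr.node (Tr.node (Tr.node (Tr.node (Tr.node Tr.leaf 248213 7
 Tr.leaf) 248219 8
 Tr.leaf) 248223 7
 (Tr.node (Tr.node Tr.leaf 248233 6
 Tr.leaf) 248237 5
 Tr.leaf)) 248238 5
 (Tr.node (Tr.node (Tr.node Tr.leaf 248241 7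
 Tr.leaf) 248242 7
 Tr.leaf) 248259 7
 (Tr.node (Tr.node Tr.leaf 248263 6
 Tr.leaf) 248265 6
 Tr.leaf))) 248266 5
 (Tr.node (Tr.node (Tr.node (Tr.node Tr.leaf 248278 5
 Tr.leaf) 248283 7
 Tr.leaf) 248287 7
 (Tr.node (Tr.node Tr.leaf 248297 6
 Tr.leaf) 248298 5
 Tr.leaf)) 248306 6
 (Tr.node (Tr.node (Tr.node Tr.leaf 248309 7
 Tr.leaf) 248315 7
 Tr.leaf) 248319 8
 (Tr.node Tr.leaf 248833 5
 Tr.leaf)))) 248837 7
 (Tr.node (Tr.node (Tr.node (Tr.node (Tr.node Tr.leaf 248859 7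
 Tr.leaf) 248865 7
 Tr.leaf) 248869 7
 (Tr.node (Tr.node Tr.leaf 248871 7
 Tr.leaf) 248895 7
 Tr.leaf)) 248897 7
 (Tr.node (Tr.node (Tr.node Tr.leaf 248899 6
 Tr.leaf) 248903 5
 Tr.leaf) 248923 7
 (Tr.node (Tr.node Tr.leaf 248927 8
 Tr.leaf) 248929 6
 Tr.leaf))) 248935 6
 (Tr.node (Tr.node (Tr.node (Tr.node Tr.leaf 248957 7
 Tr.leaf) 248959 7
 Tr.leaf) 248963 7
 (Tr.node (Tr.node Tr.leaf 248967 7
 Tr.leaf) 248985 8
 Tr.leaf)) 248987 7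
 (Tr.node (Tr.node (Tr.node Tr.leaf 248989 7
 Tr.leaf) 248995 6
 Tr.leaf) 248997 6
 (Tr.node Tr.leaf 248999 7
 Tr.leaf))))) 249017 7
 (Tr.node (Tr.node (Tr.node (Tr.node (Tr.node (Tr.node Tr.leaf 249019 7
 Tr.leaf) 249021 6
 Tr.leaf) 249023 7
 (Tr.node (Tr.node Tr.leaf 249025 7
 Tr.leaf) 249029 7
 Tr.leaf)) 249053 7
 (Tr.node (Tr.node (Tr.node Tr.leaf 249057 6
 Tr.leaf) 249059 7
 Tr.leaf) 249061 6
 (Tr.node (Tr.node Tr.leaf 249085 7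
 Tr.leaf) 249087 7
 Tr.leaf))) 249089 7
 (Tr.node (Tr.node (Tr.node (Tr.node Tr.leaf 249093 7
 Tr.leaf) 249113 7
 Tr.leaf) 249115 7
 (Tr.node (Tr.node Tr.leaf 249125 7
 Tr.leaf) 249145 7
 Tr.leaf)) 249149 6
 (Tr.node (Tr.node (Tr.node Tr.leaf 249151 7
 Tr.leaf) 249157 6
 Tr.leaf) 249177 7
 (Tr.node Tr.leaf 249181 7
 Tr.leaf)))) 249191 6
 (Tr.node (Tr.node (Tr.node (Tr.node (Tr.node Tr.leaf 249215 7
 Tr.leaf) 249219 7
 Tr.leaf) 249223 6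
 (Tr.node (Tr.node Tr.leaf 249245 6
 Tr.leaf) 249249 5
 Tr.leaf)) 249251 7
 (Tr.node (Tr.node (Tr.node Tr.leaf 249253 6
 Tr.leaf) 249255 7
 Tr.leaf) 249277 8
 (Tr.node Tr.leaf 249279 7
 Tr.leaf))) 249281 7
 (Tr.node (Tr.node (Tr.node (Tr.node Tr.leaf 249285 7
 Tr.leaf) 249287 7
 Tr.leaf) 249305 7
 (Tr.node (Tr.node Tr.leaf 249313 6
 Tr.leaf) 249317 7
 Tr.leaf)) 249319 5
 (Tr.node (Tr.node (Tr.node Tr.leaf 249343 7
 Tr.leaf) 249859 6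
 Tr.leaf) 249862 6
 (Tr.node Tr.leaf 249867 6
 Tr.leaf))))))))

/-- A subtree. -/
def tr1_s61 : Tr := (Tr.node (Tr.node (Tr.node (Tr.node (Tr.node (Tr.node (Tr.node (Tr.node (Tr.node Tr.leaf 249882 6
 Tr.leaf) 249884 6
 Tr.leaf) 249893 7
 (Tr.node (Tr.node Tr.leaf 249899 5
 Tr.leaf) 249901 5
 Tr.leaf)) 249905 7
 (Tr.node (Tr.node (Tr.node Tr.leaf 249906 5
 Tr.leaf) 249913 7
 Tr.leaf) 249914 7
 (Tr.node (Tr.node Tr.leaf 249916 7
 Tr.leaf) 249919 7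
 Tr.leaf))) 249923 7
 (Tr.node (Tr.node (Tr.node (Tr.node Tr.leaf 249925 6
 Tr.leaf) 249926 5
 Tr.leaf) 249943 8
 (Tr.node (Tr.node Tr.leaf 249948 6
 Tr.leaf) 249955 7
 Tr.leaf)) 249957 7
 (Tr.node (Tr.node (Tr.node Tr.leaf 249958 6
 Tr.leaf) 249963 6
 Tr.leaf) 249965 6
 (Tr.node Tr.leaf 249966 7
 Tr.leaf)))) 249969 7
 (Tr.node (Tr.node (Tr.node (Tr.node (Tr.node Tr.leaf 249970 7
 Tr.leaf) 249972 7
 Tr.leaf) 249980 6
 (Tr.node (Tr.node Tr.leaf 249983 7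
 Tr.leaf) 249987 6
 Tr.leaf)) 249989 6
 (Tr.node (Tr.node (Tr.node Tr.leaf 249995 7
 Tr.leaf) 250001 7
 Tr.leaf) 250002 7
 (Tr.node (Tr.node Tr.leaf 250004 7
 Tr.leaf) 250007 7
 Tr.leaf))) 250009 7
 (Tr.node (Tr.node (Tr.node (Tr.node Tr.leaf 250010 6
 Tr.leaf) 250021 7
 Tr.leaf) 250022 6
 (Tr.node (Tr.node Tr.leaf 250027 7
 Tr.leaf) 250030 6
 Tr.leaf)) 250036 6
 (Tr.node (Tr.node (Tr.node Tr.leaf 250047 7
 Tr.leaf) 250059 7
 Tr.leaf) 250061 6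
 (Tr.node Tr.leaf 250062 7
 Tr.leaf))))) 250065 7
 (Tr.node (Tr.node (Tr.node (Tr.node (Tr.node (Tr.node Tr.leaf 250073 7
 Tr.leaf) 250074 7
 Tr.leaf) 250076 7
 (Tr.node (Tr.node Tr.leaf 250085 7
 Tr.leaf) 250093 6
 Tr.leaf)) 250094 5
 (Tr.node (Tr.node (Tr.node Tr.leaf 250097 6
 Tr.leaf) 250098 6
 Tr.leaf) 250100 6
 (Tr.node (Tr.node Tr.leaf 250103 7
 Tr.leaf) 250105 6
 Tr.leaf))) 250106 6
 (Tr.node (Tr.node (Tr.node (Tr.node Tr.leaf 250111 7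
 Tr.leaf) 250118 6
 Tr.leaf) 250129 6
 (Tr.node (Tr.node Tr.leaf 250130 6
 Tr.leaf) 250137 6
 Tr.leaf)) 250138 6
 (Tr.node (Tr.node (Tr.node Tr.leaf 250140 6
 Tr.leaf) 250143 7
 Tr.leaf) 250149 6
 (Tr.node Tr.leaf 250155 7
 Tr.leaf)))) 250169 7
 (Tr.node (Tr.node (Tr.node (Tr.node (Tr.node Tr.leaf 250170 7
 Tr.leaf) 250172 7
 Tr.leaf) 250181 6
 (Tr.node (Tr.node Tr.leaf 250182 6
 Tr.leaf) 250187 6
 Tr.leaf)) 250190 5
 (Tr.node (Tr.node (Tr.node Tr.leaf 250199 7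
 Tr.leaf) 250204 6
 Tr.leaf) 250207 8
 (Tr.node Tr.leaf 250213 7
 Tr.leaf))) 250219 6
 (Tr.node (Tr.node (Tr.node (Tr.node Tr.leaf 250222 7
 Tr.leaf) 250226 6
 Tr.leaf) 250231 7
 (Tr.node (Tr.node Tr.leaf 250245 7
 Tr.leaf) 250254 6
 Tr.leaf)) 250258 7
 (Tr.node (Tr.node (Tr.node Tr.leaf 250260 6
 Tr.leaf) 250277 7
 Tr.leaf) 250278 7
 (Tr.node Tr.leaf 250286 5
 Tr.leaf)))))) 250289 7
 (Tr.node (Tr.node (Tr.node (Tr.node (Tr.node (Tr.node (Tr.node Tr.leaf 250290 7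
 Tr.leaf) 250292 6
 Tr.leaf) 250297 7
 (Tr.node (Tr.node Tr.leaf 250298 7
 Tr.leaf) 250300 7
 Tr.leaf)) 250303 7
 (Tr.node (Tr.node (Tr.node Tr.leaf 250307 5
 Tr.leaf) 250309 5
 Tr.leaf) 250318 6
 (Tr.node (Tr.node Tr.leaf 250327 7
 Tr.leaf) 250329 7
 Tr.leaf))) 250330 6
 (Tr.node (Tr.node (Tr.node (Tr.node Tr.leaf 250332 7
 Tr.leaf) 250335 7
 Tr.leaf) 250339 7
 (Tr.node (Tr.node Tr.leaf 250342 5
 Tr.leaf) 250349 7
 Tr.leaf)) 250354 5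
 (Tr.node (Tr.node (Tr.node Tr.leaf 250356 5
 Tr.leaf) 250359 7
 Tr.leaf) 250361 7
 (Tr.node Tr.leaf 250364 7
 Tr.leaf)))) 250367 8
 (Tr.node (Tr.node (Tr.node (Tr.node (Tr.node Tr.leaf 250881 5
 Tr.leaf) 250883 7
 Tr.leaf) 250903 7
 (Tr.node (Tr.node Tr.leaf 250909 8
 Tr.leaf) 250913 7
 Tr.leaf)) 250915 7
 (Tr.node (Tr.node (Tr.node Tr.leaf 250941 7
 Tr.leaf) 250943 6
 Tr.leaf) 250945 7
 (Tr.node (Tr.node Tr.leaf 250955 5
 Tr.leaf) 250967 7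
 Tr.leaf))) 250973 7
 (Tr.node (Tr.node (Tr.node (Tr.node Tr.leaf 250977 7
 Tr.leaf) 250979 7
 Tr.leaf) 250985 6
 (Tr.node (Tr.node Tr.leaf 250987 6
 Tr.leaf) 250999 6
 Tr.leaf)) 251005 6
 (Tr.node (Tr.node (Tr.node Tr.leaf 251007 8
 Tr.leaf) 251017 7
 Tr.leaf) 251019 7
 (Tr.node Tr.leaf 251029 7
 Tr.leaf))))) 251031 7
 (Tr.node (Tr.node (Tr.node (Tr.node (Tr.node (Tr.node Tr.leaf 251037 7
 Tr.leaf) 251049 7
 Tr.leaf) 251051 6
 (Tr.node (Tr.node Tr.leaf 251081 6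
 Tr.leaf) 251083 7
 Tr.leaf)) 251101 7
 (Tr.node (Tr.node (Tr.node Tr.leaf 251105 7
 Tr.leaf) 251113 7
 Tr.leaf) 251115 7
 (Tr.node (Tr.node Tr.leaf 251125 7
 Tr.leaf) 251127 7
 Tr.leaf))) 251133 7
 (Tr.node (Tr.node (Tr.node (Tr.node Tr.leaf 251135 7
 Tr.leaf) 251137 7
 Tr.leaf) 251145 7
 (Tr.node (Tr.node Tr.leaf 251147 7
 Tr.leaf) 251159 7
 Tr.leaf)) 251167 7
 (Tr.node (Tr.node (Tr.node Tr.leaf 251171 6
 Tr.leaf) 251177 7
 Tr.leaf) 251179 7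
 (Tr.node Tr.leaf 251191 7
 Tr.leaf)))) 251197 7
 (Tr.node (Tr.node (Tr.node (Tr.node (Tr.node Tr.leaf 251201 6
 Tr.leaf) 251209 6
 Tr.leaf) 251211 6
 (Tr.node (Tr.node Tr.leaf 251241 6
 Tr.leaf) 251243 7
 Tr.leaf)) 251253 7
 (Tr.node (Tr.node (Tr.node Tr.leaf 251261 7
 Tr.leaf) 251265 6
 Tr.leaf) 251285 7
 (Tr.node Tr.leaf 251297 5
 Tr.leaf))) 251307 7
 (Tr.node (Tr.node (Tr.node (Tr.node Tr.leaf 251317 7
 Tr.leaf) 251337 7
 Tr.leaf) 251361 6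
 (Tr.node (Tr.node Tr.leaf 251363 6
 Tr.leaf) 251371 5
 Tr.leaf)) 251381 7
 (Tr.node (Tr.node (Tr.node Tr.leaf 251383 7
 Tr.leaf) 251389 7
 Tr.leaf) 251391 8
 (Tr.node Tr.leaf 251905 5
 Tr.leaf))))))) 251906 7
 (Tr.node (Tr.node (Tr.node (Tr.node (Tr.node (Tr.node (Tr.node (Tr.node Tr.leaf 251909 7
 Tr.leaf) 251910 5
 Tr.leaf) 251913 7
 (Tr.node (Tr.node Tr.leaf 251917 6
 Tr.leaf) 251918 5
 Tr.leaf)) 251923 8
 (Tr.node (Tr.node (Tr.node Tr.leaf 251927 7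
 Tr.leaf) 251935 8
 Tr.leaf) 251937 6
 (Tr.node (Tr.node Tr.leaf 251938 5
 Tr.leaf) 251949 7
 Tr.leaf))) 251950 7
 (Tr.node (Tr.node (Tr.node (Tr.node Tr.leaf 251955 7
 Tr.leaf) 251959 7
 Tr.leaf) 251967 6
 (Tr.node (Tr.node Tr.leaf 251970 5
 Tr.leaf) 251973 7
 Tr.leaf)) 251977 6
 (Tr.node (Tr.node (Tr.node Tr.leaf 251978 5
 Tr.leaf) 251981 5
 Tr.leaf) 252006 5
 (Tr.node Tr.leaf 252014 6
 Tr.leaf)))) 252031 7
 (Tr.node (Tr.node (Tr.node (Tr.node (Tr.node Tr.leaf 252033 7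
 Tr.leaf) 252034 6
 Tr.leaf) 252037 6
 (Tr.node (Tr.node Tr.leaf 252041 7
 Tr.leaf) 252042 6
 Tr.leaf)) 252046 7
 (Tr.node (Tr.node (Tr.node Tr.leaf 252063 6
 Tr.leaf) 252070 6
 Tr.leaf) 252073 6
 (Tr.node (Tr.node Tr.leaf 252077 7
 Tr.leaf) 252091 7
 Tr.leaf))) 252098 6
 (Tr.node (Tr.node (Tr.node (Tr.node Tr.leaf 252101 7
 Tr.leaf) 252102 7
 Tr.leaf) 252105 7
 (Tr.node (Tr.node Tr.leaf 252106 6
 Tr.leaf) 252110 7
 Tr.leaf)) 252123 7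
 (Tr.node (Tr.node (Tr.node Tr.leaf 252130 6
 Tr.leaf) 252134 7
 Tr.leaf) 252141 7
 (Tr.node Tr.leaf 252151 7
 Tr.leaf))))) 252155 7
 (Tr.node (Tr.node (Tr.node (Tr.node (Tr.node (Tr.node Tr.leaf 252159 7
 Tr.leaf) 252162 6
 Tr.leaf) 252165 7
 (Tr.node (Tr.node Tr.leaf 252169 6
 Tr.leaf) 252173 6
 Tr.leaf)) 252174 6
 (Tr.node (Tr.node (Tr.node Tr.leaf 252179 7
 Tr.leaf) 252183 7
 Tr.leaf) 252187 7
 (Tr.node (Tr.node Tr.leaf 252191 6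
 Tr.leaf) 252193 6
 Tr.leaf))) 252197 7
 (Tr.node (Tr.node (Tr.node (Tr.node Tr.leaf 252198 6
 Tr.leaf) 252205 7
 Tr.leaf) 252206 6
 (Tr.node (Tr.node Tr.leaf 252211 7
 Tr.leaf) 252215 7
 Tr.leaf)) 252219 7
 (Tr.node (Tr.node (Tr.node Tr.leaf 252225 7
 Tr.leaf) 252226 7
 Tr.leaf) 252229 6
 (Tr.node Tr.leaf 252230 7
 Tr.leaf)))) 252233 6
 (Tr.node (Tr.node (Tr.node (Tr.node (Tr.node Tr.leaf 252234 6
 Tr.leaf) 252247 7
 Tr.leaf) 252255 7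
 (Tr.node (Tr.node Tr.leaf 252262 5
 Tr.leaf) 252265 6
 Tr.leaf)) 252269 7
 (Tr.node (Tr.node (Tr.node Tr.leaf 252290 6
 Tr.leaf) 252293 7
 Tr.leaf) 252297 7
 (Tr.node Tr.leaf 252298 6
 Tr.leaf))) 252315 7
 (Tr.node (Tr.node (Tr.node (Tr.node Tr.leaf 252319 7
 Tr.leaf) 252321 5
 Tr.leaf) 252322 6
 (Tr.node (Tr.node Tr.leaf 252326 5
 Tr.leaf) 252333 7
 Tr.leaf)) 252334 4
 (Tr.node (Tr.node (Tr.node Tr.leaf 252339 7
 Tr.leaf) 252357 7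
 Tr.leaf) 252358 6
 (Tr.node Tr.leaf 252361 7
 Tr.leaf)))))) 252366 6
 (Tr.node (Tr.node (Tr.node (Tr.node (Tr.node (Tr.node (Tr.node Tr.leaf 252375 7
 Tr.leaf) 252383 8
 Tr.leaf) 252385 6
 (Tr.node (Tr.node Tr.leaf 252386 5
 Tr.leaf) 252393 7
 Tr.leaf)) 252394 5
 (Tr.node (Tr.node (Tr.node Tr.leaf 252397 5
 Tr.leaf) 252403 7
 Tr.leaf) 252407 7
 (Tr.node (Tr.node Tr.leaf 252947 7
 Tr.leaf) 252977 7
 Tr.leaf))) 252981 7
 (Tr.node (Tr.node (Tr.node (Tr.node Tr.leaf 253011 7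
 Tr.leaf) 253013 8
 Tr.leaf) 253015 8
 (Tr.node (Tr.node Tr.leaf 253017 7
 Tr.leaf) 253019 8
 Tr.leaf)) 253023 7
 (Tr.node (Tr.node (Tr.node Tr.leaf 253041 7
 Tr.leaf) 253043 8
 Tr.leaf) 253047 7
 (Tr.node Tr.leaf 253049 7
 Tr.leaf)))) 253051 8
 (Tr.node (Tr.node (Tr.node (Tr.node (Tr.node Tr.leaf 253053 7
 Tr.leaf) 253055 7
 Tr.leaf) 253075 7
 (Tr.node (Tr.node Tr.leaf 253081 7
 Tr.leaf) 253085 7
 Tr.leaf)) 253109 7
 (Tr.node (Tr.node (Tr.node Tr.leaf 253111 7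
 Tr.leaf) 253117 7
 Tr.leaf) 253119 8
 (Tr.node Tr.leaf 253137 8
 Tr.leaf))) 253139 7
 (Tr.node (Tr.node (Tr.node (Tr.node Tr.leaf 253141 7
 Tr.leaf) 253143 7
 Tr.leaf) 253171 7
 (Tr.node (Tr.node Tr.leaf 253173 7
 Tr.leaf) 253175 7
 Tr.leaf)) 253179 8
 (Tr.node (Tr.node (Tr.node Tr.leaf 253183 7
 Tr.leaf) 253201 7
 Tr.leaf) 253203 7
 (Tr.node Tr.leaf 253205 8
 Tr.leaf))))) 253207 8
 (Tr.node (Tr.node (Tr.node (Tr.node (Tr.node (Tr.node Tr.leaf 253211 7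
 Tr.leaf) 253213 7
 Tr.leaf) 253215 8
 (Tr.node (Tr.node Tr.leaf 253233 7
 Tr.leaf) 253235 7
 Tr.leaf)) 253241 7
 (Tr.node (Tr.node (Tr.node Tr.leaf 253247 7
 Tr.leaf) 253265 8
 Tr.leaf) 253267 7
 (Tr.node (Tr.node Tr.leaf 253297 8
 Tr.leaf) 253299 8
 Tr.leaf))) 253305 7
 (Tr.node (Tr.node (Tr.node (Tr.node Tr.leaf 253307 7
 Tr.leaf) 253311 7
 Tr.leaf) 253331 7
 (Tr.node (Tr.node Tr.leaf 253339 7
 Tr.leaf) 253341 7
 Tr.leaf)) 253361 7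
 (Tr.node (Tr.node (Tr.node Tr.leaf 253363 8
 Tr.leaf) 253371 8
 Tr.leaf) 253395 7
 (Tr.node Tr.leaf 253399 7
 Tr.leaf)))) 253403 8
 (Tr.node (Tr.node (Tr.node (Tr.node (Tr.node Tr.leaf 253405 7
 Tr.leaf) 253425 8
 Tr.leaf) 253427 7
 (Tr.node (Tr.node Tr.leaf 253431 7
 Tr.leaf) 253433 8
 Tr.leaf)) 253955 7
 (Tr.node (Tr.node (Tr.node Tr.leaf 253962 6
 Tr.leaf) 253964 6
 Tr.leaf) 253971 7
 (Tr.node Tr.leaf 253977 7
 Tr.leaf))) 253980 5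
 (Tr.node (Tr.node (Tr.node (Tr.node Tr.leaf 253987 6
 Tr.leaf) 253989 7
 Tr.leaf) 253990 7
 (Tr.node (Tr.node Tr.leaf 253993 7
 Tr.leaf) 253994 6
 Tr.leaf)) 253996 7
 (Tr.node (Tr.node (Tr.node Tr.leaf 253999 7
 Tr.leaf) 254009 6
 Tr.leaf) 254010 6
 (Tr.node Tr.leaf 254012 6
 Tr.leaf))))))))

/-- A subtree. -/
def tr1_s62 : Tr := (Tr.node (Tr.node (Tr.node (Tr.node (Tr.node (Tr.node (Tr.node (Tr.node (Tr.node Tr.leaf 254021 6
 Tr.leaf) 254025 6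
 Tr.leaf) 254026 6
 (Tr.node (Tr.node Tr.leaf 254028 6
 Tr.leaf) 254031 8
 Tr.leaf)) 254038 6
 (Tr.node (Tr.node (Tr.node Tr.leaf 254041 7
 Tr.leaf) 254042 7
 Tr.leaf) 254053 7
 (Tr.node (Tr.node Tr.leaf 254054 6
 Tr.leaf) 254067 6
 Tr.leaf))) 254085 6
 (Tr.node (Tr.node (Tr.node (Tr.node Tr.leaf 254090 6
 Tr.leaf) 254099 7
 Tr.leaf) 254101 7
 (Tr.node (Tr.node Tr.leaf 254102 6
 Tr.leaf) 254105 6
 Tr.leaf)) 254106 6
 (Tr.node (Tr.node (Tr.node Tr.leaf 254111 7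
 Tr.leaf) 254118 6
 Tr.leaf) 254121 7
 (Tr.node Tr.leaf 254122 7
 Tr.leaf)))) 254124 7
 (Tr.node (Tr.node (Tr.node (Tr.node (Tr.node Tr.leaf 254131 7
 Tr.leaf) 254134 7
 Tr.leaf) 254138 7
 (Tr.node (Tr.node Tr.leaf 254140 6
 Tr.leaf) 254149 7
 Tr.leaf)) 254150 7
 (Tr.node (Tr.node (Tr.node Tr.leaf 254154 6
 Tr.leaf) 254156 7
 Tr.leaf) 254163 7
 (Tr.node (Tr.node Tr.leaf 254165 7
 Tr.leaf) 254166 6
 Tr.leaf))) 254169 6
 (Tr.node (Tr.node (Tr.node (Tr.node Tr.leaf 254172 6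
 Tr.leaf) 254175 7
 Tr.leaf) 254182 6
 (Tr.node (Tr.node Tr.leaf 254185 7
 Tr.leaf) 254186 7
 Tr.leaf)) 254188 7
 (Tr.node (Tr.node (Tr.node Tr.leaf 254195 6
 Tr.leaf) 254204 6
 Tr.leaf) 254213 7
 (Tr.node Tr.leaf 254217 7
 Tr.leaf))))) 254218 6
 (Tr.node (Tr.node (Tr.node (Tr.node (Tr.node (Tr.node Tr.leaf 254220 6
 Tr.leaf) 254223 8
 Tr.leaf) 254227 6
 (Tr.node (Tr.node Tr.leaf 254230 5
 Tr.leaf) 254239 7
 Tr.leaf)) 254245 6
 (Tr.node (Tr.node (Tr.node Tr.leaf 254246 6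
 Tr.leaf) 254249 6
 Tr.leaf) 254252 6
 (Tr.node (Tr.node Tr.leaf 254259 6
 Tr.leaf) 254261 6
 Tr.leaf))) 254266 6
 (Tr.node (Tr.node (Tr.node (Tr.node Tr.leaf 254271 7
 Tr.leaf) 254275 6
 Tr.leaf) 254277 6
 (Tr.node (Tr.node Tr.leaf 254284 5
 Tr.leaf) 254287 7
 Tr.leaf)) 254293 6
 (Tr.node (Tr.node (Tr.node Tr.leaf 254294 5
 Tr.leaf) 254303 7
 Tr.leaf) 254307 6
 (Tr.node Tr.leaf 254310 6
 Tr.leaf)))) 254313 6
 (Tr.node (Tr.node (Tr.node (Tr.node (Tr.node Tr.leaf 254314 6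
 Tr.leaf) 254323 7
 Tr.leaf) 254329 7
 (Tr.node (Tr.node Tr.leaf 254330 6
 Tr.leaf) 254332 6
 Tr.leaf)) 254335 7
 (Tr.node (Tr.node (Tr.node Tr.leaf 254341 6
 Tr.leaf) 254358 6
 Tr.leaf) 254361 7
 (Tr.node Tr.leaf 254364 7
 Tr.leaf))) 254371 7
 (Tr.node (Tr.node (Tr.node (Tr.node Tr.leaf 254374 6
 Tr.leaf) 254387 6
 Tr.leaf) 254393 6
 (Tr.node (Tr.node Tr.leaf 254394 6
 Tr.leaf) 254396 6
 Tr.leaf)) 254399 8
 (Tr.node (Tr.node (Tr.node Tr.leaf 254409 6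
 Tr.leaf) 254410 6
 Tr.leaf) 254412 6
 (Tr.node Tr.leaf 254415 8
 Tr.leaf)))))) 254421 7
 (Tr.node (Tr.node (Tr.node (Tr.node (Tr.node (Tr.node (Tr.node Tr.leaf 254425 7
 Tr.leaf) 254426 5
 Tr.leaf) 254435 7
 (Tr.node (Tr.node Tr.leaf 254437 6
 Tr.leaf) 254438 7
 Tr.leaf)) 254441 7
 (Tr.node (Tr.node (Tr.node Tr.leaf 254442 7
 Tr.leaf) 254444 6
 Tr.leaf) 254447 7
 (Tr.node (Tr.node Tr.leaf 254453 7
 Tr.leaf) 254458 6
 Tr.leaf))) 254460 6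
 (Tr.node (Tr.node (Tr.node (Tr.node Tr.leaf 254977 7
 Tr.leaf) 254993 7
 Tr.leaf) 255005 8
 (Tr.node (Tr.node Tr.leaf 255007 8
 Tr.leaf) 255009 7
 Tr.leaf)) 255011 7
 (Tr.node (Tr.node (Tr.node Tr.leaf 255027 6
 Tr.leaf) 255037 7
 Tr.leaf) 255039 7
 (Tr.node Tr.leaf 255041 6
 Tr.leaf)))) 255053 7
 (Tr.node (Tr.node (Tr.node (Tr.node (Tr.node Tr.leaf 255055 7
 Tr.leaf) 255057 7
 Tr.leaf) 255075 7
 (Tr.node (Tr.node Tr.leaf 255087 8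
 Tr.leaf) 255089 7
 Tr.leaf)) 255101 8
 (Tr.node (Tr.node (Tr.node Tr.leaf 255103 7
 Tr.leaf) 255105 7
 Tr.leaf) 255117 8
 (Tr.node (Tr.node Tr.leaf 255119 8
 Tr.leaf) 255123 6
 Tr.leaf))) 255133 7
 (Tr.node (Tr.node (Tr.node (Tr.node Tr.leaf 255135 7
 Tr.leaf) 255137 7
 Tr.leaf) 255139 7
 (Tr.node (Tr.node Tr.leaf 255149 8
 Tr.leaf) 255151 7
 Tr.leaf)) 255167 8
 (Tr.node (Tr.node (Tr.node Tr.leaf 255171 7
 Tr.leaf) 255185 7
 Tr.leaf) 255197 8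
 (Tr.node Tr.leaf 255199 7
 Tr.leaf))))) 255203 7
 (Tr.node (Tr.node (Tr.node (Tr.node (Tr.node (Tr.node Tr.leaf 255217 7
 Tr.leaf) 255219 7
 Tr.leaf) 255231 7
 (Tr.node (Tr.node Tr.leaf 255235 7
 Tr.leaf) 255249 7
 Tr.leaf)) 255251 7
 (Tr.node (Tr.node (Tr.node Tr.leaf 255263 7
 Tr.leaf) 255265 6
 Tr.leaf) 255267 7
 (Tr.node (Tr.node Tr.leaf 255277 7
 Tr.leaf) 255279 7
 Tr.leaf))) 255281 7
 (Tr.node (Tr.node (Tr.node (Tr.node Tr.leaf 255295 8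
 Tr.leaf) 255299 6
 Tr.leaf) 255309 8
 (Tr.node (Tr.node Tr.leaf 255311 7
 Tr.leaf) 255315 7
 Tr.leaf)) 255327 8
 (Tr.node (Tr.node (Tr.node Tr.leaf 255331 7
 Tr.leaf) 255343 7
 Tr.leaf) 255347 7
 (Tr.node Tr.leaf 255359 8
 Tr.leaf)))) 255361 7
 (Tr.node (Tr.node (Tr.node (Tr.node (Tr.node Tr.leaf 255363 7
 Tr.leaf) 255373 7
 Tr.leaf) 255375 7
 (Tr.node (Tr.node Tr.leaf 255377 7
 Tr.leaf) 255379 7
 Tr.leaf)) 255389 8
 (Tr.node (Tr.node (Tr.node Tr.leaf 255393 6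
 Tr.leaf) 255395 7
 Tr.leaf) 255405 7
 (Tr.node Tr.leaf 255421 7
 Tr.leaf))) 255427 6
 (Tr.node (Tr.node (Tr.node (Tr.node Tr.leaf 255439 7
 Tr.leaf) 255443 7
 Tr.leaf) 255469 8
 (Tr.node (Tr.node Tr.leaf 255473 6
 Tr.leaf) 255475 7
 Tr.leaf)) 255485 7
 (Tr.node (Tr.node (Tr.node Tr.leaf 256001 7
 Tr.leaf) 256002 5
 Tr.leaf) 256005 6
 (Tr.node Tr.leaf 256015 7
 Tr.leaf))))))) 256017 7
 (Tr.node (Tr.node (Tr.node (Tr.node (Tr.node (Tr.node (Tr.node (Tr.node Tr.leaf 256018 6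
 Tr.leaf) 256038 5
 Tr.leaf) 256047 8
 (Tr.node (Tr.node Tr.leaf 256049 6
 Tr.leaf) 256050 6
 Tr.leaf)) 256054 6
 (Tr.node (Tr.node (Tr.node Tr.leaf 256059 7
 Tr.leaf) 256070 6
 Tr.leaf) 256079 7
 (Tr.node (Tr.node Tr.leaf 256081 7
 Tr.leaf) 256082 6
 Tr.leaf))) 256085 7
 (Tr.node (Tr.node (Tr.node (Tr.node Tr.leaf 256095 8
 Tr.leaf) 256097 7
 Tr.leaf) 256098 7
 (Tr.node (Tr.node Tr.leaf 256101 6
 Tr.leaf) 256102 5
 Tr.leaf)) 256111 7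
 (Tr.node (Tr.node (Tr.node Tr.leaf 256113 7
 Tr.leaf) 256114 6
 Tr.leaf) 256117 7
 (Tr.node Tr.leaf 256123 7
 Tr.leaf)))) 256127 7
 (Tr.node (Tr.node (Tr.node (Tr.node (Tr.node Tr.leaf 256129 7
 Tr.leaf) 256130 5
 Tr.leaf) 256133 7
 (Tr.node (Tr.node Tr.leaf 256134 6
 Tr.leaf) 256139 8
 Tr.leaf)) 256146 6
 (Tr.node (Tr.node (Tr.node Tr.leaf 256149 7
 Tr.leaf) 256155 7
 Tr.leaf) 256159 8
 (Tr.node (Tr.node Tr.leaf 256161 7
 Tr.leaf) 256166 6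
 Tr.leaf))) 256177 7
 (Tr.node (Tr.node (Tr.node (Tr.node Tr.leaf 256182 7
 Tr.leaf) 256194 5
 Tr.leaf) 256198 6
 (Tr.node (Tr.node Tr.leaf 256203 8
 Tr.leaf) 256209 6
 Tr.leaf)) 256219 7
 (Tr.node (Tr.node (Tr.node Tr.leaf 256223 7
 Tr.leaf) 256225 7
 Tr.leaf) 256229 7
 (Tr.node Tr.leaf 256235 7
 Tr.leaf))))) 256239 8
 (Tr.node (Tr.node (Tr.node (Tr.node (Tr.node (Tr.node Tr.leaf 256242 6
 Tr.leaf) 256245 7
 Tr.leaf) 256246 6
 (Tr.node (Tr.node Tr.leaf 256251 8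
 Tr.leaf) 256255 8
 Tr.leaf)) 256257 7
 (Tr.node (Tr.node (Tr.node Tr.leaf 256262 6
 Tr.leaf) 256267 8
 Tr.leaf) 256273 7
 (Tr.node (Tr.node Tr.leaf 256274 7
 Tr.leaf) 256283 8
 Tr.leaf))) 256289 7
 (Tr.node (Tr.node (Tr.node (Tr.node Tr.leaf 256299 7
 Tr.leaf) 256305 6
 Tr.leaf) 256306 6
 (Tr.node (Tr.node Tr.leaf 256310 6
 Tr.leaf) 256315 7
 Tr.leaf)) 256319 8
 (Tr.node (Tr.node (Tr.node Tr.leaf 256325 7
 Tr.leaf) 256326 6
 Tr.leaf) 256331 8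
 (Tr.node Tr.leaf 256337 7
 Tr.leaf)))) 256338 6
 (Tr.node (Tr.node (Tr.node (Tr.node (Tr.node Tr.leaf 256341 7
 Tr.leaf) 256342 6
 Tr.leaf) 256347 7
 (Tr.node (Tr.node Tr.leaf 256353 7
 Tr.leaf) 256357 6
 Tr.leaf)) 256358 6
 (Tr.node (Tr.node (Tr.node Tr.leaf 256363 7
 Tr.leaf) 256367 7
 Tr.leaf) 256369 7
 (Tr.node Tr.leaf 256374 6
 Tr.leaf))) 256389 7
 (Tr.node (Tr.node (Tr.node (Tr.node Tr.leaf 256390 6
 Tr.leaf) 256395 7
 Tr.leaf) 256399 8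
 (Tr.node (Tr.node Tr.leaf 256402 6
 Tr.leaf) 256405 7
 Tr.leaf)) 256417 7
 (Tr.node (Tr.node (Tr.node Tr.leaf 256418 7
 Tr.leaf) 256422 5
 Tr.leaf) 256427 8
 (Tr.node Tr.leaf 256434 6
 Tr.leaf)))))) 256437 6
 (Tr.node (Tr.node (Tr.node (Tr.node (Tr.node (Tr.node (Tr.node Tr.leaf 256443 7
 Tr.leaf) 256447 7
 Tr.leaf) 256449 6
 (Tr.node (Tr.node Tr.leaf 256450 6
 Tr.leaf) 256454 6
 Tr.leaf)) 256459 7
 (Tr.node (Tr.node (Tr.node Tr.leaf 256463 7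
 Tr.leaf) 256466 6
 Tr.leaf) 256469 7
 (Tr.node (Tr.node Tr.leaf 256475 8
 Tr.leaf) 256479 7
 Tr.leaf))) 256481 7
 (Tr.node (Tr.node (Tr.node (Tr.node Tr.leaf 256482 7
 Tr.leaf) 256485 7
 Tr.leaf) 256501 7
 (Tr.node (Tr.node Tr.leaf 256502 6
 Tr.leaf) 257037 7
 Tr.leaf)) 257053 7
 (Tr.node (Tr.node (Tr.node Tr.leaf 257055 8
 Tr.leaf) 257067 8
 Tr.leaf) 257069 7
 (Tr.node Tr.leaf 257081 8
 Tr.leaf)))) 257083 7
 (Tr.node (Tr.node (Tr.node (Tr.node (Tr.node Tr.leaf 257087 7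
 Tr.leaf) 257097 7
 Tr.leaf) 257101 7
 (Tr.node (Tr.node Tr.leaf 257103 7
 Tr.leaf) 257113 8
 Tr.leaf)) 257129 8
 (Tr.node (Tr.node (Tr.node Tr.leaf 257133 8
 Tr.leaf) 257135 8
 Tr.leaf) 257163 7
 (Tr.node Tr.leaf 257179 7
 Tr.leaf))) 257183 7
 (Tr.node (Tr.node (Tr.node (Tr.node Tr.leaf 257193 8
 Tr.leaf) 257197 7
 Tr.leaf) 257213 7
 (Tr.node (Tr.node Tr.leaf 257229 7
 Tr.leaf) 257241 7
 Tr.leaf)) 257243 7
 (Tr.node (Tr.node (Tr.node Tr.leaf 257261 7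
 Tr.leaf) 257263 7
 Tr.leaf) 257275 7
 (Tr.node Tr.leaf 257289 7
 Tr.leaf))))) 257291 7
 (Tr.node (Tr.node (Tr.node (Tr.node (Tr.node (Tr.node Tr.leaf 257311 8
 Tr.leaf) 257321 7
 Tr.leaf) 257323 7
 (Tr.node (Tr.node Tr.leaf 257325 8
 Tr.leaf) 257327 7
 Tr.leaf)) 257337 8
 (Tr.node (Tr.node (Tr.node Tr.leaf 257339 7
 Tr.leaf) 257341 7
 Tr.leaf) 257343 7
 (Tr.node (Tr.node Tr.leaf 257353 7
 Tr.leaf) 257355 7
 Tr.leaf))) 257357 7
 (Tr.node (Tr.node (Tr.node (Tr.node Tr.leaf 257359 8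
 Tr.leaf) 257369 7
 Tr.leaf) 257385 7
 (Tr.node (Tr.node Tr.leaf 257387 7
 Tr.leaf) 257389 8
 Tr.leaf)) 257391 7
 (Tr.node (Tr.node (Tr.node Tr.leaf 257403 7
 Tr.leaf) 257407 7
 Tr.leaf) 257439 8
 (Tr.node Tr.leaf 257449 8
 Tr.leaf)))) 257453 8
 (Tr.node (Tr.node (Tr.node (Tr.node (Tr.node Tr.leaf 257455 8
 Tr.leaf) 257465 7
 Tr.leaf) 257469 7
 (Tr.node (Tr.node Tr.leaf 257471 7
 Tr.leaf) 257481 7
 Tr.leaf)) 257483 7
 (Tr.node (Tr.node (Tr.node Tr.leaf 257487 8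
 Tr.leaf) 257497 7
 Tr.leaf) 257501 7
 (Tr.node Tr.leaf 257515 8
 Tr.leaf))) 257517 7
 (Tr.node (Tr.node (Tr.node (Tr.node Tr.leaf 257533 7
 Tr.leaf) 258057 6
 Tr.leaf) 258063 7
 (Tr.node (Tr.node Tr.leaf 258065 7
 Tr.leaf) 258066 6
 Tr.leaf)) 258068 6
 (Tr.node (Tr.node (Tr.node Tr.leaf 258073 7
 Tr.leaf) 258074 7
 Tr.leaf) 258076 7
 (Tr.node Tr.leaf 258079 8
 Tr.leaf))))))))

/-- A subtree. -/
def tr1_s63 : Tr := (Tr.node (Tr.node (Tr.node (Tr.node (Tr.node (Tr.node (Tr.node (Tr.node (Tr.node Tr.leaf 258087 8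
 Tr.leaf) 258095 8
 Tr.leaf) 258097 6
 (Tr.node (Tr.node Tr.leaf 258098 6
 Tr.leaf) 258100 6
 Tr.leaf)) 258103 8
 (Tr.node (Tr.node (Tr.node Tr.leaf 258105 7
 Tr.leaf) 258111 8
 Tr.leaf) 258113 6
 (Tr.node (Tr.node Tr.leaf 258119 7
 Tr.leaf) 258121 7
 Tr.leaf))) 258129 7
 (Tr.node (Tr.node (Tr.node (Tr.node Tr.leaf 258130 6
 Tr.leaf) 258132 6
 Tr.leaf) 258135 7
 (Tr.node (Tr.node Tr.leaf 258137 7
 Tr.leaf) 258140 7
 Tr.leaf)) 258145 7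
 (Tr.node (Tr.node (Tr.node Tr.leaf 258146 6
 Tr.leaf) 258148 6
 Tr.leaf) 258159 7
 (Tr.node Tr.leaf 258169 6
 Tr.leaf)))) 258170 6
 (Tr.node (Tr.node (Tr.node (Tr.node (Tr.node Tr.leaf 258172 6
 Tr.leaf) 258175 8
 Tr.leaf) 258180 6
 (Tr.node (Tr.node Tr.leaf 258183 8
 Tr.leaf) 258185 7
 Tr.leaf)) 258186 6
 (Tr.node (Tr.node (Tr.node Tr.leaf 258188 6
 Tr.leaf) 258202 6
 Tr.leaf) 258204 6
 (Tr.node (Tr.node Tr.leaf 258209 7
 Tr.leaf) 258210 6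
 Tr.leaf))) 258212 6
 (Tr.node (Tr.node (Tr.node (Tr.node Tr.leaf 258215 8
 Tr.leaf) 258217 7
 Tr.leaf) 258220 6
 (Tr.node (Tr.node Tr.leaf 258231 7
 Tr.leaf) 258239 8
 Tr.leaf)) 258247 8
 (Tr.node (Tr.node (Tr.node Tr.leaf 258255 7
 Tr.leaf) 258258 6
 Tr.leaf) 258260 6
 (Tr.node Tr.leaf 258273 7
 Tr.leaf))))) 258274 6
 (Tr.node (Tr.node (Tr.node (Tr.node (Tr.node (Tr.node Tr.leaf 258281 7
 Tr.leaf) 258282 5
 Tr.leaf) 258284 5
 (Tr.node (Tr.node Tr.leaf 258287 8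
 Tr.leaf) 258289 7
 Tr.leaf)) 258290 6
 (Tr.node (Tr.node (Tr.node Tr.leaf 258292 6
 Tr.leaf) 258298 6
 Tr.leaf) 258303 8
 (Tr.node (Tr.node Tr.leaf 258305 7
 Tr.leaf) 258306 6
 Tr.leaf))) 258308 6
 (Tr.node (Tr.node (Tr.node (Tr.node Tr.leaf 258313 7
 Tr.leaf) 258314 6
 Tr.leaf) 258316 6
 (Tr.node (Tr.node Tr.leaf 258319 7
 Tr.leaf) 258321 7
 Tr.leaf)) 258322 6
 (Tr.node (Tr.node (Tr.node Tr.leaf 258324 6
 Tr.leaf) 258327 8
 Tr.leaf) 258330 6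
 (Tr.node Tr.leaf 258335 7
 Tr.leaf)))) 258346 6
 (Tr.node (Tr.node (Tr.node (Tr.node (Tr.node Tr.leaf 258348 6
 Tr.leaf) 258353 7
 Tr.leaf) 258356 7
 (Tr.node (Tr.node Tr.leaf 258361 7
 Tr.leaf) 258362 7
 Tr.leaf)) 258364 7
 (Tr.node (Tr.node (Tr.node Tr.leaf 258367 8
 Tr.leaf) 258369 7
 Tr.leaf) 258370 7
 (Tr.node Tr.leaf 258372 7
 Tr.leaf))) 258375 8
 (Tr.node (Tr.node (Tr.node (Tr.node Tr.leaf 258377 7
 Tr.leaf) 258378 7
 Tr.leaf) 258388 6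
 (Tr.node (Tr.node Tr.leaf 258391 7
 Tr.leaf) 258393 7
 Tr.leaf)) 258394 6
 (Tr.node (Tr.node (Tr.node Tr.leaf 258396 6
 Tr.leaf) 258399 8
 Tr.leaf) 258402 6
 (Tr.node Tr.leaf 258404 6
 Tr.leaf)))))) 258417 7
 (Tr.node (Tr.node (Tr.node (Tr.node (Tr.node (Tr.node (Tr.node Tr.leaf 258418 5
 Tr.leaf) 258420 5
 Tr.leaf) 258423 7
 (Tr.node (Tr.node Tr.leaf 258425 7
 Tr.leaf) 258426 6
 Tr.leaf)) 258428 6
 (Tr.node (Tr.node (Tr.node Tr.leaf 258433 6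
 Tr.leaf) 258434 6
 Tr.leaf) 258436 6
 (Tr.node (Tr.node Tr.leaf 258439 8
 Tr.leaf) 258449 7
 Tr.leaf))) 258450 7
 (Tr.node (Tr.node (Tr.node (Tr.node Tr.leaf 258457 7
 Tr.leaf) 258458 5
 Tr.leaf) 258460 5
 (Tr.node (Tr.node Tr.leaf 258463 7
 Tr.leaf) 258471 7
 Tr.leaf)) 258473 7
 (Tr.node (Tr.node (Tr.node Tr.leaf 258474 6
 Tr.leaf) 258476 6
 Tr.leaf) 258481 7
 (Tr.node Tr.leaf 258489 6
 Tr.leaf)))) 258495 7
 (Tr.node (Tr.node (Tr.node (Tr.node (Tr.node Tr.leaf 258497 7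
 Tr.leaf) 258503 8
 Tr.leaf) 258505 6
 (Tr.node (Tr.node Tr.leaf 258506 6
 Tr.leaf) 258508 6
 Tr.leaf)) 258511 8
 (Tr.node (Tr.node (Tr.node Tr.leaf 258513 7
 Tr.leaf) 258514 7
 Tr.leaf) 258516 7
 (Tr.node (Tr.node Tr.leaf 258519 8
 Tr.leaf) 258521 7
 Tr.leaf))) 258522 6
 (Tr.node (Tr.node (Tr.node (Tr.node Tr.leaf 258524 6
 Tr.leaf) 258535 8
 Tr.leaf) 258540 6
 (Tr.node (Tr.node Tr.leaf 258543 8
 Tr.leaf) 258545 6
 Tr.leaf)) 258551 7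
 (Tr.node (Tr.node (Tr.node Tr.leaf 259079 7
 Tr.leaf) 259101 7
 Tr.leaf) 259111 8
 (Tr.node Tr.leaf 259127 7
 Tr.leaf))))) 259133 7
 (Tr.node (Tr.node (Tr.node (Tr.node (Tr.node (Tr.node Tr.leaf 259135 7
 Tr.leaf) 259141 7
 Tr.leaf) 259143 7
 (Tr.node (Tr.node Tr.leaf 259151 7
 Tr.leaf) 259159 7
 Tr.leaf)) 259173 7
 (Tr.node (Tr.node (Tr.node Tr.leaf 259181 8
 Tr.leaf) 259197 7
 Tr.leaf) 259205 7
 (Tr.node (Tr.node Tr.leaf 259207 7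
 Tr.leaf) 259213 7
 Tr.leaf))) 259215 7
 (Tr.node (Tr.node (Tr.node (Tr.node Tr.leaf 259223 7
 Tr.leaf) 259231 7
 Tr.leaf) 259239 7
 (Tr.node (Tr.node Tr.leaf 259255 7
 Tr.leaf) 259271 7
 Tr.leaf)) 259279 8
 (Tr.node (Tr.node (Tr.node Tr.leaf 259295 8
 Tr.leaf) 259309 8
 Tr.leaf) 259319 7
 (Tr.node Tr.leaf 259325 8
 Tr.leaf)))) 259335 8
 (Tr.node (Tr.node (Tr.node (Tr.node (Tr.node Tr.leaf 259341 8
 Tr.leaf) 259349 8
 Tr.leaf) 259365 8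
 (Tr.node (Tr.node Tr.leaf 259373 7
 Tr.leaf) 259391 7
 Tr.leaf)) 259397 7
 (Tr.node (Tr.node (Tr.node Tr.leaf 259399 8
 Tr.leaf) 259407 8
 Tr.leaf) 259413 7
 (Tr.node Tr.leaf 259415 7
 Tr.leaf))) 259423 7
 (Tr.node (Tr.node (Tr.node (Tr.node Tr.leaf 259437 7
 Tr.leaf) 259445 7
 Tr.leaf) 259461 7
 (Tr.node (Tr.node Tr.leaf 259463 7
 Tr.leaf) 259469 7
 Tr.leaf)) 259471 7
 (Tr.node (Tr.node (Tr.node Tr.leaf 259477 8
 Tr.leaf) 259487 8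
 Tr.leaf) 259493 8
 (Tr.node Tr.leaf 259501 7
 Tr.leaf))))))) 259503 7
 (Tr.node (Tr.node (Tr.node (Tr.node (Tr.node (Tr.node (Tr.node (Tr.node Tr.leaf 259509 7
 Tr.leaf) 259525 8
 Tr.leaf) 259527 8
 (Tr.node (Tr.node Tr.leaf 259533 7
 Tr.leaf) 259535 7
 Tr.leaf)) 259541 8
 (Tr.node (Tr.node (Tr.node Tr.leaf 259543 7
 Tr.leaf) 259549 8
 Tr.leaf) 259557 7
 (Tr.node (Tr.node Tr.leaf 259565 7
 Tr.leaf) 259567 7
 Tr.leaf))) 259573 7
 (Tr.node (Tr.node (Tr.node (Tr.node Tr.leaf 259575 7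
 Tr.leaf) 259581 7
 Tr.leaf) 260103 7
 (Tr.node (Tr.node Tr.leaf 260107 7
 Tr.leaf) 260111 7
 Tr.leaf)) 260119 8
 (Tr.node (Tr.node (Tr.node Tr.leaf 260123 7
 Tr.leaf) 260127 8
 Tr.leaf) 260131 7
 (Tr.node Tr.leaf 260135 7
 Tr.leaf)))) 260143 7
 (Tr.node (Tr.node (Tr.node (Tr.node (Tr.node Tr.leaf 260147 7
 Tr.leaf) 260151 7
 Tr.leaf) 260155 8
 (Tr.node (Tr.node Tr.leaf 260159 8
 Tr.leaf) 260175 7
 Tr.leaf)) 260179 8
 (Tr.node (Tr.node (Tr.node Tr.leaf 260191 8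
 Tr.leaf) 260195 7
 Tr.leaf) 260199 7
 (Tr.node (Tr.node Tr.leaf 260207 8
 Tr.leaf) 260211 7
 Tr.leaf))) 260215 7
 (Tr.node (Tr.node (Tr.node (Tr.node Tr.leaf 260219 7
 Tr.leaf) 260223 7
 Tr.leaf) 260231 8
 (Tr.node (Tr.node Tr.leaf 260235 7
 Tr.leaf) 260243 8
 Tr.leaf)) 260263 7
 (Tr.node (Tr.node (Tr.node Tr.leaf 260275 8
 Tr.leaf) 260283 7
 Tr.leaf) 260299 8
 (Tr.node Tr.leaf 260307 7
 Tr.leaf))))) 260315 7
 (Tr.node (Tr.node (Tr.node (Tr.node (Tr.node (Tr.node Tr.leaf 260331 8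
 Tr.leaf) 260339 7
 Tr.leaf) 260343 7
 (Tr.node (Tr.node Tr.leaf 260347 7
 Tr.leaf) 260351 7
 Tr.leaf)) 260367 7
 (Tr.node (Tr.node (Tr.node Tr.leaf 260371 8
 Tr.leaf) 260379 7
 Tr.leaf) 260383 7
 (Tr.node (Tr.node Tr.leaf 260391 7
 Tr.leaf) 260403 8
 Tr.leaf))) 260411 8
 (Tr.node (Tr.node (Tr.node (Tr.node Tr.leaf 260415 7
 Tr.leaf) 260419 7
 Tr.leaf) 260447 7
 (Tr.node (Tr.node Tr.leaf 260455 7
 Tr.leaf) 260463 8
 Tr.leaf)) 260471 8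
 (Tr.node (Tr.node (Tr.node Tr.leaf 260475 8
 Tr.leaf) 260487 7
 Tr.leaf) 260507 7
 (Tr.node Tr.leaf 260519 7
 Tr.leaf)))) 260527 7
 (Tr.node (Tr.node (Tr.node (Tr.node (Tr.node Tr.leaf 260531 7
 Tr.leaf) 260539 7
 Tr.leaf) 260543 7
 (Tr.node (Tr.node Tr.leaf 260547 7
 Tr.leaf) 260551 7
 Tr.leaf)) 260555 7
 (Tr.node (Tr.node (Tr.node Tr.leaf 260567 7
 Tr.leaf) 260587 8
 Tr.leaf) 260603 7
 (Tr.node Tr.leaf 261123 8
 Tr.leaf))) 261125 8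
 (Tr.node (Tr.node (Tr.node (Tr.node Tr.leaf 261129 8
 Tr.leaf) 261131 7
 Tr.leaf) 261133 7
 (Tr.node (Tr.node Tr.leaf 261135 8
 Tr.leaf) 261137 8
 Tr.leaf)) 261153 8
 (Tr.node (Tr.node (Tr.node Tr.leaf 261163 7
 Tr.leaf) 261167 8
 Tr.leaf) 261169 7
 (Tr.node Tr.leaf 261171 7
 Tr.leaf)))))) 261175 7
 (Tr.node (Tr.node (Tr.node (Tr.node (Tr.node (Tr.node (Tr.node Tr.leaf 261185 8
 Tr.leaf) 261187 7
 Tr.leaf) 261189 7
 (Tr.node (Tr.node Tr.leaf 261191 8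
 Tr.leaf) 261195 8
 Tr.leaf)) 261197 8
 (Tr.node (Tr.node (Tr.node Tr.leaf 261199 8
 Tr.leaf) 261203 7
 Tr.leaf) 261211 8
 (Tr.node (Tr.node Tr.leaf 261213 8
 Tr.leaf) 261215 8
 Tr.leaf))) 261223 8
 (Tr.node (Tr.node (Tr.node (Tr.node Tr.leaf 261231 8
 Tr.leaf) 261241 7
 Tr.leaf) 261245 7
 (Tr.node (Tr.node Tr.leaf 261247 7
 Tr.leaf) 261249 8
 Tr.leaf)) 261263 8
 (Tr.node (Tr.node (Tr.node Tr.leaf 261265 7
 Tr.leaf) 261271 7
 Tr.leaf) 261279 7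
 (Tr.node Tr.leaf 261287 9
 Tr.leaf)))) 261291 7
 (Tr.node (Tr.node (Tr.node (Tr.node (Tr.node Tr.leaf 261293 7
 Tr.leaf) 261297 8
 Tr.leaf) 261305 7
 (Tr.node (Tr.node Tr.leaf 261309 7
 Tr.leaf) 261317 7
 Tr.leaf)) 261319 8
 (Tr.node (Tr.node (Tr.node Tr.leaf 261327 8
 Tr.leaf) 261329 7
 Tr.leaf) 261337 7
 (Tr.node Tr.leaf 261343 7
 Tr.leaf))) 261347 7
 (Tr.node (Tr.node (Tr.node (Tr.node Tr.leaf 261349 7
 Tr.leaf) 261353 8
 Tr.leaf) 261361 7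
 (Tr.node (Tr.node Tr.leaf 261375 8
 Tr.leaf) 261377 8
 Tr.leaf)) 261389 7
 (Tr.node (Tr.node (Tr.node Tr.leaf 261399 8
 Tr.leaf) 261403 7
 Tr.leaf) 261405 7
 (Tr.node Tr.leaf 261409 7
 Tr.leaf))))) 261415 7
 (Tr.node (Tr.node (Tr.node (Tr.node (Tr.node (Tr.node Tr.leaf 261417 7
 Tr.leaf) 261425 8
 Tr.leaf) 261427 7
 (Tr.node (Tr.node Tr.leaf 261429 7
 Tr.leaf) 261451 8
 Tr.leaf)) 261453 8
 (Tr.node (Tr.node (Tr.node Tr.leaf 261455 8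
 Tr.leaf) 261459 7
 Tr.leaf) 261461 7
 (Tr.node (Tr.node Tr.leaf 261465 9
 Tr.leaf) 261479 7
 Tr.leaf))) 261481 7
 (Tr.node (Tr.node (Tr.node (Tr.node Tr.leaf 261487 7
 Tr.leaf) 261493 7
 Tr.leaf) 261503 8
 (Tr.node (Tr.node Tr.leaf 261505 7
 Tr.leaf) 261509 7
 Tr.leaf)) 261511 7
 (Tr.node (Tr.node (Tr.node Tr.leaf 261521 8
 Tr.leaf) 261523 7
 Tr.leaf) 261525 7
 (Tr.node Tr.leaf 261531 7
 Tr.leaf)))) 261537 8
 (Tr.node (Tr.node (Tr.node (Tr.node (Tr.node Tr.leaf 261545 7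
 Tr.leaf) 261553 8
 Tr.leaf) 261555 8
 (Tr.node (Tr.node Tr.leaf 261557 8
 Tr.leaf) 261561 8
 Tr.leaf)) 261563 7
 (Tr.node (Tr.node (Tr.node Tr.leaf 261565 7
 Tr.leaf) 261567 8
 Tr.leaf) 261577 7
 (Tr.node Tr.leaf 261579 7
 Tr.leaf))) 261583 7
 (Tr.node (Tr.node (Tr.node (Tr.node Tr.leaf 261599 8
 Tr.leaf) 261601 7
 Tr.leaf) 261603 7
 (Tr.node (Tr.node Tr.leaf 261615 8
 Tr.leaf) 261617 8
 Tr.leaf)) 261619 7
 (Tr.node (Tr.node (Tr.node Tr.leaf 261621 7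
 Tr.leaf) 261623 8
 Tr.leaf) 261627 8
 (Tr.node Tr.leaf 261629 8
 Tr.leaf))))))))

/-- The search tree. -/
def tr1 : Tr := (Tr.node (Tr.node (Tr.node (Tr.node (Tr.node (Tr.node tr1_s0 3257 7 tr1_s1) 7399 6 (Tr.node tr1_s2 11487 6 tr1_s3)) 15555 7 (Tr.node (Tr.node tr1_s4 19611 6 tr1_s5) 23739 7 (Tr.node tr1_s6 27961 7 tr1_s7))) 32047 7 (Tr.node (Tr.node (Tr.node tr1_s8 36165 6 tr1_s9) 40221 7 (Tr.node tr1_s10 44381 7 tr1_s11)) 48551 7 (Tr.node (Tr.node tr1_s12 52567 7 tr1_s13) 56753 8 (Tr.node tr1_s14 60789 7 tr1_s15)))) 64931 8 (Tr.node (Tr.node (Tr.node (Tr.node tr1_s16 68793 6 tr1_s17) 72991 7 (Tr.node tr1_s18 77003 6 tr1_s19)) 81107 5 (Tr.node (Tr.node tr1_s20 85239 7 tr1_s21) 89355 6 (Tr.node tr1_s22 93427 6 tr1_s23))) 97423 6 (Tr.node (Tr.node (Tr.node tr1_s24 101401 7 tr1_s25) 105563 6 (Tr.node tr1_s26 109751 7 tr1_s27)) 113879 7 (Tr.node (Tr.node tr1_s28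 117941 6 tr1_s29) 122083 6 (Tr.node tr1_s30 126233 7 tr1_s31))))) 130489 8 (Tr.node (Tr.node (Tr.node (Tr.node (Tr.node tr1_s32 134459 7 tr1_s33) 138497 7 (Tr.node tr1_s34 142683 6 tr1_s35)) 146759 6 (Tr.node (Tr.node tr1_s36 150785 6 tr1_s37) 155013 7 (Tr.node tr1_s38 159039 7 tr1_s39))) 163057 7 (Tr.node (Tr.node (Tr.node tr1_s40 167079 6 tr1_s41) 171281 6 (Tr.node tr1_s42 175395 5 tr1_s43)) 179475 7 (Tr.node (Tr.node tr1_s44 183635 7 tr1_s45) 187745 6 (Tr.node tr1_s46 191827 6 tr1_s47)))) 196071 8 (Tr.node (Tr.node (Tr.node (Tr.node tr1_s48 200151 6 tr1_s49) 204199 6 (Tr.node tr1_s50 208255 7 tr1_s51)) 213001 6 (Tr.node (Tr.node tr1_s52 216491 7 tr1_s53) 221204 6 (Tr.node tr1_s54 225411 7 tr1_s55))) 229469 6 (Tr.node (Tr.node (Tr.node tr1_s56 233594 6 tr1_s57) 237645 7 (Tr.node tr1_s58 241708 5 tr1_s59)) 245840 6 (Tr.node (Tr.node tr1_s60 249870 5 tr1_s61)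 254015 8 (Tr.node tr1_s62 258082 6 tr1_s63))))))

/-- Rows 0 to 799. -/
def rows1_0 : List (ℕ × ℕ × ℕ × ℕ) := [(1, 0, 0, 0),
  (2, 1, 1, 19),
  (4, 1, 1, 20),
  (8, 1, 1, 21),
  (11, 3, 176, 26),
  (13, 3, 304, 25),
  (14, 2, 2, 38),
  (16, 1, 1, 22),
  (19, 3, 304, 26),
  (21, 3, 14, 19),
  (22, 4, 65584, 24),
  (25, 3, 400, 26),
  (26, 3, 416, 26),
  (28, 4, 34822, 23),
  (32, 1, 1, 23),
  (35, 3, 14, 20),
  (37, 3, 176, 25),
  (38, 4, 131376, 24),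
  (41, 3, 416, 25),
  (42, 4, 34822, 22),
  (44, 3, 400, 25),
  (49, 3, 70, 21),
  (50, 4, 196880, 24),
  (52, 4, 196896, 24),
  (64, 1, 1, 24),
  (67, 3, 400, 23),
  (69, 3, 416, 22),
  (70, 2, 2, 37),
  (74, 2, 2, 39),
  (76, 2, 2, 42),
  (81, 3, 74, 21),
  (82, 4, 36932, 25),
  (87, 6, 458, 21),
  (88, 4, 16560, 20),
  (93, 6, 302, 19),
  (97, 3, 76, 21),
  (100, 4, 36874, 26),
  (103, 6, 460, 21),
  (104, 4, 147760, 19),
  (107, 6, 158, 20),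
  (112, 3, 14, 21),
  (118, 4, 392, 39),
  (122, 5, 28, 41),
  (124, 5, 42, 40),
  (128, 1, 1, 25),
  (131, 3, 416, 23),
  (133, 3, 70, 19),
  (134, 4, 196624, 21),
  (137, 3, 74, 24),
  (138, 4, 36932, 22),
  (143, 6, 122, 24),
  (145, 3, 76, 19),
  (148, 3, 74, 19),
  (152, 4, 147504, 20),
  (158, 5, 42, 43),
  (162, 4, 32778, 22),
  (164, 4, 4164, 26),
  (168, 4, 2062, 22),
  (174, 5, 336, 39),
  (176, 2, 2, 41),
  (179, 6, 372, 26),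
  (182, 5, 224, 40),
  (185, 6, 468, 26),
  (186, 4, 392, 44),
  (188, 5, 42, 39),
  (191, 4, 259, 38),
  (193, 3, 176, 23),
  (194, 3, 304, 23),
  (196, 4, 6154, 26),
  (200, 4, 131216, 20),
  (205, 6, 358, 19),
  (208, 4, 196896, 20),
  (214, 5, 28, 40),
  (220, 4, 392, 37),
  (224, 4, 34818, 26),
  (230, 5, 336, 42),
  (234, 5, 224, 37),
  (236, 5, 224, 38),
  (239, 6, 35246, 22),
  (242, 5, 28, 37),
  (247, 4, 133, 43),
  (248, 5, 336, 40),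
  (251, 4, 133, 42),
  (253, 4, 259, 41),
  (256, 1, 1, 26),
  (259, 3, 70, 20),
  (261, 3, 400, 22),
  (262, 4, 197024, 21),
  (265, 3, 76, 24),
  (268, 4, 36874, 23),
  (271, 6, 124, 24),
  (274, 4, 4170, 25),
  (276, 4, 32844, 23),
  (280, 4, 6158, 23),
  (286, 5, 224, 39),
  (289, 3, 74, 20),
  (290, 3, 76, 20),
  (296, 4, 81968, 19),
  (302, 5, 28, 44),
  (304, 2, 2, 44),
  (309, 6, 242, 25),
  (310, 5, 336, 41),
  (313, 6, 482, 25),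
  (314, 5, 28, 39),
  (316, 4, 392, 43),
  (319, 4, 133, 37),
  (321, 3, 304, 22),
  (322, 4, 6154, 25),
  (324, 3, 176, 22),
  (328, 4, 65952, 19),
  (331, 6, 214, 20),
  (336, 4, 2114, 25),
  (342, 5, 224, 42),
  (346, 5, 336, 37),
  (348, 5, 336, 38),
  (351, 6, 244126, 23),
  (352, 4, 196880, 19),
  (358, 5, 42, 41),
  (362, 4, 392, 38),
  (372, 5, 42, 38),
  (375, 4, 259, 44),
  (376, 5, 224, 41),
  (379, 4, 133, 40),
  (381, 4, 259, 42),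
  (385, 3, 14, 24),
  (386, 4, 81968, 21),
  (388, 4, 147504, 21),
  (392, 3, 70, 24),
  (398, 4, 392, 42),
  (400, 2, 2, 40),
  (403, 6, 428, 23),
  (406, 5, 336, 43),
  (410, 5, 42, 37),
  (415, 4, 259, 40),
  (416, 2, 2, 43),
  (421, 6, 410, 22),
  (422, 5, 224, 44),
  (428, 5, 28, 38),
  (431, 4, 133, 41),
  (439, 6, 25046, 21),
  (458, 5, 42, 44),
  (460, 5, 28, 43),
  (465, 6, 188, 23),
  (466, 4, 392, 41),
  (468, 5, 28, 42),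
  (471, 4, 133, 38),
  (472, 5, 224, 43),
  (475, 4, 259, 39),
  (477, 4, 133, 44),
  (481, 6, 314, 22),
  (482, 5, 42, 42),
  (484, 4, 392, 40),
  (487, 4, 259, 37),
  (488, 5, 336, 44),
  (491, 4, 259, 43),
  (493, 4, 133, 39),
  (505, 6, 74220, 19),
  (511, 8, 35263, 22),
  (1033, 4, 16528, 26),
  (1035, 4, 16560, 26),
  (1041, 4, 16656, 26),
  (1043, 4, 16688, 26),
  (1053, 6, 376, 25),
  (1057, 4, 2058, 20),
  (1059, 4, 2062, 20),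
  (1077, 6, 248, 25),
  (1081, 6, 488, 25),
  (1089, 4, 131216, 23),
  (1091, 4, 131472, 23),
  (1101, 6, 6215, 12),
  (1103, 6, 155964, 25),
  (1111, 7, 143402, 26),
  (1115, 6, 206998, 23),
  (1127, 6, 482, 22),
  (1131, 6, 213420, 25),
  (1151, 6, 65999, 21),
  (1153, 4, 131232, 23),
  (1155, 4, 131488, 23),
  (1165, 7, 20628, 26),
  (1179, 6, 215206, 23),
  (1189, 7, 90601, 41),
  (1191, 6, 458, 22),
  (1195, 6, 139610, 24),
  (1203, 6, 73942, 21),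
  (1213, 6, 205162, 24),
  (1215, 6, 205178, 24),
  (1223, 6, 488, 22),
  (1225, 6, 133266, 20),
  (1233, 6, 157730, 26),
  (1245, 7, 74075, 21),
  (1247, 7, 210986, 26),
  (1249, 6, 59426, 26),
  (1251, 5, 362, 22),
  (1263, 7, 112682, 26),
  (1271, 5, 491, 22),
  (1275, 7, 239650, 26),
  (1281, 4, 2114, 20),
  (1283, 4, 2118, 20),
  (1293, 6, 314, 25),
  (1301, 6, 122, 25),
  (1303, 7, 205033, 40),
  (1305, 5, 362, 25),
  (1307, 6, 202894, 23),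
  (1317, 5, 186, 25),
  (1319, 5, 466, 22),
  (1323, 6, 139612, 24),
  (1329, 5, 81990, 21),
  (1343, 6, 205180, 24),
  (1353, 6, 155716, 22),
  (1361, 6, 81994, 21),
  (1373, 7, 204905, 40),
  (1377, 6, 81996, 21),
  (1389, 7, 35318, 22),
  (1391, 7, 6578, 25),
  (1415, 6, 472, 22),
  (1425, 6, 73742, 24),
  (1437, 5, 379, 25),
  (1443, 5, 139550, 24),
  (1461, 5, 251, 25),
  (1463, 5, 475, 22),
  (1465, 5, 491, 25),
  (1475, 6, 376, 22),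
  (1485, 6, 21655, 26),
  (1493, 6, 90458, 21),
  (1495, 6, 90586, 21),
  (1497, 7, 17815, 26),
  (1509, 6, 90460, 21),
  (1523, 5, 379, 22),
  (1533, 7, 205167, 24),
  (1535, 7, 205183, 24),
  (2057, 4, 147760, 25),
  (2058, 3, 14, 4),
  (2061, 4, 147472, 25),
  (2062, 3, 14, 8),
  (2065, 4, 6158, 19),
  (2066, 4, 81936, 24),
  (2069, 4, 6146, 19),
  (2070, 4, 81968, 24),
  (2081, 4, 82096, 25),
  (2082, 4, 147728, 24),
  (2085, 4, 81936, 25),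
  (2086, 4, 147760, 24),
  (2095, 6, 248, 26),
  (2103, 6, 376, 26),
  (2109, 6, 472, 26),
  (2110, 6, 488, 26),
  (2113, 4, 65824, 22),
  (2114, 3, 70, 7),
  (2117, 4, 65952, 22),
  (2118, 3, 70, 5),
  (2123, 6, 6215, 14),
  (2127, 6, 205266, 23),
  (2131, 6, 468, 23),
  (2137, 6, 204810, 26),
  (2142, 6, 217090, 26),
  (2147, 7, 86196, 25),
  (2153, 6, 149814, 19),
  (2154, 6, 100390, 22),
  (2166, 6, 213297, 24),
  (2171, 6, 100647, 22),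
  (2177, 4, 34886, 19),
  (2178, 4, 196880, 21),
  (2181, 4, 34818, 19),
  (2182, 4, 65808, 21),
  (2191, 6, 188, 26),
  (2195, 5, 484, 23),
  (2199, 5, 316, 26),
  (2201, 6, 81994, 24),
  (2206, 6, 428, 26),
  (2211, 7, 90601, 43),
  (2215, 6, 124, 26),
  (2217, 6, 51318, 19),
  (2218, 5, 81934, 4),
  (2221, 5, 220, 26),
  (2222, 5, 81934, 17),
  (2229, 5, 139606, 21),
  (2235, 6, 213338, 24),
  (2250, 6, 83978, 26),
  (2253, 6, 90354, 23),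
  (2258, 6, 372, 23),
  (2261, 6, 139610, 21),
  (2267, 7, 223242, 26),
  (2271, 7, 227330, 26),
  (2277, 6, 139612, 21),
  (2287, 7, 100782, 22),
  (2302, 7, 9579, 19),
  (2305, 4, 65808, 22),
  (2306, 4, 65952, 21),
  (2309, 4, 65936, 22),
  (2310, 4, 196768, 21),
  (2319, 7, 16508, 24),
  (2323, 6, 460, 23),
  (2327, 7, 205033, 44),
  (2329, 6, 81996, 24),
  (2345, 6, 67862, 22),
  (2346, 7, 147796, 24),
  (2353, 6, 147526, 21),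
  (2363, 6, 213340, 24),
  (2367, 6, 213372, 24),
  (2371, 6, 472, 23),
  (2381, 6, 10546, 25),
  (2382, 6, 143706, 23),
  (2385, 5, 220, 23),
  (2386, 6, 342, 16),
  (2389, 6, 10354, 25),
  (2390, 5, 139606, 5),
  (2395, 7, 204905, 44),
  (2405, 6, 10418, 25),
  (2406, 7, 98482, 22),
  (2411, 7, 147805, 24),
  (2415, 7, 100790, 22),
  (2419, 5, 477, 23),
  (2425, 7, 67895, 22),
  (2426, 7, 14794, 25),
  (2435, 6, 488, 23),
  (2442, 6, 155793, 21),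
  (2449, 5, 81934, 24),
  (2469, 6, 147758, 24),
  (2479, 5, 253, 26),
  (2483, 5, 493, 23),
  (2487, 5, 381, 26),
  (2490, 6, 139694, 13),
  (2493, 5, 477, 26),
  (2494, 5, 493, 26),
  (2497, 6, 248, 23),
  (2498, 6, 376, 23),
  (2511, 6, 16511, 24),
  (2519, 6, 156122, 21),
  (2522, 7, 100413, 22),
  (2531, 6, 155868, 21),
  (2535, 6, 156124, 21),
  (2541, 7, 68030, 22),
  (2542, 7, 100542, 22),
  (2545, 5, 253, 23),
  (2546, 5, 381, 23),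
  (2550, 6, 155878, 14),
  (2555, 7, 155871, 21),
  (2559, 7, 156127, 21),
  (3097, 6, 90184, 24),
  (3101, 6, 90216, 24),
  (3117, 6, 16600, 26),
  (3119, 6, 156024, 24),
  (3123, 6, 172072, 26),
  (3145, 6, 35851, 16),
  (3151, 6, 6215, 13),
  (3153, 6, 196682, 21),
  (3157, 7, 163988, 23),
  (3159, 6, 197066, 21),
  (3169, 6, 196684, 21),
  (3173, 7, 94380, 25),
  (3175, 6, 197068, 21),
  (3193, 7, 253994, 26),
  (3197, 7, 258082, 26),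
  (3199, 7, 254444, 25),
  (3209, 6, 24650, 24),
  (3211, 7, 245986, 23),
  (3215, 6, 24698, 24),
  (3217, 6, 90122, 24),
  (3219, 6, 131556, 23),
  (3221, 6, 205138, 21),
  (3223, 6, 205266, 21),
  (3233, 7, 20572, 26),
  (3239, 6, 155962, 24),
  (3257, 7, 20956, 26),
  (3259, 7, 20988, 26),
  (3263, 6, 205271, 21),
  (3267, 6, 65896, 22),
  (3271, 6, 205272, 21),
  (3289, 6, 90187, 24),
  (3291, 7, 206890, 26),
  (3293, 7, 227362, 26),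
  (3295, 6, 205275, 21),
  (3305, 7, 124970, 26),
  (3311, 6, 156027, 24),
  (3313, 7, 190506, 26),
  (3315, 7, 174122, 26),
  (3337, 6, 24652, 24),
  (3339, 7, 12578, 25),
  (3343, 6, 24700, 24),
  (3345, 6, 90124, 24),
  (3351, 7, 12402, 25),
  (3361, 6, 213060, 21),
  (3363, 6, 155932, 24),
  (3365, 6, 213316, 21),
  (3367, 6, 155964, 24),
  (3385, 6, 213063, 21),
  (3387, 7, 67927, 22),
  (3391, 7, 12786, 25),
  (3393, 6, 213064, 21),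
  (3395, 6, 213192, 21),
  (3417, 6, 90189, 24),
  (3423, 7, 14706, 25),
  (3433, 6, 213069, 21),
  (3435, 7, 67958, 22),
  (3437, 7, 100854, 22),
  (3439, 6, 156029, 24),
  (3443, 7, 14562, 25),
  (3447, 7, 213454, 21),
  (3461, 6, 98776, 22),
  (3485, 7, 88558, 23),
  (3487, 7, 90238, 24),
  (3497, 7, 100702, 22),
  (3501, 7, 156014, 24),
  (3529, 7, 225476, 22),
  (3531, 7, 258180, 22),
  (3535, 7, 225530, 23),
  (3537, 6, 90127, 24),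
  (3541, 7, 17695, 26),
  (3543, 7, 164284, 23),
  (3553, 7, 98682, 22),
  (3557, 7, 98810, 22),
  (3559, 6, 155967, 24),
  (4099, 4, 65584, 26),
  (4101, 4, 131120, 25),
  (4102, 3, 14, 3),
  (4107, 4, 65712, 26),
  (4109, 4, 131376, 25),
  (4110, 3, 14, 6),
  (4113, 4, 65808, 26),
  (4114, 4, 65824, 26),
  (4116, 4, 2114, 23),
  (4119, 6, 98360, 24),
  (4121, 4, 65936, 26),
  (4122, 4, 65952, 26),
  (4124, 4, 32838, 23),
  (4129, 4, 131232, 25),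
  (4130, 4, 32774, 22),
  (4132, 4, 131216, 25),
  (4137, 4, 131488, 25),
  (4138, 4, 34818, 22),
  (4140, 4, 131472, 25),
  (4143, 6, 123000, 26),
  (4147, 6, 246024, 25),
  (4157, 6, 237912, 26),
  (4162, 3, 74, 7),
  (4164, 3, 76, 8),
  (4167, 6, 5197, 13),
  (4170, 3, 74, 5),
  (4172, 3, 76, 4),
  (4175, 6, 213476, 22),
  (4181, 7, 209034, 26),
  (4182, 6, 45396, 25),
  (4187, 6, 406, 23),
  (4197, 6, 422, 22),
  (4203, 7, 8350, 20),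
  (4206, 6, 34978, 22),
  (4210, 7, 24748, 20),
  (4215, 7, 24751, 20),
  (4220, 7, 24874, 19),
  (4223, 7, 258292, 25),
  (4225, 4, 32778, 24),
  (4226, 4, 32780, 22),
  (4231, 6, 213058, 23),
  (4233, 4, 32842, 24),
  (4234, 4, 4172, 22),
  (4251, 6, 422, 23),
  (4254, 7, 70052, 26),
  (4259, 6, 139278, 20),
  (4261, 5, 398, 22),
  (4269, 6, 69844, 26),
  (4273, 6, 24652, 19),
  (4274, 6, 1319, 23),
  (4276, 6, 24650, 19),
  (4279, 7, 135417, 25),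
  (4293, 6, 428, 22),
  (4302, 6, 33138, 23),
  (4311, 6, 137337, 25),
  (4313, 6, 182, 23),
  (4314, 6, 310, 23),
  (4316, 6, 155825, 20),
  (4321, 6, 302, 22),
  (4324, 6, 236, 17),
  (4327, 7, 204905, 41),
  (4329, 7, 205033, 41),
  (4332, 5, 82156, 4),
  (4339, 6, 155822, 20),
  (4341, 5, 431, 22),
  (4342, 7, 252042, 26),
  (4347, 6, 155838, 20),
  (4353, 4, 32780, 24),
  (4356, 4, 4162, 23),
  (4361, 4, 32844, 24),
  (4364, 4, 32842, 23),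
  (4367, 6, 205268, 22),
  (4371, 6, 98332, 24),
  (4379, 5, 398, 23),
  (4381, 6, 82094, 19),
  (4389, 6, 406, 22),
  (4390, 7, 135322, 25),
  (4409, 6, 24698, 20),
  (4410, 6, 24700, 20),
  (4412, 6, 229732, 24),
  (4415, 7, 135674, 25),
  (4422, 6, 143426, 23),
  (4427, 6, 410, 23),
  (4433, 7, 90601, 44),
  (4434, 5, 139338, 7),
  (4441, 6, 158, 23),
  (4442, 5, 139338, 14),
  (4447, 7, 137594, 25),
  (4449, 6, 310, 22),
  (4450, 6, 90497, 19),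
  (4452, 6, 182, 22),
  (4463, 6, 8415, 20),
  (4469, 6, 90510, 19),
  (4475, 5, 415, 23),
  (4477, 6, 90542, 19),
  (4478, 7, 137690, 25),
  (4483, 6, 139334, 20),
  (4486, 5, 398, 12),
  (4493, 6, 82150, 19),
  (4494, 6, 196622, 15),
  (4505, 5, 82156, 19),
  (4506, 6, 302, 23),
  (4508, 5, 82154, 19),
  (4513, 5, 139338, 20),
  (4514, 5, 139340, 20),
  (4516, 6, 158, 22),
  (4533, 5, 415, 22),
  (4539, 5, 431, 23),
  (4545, 5, 316, 22),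
  (4548, 6, 188, 22),
  (4551, 7, 225346, 23),
  (4553, 5, 186, 23),
  (4554, 6, 314, 23),
  (4559, 7, 33274, 23),
  (4563, 6, 155878, 20),
  (4574, 7, 98423, 24),
  (4582, 7, 137371, 25),
  (4589, 6, 90598, 19),
  (4593, 5, 319, 22),
  (4594, 6, 82298, 16),
  (4596, 5, 191, 22),
  (4599, 7, 90575, 19),
  (4601, 5, 191, 23),
  (4602, 5, 319, 23),
  (4604, 6, 90460, 13),
  (4607, 7, 90607, 19),
  (5121, 4, 81936, 26),
  (5123, 4, 81968, 26),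
  (5129, 4, 82064, 26),
  (5131, 4, 82096, 26),
  (5151, 6, 188536, 25),
  (5165, 6, 6331, 39),
  (5167, 6, 122968, 26),
  (5179, 6, 237912, 24),
  (5191, 5, 24593, 40),
  (5197, 5, 24609, 40),
  (5201, 6, 26786, 20),
  (5217, 7, 123042, 26),
  (5219, 6, 358, 22),
  (5225, 6, 73903, 43),
  (5239, 5, 487, 22),
  (5247, 7, 254204, 25),
  (5255, 6, 460, 22),
  (5261, 6, 74183, 43),
  (5263, 7, 86196, 26),
  (5265, 6, 157730, 20),
  (5289, 6, 172362, 24),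
  (5301, 7, 165095, 23),
  (5313, 6, 141442, 20),
  (5321, 6, 35223, 38),
  (5333, 7, 223554, 23),
  (5335, 5, 493, 22),
  (5357, 6, 35306, 22),
  (5371, 7, 157886, 20),
  (5381, 7, 201026, 23),
  (5383, 6, 468, 22),
  (5391, 7, 41084, 24),
  (5393, 6, 33109, 22),
  (5403, 6, 106588, 24),
  (5411, 6, 342, 22),
  (5419, 6, 172380, 24),
  (5429, 7, 237868, 24),
  (5431, 5, 471, 22),
  (5441, 7, 33140, 22),
  (5443, 6, 372, 22),
  (5451, 7, 10454, 20),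
  (5461, 6, 33269, 22),
  (5471, 6, 106621, 24),
  (5487, 6, 172413, 24),
  (5491, 5, 375, 22),
  (5497, 7, 26874, 20),
  (5499, 6, 237917, 24),
  (5505, 6, 33116, 22),
  (5507, 6, 348, 22),
  (5525, 6, 33245, 22),
  (5527, 5, 477, 22),
  (5533, 7, 164078, 23),
  (5541, 7, 172334, 24),
  (5549, 6, 35290, 22),
  (5551, 7, 86261, 26),
  (5553, 7, 237838, 24),
  (5555, 7, 237854, 24),
  (5563, 7, 157822, 20),
  (5573, 6, 33276, 22),
  (5587, 5, 381, 22),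
  (5595, 7, 157942, 20),
  (5601, 7, 133291, 25),
  (5609, 6, 35194, 22),
  (5611, 7, 141534, 20),
  (5621, 7, 110073, 11),
  (5623, 7, 163051, 14),
  (5631, 7, 90463, 13),
  (6145, 4, 16688, 25),
  (6146, 3, 14, 7),
  (6149, 4, 147728, 25),
  (6150, 3, 14, 2),
  (6153, 4, 147504, 25),
  (6154, 3, 14, 1),
  (6157, 4, 16656, 25),
  (6158, 3, 14, 5),
  (6163, 6, 114712, 24),
  (6167, 6, 35223, 42),
  (6179, 6, 180504, 24),
  (6193, 6, 246024, 24),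
  (6198, 6, 202762, 39),
  (6206, 6, 98584, 25),
  (6215, 5, 24609, 41),
  (6219, 5, 24593, 41),
  (6229, 6, 74183, 40),
  (6233, 6, 214, 23),
  (6234, 6, 342, 23),
  (6237, 7, 188516, 25),
  (6246, 6, 98470, 22),
  (6253, 6, 68002, 22),
  (6259, 7, 119284, 25),
  (6267, 5, 471, 23),
  (6275, 7, 245762, 23),
  (6283, 6, 482, 23),
  (6287, 7, 49274, 24),
  (6289, 6, 116738, 23),
  (6290, 7, 182274, 23),
  (6294, 6, 158, 2),
  (6297, 6, 230, 23),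
  (6298, 6, 358, 23),
  (6305, 6, 69724, 26),
  (6317, 6, 43058, 19),
  (6331, 5, 487, 23),
  (6335, 7, 246138, 24),
  (6337, 7, 75914, 26),
  (6342, 6, 88194, 26),
  (6345, 6, 242, 23),
  (6349, 7, 165922, 19),
  (6355, 6, 256002, 23),
  (6371, 6, 1523, 23),
  (6383, 6, 25959, 19),
  (6385, 6, 1271, 23),
  (6389, 7, 243842, 26),
  (6390, 5, 20514, 39),
  (6393, 5, 247, 23),
  (6394, 4, 20490, 39),
  (6403, 7, 143402, 25),
  (6407, 6, 73903, 40),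
  (6411, 6, 458, 23),
  (6418, 6, 286, 16),
  (6421, 6, 22690, 19),
  (6430, 5, 139550, 5),
  (6438, 6, 302, 11),
  (6442, 6, 147470, 10),
  (6445, 6, 10418, 19),
  (6446, 7, 26742, 37),
  (6463, 7, 246140, 24),
  (6469, 6, 6331, 38),
  (6474, 6, 346, 23),
  (6477, 6, 141618, 25),
  (6487, 6, 243778, 23),
  (6507, 5, 475, 23),
  (6511, 7, 100786, 22),
  (6513, 7, 71003, 26),
  (6518, 5, 196744, 43),
  (6522, 5, 196872, 43),
  (6530, 6, 74145, 21),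
  (6537, 6, 234, 23),
  (6538, 5, 362, 23),
  (6541, 6, 34978, 19),
  (6547, 7, 98589, 22),
  (6551, 6, 251970, 23),
  (6559, 7, 114814, 24),
  (6567, 7, 180542, 24),
  (6571, 5, 491, 23),
  (6575, 6, 91367, 19),
  (6577, 7, 104574, 19),
  (6578, 6, 204974, 7),
  (6585, 7, 239, 23),
  (6589, 7, 246126, 24),
  (6590, 6, 155822, 14),
  (6607, 6, 83431, 19),
  (6609, 7, 235886, 19),
  (6613, 6, 129090, 23),
  (6621, 7, 66975, 26),
  (6625, 7, 231798, 19),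
  (6630, 5, 12300, 38),
  (6633, 5, 251, 23),
  (6634, 4, 12308, 38),
  (6643, 7, 62903, 15),
  (6651, 7, 252191, 17),
  (6655, 7, 155887, 14),
  (7195, 6, 122968, 24),
  (7199, 6, 123000, 24),
  (7201, 6, 4513, 42),
  (7203, 6, 106664, 26),
  (7233, 6, 6215, 1),
  (7235, 5, 16433, 43),
  (7237, 5, 8241, 44),
  (7243, 5, 8225, 44),
  (7245, 5, 16401, 43),
  (7247, 6, 5197, 1),
  (7281, 7, 119292, 25),
  (7285, 6, 165015, 23),
  (7293, 6, 258284, 25),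
  (7295, 7, 176290, 26),
  (7297, 7, 86044, 26),
  (7301, 7, 57386, 24),
  (7303, 7, 81980, 26),
  (7307, 7, 1493, 38),
  (7309, 6, 16839, 43),
  (7345, 5, 1281, 38),
  (7351, 6, 240711, 21),
  (7357, 6, 82396, 26),
  (7359, 5, 1283, 38),
  (7383, 6, 242763, 21),
  (7387, 7, 67945, 22),
  (7391, 6, 38289, 21),
  (7395, 6, 2221, 37),
  (7397, 7, 98798, 22),
  (7399, 6, 243789, 21),
  (7401, 6, 79247, 20),
  (7405, 7, 204053, 20),
  (7407, 6, 39313, 21),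
  (7427, 7, 1215, 38),
  (7429, 6, 131391, 40),
  (7433, 7, 172436, 22),
  (7437, 7, 57452, 24),
  (7439, 7, 143666, 25),
  (7473, 5, 2177, 37),
  (7477, 6, 139514, 25),
  (7481, 6, 249249, 21),
  (7487, 5, 2181, 37),
  (7505, 6, 38379, 21),
  (7509, 7, 204077, 19),
  (7511, 6, 112962, 23),
  (7513, 6, 251297, 21),
  (7515, 6, 2385, 37),
  (7517, 7, 163998, 23),
  (7521, 6, 39405, 21),
  (7523, 7, 8349, 44),
  (7529, 6, 252321, 21),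
  (7569, 5, 131075, 40),
  (7573, 7, 175413, 20),
  (7575, 7, 121154, 23),
  (7581, 7, 122990, 24),
  (7583, 5, 131331, 40),
  (7585, 5, 65541, 41),
  (7589, 7, 188718, 24),
  (7593, 7, 100698, 22),
  (7597, 7, 188782, 24),
  (7599, 5, 65669, 41),
  (7617, 7, 258306, 23),
  (7621, 7, 240917, 20),
  (7623, 6, 65635, 41),
  (7625, 6, 8475, 44),
  (7629, 7, 249157, 19),
  (7631, 7, 166051, 19),
  (7665, 8, 116127, 5),
  (7667, 6, 16511, 43),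
  (7671, 6, 4593, 42),
  (7673, 6, 33273, 39),
  (7675, 6, 131279, 40),
  (7679, 8, 243887, 16),
  (8195, 4, 131120, 26),
  (8197, 4, 4102, 19),
  (8198, 4, 65712, 24),
  (8201, 4, 131216, 26),
  (8202, 4, 131232, 26),
  (8204, 4, 32774, 23),
  (8211, 4, 131376, 26),
  (8213, 4, 4110, 19),
  (8214, 3, 176, 24),
  (8217, 4, 131472, 26),
  (8218, 4, 131488, 26),
  (8220, 4, 34818, 23),
  (8223, 5, 155720, 25),
  (8225, 4, 34886, 21),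
  (8226, 4, 197008, 24),
  (8228, 4, 197024, 24),
  (8241, 4, 34818, 21),
  (8242, 4, 131472, 24),
  (8244, 4, 131488, 24),
  (8247, 6, 90184, 25),
  (8251, 6, 213064, 25),
  (8254, 5, 204872, 25),
  (8257, 4, 36938, 21),
  (8258, 4, 4164, 25),
  (8264, 3, 176, 20),
  (8267, 5, 205206, 23),
  (8269, 6, 156020, 25),
  (8273, 4, 36866, 21),
  (8274, 4, 36868, 25),
  (8279, 6, 204868, 23)]

theorem chk_rows1_0 : rows1_0.all (rowBP1 tr1 bm1 gensLitP gensListP 1) = true := by decide +kernel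

/-- Rows 800 to 1599. -/
def rows1_1 : List (ℕ × ℕ × ℕ × ℕ) := [(8280, 4, 16528, 20),
  (8291, 6, 174, 20),
  (8297, 5, 186, 20),
  (8298, 6, 188, 20),
  (8300, 6, 205268, 25),
  (8303, 5, 191, 20),
  (8309, 6, 45322, 26),
  (8310, 6, 110740, 25),
  (8313, 6, 106754, 26),
  (8321, 4, 4164, 19),
  (8324, 4, 4162, 19),
  (8327, 6, 238018, 21),
  (8328, 4, 131120, 20),
  (8331, 6, 213414, 23),
  (8337, 4, 4172, 19),
  (8340, 4, 4170, 19),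
  (8343, 5, 186, 24),
  (8344, 4, 147472, 20),
  (8349, 6, 234, 24),
  (8350, 6, 242, 24),
  (8357, 6, 32945, 25),
  (8361, 6, 197066, 24),
  (8362, 6, 90298, 8),
  (8371, 6, 147470, 20),
  (8378, 5, 186, 13),
  (8380, 7, 12394, 19),
  (8389, 6, 176458, 21),
  (8393, 6, 90294, 23),
  (8394, 5, 155958, 23),
  (8396, 6, 57398, 23),
  (8406, 6, 155716, 23),
  (8415, 5, 251, 24),
  (8418, 7, 80014, 21),
  (8429, 7, 12646, 19),
  (8433, 6, 12620, 19),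
  (8439, 7, 12623, 19),
  (8450, 4, 36874, 25),
  (8452, 4, 36876, 23),
  (8455, 7, 90601, 37),
  (8456, 4, 4110, 23),
  (8459, 5, 118, 20),
  (8466, 4, 36938, 25),
  (8468, 4, 4164, 23),
  (8471, 6, 188, 24),
  (8472, 4, 6154, 23),
  (8475, 5, 220, 24),
  (8477, 6, 236, 24),
  (8485, 7, 32946, 25),
  (8489, 6, 122, 20),
  (8490, 6, 124, 20),
  (8508, 6, 35917, 23),
  (8515, 6, 230, 20),
  (8521, 6, 242, 20),
  (8527, 5, 247, 20),
  (8537, 7, 205033, 42),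
  (8543, 5, 253, 24),
  (8545, 6, 234, 20),
  (8546, 6, 236, 20),
  (8551, 6, 39098, 25),
  (8552, 5, 155720, 11),
  (8557, 5, 251, 20),
  (8558, 5, 253, 20),
  (8564, 7, 35026, 25),
  (8567, 6, 39162, 25),
  (8568, 5, 155720, 1),
  (8571, 6, 39402, 25),
  (8574, 6, 194870, 1),
  (8582, 5, 205206, 6),
  (8591, 6, 250286, 23),
  (8595, 6, 158, 24),
  (8597, 6, 174, 24),
  (8598, 6, 182, 24),
  (8602, 6, 214, 24),
  (8604, 6, 230, 24),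
  (8609, 6, 90401, 7),
  (8610, 6, 131180, 20),
  (8612, 6, 141606, 21),
  (8619, 7, 131198, 20),
  (8621, 6, 33203, 25),
  (8625, 6, 196785, 16),
  (8631, 7, 247858, 21),
  (8632, 6, 57496, 19),
  (8635, 7, 147550, 20),
  (8638, 7, 37339, 25),
  (8642, 6, 38923, 25),
  (8644, 7, 61500, 23),
  (8653, 6, 127166, 23),
  (8654, 6, 241734, 15),
  (8657, 7, 53298, 21),
  (8663, 5, 191, 24),
  (8669, 6, 129210, 23),
  (8670, 5, 247, 24),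
  (8677, 7, 78278, 19),
  (8681, 7, 78308, 19),
  (8682, 7, 132327, 26),
  (8684, 7, 78306, 19),
  (8687, 7, 39355, 25),
  (8691, 6, 78285, 19),
  (8693, 7, 35059, 25),
  (8694, 7, 219186, 21),
  (8703, 7, 39419, 25),
  (9217, 4, 147472, 26),
  (9219, 4, 147504, 26),
  (9231, 6, 156024, 25),
  (9233, 4, 147728, 26),
  (9235, 4, 147760, 26),
  (9255, 5, 90360, 25),
  (9259, 5, 213480, 25),
  (9285, 7, 160042, 26),
  (9287, 6, 24700, 25),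
  (9301, 7, 61500, 25),
  (9305, 6, 76178, 23),
  (9313, 6, 2218, 20),
  (9315, 5, 82156, 25),
  (9325, 7, 2235, 20),
  (9343, 7, 110890, 26),
  (9349, 6, 32825, 25),
  (9351, 6, 237890, 21),
  (9365, 6, 213316, 23),
  (9367, 6, 8378, 24),
  (9369, 6, 149522, 20),
  (9377, 7, 193809, 39),
  (9379, 6, 205210, 24),
  (9389, 6, 205290, 24),
  (9393, 7, 147796, 26),
  (9405, 6, 139754, 24),
  (9409, 6, 133282, 20),
  (9423, 6, 39217, 25),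
  (9425, 6, 26914, 26),
  (9445, 6, 36087, 8),
  (9447, 6, 39089, 25),
  (9451, 6, 205275, 24),
  (9461, 7, 35065, 25),
  (9463, 6, 250881, 22),
  (9467, 7, 149662, 20),
  (9477, 7, 32826, 25),
  (9483, 6, 147633, 26),
  (9495, 7, 36978, 25),
  (9497, 6, 147857, 26),
  (9505, 6, 35046, 21),
  (9517, 6, 205292, 24),
  (9521, 6, 33002, 25),
  (9533, 6, 139756, 24),
  (9555, 6, 18630, 20),
  (9565, 6, 35194, 25),
  (9575, 7, 235886, 21),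
  (9579, 6, 38267, 11),
  (9591, 6, 39154, 25),
  (9593, 6, 35306, 25),
  (9595, 6, 39394, 25),
  (9601, 7, 240709, 40),
  (9603, 6, 73886, 24),
  (9615, 7, 73982, 24),
  (9619, 7, 49330, 21),
  (9639, 6, 243163, 22),
  (9641, 6, 33195, 25),
  (9653, 6, 139694, 24),
  (9655, 6, 242689, 22),
  (9669, 6, 152599, 26),
  (9673, 7, 194873, 22),
  (9675, 7, 133366, 20),
  (9691, 6, 91355, 21),
  (9699, 6, 205215, 24),
  (9709, 7, 205295, 24),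
  (9711, 7, 129423, 5),
  (9713, 7, 35051, 25),
  (9715, 6, 193537, 22),
  (10241, 4, 2062, 19),
  (10242, 4, 82064, 24),
  (10245, 4, 6154, 19),
  (10246, 4, 82096, 24),
  (10257, 4, 6150, 19),
  (10258, 4, 16528, 24),
  (10261, 4, 2058, 19),
  (10262, 4, 16560, 24),
  (10267, 6, 16600, 24),
  (10271, 6, 147544, 25),
  (10275, 6, 122968, 25),
  (10282, 6, 246024, 26),
  (10285, 5, 213480, 24),
  (10301, 6, 131544, 26),
  (10307, 7, 20596, 25),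
  (10311, 6, 205268, 23),
  (10317, 6, 73942, 23),
  (10318, 5, 139606, 23),
  (10327, 7, 97459, 37),
  (10329, 7, 153894, 19),
  (10333, 7, 251211, 41),
  (10334, 6, 176388, 25),
  (10338, 6, 213393, 24),
  (10342, 5, 118, 5),
  (10347, 6, 97471, 20),
  (10351, 6, 97281, 20),
  (10353, 6, 137494, 19),
  (10354, 5, 118, 7),
  (10357, 6, 45314, 26),
  (10363, 7, 147929, 24),
  (10375, 6, 5191, 19),
  (10378, 7, 82130, 24),
  (10381, 5, 82154, 24),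
  (10382, 6, 73742, 17),
  (10387, 6, 5197, 19),
  (10394, 6, 158, 13),
  (10406, 5, 90118, 17),
  (10411, 6, 213466, 24),
  (10415, 6, 90127, 17),
  (10417, 6, 166162, 21),
  (10418, 5, 90118, 4),
  (10427, 6, 147930, 24),
  (10434, 6, 73798, 16),
  (10438, 6, 156020, 23),
  (10449, 6, 10506, 26),
  (10454, 6, 214, 14),
  (10463, 6, 16635, 24),
  (10467, 6, 47273, 25),
  (10471, 7, 194818, 26),
  (10473, 7, 239882, 26),
  (10477, 6, 213483, 24),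
  (10478, 6, 36145, 23),
  (10487, 7, 104722, 21),
  (10499, 7, 82076, 24),
  (10506, 5, 139550, 13),
  (10509, 5, 82156, 24),
  (10519, 7, 16572, 24),
  (10526, 5, 139550, 17),
  (10533, 6, 213420, 24),
  (10534, 6, 155654, 2),
  (10539, 6, 213468, 24),
  (10543, 7, 45498, 25),
  (10545, 7, 147852, 24),
  (10546, 5, 155958, 1),
  (10549, 7, 51490, 21),
  (10561, 6, 110812, 23),
  (10565, 6, 43058, 25),
  (10571, 6, 126199, 20),
  (10575, 6, 125953, 20),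
  (10577, 6, 184610, 21),
  (10581, 6, 16557, 24),
  (10587, 6, 244186, 23),
  (10601, 6, 156029, 2),
  (10602, 6, 129277, 20),
  (10605, 6, 213485, 24),
  (10606, 6, 129025, 20),
  (10615, 6, 79247, 19),
  (10617, 7, 147917, 24),
  (10621, 6, 155725, 1),
  (10629, 6, 82094, 24),
  (10651, 6, 252394, 23),
  (10655, 6, 219626, 23),
  (10665, 7, 116862, 19),
  (10666, 6, 213462, 24),
  (10675, 6, 147870, 24),
  (10682, 6, 147926, 24),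
  (10685, 7, 131549, 26),
  (10695, 7, 241898, 21),
  (10698, 6, 243778, 15),
  (10702, 6, 244182, 6),
  (10713, 6, 129274, 23),
  (10714, 5, 243722, 3),
  (10717, 6, 96506, 23),
  (10718, 6, 243726, 3),
  (10722, 6, 90470, 16),
  (10725, 6, 213423, 24),
  (10735, 7, 128359, 7),
  (10742, 5, 147702, 14),
  (10751, 7, 36285, 23),
  (11275, 6, 90328, 24),
  (11279, 5, 90360, 24),
  (11301, 6, 147544, 26),
  (11313, 6, 41192, 25),
  (11319, 6, 123048, 25),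
  (11331, 7, 16508, 25),
  (11333, 7, 28780, 25),
  (11345, 7, 24874, 26),
  (11347, 7, 49212, 25),
  (11351, 7, 12578, 26),
  (11371, 7, 237866, 26),
  (11385, 7, 153911, 19),
  (11387, 6, 158747, 19),
  (11389, 7, 258476, 25),
  (11397, 6, 35917, 19),
  (11399, 6, 90298, 24),
  (11409, 6, 38983, 19),
  (11411, 6, 35851, 19),
  (11435, 7, 151804, 26),
  (11449, 6, 156106, 24),
  (11451, 6, 156122, 24),
  (11471, 6, 90363, 24),
  (11483, 6, 206043, 21),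
  (11485, 7, 92658, 23),
  (11487, 6, 184453, 22),
  (11489, 6, 87471, 20),
  (11493, 7, 178382, 21),
  (11495, 7, 178466, 26),
  (11523, 7, 45090, 25),
  (11525, 7, 41018, 25),
  (11527, 6, 90300, 24),
  (11537, 7, 41066, 25),
  (11539, 7, 24732, 24),
  (11541, 7, 24748, 24),
  (11563, 6, 155967, 2),
  (11577, 6, 156108, 24),
  (11579, 6, 156124, 24),
  (11581, 6, 155663, 1),
  (11597, 6, 216365, 19),
  (11599, 6, 90365, 24),
  (11611, 6, 214219, 21),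
  (11615, 7, 211162, 23),
  (11619, 6, 36215, 11),
  (11623, 7, 145563, 19),
  (11633, 7, 133341, 23),
  (11635, 7, 47330, 25),
  (11637, 6, 155719, 1),
  (11639, 7, 55714, 21),
  (11657, 5, 415, 15),
  (11659, 6, 45347, 25),
  (11673, 7, 24782, 24),
  (11679, 6, 211983, 3),
  (11685, 7, 166057, 23),
  (11697, 6, 156046, 24),
  (11699, 6, 156062, 24),
  (11701, 6, 156078, 24),
  (11703, 7, 51634, 21),
  (11717, 7, 176362, 21),
  (11719, 6, 90303, 24),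
  (11729, 6, 205271, 12),
  (11733, 7, 119218, 21),
  (11735, 7, 127300, 23),
  (11771, 7, 156127, 24),
  (11775, 8, 96583, 13),
  (12289, 4, 196624, 26),
  (12290, 4, 196640, 26),
  (12292, 4, 2118, 23),
  (12297, 4, 196752, 26),
  (12298, 4, 196768, 26),
  (12300, 4, 34882, 23),
  (12303, 6, 98552, 24),
  (12305, 4, 196880, 26),
  (12306, 4, 196896, 26),
  (12308, 3, 70, 23),
  (12313, 4, 197008, 26),
  (12314, 4, 197024, 26),
  (12316, 4, 34886, 23),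
  (12331, 6, 115016, 25),
  (12333, 6, 229864, 24),
  (12342, 6, 180456, 26),
  (12349, 6, 164328, 24),
  (12350, 6, 245864, 26),
  (12358, 6, 12628, 25),
  (12365, 7, 35026, 23),
  (12371, 6, 204806, 23),
  (12373, 6, 73798, 23),
  (12374, 6, 139334, 23),
  (12381, 7, 24723, 20),
  (12385, 6, 82404, 25),
  (12388, 6, 124, 17),
  (12393, 6, 213220, 25),
  (12394, 6, 122, 5),
  (12401, 6, 106882, 26),
  (12402, 6, 122, 7),
  (12404, 7, 106900, 25),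
  (12407, 6, 36311, 23),
  (12409, 6, 24730, 20),
  (12410, 7, 24732, 20),
  (12412, 6, 24652, 13),
  (12422, 7, 98482, 24),
  (12430, 6, 73742, 15),
  (12435, 5, 212998, 23),
  (12437, 5, 81990, 23),
  (12438, 6, 158, 12),
  (12445, 6, 35046, 23),
  (12450, 6, 229778, 24),
  (12452, 6, 188, 17),
  (12455, 7, 229818, 24),
  (12457, 7, 139322, 20),
  (12460, 7, 200900, 26),
  (12465, 6, 155658, 20),
  (12466, 6, 155660, 20),
  (12471, 6, 36327, 23),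
  (12473, 7, 251211, 38),
  (12476, 6, 90300, 4),
  (12484, 5, 220, 17),
  (12487, 7, 227722, 26),
  (12497, 5, 90118, 23),
  (12498, 6, 155654, 23),
  (12500, 6, 24646, 23),
  (12508, 6, 73804, 13),
  (12511, 7, 31114, 26),
  (12517, 6, 39165, 8),
  (12518, 7, 252298, 26),
  (12523, 6, 139454, 20),
  (12525, 7, 29030, 19),
  (12526, 6, 129034, 17),
  (12533, 6, 36087, 23),
  (12534, 6, 36215, 23),
  (12539, 6, 155806, 20),
  (12541, 6, 39089, 4),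
  (12549, 6, 98476, 24),
  (12555, 6, 196785, 26),
  (12558, 5, 139550, 6),
  (12563, 6, 196913, 26),
  (12566, 6, 286, 12),
  (12577, 7, 94340, 19),
  (12578, 6, 314, 11),
  (12580, 6, 35915, 23),
  (12583, 6, 94343, 19),
  (12588, 5, 316, 2),
  (12593, 6, 24650, 20),
  (12594, 6, 24652, 20),
  (12596, 5, 316, 1),
  (12599, 7, 164284, 24),
  (12601, 7, 97459, 44),
  (12602, 6, 155962, 1),
  (12607, 7, 164348, 24),
  (12609, 7, 165922, 25),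
  (12620, 5, 139340, 4),
  (12623, 6, 35290, 23),
  (12628, 5, 139340, 17),
  (12633, 7, 24786, 20),
  (12646, 6, 35194, 11),
  (12659, 7, 24782, 20),
  (12669, 6, 24795, 20),
  (12670, 6, 190782, 1),
  (12674, 7, 98454, 24),
  (12676, 6, 98470, 24),
  (12679, 6, 219206, 23),
  (12681, 6, 2218, 23),
  (12682, 6, 205210, 6),
  (12687, 6, 35306, 23),
  (12690, 6, 410, 12),
  (12695, 6, 204815, 3),
  (12697, 6, 2222, 23),
  (12709, 6, 212383, 22),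
  (12717, 7, 94438, 19),
  (12725, 6, 211969, 22),
  (12726, 6, 155725, 20),
  (12731, 6, 94445, 19),
  (12741, 6, 96326, 23),
  (12742, 6, 161862, 23),
  (12747, 6, 139510, 20),
  (12750, 6, 35194, 23),
  (12757, 7, 86478, 19),
  (12763, 6, 155862, 20),
  (12769, 6, 163135, 22),
  (12770, 6, 90474, 16),
  (12772, 6, 97471, 22),
  (12777, 6, 139514, 20),
  (12778, 5, 196986, 5),
  (12785, 6, 162817, 22),
  (12786, 6, 196858, 7),
  (12788, 6, 97281, 22),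
  (12791, 7, 220533, 2),
  (12794, 6, 147706, 14),
  (12799, 7, 155871, 20),
  (13317, 6, 106664, 24),
  (13335, 6, 65862, 23),
  (13341, 6, 185467, 41),
  (13345, 6, 237960, 24),
  (13363, 6, 115112, 25),
  (13369, 6, 164328, 25),
  (13379, 6, 102475, 21),
  (13385, 6, 185505, 41),
  (13403, 6, 133526, 23),
  (13413, 7, 258474, 26),
  (13415, 6, 249319, 22),
  (13421, 7, 10427, 20),
  (13429, 6, 127420, 25),
  (13431, 6, 248833, 22),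
  (13439, 7, 254140, 25),
  (13443, 6, 141350, 20),
  (13449, 6, 133282, 23),
  (13467, 6, 157718, 20),
  (13477, 6, 97281, 17),
  (13479, 7, 238010, 24),
  (13485, 7, 232595, 21),
  (13493, 7, 172458, 24),
  (13495, 7, 217460, 26),
  (13503, 6, 90127, 13),
  (13509, 7, 223558, 23),
  (13511, 6, 252397, 22),
  (13519, 6, 169107, 21),
  (13527, 6, 251905, 22),
  (13533, 7, 31146, 26),
  (13535, 7, 14762, 26),
  (13537, 6, 38139, 8),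
  (13539, 7, 240034, 26),
  (13547, 7, 141502, 20),
  (13555, 7, 157838, 20),
  (13561, 7, 95255, 37),
  (13563, 6, 90187, 13),
  (13569, 6, 163882, 25),
  (13571, 6, 213041, 26),
  (13577, 6, 213137, 26),
  (13587, 6, 213297, 26),
  (13593, 6, 213393, 26),
  (13595, 6, 26710, 20),
  (13605, 7, 166375, 21),
  (13607, 6, 241111, 22),
  (13613, 6, 163135, 2),
  (13623, 6, 155967, 10),
  (13631, 7, 168434, 25),
  (13637, 6, 211270, 23),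
  (13639, 7, 170034, 25),
  (13647, 7, 166362, 23),
  (13653, 7, 209222, 23),
  (13655, 7, 78150, 23),
  (13663, 6, 26839, 20),
  (13667, 6, 191863, 22),
  (13681, 7, 26826, 20),
  (13683, 6, 191489, 22),
  (13689, 7, 26842, 20),
  (13691, 7, 170466, 25),
  (13701, 7, 219462, 23),
  (13703, 6, 244189, 22),
  (13709, 7, 106734, 24),
  (13711, 7, 106750, 24),
  (13719, 6, 243713, 22),
  (13729, 7, 141418, 20),
  (13737, 7, 133291, 23),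
  (13739, 7, 141438, 20),
  (13745, 7, 172430, 24),
  (13753, 7, 164331, 25),
  (13755, 7, 172510, 24),
  (13761, 7, 227590, 23),
  (13763, 6, 38289, 15),
  (13779, 6, 194561, 22),
  (13785, 6, 205275, 12),
  (13787, 7, 53427, 21),
  (13797, 8, 163065, 14),
  (13823, 8, 186547, 21),
  (14347, 6, 114904, 24),
  (14351, 6, 49496, 25),
  (14369, 6, 124305, 37),
  (14370, 6, 237912, 25),
  (14378, 6, 180616, 26),
  (14385, 6, 180616, 24),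
  (14401, 7, 108550, 23),
  (14405, 7, 209282, 26),
  (14409, 7, 147572, 25),
  (14410, 7, 65622, 40),
  (14417, 7, 74122, 26),
  (14426, 6, 167956, 25),
  (14429, 7, 34966, 23),
  (14439, 7, 258434, 26),
  (14447, 7, 192898, 26),
  (14451, 7, 119220, 25),
  (14459, 7, 57738, 26),
  (14463, 6, 29999, 19),
  (14466, 6, 73742, 16),
  (14469, 6, 114858, 24),
  (14477, 6, 34978, 23),
  (14478, 7, 114930, 24),
  (14486, 7, 49330, 24),
  (14490, 7, 49362, 24),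
  (14494, 6, 158, 14),
  (14507, 7, 246234, 24),
  (14511, 6, 196860, 26),
  (14515, 6, 7487, 20),
  (14519, 5, 196988, 26),
  (14523, 7, 231699, 21),
  (14535, 7, 256070, 23),
  (14539, 6, 178473, 25),
  (14543, 6, 114939, 24),
  (14555, 7, 2550, 23),
  (14561, 7, 166270, 19),
  (14562, 6, 129206, 8),
  (14565, 7, 244098, 26),
  (14566, 7, 252290, 26),
  (14570, 5, 129214, 8),
  (14573, 7, 178562, 26),
  (14574, 6, 127166, 8),
  (14578, 6, 127046, 4),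
  (14582, 6, 129090, 4),
  (14590, 6, 39162, 13),
  (14598, 6, 286, 11),
  (14601, 6, 114892, 24),
  (14609, 6, 71718, 19),
  (14618, 5, 139550, 1),
  (14621, 6, 2218, 19),
  (14627, 7, 246172, 24),
  (14631, 5, 319, 11),
  (14643, 7, 176362, 25),
  (14651, 6, 162831, 1),
  (14655, 6, 95407, 19),
  (14659, 6, 243718, 23),
  (14663, 6, 243782, 23),
  (14667, 7, 124385, 37),
  (14679, 6, 241734, 23),
  (14687, 5, 35230, 23),
  (14689, 7, 198974, 19),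
  (14694, 7, 93303, 22),
  (14697, 7, 215326, 19),
  (14698, 6, 194630, 2),
  (14702, 6, 192582, 2),
  (14705, 7, 174306, 25),
  (14706, 6, 192526, 10),
  (14710, 5, 194570, 10),
  (14713, 7, 174562, 25),
  (14723, 6, 251910, 23),
  (14739, 6, 36215, 20),
  (14743, 6, 191793, 20),
  (14747, 7, 49374, 24),
  (14751, 6, 35246, 23),
  (14754, 6, 90414, 16),
  (14757, 7, 63674, 19),
  (14762, 6, 213150, 10),
  (14766, 6, 196926, 5),
  (14769, 6, 38267, 20),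
  (14770, 6, 196798, 7),
  (14773, 6, 193841, 20),
  (14774, 5, 74158, 11),
  (14777, 7, 180686, 24),
  (14778, 7, 180694, 24),
  (14782, 5, 147646, 14),
  (14785, 6, 129030, 23),
  (14786, 6, 243786, 15),
  (14789, 6, 129094, 23),
  (14790, 6, 194630, 23),
  (14794, 6, 240090, 6),
  (14801, 7, 235878, 19),
  (14805, 6, 127046, 23),
  (14806, 5, 35230, 12),
  (14809, 6, 205277, 12),
  (14814, 5, 35134, 23),
  (14827, 8, 62485, 41),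
  (14831, 7, 155903, 14),
  (14839, 7, 36287, 23),
  (14843, 8, 95725, 19),
  (14847, 7, 220537, 2),
  (15361, 6, 172072, 25),
  (15365, 6, 123048, 24),
  (15379, 6, 57496, 24),
  (15383, 6, 57528, 24),
  (15385, 6, 9255, 20),
  (15389, 6, 57576, 24),
  (15459, 7, 237994, 26),
  (15463, 6, 90604, 25),
  (15465, 6, 95407, 20),
  (15467, 6, 213244, 25),
  (15469, 7, 247079, 22),
  (15477, 7, 127404, 25),
  (15485, 7, 258220, 25),
  (15487, 7, 166295, 23),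
  (15527, 6, 213116, 26),
  (15529, 6, 29999, 20),
  (15531, 5, 191, 8),
  (15533, 6, 213212, 26),
  (15535, 6, 213244, 26),
  (15541, 5, 191, 4),
  (15543, 6, 213372, 26),
  (15549, 6, 213468, 26),
  (15551, 7, 188922, 24),
  (15553, 7, 256262, 23),
  (15555, 7, 207274, 26),
  (15557, 7, 174137, 25),
  (15559, 7, 211362, 26),
  (15561, 7, 158122, 26),
  (15563, 6, 133618, 23),
  (15571, 7, 178273, 25),
  (15577, 7, 133366, 23),
  (15579, 7, 133622, 23),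
  (15581, 7, 166070, 23),
  (15583, 7, 14754, 26),
  (15651, 7, 176290, 25),
  (15655, 7, 176306, 25),
  (15657, 7, 172458, 25),
  (15661, 7, 254444, 24),
  (15663, 6, 238935, 22),
  (15669, 6, 167141, 21),
  (15675, 7, 176610, 25),
  (15677, 7, 89109, 19),
  (15679, 7, 176626, 25),
  (15681, 7, 174122, 25),
  (15691, 7, 178466, 25),
  (15693, 7, 254261, 22),
  (15697, 7, 174186, 25),
  (15699, 7, 57501, 24),
  (15707, 7, 184739, 21),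
  (15709, 7, 57581, 24),
  (15711, 7, 133291, 19),
  (15747, 6, 52595, 20),
  (15749, 7, 172091, 25),
  (15751, 6, 7569, 15),
  (15755, 7, 123102, 24),
  (15761, 7, 250118, 23),
  (15763, 7, 119046, 23),
  (15765, 6, 57518, 24),
  (15769, 6, 211969, 3),
  (15771, 7, 57566, 24),
  (15847, 7, 194747, 19),
  (15849, 7, 205295, 12),
  (15853, 8, 103685, 41),
  (15859, 8, 92605, 37),
  (15861, 7, 126363, 5),
  (15865, 8, 128407, 5),
  (16387, 4, 4102, 20),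
  (16389, 4, 65584, 25),
  (16390, 3, 304, 24),
  (16393, 4, 65824, 25),
  (16394, 4, 2114, 22),
  (16396, 4, 65808, 25),
  (16399, 5, 90360, 26),
  (16401, 4, 2114, 21),
  (16402, 4, 65808, 24),
  (16404, 4, 65824, 24),
  (16407, 6, 156024, 26),
  (16413, 6, 205272, 26),
  (16414, 5, 213480, 26),
  (16419, 4, 4110, 20),
  (16421, 4, 65712, 25),
  (16422, 4, 131120, 24),
  (16425, 4, 65952, 25),
  (16426, 4, 32838, 22),
  (16428, 4, 65936, 25),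
  (16433, 4, 2118, 21),
  (16434, 4, 196624, 24),
  (16436, 4, 196640, 24),
  (16449, 4, 36940, 21),
  (16452, 4, 36938, 26),
  (16455, 6, 213474, 22),
  (16456, 4, 147472, 19),
  (16464, 4, 2058, 21),
  (16467, 6, 20646, 20),
  (16470, 6, 45268, 25),
  (16473, 6, 20658, 20),
  (16481, 4, 36868, 21),
  (16484, 4, 4170, 26),
  (16488, 3, 304, 19),
  (16491, 6, 90178, 26),
  (16493, 5, 212998, 22),
  (16496, 4, 2062, 21),
  (16501, 6, 286, 19),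
  (16505, 5, 316, 19),
  (16506, 6, 213058, 26),
  (16508, 6, 314, 19),
  (16511, 5, 319, 19),
  (16514, 4, 4170, 22),
  (16516, 4, 36868, 26),
  (16519, 6, 314, 24),
  (16520, 4, 6154, 22),
  (16523, 6, 346, 24),
  (16525, 5, 362, 24),
  (16528, 3, 176, 1),
  (16538, 6, 35853, 22),
  (16546, 4, 36930, 22),
  (16548, 4, 36932, 26),
  (16551, 7, 205033, 37),
  (16552, 4, 4102, 22),
  (16557, 5, 118, 19),
  (16560, 3, 176, 2),
  (16563, 7, 10454, 21),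
  (16569, 6, 124, 19),
  (16572, 6, 122, 19),
  (16585, 7, 90601, 39),
  (16591, 5, 379, 24),
  (16594, 7, 182338, 26),
  (16599, 6, 194634, 26),
  (16600, 5, 90360, 1),
  (16605, 6, 243786, 26),
  (16606, 6, 129206, 10),
  (16613, 6, 342, 19),
  (16617, 6, 372, 19),
  (16623, 5, 375, 19),
  (16625, 6, 348, 19),
  (16628, 6, 346, 19),
  (16631, 6, 161866, 26),
  (16632, 6, 376, 19),
  (16635, 5, 381, 19),
  (16638, 5, 379, 19),
  (16641, 4, 4162, 20),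
  (16642, 4, 4164, 20),
  (16647, 5, 316, 24),
  (16648, 4, 16528, 19),
  (16651, 6, 348, 24),
  (16654, 6, 372, 24),
  (16656, 3, 304, 7),
  (16661, 6, 73886, 19),
  (16666, 7, 20596, 20),
  (16668, 6, 155964, 7),
  (16673, 4, 4170, 20),
  (16674, 4, 4172, 20),
  (16679, 6, 245796, 21),
  (16680, 4, 65712, 19),
  (16685, 6, 204806, 22),
  (16688, 3, 304, 5),
  (16691, 6, 18630, 21),
  (16697, 6, 196684, 24),
  (16700, 5, 316, 14),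
  (16710, 6, 90354, 22),
  (16719, 5, 381, 24),
  (16721, 6, 1329, 22),
  (16727, 7, 18890, 21),
  (16739, 6, 71850, 25),
  (16745, 6, 155654, 22),
  (16746, 6, 57414, 22),
  (16748, 5, 90118, 22),
  (16756, 7, 67794, 25),
  (16763, 7, 18639, 21),
  (16771, 6, 286, 24),
  (16773, 6, 302, 24)]

theorem chk_rows1_1 : rows1_1.all (rowBP1 tr1 bm1 gensLitP gensListP 1) = true := by decide +kernel

/-- Rows 1600 to 2399. -/
def rows1_2 : List (ℕ × ℕ × ℕ × ℕ) := [(16774, 5, 212998, 15),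
  (16778, 6, 342, 24),
  (16780, 6, 358, 24),
  (16785, 6, 156033, 4),
  (16791, 7, 27090, 21),
  (16792, 6, 65862, 24),
  (16797, 7, 73982, 19),
  (16798, 7, 69979, 25),
  (16806, 5, 212998, 3),
  (16815, 6, 241734, 22),
  (16817, 6, 147857, 10),
  (16818, 6, 196630, 24),
  (16820, 6, 26902, 21),
  (16827, 6, 26839, 21),
  (16829, 7, 196718, 24),
  (16833, 7, 45164, 21),
  (16839, 5, 319, 24),
  (16843, 6, 162170, 22),
  (16846, 5, 375, 24),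
  (16848, 6, 115144, 20),
  (16851, 7, 26842, 21),
  (16853, 6, 1465, 22),
  (16854, 7, 27034, 21),
  (16863, 7, 36285, 22),
  (16866, 7, 61506, 22),
  (16868, 6, 37959, 26),
  (16875, 6, 192582, 22),
  (16878, 6, 127046, 22),
  (16883, 7, 34107, 22),
  (16889, 7, 151802, 20),
  (16890, 7, 151804, 20),
  (16892, 7, 26911, 21),
  (16895, 7, 36287, 22),
  (17409, 4, 6146, 20),
  (17411, 4, 6150, 20),
  (17421, 6, 8552, 24),
  (17423, 6, 90328, 26),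
  (17433, 6, 65896, 25),
  (17441, 4, 6154, 20),
  (17443, 4, 6158, 20),
  (17463, 6, 123000, 25),
  (17465, 5, 204872, 24),
  (17477, 7, 240709, 37),
  (17481, 7, 193809, 44),
  (17483, 7, 182626, 22),
  (17489, 6, 22690, 20),
  (17491, 6, 67786, 21),
  (17503, 7, 241770, 26),
  (17509, 6, 213058, 22),
  (17511, 7, 12394, 26),
  (17513, 6, 147526, 22),
  (17533, 6, 36327, 22),
  (17535, 6, 162817, 19),
  (17541, 7, 53268, 26),
  (17553, 7, 75858, 21),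
  (17555, 7, 74010, 24),
  (17575, 7, 139322, 24),
  (17577, 5, 139338, 24),
  (17585, 6, 204810, 24),
  (17597, 7, 53716, 26),
  (17599, 6, 204922, 24),
  (17601, 6, 59490, 26),
  (17603, 6, 110668, 21),
  (17615, 6, 252394, 22),
  (17621, 6, 34281, 22),
  (17625, 6, 90363, 1),
  (17627, 7, 239714, 26),
  (17633, 6, 137354, 20),
  (17635, 6, 37012, 21),
  (17645, 6, 191863, 19),
  (17647, 6, 191489, 19),
  (17657, 6, 204875, 24),
  (17659, 6, 194561, 19),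
  (17671, 6, 6215, 20),
  (17683, 6, 84162, 21),
  (17695, 6, 74108, 24),
  (17701, 6, 6219, 20),
  (17705, 5, 139340, 24),
  (17725, 6, 7487, 5),
  (17727, 6, 204924, 24),
  (17731, 6, 188786, 22),
  (17741, 6, 54419, 26),
  (17749, 7, 84298, 21),
  (17781, 7, 67834, 25),
  (17783, 6, 54643, 26),
  (17785, 6, 36215, 22),
  (17787, 7, 22782, 20),
  (17805, 6, 244122, 22),
  (17807, 6, 244186, 22),
  (17815, 6, 74046, 24),
  (17817, 7, 153714, 20),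
  (17825, 6, 139278, 24),
  (17851, 7, 153726, 20),
  (17865, 6, 194874, 22),
  (17867, 6, 194938, 22),
  (17885, 7, 36349, 22),
  (17893, 7, 225346, 22),
  (17905, 6, 204815, 24),
  (17917, 7, 243173, 6),
  (18433, 4, 16560, 25),
  (18434, 4, 16656, 24),
  (18437, 4, 82064, 25),
  (18438, 4, 16688, 24),
  (18465, 4, 81968, 25),
  (18466, 4, 147472, 24),
  (18469, 4, 16528, 25),
  (18470, 4, 147504, 24),
  (18475, 6, 90184, 26),
  (18483, 5, 155720, 26),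
  (18489, 5, 204872, 26),
  (18490, 6, 213064, 26),
  (18503, 7, 61506, 26),
  (18506, 6, 18658, 22),
  (18509, 6, 149522, 19),
  (18514, 5, 118, 16),
  (18523, 7, 184820, 25),
  (18531, 6, 24650, 26),
  (18535, 7, 147513, 24),
  (18538, 6, 81994, 26),
  (18545, 5, 139338, 26),
  (18546, 6, 147530, 26),
  (18549, 6, 143426, 26),
  (18550, 6, 24646, 14),
  (18559, 7, 225346, 26),
  (18563, 7, 36924, 26),
  (18573, 6, 74033, 25),
  (18578, 6, 182, 1),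
  (18581, 6, 33052, 26),
  (18591, 6, 82298, 24),
  (18599, 7, 147514, 24),
  (18601, 6, 74145, 25),
  (18613, 6, 33116, 26),
  (18614, 6, 182, 2),
  (18623, 6, 213114, 24),
  (18625, 6, 174406, 19),
  (18630, 5, 81990, 5),
  (18639, 6, 129090, 26),
  (18643, 6, 190538, 26),
  (18649, 6, 239690, 26),
  (18650, 6, 247882, 26),
  (18653, 6, 243778, 26),
  (18654, 6, 251970, 26),
  (18658, 5, 81990, 16),
  (18675, 7, 141534, 21),
  (18681, 6, 90189, 2),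
  (18691, 6, 139730, 22),
  (18695, 6, 205138, 22),
  (18701, 6, 207122, 22),
  (18702, 6, 302, 8),
  (18706, 6, 155654, 7),
  (18709, 7, 73842, 25),
  (18719, 6, 82300, 24),
  (18723, 6, 77994, 25),
  (18727, 6, 114980, 21),
  (18730, 6, 302, 4),
  (18734, 7, 147572, 24),
  (18737, 6, 213004, 24),
  (18741, 7, 251211, 42),
  (18742, 5, 155958, 5),
  (18751, 6, 213116, 24),
  (18754, 6, 358, 16),
  (18757, 6, 133266, 19),
  (18771, 6, 36215, 7),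
  (18775, 7, 149962, 21),
  (18777, 7, 227630, 19),
  (18778, 7, 80202, 25),
  (18782, 6, 6522, 16),
  (18786, 7, 123074, 22),
  (18789, 6, 141442, 19),
  (18790, 6, 147526, 14),
  (18795, 6, 38139, 26),
  (18803, 6, 38267, 26),
  (18807, 6, 36145, 5),
  (18809, 6, 38363, 26),
  (18810, 6, 38379, 26),
  (18817, 7, 143770, 22),
  (18835, 6, 252397, 23),
  (18839, 6, 82238, 24),
  (18842, 6, 156046, 13),
  (18846, 5, 74158, 8),
  (18849, 6, 147470, 24),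
  (18853, 7, 97459, 43),
  (18859, 7, 147550, 24),
  (18867, 6, 251905, 23),
  (18874, 6, 74046, 4),
  (18877, 6, 158039, 21),
  (18878, 6, 196926, 17),
  (18889, 6, 157785, 21),
  (18890, 6, 251970, 15),
  (18897, 6, 129277, 23),
  (18898, 6, 194941, 23),
  (18901, 7, 158042, 21),
  (18919, 6, 147519, 24),
  (18921, 7, 256374, 19),
  (18925, 7, 190594, 19),
  (18926, 6, 251918, 3),
  (18929, 6, 129025, 23),
  (18930, 6, 194561, 23),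
  (18939, 7, 244195, 6),
  (18943, 7, 213119, 24),
  (19473, 6, 73832, 25),
  (19479, 6, 57576, 25),
  (19497, 5, 155720, 24),
  (19499, 6, 73832, 26),
  (19509, 6, 221224, 24),
  (19521, 7, 180642, 22),
  (19523, 7, 16572, 25),
  (19527, 7, 24748, 25),
  (19547, 6, 93339, 20),
  (19549, 7, 258146, 26),
  (19551, 7, 69093, 22),
  (19555, 7, 81980, 25),
  (19557, 7, 102788, 21),
  (19579, 7, 246140, 25),
  (19587, 7, 24858, 24),
  (19589, 7, 24874, 24),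
  (19591, 7, 49212, 26),
  (19611, 6, 90458, 24),
  (19613, 6, 90303, 1),
  (19615, 6, 90490, 24),
  (19617, 6, 155658, 24),
  (19619, 7, 53372, 26),
  (19621, 7, 49244, 26),
  (19643, 6, 90127, 2),
  (19657, 7, 186794, 22),
  (19659, 6, 207065, 21),
  (19665, 7, 75881, 25),
  (19667, 7, 174186, 26),
  (19669, 6, 36087, 10),
  (19671, 7, 79985, 25),
  (19689, 6, 155723, 24),
  (19693, 6, 208141, 20),
  (19697, 7, 206942, 21),
  (19699, 6, 126199, 11),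
  (19715, 6, 35915, 20),
  (19719, 6, 37901, 20),
  (19739, 6, 90460, 24),
  (19743, 6, 90492, 24),
  (19745, 6, 155660, 24),
  (19749, 6, 35853, 20),
  (19771, 7, 78306, 25),
  (19785, 6, 190898, 22),
  (19787, 6, 215241, 21),
  (19789, 7, 78299, 23),
  (19817, 6, 155725, 24),
  (19825, 7, 76010, 25),
  (19829, 7, 212253, 19),
  (19831, 6, 215502, 21),
  (19849, 5, 431, 15),
  (19855, 7, 24958, 24),
  (19857, 7, 223314, 21),
  (19859, 6, 90398, 24),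
  (19861, 6, 90414, 24),
  (19863, 6, 90430, 24),
  (19883, 7, 53501, 26),
  (19887, 6, 220577, 12),
  (19893, 7, 99803, 22),
  (19905, 7, 192954, 22),
  (19909, 7, 176364, 21),
  (19911, 6, 36257, 15),
  (19929, 7, 249149, 17),
  (19931, 7, 205167, 2),
  (19937, 6, 213479, 12),
  (19941, 7, 119220, 21),
  (20481, 4, 196640, 25),
  (20482, 4, 2118, 22),
  (20484, 4, 196624, 25),
  (20489, 4, 196896, 25),
  (20490, 3, 70, 22),
  (20492, 4, 196880, 25),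
  (20499, 6, 98584, 24),
  (20502, 6, 237960, 25),
  (20510, 6, 213352, 26),
  (20513, 4, 196768, 25),
  (20514, 4, 34882, 22),
  (20516, 4, 196752, 25),
  (20519, 6, 57528, 26),
  (20521, 4, 197024, 25),
  (20522, 4, 34886, 22),
  (20524, 4, 197008, 25),
  (20531, 6, 180616, 25),
  (20533, 6, 229416, 24),
  (20547, 7, 123074, 26),
  (20555, 6, 147814, 22),
  (20557, 6, 213414, 22),
  (20558, 6, 82150, 22),
  (20561, 6, 49636, 25),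
  (20562, 6, 122, 16),
  (20564, 7, 24858, 19),
  (20569, 6, 180452, 25),
  (20570, 7, 28852, 20),
  (20572, 6, 124, 4),
  (20575, 6, 36257, 22),
  (20579, 7, 182338, 22),
  (20590, 7, 20682, 26),
  (20593, 6, 204994, 26),
  (20596, 6, 124, 8),
  (20601, 6, 16700, 19),
  (20602, 6, 24650, 14),
  (20621, 6, 196913, 25),
  (20622, 5, 81934, 15),
  (20625, 7, 240709, 41),
  (20628, 6, 188, 10),
  (20631, 7, 102708, 26),
  (20633, 6, 24700, 19),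
  (20634, 5, 186, 1),
  (20636, 6, 24698, 19),
  (20639, 7, 98682, 24),
  (20645, 6, 196785, 25),
  (20646, 5, 81934, 3),
  (20651, 6, 163930, 24),
  (20658, 5, 186, 2),
  (20665, 7, 159802, 20),
  (20666, 6, 35851, 22),
  (20668, 6, 90300, 2),
  (20671, 6, 159807, 20),
  (20673, 7, 153902, 22),
  (20682, 6, 234, 14),
  (20691, 6, 202857, 25),
  (20694, 5, 129214, 10),
  (20701, 7, 24958, 19),
  (20706, 5, 82154, 7),
  (20711, 6, 251970, 22),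
  (20713, 7, 10434, 26),
  (20734, 6, 39154, 2),
  (20739, 6, 33052, 24),
  (20747, 5, 139606, 22),
  (20749, 5, 205206, 22),
  (20750, 6, 147470, 15),
  (20753, 7, 193809, 38),
  (20754, 6, 314, 16),
  (20761, 6, 90300, 19),
  (20764, 6, 90298, 19),
  (20767, 6, 90303, 19),
  (20774, 6, 302, 12),
  (20782, 7, 201114, 25),
  (20785, 7, 196834, 25),
  (20786, 7, 28780, 20),
  (20794, 6, 155962, 5),
  (20796, 6, 82106, 19),
  (20799, 7, 229500, 24),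
  (20802, 5, 362, 16),
  (20807, 7, 33085, 24),
  (20809, 5, 155958, 22),
  (20810, 6, 24694, 22),
  (20812, 6, 90294, 22),
  (20819, 6, 38267, 7),
  (20821, 6, 90526, 19),
  (20827, 6, 36145, 22),
  (20830, 6, 6518, 16),
  (20842, 6, 147530, 14),
  (20847, 7, 203194, 25),
  (20851, 7, 34103, 22),
  (20853, 6, 82334, 19),
  (20854, 6, 162170, 5),
  (20859, 6, 211969, 23),
  (20862, 7, 203226, 25),
  (20865, 6, 143426, 20),
  (20876, 6, 90354, 19),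
  (20879, 6, 7599, 15),
  (20885, 6, 1437, 22),
  (20891, 6, 90365, 19),
  (20894, 6, 90363, 19),
  (20897, 6, 145410, 22),
  (20900, 6, 428, 12),
  (20903, 6, 243778, 22),
  (20906, 6, 143452, 20),
  (20908, 7, 79878, 22),
  (20911, 6, 243782, 22),
  (20915, 7, 34079, 22),
  (20923, 6, 220161, 23),
  (20933, 6, 90582, 19),
  (20939, 7, 143574, 20),
  (20948, 6, 155868, 17),
  (20951, 7, 90591, 19),
  (20953, 6, 97471, 23),
  (20954, 6, 163135, 23),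
  (20956, 6, 196860, 4),
  (20959, 7, 191709, 8),
  (20965, 6, 82390, 19),
  (20966, 6, 129090, 22),
  (20971, 6, 194630, 22),
  (20974, 6, 129094, 22),
  (20977, 6, 82396, 19),
  (20980, 5, 196988, 8),
  (20985, 6, 97281, 23),
  (20986, 6, 162817, 23),
  (20988, 6, 74108, 13),
  (21531, 6, 180456, 25),
  (21541, 6, 172072, 24),
  (21543, 6, 57496, 26),
  (21563, 6, 210219, 37),
  (21569, 7, 182566, 22),
  (21579, 7, 147628, 25),
  (21589, 6, 34277, 22),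
  (21591, 7, 241898, 26),
  (21599, 7, 176362, 26),
  (21603, 7, 73954, 26),
  (21609, 7, 217132, 25),
  (21611, 7, 14494, 20),
  (21621, 7, 127356, 25),
  (21629, 7, 159978, 26),
  (21633, 6, 83361, 23),
  (21643, 6, 145430, 20),
  (21653, 6, 34253, 22),
  (21655, 5, 191, 10),
  (21663, 7, 119220, 26),
  (21667, 6, 172058, 24),
  (21693, 6, 97457, 11),
  (21695, 7, 119284, 26),
  (21701, 5, 252334, 22),
  (21709, 6, 250286, 22),
  (21715, 7, 161958, 20),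
  (21723, 7, 174306, 26),
  (21735, 7, 172091, 24),
  (21741, 6, 219206, 22),
  (21743, 6, 251910, 22),
  (21747, 7, 207074, 26),
  (21755, 7, 161982, 20),
  (21783, 6, 230759, 21),
  (21789, 5, 196986, 25),
  (21791, 6, 7345, 19),
  (21793, 6, 172044, 24),
  (21801, 6, 141382, 22),
  (21813, 6, 196858, 25),
  (21815, 7, 200946, 25),
  (21831, 7, 202802, 25),
  (21861, 6, 198842, 25),
  (21863, 6, 119923, 26),
  (21869, 7, 199098, 25),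
  (21873, 7, 198890, 25),
  (21881, 7, 199146, 25),
  (21883, 7, 203234, 25),
  (21893, 6, 244126, 22),
  (21895, 7, 41278, 24),
  (21901, 6, 126023, 19),
  (21903, 6, 36017, 19),
  (21907, 7, 106782, 24),
  (21913, 6, 129101, 19),
  (21915, 6, 39089, 19),
  (21935, 6, 243718, 22),
  (21945, 7, 161914, 20),
  (21955, 6, 38305, 15),
  (21961, 6, 192830, 22),
  (21963, 7, 145622, 20),
  (21973, 7, 126425, 11),
  (21975, 8, 234757, 44),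
  (21981, 7, 36345, 22),
  (21993, 6, 250881, 3),
  (21995, 6, 194566, 22),
  (22005, 8, 163017, 14),
  (22007, 8, 63583, 40),
  (22535, 6, 185505, 44),
  (22539, 6, 11279, 20),
  (22549, 6, 98584, 26),
  (22553, 6, 115016, 24),
  (22575, 6, 98552, 26),
  (22578, 6, 213192, 26),
  (22586, 6, 147656, 26),
  (22589, 6, 245864, 24),
  (22593, 6, 141606, 19),
  (22598, 6, 84070, 22),
  (22611, 7, 254154, 26),
  (22619, 6, 241111, 23),
  (22623, 6, 72761, 20),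
  (22629, 6, 185467, 44),
  (22630, 7, 86210, 26),
  (22633, 6, 8394, 26),
  (22647, 7, 127332, 25),
  (22651, 6, 240641, 23),
  (22655, 7, 258148, 25),
  (22657, 6, 137614, 22),
  (22661, 6, 204849, 25),
  (22665, 6, 205089, 25),
  (22666, 6, 82094, 10),
  (22670, 5, 81934, 5),
  (22675, 7, 102716, 26),
  (22683, 6, 7345, 10),
  (22690, 5, 81934, 16),
  (22693, 6, 204977, 25),
  (22694, 6, 82094, 11),
  (22697, 6, 205217, 25),
  (22701, 6, 180330, 24),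
  (22711, 6, 90303, 11),
  (22715, 6, 248833, 23),
  (22719, 7, 134457, 20),
  (22723, 6, 125130, 26),
  (22731, 7, 152046, 22),
  (22735, 7, 217454, 22),
  (22737, 7, 239818, 26),
  (22738, 6, 127166, 10),
  (22741, 7, 186418, 19),
  (22742, 6, 39098, 1),
  (22745, 6, 126199, 23),
  (22746, 6, 191863, 23),
  (22749, 7, 170034, 19),
  (22755, 7, 252098, 22),
  (22763, 7, 26826, 26),
  (22767, 6, 180347, 24),
  (22777, 6, 125953, 23),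
  (22778, 6, 129270, 11),
  (22782, 6, 127222, 11),
  (22785, 6, 75814, 19),
  (22786, 6, 302, 16),
  (22790, 7, 208922, 25),
  (22794, 7, 209162, 25),
  (22803, 6, 7487, 7),
  (22811, 7, 209258, 25),
  (22815, 7, 115068, 24),
  (22818, 7, 209034, 25),
  (22821, 6, 141442, 22),
  (22825, 6, 206982, 22),
  (22830, 6, 147470, 14),
  (22839, 7, 95255, 39),
  (22843, 7, 245852, 24),
  (22847, 6, 155663, 14),
  (22851, 7, 210986, 25),
  (22855, 7, 49469, 24),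
  (22859, 6, 243163, 23),
  (22865, 6, 194561, 16),
  (22869, 7, 111673, 20),
  (22870, 7, 211034, 25),
  (22873, 7, 227598, 19),
  (22883, 6, 256194, 22),
  (22891, 6, 242689, 23),
  (22895, 7, 190662, 22),
  (22897, 7, 211262, 19),
  (22902, 7, 211162, 25),
  (22905, 7, 207330, 25),
  (22909, 6, 155725, 14),
  (22923, 6, 251371, 23),
  (22929, 7, 114958, 24),
  (22930, 7, 51549, 20),
  (22933, 7, 177465, 20),
  (22934, 5, 147646, 2),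
  (22938, 7, 115030, 24),
  (22941, 7, 115054, 24),
  (22947, 7, 180254, 24),
  (22951, 7, 180286, 24),
  (22955, 6, 250881, 23),
  (22959, 7, 178374, 22),
  (22961, 7, 112766, 19),
  (22962, 7, 245782, 24),
  (22965, 7, 66975, 22),
  (22970, 6, 147870, 1),
  (22973, 7, 47266, 19),
  (22977, 7, 99803, 20),
  (22978, 6, 252394, 6),
  (22981, 6, 252397, 6),
  (22985, 6, 128251, 23),
  (22986, 6, 248298, 6),
  (22995, 8, 252215, 17),
  (23014, 6, 35246, 12),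
  (23017, 6, 213485, 12),
  (23018, 6, 193537, 23),
  (23021, 7, 161926, 22),
  (23022, 6, 251910, 3),
  (23039, 8, 232761, 20),
  (23557, 6, 114712, 26),
  (23559, 6, 57656, 24),
  (23561, 6, 57576, 26),
  (23563, 6, 41192, 26),
  (23597, 6, 114904, 26),
  (23599, 6, 221224, 25),
  (23633, 7, 83103, 20),
  (23637, 7, 258274, 26),
  (23645, 7, 192738, 26),
  (23667, 6, 205034, 26),
  (23669, 7, 146749, 19),
  (23671, 6, 123244, 25),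
  (23673, 6, 155882, 26),
  (23675, 7, 245884, 25),
  (23697, 7, 17695, 20),
  (23699, 7, 123162, 24),
  (23701, 7, 146749, 20),
  (23709, 6, 101781, 21),
  (23729, 6, 119132, 26),
  (23733, 7, 253994, 24),
  (23735, 7, 117059, 23),
  (23737, 7, 119260, 26),
  (23739, 7, 119292, 26),
  (23745, 7, 66975, 20),
  (23747, 7, 108778, 26),
  (23749, 7, 252206, 22),
  (23755, 7, 57691, 24),
  (23759, 7, 211249, 25),
  (23779, 7, 76010, 26),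
  (23781, 7, 96482, 26),
  (23791, 7, 14562, 26),
  (23825, 7, 123148, 24),
  (23829, 6, 204922, 25),
  (23833, 6, 205162, 25),
  (23837, 5, 319, 7),
  (23857, 6, 205034, 25),
  (23859, 5, 319, 5),
  (23861, 6, 205050, 25),
  (23863, 6, 209138, 25),
  (23865, 6, 205290, 25),
  (23873, 7, 206890, 25),
  (23875, 7, 102765, 21),
  (23877, 7, 256310, 22),
  (23879, 7, 256374, 22),
  (23883, 7, 186789, 21),
  (23907, 6, 110851, 23),
  (23911, 7, 190594, 22),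
  (23913, 7, 207274, 25),
  (23915, 7, 211362, 25),
  (23917, 7, 207290, 25),
  (23919, 7, 190598, 22),
  (23939, 7, 57630, 24),
  (23943, 6, 7585, 15),
  (23947, 7, 176606, 22),
  (23949, 6, 87531, 23),
  (23951, 7, 242014, 22),
  (23971, 7, 243842, 22),
  (23977, 6, 213423, 12),
  (23979, 6, 44195, 19),
  (23981, 7, 114909, 26),
  (24023, 8, 194779, 8),
  (24027, 8, 170115, 40),
  (24029, 7, 212331, 2),
  (24053, 8, 217533, 42),
  (24055, 8, 240745, 9),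
  (24057, 7, 128455, 20),
  (24577, 4, 32838, 21),
  (24578, 4, 65936, 24),
  (24580, 4, 65952, 24),
  (24589, 6, 74200, 26),
  (24593, 4, 34822, 21),
  (24594, 3, 400, 24),
  (24596, 3, 416, 24),
  (24603, 6, 472, 24),
  (24605, 6, 488, 24),
  (24609, 4, 34882, 21),
  (24610, 4, 196752, 24),
  (24612, 4, 196768, 24),
  (24615, 6, 57656, 26),
  (24622, 6, 115112, 26),
  (24625, 4, 32774, 21),
  (24626, 4, 131216, 24),
  (24628, 4, 131232, 24),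
  (24635, 6, 147656, 25),
  (24645, 6, 176458, 26),
  (24646, 5, 196616, 39),
  (24649, 6, 237890, 26),
  (24650, 5, 8220, 41),
  (24652, 5, 16426, 40),
  (24655, 7, 160244, 25),
  (24666, 7, 20628, 20),
  (24668, 7, 481, 24),
  (24671, 7, 505, 24),
  (24678, 6, 196785, 24),
  (24691, 6, 20622, 20),
  (24694, 5, 197000, 39),
  (24697, 6, 131273, 24),
  (24698, 5, 8204, 41),
  (24700, 5, 16394, 40),
  (24703, 7, 94538, 26),
  (24707, 7, 106694, 21),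
  (24709, 6, 167956, 26),
  (24710, 5, 90118, 15),
  (24713, 7, 163988, 26),
  (24714, 6, 6219, 22),
  (24716, 7, 12402, 19),
  (24719, 7, 135223, 20),
  (24723, 6, 410, 24),
  (24729, 6, 458, 24),
  (24730, 5, 466, 24),
  (24732, 6, 188, 5),
  (24739, 6, 73903, 38),
  (24741, 6, 35223, 44),
  (24748, 6, 188, 7),
  (24751, 6, 196858, 24),
  (24758, 5, 90118, 3),
  (24761, 7, 151578, 20),
  (24767, 7, 168436, 26),
  (24769, 6, 12628, 19),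
  (24782, 6, 127222, 6),
  (24786, 6, 242, 14),
  (24795, 5, 475, 24),
  (24797, 5, 491, 24),
  (24802, 6, 90354, 7),
  (24804, 6, 202762, 40),
  (24811, 7, 223554, 26),
  (24818, 7, 26742, 43),
  (24820, 6, 4442, 19),
  (24823, 7, 151695, 20),
  (24827, 6, 131291, 24),
  (24829, 7, 80202, 26),
  (24830, 6, 126990, 3),
  (24838, 5, 155958, 6),
  (24841, 7, 78004, 19),
  (24847, 7, 102714, 25),
  (24853, 6, 428, 24),
  (24857, 6, 460, 24),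
  (24858, 6, 314, 8),
  (24860, 5, 484, 24),
  (24867, 6, 6331, 41),
  (24869, 6, 74183, 38),
  (24874, 6, 314, 4),
  (24879, 6, 196860, 24),
  (24883, 6, 102634, 25),
  (24885, 7, 180262, 21),
  (24886, 6, 155654, 3),
  (24889, 7, 69820, 19),
  (24890, 7, 20572, 20),
  (24892, 6, 5191, 23),
  (24895, 7, 69823, 19),
  (24898, 6, 69806, 21),
  (24900, 7, 198666, 40),
  (24903, 7, 104506, 25),
  (24907, 7, 104746, 25),
  (24909, 6, 169107, 26),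
  (24910, 6, 192582, 15),
  (24916, 6, 156020, 8),
  (24923, 5, 477, 24),
  (24925, 5, 493, 24),
  (24930, 6, 59446, 43),
  (24932, 6, 372, 13),
  (24941, 7, 100786, 25),
  (24945, 6, 100578, 25),
  (24958, 6, 192526, 3),
  (24973, 6, 168085, 26),
  (24977, 5, 24593, 42),
  (24978, 6, 406, 24),
  (24980, 6, 422, 24),
  (24993, 5, 24609, 42),
  (24999, 6, 196798, 24),
  (25000, 6, 123000, 19),
  (25019, 6, 131294, 24),
  (25029, 7, 78294, 19),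
  (25033, 6, 165015, 26),
  (25039, 7, 36287, 15),
  (25043, 5, 415, 24),
  (25045, 5, 431, 24),
  (25046, 5, 196872, 39),
  (25050, 4, 12308, 41),
  (25052, 4, 20490, 40),
  (25055, 7, 129483, 11),
  (25062, 5, 196744, 39),
  (25066, 5, 12300, 41),
  (25068, 5, 20514, 40),
  (25075, 7, 151758, 20),
  (25081, 6, 131279, 24),
  (25087, 7, 246973, 16),
  (25605, 6, 98360, 25),
  (25611, 6, 74200, 24),
  (25623, 6, 57528, 25),
  (25643, 6, 213352, 25),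
  (25653, 6, 98552, 25),
  (25693, 7, 192956, 25),
  (25709, 6, 249249, 22),
  (25711, 7, 209258, 26),
  (25713, 6, 118828, 25),
  (25715, 6, 210219, 40),
  (25725, 6, 213063, 22),
  (25729, 7, 74122, 24),
  (25747, 7, 34966, 21),
  (25757, 6, 7345, 14),
  (25763, 7, 108610, 21),
  (25773, 6, 205034, 24),
  (25775, 6, 90303, 16),
  (25777, 7, 98454, 21),
  (25779, 7, 139418, 24),
  (25789, 7, 184788, 26),
  (25791, 6, 139514, 24),
  (25803, 7, 137398, 20),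
  (25813, 7, 235670, 21),
  (25815, 7, 47466, 26),
  (25835, 7, 137406, 20),
  (25845, 7, 233622, 21),
  (25847, 7, 14698, 26),
  (25851, 7, 76130, 26),
  (25859, 6, 98406, 21),
  (25869, 6, 74220, 24),
  (25875, 6, 102498, 25),
  (25885, 7, 98682, 25),
  (25901, 6, 241041, 22),
  (25917, 6, 204871, 22),
  (25919, 6, 139516, 24),
  (25925, 6, 185363, 26),
  (25931, 6, 6390, 20),
  (25941, 6, 191559, 8),
  (25945, 7, 80283, 23),
  (25947, 7, 104802, 25),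
  (25959, 5, 375, 13),
  (25961, 5, 6394, 20),
  (25973, 7, 250022, 21),
  (25975, 7, 104690, 25),
  (25977, 6, 155719, 22),
  (25989, 5, 74158, 24),
  (25995, 6, 102691, 25),
  (26007, 7, 252073, 23),
  (26009, 7, 8654, 24),
  (26011, 6, 93395, 21),
  (26021, 6, 204974, 24),
  (26023, 6, 204990, 24),
  (26027, 7, 205022, 24),
  (26039, 6, 139454, 24),
  (26049, 6, 181271, 26)]

theorem chk_rows1_2 : rows1_2.all (rowBP1 tr1 bm1 gensLitP gensListP 1) = true := by decide +kernel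

/-- Rows 2400 to 3199. -/
def rows1_3 : List (ℕ × ℕ × ℕ × ℕ) := [(26051, 7, 137446, 20),
  (26061, 7, 194971, 4),
  (26063, 7, 36285, 15),
  (26065, 7, 100459, 25),
  (26077, 8, 234757, 39),
  (26079, 8, 63583, 42),
  (26083, 7, 137454, 20),
  (26093, 7, 205039, 24),
  (26097, 7, 118966, 21),
  (26631, 6, 114904, 25),
  (26638, 6, 229592, 25),
  (26643, 6, 90328, 25),
  (26650, 6, 115016, 26),
  (26665, 6, 213192, 24),
  (26679, 6, 16600, 25),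
  (26681, 6, 147656, 24),
  (26686, 6, 164328, 26),
  (26689, 6, 124305, 43),
  (26693, 6, 137242, 19),
  (26694, 6, 12484, 25),
  (26703, 6, 205271, 23),
  (26706, 6, 37012, 25),
  (26710, 5, 118, 14),
  (26719, 7, 127298, 26),
  (26722, 6, 24646, 16),
  (26731, 7, 217460, 25),
  (26735, 6, 240711, 23),
  (26742, 6, 147633, 24),
  (26763, 6, 82394, 24),
  (26767, 6, 213479, 23),
  (26769, 6, 168220, 26),
  (26774, 5, 90118, 5),
  (26783, 7, 164284, 26),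
  (26786, 5, 90118, 16),
  (26799, 6, 248903, 23),
  (26801, 6, 168284, 26),
  (26815, 6, 147706, 24),
  (26819, 7, 111054, 21),
  (26823, 7, 241870, 21),
  (26826, 6, 129090, 15),
  (26829, 6, 90359, 23),
  (26830, 6, 129270, 6),
  (26839, 5, 247, 14),
  (26841, 7, 194918, 19),
  (26842, 6, 6390, 14),
  (26845, 6, 152711, 22),
  (26846, 7, 121154, 26),
  (26851, 6, 126129, 16),
  (26861, 5, 194570, 19),
  (26862, 6, 191559, 23),
  (26871, 6, 147643, 24),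
  (26873, 6, 194934, 19),
  (26874, 6, 129034, 3),
  (26878, 6, 129038, 3),
  (26881, 7, 106530, 25),
  (26885, 7, 6298, 19),
  (26891, 6, 82396, 24),
  (26895, 7, 110906, 25),
  (26897, 7, 182566, 21),
  (26902, 5, 155958, 17),
  (26911, 6, 155967, 17),
  (26913, 7, 75806, 19),
  (26914, 5, 155958, 13),
  (26923, 6, 213212, 24),
  (26927, 6, 213244, 24),
  (26933, 7, 147628, 24),
  (26947, 7, 112682, 25),
  (26951, 7, 233710, 21),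
  (26953, 7, 223534, 19),
  (26958, 6, 194934, 6),
  (26963, 7, 252198, 21),
  (26967, 7, 112762, 25),
  (26970, 5, 35134, 8),
  (26985, 7, 223550, 19),
  (26986, 7, 150669, 21),
  (26990, 6, 35194, 4),
  (27001, 7, 227638, 19),
  (27002, 5, 194570, 3),
  (27011, 6, 82334, 24),
  (27018, 6, 156062, 13),
  (27027, 7, 124385, 43),
  (27033, 6, 158803, 21),
  (27034, 6, 147870, 13),
  (27037, 7, 51354, 19),
  (27043, 6, 213150, 24),
  (27047, 6, 213182, 24),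
  (27049, 7, 125054, 19),
  (27050, 6, 213206, 24),
  (27054, 6, 213238, 24),
  (27063, 5, 147646, 24),
  (27065, 6, 129142, 19),
  (27070, 5, 147702, 24),
  (27077, 7, 176238, 21),
  (27078, 6, 139510, 14),
  (27090, 6, 74102, 16),
  (27093, 7, 55606, 21),
  (27099, 8, 62485, 42),
  (27103, 8, 113019, 25),
  (27105, 7, 47466, 21),
  (27106, 7, 121317, 20),
  (27110, 6, 155862, 14),
  (27119, 7, 213247, 24),
  (27121, 7, 244054, 19),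
  (27122, 6, 213238, 7),
  (27125, 6, 147631, 24),
  (27131, 8, 129519, 11),
  (27135, 7, 128343, 7),
  (27651, 6, 172392, 26),
  (27669, 6, 132291, 22),
  (27681, 6, 106664, 25),
  (27687, 6, 90216, 25),
  (27699, 6, 8552, 26),
  (27721, 7, 254314, 26),
  (27725, 6, 159021, 19),
  (27727, 6, 156140, 25),
  (27737, 6, 123242, 26),
  (27743, 6, 181383, 22),
  (27755, 6, 205162, 26),
  (27769, 6, 90474, 26),
  (27773, 6, 93229, 20),
  (27775, 7, 254252, 25),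
  (27785, 5, 191, 15),
  (27787, 6, 90586, 24),
  (27789, 6, 90602, 24),
  (27791, 7, 180412, 26),
  (27803, 5, 25050, 24),
  (27805, 6, 25066, 24),
  (27833, 7, 13623, 20),
  (27837, 6, 155882, 24),
  (27839, 6, 97457, 12),
  (27845, 7, 176334, 21),
  (27847, 6, 36017, 15),
  (27863, 6, 39318, 21),
  (27875, 6, 87335, 40),
  (27877, 7, 87431, 40),
  (27879, 6, 243786, 21),
  (27889, 6, 90359, 12),
  (27891, 7, 249987, 22),
  (27893, 6, 216365, 20),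
  (27913, 5, 319, 15),
  (27917, 6, 90604, 24),
  (27919, 7, 216513, 21),
  (27931, 5, 25052, 24),
  (27933, 6, 25068, 24),
  (27961, 7, 106986, 25),
  (27963, 6, 155868, 24),
  (27965, 6, 155884, 24),
  (27967, 6, 162831, 3),
  (27971, 7, 185403, 26),
  (27973, 6, 208141, 19),
  (27975, 6, 36145, 15),
  (27985, 6, 252326, 21),
  (28001, 6, 39402, 21),
  (28003, 6, 112901, 23),
  (28005, 7, 173413, 43),
  (28017, 6, 191489, 3),
  (28021, 7, 119206, 21),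
  (28033, 6, 90510, 24),
  (28035, 6, 90526, 24),
  (28037, 6, 90542, 24),
  (28065, 7, 43490, 21),
  (28069, 7, 174306, 21),
  (28071, 7, 239714, 21),
  (28083, 6, 155806, 24),
  (28085, 6, 155822, 24),
  (28087, 6, 155838, 24),
  (28105, 7, 90575, 24),
  (28107, 7, 110889, 38),
  (28109, 7, 116875, 44),
  (28111, 8, 129451, 5),
  (28121, 7, 145577, 41),
  (28123, 7, 87171, 40),
  (28127, 7, 27743, 42),
  (28153, 8, 193767, 8),
  (28155, 7, 111033, 38),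
  (28157, 7, 145743, 41),
  (28159, 7, 155903, 24),
  (28683, 6, 115144, 25),
  (28709, 6, 229544, 24),
  (28710, 6, 49576, 26),
  (28715, 6, 229592, 24),
  (28718, 6, 41416, 25),
  (28725, 6, 65607, 23),
  (28737, 6, 238018, 26),
  (28738, 7, 12452, 20),
  (28743, 7, 29172, 25),
  (28745, 6, 147684, 25),
  (28748, 7, 28978, 19),
  (28751, 6, 213479, 22),
  (28756, 6, 24652, 17),
  (28759, 6, 241041, 23),
  (28762, 6, 122, 14),
  (28767, 6, 248903, 22),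
  (28770, 6, 24650, 16),
  (28772, 7, 20754, 19),
  (28778, 7, 147906, 26),
  (28780, 6, 124, 13),
  (28785, 6, 114980, 25),
  (28786, 7, 82370, 26),
  (28791, 6, 204871, 23),
  (28793, 6, 245796, 25),
  (28796, 7, 4554, 26),
  (28799, 7, 29130, 26),
  (28801, 7, 98698, 24),
  (28807, 6, 238023, 21),
  (28810, 6, 90298, 6),
  (28812, 6, 90300, 6),
  (28815, 6, 90303, 6),
  (28820, 7, 28762, 19),
  (28823, 6, 249249, 23),
  (28825, 7, 34839, 21),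
  (28826, 5, 186, 14),
  (28831, 7, 33274, 24),
  (28833, 7, 143402, 20),
  (28834, 6, 90298, 7),
  (28836, 7, 20562, 19),
  (28841, 7, 20596, 19),
  (28842, 6, 5197, 22),
  (28849, 7, 20572, 19),
  (28850, 5, 186, 12),
  (28852, 6, 188, 12),
  (28855, 6, 213063, 23),
  (28858, 6, 38983, 22),
  (28860, 7, 233924, 26),
  (28867, 7, 29013, 19),
  (28883, 7, 159878, 20),
  (28885, 6, 126129, 23),
  (28886, 5, 6394, 14),
  (28891, 5, 251, 14),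
  (28899, 6, 128075, 7),
  (28902, 7, 20819, 19),
  (28907, 6, 229595, 24),
  (28909, 7, 145866, 26),
  (28910, 6, 96502, 7),
  (28917, 6, 90183, 23),
  (28918, 6, 155719, 23),
  (28925, 7, 159899, 20),
  (28926, 7, 159901, 20),
  (28930, 7, 12388, 20),
  (28932, 6, 37901, 23),
  (28937, 7, 12402, 20),
  (28938, 6, 155962, 6),
  (28940, 6, 155964, 6),
  (28943, 6, 155967, 6),
  (28945, 7, 94364, 19),
  (28948, 6, 155964, 8),
  (28951, 7, 233594, 25),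
  (28954, 7, 233802, 25),
  (28959, 6, 240711, 22),
  (28961, 7, 12394, 20),
  (28964, 6, 6215, 23),
  (28969, 7, 86196, 19),
  (28970, 7, 233866, 25),
  (28972, 5, 316, 13),
  (28978, 6, 314, 12),
  (28980, 5, 316, 12),
  (28983, 6, 155663, 3),
  (28985, 7, 28762, 20),
  (28991, 6, 245799, 21),
  (28995, 7, 235562, 25),
  (28998, 7, 235546, 25),
  (29003, 6, 156023, 22),
  (29006, 6, 90359, 22),
  (29013, 6, 194865, 17),
  (29019, 6, 191559, 22),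
  (29021, 7, 231794, 25),
  (29022, 6, 126023, 22),
  (29027, 7, 235690, 25),
  (29029, 6, 231602, 25),
  (29030, 6, 194934, 13),
  (29037, 5, 381, 13),
  (29038, 7, 186494, 37),
  (29053, 6, 28891, 20),
  (29059, 7, 143462, 20),
  (29067, 7, 143478, 20),
  (29069, 7, 98798, 24),
  (29077, 7, 94430, 19),
  (29083, 7, 116791, 21),
  (29091, 7, 229534, 24),
  (29093, 7, 233557, 26),
  (29094, 7, 233573, 26),
  (29099, 7, 232589, 39),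
  (29101, 7, 229614, 24),
  (29102, 7, 233883, 25),
  (29107, 7, 163998, 24),
  (29109, 7, 86238, 19),
  (29117, 7, 164078, 24),
  (29130, 6, 213338, 5),
  (29132, 6, 82300, 13),
  (29137, 7, 94684, 19),
  (29140, 7, 94682, 19),
  (29143, 7, 31825, 42),
  (29145, 7, 162823, 22),
  (29146, 7, 159956, 20),
  (29151, 7, 232783, 39),
  (29170, 6, 90458, 16),
  (29172, 6, 205180, 8),
  (29697, 6, 229416, 25),
  (29715, 6, 49576, 25),
  (29721, 6, 134215, 22),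
  (29729, 6, 229544, 25),
  (29747, 6, 172184, 24),
  (29753, 6, 229864, 25),
  (29773, 7, 107927, 23),
  (29775, 6, 155900, 25),
  (29789, 7, 61930, 26),
  (29797, 7, 94588, 25),
  (29799, 6, 90492, 25),
  (29805, 6, 208197, 23),
  (29823, 6, 30879, 20),
  (29837, 7, 106986, 24),
  (29839, 7, 107002, 24),
  (29853, 7, 250260, 26),
  (29855, 7, 248995, 23),
  (29863, 7, 145455, 20),
  (29871, 6, 165015, 21),
  (29887, 6, 250356, 26),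
  (29889, 7, 91573, 23),
  (29891, 6, 128251, 6),
  (29899, 7, 145590, 20),
  (29907, 7, 111693, 21),
  (29915, 7, 43490, 26),
  (29923, 7, 207330, 26),
  (29939, 7, 76258, 26),
  (29945, 6, 90363, 12),
  (29947, 7, 10722, 26),
  (29959, 7, 233522, 25),
  (29965, 7, 106988, 24),
  (29973, 6, 162831, 8),
  (29983, 7, 41468, 24),
  (29991, 7, 233650, 25),
  (29997, 7, 229818, 25),
  (29999, 5, 319, 13),
  (30017, 7, 14562, 20),
  (30019, 6, 38193, 15),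
  (30025, 7, 231722, 25),
  (30027, 7, 14582, 20),
  (30033, 6, 193841, 17),
  (30049, 6, 14570, 20),
  (30051, 6, 80135, 23),
  (30059, 5, 379, 13),
  (30073, 6, 156027, 12),
  (30083, 7, 106910, 24),
  (30089, 6, 87471, 23),
  (30099, 6, 161862, 20),
  (30107, 7, 220331, 23),
  (30121, 7, 125021, 19),
  (30123, 6, 47273, 19),
  (30129, 6, 161866, 20),
  (30137, 7, 161882, 20),
  (30139, 6, 172254, 24),
  (30149, 7, 39351, 15),
  (30157, 7, 39359, 15),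
  (30165, 8, 30083, 40),
  (30167, 7, 108677, 38),
  (30181, 7, 107811, 43),
  (30183, 7, 108565, 38),
  (30191, 8, 107955, 43),
  (30207, 7, 219487, 2),
  (30725, 6, 115112, 24),
  (30726, 6, 229416, 26),
  (30729, 6, 115144, 24),
  (30734, 6, 229544, 26),
  (30738, 6, 205272, 25),
  (30741, 6, 49576, 24),
  (30745, 6, 9259, 20),
  (30746, 6, 10285, 20),
  (30765, 6, 229592, 26),
  (30774, 6, 59446, 42),
  (30781, 6, 180456, 24),
  (30782, 6, 472, 25),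
  (30787, 6, 20980, 25),
  (30807, 7, 49593, 24),
  (30823, 6, 216421, 22),
  (30827, 6, 156106, 26),
  (30831, 7, 225380, 25),
  (30835, 6, 90570, 26),
  (30839, 7, 93241, 20),
  (30867, 7, 249313, 23),
  (30879, 5, 191, 14),
  (30883, 6, 97457, 16),
  (30887, 7, 247879, 23),
  (30891, 7, 233724, 26),
  (30903, 7, 180410, 24),
  (30907, 7, 233980, 26),
  (30914, 6, 129274, 6),
  (30917, 6, 39089, 15),
  (30938, 7, 244041, 25),
  (30941, 5, 253, 14),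
  (30945, 6, 129101, 7),
  (30953, 6, 240033, 25),
  (30954, 7, 149962, 26),
  (30957, 6, 245995, 24),
  (30961, 7, 178550, 19),
  (30965, 7, 190506, 19),
  (30969, 6, 129025, 3),
  (30970, 7, 18890, 26),
  (30973, 7, 174122, 19),
  (30974, 6, 129030, 3),
  (30979, 6, 141783, 22),
  (30995, 7, 241770, 25),
  (30999, 7, 49596, 24),
  (31011, 7, 100835, 21),
  (31019, 7, 247079, 21),
  (31027, 7, 241898, 25),
  (31031, 7, 180412, 24),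
  (31041, 7, 239650, 25),
  (31042, 5, 243722, 25),
  (31045, 6, 39217, 15),
  (31046, 7, 230443, 26),
  (31049, 7, 234651, 26),
  (31050, 6, 190842, 6),
  (31057, 7, 239714, 25),
  (31058, 6, 39222, 8),
  (31065, 7, 227590, 19),
  (31070, 6, 37182, 8),
  (31074, 6, 37238, 4),
  (31081, 7, 240034, 25),
  (31082, 7, 129253, 20),
  (31086, 6, 39290, 4),
  (31089, 7, 239842, 25),
  (31094, 5, 35134, 12),
  (31097, 6, 156029, 12),
  (31101, 7, 180461, 24),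
  (31102, 6, 39222, 12),
  (31105, 6, 145823, 22),
  (31109, 7, 55482, 19),
  (31110, 6, 155822, 2),
  (31114, 6, 213182, 10),
  (31117, 6, 39098, 19),
  (31118, 6, 139454, 14),
  (31121, 7, 42341, 21),
  (31122, 6, 74046, 16),
  (31126, 6, 90510, 11),
  (31129, 6, 129094, 19),
  (31130, 7, 49622, 24),
  (31137, 6, 54643, 20),
  (31138, 7, 245910, 24),
  (31141, 7, 245934, 24),
  (31146, 6, 196798, 10),
  (31150, 6, 155806, 14),
  (31154, 6, 213182, 7),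
  (31157, 6, 180398, 24),
  (31158, 6, 90542, 11),
  (31161, 7, 180430, 24),
  (31162, 6, 204974, 10),
  (31171, 7, 38327, 15),
  (31195, 7, 59413, 42),
  (31199, 8, 230897, 43),
  (31203, 8, 79145, 40),
  (31211, 7, 59429, 42),
  (31215, 7, 155871, 14),
  (31223, 8, 220497, 2),
  (31231, 7, 124255, 7),
  (31809, 7, 20988, 25),
  (31811, 7, 154683, 19),
  (31815, 6, 25068, 25),
  (31817, 7, 151804, 25),
  (31823, 6, 155884, 25),
  (31825, 6, 216259, 22),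
  (31827, 7, 49596, 25),
  (31831, 7, 57772, 25),
  (31833, 7, 184508, 25),
  (31835, 7, 180412, 25),
  (31839, 6, 208083, 23),
  (31843, 6, 82300, 25),
  (31845, 7, 225762, 26),
  (31851, 6, 213116, 25),
  (31853, 7, 225388, 25),
  (31857, 6, 90602, 26),
  (31863, 7, 78306, 26),
  (31865, 6, 25066, 26),
  (31867, 7, 247943, 22),
  (31871, 7, 83005, 20),
  (31873, 7, 249884, 26),
  (31875, 7, 123290, 24),
  (31879, 6, 7345, 15),
  (31885, 6, 83431, 23),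
  (31889, 7, 57738, 24),
  (31891, 6, 90303, 5),
  (31899, 7, 11563, 20),
  (31901, 7, 246172, 26),
  (31903, 6, 35223, 21),
  (31905, 7, 249948, 26),
  (31907, 6, 23859, 20),
  (31909, 7, 43415, 44),
  (31911, 7, 245884, 26),
  (31913, 7, 229719, 39),
  (31917, 6, 90127, 7),
  (31921, 6, 44481, 21),
  (31927, 7, 246140, 26),
  (31929, 6, 90303, 12),
  (31931, 7, 188634, 24),
  (32003, 7, 123292, 24),
  (32007, 6, 163135, 6),
  (32009, 7, 237866, 25),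
  (32015, 6, 6331, 19),
  (32017, 6, 79911, 19),
  (32019, 7, 19643, 19),
  (32021, 7, 57772, 24),
  (32027, 6, 155663, 8),
  (32031, 7, 242034, 25),
  (32037, 6, 155967, 4),
  (32039, 7, 28823, 42),
  (32041, 7, 237994, 25),
  (32043, 6, 15531, 19),
  (32045, 7, 71739, 41),
  (32047, 7, 254204, 24),
  (32053, 6, 237818, 25),
  (32057, 6, 155967, 12),
  (32059, 7, 188636, 24),
  (32063, 7, 242162, 25),
  (32195, 7, 250943, 26),
  (32197, 7, 241005, 19),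
  (32205, 7, 39355, 15),
  (32209, 7, 229647, 39),
  (32223, 7, 28767, 42),
  (32227, 7, 43217, 44),
  (32235, 7, 43105, 44),
  (32245, 8, 191967, 10),
  (32251, 7, 244195, 25),
  (32253, 7, 249149, 20),
  (32771, 4, 197008, 23),
  (32773, 4, 197024, 22),
  (32774, 3, 70, 6),
  (32778, 3, 74, 4),
  (32780, 3, 76, 5),
  (32783, 6, 5197, 10),
  (32785, 4, 4162, 21),
  (32786, 4, 32780, 25),
  (32792, 4, 81968, 20),
  (32798, 6, 172044, 25),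
  (32801, 4, 4164, 21),
  (32804, 4, 4162, 26),
  (32807, 6, 90124, 25),
  (32808, 4, 16688, 19),
  (32811, 6, 242, 26),
  (32816, 4, 4102, 21),
  (32821, 6, 139278, 19),
  (32822, 5, 118, 15),
  (32825, 5, 466, 26),
  (32826, 6, 482, 26),
  (32831, 7, 253964, 25),
  (32835, 4, 196624, 23),
  (32837, 4, 196640, 22),
  (32838, 3, 70, 3),
  (32842, 3, 74, 8),
  (32844, 3, 76, 7),
  (32847, 6, 90298, 26),
  (32849, 4, 4170, 21),
  (32850, 4, 4172, 25),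
  (32855, 6, 155962, 26),
  (32856, 4, 82096, 20),
  (32861, 6, 372, 25),
  (32865, 4, 4172, 21),
  (32868, 4, 32842, 26),
  (32872, 4, 147504, 19),
  (32878, 6, 4508, 25),
  (32880, 4, 4110, 21),
  (32883, 6, 82094, 20),
  (32886, 6, 24646, 12),
  (32889, 5, 484, 25),
  (32892, 6, 468, 25),
  (32895, 7, 254458, 26),
  (32897, 4, 82096, 23),
  (32898, 4, 147760, 23),
  (32900, 4, 4102, 26),
  (32904, 4, 196624, 20),
  (32907, 6, 182, 26),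
  (32912, 4, 197024, 20),
  (32915, 6, 310, 26),
  (32918, 7, 12690, 21),
  (32921, 6, 406, 26),
  (32922, 6, 422, 26),
  (32924, 6, 213041, 20),
  (32928, 3, 70, 26),
  (32931, 5, 118, 26),
  (32933, 6, 139334, 19),
  (32937, 6, 214, 26),
  (32938, 6, 234, 13),
  (32943, 7, 204905, 43),
  (32945, 5, 139340, 19),
  (32946, 6, 358, 26),
  (32948, 5, 139338, 19),
  (32958, 7, 139371, 19),
  (32961, 4, 81936, 23),
  (32962, 4, 147472, 23),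
  (32964, 4, 2062, 26),
  (32967, 6, 49576, 22),
  (32968, 4, 196752, 20),
  (32973, 7, 123042, 23),
  (32974, 6, 84142, 26),
  (32976, 4, 131488, 20),
  (32991, 6, 131439, 19),
  (32992, 4, 34886, 26),
  (32995, 6, 49450, 22),
  (33001, 7, 205033, 43),
  (33002, 5, 82154, 8),
  (33019, 6, 213182, 20),
  (33025, 4, 16656, 22),
  (33026, 4, 6158, 25),
  (33028, 4, 16528, 22),
  (33031, 6, 229864, 21),
  (33032, 4, 196768, 19),
  (33035, 7, 201114, 23),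
  (33038, 6, 168218, 23),
  (33040, 4, 2118, 25),
  (33045, 6, 41164, 23),
  (33049, 7, 90601, 40),
  (33052, 5, 139340, 5),
  (33056, 4, 65808, 19),
  (33071, 6, 42441, 23),
  (33085, 6, 204974, 19),
  (33089, 4, 16688, 22),
  (33090, 4, 4110, 25),
  (33092, 4, 16560, 22),
  (33096, 4, 197024, 19),
  (33101, 6, 310, 25),
  (33104, 3, 70, 25),
  (33107, 6, 82150, 20),
  (33109, 5, 118, 25),
  (33113, 6, 358, 25),
  (33116, 5, 139340, 16),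
  (33119, 7, 244110, 23),
  (33120, 4, 196624, 19),
  (33125, 6, 182, 25),
  (33126, 7, 49330, 22),
  (33129, 6, 422, 25),
  (33130, 6, 205217, 19),
  (33132, 6, 406, 25),
  (33137, 5, 82154, 20),
  (33138, 5, 82156, 20),
  (33140, 6, 214, 25),
  (33150, 7, 20879, 21),
  (33157, 6, 41192, 23),
  (33164, 7, 196834, 19),
  (33167, 7, 196839, 19),
  (33179, 6, 213110, 20),
  (33185, 6, 196682, 20),
  (33186, 6, 196684, 20),
  (33188, 6, 204994, 19),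
  (33191, 7, 41449, 23),
  (33195, 5, 247, 26),
  (33197, 6, 205030, 19),
  (33198, 7, 51358, 22),
  (33203, 5, 375, 26),
  (33209, 5, 471, 26),
  (33210, 5, 487, 26),
  (33212, 6, 82396, 14),
  (33215, 7, 213119, 20),
  (33219, 6, 49464, 22),
  (33226, 7, 160042, 23),
  (33231, 7, 258474, 23),
  (33233, 6, 197068, 19),
  (33234, 6, 213220, 20),
  (33236, 6, 197066, 19),
  (33239, 7, 41468, 23),
  (33243, 6, 213238, 20),
  (33245, 5, 375, 25),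
  (33246, 7, 194862, 23),
  (33261, 6, 205286, 19),
  (33269, 5, 247, 25),
  (33273, 5, 487, 25),
  (33274, 6, 213338, 17),
  (33276, 5, 471, 25),
  (33279, 7, 213247, 20),
  (33793, 4, 65936, 23),
  (33795, 4, 196752, 23),
  (33807, 5, 24609, 43),
  (33813, 7, 20754, 26),
  (33815, 6, 73903, 44),
  (33819, 6, 6331, 37),
  (33829, 7, 20562, 26),
  (33833, 7, 51526, 22),
  (33857, 4, 196880, 23),
  (33859, 4, 65808, 23),
  (33869, 5, 24593, 43),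
  (33877, 6, 124, 25),
  (33883, 6, 206982, 23),
  (33893, 6, 188, 25),
  (33895, 7, 57434, 26),
  (33897, 6, 428, 25),
  (33899, 7, 67742, 20),
  (33905, 6, 236, 25),
  (33907, 6, 84142, 20),
  (33919, 6, 84159, 20),
  (33925, 6, 172488, 21),
  (33953, 6, 2221, 25),
  (33965, 6, 2493, 25),
  (33975, 7, 78294, 21),
  (33977, 7, 215098, 20),
  (33995, 6, 92310, 26),
  (34003, 6, 215206, 20),
  (34013, 5, 381, 25),
  (34015, 7, 78299, 21),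
  (34019, 6, 59478, 26),
  (34031, 6, 198815, 20),
  (34037, 5, 253, 25),
  (34039, 6, 215215, 20),
  (34041, 5, 493, 25),
  (34053, 6, 164328, 21),
  (34055, 6, 35223, 39),
  (34059, 6, 74183, 44),
  (34067, 6, 84070, 20),
  (34079, 6, 6518, 25),
  (34081, 6, 2222, 25),
  (34093, 6, 2494, 25),
  (34101, 7, 20819, 26),
  (34103, 6, 6390, 25),
  (34105, 7, 84090, 20),
  (34107, 6, 6630, 25),
  (34121, 6, 302, 25),
  (34123, 7, 209034, 23),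
  (34145, 6, 174, 25),
  (34167, 7, 86478, 21),
  (34171, 7, 140701, 23),
  (34177, 6, 41192, 21),
  (34189, 7, 225380, 22),
  (34201, 7, 51549, 22),
  (34217, 6, 2479, 25),
  (34219, 7, 198750, 20),
  (34225, 7, 215146, 20),
  (34237, 7, 235959, 12),
  (34253, 5, 319, 25),
  (34263, 7, 94682, 21),
  (34277, 5, 191, 25),
  (34279, 7, 94684, 21),
  (34281, 5, 431, 25),
  (34289, 7, 215274, 20),
  (34291, 7, 94430, 21),
  (34301, 7, 128343, 13),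
  (34303, 7, 205039, 16),
  (34817, 4, 131488, 22),
  (34818, 3, 70, 4),
  (34821, 4, 196896, 22),
  (34822, 3, 70, 2),
  (34831, 5, 24593, 44),
  (34835, 7, 57372, 25),
  (34839, 6, 314, 26),
  (34841, 7, 100566, 23),
  (34845, 6, 410, 26),
  (34855, 6, 122, 26),
  (34857, 6, 18742, 19),
  (34862, 6, 234, 26),
  (34865, 6, 4442, 26),
  (34869, 6, 346, 26),
  (34870, 5, 362, 26),
  (34875, 6, 4602, 26),
  (34881, 4, 196768, 22),
  (34882, 3, 70, 1),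
  (34885, 4, 131232, 22),
  (34886, 3, 70, 8),
  (34891, 5, 24609, 44),
  (34903, 7, 135626, 21),
  (34906, 6, 12620, 25),
  (34909, 7, 75974, 23),
  (34915, 6, 74183, 41),
  (34919, 7, 115106, 22),
  (34921, 6, 35223, 37),
  (34934, 6, 74145, 24),
  (34953, 7, 114930, 23),
  (34957, 6, 158, 26),
  (34958, 6, 174, 26),
  (34965, 6, 286, 26),
  (34966, 6, 214, 2),
  (34978, 5, 81990, 4),
  (34995, 7, 143574, 21),
  (35001, 7, 9445, 23),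
  (35011, 6, 6331, 42),
  (35015, 6, 115112, 22),
  (35017, 6, 73903, 41),
  (35026, 6, 214, 1),
  (35029, 6, 143706, 21),
  (35030, 7, 143770, 21),
  (35039, 6, 143835, 21),
  (35041, 6, 143452, 21),
  (35046, 5, 81990, 17),
  (35051, 6, 129270, 26),
  (35059, 6, 194934, 26),
  (35063, 7, 12541, 25),
  (35065, 6, 244182, 26),
  (35069, 7, 63762, 19),
  (35081, 6, 84262, 19),
  (35089, 6, 10342, 25),
  (35099, 6, 4539, 26),
  (35105, 6, 67862, 19),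
  (35106, 7, 198666, 38),
  (35110, 6, 358, 11),
  (35115, 7, 117014, 22),
  (35119, 5, 251, 26),
  (35123, 6, 4475, 26),
  (35127, 5, 379, 26),
  (35133, 5, 475, 26),
  (35134, 4, 20490, 38),
  (35143, 6, 41368, 23),
  (35146, 6, 176458, 23),
  (35157, 6, 41116, 23),
  (35167, 6, 152011, 21),
  (35170, 6, 147526, 10),
  (35187, 7, 151758, 21)]

theorem chk_rows1_3 : rows1_3.all (rowBP1 tr1 bm1 gensLitP gensListP 1) = true := by decide +kernel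

/-- Rows 3200 to 3999. -/
def rows1_4 : List (ℕ × ℕ × ℕ × ℕ) := [(35194, 5, 20514, 38),
  (35197, 7, 31122, 19),
  (35202, 6, 114712, 22),
  (35215, 5, 191, 26),
  (35219, 7, 159954, 21),
  (35223, 5, 319, 26),
  (35229, 5, 415, 26),
  (35230, 4, 12308, 42),
  (35235, 7, 14511, 25),
  (35246, 5, 196872, 40),
  (35249, 7, 159830, 21),
  (35250, 6, 139750, 13),
  (35253, 7, 351, 26),
  (35259, 7, 155129, 10),
  (35263, 7, 240877, 16),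
  (35266, 6, 59446, 39),
  (35269, 6, 49464, 21),
  (35279, 7, 198119, 19),
  (35289, 7, 252014, 19),
  (35290, 5, 12300, 42),
  (35293, 6, 160091, 21),
  (35306, 5, 196744, 40),
  (35309, 7, 59794, 19),
  (35317, 7, 47506, 19),
  (35318, 6, 90598, 8),
  (35327, 7, 213343, 17),
  (35849, 6, 6215, 7),
  (35851, 5, 8241, 40),
  (35853, 5, 16433, 41),
  (35859, 6, 131391, 44),
  (35861, 7, 1215, 37),
  (35873, 7, 115010, 22),
  (35875, 7, 200900, 21),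
  (35879, 7, 86044, 25),
  (35897, 7, 258068, 25),
  (35899, 7, 163091, 19),
  (35903, 6, 65635, 43),
  (35915, 5, 16401, 41),
  (35917, 5, 8225, 40),
  (35919, 6, 5197, 4),
  (35921, 7, 143666, 26),
  (35923, 7, 12388, 25),
  (35927, 7, 160026, 26),
  (35939, 6, 16839, 41),
  (35941, 7, 1493, 37),
  (35961, 6, 8475, 40),
  (35963, 7, 84327, 22),
  (35967, 7, 13477, 20),
  (35969, 6, 4513, 39),
  (35973, 6, 115144, 22),
  (35993, 6, 38139, 24),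
  (35997, 7, 8349, 40),
  (36011, 7, 20734, 26),
  (36013, 6, 2221, 38),
  (36015, 6, 193611, 24),
  (36017, 5, 65541, 43),
  (36019, 7, 209110, 21),
  (36057, 6, 128177, 24),
  (36073, 6, 182391, 19),
  (36075, 7, 81179, 20),
  (36079, 6, 38193, 24),
  (36081, 7, 178550, 26),
  (36083, 7, 209118, 21),
  (36087, 5, 65669, 43),
  (36121, 6, 39165, 24),
  (36123, 7, 155011, 19),
  (36127, 6, 14710, 25),
  (36143, 6, 194637, 24),
  (36145, 5, 131075, 44),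
  (36147, 7, 146835, 19),
  (36151, 7, 14582, 25),
  (36165, 6, 115112, 21),
  (36167, 6, 49576, 21),
  (36185, 6, 129201, 24),
  (36187, 7, 12646, 25),
  (36189, 6, 2385, 38),
  (36205, 7, 217421, 21),
  (36207, 6, 39217, 24),
  (36211, 7, 217294, 21),
  (36215, 5, 131331, 44),
  (36233, 7, 119290, 23),
  (36235, 6, 14631, 25),
  (36241, 5, 2177, 38),
  (36243, 6, 139756, 23),
  (36257, 5, 1281, 37),
  (36263, 6, 162831, 24),
  (36281, 8, 88439, 7),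
  (36285, 6, 16511, 41),
  (36287, 6, 4593, 39),
  (36299, 6, 258282, 23),
  (36303, 7, 176292, 22),
  (36305, 6, 97457, 24),
  (36311, 5, 2181, 38),
  (36323, 6, 82298, 22),
  (36327, 5, 1283, 37),
  (36345, 6, 33273, 42),
  (36349, 6, 131279, 44),
  (36351, 8, 193767, 14),
  (36866, 3, 74, 2),
  (36868, 3, 76, 1),
  (36871, 6, 37901, 13),
  (36874, 3, 74, 6),
  (36876, 3, 76, 6),
  (36885, 6, 147470, 19),
  (36891, 6, 8582, 23),
  (36893, 7, 70034, 26),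
  (36899, 6, 73742, 20),
  (36901, 6, 155654, 19),
  (36902, 6, 49286, 22),
  (36913, 6, 155660, 19),
  (36916, 6, 155658, 19),
  (36919, 6, 155663, 19),
  (36921, 6, 66002, 26),
  (36922, 6, 122, 15),
  (36924, 6, 124, 15),
  (36927, 7, 123148, 25),
  (36930, 3, 74, 3),
  (36932, 3, 76, 3),
  (36938, 3, 74, 1),
  (36940, 3, 76, 2),
  (36943, 6, 5197, 16),
  (36955, 6, 90294, 20),
  (36957, 6, 147758, 19),
  (36958, 7, 41302, 23),
  (36963, 7, 57586, 26),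
  (36965, 6, 155910, 19),
  (36971, 6, 73886, 20),
  (36977, 6, 90282, 20),
  (36978, 6, 24650, 12),
  (36980, 6, 24652, 12),
  (36983, 7, 135420, 25),
  (36985, 6, 90298, 20),
  (36986, 6, 90300, 20),
  (36991, 6, 90303, 20),
  (36995, 6, 204806, 20),
  (36997, 6, 147526, 19),
  (36998, 6, 69670, 26),
  (37003, 6, 204822, 20),
  (37005, 7, 201132, 22),
  (37012, 5, 220, 10),
  (37015, 7, 223314, 23),
  (37023, 7, 41446, 23),
  (37025, 6, 204810, 20),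
  (37031, 6, 204815, 20),
  (37043, 6, 155725, 19),
  (37046, 6, 155723, 19),
  (37054, 5, 163920, 40),
  (37069, 6, 147814, 19),
  (37073, 6, 83986, 23),
  (37074, 6, 149522, 23),
  (37076, 6, 18514, 23),
  (37084, 6, 73804, 11),
  (37087, 7, 223550, 26),
  (37097, 7, 108630, 26),
  (37103, 7, 125054, 26),
  (37107, 7, 135405, 25),
  (37109, 7, 174558, 26),
  (37110, 5, 164112, 40),
  (37115, 7, 256374, 26),
  (37117, 7, 156014, 19),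
  (37123, 6, 73798, 20),
  (37137, 7, 133222, 25),
  (37143, 7, 137342, 25),
  (37154, 5, 362, 11),
  (37159, 7, 137406, 25),
  (37161, 6, 133542, 25),
  (37162, 6, 8459, 23),
  (37164, 6, 133526, 25),
  (37171, 7, 137454, 25),
  (37173, 7, 133366, 25),
  (37179, 7, 90238, 20),
  (37181, 7, 133622, 25),
  (37182, 5, 98400, 41),
  (37187, 7, 49460, 22),
  (37189, 6, 131126, 25),
  (37195, 6, 73942, 20),
  (37197, 6, 213414, 19),
  (37198, 7, 135454, 25),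
  (37209, 6, 90354, 20),
  (37215, 6, 213423, 19),
  (37223, 7, 135358, 25),
  (37226, 6, 147530, 10),
  (37231, 7, 51634, 22),
  (37238, 5, 98464, 41),
  (37245, 6, 90363, 20),
  (37246, 6, 90365, 20),
  (37249, 6, 204866, 20),
  (37250, 6, 204868, 20),
  (37255, 6, 204871, 20),
  (37257, 6, 213220, 19),
  (37258, 6, 196682, 15),
  (37260, 6, 196684, 15),
  (37263, 7, 41450, 23),
  (37267, 7, 227346, 23),
  (37269, 7, 96338, 23),
  (37278, 5, 98464, 43),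
  (37285, 6, 204875, 20),
  (37286, 6, 204877, 20),
  (37291, 7, 51482, 22),
  (37293, 7, 41195, 23),
  (37294, 5, 164112, 44),
  (37313, 6, 204994, 20),
  (37314, 6, 458, 12),
  (37316, 6, 460, 12),
  (37319, 7, 217170, 23),
  (37321, 6, 213476, 19),
  (37324, 6, 213474, 19),
  (37327, 6, 213479, 19),
  (37331, 7, 219154, 23),
  (37333, 7, 88146, 23),
  (37334, 5, 98400, 43),
  (37339, 6, 213485, 19),
  (37342, 6, 213483, 19),
  (37350, 5, 163920, 44),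
  (37355, 7, 205022, 20),
  (37357, 7, 18874, 22),
  (37893, 6, 5197, 6),
  (37901, 5, 8241, 41),
  (37903, 5, 16401, 44),
  (37905, 6, 4513, 38),
  (37923, 7, 217356, 25),
  (37929, 6, 131391, 43),
  (37931, 7, 18754, 22),
  (37941, 6, 7487, 19),
  (37943, 6, 163121, 19),
  (37957, 5, 16433, 44),
  (37959, 5, 8225, 41),
  (37967, 6, 6215, 5),
  (37969, 6, 198930, 23),
  (37985, 7, 1215, 39),
  (37995, 7, 122962, 26),
  (38005, 7, 8349, 41),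
  (38037, 7, 86294, 26),
  (38045, 6, 51657, 22),
  (38047, 6, 86454, 26),
  (38053, 6, 36215, 19),
  (38055, 6, 191793, 19),
  (38061, 7, 185403, 24),
  (38063, 7, 18890, 22),
  (38065, 5, 2177, 42),
  (38067, 6, 194865, 19),
  (38073, 6, 82390, 26),
  (38083, 6, 206982, 20),
  (38091, 6, 206998, 20),
  (38111, 7, 172534, 23),
  (38119, 6, 2385, 42),
  (38125, 6, 51690, 22),
  (38139, 5, 2181, 42),
  (38145, 7, 209170, 23),
  (38153, 7, 75858, 20),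
  (38155, 6, 16839, 44),
  (38167, 6, 230763, 21),
  (38173, 7, 133502, 25),
  (38175, 7, 63661, 24),
  (38181, 7, 49622, 22),
  (38183, 6, 8475, 41),
  (38189, 7, 252073, 21),
  (38191, 7, 172491, 23),
  (38193, 5, 65541, 40),
  (38195, 7, 137446, 25),
  (38201, 7, 92282, 20),
  (38203, 7, 92286, 20),
  (38211, 7, 1493, 39),
  (38217, 7, 139418, 23),
  (38229, 6, 2221, 42),
  (38237, 6, 220175, 19),
  (38239, 6, 7585, 19),
  (38253, 6, 65635, 40),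
  (38255, 7, 22865, 24),
  (38267, 5, 65669, 40),
  (38289, 5, 1281, 39),
  (38299, 6, 139694, 23),
  (38305, 5, 131075, 43),
  (38313, 7, 121017, 21),
  (38315, 7, 206942, 20),
  (38325, 8, 174571, 4),
  (38327, 6, 33273, 37),
  (38343, 7, 135223, 25),
  (38349, 6, 248903, 19),
  (38351, 6, 36257, 19),
  (38361, 6, 251981, 19),
  (38363, 5, 1283, 39),
  (38377, 7, 51578, 22),
  (38379, 5, 131331, 43),
  (38389, 6, 16511, 44),
  (38391, 6, 131279, 43),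
  (38397, 6, 4593, 38),
  (38399, 8, 220507, 17),
  (38915, 6, 5197, 8),
  (38923, 5, 16433, 40),
  (38927, 5, 8225, 43),
  (38929, 7, 188692, 25),
  (38930, 7, 174098, 23),
  (38941, 7, 1493, 42),
  (38942, 6, 33052, 25),
  (38954, 6, 116738, 22),
  (38957, 6, 141618, 19),
  (38975, 7, 156719, 19),
  (38979, 5, 8241, 43),
  (38983, 5, 16401, 40),
  (38991, 6, 6215, 3),
  (38993, 7, 137262, 19),
  (38997, 6, 16839, 40),
  (38998, 6, 143452, 25),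
  (39001, 7, 209170, 26),
  (39010, 6, 4508, 37),
  (39021, 6, 10546, 19),
  (39022, 6, 41235, 23),
  (39035, 6, 97295, 20),
  (39039, 6, 7345, 20),
  (39045, 7, 122962, 23),
  (39049, 7, 1215, 42),
  (39050, 6, 69806, 26),
  (39059, 7, 69950, 26),
  (39063, 6, 8475, 43),
  (39075, 6, 7583, 20),
  (39079, 6, 212369, 20),
  (39087, 6, 2385, 39),
  (39089, 5, 131075, 41),
  (39090, 7, 69998, 26),
  (39094, 5, 98336, 40),
  (39098, 5, 65928, 44),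
  (39102, 5, 4116, 37),
  (39105, 6, 131391, 41),
  (39106, 7, 114732, 22),
  (39109, 7, 51490, 19),
  (39117, 7, 41138, 23),
  (39118, 6, 88110, 26),
  (39123, 7, 128225, 24),
  (39127, 7, 242883, 21),
  (39131, 6, 65635, 44),
  (39135, 7, 99609, 21),
  (39139, 7, 62817, 24),
  (39143, 7, 63742, 26),
  (39147, 6, 129142, 26),
  (39153, 7, 120289, 24),
  (39154, 5, 4124, 37),
  (39157, 7, 63794, 19),
  (39158, 5, 65800, 44),
  (39161, 7, 244054, 26),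
  (39162, 5, 98528, 40),
  (39165, 5, 131331, 41),
  (39169, 6, 4513, 37),
  (39170, 6, 176146, 23),
  (39177, 6, 141606, 25),
  (39182, 7, 65622, 44),
  (39191, 6, 30941, 24),
  (39195, 6, 2221, 39),
  (39203, 7, 114966, 22),
  (39217, 5, 1281, 42),
  (39222, 5, 131408, 41),
  (39226, 5, 12292, 39),
  (39238, 6, 168018, 23),
  (39251, 7, 235538, 23),
  (39255, 7, 112865, 24),
  (39259, 6, 126023, 20),
  (39263, 6, 36017, 20),
  (39267, 6, 70777, 26),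
  (39271, 6, 115126, 22),
  (39279, 7, 143806, 25),
  (39285, 6, 139510, 25),
  (39286, 5, 12316, 39),
  (39289, 6, 128075, 20),
  (39290, 5, 131152, 41),
  (39293, 5, 1283, 42),
  (39294, 6, 39089, 20),
  (39299, 6, 36311, 20),
  (39303, 6, 241041, 20),
  (39307, 7, 8349, 43),
  (39313, 5, 65541, 44),
  (39317, 7, 129106, 23),
  (39318, 5, 163856, 43),
  (39322, 5, 4138, 37),
  (39326, 5, 131208, 41),
  (39329, 5, 2177, 39),
  (39330, 6, 39389, 20),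
  (39333, 6, 243089, 20),
  (39334, 5, 65760, 44),
  (39342, 5, 20522, 42),
  (39347, 8, 144637, 8),
  (39351, 6, 33273, 38),
  (39355, 6, 16511, 40),
  (39359, 6, 131279, 41),
  (39377, 7, 235630, 19),
  (39378, 5, 131464, 41),
  (39381, 7, 55714, 19),
  (39382, 5, 4130, 37),
  (39386, 5, 164176, 43),
  (39389, 5, 65669, 44),
  (39390, 7, 41278, 23),
  (39393, 6, 82238, 22),
  (39394, 5, 20482, 42),
  (39402, 5, 65632, 44),
  (39405, 5, 2181, 39),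
  (39419, 6, 4593, 37),
  (39423, 8, 126301, 13),
  (39939, 6, 37901, 12),
  (39941, 6, 37901, 14),
  (39943, 6, 5197, 7),
  (39945, 6, 35851, 13),
  (39951, 6, 6215, 10),
  (39985, 7, 135417, 24),
  (39991, 6, 82298, 26),
  (39993, 7, 86490, 26),
  (39997, 6, 82394, 26),
  (39999, 7, 84419, 22),
  (40001, 6, 35851, 10),
  (40007, 6, 6215, 16),
  (40009, 6, 6215, 4),
  (40011, 6, 5197, 15),
  (40013, 6, 5197, 17),
  (40049, 7, 176626, 26),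
  (40053, 6, 139516, 25),
  (40055, 7, 143604, 25),
  (40057, 6, 139756, 25),
  (40063, 7, 258394, 26),
  (40081, 7, 17815, 20),
  (40083, 7, 86334, 26),
  (40085, 7, 256338, 23),
  (40087, 6, 82238, 26),
  (40091, 6, 139750, 23),
  (40093, 6, 82334, 26),
  (40105, 7, 86238, 26),
  (40107, 7, 84298, 22),
  (40153, 6, 139510, 23),
  (40155, 7, 143717, 25),
  (40157, 7, 211262, 26),
  (40159, 7, 172470, 23),
  (40161, 7, 115054, 22),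
  (40165, 7, 115182, 22),
  (40171, 7, 84330, 22),
  (40173, 7, 112766, 26),
  (40211, 7, 112914, 23),
  (40213, 7, 141438, 25),
  (40221, 7, 172174, 23),
  (40223, 7, 172430, 23),
  (40225, 7, 67895, 19),
  (40227, 7, 145574, 25),
  (40229, 7, 141502, 25),
  (40231, 6, 82390, 22),
  (40275, 7, 104722, 23),
  (40279, 7, 143478, 25),
  (40291, 6, 82294, 22),
  (40293, 6, 139454, 25),
  (40297, 6, 139694, 25),
  (40299, 7, 84338, 22),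
  (40301, 7, 172187, 23),
  (40303, 7, 143798, 25),
  (40321, 7, 41449, 21),
  (40327, 6, 82396, 22),
  (40329, 7, 176572, 22),
  (40331, 6, 139754, 23),
  (40335, 7, 172458, 23),
  (40385, 7, 250130, 23),
  (40387, 6, 82300, 22),
  (40391, 7, 83005, 26),
  (40393, 6, 139514, 23),
  (40399, 7, 258396, 22),
  (40961, 4, 32842, 21),
  (40962, 4, 32844, 25),
  (40967, 7, 193809, 41),
  (40968, 4, 65584, 20),
  (40971, 6, 65590, 20),
  (40973, 7, 240709, 42),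
  (40974, 6, 67809, 22),
  (40977, 4, 36874, 21),
  (40978, 3, 76, 25),
  (40983, 6, 24652, 25),
  (40984, 4, 81936, 20),
  (40989, 6, 155716, 25),
  (40990, 5, 139340, 25),
  (41004, 6, 24652, 14),
  (41007, 6, 44481, 23),
  (41011, 5, 81934, 20),
  (41014, 6, 73804, 25),
  (41017, 6, 5191, 21),
  (41018, 6, 122, 13),
  (41020, 6, 204868, 25),
  (41025, 4, 36930, 21),
  (41026, 4, 36876, 25),
  (41031, 7, 36924, 25),
  (41032, 4, 65712, 20),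
  (41035, 6, 205190, 23),
  (41041, 4, 32778, 21),
  (41042, 4, 36940, 25),
  (41048, 4, 82064, 20),
  (41053, 7, 108674, 23),
  (41061, 6, 32948, 25),
  (41065, 6, 5197, 21),
  (41066, 6, 24650, 17),
  (41078, 6, 180330, 26),
  (41082, 7, 33893, 22),
  (41084, 6, 124, 16),
  (41091, 6, 131126, 26),
  (41093, 6, 172362, 21),
  (41094, 6, 73798, 15),
  (41107, 5, 212998, 20),
  (41116, 5, 220, 5),
  (41119, 6, 39293, 25),
  (41124, 6, 143426, 19),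
  (41133, 7, 135382, 26),
  (41138, 6, 242, 13),
  (41140, 6, 135494, 26),
  (41143, 6, 39165, 25),
  (41144, 6, 90184, 4),
  (41147, 6, 39405, 25),
  (41149, 7, 135638, 26),
  (41150, 6, 39389, 25),
  (41157, 6, 135494, 19),
  (41158, 7, 209282, 21),
  (41164, 5, 220, 7),
  (41167, 7, 254374, 23),
  (41174, 6, 214, 12),
  (41177, 6, 206998, 26),
  (41178, 6, 215206, 26),
  (41180, 6, 213137, 20),
  (41183, 6, 128001, 24),
  (41185, 6, 143684, 19),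
  (41186, 6, 90354, 8),
  (41192, 5, 90360, 8),
  (41195, 6, 196798, 20),
  (41202, 7, 182374, 26),
  (41207, 7, 190590, 26),
  (41211, 6, 213150, 20),
  (41213, 6, 44277, 23),
  (41221, 6, 102556, 23),
  (41222, 5, 139606, 6),
  (41225, 7, 35110, 25),
  (41226, 6, 139610, 13),
  (41235, 5, 81990, 20),
  (41237, 6, 184362, 21),
  (41247, 6, 129277, 24),
  (41252, 7, 34966, 25),
  (41255, 6, 39102, 25),
  (41259, 6, 39342, 25),
  (41262, 6, 6522, 11),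
  (41265, 6, 81994, 20),
  (41266, 6, 81996, 20),
  (41268, 6, 372, 1),
  (41277, 7, 35318, 25),
  (41278, 6, 194934, 1),
  (41285, 6, 32822, 25),
  (41295, 6, 37182, 25),
  (41301, 6, 201102, 19),
  (41302, 6, 342, 12),
  (41305, 7, 82130, 20),
  (41306, 6, 139610, 17),
  (41311, 6, 129025, 24),
  (41316, 6, 372, 2),
  (41319, 6, 37054, 25),
  (41323, 6, 37294, 25),
  (41326, 5, 194570, 2),
  (41342, 6, 162166, 1),
  (41345, 7, 34855, 25),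
  (41346, 6, 205266, 6),
  (41348, 6, 205268, 6),
  (41351, 6, 205271, 6),
  (41357, 6, 35127, 25),
  (41361, 6, 213058, 20),
  (41362, 6, 213060, 20),
  (41364, 7, 200906, 19),
  (41367, 6, 213063, 20),
  (41368, 5, 204872, 12),
  (41371, 7, 219578, 23),
  (41374, 6, 126199, 24),
  (41379, 7, 108782, 21),
  (41388, 6, 90572, 14),
  (41391, 7, 39359, 25),
  (41397, 6, 213067, 20),
  (41398, 6, 204918, 15),
  (41407, 7, 249149, 2),
  (41409, 7, 94380, 23),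
  (41415, 7, 258476, 23),
  (41416, 5, 204872, 6),
  (41426, 5, 466, 12),
  (41428, 6, 468, 12),
  (41431, 6, 97281, 24),
  (41435, 6, 213206, 20),
  (41438, 6, 125953, 24),
  (41446, 6, 25046, 12),
  (41449, 6, 196858, 20),
  (41450, 6, 196860, 20),
  (41459, 7, 116794, 21),
  (41462, 7, 215098, 21),
  (41466, 6, 213212, 20),
  (41468, 6, 196860, 16),
  (41989, 7, 61508, 25),
  (42007, 7, 151858, 26),
  (42009, 6, 83986, 20),
  (42033, 6, 83978, 20),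
  (42035, 6, 86092, 25),
  (42045, 6, 152018, 26),
  (42047, 7, 152050, 26),
  (42055, 7, 24858, 26),
  (42069, 7, 139322, 26),
  (42071, 7, 163978, 21),
  (42073, 6, 76162, 23),
  (42093, 7, 107002, 26),
  (42109, 6, 175317, 23),
  (42125, 6, 35133, 25),
  (42141, 7, 151958, 26),
  (42143, 7, 247986, 23),
  (42155, 5, 147702, 26),
  (42165, 7, 151894, 26),
  (42167, 7, 151926, 26),
  (42169, 6, 147926, 26),
  (42179, 6, 26902, 26),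
  (42189, 7, 33085, 25),
  (42191, 7, 254118, 23),
  (42195, 6, 210219, 42),
  (42217, 6, 182397, 19),
  (42219, 6, 38289, 24),
  (42231, 7, 190558, 26),
  (42233, 7, 239862, 26),
  (42241, 6, 172337, 22),
  (42253, 5, 35134, 25),
  (42255, 6, 39222, 25),
  (42271, 6, 39286, 25),
  (42279, 6, 39094, 25),
  (42281, 6, 35246, 25),
  (42283, 6, 243789, 24),
  (42295, 6, 191489, 1),
  (42307, 6, 102498, 21),
  (42321, 6, 84162, 20),
  (42333, 7, 220199, 19),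
  (42335, 6, 37238, 25),
  (42341, 6, 36145, 11),
  (42343, 7, 235878, 21),
  (42345, 7, 67834, 20),
  (42347, 6, 39313, 24),
  (42359, 6, 37110, 25),
  (42363, 6, 37350, 25),
  (42377, 6, 35119, 25),
  (42395, 6, 243089, 12),
  (42403, 6, 211983, 24),
  (42413, 7, 244135, 12),
  (42415, 7, 39351, 25),
  (42419, 7, 55482, 21),
  (42429, 8, 128263, 13),
  (42437, 7, 176610, 21),
  (42439, 7, 258220, 23),
  (42441, 5, 475, 15),
  (42443, 7, 225454, 23),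
  (42453, 7, 217428, 23),
  (42455, 7, 180410, 21),
  (42459, 7, 215254, 20),
  (42465, 7, 198890, 20),
  (42467, 6, 7569, 24),
  (42477, 8, 234757, 41),
  (42493, 8, 63583, 43),
  (43015, 7, 196961, 22),
  (43017, 7, 135322, 26),
  (43027, 7, 135482, 26),
  (43037, 7, 67794, 23),
  (43042, 6, 204849, 24),
  (43046, 5, 118, 11),
  (43055, 7, 200035, 22),
  (43058, 5, 118, 13),
  (43067, 7, 135674, 26),
  (43075, 7, 28978, 26),
  (43081, 7, 106694, 23),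
  (43082, 6, 32948, 37),
  (43085, 7, 41268, 25),
  (43091, 7, 45164, 25),
  (43095, 7, 159802, 26),
  (43097, 7, 41316, 25),
  (43098, 6, 4508, 42),
  (43105, 6, 45394, 26),
  (43106, 6, 24993, 24),
  (43109, 6, 45402, 26),
  (43110, 6, 24646, 17),
  (43115, 7, 11729, 23),
  (43119, 7, 45500, 25),
  (43122, 6, 24646, 10),
  (43131, 7, 258290, 26),
  (43135, 7, 45564, 25),
  (43138, 7, 74122, 21),
  (43147, 7, 246262, 23),
  (43153, 6, 168218, 21),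
  (43154, 6, 214, 13),
  (43158, 7, 188500, 23),
  (43163, 7, 248306, 23),
  (43167, 7, 215538, 23),
  (43175, 7, 131198, 26),
  (43177, 6, 138667, 22),
  (43181, 6, 250955, 24),
  (43187, 6, 7599, 20),
  (43191, 6, 220577, 20),
  (43193, 6, 39165, 4),
  (43197, 7, 190746, 19),
  (43206, 6, 73798, 17),
  (43211, 7, 96694, 26),
  (43215, 7, 96702, 26),
  (43217, 6, 164122, 21),
  (43218, 7, 180244, 23),
  (43227, 7, 232589, 40),
  (43239, 6, 36017, 8),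
  (43242, 7, 144737, 19),
  (43245, 6, 39089, 8),
  (43255, 6, 169185, 22),
  (43258, 7, 144543, 21),
  (43265, 6, 43046, 25),
  (43266, 5, 139606, 13),
  (43270, 6, 342, 11),
  (43279, 7, 129117, 24),
  (43281, 6, 71942, 19),
  (43295, 7, 203226, 23),
  (43303, 5, 375, 11),
  (43309, 6, 251981, 24),
  (43310, 7, 47518, 25),
  (43319, 7, 47358, 25),
  (43322, 6, 192582, 10),
  (43333, 6, 78028, 23),
  (43346, 5, 139606, 1),
  (43349, 6, 49450, 21),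
  (43350, 5, 139606, 17),
  (43363, 6, 136313, 26),
  (43373, 6, 39329, 24),
  (43374, 6, 192526, 2),
  (43379, 6, 191559, 1),
  (43383, 7, 43421, 23),
  (43385, 7, 41446, 25),
  (43389, 7, 27034, 19),
  (43395, 7, 47151, 25),
  (43401, 6, 43303, 25),
  (43405, 7, 186762, 19),
  (43411, 6, 36327, 20),
  (43415, 6, 249249, 20),
  (43418, 6, 243786, 3),
  (43421, 6, 244113, 12),
  (43422, 7, 153978, 23),
  (43425, 7, 43374, 21),
  (43426, 7, 47247, 25),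
  (43429, 6, 220175, 24),
  (43439, 7, 31825, 44),
  (43441, 6, 38379, 20),
  (43442, 6, 39405, 20),
  (43445, 6, 251297, 20),
  (43446, 5, 74214, 11),
  (43455, 7, 232783, 40),
  (43459, 7, 111074, 21),
  (43465, 5, 477, 15),
  (43470, 6, 244118, 6),
  (43481, 6, 252006, 19),
  (43490, 6, 213206, 10),
  (43493, 6, 7585, 24),
  (43506, 7, 186494, 43),
  (43509, 7, 43418, 19),
  (44033, 7, 151578, 26),
  (44035, 7, 61532, 25),
  (44039, 7, 147514, 26),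
  (44049, 7, 233866, 21),
  (44053, 7, 237908, 23),
  (44055, 7, 20572, 25),
  (44073, 6, 167331, 22),
  (44075, 7, 151802, 26),
  (44079, 6, 147706, 26),
  (44089, 7, 13503, 20),
  (44093, 6, 147930, 26),
  (44097, 7, 37314, 21),
  (44101, 7, 74180, 23),
  (44103, 7, 45108, 25),
  (44115, 7, 98580, 23),
  (44117, 7, 41084, 25),
  (44137, 6, 149567, 19),
  (44139, 7, 45476, 25),
  (44155, 6, 45540, 25),
  (44157, 7, 41468, 25),
  (44169, 6, 170409, 22),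
  (44171, 6, 47397, 25),
  (44175, 5, 147646, 26),
  (44185, 7, 210003, 21),
  (44187, 7, 138691, 44),
  (44189, 6, 147870, 26),
  (44193, 6, 169387, 22),
  (44195, 5, 247, 8),
  (44197, 7, 147550, 26),
  (44209, 7, 43245, 25),
  (44215, 6, 39322, 21),
  (44235, 7, 254182, 23),
  (44237, 6, 90598, 23),
  (44239, 6, 38065, 24),
  (44257, 7, 47558, 21),
  (44261, 7, 138295, 44),
  (44263, 6, 243782, 21),
  (44277, 5, 247, 4),
  (44297, 7, 102878, 23),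
  (44303, 6, 129101, 24),
  (44313, 7, 43374, 25),
  (44319, 7, 129229, 24),
  (44323, 7, 47270, 25),
  (44339, 7, 186794, 21),
  (44343, 7, 55722, 21),
  (44361, 7, 111054, 23),
  (44363, 6, 215225, 38),
  (44365, 7, 41278, 25),
  (44367, 6, 39089, 24),
  (44377, 6, 107639, 20),
  (44381, 7, 112689, 24),
  (44387, 7, 45222, 25)]

theorem chk_rows1_4 : rows1_4.all (rowBP1 tr1 bm1 gensLitP gensListP 1) = true := by decide +kernel

/-- Rows 4000 to 4799. -/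
def rows1_5 : List (ℕ × ℕ × ℕ × ℕ) := [(44389, 7, 148569, 26),
  (44391, 7, 45238, 25),
  (44407, 7, 51626, 21),
  (44417, 7, 41450, 21),
  (44423, 6, 97295, 24),
  (44433, 7, 258324, 23),
  (44435, 7, 127252, 23),
  (44437, 7, 258388, 23),
  (44439, 6, 240711, 3),
  (44457, 8, 257357, 17),
  (44459, 8, 47527, 25),
  (44461, 8, 215069, 38),
  (44463, 7, 193719, 14),
  (44479, 7, 238009, 42),
  (44481, 5, 471, 15),
  (44483, 6, 118115, 20),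
  (44487, 6, 7345, 24),
  (44499, 6, 119060, 23),
  (44521, 8, 159945, 39),
  (44523, 7, 104707, 43),
  (44525, 7, 44073, 40),
  (44539, 7, 54367, 41),
  (45061, 7, 188740, 25),
  (45075, 5, 90118, 20),
  (45085, 7, 151598, 19),
  (45090, 6, 122, 11),
  (45095, 6, 254284, 25),
  (45098, 7, 73788, 20),
  (45100, 7, 106820, 25),
  (45103, 7, 198119, 22),
  (45105, 6, 90122, 20),
  (45106, 6, 90124, 20),
  (45108, 6, 124, 1),
  (45111, 6, 90127, 20),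
  (45113, 6, 38923, 21),
  (45125, 7, 8602, 26),
  (45133, 7, 74010, 26),
  (45134, 6, 168220, 25),
  (45139, 6, 196630, 23),
  (45141, 7, 139418, 26),
  (45150, 6, 168284, 25),
  (45153, 6, 38983, 21),
  (45154, 7, 49634, 26),
  (45156, 7, 160002, 19),
  (45159, 6, 160007, 19),
  (45161, 6, 35851, 21),
  (45164, 6, 124, 2),
  (45178, 6, 24650, 10),
  (45180, 7, 160042, 19),
  (45185, 6, 196630, 26),
  (45186, 6, 157718, 23),
  (45188, 6, 26710, 23),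
  (45196, 6, 73804, 15),
  (45199, 7, 43490, 23),
  (45209, 6, 221202, 20),
  (45210, 6, 69659, 21),
  (45212, 6, 201094, 26),
  (45222, 6, 129090, 17),
  (45230, 6, 129274, 8),
  (45237, 7, 201046, 26),
  (45238, 6, 6390, 13),
  (45245, 7, 251051, 24),
  (45255, 6, 242115, 21),
  (45257, 6, 76054, 26),
  (45258, 6, 10546, 23),
  (45260, 6, 204977, 20),
  (45263, 7, 151911, 19),
  (45268, 5, 220, 12),
  (45271, 7, 157886, 26),
  (45283, 6, 204974, 20),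
  (45291, 6, 204990, 20),
  (45294, 6, 96506, 8),
  (45299, 7, 190710, 26),
  (45302, 6, 129030, 4),
  (45309, 6, 160110, 19),
  (45310, 6, 129038, 4),
  (45314, 5, 139338, 2),
  (45319, 7, 170046, 25),
  (45321, 7, 73842, 20),
  (45322, 5, 139338, 15),
  (45324, 5, 139340, 15),
  (45329, 6, 90178, 20),
  (45332, 6, 139612, 10),
  (45335, 6, 90183, 20),
  (45337, 7, 166246, 25),
  (45343, 6, 249899, 21),
  (45347, 5, 379, 11),
  (45349, 7, 166070, 25),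
  (45350, 7, 170142, 25),
  (45357, 7, 225446, 19),
  (45365, 6, 156029, 10),
  (45366, 6, 90189, 20),
  (45373, 7, 225454, 19),
  (45377, 7, 73954, 20),
  (45383, 6, 217479, 19),
  (45385, 7, 164134, 25),
  (45388, 6, 139612, 11),
  (45393, 7, 163942, 25),
  (45394, 5, 139338, 3),
  (45396, 5, 139340, 3),
  (45402, 5, 139338, 10),
  (45419, 7, 73982, 20),
  (45421, 6, 39217, 11),
  (45427, 7, 11679, 23),
  (45435, 6, 193841, 10),
  (45445, 7, 200727, 26),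
  (45446, 7, 200743, 26),
  (45451, 6, 205275, 6),
  (45453, 6, 39389, 15),
  (45461, 7, 217294, 19),
  (45462, 7, 206249, 21),
  (45470, 6, 241734, 3),
  (45473, 7, 225476, 19),
  (45474, 7, 11563, 23),
  (45476, 6, 74108, 1),
  (45479, 7, 194747, 14),
  (45481, 6, 204922, 20),
  (45482, 6, 204924, 20),
  (45484, 7, 154683, 21),
  (45497, 7, 166375, 25),
  (45498, 6, 204922, 15),
  (45500, 6, 204924, 15),
  (45507, 6, 205030, 20),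
  (45509, 7, 88150, 23),
  (45510, 6, 241678, 15),
  (45515, 6, 205046, 20),
  (45517, 7, 201877, 26),
  (45523, 6, 204875, 3),
  (45525, 6, 244189, 12),
  (45537, 6, 205034, 20),
  (45538, 5, 25050, 12),
  (45540, 5, 25052, 12),
  (45543, 7, 213119, 3),
  (45545, 6, 205050, 20),
  (45548, 7, 225762, 19),
  (45564, 6, 74220, 2),
  (46083, 6, 76054, 23),
  (46089, 6, 141442, 23),
  (46107, 6, 141702, 23),
  (46117, 7, 217170, 26),
  (46125, 7, 127300, 25),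
  (46135, 7, 217458, 26),
  (46143, 7, 217586, 26),
  (46147, 6, 67862, 23),
  (46153, 6, 75954, 20),
  (46171, 6, 221202, 26),
  (46181, 7, 134207, 19),
  (46183, 7, 32057, 19),
  (46189, 7, 164284, 25),
  (46197, 6, 199777, 22),
  (46199, 7, 188634, 26),
  (46205, 7, 164348, 25),
  (46207, 7, 168436, 25),
  (46213, 7, 172491, 21),
  (46221, 7, 174306, 23),
  (46223, 7, 217270, 26),
  (46231, 6, 90454, 23),
  (46237, 7, 119995, 24),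
  (46241, 7, 206890, 20),
  (46243, 6, 213110, 26),
  (46249, 6, 213206, 26),
  (46251, 5, 251, 8),
  (46257, 6, 213334, 26),
  (46259, 6, 213366, 26),
  (46265, 6, 213462, 26),
  (46293, 6, 213334, 23),
  (46295, 7, 157854, 26),
  (46301, 6, 206910, 26),
  (46321, 5, 251, 4),
  (46329, 6, 239734, 26),
  (46341, 7, 88189, 24),
  (46349, 7, 166206, 25),
  (46365, 7, 166270, 25),
  (46379, 6, 173431, 22),
  (46387, 6, 156027, 10),
  (46395, 7, 141711, 23),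
  (46405, 7, 203094, 23),
  (46407, 7, 23977, 19),
  (46415, 7, 218289, 26),
  (46421, 7, 201046, 23),
  (46431, 7, 168310, 25),
  (46433, 7, 76010, 20),
  (46435, 7, 168102, 25),
  (46441, 6, 38193, 11),
  (46443, 7, 168358, 25),
  (46449, 7, 164078, 25),
  (46451, 6, 104785, 24),
  (46465, 7, 41195, 21),
  (46473, 7, 117069, 19),
  (46475, 6, 170409, 19),
  (46481, 6, 225558, 23),
  (46483, 7, 94486, 23),
  (46489, 7, 223314, 20),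
  (46511, 7, 250999, 3),
  (46519, 7, 241005, 21),
  (46525, 8, 217533, 38),
  (46529, 7, 45283, 21),
  (46547, 7, 86294, 23),
  (46553, 7, 141502, 23),
  (46567, 8, 170115, 43),
  (46573, 8, 97735, 5),
  (46589, 8, 251927, 9),
  (47106, 6, 172380, 25),
  (47109, 7, 108630, 23),
  (47113, 7, 18702, 19),
  (47117, 7, 196762, 26),
  (47118, 6, 33116, 25),
  (47121, 7, 106518, 23),
  (47122, 6, 139612, 25),
  (47125, 7, 147796, 25),
  (47129, 7, 201114, 26),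
  (47134, 6, 348, 25),
  (47151, 6, 196858, 26),
  (47155, 6, 7359, 20),
  (47159, 5, 196986, 26),
  (47163, 6, 90460, 25),
  (47169, 7, 12690, 26),
  (47174, 7, 165974, 23),
  (47181, 7, 43154, 23),
  (47189, 7, 18730, 19),
  (47190, 6, 176220, 25),
  (47193, 7, 10454, 23),
  (47197, 7, 208922, 26),
  (47207, 7, 52317, 40),
  (47215, 7, 176572, 25),
  (47219, 7, 176364, 25),
  (47223, 6, 192762, 26),
  (47231, 6, 167141, 22),
  (47243, 7, 10722, 23),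
  (47247, 6, 196798, 26),
  (47255, 6, 196926, 26),
  (47266, 6, 129270, 8),
  (47269, 6, 194874, 19),
  (47270, 6, 127222, 8),
  (47273, 5, 253, 8),
  (47281, 6, 39286, 19),
  (47282, 7, 201070, 26),
  (47289, 7, 55638, 19),
  (47293, 7, 197086, 26),
  (47294, 5, 6394, 13),
  (47299, 6, 154061, 22),
  (47311, 7, 217421, 22),
  (47315, 7, 245782, 23),
  (47319, 7, 161982, 26),
  (47323, 6, 10742, 23),
  (47327, 6, 170213, 22),
  (47330, 6, 96502, 8),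
  (47334, 7, 55790, 26),
  (47341, 7, 43187, 23),
  (47346, 7, 81285, 21),
  (47349, 5, 253, 4),
  (47350, 7, 186606, 26),
  (47353, 7, 243798, 26),
  (47354, 6, 126990, 4),
  (47357, 6, 138405, 22),
  (47358, 6, 129034, 4),
  (47367, 7, 243798, 23),
  (47371, 7, 10698, 23),
  (47379, 6, 36087, 20),
  (47383, 6, 126129, 20),
  (47387, 7, 10702, 23),
  (47397, 5, 381, 11),
  (47402, 6, 6518, 11),
  (47405, 7, 174518, 25),
  (47409, 6, 38139, 20),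
  (47410, 6, 39165, 20),
  (47413, 6, 128177, 20),
  (47414, 6, 194634, 10),
  (47418, 7, 219435, 21),
  (47422, 6, 190842, 1),
  (47435, 6, 10714, 23),
  (47439, 7, 176446, 25),
  (47443, 6, 157925, 39),
  (47451, 7, 10718, 23),
  (47455, 7, 176510, 25),
  (47457, 6, 201817, 26),
  (47458, 5, 35134, 11),
  (47461, 7, 31162, 19),
  (47466, 6, 39222, 11),
  (47469, 7, 172470, 25),
  (47473, 6, 121185, 24),
  (47474, 7, 176334, 25),
  (47478, 6, 162170, 1),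
  (47481, 6, 194865, 10),
  (47485, 7, 172534, 25),
  (47486, 7, 176606, 25),
  (47489, 7, 129046, 23),
  (47493, 7, 186794, 19),
  (47498, 7, 12541, 22),
  (47505, 7, 126998, 23),
  (47506, 6, 35290, 12),
  (47513, 7, 42467, 20),
  (47514, 6, 243778, 3),
  (47518, 6, 243782, 3),
  (47527, 7, 94537, 37),
  (47543, 7, 240877, 21),
  (47547, 7, 73167, 44),
  (47551, 8, 47215, 43),
  (47554, 5, 243722, 15),
  (47557, 7, 55722, 19),
  (47558, 6, 244126, 6),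
  (47566, 6, 240030, 6),
  (47569, 7, 118806, 23),
  (47570, 7, 218569, 19),
  (47573, 7, 118870, 23),
  (47587, 7, 169349, 41),
  (47603, 7, 47231, 43),
  (47607, 8, 73039, 44),
  (47611, 8, 246201, 38),
  (47615, 8, 253305, 2),
  (48161, 7, 258388, 25),
  (48163, 7, 258396, 25),
  (48167, 6, 213114, 26),
  (48169, 6, 217306, 26),
  (48175, 6, 213242, 26),
  (48181, 6, 213338, 26),
  (48187, 6, 15531, 20),
  (48189, 6, 213466, 26),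
  (48191, 7, 183461, 22),
  (48227, 7, 176292, 25),
  (48235, 7, 176548, 25),
  (48237, 7, 150557, 19),
  (48239, 6, 4593, 24),
  (48243, 7, 192722, 26),
  (48251, 6, 141783, 23),
  (48253, 7, 241786, 26),
  (48261, 7, 235821, 22),
  (48265, 7, 217246, 26),
  (48269, 6, 213150, 26),
  (48271, 6, 213182, 26),
  (48273, 6, 42441, 21),
  (48277, 6, 213278, 26),
  (48279, 6, 213310, 26),
  (48281, 7, 233883, 21),
  (48321, 6, 14774, 26),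
  (48323, 7, 117014, 23),
  (48325, 6, 46321, 24),
  (48337, 7, 145590, 26),
  (48339, 7, 114966, 23),
  (48343, 7, 115030, 23),
  (48349, 6, 172413, 25),
  (48351, 7, 174518, 23),
  (48387, 7, 178214, 25),
  (48389, 7, 244054, 23),
  (48393, 7, 172469, 22),
  (48395, 6, 138667, 19),
  (48397, 6, 117909, 20),
  (48401, 6, 71975, 19),
  (48403, 7, 80109, 24),
  (48413, 6, 120989, 24),
  (48415, 7, 178550, 25),
  (48451, 6, 117875, 20),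
  (48455, 7, 176182, 25),
  (48457, 7, 172334, 25),
  (48463, 6, 6571, 19),
  (48467, 6, 120945, 24),
  (48469, 6, 169185, 21),
  (48471, 7, 176246, 25),
  (48473, 7, 141534, 23),
  (48477, 7, 79985, 24),
  (48549, 7, 193725, 14),
  (48551, 7, 213119, 26),
  (48553, 7, 252063, 1),
  (48555, 8, 127431, 5),
  (48559, 7, 213247, 26),
  (48561, 8, 61927, 15),
  (48565, 7, 213343, 26),
  (48567, 7, 213375, 26),
  (48575, 8, 235775, 16),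
  (48611, 7, 90575, 5),
  (48623, 8, 241129, 12),
  (48627, 7, 90591, 5),
  (48629, 8, 244219, 12),
  (48637, 7, 97747, 5),
  (49153, 4, 32844, 21),
  (49156, 4, 36866, 26),
  (49160, 4, 147728, 19),
  (49163, 7, 133474, 22),
  (49168, 4, 6146, 21),
  (49174, 6, 37154, 26),
  (49178, 6, 24650, 13),
  (49180, 7, 139322, 19),
  (49185, 4, 36876, 21),
  (49188, 4, 36930, 26),
  (49191, 7, 233484, 21),
  (49192, 4, 131120, 19),
  (49197, 6, 131126, 19),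
  (49200, 4, 6150, 21),
  (49203, 6, 49292, 25),
  (49209, 6, 6215, 21),
  (49212, 6, 124, 14),
  (49217, 4, 36932, 21),
  (49220, 3, 74, 26),
  (49223, 6, 24698, 26),
  (49224, 4, 16656, 19),
  (49227, 6, 90354, 26),
  (49230, 5, 82154, 26),
  (49232, 4, 6154, 21),
  (49237, 5, 139550, 19),
  (49238, 6, 147818, 26),
  (49241, 6, 6219, 21),
  (49242, 6, 213474, 26),
  (49244, 6, 24652, 16),
  (49249, 4, 32780, 21),
  (49252, 4, 32778, 26),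
  (49255, 7, 251211, 44),
  (49256, 4, 131376, 19),
  (49259, 7, 97459, 39),
  (49261, 6, 196646, 22),
  (49262, 6, 98406, 22),
  (49264, 4, 6158, 21),
  (49274, 6, 122, 17),
  (49279, 6, 131391, 19),
  (49283, 6, 32822, 26),
  (49286, 5, 81990, 15),
  (49289, 7, 200722, 20),
  (49292, 5, 82156, 14),
  (49295, 6, 193915, 24),
  (49310, 6, 129270, 10),
  (49315, 6, 200718, 20),
  (49327, 6, 37110, 26),
  (49330, 6, 242, 2),
  (49335, 6, 37238, 26),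
  (49341, 6, 37334, 26),
  (49342, 5, 6394, 2),
  (49347, 6, 110788, 21),
  (49349, 5, 139606, 19),
  (49359, 6, 193537, 24),
  (49361, 6, 139612, 19),
  (49362, 6, 242, 1),
  (49364, 6, 139610, 19),
  (49371, 7, 217270, 20),
  (49374, 6, 6390, 1),
  (49379, 6, 98332, 21),
  (49382, 5, 81990, 3),
  (49385, 7, 131444, 19),
  (49388, 5, 82156, 16),
  (49394, 7, 182566, 26),
  (49399, 6, 190782, 26),
  (49405, 6, 240030, 26),
  (49406, 6, 248238, 26),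
  (49414, 6, 147526, 15),
  (49417, 6, 141618, 22),
  (49418, 6, 204977, 19),
  (49420, 6, 67862, 25),
  (49423, 6, 194941, 24),
  (49428, 7, 22786, 21),
  (49431, 7, 71806, 25),
  (49435, 6, 52501, 22),
  (49437, 6, 204990, 19),
  (49443, 6, 118828, 21),
  (49446, 7, 122978, 22),
  (49450, 5, 362, 4),
  (49455, 7, 196791, 19),
  (49457, 6, 86122, 20),
  (49460, 6, 372, 14),
  (49464, 5, 155720, 5),
  (49469, 6, 196798, 19),
  (49477, 5, 205206, 19),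
  (49482, 5, 362, 8),
  (49487, 6, 194561, 24),
  (49490, 6, 86244, 20),
  (49492, 6, 205210, 19),
  (49495, 6, 205215, 19),
  (49496, 5, 155720, 16),
  (49499, 7, 69998, 25),
  (49501, 6, 155725, 16),
  (49502, 6, 38305, 26),
  (49507, 6, 69806, 25),
  (49509, 6, 65718, 25),
  (49510, 6, 358, 12),
  (49522, 6, 22670, 21),
  (49531, 7, 244097, 24),
  (49538, 6, 213474, 6),
  (49540, 6, 213476, 6),
  (49543, 6, 213479, 6),
  (49549, 6, 205046, 19),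
  (49550, 6, 191863, 24),
  (49552, 7, 205016, 19),
  (49557, 7, 31058, 21),
  (49558, 7, 31122, 21),
  (49562, 6, 156106, 13),
  (49564, 6, 205050, 19),
  (49569, 7, 196820, 19),
  (49575, 7, 196823, 19),
  (49576, 5, 213480, 3),
  (49590, 6, 213110, 15),
  (49593, 6, 196860, 19),
  (49596, 6, 196858, 19),
  (49601, 6, 205268, 19),
  (49602, 7, 28762, 22),
  (49604, 6, 205266, 19),
  (49607, 6, 205271, 19),
  (49608, 6, 213064, 6),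
  (49613, 7, 227738, 22),
  (49614, 6, 191489, 24),
  (49616, 6, 205272, 19),
  (49619, 6, 205277, 19),
  (49622, 6, 25062, 12),
  (49631, 7, 163275, 4),
  (49633, 7, 49212, 21),
  (49634, 6, 482, 12),
  (49636, 5, 484, 12),
  (49639, 6, 213063, 3),
  (49643, 6, 30941, 21),
  (49653, 7, 65783, 25),
  (49658, 5, 196986, 17),
  (49663, 7, 38389, 26),
  (50181, 7, 94340, 25),
  (50183, 7, 53298, 26),
  (50187, 7, 49330, 26),
  (50205, 7, 258180, 25),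
  (50207, 7, 258188, 25),
  (50215, 7, 245794, 22),
  (50217, 7, 49362, 26),
  (50219, 7, 180262, 22),
  (50225, 6, 88106, 20),
  (50227, 6, 88110, 20),
  (50237, 7, 53714, 26),
  (50239, 7, 232589, 41),
  (50247, 7, 246210, 22),
  (50249, 7, 74115, 23),
  (50271, 7, 70004, 25),
  (50277, 7, 41018, 26),
  (50283, 7, 70052, 25),
  (50301, 7, 238010, 26),
  (50305, 6, 41164, 21),
  (50325, 6, 50633, 22),
  (50327, 5, 247, 10),
  (50329, 7, 52557, 22),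
  (50331, 7, 219190, 20),
  (50337, 6, 102556, 21),
  (50359, 6, 80342, 21),
  (50361, 6, 38363, 24),
  (50371, 6, 26710, 26),
  (50381, 7, 191591, 19),
  (50389, 7, 80218, 21),
  (50403, 6, 202894, 20),
  (50413, 7, 108734, 26),
  (50421, 6, 126129, 11),
  (50425, 6, 243089, 24),
  (50435, 6, 71718, 25),
  (50447, 7, 53427, 26),
  (50453, 6, 104861, 23),
  (50477, 7, 68030, 25),
  (50479, 7, 72118, 25),
  (50485, 6, 36215, 5),
  (50489, 6, 38267, 5),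
  (50499, 6, 69670, 25),
  (50509, 7, 110987, 23),
  (50511, 7, 256466, 22),
  (50517, 6, 211983, 19),
  (50519, 6, 7569, 19),
  (50521, 7, 65902, 25),
  (50523, 6, 38193, 7),
  (50543, 7, 237606, 22),
  (50549, 7, 88398, 21),
  (50553, 6, 244113, 24),
  (50555, 6, 72979, 23),
  (50571, 6, 71975, 25),
  (50577, 7, 96338, 21),
  (50599, 7, 184508, 21),
  (50603, 6, 250955, 3),
  (50609, 6, 7583, 24),
  (50629, 6, 240711, 19),
  (50631, 6, 36241, 19),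
  (50633, 5, 491, 15),
  (50641, 6, 243789, 19),
  (50643, 6, 39313, 19),
  (50653, 7, 31825, 43),
  (50663, 7, 180412, 21),
  (50665, 7, 143462, 22),
  (50667, 7, 50421, 26),
  (50673, 6, 212369, 24),
  (50675, 7, 96478, 21),
  (50685, 7, 232783, 41),
  (51203, 7, 36922, 26),
  (51207, 7, 196962, 22),
  (51213, 6, 149778, 19),
  (51214, 7, 65622, 41),
  (51218, 6, 24646, 13),
  (51231, 6, 118149, 22),
  (51235, 7, 24732, 25),
  (51246, 6, 49382, 22),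
  (51250, 6, 41116, 25),
  (51254, 5, 118, 2),
  (51263, 7, 33274, 26),
  (51267, 7, 77868, 25),
  (51277, 6, 215298, 22),
  (51281, 6, 145422, 19),
  (51282, 5, 118, 1),
  (51285, 6, 143706, 26),
  (51291, 7, 225778, 26),
  (51295, 6, 140607, 19),
  (51303, 7, 61498, 26),
  (51314, 6, 78028, 25),
  (51318, 5, 118, 17),
  (51333, 6, 166162, 19),
  (51339, 6, 37054, 26),
  (51343, 7, 124385, 39),
  (51347, 6, 37182, 26),
  (51353, 6, 37278, 26),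
  (51354, 6, 127222, 10),
  (51358, 6, 39154, 1),
  (51361, 6, 168220, 21),
  (51366, 6, 82150, 11),
  (51379, 7, 145622, 21),
  (51383, 6, 90359, 11),
  (51385, 6, 38379, 24),
  (51389, 7, 194818, 19),
  (51394, 6, 82150, 10),
  (51403, 6, 96502, 26),
  (51411, 6, 162166, 26),
  (51418, 6, 219622, 26),
  (51429, 6, 33052, 21),
  (51435, 6, 129206, 26),
  (51439, 5, 129214, 26),
  (51443, 6, 194870, 26),
  (51449, 6, 251297, 24),
  (51450, 5, 129214, 11),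
  (51453, 6, 244126, 26),
  (51454, 5, 252334, 26),
  (51457, 6, 124305, 39),
  (51462, 7, 73842, 22),
  (51475, 7, 153794, 21),
  (51482, 6, 192526, 7),
  (51485, 7, 154002, 19),
  (51486, 5, 194570, 7),
  (51489, 6, 76054, 19),
  (51490, 6, 358, 4),
  (51499, 7, 254182, 22),
  (51503, 7, 80318, 25),
  (51513, 6, 39405, 24),
  (51514, 6, 194870, 5),
  (51517, 7, 107689, 20),
  (51522, 7, 24786, 22),
  (51526, 6, 358, 8),
  (51531, 7, 78126, 25),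
  (51535, 7, 78142, 25),
  (51539, 7, 77934, 25),
  (51543, 7, 77950, 25),
  (51546, 7, 78158, 25),
  (51549, 6, 74102, 25),
  (51550, 6, 194634, 7),
  (51558, 7, 82220, 21),
  (51567, 6, 154061, 21),
  (51577, 5, 74214, 25),
  (51578, 6, 194934, 5),
  (51582, 6, 192582, 14),
  (51587, 7, 106988, 21),
  (51591, 7, 237804, 21),
  (51593, 7, 125286, 19),
  (51598, 6, 219622, 6),
  (51606, 5, 147702, 2),
  (51615, 8, 62485, 44),
  (51619, 7, 258274, 22),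
  (51623, 7, 192738, 22),
  (51625, 7, 225446, 22),
  (51626, 6, 39402, 12),
  (51629, 6, 251981, 3),
  (51633, 6, 7599, 24),
  (51634, 6, 74102, 4),
  (51637, 7, 178562, 19),
  (51647, 8, 162263, 21),
  (51657, 5, 493, 15),
  (51658, 7, 192875, 23),
  (51662, 6, 252326, 6),
  (51665, 7, 161882, 21),
  (51666, 7, 117069, 20),
  (51670, 5, 74214, 8),
  (51679, 7, 213375, 17),
  (51690, 5, 6634, 12),
  (51693, 6, 162141, 21),
  (51697, 6, 220577, 24),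
  (51698, 6, 147926, 1),
  (51707, 7, 38397, 26),
  (51711, 7, 244135, 6),
  (52227, 7, 94364, 25),
  (52229, 7, 164044, 21),
  (52251, 6, 231639, 23),
  (52253, 7, 49562, 26),
  (52257, 7, 53338, 26),
  (52261, 7, 20628, 25),
  (52263, 7, 49274, 26),
  (52283, 7, 53754, 26),
  (52287, 6, 49658, 26),
  (52289, 7, 12402, 26),
  (52293, 7, 73788, 25),
  (52295, 7, 28762, 26),
  (52317, 6, 74108, 25),
  (52319, 7, 207047, 23),
  (52321, 7, 196834, 22),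
  (52323, 7, 164236, 21),
  (52327, 7, 78004, 25),
  (52345, 6, 74220, 25),
  (52347, 7, 78308, 25),
  (52351, 6, 101715, 23),
  (52365, 7, 49310, 26),
  (52367, 6, 49342, 26),
  (52369, 7, 53534, 26),
  (52393, 6, 38267, 24),
  (52395, 6, 157925, 38),
  (52397, 7, 49374, 26),
  (52399, 7, 184486, 22),
  (52401, 7, 53598, 26),
  (52403, 7, 53630, 26),
  (52405, 7, 21915, 24),
  (52425, 7, 186762, 22),
  (52431, 7, 96478, 26),
  (52433, 7, 211034, 21),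
  (52435, 7, 211162, 21),
  (52457, 6, 193841, 24),
  (52463, 7, 168102, 22),
  (52467, 7, 194838, 26),
  (52501, 5, 375, 7),
  (52521, 6, 39293, 24),
  (52523, 7, 254118, 22),
  (52525, 6, 155878, 22),
  (52529, 6, 219206, 21),
  (52533, 7, 219462, 21),
  (52535, 7, 219590, 21),
  (52555, 7, 52317, 41),
  (52557, 6, 74046, 25),
  (52559, 7, 256338, 22),
  (52561, 6, 219210, 21),
  (52567, 7, 50489, 26),
  (52585, 5, 74158, 25),
  (52587, 6, 78246, 25),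
  (52591, 6, 103763, 23),
  (52595, 5, 375, 5),
  (52597, 7, 73982, 25),
  (52599, 6, 104785, 23),
  (52611, 6, 79911, 25),
  (52635, 7, 169349, 44),
  (52641, 6, 7487, 24),
  (52643, 6, 175491, 19),
  (52647, 6, 249249, 12),
  (52667, 7, 47231, 40),
  (52669, 7, 73167, 43),
  (52671, 8, 246201, 42),
  (52673, 5, 487, 15),
  (52675, 7, 110948, 21),
  (52677, 7, 240709, 19),
  (52679, 7, 258394, 22),
  (52697, 7, 94537, 39),
  (52705, 6, 163121, 24),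
  (52711, 7, 176290, 22),
  (52729, 7, 128343, 20),
  (52731, 8, 73039, 43),
  (52733, 8, 47215, 40),
  (52735, 8, 245159, 6),
  (53254, 7, 102434, 26),
  (53259, 7, 98482, 26),
  (53261, 6, 155702, 19),
  (53266, 7, 98594, 26),
  (53268, 6, 124, 10),
  (53283, 7, 147852, 25),
  (53286, 6, 116834, 22),
  (53291, 7, 182374, 22),
  (53297, 6, 35915, 21),
  (53298, 6, 122, 2),
  (53305, 6, 37901, 21),
  (53306, 7, 94268, 20),
  (53308, 7, 147514, 19),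
  (53311, 6, 94271, 20),
  (53315, 7, 149830, 22),
  (53325, 5, 155958, 19),
  (53329, 6, 37959, 21),
  (53337, 6, 155964, 19),
  (53338, 6, 122, 1),
  (53340, 6, 155962, 19),
  (53343, 6, 155967, 19),
  (53355, 7, 122930, 26),
  (53362, 7, 94380, 20),
  (53364, 7, 196820, 25),
  (53367, 7, 188858, 26),
  (53372, 6, 24652, 11),
  (53375, 6, 199761, 23),
  (53380, 6, 236, 10),
  (53385, 7, 98454, 26),
  (53386, 5, 82154, 6),
  (53388, 5, 82156, 6),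
  (53397, 5, 253, 10),
  (53405, 6, 19849, 22),
  (53409, 7, 98390, 26),
  (53410, 5, 82154, 11),
  (53417, 7, 208922, 20),
  (53423, 6, 208927, 20),
  (53427, 6, 90363, 11),
  (53429, 7, 147550, 19),
  (53441, 7, 10454, 26),
  (53447, 6, 242117, 21),
  (53449, 6, 156020, 19),
  (53450, 5, 82154, 10),
  (53455, 6, 156023, 19),
  (53459, 7, 225446, 20),
  (53467, 6, 156029, 19),
  (53470, 6, 156027, 19),
  (53473, 7, 209034, 20),
  (53474, 6, 234, 12)]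

theorem chk_rows1_5 : rows1_5.all (rowBP1 tr1 bm1 gensLitP gensListP 1) = true := by decide +kernel

/-- Rows 4800 to 5599. -/
def rows1_6 : List (ℕ × ℕ × ℕ × ℕ) := [(53476, 6, 236, 12),
  (53484, 5, 82156, 2),
  (53487, 7, 124990, 26),
  (53491, 7, 225454, 20),
  (53499, 7, 256310, 26),
  (53501, 6, 129101, 2),
  (53502, 7, 248110, 26),
  (53514, 6, 147530, 15),
  (53519, 7, 203070, 25),
  (53523, 6, 145885, 24),
  (53526, 5, 35134, 16),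
  (53533, 7, 199030, 25),
  (53534, 6, 39222, 16),
  (53537, 6, 157730, 22),
  (53538, 6, 213137, 19),
  (53540, 6, 92194, 22),
  (53543, 7, 231913, 21),
  (53551, 6, 249901, 21),
  (53557, 6, 213150, 19),
  (53558, 5, 194570, 14),
  (53565, 6, 213182, 19),
  (53569, 6, 196646, 25),
  (53570, 6, 26710, 22),
  (53572, 6, 196630, 25),
  (53587, 7, 94438, 20),
  (53595, 7, 201070, 25),
  (53598, 6, 194630, 7),
  (53602, 5, 362, 12),
  (53607, 7, 239714, 22),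
  (53609, 6, 141350, 22),
  (53610, 6, 201102, 25),
  (53612, 6, 75814, 22),
  (53622, 6, 194634, 14),
  (53630, 6, 190842, 5),
  (53643, 6, 38379, 15),
  (53645, 6, 213485, 6),
  (53650, 6, 147706, 2),
  (53667, 7, 98423, 26),
  (53669, 6, 213206, 19),
  (53675, 7, 194662, 22),
  (53677, 6, 213238, 19),
  (53678, 6, 249926, 3),
  (53681, 6, 213212, 19),
  (53682, 7, 225388, 20),
  (53689, 6, 213244, 19),
  (53690, 6, 213114, 15),
  (53692, 6, 213242, 19),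
  (53695, 7, 213247, 19),
  (53702, 6, 250286, 6),
  (53707, 7, 116797, 21),
  (53710, 7, 94430, 22),
  (53713, 7, 17725, 22),
  (53714, 6, 25066, 12),
  (53716, 6, 25068, 12),
  (53731, 6, 213067, 3),
  (53733, 6, 213069, 3),
  (53739, 7, 209118, 20),
  (53742, 7, 159041, 24),
  (53745, 6, 213468, 19),
  (53746, 7, 81059, 21),
  (53748, 6, 213466, 19),
  (53753, 7, 225530, 20),
  (53754, 6, 147930, 1),
  (53756, 7, 216513, 24),
  (53759, 8, 190667, 14),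
  (54273, 7, 217476, 25),
  (54275, 7, 79878, 20),
  (54281, 7, 164134, 22),
  (54293, 6, 101781, 23),
  (54301, 6, 52673, 22),
  (54303, 7, 119218, 26),
  (54305, 7, 79882, 20),
  (54315, 7, 114930, 26),
  (54325, 7, 96299, 20),
  (54333, 7, 138691, 43),
  (54339, 7, 24786, 26),
  (54345, 7, 73842, 26),
  (54347, 7, 180550, 22),
  (54359, 6, 156122, 26),
  (54365, 5, 196988, 25),
  (54367, 6, 7473, 19),
  (54369, 7, 41138, 26),
  (54371, 7, 165922, 22),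
  (54377, 7, 133222, 22),
  (54389, 6, 196860, 25),
  (54405, 7, 118806, 26),
  (54407, 7, 236014, 22),
  (54415, 6, 215225, 42),
  (54417, 7, 227362, 20),
  (54419, 5, 251, 10),
  (54427, 6, 177547, 24),
  (54437, 7, 118870, 26),
  (54439, 6, 30059, 24),
  (54449, 7, 115030, 26),
  (54457, 7, 115158, 26),
  (54459, 6, 115190, 26),
  (54471, 7, 252366, 22),
  (54477, 6, 191559, 19),
  (54479, 6, 36145, 19),
  (54489, 6, 194637, 19),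
  (54491, 6, 39217, 19),
  (54503, 7, 60705, 19),
  (54509, 7, 191575, 19),
  (54513, 7, 174518, 26),
  (54521, 6, 128075, 2),
  (54533, 6, 103833, 23),
  (54535, 6, 229741, 21),
  (54541, 7, 198974, 25),
  (54543, 7, 238070, 22),
  (54545, 6, 73117, 23),
  (54547, 7, 96358, 20),
  (54553, 5, 379, 7),
  (54565, 7, 22909, 24),
  (54575, 6, 256038, 22),
  (54577, 7, 211219, 23),
  (54605, 6, 196926, 25),
  (54609, 7, 96482, 20),
  (54611, 7, 138295, 43),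
  (54619, 6, 96502, 20),
  (54629, 6, 196798, 25),
  (54631, 7, 239650, 22),
  (54643, 5, 379, 5),
  (54649, 6, 96506, 20),
  (54665, 7, 176446, 22),
  (54667, 7, 176510, 22),
  (54677, 8, 259271, 16),
  (54679, 8, 159945, 38),
  (54685, 8, 52697, 22),
  (54687, 7, 104707, 40),
  (54697, 7, 211034, 20),
  (54719, 7, 54367, 44),
  (54723, 7, 200743, 25),
  (54731, 7, 192862, 22),
  (54741, 8, 215069, 42),
  (54743, 7, 44073, 41),
  (54749, 7, 220537, 17),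
  (54761, 7, 211162, 20),
  (54763, 7, 211166, 20),
  (54781, 7, 238009, 37),
  (55297, 6, 133542, 22),
  (55306, 6, 230, 22),
  (55315, 7, 102714, 26),
  (55319, 7, 246172, 25),
  (55323, 7, 123292, 25),
  (55327, 6, 98746, 26),
  (55333, 6, 20809, 24),
  (55337, 6, 26902, 19),
  (55338, 6, 116966, 22),
  (55351, 7, 98682, 26),
  (55355, 7, 118019, 22),
  (55359, 7, 98810, 26),
  (55361, 6, 141350, 19),
  (55362, 6, 18630, 22),
  (55374, 5, 81990, 22),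
  (55379, 7, 116005, 22),
  (55387, 7, 209260, 25),
  (55394, 6, 32948, 39),
  (55397, 6, 26914, 19),
  (55401, 6, 157718, 19),
  (55406, 6, 35046, 22),
  (55415, 7, 192954, 26),
  (55423, 7, 209404, 25),
  (55427, 7, 102462, 26),
  (55439, 7, 201070, 22),
  (55446, 6, 39162, 1),
  (55449, 6, 169387, 24),
  (55453, 7, 170290, 19),
  (55459, 7, 252130, 22),
  (55467, 7, 15751, 20),
  (55471, 7, 200089, 20),
  (55473, 7, 102750, 26),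
  (55474, 7, 148569, 19),
  (55477, 6, 129025, 2),
  (55481, 7, 102878, 26),
  (55482, 6, 6390, 2),
  (55485, 7, 178466, 19),
  (55486, 7, 98798, 26),
  (55495, 7, 222689, 23),
  (55505, 7, 83245, 22),
  (55510, 5, 6394, 1),
  (55513, 6, 39089, 10),
  (55527, 7, 148823, 19),
  (55535, 7, 144737, 24),
  (55537, 6, 178302, 19),
  (55542, 7, 182355, 23),
  (55546, 6, 129206, 11),
  (55550, 7, 252206, 26),
  (55559, 6, 162141, 24),
  (55563, 7, 211246, 25),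
  (55567, 6, 205174, 22),
  (55573, 6, 154061, 24),
  (55581, 5, 381, 7),
  (55606, 6, 192526, 14),
  (55610, 6, 190782, 5),
  (55623, 7, 210377, 23),
  (55627, 6, 156118, 22),
  (55634, 7, 115765, 22),
  (55637, 6, 204918, 25),
  (55638, 6, 35194, 16),
  (55641, 6, 205158, 25),
  (55642, 6, 192582, 7),
  (55645, 6, 205174, 25),
  (55651, 7, 239842, 22),
  (55655, 7, 174306, 22),
  (55663, 7, 99577, 26),
  (55665, 5, 381, 5),
  (55666, 7, 103785, 26),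
  (55669, 6, 205046, 25),
  (55670, 7, 209118, 25),
  (55673, 6, 205286, 25),
  (55677, 7, 14754, 19),
  (55678, 7, 83245, 21),
  (55682, 6, 219626, 6),
  (55685, 7, 211262, 22),
  (55689, 7, 143806, 22),
  (55694, 7, 77950, 22),
  (55703, 7, 90591, 11),
  (55714, 6, 35306, 12),
  (55722, 6, 251970, 3),
  (55725, 7, 161958, 22),
  (55735, 8, 163065, 8),
  (55739, 8, 92605, 39),
  (55749, 7, 51634, 19),
  (55750, 5, 252334, 6),
  (55753, 7, 160158, 22),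
  (55757, 6, 95467, 23),
  (55758, 6, 248238, 6),
  (55767, 8, 103685, 44),
  (55771, 7, 249149, 21),
  (55777, 6, 103763, 20),
  (55781, 7, 178273, 21),
  (55782, 7, 47330, 22),
  (55789, 7, 145574, 22),
  (55790, 6, 6630, 12),
  (55795, 7, 193725, 8),
  (56339, 6, 258460, 25),
  (56341, 7, 250260, 25),
  (56347, 7, 119226, 26),
  (56369, 6, 21655, 20),
  (56371, 7, 119162, 26),
  (56373, 7, 116167, 22),
  (56379, 7, 119290, 26),
  (56401, 7, 145455, 19),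
  (56403, 6, 23859, 19),
  (56405, 6, 204924, 25),
  (56413, 6, 205180, 25),
  (56433, 6, 205036, 25),
  (56439, 6, 83431, 22),
  (56441, 6, 205292, 25),
  (56443, 7, 258322, 26),
  (56447, 7, 209396, 25),
  (56453, 7, 83441, 23),
  (56455, 7, 235886, 22),
  (56457, 7, 118942, 26),
  (56459, 6, 177451, 24),
  (56461, 6, 104861, 21),
  (56481, 6, 43465, 21),
  (56487, 7, 114814, 26),
  (56489, 7, 59735, 19),
  (56491, 6, 175395, 19),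
  (56513, 7, 14582, 26),
  (56517, 6, 177265, 24),
  (56523, 7, 184782, 22),
  (56527, 6, 35229, 21),
  (56547, 6, 72979, 20),
  (56549, 6, 175221, 19),
  (56551, 7, 140701, 20),
  (56555, 7, 129046, 26),
  (56557, 7, 137446, 22),
  (56577, 7, 174518, 22),
  (56581, 6, 206910, 25),
  (56585, 7, 172470, 22),
  (56587, 7, 172534, 22),
  (56591, 7, 237942, 22),
  (56619, 7, 211366, 25),
  (56621, 6, 55581, 24),
  (56623, 6, 114939, 26),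
  (56647, 7, 233573, 21),
  (56649, 6, 205102, 25),
  (56653, 6, 205118, 25),
  (56655, 6, 2483, 19),
  (56673, 6, 204974, 25),
  (56677, 6, 204990, 25),
  (56679, 7, 209078, 25),
  (56685, 7, 234833, 23),
  (56725, 7, 240765, 3),
  (56731, 7, 155871, 8),
  (56733, 8, 158939, 8),
  (56753, 8, 151003, 10),
  (56763, 7, 155903, 8),
  (56785, 7, 220533, 17),
  (56793, 7, 205167, 25),
  (56797, 7, 205183, 25),
  (56799, 8, 128407, 11),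
  (56817, 7, 205039, 25),
  (56819, 8, 126399, 11),
  (56823, 7, 194747, 8),
  (56825, 7, 205295, 25),
  (56829, 8, 109951, 13),
  (57347, 6, 69670, 20),
  (57350, 6, 24646, 15),
  (57353, 6, 245956, 25),
  (57354, 7, 26742, 42),
  (57359, 7, 168114, 26),
  (57365, 6, 143390, 19),
  (57369, 6, 7235, 21),
  (57372, 6, 124, 5),
  (57381, 6, 168018, 26),
  (57382, 6, 90417, 24),
  (57385, 6, 7237, 21),
  (57386, 6, 122, 4),
  (57388, 7, 172228, 25),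
  (57391, 7, 135223, 19),
  (57398, 5, 118, 6),
  (57402, 7, 86044, 20),
  (57407, 7, 168434, 26),
  (57414, 5, 118, 3),
  (57420, 7, 143666, 19),
  (57423, 7, 102716, 25),
  (57427, 6, 102508, 25),
  (57433, 6, 7243, 21),
  (57434, 6, 122, 8),
  (57443, 6, 69806, 20),
  (57446, 6, 156033, 24),
  (57449, 6, 7245, 21),
  (57450, 7, 69820, 20),
  (57452, 6, 124, 7),
  (57455, 7, 216513, 22),
  (57461, 6, 172058, 26),
  (57462, 5, 118, 12),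
  (57465, 6, 135484, 19),
  (57468, 7, 198666, 39),
  (57471, 7, 102908, 25),
  (57474, 6, 90354, 6),
  (57479, 6, 36087, 15),
  (57485, 7, 143478, 19),
  (57486, 7, 168102, 26),
  (57489, 6, 143452, 19),
  (57490, 7, 164134, 26),
  (57495, 7, 235550, 21),
  (57496, 5, 90360, 14),
  (57499, 6, 243163, 24),
  (57501, 6, 39089, 14),
  (57502, 7, 168358, 26),
  (57505, 6, 185505, 37),
  (57506, 7, 75914, 21),
  (57518, 5, 129214, 7),
  (57527, 7, 168310, 26),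
  (57528, 5, 90360, 3),
  (57538, 7, 77958, 21),
  (57540, 6, 143622, 21),
  (57544, 6, 90184, 6),
  (57547, 7, 92662, 26),
  (57550, 7, 84462, 26),
  (57556, 6, 143706, 19),
  (57559, 7, 157822, 26),
  (57563, 6, 242689, 24),
  (57565, 6, 250881, 24),
  (57566, 6, 129090, 5),
  (57575, 7, 95255, 40),
  (57576, 5, 90360, 16),
  (57579, 7, 125366, 26),
  (57581, 6, 129025, 7),
  (57585, 6, 174102, 26),
  (57586, 6, 242, 12),
  (57591, 6, 126199, 12),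
  (57595, 7, 217246, 20),
  (57597, 7, 200743, 22),
  (57601, 6, 100390, 25),
  (57604, 6, 156020, 6),
  (57607, 6, 36215, 15),
  (57611, 7, 141683, 22),
  (57613, 7, 209078, 19),
  (57618, 6, 88110, 21),
  (57623, 7, 104574, 25),
  (57627, 6, 244189, 24),
  (57629, 6, 252397, 24),
  (57630, 6, 35194, 8),
  (57639, 7, 168051, 26),
  (57640, 6, 376, 4),
  (57643, 6, 38193, 13),
  (57645, 7, 100790, 25),
  (57650, 6, 86092, 20),
  (57652, 7, 100566, 25),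
  (57656, 5, 155720, 12),
  (57661, 7, 100854, 25),
  (57662, 7, 104926, 25),
  (57671, 7, 102462, 25),
  (57672, 5, 155720, 6),
  (57681, 6, 98406, 25),
  (57684, 7, 149550, 21),
  (57687, 7, 247854, 21),
  (57688, 6, 376, 8),
  (57691, 6, 156027, 17),
  (57693, 6, 251905, 24),
  (57694, 7, 102750, 25),
  (57697, 6, 185467, 37),
  (57700, 7, 98454, 25),
  (57710, 5, 35134, 4),
  (57716, 6, 372, 12),
  (57719, 6, 155719, 3),
  (57723, 7, 86238, 20),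
  (57726, 7, 106599, 22),
  (57731, 7, 106734, 21),
  (57733, 7, 209110, 19),
  (57737, 6, 100647, 25),
  (57738, 6, 156122, 13),
  (57740, 6, 90604, 14),
  (57743, 8, 32209, 21),
  (57747, 6, 212383, 24),
  (57749, 6, 220591, 24),
  (57753, 7, 217170, 20),
  (57754, 6, 147930, 13),
  (57756, 6, 249319, 24),
  (57763, 7, 108778, 21),
  (57766, 7, 207274, 21),
  (57772, 6, 74220, 14),
  (57781, 6, 200926, 19),
  (57785, 7, 200956, 19),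
  (57795, 6, 160091, 22),
  (57801, 7, 209396, 19),
  (57811, 6, 211969, 24),
  (57813, 6, 220161, 24),
  (57817, 7, 209404, 19),
  (57818, 6, 240641, 24),
  (57820, 6, 248833, 24),
  (57829, 7, 98487, 25),
  (57830, 7, 211362, 21),
  (57834, 6, 205162, 17),
  (57843, 7, 217294, 20),
  (57845, 7, 180286, 21),
  (57849, 6, 217306, 20),
  (57850, 6, 205178, 17),
  (57852, 6, 213244, 16),
  (57855, 8, 129451, 11),
  (58369, 6, 164131, 22),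
  (58371, 6, 71718, 20),
  (58397, 7, 225476, 25),
  (58413, 6, 192708, 25),
  (58415, 7, 192716, 25),
  (58431, 6, 245799, 22),
  (58447, 6, 90586, 26),
  (58449, 6, 88194, 20),
  (58451, 6, 88198, 20),
  (58461, 6, 205050, 26),
  (58465, 6, 71850, 20),
  (58467, 6, 102564, 25),
  (58479, 7, 123290, 26),
  (58493, 7, 197975, 23),
  (58495, 6, 27913, 19),
  (58501, 7, 100413, 25),
  (58505, 7, 202802, 20),
  (58507, 6, 104741, 25),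
  (58517, 6, 36017, 14),
  (58519, 7, 170142, 21),
  (58521, 6, 128251, 5),
  (58523, 6, 81107, 21),
  (58537, 7, 180438, 26),
  (58549, 7, 233630, 21),
  (58553, 7, 180694, 26),
  (58555, 6, 128075, 3),
  (58569, 5, 251, 15),
  (58581, 7, 141438, 26),
  (58583, 7, 102517, 25),
  (58599, 6, 90359, 16),
  (58603, 6, 90363, 16),
  (58613, 7, 229534, 21),
  (58615, 7, 163998, 21),
  (58647, 7, 235673, 23),
  (58649, 7, 88146, 20),
  (58651, 7, 88150, 20),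
  (58661, 7, 100542, 25),
  (58665, 7, 100782, 25),
  (58667, 7, 71806, 20),
  (58677, 7, 250030, 21),
  (58679, 7, 78165, 23),
  (58683, 6, 193841, 12),
  (58697, 5, 379, 15),
  (58725, 7, 98494, 25),
  (58741, 7, 245934, 21),
  (58743, 6, 11657, 19),
  (58745, 7, 243985, 24),
  (58755, 7, 106606, 21),
  (58765, 7, 234621, 3),
  (58767, 7, 107811, 38),
  (58771, 6, 219206, 20),
  (58783, 7, 108565, 44),
  (58785, 7, 177465, 22),
  (58787, 6, 178569, 19),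
  (58797, 8, 195067, 4),
  (58801, 6, 219210, 20),
  (58815, 8, 107955, 38),
  (58829, 8, 30083, 42),
  (58845, 7, 108677, 44),
  (58849, 7, 98479, 25),
  (58867, 6, 49342, 21),
  (58879, 7, 213247, 16),
  (59398, 6, 65635, 22),
  (59403, 6, 168122, 26),
  (59407, 7, 97417, 20),
  (59409, 6, 168218, 26),
  (59410, 6, 73948, 25),
  (59413, 6, 164122, 26),
  (59414, 6, 24646, 11),
  (59423, 6, 213212, 25),
  (59425, 6, 10526, 19),
  (59426, 5, 118, 4),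
  (59429, 6, 163930, 26),
  (59435, 7, 188636, 25),
  (59446, 5, 220, 25),
  (59451, 6, 155868, 25),
  (59462, 6, 110620, 25),
  (59467, 6, 238023, 23),
  (59474, 6, 110668, 25),
  (59478, 5, 118, 8),
  (59487, 7, 225530, 26),
  (59490, 5, 118, 10),
  (59499, 7, 97335, 20),
  (59503, 6, 27785, 20),
  (59505, 6, 176146, 26),
  (59509, 6, 17577, 20),
  (59510, 6, 205089, 24),
  (59523, 6, 106958, 21),
  (59527, 7, 112701, 25),
  (59533, 7, 163998, 26),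
  (59534, 6, 96502, 6),
  (59546, 6, 129030, 5),
  (59550, 7, 112989, 25),
  (59559, 7, 239818, 21),
  (59562, 6, 127166, 7),
  (59566, 6, 129034, 16),
  (59578, 6, 39162, 12),
  (59581, 6, 129101, 3),
  (59587, 6, 152011, 22),
  (59591, 7, 31102, 26),
  (59593, 5, 253, 15),
  (59594, 7, 88550, 26),
  (59598, 6, 129206, 6),
  (59603, 7, 110701, 25),
  (59609, 7, 194662, 19),
  (59610, 6, 129094, 5),
  (59613, 7, 51482, 19),
  (59614, 6, 127046, 5),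
  (59623, 7, 63806, 26),
  (59625, 7, 190590, 19),
  (59629, 7, 113054, 26),
  (59630, 6, 129274, 7),
  (59642, 5, 6394, 12),
  (59651, 7, 98798, 21),
  (59655, 7, 229614, 21),
  (59662, 6, 162166, 6),
  (59667, 7, 252206, 21),
  (59671, 7, 189667, 22),
  (59678, 7, 155011, 21),
  (59683, 6, 36145, 13),
  (59689, 6, 39217, 13),
  (59694, 7, 125269, 24),
  (59706, 6, 194634, 3),
  (59709, 6, 194865, 12),
  (59710, 7, 125097, 20),
  (59719, 7, 110654, 25),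
  (59721, 5, 381, 15),
  (59725, 7, 106806, 25),
  (59726, 6, 194870, 6),
  (59731, 7, 248110, 21),
  (59735, 6, 191489, 8),
  (59737, 6, 107643, 20),
  (59741, 6, 156029, 17),
  (59757, 7, 31114, 19),
  (59767, 7, 52393, 20),
  (59769, 6, 106982, 25),
  (59770, 6, 6522, 12),
  (59773, 7, 106998, 25),
  (59777, 6, 108583, 25),
  (59778, 5, 74158, 21),
  (59782, 6, 204974, 21),
  (59787, 7, 81255, 7),
  (59794, 6, 147926, 13),
  (59807, 7, 59413, 44),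
  (59810, 7, 194581, 23),
  (59813, 7, 174186, 21),
  (59830, 6, 90598, 11),
  (59839, 8, 230897, 39),
  (59842, 6, 213238, 10),
  (59845, 6, 39322, 19),
  (59851, 8, 79145, 38),
  (59857, 6, 243782, 19),
  (59858, 7, 215358, 21),
  (59867, 7, 59429, 44),
  (59873, 6, 120163, 20),
  (59877, 7, 181641, 20),
  (59878, 6, 205158, 17),
  (59887, 7, 205167, 17),
  (59889, 7, 243798, 19),
  (59890, 6, 205030, 10),
  (59894, 6, 205174, 17),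
  (59899, 7, 201935, 40),
  (59903, 7, 205183, 17),
  (60425, 7, 184474, 26),
  (60431, 7, 180410, 26),
  (60443, 7, 11451, 20),
  (60445, 7, 32037, 19),
  (60447, 6, 217308, 25),
  (60461, 7, 184532, 25),
  (60473, 7, 159956, 25),
  (60477, 6, 238935, 23),
  (60493, 6, 74183, 23),
  (60495, 7, 94682, 26),
  (60505, 6, 74815, 20),
  (60507, 7, 225490, 26),
  (60509, 7, 132327, 22),
  (60525, 7, 111034, 26),
  (60537, 7, 196839, 22),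
  (60543, 7, 258202, 26),
  (60547, 6, 112677, 25),
  (60549, 7, 180254, 26),
  (60551, 7, 180286, 26),
  (60567, 6, 39326, 21),
  (60579, 7, 184446, 26),
  (60581, 6, 126199, 16),
  (60583, 6, 239690, 21),
  (60597, 7, 151779, 22),
  (60599, 6, 126129, 12),
  (60609, 5, 247, 15),
  (60615, 6, 241734, 21),
  (60627, 6, 36087, 14),
  (60629, 6, 106621, 25),
  (60631, 5, 35230, 21),
  (60641, 6, 47554, 21),
  (60643, 6, 89379, 20),
  (60645, 7, 47422, 26),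
  (60647, 6, 243778, 21),
  (60661, 7, 178238, 26),
  (60677, 7, 164078, 21),
  (60689, 5, 252334, 21),
  (60691, 6, 155719, 8),
  (60693, 6, 121262, 21),
  (60705, 6, 35306, 21),
  (60707, 6, 146827, 19),
  (60709, 7, 108734, 25),
  (60711, 6, 180347, 26),
  (60721, 6, 250286, 21),
  (60727, 6, 191559, 3),
  (60737, 5, 375, 15),
  (60741, 6, 78285, 23),
  (60753, 6, 248238, 21),
  (60769, 6, 39394, 21),
  (60771, 7, 104802, 21),
  (60773, 6, 36215, 13),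
  (60785, 7, 106734, 25),
  (60787, 6, 180654, 21),
  (60789, 7, 211249, 24),
  (60809, 8, 184479, 26),
  (60811, 7, 57795, 42),
  (60815, 7, 57737, 42),
  (60827, 7, 166277, 44),
  (60831, 7, 22665, 41),
  (60841, 7, 163275, 10),
  (60843, 7, 75861, 38),
  (60847, 7, 165969, 44),
  (60859, 8, 148923, 37),
  (60861, 8, 201147, 39),
  (60863, 7, 128343, 23),
  (60873, 7, 194971, 22),
  (60875, 8, 13509, 40),
  (60877, 8, 99357, 43),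
  (60889, 7, 166165, 44),
  (60891, 7, 99649, 43),
  (60905, 7, 22693, 41),
  (60907, 7, 57381, 42),
  (60911, 8, 161277, 4),
  (60921, 7, 22767, 41),
  (60923, 7, 99663, 43),
  (60927, 8, 111095, 25),
  (61441, 6, 246212, 25),
  (61444, 7, 238020, 25),
  (61447, 7, 233522, 26),
  (61449, 6, 131367, 22),
  (61450, 6, 24650, 15),
  (61452, 6, 24652, 15),
  (61455, 7, 233650, 26),
  (61457, 6, 33869, 21),
  (61458, 6, 24650, 11),
  (61465, 6, 38927, 21),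
  (61466, 7, 229794, 26),
  (61468, 7, 159802, 19),
  (61471, 6, 90572, 25),
  (61473, 6, 34891, 21),
  (61474, 7, 77868, 20),
  (61476, 6, 24652, 10),
  (61481, 6, 37903, 21),
  (61492, 7, 151578, 19),
  (61495, 6, 156108, 25),
  (61498, 6, 122, 6),
  (61500, 6, 124, 6),
  (61506, 6, 122, 3),
  (61508, 6, 124, 3),
  (61514, 7, 78004, 20),
  (61519, 6, 90490, 26),
  (61521, 6, 37957, 21),
  (61522, 7, 94340, 20),
  (61524, 7, 160026, 19),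
  (61527, 6, 155898, 26),
  (61529, 6, 34831, 21),
  (61532, 6, 124, 11),
  (61537, 6, 38979, 21),
  (61545, 6, 33807, 21),
  (61546, 6, 122, 10),
  (61548, 7, 151858, 19),
  (61553, 6, 172178, 26),
  (61554, 6, 122, 12),
  (61556, 6, 124, 12),
  (61559, 7, 233724, 25),
  (61561, 6, 237586, 26),
  (61562, 7, 94364, 20),
  (61567, 7, 233980, 25),
  (61573, 7, 159830, 19),
  (61579, 6, 90363, 6),
  (61581, 6, 39165, 15),
  (61590, 6, 129034, 5),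
  (61597, 7, 220199, 22),
  (61611, 7, 111899, 24),
  (61614, 6, 129206, 7),
  (61621, 6, 87531, 24),
  (61629, 6, 151678, 19),
  (61630, 6, 127046, 3),
  (61637, 7, 160086, 19),
  (61638, 6, 127166, 6),
  (61643, 7, 209078, 20),
  (61646, 7, 199711, 21),
  (61651, 7, 157942, 26),
  (61653, 7, 141534, 26),
  (61654, 6, 39162, 14),
  (61659, 7, 225430, 20),
  (61661, 7, 206942, 26),
  (61667, 7, 59830, 26),
  (61669, 7, 151894, 19),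
  (61675, 7, 125238, 26),
  (61677, 7, 151926, 19),
  (61678, 6, 129270, 7),
  (61683, 6, 90187, 3),
  (61685, 6, 90189, 3),
  (61691, 7, 256054, 26),
  (61694, 7, 247854, 26),
  (61701, 7, 225430, 19),
  (61702, 7, 235550, 25),
  (61707, 6, 38267, 15),
  (61709, 6, 156029, 6),
  (61715, 7, 235630, 25),
  (61717, 7, 231542, 25),
  (61723, 7, 191591, 22),
  (61725, 7, 231798, 25),
  (61726, 6, 39290, 8),
  (61731, 7, 77934, 20),
  (61733, 7, 233555, 26),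
  (61734, 6, 6518, 4),
  (61739, 7, 77950, 20),
  (61741, 7, 217270, 19),
  (61749, 7, 217246, 19),
  (61750, 7, 125027, 22),
  (61755, 7, 236014, 25),
  (61758, 6, 192582, 3),
  (61763, 6, 158039, 22),
  (61766, 6, 192526, 15),
  (61771, 6, 78070, 20),
  (61779, 7, 212361, 23),
  (61790, 6, 6522, 8),
  (61797, 7, 186817, 24),
  (61798, 6, 39222, 4),
  (61811, 6, 193915, 12),
  (61813, 6, 155725, 3),
  (61819, 7, 94430, 20),
  (61826, 6, 82394, 11),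
  (61828, 6, 90460, 1),
  (61841, 7, 88073, 41),
  (61842, 6, 90570, 11),
  (61849, 7, 225362, 20),
  (61850, 7, 229799, 26),
  (61852, 7, 225530, 19),
  (61855, 7, 88201, 41),
  (61857, 7, 174145, 44),
  (61858, 7, 229479, 26),
  (61860, 6, 156108, 10),
  (61871, 7, 174161, 44),
  (61873, 6, 217308, 19),
  (61874, 6, 90602, 11),
  (61876, 6, 156124, 10),
  (61879, 8, 235775, 25),
  (61881, 6, 225370, 20),
  (61887, 7, 88271, 41),
  (61889, 6, 162079, 22),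
  (61895, 7, 61889, 42),
  (61897, 6, 95407, 23),
  (61898, 6, 213242, 10),
  (61900, 6, 205180, 11),
  (61903, 8, 234677, 26),
  (61905, 7, 225756, 19),
  (61906, 7, 225476, 20),
  (61908, 7, 229463, 25),
  (61911, 7, 174341, 44)]

theorem chk_rows1_6 : rows1_6.all (rowBP1 tr1 bm1 gensLitP gensListP 1) = true := by decide +kernel

/-- Rows 5600 to 6399. -/
def rows1_7 : List (ℕ × ℕ × ℕ × ℕ) := [(61913, 7, 174357, 44),
  (61916, 5, 196988, 11),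
  (61927, 7, 88101, 41),
  (61929, 7, 88229, 41),
  (61930, 6, 196858, 10),
  (61932, 7, 217586, 19),
  (61946, 6, 156122, 1),
  (61948, 6, 213340, 11),
  (62471, 6, 79911, 20),
  (62477, 7, 229799, 22),
  (62485, 7, 250130, 26),
  (62493, 7, 216167, 22),
  (62495, 7, 134457, 19),
  (62503, 7, 78201, 38),
  (62511, 7, 250098, 26),
  (62519, 7, 160204, 25),
  (62527, 6, 250354, 26),
  (62535, 5, 25050, 26),
  (62543, 6, 90458, 26),
  (62549, 6, 139514, 26),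
  (62557, 6, 204922, 26),
  (62559, 7, 3385, 19),
  (62567, 7, 57754, 26),
  (62573, 6, 106810, 26),
  (62575, 7, 123162, 26),
  (62593, 7, 245782, 26),
  (62601, 7, 245910, 26),
  (62609, 7, 227330, 20),
  (62617, 7, 227346, 20),
  (62625, 7, 210986, 20),
  (62633, 6, 90187, 7),
  (62635, 6, 178473, 19),
  (62643, 6, 79307, 24),
  (62649, 7, 227354, 20),
  (62651, 7, 246262, 26),
  (62657, 6, 177361, 24),
  (62665, 7, 78231, 38),
  (62675, 6, 90363, 5),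
  (62681, 6, 229741, 25),
  (62689, 6, 43446, 26),
  (62705, 6, 178293, 19),
  (62707, 7, 26763, 42),
  (62739, 6, 96326, 20),
  (62745, 7, 26799, 42),
  (62747, 6, 193915, 17),
  (62753, 7, 35051, 21),
  (62755, 7, 100459, 21),
  (62761, 7, 231854, 25),
  (62769, 6, 96330, 20),
  (62777, 6, 104861, 24),
  (62779, 7, 79125, 23),
  (62793, 6, 79247, 23),
  (62795, 7, 233766, 25),
  (62817, 6, 38267, 13),
  (62825, 7, 189717, 22),
  (62833, 7, 229614, 25),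
  (62835, 7, 96462, 20),
  (62841, 7, 96474, 20),
  (62843, 7, 96478, 20),
  (62861, 8, 197691, 39),
  (62885, 8, 109951, 19),
  (62895, 7, 235959, 25),
  (62901, 8, 243875, 1),
  (62903, 6, 51439, 44),
  (62909, 7, 14463, 41),
  (62911, 7, 51295, 44),
  (62925, 7, 78177, 38),
  (62941, 7, 26643, 42),
  (62943, 8, 51637, 44),
  (62959, 7, 197839, 39),
  (62967, 8, 212339, 17),
  (62975, 8, 220497, 24),
  (63507, 7, 232913, 23),
  (63511, 6, 213468, 25),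
  (63519, 6, 82396, 25),
  (63523, 7, 233594, 26),
  (63527, 6, 152599, 19),
  (63531, 7, 132581, 22),
  (63539, 6, 156124, 25),
  (63547, 5, 25052, 25),
  (63555, 6, 149959, 22),
  (63563, 7, 241964, 25),
  (63571, 7, 232675, 22),
  (63575, 7, 159994, 26),
  (63583, 7, 225402, 26),
  (63587, 7, 241836, 25),
  (63595, 7, 127282, 26),
  (63607, 7, 152863, 19),
  (63611, 6, 242156, 25),
  (63617, 7, 43374, 19),
  (63618, 6, 96506, 6),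
  (63621, 7, 186682, 19),
  (63625, 7, 233630, 26),
  (63629, 7, 229534, 26),
  (63630, 7, 160883, 19),
  (63634, 6, 243789, 25),
  (63638, 6, 126990, 5),
  (63646, 7, 71967, 21),
  (63650, 7, 76171, 21),
  (63653, 7, 204077, 22),
  (63658, 7, 233710, 26),
  (63661, 6, 90189, 7),
  (63662, 7, 229614, 26),
  (63665, 7, 233822, 26),
  (63669, 7, 153763, 22),
  (63674, 6, 129090, 3),
  (63678, 6, 129094, 3),
  (63681, 6, 153999, 22),
  (63682, 6, 129034, 15),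
  (63685, 6, 169185, 24),
  (63686, 5, 129214, 6),
  (63693, 6, 39226, 19),
  (63697, 6, 39165, 14),
  (63701, 7, 198867, 39),
  (63705, 6, 194630, 19),
  (63717, 7, 47518, 26),
  (63721, 7, 190558, 19),
  (63722, 6, 127222, 7),
  (63725, 7, 47402, 19),
  (63726, 6, 129090, 16),
  (63734, 7, 241885, 25),
  (63742, 6, 6390, 12),
  (63746, 6, 243726, 25),
  (63753, 7, 235821, 24),
  (63754, 7, 243982, 25),
  (63757, 6, 119961, 20),
  (63762, 6, 194934, 17),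
  (63765, 6, 239734, 25),
  (63766, 6, 37238, 8),
  (63769, 6, 155725, 8),
  (63770, 7, 43245, 20),
  (63774, 7, 60647, 22),
  (63786, 7, 244110, 25),
  (63789, 6, 229595, 26),
  (63790, 6, 244126, 25),
  (63794, 6, 35194, 12),
  (63797, 7, 106599, 38),
  (63805, 6, 121229, 24),
  (63806, 6, 194630, 3),
  (63809, 7, 237606, 25),
  (63810, 5, 194570, 15),
  (63813, 7, 22970, 19),
  (63817, 6, 237862, 25),
  (63822, 6, 190782, 6),
  (63826, 6, 6518, 8),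
  (63829, 7, 18874, 19),
  (63837, 7, 237942, 25),
  (63838, 7, 242014, 25),
  (63841, 6, 119923, 20),
  (63845, 6, 156029, 4),
  (63850, 6, 37182, 4),
  (63853, 7, 137697, 24),
  (63854, 6, 39226, 4),
  (63858, 7, 241870, 25),
  (63861, 7, 25869, 42),
  (63869, 7, 238070, 25),
  (63870, 6, 6518, 12),
  (63875, 7, 38391, 15),
  (63883, 8, 151707, 37),
  (63891, 8, 137401, 41),
  (63895, 7, 90575, 11),
  (63907, 7, 25709, 42),
  (63927, 7, 107001, 38),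
  (63939, 7, 151709, 37),
  (63943, 7, 7667, 15),
  (63947, 6, 137299, 41),
  (63951, 7, 7675, 15),
  (63971, 7, 234621, 26),
  (63983, 8, 183705, 20),
  (63991, 8, 191901, 10),
  (64513, 7, 249882, 26),
  (64515, 7, 166375, 22),
  (64519, 7, 229455, 21),
  (64521, 7, 250010, 26),
  (64525, 6, 89245, 20),
  (64527, 7, 119260, 25),
  (64529, 6, 14631, 19),
  (64531, 7, 225756, 25),
  (64539, 7, 94684, 25),
  (64549, 7, 184788, 25),
  (64551, 7, 94537, 24),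
  (64553, 7, 26911, 19),
  (64555, 6, 146731, 19),
  (64557, 7, 53716, 25),
  (64565, 6, 152020, 25),
  (64567, 7, 246138, 26),
  (64569, 7, 250330, 26),
  (64573, 7, 246234, 26),
  (64575, 7, 20956, 25),
  (64577, 7, 12786, 26),
  (64581, 7, 12794, 26),
  (64583, 7, 241716, 25),
  (64585, 7, 237868, 25),
  (64589, 6, 75207, 23),
  (64595, 7, 159954, 26),
  (64603, 7, 225362, 26),
  (64607, 6, 35215, 21),
  (64611, 6, 89139, 20),
  (64613, 7, 27805, 20),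
  (64615, 7, 249157, 22),
  (64617, 7, 95271, 20),
  (64621, 7, 110906, 26),
  (64625, 7, 176306, 26),
  (64629, 6, 146485, 19),
  (64631, 7, 98647, 23),
  (64633, 7, 238060, 25),
  (64635, 7, 11563, 19),
  (64639, 7, 242164, 25),
  (64899, 7, 38389, 15),
  (64907, 7, 38397, 15),
  (64909, 7, 39419, 15),
  (64913, 7, 64529, 42),
  (64917, 8, 236877, 39),
  (64923, 8, 97735, 11),
  (64931, 8, 236747, 39),
  (64935, 7, 194987, 19),
  (64939, 7, 236685, 39),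
  (64941, 7, 249245, 20),
  (64943, 8, 236737, 39),
  (64945, 7, 38391, 20),
  (64949, 7, 163051, 8),
  (64951, 8, 240745, 21),
  (64953, 8, 243887, 1),
  (64955, 7, 155887, 8),
  (64957, 7, 90463, 7),
  (64959, 8, 157931, 8),
  (64961, 8, 195825, 24),
  (64963, 7, 90607, 5),
  (64965, 7, 156127, 4),
  (64967, 8, 251125, 1),
  (64969, 8, 249279, 21),
  (64973, 7, 97763, 5),
  (64975, 7, 39355, 19),
  (64979, 8, 64539, 42),
  (64989, 8, 64531, 42),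
  (64991, 7, 236879, 39),
  (64993, 8, 47587, 21),
  (64995, 7, 64555, 42),
  (64997, 7, 240765, 19),
  (65001, 7, 128359, 20),
  (65003, 8, 64549, 42),
  (65011, 7, 190875, 10),
  (65013, 7, 210293, 17),
  (65019, 8, 212351, 17),
  (65539, 4, 197024, 23),
  (65541, 4, 32774, 19),
  (65542, 3, 400, 21),
  (65545, 4, 36938, 24),
  (65546, 4, 36940, 22),
  (65551, 6, 90300, 26),
  (65553, 4, 32780, 19),
  (65556, 4, 32778, 19),
  (65559, 5, 466, 21),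
  (65560, 4, 147760, 20),
  (65566, 6, 213420, 26),
  (65570, 4, 36866, 22),
  (65572, 4, 32844, 26),
  (65575, 6, 468, 21),
  (65576, 4, 6150, 22),
  (65584, 3, 176, 3),
  (65587, 6, 214, 21),
  (65589, 6, 342, 21),
  (65590, 5, 90118, 12),
  (65593, 7, 238036, 26),
  (65599, 5, 471, 21),
  (65601, 4, 16528, 23),
  (65602, 4, 16656, 23),
  (65604, 4, 6158, 26),
  (65607, 5, 213480, 22),
  (65608, 4, 131472, 20),
  (65616, 4, 65824, 20),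
  (65621, 6, 346, 21),
  (65622, 6, 410, 21),
  (65631, 5, 475, 21),
  (65632, 4, 34822, 26),
  (65635, 5, 220, 21),
  (65637, 6, 348, 21),
  (65641, 7, 90601, 42),
  (65647, 5, 477, 21),
  (65650, 6, 158, 21),
  (65652, 6, 286, 21),
  (65661, 6, 243726, 26),
  (65662, 5, 415, 21),
  (65667, 4, 196640, 23),
  (65669, 4, 32838, 19),
  (65670, 4, 197008, 21),
  (65673, 4, 36866, 24),
  (65674, 4, 32844, 22),
  (65681, 4, 32844, 19),
  (65684, 4, 32842, 19),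
  (65687, 6, 49636, 23),
  (65688, 4, 16688, 20),
  (65693, 6, 116870, 23),
  (65698, 4, 36874, 22),
  (65700, 4, 36876, 26),
  (65703, 7, 205033, 38),
  (65704, 4, 6158, 22),
  (65707, 6, 286, 20),
  (65712, 3, 176, 6),
  (65718, 5, 90118, 6),
  (65722, 6, 38927, 22),
  (65724, 7, 233484, 26),
  (65729, 4, 16560, 23),
  (65730, 4, 16688, 23),
  (65732, 4, 4110, 26),
  (65736, 3, 400, 20),
  (65739, 5, 90118, 26),
  (65741, 6, 213004, 22),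
  (65744, 4, 196640, 20),
  (65747, 6, 155654, 26),
  (65753, 6, 204806, 26),
  (65754, 5, 212998, 26),
  (65756, 6, 8459, 21),
  (65760, 4, 32774, 26),
  (65763, 5, 398, 20),
  (65769, 6, 410, 20),
  (65775, 5, 415, 20),
  (65783, 6, 192526, 26),
  (65789, 6, 241678, 26),
  (65790, 6, 127046, 6),
  (65793, 4, 6158, 24),
  (65794, 4, 16528, 21),
  (65796, 4, 16656, 21),
  (65799, 6, 205272, 22),
  (65800, 4, 34886, 24),
  (65805, 6, 98470, 19),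
  (65806, 6, 110668, 22),
  (65808, 3, 400, 5),
  (65811, 6, 147814, 20),
  (65817, 6, 2449, 26),
  (65823, 7, 63742, 24),
  (65824, 3, 416, 2),
  (65836, 7, 182374, 24),
  (65839, 6, 39318, 22),
  (65841, 6, 156033, 6),
  (65847, 7, 161982, 24),
  (65848, 6, 106664, 19),
  (65851, 6, 2545, 26),
  (65853, 7, 186606, 24),
  (65854, 7, 190710, 24),
  (65859, 6, 156024, 22),
  (65862, 5, 90360, 22),
  (65865, 6, 98724, 19),
  (65874, 6, 205266, 5),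
  (65876, 7, 98698, 19),
  (65892, 6, 7235, 26),
  (65896, 5, 213480, 2),
  (65899, 6, 39222, 22),
  (65902, 6, 39402, 11),
  (65904, 6, 16414, 21),
  (65907, 7, 16606, 21),
  (65910, 7, 49501, 23),
  (65919, 7, 7667, 26),
  (65921, 4, 6146, 24),
  (65922, 4, 65712, 21),
  (65924, 4, 131376, 21),
  (65928, 4, 34818, 24),
  (65931, 6, 342, 20),
  (65936, 3, 400, 7),
  (65941, 6, 88194, 24),
  (65946, 7, 108674, 24),
  (65952, 3, 416, 1),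
  (65957, 7, 106694, 19),
  (65961, 6, 346, 20),
  (65962, 6, 348, 20),
  (65967, 6, 39326, 22),
  (65969, 6, 147857, 17),
  (65970, 6, 76162, 24),
  (65972, 6, 24838, 21),
  (65981, 7, 6613, 26),
  (65993, 5, 466, 20),
  (65994, 6, 468, 20),
  (65996, 6, 90124, 22),
  (65999, 5, 471, 20),
  (66001, 6, 24650, 21),
  (66002, 5, 466, 16),
  (66013, 7, 66671, 24),
  (66017, 6, 458, 20),
  (66018, 6, 460, 20),
  (66024, 6, 472, 20),
  (66029, 5, 475, 20),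
  (66030, 5, 477, 20),
  (66035, 7, 24782, 21),
  (66037, 6, 197935, 24),
  (66041, 7, 106988, 19),
  (66042, 7, 3559, 26),
  (66044, 7, 106986, 19),
  (66047, 7, 7671, 26),
  (66561, 4, 65952, 23),
  (66563, 4, 196768, 23),
  (66575, 7, 61546, 24),
  (66581, 6, 139580, 26),
  (66583, 6, 66002, 21),
  (66587, 6, 149814, 20),
  (66597, 7, 41084, 26),
  (66601, 6, 133402, 20),
  (66609, 7, 135322, 24),
  (66635, 6, 133526, 20),
  (66643, 6, 141350, 26),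
  (66659, 6, 147857, 23),
  (66671, 6, 6630, 22),
  (66681, 6, 206153, 24),
  (66689, 4, 196896, 23),
  (66691, 4, 65824, 23),
  (66701, 6, 196684, 22),
  (66703, 7, 77868, 26),
  (66709, 6, 180452, 23),
  (66711, 6, 74178, 21),
  (66715, 6, 18742, 20),
  (66727, 7, 20754, 24),
  (66737, 6, 73798, 21),
  (66739, 7, 97459, 41),
  (66751, 6, 74183, 21),
  (66757, 6, 213064, 22),
  (66781, 6, 39405, 22),
  (66785, 6, 147633, 23),
  (66805, 7, 74062, 21),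
  (66809, 7, 18874, 20),
  (66811, 7, 237606, 26),
  (66835, 7, 82130, 21),
  (66845, 6, 7583, 5),
  (66847, 7, 63726, 24),
  (66851, 6, 4434, 22),
  (66861, 6, 39382, 22),
  (66869, 6, 128251, 25),
  (66871, 6, 82390, 21),
  (66873, 6, 251371, 25),
  (66875, 7, 178382, 24),
  (66893, 7, 111034, 23),
  (66903, 6, 82394, 21),
  (66905, 7, 80318, 23),
  (66919, 6, 82396, 21),
  (66921, 6, 39286, 22),
  (66923, 6, 6518, 22),
  (66949, 5, 204872, 22),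
  (66953, 5, 139340, 22),
  (66955, 6, 172044, 22),
  (66961, 6, 90178, 21),
  (66963, 7, 251211, 39),
  (66973, 6, 39389, 22),
  (66975, 6, 7569, 7),
  (66979, 6, 4442, 22),
  (66989, 7, 63762, 24),
  (66997, 6, 128001, 25),
  (67001, 6, 250881, 25),
  (67009, 5, 155720, 22),
  (67023, 7, 258202, 23),
  (67031, 6, 90570, 21),
  (67033, 6, 39293, 22),
  (67047, 6, 90572, 21),
  (67049, 6, 90189, 21),
  (67059, 6, 206111, 24),
  (67069, 7, 193725, 3),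
  (67071, 7, 90575, 21),
  (67585, 4, 2118, 19),
  (67586, 4, 131216, 21),
  (67589, 4, 34882, 19),
  (67590, 4, 131472, 21),
  (67595, 7, 240709, 38),
  (67607, 6, 33807, 19),
  (67610, 6, 73742, 13),
  (67613, 6, 209308, 26),
  (67619, 7, 61556, 26),
  (67625, 6, 110804, 26),
  (67629, 6, 110812, 26),
  (67651, 6, 131288, 21),
  (67655, 6, 213352, 22),
  (67657, 7, 193809, 40),
  (67658, 6, 135445, 25),
  (67661, 7, 182338, 19),
  (67670, 6, 73798, 14),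
  (67675, 6, 104741, 22),
  (67682, 6, 82150, 16),
  (67695, 6, 129030, 26),
  (67699, 6, 190478, 26),
  (67703, 6, 194566, 26),
  (67705, 6, 239630, 26),
  (67706, 6, 129034, 12),
  (67709, 6, 243718, 26),
  (67710, 5, 129214, 3),
  (67713, 4, 34822, 19),
  (67714, 4, 65936, 21),
  (67717, 4, 2114, 19),
  (67718, 4, 196752, 21),
  (67723, 6, 90124, 26),
  (67727, 7, 45090, 24),
  (67731, 6, 33869, 19),
  (67738, 6, 213004, 26),
  (67742, 6, 158, 17),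
  (67751, 7, 12578, 24),
  (67753, 6, 51254, 19),
  (67757, 6, 37154, 24),
  (67761, 6, 139334, 21),
  (67771, 7, 253964, 26),
  (67785, 6, 73742, 26),
  (67786, 5, 81934, 26),
  (67793, 5, 139338, 21),
  (67794, 6, 214, 16),
  (67798, 7, 34845, 25),
  (67809, 5, 139340, 21),
  (67814, 6, 82150, 14),
  (67819, 6, 212383, 20),
  (67823, 6, 211969, 20),
  (67834, 6, 129090, 6),
  (67838, 6, 129094, 6),
  (67849, 6, 84070, 19),
  (67853, 6, 55374, 24),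
  (67854, 5, 398, 8),
  (67861, 6, 22670, 24),
  (67862, 5, 205206, 5),
  (67867, 7, 236014, 23),
  (67873, 7, 6233, 26),
  (67877, 7, 70034, 22),
  (67878, 5, 212998, 2),
  (67883, 6, 6393, 26),
  (67895, 6, 147926, 21),
  (67898, 6, 205102, 13),
  (67905, 6, 16600, 23),
  (67919, 7, 192716, 22),
  (67927, 6, 147930, 21),
  (67945, 6, 213485, 2),
  (67949, 7, 72118, 22),
  (67953, 7, 147550, 21),
  (67958, 6, 147870, 21),
  (67963, 7, 7675, 26),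
  (67975, 6, 49576, 23),
  (67978, 5, 398, 4),
  (67982, 6, 156033, 21),
  (67986, 6, 204806, 7),
  (67995, 7, 252366, 23),
  (67999, 6, 104861, 22),
  (68001, 6, 155716, 21),
  (68002, 5, 212998, 10),
  (68025, 6, 155719, 21),
  (68030, 6, 147870, 17),
  (68033, 5, 155720, 21),
  (68038, 6, 49464, 23),
  (68043, 6, 7359, 26),
  (68047, 6, 240641, 20),
  (68051, 6, 7487, 26),
  (68055, 6, 156106, 21),
  (68057, 6, 7583, 26),
  (68058, 6, 7599, 26),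
  (68061, 7, 96478, 23),
  (68067, 7, 102714, 22),
  (68071, 6, 156108, 21),
  (68073, 6, 155725, 21),
  (68074, 6, 244189, 20),
  (68077, 6, 242689, 20),
  (68078, 6, 243713, 20),
  (68085, 7, 145618, 19),
  (68086, 6, 156046, 21),
  (68091, 7, 194747, 3),
  (68617, 7, 78004, 26),
  (68621, 7, 53338, 24),
  (68623, 7, 94364, 26),
  (68629, 6, 7245, 19),
  (68631, 6, 38979, 19),
  (68643, 7, 143402, 24),
  (68645, 7, 151578, 24),
  (68647, 7, 61532, 26),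
  (68665, 7, 242164, 26),
  (68667, 7, 176362, 24),
  (68671, 6, 7345, 12),
  (68697, 6, 223278, 26),
  (68699, 7, 239862, 23),
  (68701, 6, 91241, 24),
  (68713, 7, 124974, 26),
  (68717, 6, 157033, 24),
  (68721, 5, 247, 12),
  (68727, 7, 197086, 21),
  (68747, 7, 53298, 24),
  (68749, 7, 82370, 23),
  (68753, 6, 204866, 21),
  (68755, 6, 7235, 19),
  (68769, 6, 204868, 21),
  (68771, 7, 41004, 26),
  (68773, 7, 61476, 26),
  (68793, 6, 90303, 15),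
  (68795, 7, 119218, 24),
  (68801, 5, 204872, 21),
  (68805, 6, 147656, 22),
  (68825, 6, 204875, 21),
  (68841, 6, 204877, 21),
  (68843, 6, 158803, 19),
  (68853, 7, 102891, 22),
  (68855, 6, 126129, 15),
  (68865, 6, 147656, 23),
  (68871, 6, 180616, 23),
  (68905, 7, 148681, 23),
  (68907, 6, 7599, 11),
  (68909, 7, 104918, 22),
  (68911, 7, 181641, 23),
  (68913, 7, 137406, 24),
  (68915, 6, 213206, 21),
  (68917, 6, 213334, 21),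
  (68919, 6, 213462, 21),
  (68939, 7, 258188, 22),
  (68941, 6, 216421, 19),
  (68943, 7, 25725, 24),
  (68949, 6, 213338, 21),
  (68951, 6, 213466, 21),
  (68963, 6, 213479, 2),
  (68965, 6, 213340, 21),
  (68967, 6, 213468, 21),
  (68985, 7, 97747, 13),
  (68989, 7, 155871, 1),
  (68995, 6, 98672, 21),
  (69017, 7, 121294, 23),
  (69019, 7, 191827, 20),
  (69023, 6, 104626, 24),
  (69033, 7, 63794, 24),
  (69037, 6, 220591, 10),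
  (69043, 7, 69979, 22),
  (69069, 7, 94682, 23),
  (69077, 7, 180412, 23),
  (69093, 6, 213063, 1),
  (69633, 4, 4170, 24),
  (69634, 4, 36868, 22),
  (69641, 4, 36874, 24),
  (69642, 3, 76, 22),
  (69647, 6, 197068, 22),
  (69654, 6, 73742, 12),
  (69659, 5, 155958, 20),
  (69669, 6, 4486, 22),
  (69670, 5, 81934, 12),
  (69675, 5, 139550, 20),
  (69677, 6, 106588, 26),
  (69682, 6, 90298, 3),
  (69684, 6, 90300, 3),
  (69687, 6, 90303, 3),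
  (69689, 6, 155962, 20),
  (69690, 6, 155964, 20),
  (69692, 7, 57386, 19),
  (69695, 6, 155967, 20),
  (69701, 7, 80014, 26),
  (69709, 6, 213420, 22),
  (69710, 5, 82156, 22),
  (69713, 6, 206982, 26),
  (69714, 6, 157730, 23),
  (69716, 6, 156065, 20),
  (69719, 6, 243163, 21),
  (69724, 5, 220, 4),
  (69727, 6, 242689, 21),
  (69729, 7, 139658, 20),
  (69730, 5, 82154, 16),
  (69735, 6, 244189, 21),
  (69743, 6, 243713, 21),
  (69747, 6, 156078, 20),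
  (69750, 6, 212383, 21),
  (69755, 7, 190598, 26),
  (69758, 6, 211969, 21),
  (69761, 4, 36930, 24),
  (69762, 4, 36876, 22),
  (69767, 7, 61506, 24),
  (69769, 4, 4162, 24),
  (69770, 4, 4164, 22),
  (69775, 7, 251211, 40),
  (69781, 6, 118978, 24),
  (69782, 7, 123074, 24),
  (69787, 6, 16806, 23),
  (69789, 6, 49382, 23),
  (69790, 6, 158, 15),
  (69797, 6, 57414, 19),
  (69805, 6, 8475, 20),
  (69806, 5, 81934, 6),
  (69809, 7, 24874, 20),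
  (69815, 7, 24879, 20),
  (69817, 7, 57452, 19),
  (69818, 5, 186, 15),
  (69820, 6, 188, 15),
  (69823, 6, 90127, 6),
  (69827, 6, 8582, 20),
  (69835, 6, 24710, 26),
  (69837, 7, 97459, 42),
  (69838, 6, 20622, 26),
  (69844, 5, 220, 8),
  (69847, 7, 24999, 20),
  (69863, 6, 37294, 22),
  (69865, 7, 8602, 20),
  (69866, 5, 82154, 14),
  (69885, 6, 230763, 24),
  (69894, 6, 37012, 22),
  (69899, 5, 139606, 20),
  (69902, 6, 73948, 22),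
  (69906, 7, 10454, 24),
  (69911, 7, 219234, 23),
  (69914, 6, 205210, 5),
  (69916, 6, 114858, 19),
  (69919, 6, 156023, 20),
  (69929, 6, 139610, 20),
  (69930, 6, 139612, 20),
  (69932, 6, 428, 2),
  (69939, 7, 156014, 20),
  (69942, 7, 157942, 24),
  (69949, 6, 156027, 20),
  (69950, 6, 196798, 15),
  (69954, 7, 139716, 20),
  (69956, 6, 196684, 17),
  (69961, 6, 33869, 24),
  (69962, 6, 196682, 14),
  (69964, 6, 90300, 22),
  (69971, 6, 156134, 20),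
  (69973, 6, 72979, 26),
  (69979, 6, 204875, 14),
  (69981, 7, 49374, 23),
  (69982, 6, 39089, 22),
  (69990, 6, 35306, 11),
  (69997, 7, 6578, 22),
  (69998, 6, 251970, 2),
  (70002, 6, 156140, 20),
  (70004, 6, 204924, 17),
  (70015, 7, 240765, 8),
  (70021, 6, 69730, 23),
  (70033, 6, 114892, 19),
  (70034, 6, 410, 16),
  (70044, 6, 84162, 24),
  (70052, 6, 428, 1),
  (70055, 6, 37278, 22),
  (70060, 7, 18754, 24),
  (70063, 6, 39322, 22),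
  (70070, 6, 90510, 12),
  (70075, 7, 24958, 20),
  (70081, 6, 33807, 24),
  (70082, 6, 458, 16),
  (70092, 6, 460, 13),
  (70095, 6, 8663, 20),
  (70099, 6, 25062, 20),
  (70109, 7, 115182, 19),
  (70115, 6, 37182, 22),
  (70118, 5, 252334, 1),
  (70123, 6, 39226, 22),
  (70126, 6, 248238, 1),
  (70129, 6, 25066, 20),
  (70130, 6, 25068, 20),
  (70140, 5, 25052, 13),
  (70143, 7, 39355, 22),
  (70661, 7, 37316, 22),
  (70663, 7, 24732, 26),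
  (70669, 7, 73788, 26),
  (70673, 6, 124305, 42),
  (70691, 6, 141582, 20),
  (70709, 7, 151802, 24),
  (70711, 7, 159978, 24),
  (70723, 6, 141702, 20),
  (70731, 6, 10406, 26),
  (70749, 7, 180438, 23),
  (70751, 7, 180694, 23),
  (70757, 6, 37350, 22),
  (70759, 7, 124385, 42),
  (70765, 6, 39394, 22),
  (70769, 7, 158122, 20),
  (70777, 5, 251, 12),
  (70789, 7, 94380, 26),
  (70799, 7, 20562, 24),
  (70801, 6, 26914, 20),
  (70817, 6, 45394, 24),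
  (70827, 6, 4434, 24),
  (70837, 7, 258220, 26),
  (70839, 7, 241836, 26),
  (70869, 7, 225454, 26),
  (70871, 7, 27047, 20),
  (70879, 6, 107643, 24),
  (70893, 6, 39402, 22),
  (70895, 5, 6634, 22),
  (70897, 7, 254118, 26),
  (70899, 6, 128075, 6),
  (70907, 6, 238939, 24),
  (70921, 6, 141650, 20),
  (70923, 6, 172380, 22),
  (70933, 7, 22782, 24),
  (70941, 7, 180430, 23),
  (70943, 7, 180686, 23),
  (70949, 6, 37334, 22),
  (70957, 6, 39378, 22),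
  (70969, 7, 170142, 24),
  (70983, 6, 89139, 26),
  (70989, 7, 254396, 22),
  (70991, 6, 141783, 20),
  (70995, 7, 158182, 20),
  (71003, 6, 147870, 23),
  (71009, 6, 37238, 22),
  (71031, 8, 62485, 40),
  (71039, 7, 90591, 13),
  (71077, 7, 63826, 24),
  (71079, 6, 213423, 10),
  (71085, 6, 39386, 22),
  (71089, 6, 36087, 21),
  (71091, 7, 26990, 20),
  (71097, 6, 126129, 21),
  (71111, 7, 4604, 22),
  (71121, 6, 38139, 21),
  (71123, 7, 153825, 19),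
  (71129, 5, 147646, 23),
  (71137, 6, 39165, 21),
  (71139, 7, 10702, 20),
  (71145, 6, 129201, 21),
  (71147, 6, 6522, 22),
  (71159, 8, 238911, 24),
  (71165, 7, 39419, 22)]

theorem chk_rows1_7 : rows1_7.all (rowBP1 tr1 bm1 gensLitP gensListP 1) = true := by decide +kernel

/-- Rows 6400 to 7199. -/
def rows1_8 : List (ℕ × ℕ × ℕ × ℕ) := [(71167, 7, 193719, 3),
  (71683, 7, 28852, 26),
  (71687, 7, 28762, 24),
  (71695, 7, 94268, 26),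
  (71701, 6, 116834, 23),
  (71702, 7, 24786, 24),
  (71706, 7, 41138, 24),
  (71709, 6, 49286, 23),
  (71710, 6, 73742, 14),
  (71713, 6, 45268, 26),
  (71714, 6, 82094, 16),
  (71718, 5, 81934, 2),
  (71725, 6, 184330, 24),
  (71739, 6, 162831, 20),
  (71743, 6, 7473, 20),
  (71749, 7, 122978, 23),
  (71750, 6, 32948, 42),
  (71753, 7, 149830, 19),
  (71767, 7, 102821, 22),
  (71771, 7, 184437, 25),
  (71775, 7, 161926, 26),
  (71787, 7, 212111, 20),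
  (71797, 6, 50327, 23),
  (71801, 5, 253, 12),
  (71802, 7, 182414, 26),
  (71806, 6, 129206, 3),
  (71815, 7, 94340, 26),
  (71819, 7, 135620, 22),
  (71826, 6, 158, 16),
  (71838, 7, 73954, 24),
  (71841, 6, 53602, 24),
  (71850, 5, 81934, 10),
  (71853, 6, 10354, 19),
  (71854, 6, 82094, 14),
  (71863, 7, 258180, 26),
  (71871, 7, 78306, 24),
  (71873, 7, 106530, 23),
  (71877, 7, 77958, 26),
  (71878, 6, 4508, 38),
  (71885, 7, 49330, 23),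
  (71891, 7, 239650, 23),
  (71895, 7, 239714, 23),
  (71903, 7, 159878, 26),
  (71915, 7, 104746, 22),
  (71922, 6, 39162, 15),
  (71925, 6, 129101, 6),
  (71929, 7, 172174, 26),
  (71933, 7, 72107, 22),
  (71942, 5, 398, 11),
  (71950, 6, 196622, 14),
  (71955, 6, 54643, 25),
  (71963, 6, 191559, 20),
  (71967, 6, 7569, 5),
  (71971, 6, 71801, 26),
  (71975, 5, 431, 11),
  (71979, 7, 104722, 22),
  (71985, 7, 71806, 19),
  (71990, 7, 67945, 26),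
  (71993, 6, 193611, 20),
  (71994, 6, 194637, 20),
  (71997, 6, 38193, 20),
  (71998, 6, 39217, 20),
  (72003, 7, 102708, 22),
  (72007, 7, 258146, 23),
  (72015, 7, 49562, 23),
  (72022, 7, 68907, 26),
  (72025, 7, 16606, 23),
  (72029, 6, 39313, 5),
  (72033, 7, 72795, 26),
  (72037, 7, 190706, 19),
  (72046, 6, 249926, 2),
  (72059, 7, 31825, 41),
  (72065, 6, 100390, 19),
  (72066, 5, 398, 16),
  (72069, 6, 18658, 19),
  (72070, 6, 196785, 21),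
  (72074, 6, 196622, 10),
  (72078, 6, 90417, 21),
  (72083, 6, 7583, 7),
  (72091, 7, 96482, 24),
  (72103, 6, 47458, 24),
  (72107, 6, 220577, 10),
  (72113, 6, 36215, 21),
  (72118, 6, 74046, 11),
  (72121, 6, 191793, 21),
  (72125, 7, 72162, 24),
  (72126, 7, 76258, 24),
  (72131, 7, 102716, 22),
  (72135, 7, 232589, 43),
  (72139, 7, 160244, 22),
  (72145, 6, 38267, 21),
  (72150, 7, 116171, 19),
  (72153, 6, 193841, 21),
  (72157, 6, 52501, 25),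
  (72161, 6, 39293, 21),
  (72162, 6, 250286, 1),
  (72169, 6, 194865, 21),
  (72170, 7, 104506, 22),
  (72187, 7, 232783, 43),
  (72707, 7, 12394, 24),
  (72709, 7, 246114, 23),
  (72713, 7, 36922, 24),
  (72715, 7, 147513, 25),
  (72719, 7, 1301, 20),
  (72757, 6, 181383, 23),
  (72761, 5, 191, 12),
  (72763, 7, 258388, 26),
  (72765, 7, 184474, 24),
  (72767, 7, 258396, 26),
  (72795, 6, 147926, 23),
  (72797, 7, 52317, 43),
  (72799, 7, 145574, 26),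
  (72803, 7, 69990, 22),
  (72807, 6, 70118, 22),
  (72809, 7, 104802, 22),
  (72815, 7, 47270, 26),
  (72833, 7, 61554, 24),
  (72835, 7, 98594, 23),
  (72839, 7, 70092, 22),
  (72841, 7, 24748, 26),
  (72845, 7, 12402, 24),
  (72847, 7, 12452, 26),
  (72881, 6, 36311, 21),
  (72885, 6, 146485, 20),
  (72887, 6, 97457, 15),
  (72889, 6, 241041, 21),
  (72895, 7, 176292, 26),
  (72913, 6, 38363, 21),
  (72915, 6, 204974, 26),
  (72917, 7, 225446, 26),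
  (72921, 5, 147702, 23),
  (72925, 6, 180406, 23),
  (72927, 6, 55581, 25),
  (72929, 6, 39389, 21),
  (72931, 7, 69998, 22),
  (72933, 6, 157925, 37),
  (72935, 7, 70126, 22),
  (72937, 6, 244113, 21),
  (72943, 7, 45222, 26),
  (72979, 5, 415, 5),
  (72985, 6, 39102, 24),
  (72991, 7, 72145, 22),
  (72993, 7, 102742, 22),
  (73001, 7, 170046, 24),
  (73005, 7, 186398, 24),
  (73027, 7, 70004, 22),
  (73029, 6, 29999, 25),
  (73035, 6, 147930, 23),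
  (73039, 7, 156719, 25),
  (73077, 7, 169349, 40),
  (73081, 7, 94537, 42),
  (73105, 6, 129266, 24),
  (73107, 7, 121074, 24),
  (73111, 7, 104802, 23),
  (73115, 7, 147950, 23),
  (73117, 5, 415, 7),
  (73119, 6, 54553, 25),
  (73121, 7, 102750, 22),
  (73123, 7, 88189, 26),
  (73125, 7, 102878, 22),
  (73133, 7, 14706, 24),
  (73157, 7, 102908, 22),
  (73159, 6, 70140, 22),
  (73161, 6, 147706, 23),
  (73165, 7, 180410, 23),
  (73167, 6, 23837, 25),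
  (73203, 7, 73167, 41),
  (73205, 7, 47231, 44),
  (73207, 8, 246201, 39),
  (73209, 7, 244135, 4),
  (73211, 8, 47215, 44),
  (73213, 8, 73039, 41),
  (73215, 8, 195767, 3),
  (73729, 4, 36868, 19),
  (73732, 4, 36866, 19),
  (73735, 6, 229796, 23),
  (73736, 4, 131376, 20),
  (73739, 6, 197030, 23),
  (73741, 6, 98470, 23),
  (73742, 5, 16426, 43),
  (73745, 4, 36876, 19),
  (73748, 4, 36874, 19),
  (73752, 4, 147728, 20),
  (73763, 7, 208922, 24),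
  (73772, 7, 198666, 43),
  (73775, 6, 52673, 23),
  (73785, 6, 74183, 39),
  (73788, 6, 188, 16),
  (73791, 7, 254204, 26),
  (73798, 5, 8220, 40),
  (73804, 5, 196616, 37),
  (73807, 7, 227598, 26),
  (73817, 6, 75954, 23),
  (73818, 6, 141618, 23),
  (73820, 6, 147857, 20),
  (73828, 6, 45314, 19),
  (73831, 7, 194830, 26),
  (73832, 5, 90360, 2),
  (73835, 7, 256262, 26),
  (73837, 7, 243982, 26),
  (73838, 6, 39162, 11),
  (73841, 6, 6331, 40),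
  (73842, 6, 242, 7),
  (73844, 6, 59446, 44),
  (73851, 6, 147870, 20),
  (73857, 4, 36932, 19),
  (73860, 4, 36930, 19),
  (73864, 3, 304, 20),
  (73867, 6, 310, 20),
  (73870, 7, 309, 20),
  (73873, 4, 36940, 19),
  (73876, 4, 36938, 19),
  (73879, 6, 237586, 21),
  (73880, 4, 16656, 20),
  (73886, 5, 16394, 43),
  (73891, 6, 302, 20),
  (73897, 6, 314, 20),
  (73898, 5, 316, 20),
  (73900, 6, 90300, 5),
  (73903, 5, 319, 20),
  (73907, 7, 78082, 24),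
  (73909, 6, 45324, 26),
  (73913, 7, 45164, 19),
  (73914, 6, 33869, 22),
  (73923, 6, 422, 20),
  (73926, 7, 201114, 21),
  (73935, 7, 254358, 23),
  (73939, 6, 24838, 26),
  (73941, 6, 176146, 21),
  (73942, 5, 8204, 40),
  (73948, 5, 197000, 37),
  (73951, 7, 256402, 23),
  (73954, 6, 242, 5),
  (73959, 5, 431, 20),
  (73969, 6, 41222, 26),
  (73970, 7, 16780, 20),
  (73976, 6, 90184, 1),
  (73979, 7, 132571, 24),
  (73982, 6, 129206, 1),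
  (73987, 7, 201132, 23),
  (73989, 6, 88110, 24),
  (73993, 6, 69806, 23),
  (73994, 7, 108630, 24),
  (74009, 6, 35223, 41),
  (74010, 6, 410, 8),
  (74012, 6, 202762, 43),
  (74023, 6, 51657, 23),
  (74027, 6, 19849, 23),
  (74029, 7, 252014, 24),
  (74033, 5, 24609, 38),
  (74034, 6, 206998, 24),
  (74036, 6, 157730, 21),
  (74046, 5, 20514, 43),
  (74049, 7, 102788, 19),
  (74050, 6, 5191, 25),
  (74056, 5, 204872, 11),
  (74059, 7, 102821, 19),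
  (74062, 6, 243786, 2),
  (74065, 6, 73903, 39),
  (74068, 6, 205268, 8),
  (74071, 7, 225380, 23),
  (74075, 6, 147926, 20),
  (74095, 7, 39419, 11),
  (74102, 5, 12300, 40),
  (74105, 6, 147930, 20),
  (74108, 5, 196744, 37),
  (74115, 6, 358, 20),
  (74122, 6, 410, 4),
  (74127, 5, 375, 20),
  (74131, 7, 122930, 21),
  (74140, 6, 116738, 24),
  (74143, 7, 252298, 23),
  (74145, 5, 24593, 38),
  (74152, 6, 376, 20),
  (74157, 5, 379, 20),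
  (74158, 4, 20490, 43),
  (74167, 6, 16719, 20),
  (74177, 6, 482, 20),
  (74178, 5, 484, 20),
  (74180, 6, 468, 13),
  (74183, 5, 487, 20),
  (74196, 7, 26742, 44),
  (74199, 6, 16839, 20),
  (74200, 5, 204872, 1),
  (74203, 7, 227738, 23),
  (74205, 7, 25931, 21),
  (74206, 6, 244118, 1),
  (74213, 5, 491, 20),
  (74214, 4, 12308, 40),
  (74220, 5, 196872, 37),
  (74223, 7, 212327, 12),
  (74227, 6, 16846, 20),
  (74229, 7, 111054, 19),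
  (74239, 7, 190875, 17),
  (74757, 6, 98724, 23),
  (74759, 6, 24860, 26),
  (74777, 6, 149778, 20),
  (74787, 7, 108630, 21),
  (74801, 7, 108674, 21),
  (74803, 7, 209034, 24),
  (74813, 6, 237820, 26),
  (74815, 5, 191, 16),
  (74819, 6, 141606, 26),
  (74829, 7, 227630, 26),
  (74831, 6, 156029, 25),
  (74835, 6, 149894, 20),
  (74853, 7, 194862, 26),
  (74855, 6, 90365, 25),
  (74859, 6, 213485, 25),
  (74869, 7, 243842, 21),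
  (74901, 6, 28972, 26),
  (74903, 6, 172178, 21),
  (74905, 6, 131149, 22),
  (74913, 7, 12690, 24),
  (74925, 6, 97457, 14),
  (74927, 7, 241964, 26),
  (74931, 7, 43154, 21),
  (74943, 6, 75207, 21),
  (74957, 6, 252321, 22),
  (74959, 6, 194637, 25),
  (74973, 6, 213069, 22),
  (74975, 7, 78126, 26),
  (74983, 6, 129101, 25),
  (74985, 7, 254246, 26),
  (74987, 6, 251981, 25),
  (75001, 6, 90187, 1),
  (75003, 6, 157785, 19),
  (75009, 7, 133474, 20),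
  (75025, 7, 123042, 21),
  (75027, 7, 149830, 20),
  (75039, 7, 235690, 23),
  (75051, 7, 133502, 20),
  (75065, 7, 150669, 23),
  (75067, 7, 149854, 20),
  (75077, 7, 74925, 24),
  (75081, 6, 215405, 19),
  (75083, 6, 205275, 2),
  (75093, 6, 240711, 8),
  (75095, 6, 149959, 20),
  (75105, 7, 47358, 21),
  (75107, 7, 112766, 21),
  (75121, 7, 149962, 20),
  (75123, 7, 232589, 37),
  (75139, 7, 6345, 19),
  (75149, 6, 244113, 22),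
  (75153, 7, 18754, 20),
  (75165, 6, 204877, 22),
  (75167, 7, 91587, 21),
  (75173, 7, 31122, 24),
  (75175, 7, 128073, 25),
  (75177, 7, 47506, 24),
  (75193, 7, 112914, 24),
  (75195, 7, 104722, 24),
  (75205, 7, 168442, 21),
  (75207, 5, 471, 13),
  (75209, 6, 194865, 22),
  (75211, 7, 2550, 20),
  (75225, 6, 204875, 1),
  (75235, 7, 145625, 19),
  (75245, 7, 31825, 38),
  (75247, 7, 232783, 37),
  (75249, 7, 18890, 20),
  (75779, 6, 28980, 26),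
  (75790, 7, 122962, 24),
  (75795, 6, 37901, 19),
  (75799, 6, 37903, 19),
  (75801, 6, 100578, 23),
  (75802, 7, 217252, 26),
  (75806, 6, 158, 8),
  (75809, 6, 45396, 26),
  (75814, 5, 90118, 2),
  (75819, 7, 241786, 24),
  (75826, 6, 182, 7),
  (75829, 6, 185467, 42),
  (75835, 7, 258292, 26),
  (75841, 6, 45402, 21),
  (75842, 7, 26742, 38),
  (75851, 7, 238070, 23),
  (75855, 7, 227590, 26),
  (75858, 6, 214, 7),
  (75861, 6, 45314, 21),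
  (75862, 7, 78082, 21),
  (75867, 7, 17625, 24),
  (75871, 7, 132571, 21),
  (75875, 7, 86261, 25),
  (75881, 6, 39165, 11),
  (75885, 7, 243974, 26),
  (75891, 6, 36017, 16),
  (75897, 7, 218253, 22),
  (75902, 5, 6394, 7),
  (75907, 6, 37957, 19),
  (75911, 6, 37959, 19),
  (75913, 6, 53410, 24),
  (75914, 6, 158, 4),
  (75927, 6, 77858, 24),
  (75933, 6, 84162, 23),
  (75934, 7, 198666, 37),
  (75941, 6, 176388, 26),
  (75942, 6, 182, 5),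
  (75947, 6, 163135, 20),
  (75951, 6, 162817, 20),
  (75954, 5, 90118, 10),
  (75963, 7, 123148, 26),
  (75973, 6, 143622, 26),
  (75974, 6, 214, 5),
  (75986, 7, 209170, 21),
  (75995, 7, 256466, 23),
  (75999, 7, 94470, 26),
  (76003, 6, 220591, 20),
  (76007, 6, 90359, 14),
  (76009, 7, 237838, 26),
  (76010, 6, 6390, 5),
  (76013, 7, 161882, 19),
  (76014, 7, 250118, 26),
  (76023, 7, 112914, 21),
  (76026, 7, 114958, 26),
  (76029, 6, 90189, 1),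
  (76030, 7, 198749, 25),
  (76038, 6, 204806, 2),
  (76043, 7, 112766, 24),
  (76049, 6, 185505, 42),
  (76054, 5, 205206, 17),
  (76063, 6, 211969, 8),
  (76067, 6, 137337, 26),
  (76071, 7, 239862, 21),
  (76073, 7, 235630, 24),
  (76074, 6, 205118, 13),
  (76090, 6, 196926, 13),
  (76093, 7, 133593, 26),
  (76103, 7, 209404, 23),
  (76105, 6, 39389, 11),
  (76106, 7, 176510, 23),
  (76110, 7, 143742, 23),
  (76119, 7, 258148, 23),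
  (76122, 5, 35230, 8),
  (76125, 7, 95255, 43),
  (76129, 7, 199006, 19),
  (76130, 6, 90598, 16),
  (76133, 6, 91367, 25),
  (76139, 8, 112037, 19),
  (76145, 7, 203094, 19),
  (76150, 6, 213110, 14),
  (76161, 6, 22690, 24),
  (76162, 5, 205206, 13),
  (76171, 6, 7569, 13),
  (76175, 6, 191489, 20),
  (76178, 5, 205206, 1),
  (76181, 6, 102500, 23),
  (76191, 7, 148569, 25),
  (76195, 7, 100854, 21),
  (76199, 7, 14754, 24),
  (76201, 6, 193915, 20),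
  (76202, 6, 194941, 20),
  (76205, 6, 193537, 20),
  (76206, 6, 194561, 20),
  (76211, 7, 256306, 21),
  (76215, 6, 125234, 21),
  (76217, 6, 121122, 24),
  (76221, 7, 26842, 19),
  (76222, 6, 156062, 17),
  (76227, 6, 249319, 20),
  (76231, 6, 248833, 20),
  (76233, 7, 248110, 19),
  (76234, 7, 192862, 23),
  (76237, 7, 94430, 23),
  (76238, 6, 35290, 4),
  (76247, 7, 127282, 21),
  (76249, 7, 129242, 23),
  (76253, 6, 244189, 10),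
  (76257, 6, 251371, 20),
  (76258, 6, 25062, 16),
  (76261, 6, 250881, 20),
  (76262, 6, 251905, 20),
  (76277, 7, 63794, 21),
  (76278, 6, 213238, 14),
  (76287, 8, 212339, 12),
  (76801, 6, 41426, 21),
  (76803, 6, 106834, 21),
  (76817, 6, 6215, 19),
  (76819, 6, 35915, 19),
  (76821, 6, 7237, 19),
  (76823, 6, 34891, 19),
  (76841, 7, 233594, 24),
  (76843, 6, 90303, 2),
  (76857, 7, 150725, 23),
  (76859, 7, 241898, 24),
  (76861, 7, 32037, 20),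
  (76873, 7, 223534, 26),
  (76875, 7, 237814, 23),
  (76879, 6, 205046, 23),
  (76899, 6, 36087, 11),
  (76901, 6, 94445, 25),
  (76903, 6, 243806, 21),
  (76913, 7, 244098, 21),
  (76915, 7, 178562, 21),
  (76929, 6, 34831, 19),
  (76931, 6, 7243, 19),
  (76933, 6, 35853, 19),
  (76935, 6, 6219, 19),
  (76949, 6, 229732, 23),
  (76951, 6, 98660, 23),
  (76969, 7, 254252, 26),
  (76971, 7, 237868, 26),
  (76985, 7, 127282, 24),
  (76989, 6, 90127, 1),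
  (77003, 6, 205102, 26),
  (77005, 6, 90582, 23),
  (77017, 6, 90414, 26),
  (77021, 7, 94502, 26),
  (77023, 7, 78118, 26),
  (77025, 7, 188718, 26),
  (77027, 7, 129117, 25),
  (77029, 7, 251171, 22),
  (77043, 7, 41262, 26),
  (77045, 6, 126199, 10),
  (77047, 7, 47506, 21),
  (77065, 7, 104574, 24),
  (77067, 6, 7583, 11),
  (77069, 7, 120926, 24),
  (77085, 7, 121054, 24),
  (77087, 7, 129230, 24),
  (77093, 6, 95467, 25),
  (77095, 6, 238939, 22),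
  (77105, 7, 174145, 41),
  (77111, 7, 88229, 40),
  (77123, 6, 205271, 2),
  (77127, 7, 241786, 21),
  (77139, 7, 232675, 20),
  (77141, 7, 258404, 23),
  (77143, 7, 127332, 23),
  (77165, 7, 61889, 38),
  (77167, 8, 183705, 23),
  (77179, 7, 174161, 41),
  (77181, 7, 88101, 40),
  (77195, 7, 193625, 25),
  (77197, 7, 86478, 23),
  (77199, 7, 217294, 23),
  (77209, 6, 173431, 20),
  (77211, 6, 120882, 24),
  (77213, 6, 204815, 1),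
  (77217, 7, 88073, 40),
  (77219, 7, 100726, 21),
  (77221, 7, 14770, 24),
  (77223, 7, 174357, 41),
  (77233, 6, 96562, 24),
  (77235, 6, 190898, 21),
  (77253, 7, 94684, 23),
  (77255, 7, 233594, 21),
  (77269, 6, 204871, 1),
  (77271, 7, 110948, 23),
  (77291, 7, 88201, 40),
  (77293, 7, 174341, 41),
  (77305, 8, 155103, 26),
  (77307, 7, 88271, 40),
  (77829, 6, 124305, 44),
  (77837, 6, 118826, 24),
  (77838, 7, 122930, 24),
  (77843, 6, 155910, 20),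
  (77846, 6, 90354, 24),
  (77854, 6, 158, 6),
  (77857, 7, 41428, 26),
  (77858, 5, 186, 11),
  (77863, 7, 225402, 24),
  (77865, 7, 233482, 24),
  (77866, 6, 237586, 24),
  (77868, 6, 188, 2),
  (77873, 7, 200906, 24),
  (77874, 5, 186, 7),
  (77876, 7, 164044, 26),
  (77879, 7, 225530, 24),
  (77882, 6, 155932, 20),
  (77897, 6, 141702, 26),
  (77898, 6, 149894, 26),
  (77900, 6, 51282, 23),
  (77903, 6, 213485, 22),
  (77908, 6, 73804, 17),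
  (77911, 7, 96654, 26),
  (77919, 6, 251981, 22),
  (77923, 6, 139694, 20),
  (77925, 7, 244110, 26),
  (77931, 7, 190854, 26),
  (77933, 7, 61734, 19),
  (77934, 6, 129090, 2),
  (77939, 6, 156046, 20),
  (77942, 7, 61707, 19),
  (77947, 6, 156062, 20),
  (77950, 6, 6390, 7),
  (77958, 6, 158, 3),
  (77971, 6, 24838, 20),
  (77982, 6, 90178, 24),
  (77985, 7, 61508, 19),
  (77988, 7, 61506, 19),
  (77994, 5, 186, 5),
  (78004, 6, 188, 1),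
  (78007, 7, 127298, 24),
  (78009, 7, 24858, 20),
  (78010, 6, 90298, 1),
  (78012, 7, 61546, 19),
  (78017, 6, 205190, 26),
  (78018, 6, 141350, 23),
  (78020, 6, 10342, 23),
  (78028, 5, 220, 13),
  (78031, 7, 51698, 23),
  (78041, 6, 8582, 26),
  (78042, 6, 18742, 23),
  (78044, 6, 24977, 20),
  (78053, 7, 61766, 19),
  (78054, 5, 6394, 5),
  (78059, 6, 90363, 14),
  (78061, 7, 61798, 19),
  (78070, 5, 129214, 1),
  (78082, 6, 410, 11),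
  (78084, 6, 84070, 24),
  (78095, 6, 205277, 22),
  (78106, 7, 18702, 23),
  (78111, 5, 129214, 24),
  (78118, 6, 213182, 3),
  (78125, 7, 127142, 19),
  (78126, 6, 204974, 15),
  (78131, 7, 211166, 24),
  (78133, 7, 127118, 19),
  (78134, 7, 223478, 24),
  (78142, 6, 147870, 6),
  (78147, 6, 139750, 20),
  (78149, 7, 119174, 19),
  (78150, 6, 35290, 11),
  (78155, 6, 156029, 22),
  (78157, 7, 119206, 19),
  (78158, 6, 243778, 2),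
  (78165, 6, 244113, 17),
  (78171, 6, 194637, 22),
  (78174, 6, 129101, 22),
  (78177, 6, 139754, 20),
  (78178, 6, 90602, 16),
  (78188, 6, 82396, 13),
  (78193, 6, 156106, 20),
  (78194, 6, 156108, 20),
  (78196, 7, 146749, 21),
  (78201, 6, 156122, 20),
  (78202, 6, 156124, 20),
  (78204, 6, 90572, 13),
  (78207, 7, 156127, 20),
  (78209, 6, 71718, 23),
  (78212, 6, 118978, 19),
  (78215, 7, 63682, 24),
  (78218, 7, 18730, 23),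
  (78223, 6, 58697, 25),
  (78225, 6, 69670, 23),
  (78226, 7, 108610, 24),
  (78231, 6, 129090, 24),
  (78234, 6, 205210, 1),
  (78243, 6, 127173, 19),
  (78246, 5, 147646, 3),
  (78251, 7, 14786, 24),
  (78253, 7, 127206, 19),
  (78259, 6, 112962, 24),
  (78261, 7, 121154, 24),
  (78262, 6, 155822, 3),
  (78269, 6, 24923, 20),
  (78270, 6, 139454, 15),
  (78278, 6, 244182, 13),
  (78283, 7, 18874, 23),
  (78285, 5, 477, 13),
  (78286, 7, 51578, 23),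
  (78294, 6, 244126, 1),
  (78299, 6, 25046, 20),
  (78301, 6, 25043, 20),
  (78302, 6, 240030, 1),
  (78305, 7, 124385, 44),
  (78306, 6, 25066, 16),
  (78308, 6, 196860, 17),
  (78311, 8, 62485, 38),
  (78319, 8, 204023, 26),
  (78324, 6, 156124, 8),
  (78327, 8, 212351, 12),
  (78329, 5, 25050, 20),
  (78330, 5, 25052, 20),
  (78335, 7, 240877, 8),
  (78851, 6, 141606, 20),
  (78857, 6, 141618, 20),
  (78875, 6, 149894, 23),
  (78885, 7, 41468, 26),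
  (78887, 7, 183747, 23),
  (78893, 6, 7345, 11),
  (78903, 7, 188636, 26),
  (78917, 6, 227758, 26),
  (78935, 6, 90470, 23),
  (78941, 6, 192573, 25),
  (78943, 7, 14766, 26),
  (78945, 6, 86509, 25),
  (78961, 7, 137589, 19),
  (78963, 7, 190585, 19),
  (78979, 6, 98387, 21),
  (78985, 6, 10546, 20),
  (79003, 6, 26902, 20),
  (79013, 7, 258476, 26),
  (79015, 7, 53714, 24),
  (79029, 7, 127404, 26),
  (79031, 6, 90303, 10),
  (79039, 7, 26911, 20),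
  (79053, 7, 10675, 20),
  (79061, 6, 205158, 23),
  (79069, 7, 241811, 21),
  (79073, 7, 254374, 26),
  (79081, 7, 10682, 20),
  (79089, 7, 123302, 26),
  (79097, 7, 27034, 20),
  (79117, 6, 7569, 11),
  (79125, 6, 211983, 8),
  (79127, 6, 219441, 26),
  (79135, 6, 158039, 20),
  (79137, 6, 87531, 25),
  (79145, 7, 235550, 24),
  (79147, 6, 243726, 24),
  (79153, 6, 44277, 21),
  (79161, 7, 158042, 20),
  (79185, 6, 243089, 17),
  (79187, 7, 94502, 23),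
  (79193, 7, 149662, 23),
  (79205, 7, 36345, 11),
  (79221, 8, 79145, 43),
  (79223, 7, 59429, 38),
  (79231, 7, 90575, 13),
  (79247, 5, 415, 13),
  (79253, 7, 129106, 24),
  (79255, 6, 211969, 1),
  (79261, 7, 96338, 24),
  (79263, 7, 88146, 24),
  (79265, 7, 100413, 19),
  (79267, 6, 39378, 24),
  (79283, 7, 26958, 20),
  (79289, 6, 26970, 20),
  (79297, 7, 194869, 22),
  (79307, 5, 475, 13),
  (79315, 7, 78118, 23),
  (79321, 7, 27090, 20),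
  (79335, 7, 59413, 38),
  (79343, 8, 230897, 44),
  (79357, 8, 193701, 3),
  (79359, 7, 239855, 8),
  (79874, 7, 73842, 24),
  (79878, 6, 158, 11),
  (79882, 6, 158, 10),
  (79889, 6, 69866, 24),
  (79890, 6, 158, 7),
  (79897, 6, 18630, 23),
  (79902, 7, 217132, 26),
  (79911, 5, 191, 11),
  (79919, 7, 127356, 26),
  (79923, 6, 7345, 16),
  (79935, 7, 258202, 24),
  (79939, 6, 256038, 23),
  (79943, 6, 215405, 22),
  (79947, 7, 242947, 21),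
  (79955, 7, 92558, 26),
  (79959, 7, 242905, 21),
  (79967, 6, 110851, 21),
  (79969, 7, 133502, 19),
  (79977, 7, 149854, 19),
  (79978, 6, 129094, 2),
  (79981, 7, 178298, 19),
  (79982, 6, 127046, 2),
  (79985, 6, 39089, 16),
  (79994, 7, 211117, 20),
  (80001, 6, 100390, 23),
  (80006, 7, 217476, 26),
  (80009, 6, 18658, 23),
  (80010, 7, 147852, 26),
  (80014, 6, 158, 5),
  (80018, 7, 122978, 24),
  (80021, 6, 98406, 23),
  (80022, 6, 73742, 11),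
  (80026, 6, 73742, 10),
  (80029, 6, 41235, 21),
  (80039, 6, 231639, 21),
  (80047, 6, 90303, 14),
  (80055, 6, 127364, 26),
  (80059, 6, 97457, 10),
  (80063, 7, 61828, 26),
  (80075, 6, 156046, 26),
  (80079, 7, 51634, 23),
  (80083, 6, 90510, 26),
  (80097, 7, 166206, 19),
  (80101, 7, 161914, 19),
  (80105, 7, 125269, 25),
  (80106, 7, 62817, 19),
  (80109, 6, 129025, 5),
  (80114, 6, 127166, 1),
  (80118, 6, 129034, 10),
  (80122, 7, 211219, 21),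
  (80125, 7, 150669, 22),
  (80135, 5, 415, 11),
  (80139, 7, 18890, 23),
  (80151, 7, 96478, 24),
  (80159, 7, 51598, 23),
  (80161, 6, 202841, 26),
  (80162, 6, 90542, 16),
  (80173, 6, 251918, 24),
  (80181, 6, 175221, 21),
  (80185, 7, 88150, 19)]

theorem chk_rows1_8 : rows1_8.all (rowBP1 tr1 bm1 gensLitP gensListP 1) = true := by decide +kernel

/-- Rows 7200 to 7999. -/
def rows1_9 : List (ℕ × ℕ × ℕ × ℕ) := [(80189, 7, 59683, 21),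
  (80193, 6, 199022, 19),
  (80197, 6, 25959, 25),
  (80198, 7, 194662, 23),
  (80201, 7, 203931, 26),
  (80202, 6, 243782, 2),
  (80205, 7, 51354, 23),
  (80206, 6, 241734, 2),
  (80210, 6, 39318, 8),
  (80217, 7, 219462, 19),
  (80218, 6, 244126, 17),
  (80221, 7, 51358, 23),
  (80222, 6, 37278, 8),
  (80227, 7, 234621, 8),
  (80231, 8, 79145, 39),
  (80255, 7, 213119, 14),
  (80263, 7, 47330, 24),
  (80271, 7, 14562, 24),
  (80283, 6, 211983, 1),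
  (80293, 6, 39394, 24),
  (80294, 7, 43490, 24),
  (80298, 7, 202989, 26),
  (80302, 7, 10722, 24),
  (80309, 7, 104802, 24),
  (80318, 6, 213182, 14),
  (80322, 6, 37334, 4),
  (80325, 7, 199711, 26),
  (80326, 6, 39378, 4),
  (80330, 7, 203951, 26),
  (80334, 6, 39386, 4),
  (80338, 6, 241678, 10),
  (80342, 5, 243722, 10),
  (80359, 7, 59429, 41),
  (80363, 7, 59413, 41),
  (80375, 7, 201935, 43),
  (80379, 8, 230897, 37),
  (80383, 7, 213247, 14),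
  (80931, 7, 154683, 20),
  (80933, 7, 45564, 26),
  (80935, 6, 61916, 26),
  (80939, 6, 175491, 21),
  (80941, 7, 249882, 24),
  (80949, 6, 175317, 21),
  (80955, 6, 149959, 23),
  (80957, 6, 90303, 7),
  (80959, 7, 21813, 20),
  (80965, 6, 29037, 25),
  (80967, 7, 125286, 23),
  (80977, 7, 53565, 25),
  (80979, 7, 49469, 25),
  (80981, 7, 96678, 26),
  (80983, 7, 123238, 23),
  (80985, 6, 58569, 24),
  (81059, 6, 90127, 5),
  (81065, 6, 188844, 26),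
  (81069, 7, 12786, 24),
  (81071, 7, 176548, 26),
  (81081, 7, 106599, 39),
  (81083, 6, 146731, 20),
  (81085, 7, 25869, 38),
  (81087, 7, 45476, 26),
  (81089, 7, 186789, 22),
  (81093, 7, 186709, 25),
  (81097, 6, 156078, 26),
  (81099, 6, 139694, 26),
  (81101, 7, 182450, 23),
  (81103, 7, 182706, 23),
  (81105, 6, 90542, 26),
  (81107, 5, 74158, 26),
  (81111, 6, 78246, 26),
  (81117, 7, 149709, 22),
  (81153, 7, 71806, 24),
  (81155, 7, 121126, 23),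
  (81157, 6, 30059, 25),
  (81161, 7, 104510, 24),
  (81163, 7, 149962, 23),
  (81165, 6, 52501, 20),
  (81167, 6, 129038, 24),
  (81175, 7, 96462, 24),
  (81177, 7, 185403, 25),
  (81179, 6, 204815, 8),
  (81181, 7, 182414, 23),
  (81183, 7, 129166, 24),
  (81249, 7, 36349, 11),
  (81251, 8, 151707, 42),
  (81253, 7, 151709, 42),
  (81255, 6, 137299, 40),
  (81261, 7, 38389, 11),
  (81263, 7, 38391, 11),
  (81265, 7, 25709, 38),
  (81269, 7, 183455, 23),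
  (81279, 8, 63907, 21),
  (81285, 6, 7583, 13),
  (81287, 6, 39154, 24),
  (81293, 7, 198867, 37),
  (81297, 7, 233766, 23),
  (81305, 7, 30033, 25),
  (81377, 8, 137401, 40),
  (81385, 7, 205167, 12),
  (81401, 7, 107001, 39),
  (81405, 8, 129451, 15),
  (81922, 3, 74, 22),
  (81924, 3, 76, 26),
  (81927, 6, 24700, 26),
  (81928, 4, 2058, 22),
  (81933, 6, 73948, 26),
  (81934, 4, 33104, 39),
  (81936, 3, 176, 4),
  (81939, 6, 156020, 26),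
  (81941, 6, 139612, 26),
  (81945, 6, 205268, 26),
  (81946, 6, 213476, 26),
  (81948, 6, 197068, 26),
  (81954, 4, 36938, 22),
  (81956, 4, 32780, 26),
  (81960, 4, 4110, 22),
  (81963, 6, 45402, 24),
  (81965, 6, 32822, 19),
  (81968, 3, 176, 5),
  (81973, 6, 2390, 21),
  (81978, 6, 41426, 24),
  (81980, 6, 188, 14),
  (81983, 7, 61946, 24),
  (81987, 6, 147818, 22),
  (81990, 4, 33104, 42),
  (81993, 7, 135570, 20),
  (81994, 5, 32992, 37),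
  (81996, 5, 32992, 38),
  (82007, 6, 38305, 22),
  (82011, 7, 256070, 26),
  (82013, 7, 41278, 19),
  (82019, 6, 184394, 22),
  (82033, 6, 33052, 19),
  (82034, 6, 90354, 5),
  (82043, 7, 151998, 20),
  (82050, 4, 4162, 22),
  (82052, 4, 36940, 26),
  (82056, 4, 6146, 22),
  (82061, 6, 110668, 26),
  (82064, 3, 176, 7),
  (82067, 7, 20774, 20),
  (82073, 7, 41084, 19),
  (82076, 6, 90300, 7),
  (82082, 4, 32842, 22),
  (82084, 4, 4172, 26),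
  (82087, 7, 160002, 24),
  (82088, 3, 14, 22),
  (82093, 6, 196622, 22),
  (82094, 5, 33040, 39),
  (82096, 3, 176, 8),
  (82099, 6, 155716, 26),
  (82105, 6, 204868, 26),
  (82106, 5, 186, 17),
  (82111, 7, 258434, 24),
  (82115, 6, 57414, 26),
  (82117, 6, 168284, 21),
  (82130, 6, 242, 16),
  (82132, 6, 10506, 21),
  (82135, 7, 10698, 21),
  (82141, 7, 66923, 24),
  (82147, 6, 24646, 26),
  (82150, 5, 33040, 42),
  (82153, 6, 73798, 26),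
  (82154, 4, 32928, 37),
  (82156, 4, 32928, 38),
  (82161, 6, 139334, 26),
  (82162, 6, 147526, 26),
  (82167, 7, 10702, 21),
  (82173, 6, 7599, 22),
  (82179, 6, 139610, 22),
  (82181, 6, 205210, 22),
  (82191, 6, 39089, 26),
  (82193, 6, 147857, 12),
  (82194, 7, 18578, 21),
  (82196, 7, 149926, 24),
  (82199, 6, 38289, 22),
  (82203, 7, 151926, 20),
  (82205, 6, 39313, 26),
  (82206, 6, 39329, 26),
  (82213, 7, 98454, 19),
  (82218, 6, 43350, 24),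
  (82220, 6, 428, 14),
  (82223, 7, 63870, 24),
  (82237, 7, 55790, 24),
  (82238, 5, 164112, 39),
  (82241, 6, 155962, 22),
  (82242, 6, 24698, 22),
  (82244, 6, 213476, 8),
  (82251, 7, 135638, 20),
  (82253, 7, 223674, 22),
  (82259, 6, 38193, 22),
  (82261, 7, 106910, 19),
  (82262, 6, 38065, 22),
  (82265, 7, 152050, 20),
  (82273, 7, 135626, 20),
  (82274, 6, 213474, 5),
  (82283, 7, 18653, 21),
  (82291, 7, 18654, 21),
  (82293, 7, 18782, 21),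
  (82294, 5, 163920, 42),
  (82298, 5, 98400, 37),
  (82300, 5, 98464, 38),
  (82307, 6, 145410, 24),
  (82313, 6, 4434, 20),
  (82316, 6, 213420, 7),
  (82331, 7, 243842, 24),
  (82333, 7, 252034, 24),
  (82334, 5, 163920, 39),
  (82341, 6, 204810, 22),
  (82345, 6, 139278, 22),
  (82348, 6, 73742, 22),
  (82351, 7, 194818, 24),
  (82353, 6, 156033, 2),
  (82359, 7, 227714, 24),
  (82360, 6, 98552, 19),
  (82363, 7, 244098, 24),
  (82365, 6, 7583, 22),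
  (82370, 6, 482, 16),
  (82372, 6, 1319, 24),
  (82375, 7, 225778, 22),
  (82381, 7, 106998, 19),
  (82387, 7, 26826, 21),
  (82390, 5, 164112, 42),
  (82394, 5, 98464, 37),
  (82396, 5, 98400, 38),
  (82401, 6, 155658, 22),
  (82404, 5, 484, 13),
  (82407, 7, 258100, 21),
  (82411, 6, 36087, 26),
  (82416, 6, 229416, 20),
  (82419, 6, 36215, 26),
  (82421, 7, 26958, 21),
  (82425, 6, 7487, 22),
  (82426, 6, 36327, 26),
  (82428, 6, 7359, 22),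
  (82951, 7, 160042, 24),
  (82955, 6, 176458, 24),
  (82963, 7, 67794, 21),
  (82975, 7, 153911, 20),
  (82981, 7, 20794, 24),
  (82983, 7, 57372, 26),
  (82993, 7, 153898, 20),
  (82995, 7, 153902, 20),
  (83005, 6, 97281, 14),
  (83007, 7, 61930, 24),
  (83011, 6, 204977, 23),
  (83023, 6, 248298, 22),
  (83031, 6, 90359, 13),
  (83033, 6, 256102, 26),
  (83043, 6, 90401, 23),
  (83055, 6, 249870, 22),
  (83077, 7, 159762, 24),
  (83079, 7, 45164, 26),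
  (83081, 6, 176146, 24),
  (83089, 7, 188516, 26),
  (83103, 6, 90127, 16),
  (83109, 6, 196682, 22),
  (83115, 6, 6430, 20),
  (83123, 7, 75974, 21),
  (83133, 7, 225388, 26),
  (83135, 7, 68963, 23),
  (83137, 6, 90513, 23),
  (83149, 7, 9579, 24),
  (83151, 6, 252386, 22),
  (83157, 7, 192622, 26),
  (83159, 7, 176238, 26),
  (83161, 7, 75083, 24),
  (83169, 6, 147530, 22),
  (83183, 7, 77934, 26),
  (83189, 6, 38379, 22),
  (83191, 7, 76238, 21),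
  (83193, 7, 22970, 20),
  (83215, 6, 240090, 22),
  (83227, 7, 51633, 26),
  (83233, 6, 6430, 24),
  (83245, 6, 7599, 5),
  (83247, 6, 241678, 22),
  (83255, 6, 55665, 26),
  (83257, 7, 153978, 20),
  (83259, 6, 89379, 23),
  (83269, 6, 249249, 17),
  (83271, 7, 254458, 22),
  (83275, 6, 190842, 22),
  (83301, 7, 140333, 24),
  (83305, 7, 137690, 20),
  (83307, 6, 192526, 22),
  (83315, 6, 52595, 26),
  (83327, 7, 7671, 22),
  (83343, 6, 7585, 7),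
  (83349, 6, 121229, 23),
  (83355, 7, 235666, 24),
  (83361, 5, 139338, 22),
  (83381, 6, 38363, 22),
  (83383, 7, 92614, 21),
  (83411, 7, 23014, 20),
  (83431, 5, 487, 13),
  (83441, 6, 38267, 22),
  (83443, 6, 92366, 21),
  (83455, 7, 220533, 12),
  (83975, 7, 160026, 24),
  (83978, 5, 81934, 13),
  (83981, 6, 156065, 25),
  (83982, 6, 82094, 17),
  (83986, 5, 90118, 13),
  (83995, 6, 97457, 13),
  (83999, 7, 225788, 26),
  (84003, 7, 12602, 24),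
  (84007, 7, 61500, 26),
  (84009, 6, 213297, 25),
  (84022, 5, 90118, 14),
  (84037, 6, 176220, 21),
  (84047, 6, 129094, 26),
  (84055, 6, 194630, 26),
  (84061, 6, 243782, 26),
  (84065, 6, 176388, 21),
  (84070, 5, 81990, 14),
  (84075, 7, 148569, 24),
  (84079, 6, 96326, 26),
  (84087, 6, 36017, 5),
  (84090, 6, 96502, 5),
  (84094, 6, 219206, 26),
  (84099, 7, 159778, 24),
  (84103, 7, 61508, 26),
  (84109, 6, 213137, 25),
  (84113, 6, 141378, 21),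
  (84114, 5, 90118, 7),
  (84123, 7, 141507, 21),
  (84131, 6, 24652, 26),
  (84137, 6, 73804, 26),
  (84138, 6, 82094, 13),
  (84142, 5, 81934, 8),
  (84145, 5, 139340, 26),
  (84150, 5, 90118, 8),
  (84159, 5, 191, 17),
  (84162, 5, 81990, 7),
  (84175, 6, 127046, 26),
  (84179, 6, 36087, 7),
  (84183, 6, 192582, 26),
  (84185, 7, 194862, 19),
  (84189, 6, 241734, 26),
  (84190, 5, 6394, 16),
  (84197, 6, 141378, 19),
  (84207, 7, 180430, 22),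
  (84222, 7, 141711, 21),
  (84229, 7, 35026, 19),
  (84230, 6, 422, 8),
  (84239, 6, 213423, 17),
  (84257, 7, 209034, 22),
  (84262, 5, 212998, 14),
  (84267, 7, 241870, 22),
  (84271, 7, 176334, 22),
  (84275, 6, 119923, 25),
  (84285, 7, 42281, 20),
  (84295, 7, 107927, 19),
  (84297, 6, 158138, 22),
  (84298, 6, 35246, 8),
  (84302, 7, 92282, 22),
  (84309, 7, 83245, 24),
  (84327, 6, 213063, 14),
  (84329, 7, 149597, 21),
  (84330, 6, 219622, 5),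
  (84334, 7, 210183, 25),
  (84338, 6, 155878, 7),
  (84341, 7, 149854, 21),
  (84353, 7, 108550, 19),
  (84354, 5, 212998, 7),
  (84357, 7, 209170, 22),
  (84375, 6, 103833, 22),
  (84381, 6, 73117, 22),
  (84386, 6, 422, 4),
  (84389, 7, 137506, 24),
  (84395, 6, 39165, 26),
  (84399, 7, 178466, 24),
  (84403, 6, 39293, 26),
  (84407, 7, 211362, 24),
  (84409, 6, 39389, 26),
  (84410, 6, 39405, 26),
  (84413, 6, 235938, 24),
  (84414, 7, 240034, 24),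
  (84419, 6, 248833, 16),
  (84423, 7, 233724, 21),
  (84430, 5, 6634, 16),
  (84433, 7, 243982, 19),
  (84437, 6, 117909, 25),
  (84438, 6, 205030, 14),
  (84447, 7, 36287, 26),
  (84451, 7, 254154, 22),
  (84455, 7, 19613, 25),
  (84457, 7, 256310, 19),
  (84462, 6, 35306, 4),
  (84466, 7, 44189, 25),
  (84470, 7, 99803, 19),
  (84479, 7, 126363, 15),
  (84993, 7, 135482, 24),
  (84995, 7, 16569, 25),
  (84997, 7, 66017, 23),
  (85017, 7, 209396, 26),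
  (85019, 6, 158747, 20),
  (85021, 7, 209404, 26),
  (85023, 7, 225756, 26),
  (85025, 7, 45108, 26),
  (85031, 7, 1293, 20),
  (85055, 6, 118115, 23),
  (85067, 6, 208027, 20),
  (85069, 6, 159077, 19),
  (85071, 7, 79117, 20),
  (85073, 6, 198746, 21),
  (85075, 6, 216203, 20),
  (85077, 7, 194662, 26),
  (85079, 7, 199130, 21),
  (85097, 7, 217294, 22),
  (85101, 7, 151758, 22),
  (85105, 7, 198750, 21),
  (85109, 7, 199006, 21),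
  (85111, 7, 199134, 21),
  (85121, 7, 57452, 26),
  (85127, 7, 2131, 19),
  (85149, 7, 258148, 26),
  (85151, 7, 233650, 24),
  (85155, 7, 151858, 24),
  (85157, 7, 143666, 24),
  (85159, 7, 12388, 26),
  (85179, 7, 163091, 20),
  (85181, 7, 225380, 26),
  (85183, 6, 208996, 26),
  (85193, 7, 122990, 26),
  (85195, 7, 186850, 22),
  (85201, 7, 129173, 25),
  (85207, 6, 120989, 25),
  (85225, 7, 90222, 26),
  (85227, 6, 156763, 24),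
  (85229, 6, 207181, 21),
  (85239, 7, 207310, 21),
  (85257, 6, 170366, 24),
  (85259, 7, 174554, 22),
  (85261, 6, 93285, 19),
  (85263, 7, 194894, 24),
  (85271, 7, 202989, 23),
  (85289, 7, 55513, 26),
  (85295, 6, 120163, 23),
  (85297, 6, 103763, 22),
  (85299, 7, 215254, 21),
  (85303, 6, 121185, 23),
  (85313, 7, 45564, 21),
  (85315, 7, 188922, 22),
  (85317, 6, 208197, 19),
  (85319, 7, 254330, 22),
  (85337, 8, 196065, 6),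
  (85339, 7, 205295, 2),
  (85341, 7, 155903, 1),
  (85343, 8, 215515, 21),
  (85347, 7, 258186, 22),
  (85351, 7, 61860, 21),
  (85375, 7, 39355, 5),
  (85385, 7, 194610, 24),
  (85387, 7, 186418, 24),
  (85391, 7, 170034, 24),
  (85393, 6, 55581, 26),
  (85397, 7, 223554, 21),
  (85399, 6, 119961, 25),
  (85423, 7, 172174, 22),
  (85425, 7, 227762, 24),
  (85427, 7, 219570, 24),
  (85429, 7, 223558, 21),
  (85447, 6, 89245, 25),
  (85471, 7, 38389, 7),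
  (85475, 7, 254090, 22),
  (85477, 7, 156719, 24),
  (85479, 6, 188554, 22),
  (85497, 8, 260415, 19),
  (85503, 8, 259501, 4),
  (86019, 6, 143706, 24),
  (86029, 6, 197006, 22),
  (86033, 7, 57372, 19),
  (86034, 6, 139730, 24),
  (86044, 6, 188, 4),
  (86047, 7, 192954, 24),
  (86053, 6, 90417, 25),
  (86062, 6, 82094, 15),
  (86065, 7, 160042, 20),
  (86068, 7, 164236, 26),
  (86073, 7, 49212, 19),
  (86074, 6, 90298, 5),
  (86084, 5, 82156, 8),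
  (86087, 7, 129230, 26),
  (86089, 6, 147758, 22),
  (86092, 5, 82156, 13),
  (86099, 7, 256198, 26),
  (86101, 7, 57630, 19),
  (86102, 6, 129270, 4),
  (86107, 7, 184549, 25),
  (86109, 6, 129025, 4),
  (86113, 7, 75974, 26),
  (86119, 6, 251978, 22),
  (86121, 7, 143770, 20),
  (86122, 5, 82154, 5),
  (86131, 7, 160174, 20),
  (86134, 6, 96506, 5),
  (86139, 6, 90187, 14),
  (86150, 6, 82094, 12),
  (86155, 6, 143426, 24),
  (86157, 6, 90497, 25),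
  (86162, 5, 186, 16),
  (86164, 7, 57434, 19),
  (86169, 7, 28978, 20),
  (86170, 6, 204994, 24),
  (86175, 7, 192716, 26),
  (86179, 6, 12558, 20),
  (86181, 6, 156033, 25),
  (86193, 7, 233922, 24),
  (86194, 6, 37903, 22),
  (86196, 6, 188, 8),
  (86204, 7, 49274, 19),
  (86207, 6, 199777, 23),
  (86209, 7, 106694, 26),
  (86210, 6, 234, 16),
  (86215, 6, 219622, 22),
  (86217, 7, 12690, 20),
  (86223, 7, 12695, 20),
  (86227, 6, 38139, 7),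
  (86229, 7, 241870, 26),
  (86230, 7, 240013, 25),
  (86237, 7, 176334, 26),
  (86238, 6, 6390, 16),
  (86241, 7, 12682, 20),
  (86244, 5, 82156, 17),
  (86247, 6, 247882, 22),
  (86252, 6, 236, 13),
  (86259, 7, 49501, 19),
  (86261, 6, 39089, 17),
  (86262, 7, 217294, 26),
  (86270, 6, 129034, 8),
  (86274, 6, 143684, 20),
  (86276, 6, 213420, 8),
  (86281, 5, 139550, 22),
  (86284, 6, 73886, 22),
  (86293, 6, 173431, 21),
  (86294, 6, 90414, 12),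
  (86301, 6, 7569, 22),
  (86302, 6, 213150, 15),
  (86308, 7, 79882, 22),
  (86311, 6, 243786, 22),
  (86313, 6, 143706, 20),
  (86319, 7, 63806, 24),
  (86323, 6, 120163, 25),
  (86325, 6, 104785, 26),
  (86331, 7, 47518, 24),
  (86334, 6, 213182, 15),
  (86341, 6, 251981, 8),
  (86342, 7, 177465, 23),
  (86353, 7, 123292, 19),
  (86354, 7, 146749, 23),
  (86356, 7, 123290, 19),
  (86359, 8, 155103, 12),
  (86361, 6, 7473, 22),
  (86362, 7, 160244, 20),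
  (86364, 6, 7345, 22),
  (86371, 6, 194634, 22),
  (86374, 6, 219626, 5),
  (86379, 6, 38305, 5),
  (86381, 6, 143835, 20),
  (86385, 6, 101715, 26),
  (86386, 6, 82394, 16),
  (86391, 7, 36285, 5),
  (86404, 7, 182338, 24),
  (86410, 6, 12628, 20),
  (86419, 7, 29030, 20),
  (86421, 7, 123102, 19),
  (86422, 6, 90542, 12),
  (86434, 6, 12620, 20),
  (86439, 6, 239690, 22),
  (86444, 6, 428, 13),
  (86451, 7, 114909, 19),
  (86454, 5, 74158, 12),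
  (86462, 5, 147646, 15),
  (86467, 6, 38379, 7),
  (86470, 6, 96502, 22),
  (86478, 6, 6630, 16),
  (86489, 6, 118149, 25),
  (86490, 6, 156122, 5),
  (86499, 6, 190538, 22),
  (86501, 7, 223242, 22),
  (86509, 5, 493, 13),
  (87049, 6, 168218, 24),
  (87063, 6, 156124, 26),
  (87069, 6, 205180, 26),
  (87071, 6, 90303, 13),
  (87073, 6, 4442, 24),
  (87083, 6, 45322, 24),
  (87093, 7, 175571, 21),
  (87101, 6, 173173, 42),
  (87109, 6, 248238, 22),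
  (87117, 7, 63726, 26),
  (87131, 6, 90363, 13),
  (87141, 6, 219210, 22),
  (87151, 6, 251918, 22),
  (87161, 6, 162141, 19),
  (87163, 7, 238681, 24),
  (87171, 6, 168018, 24),
  (87189, 6, 118149, 23),
  (87197, 7, 173413, 42),
  (87199, 7, 176364, 26),
  (87209, 6, 14618, 20),
  (87221, 6, 7345, 17),
  (87237, 6, 252326, 22),
  (87245, 7, 61678, 26),
  (87247, 6, 250342, 22),
  (87249, 7, 254182, 26),
  (87257, 7, 87431, 37),
  (87259, 6, 121229, 25),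
  (87277, 7, 28910, 26),
  (87279, 6, 247822, 22),
  (87281, 6, 128251, 8),
  (87283, 6, 205030, 26),
  (87289, 6, 155878, 26),
  (87301, 6, 220577, 17),
  (87311, 7, 194862, 24),
  (87313, 7, 162146, 20),
  (87315, 6, 107639, 21),
  (87323, 6, 162166, 20),
  (87335, 5, 243722, 22),
  (87343, 6, 243726, 22),
  (87353, 6, 162170, 20),
  (87361, 6, 250955, 8),
  (87371, 7, 188798, 22),
  (87381, 7, 38389, 22),
  (87383, 7, 145577, 39),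
  (87391, 8, 163065, 1),
  (87393, 6, 161866, 22),
  (87395, 5, 194570, 22),
  (87413, 7, 110889, 43),
  (87415, 7, 87171, 37),
  (87423, 7, 111033, 43),
  (87429, 6, 244118, 22),
  (87431, 6, 244182, 22),
  (87439, 6, 242134, 22),
  (87441, 6, 89485, 23),
  (87451, 6, 120201, 25),
  (87461, 7, 201059, 23),
  (87471, 5, 431, 13),
  (87473, 6, 244178, 24),
  (87475, 6, 235986, 24),
  (87483, 7, 31102, 20),
  (87489, 6, 194870, 22),
  (87491, 6, 194934, 22),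
  (87499, 6, 192886, 22),
  (87509, 7, 116875, 38),
  (87519, 7, 145743, 39),
  (87521, 7, 14794, 20),
  (87531, 5, 491, 13),
  (87541, 8, 243053, 6),
  (87543, 7, 27743, 40),
  (87551, 7, 7675, 22),
  (88065, 6, 10342, 19),
  (88069, 6, 24993, 25),
  (88073, 6, 147633, 25),
  (88083, 7, 160244, 26),
  (88095, 6, 225660, 26),
  (88101, 6, 90401, 25),
  (88105, 6, 213041, 25),
  (88106, 5, 81934, 1),
  (88109, 6, 110620, 26),
  (88110, 5, 81934, 14),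
  (88115, 7, 12794, 24),
  (88119, 7, 192956, 26),
  (88123, 7, 162823, 20),
  (88127, 6, 90127, 14),
  (88135, 7, 174145, 42),
  (88139, 7, 88073, 38),
  (88143, 6, 112901, 21),
  (88145, 7, 145774, 19),
  (88146, 6, 127222, 4),
  (88149, 7, 186482, 19),
  (88150, 6, 129090, 13),
  (88153, 7, 162126, 19),
  (88157, 7, 178374, 26),
  (88158, 6, 129274, 4),
  (88163, 6, 92366, 26),
  (88171, 7, 26830, 26),
  (88181, 7, 125027, 23),
  (88186, 7, 50489, 19),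
  (88189, 6, 39089, 5),
  (88193, 6, 43046, 19),
  (88194, 5, 81934, 7),
  (88197, 6, 213393, 25),
  (88198, 5, 81934, 11),
  (88201, 6, 90513, 25),
  (88211, 6, 97281, 16),
  (88219, 7, 240917, 21),
  (88223, 6, 138297, 20),
  (88229, 6, 147857, 25),
  (88233, 6, 24977, 25),
  (88237, 6, 12484, 26),
  (88247, 7, 225476, 26),
  (88251, 7, 225762, 24),
  (88267, 7, 152038, 22),
  (88271, 6, 203801, 20),
  (88273, 6, 39165, 7),
  (88277, 7, 153714, 19),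
  (88281, 7, 194830, 19),
  (88282, 7, 180430, 26),
  (88291, 6, 248010, 22),
  (88295, 7, 88229, 38),
  (88299, 7, 174357, 42),
  (88306, 6, 129030, 8),
  (88310, 7, 203931, 21),
  (88314, 6, 129038, 8),
  (88318, 6, 126990, 8),
  (88337, 7, 137710, 24),
  (88346, 6, 196926, 1),
  (88349, 6, 39154, 19),
  (88359, 7, 178378, 22),
  (88363, 7, 47422, 24),
  (88367, 6, 7585, 5),
  (88370, 6, 155822, 7),
  (88377, 6, 39342, 24),
  (88378, 6, 139454, 10),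
  (88381, 7, 47330, 19),
  (88386, 6, 252326, 17),
  (88389, 7, 223550, 22),
  (88390, 7, 92286, 22),
  (88393, 7, 223558, 19),
  (88394, 5, 252334, 17),
  (88398, 6, 250286, 17),
  (88415, 8, 124351, 19),
  (88417, 6, 227466, 22),
  (88425, 7, 242883, 20),
  (88426, 7, 129230, 22),
  (88429, 6, 213069, 14),
  (88435, 7, 61889, 41),
  (88439, 7, 88101, 38),
  (88443, 7, 174341, 42),
  (88451, 6, 7599, 7),
  (88455, 7, 100413, 26),
  (88465, 7, 252130, 24),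
  (88470, 6, 213182, 2),
  (88473, 6, 129038, 19),
  (88478, 6, 204974, 14),
  (88483, 7, 239818, 22),
  (88487, 7, 233571, 23),
  (88491, 7, 162146, 24),
  (88495, 7, 174286, 22),
  (88497, 6, 252386, 24),
  (88498, 7, 186709, 20),
  (88502, 6, 196798, 2),
  (88509, 7, 14562, 19),
  (88510, 7, 207330, 24),
  (88513, 6, 39405, 7),
  (88517, 7, 227638, 22),
  (88521, 7, 256262, 19),
  (88522, 7, 50519, 24),
  (88525, 7, 225590, 22),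
  (88535, 7, 174161, 42),
  (88539, 7, 88201, 38),
  (88543, 7, 205039, 14),
  (88545, 6, 110627, 23),
  (88546, 6, 250342, 13),
  (88550, 6, 39394, 4),
  (88557, 7, 157838, 22),
  (88558, 6, 39402, 4),
  (88563, 8, 246815, 24),
  (89105, 6, 83361, 38),
  (89109, 6, 90127, 4),
  (89137, 6, 152599, 20),
  (89139, 5, 191, 5),
  (89141, 7, 176572, 26),
  (89143, 7, 29130, 24),
  (89147, 7, 258324, 26),
  (89155, 7, 108782, 26),
  (89157, 7, 248110, 22),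
  (89161, 6, 58697, 24),
  (89167, 7, 246126, 22),
  (89187, 7, 252042, 22),
  (89189, 7, 96486, 26),
  (89193, 6, 158039, 19),
  (89195, 7, 10478, 26),
  (89199, 7, 186510, 22),
  (89233, 7, 258290, 24),
  (89235, 7, 250098, 24),
  (89245, 5, 191, 7),
  (89247, 7, 200946, 24),
  (89267, 6, 205036, 26),
  (89269, 7, 242162, 24),
  (89273, 6, 155884, 26),
  (89275, 6, 90303, 8),
  (89283, 7, 106734, 26),
  (89285, 7, 127206, 26),
  (89287, 6, 252262, 22),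
  (89317, 7, 94438, 26),
  (89319, 6, 78054, 26),
  (89325, 7, 84137, 37),
  (89327, 7, 182414, 22),
  (89347, 7, 145774, 24),
  (89349, 7, 116761, 26),
  (89351, 7, 162126, 24),
  (89355, 6, 220591, 17),
  (89357, 7, 237854, 22),
  (89359, 7, 194830, 24),
  (89379, 5, 431, 5),
  (89429, 7, 212333, 19)]

theorem chk_rows1_9 : rows1_9.all (rowBP1 tr1 bm1 gensLitP gensListP 1) = true := by decide +kernel

/-- Rows 8000 to 8799. -/
def rows1_10 : List (ℕ × ℕ × ℕ × ℕ) := [(89459, 7, 83043, 38),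
  (89463, 7, 155129, 12),
  (89465, 7, 38327, 5),
  (89471, 7, 102897, 41),
  (89473, 6, 108583, 19),
  (89475, 7, 134613, 40),
  (89479, 7, 244054, 22),
  (89481, 6, 120989, 26),
  (89483, 7, 153714, 24),
  (89485, 5, 431, 7),
  (89507, 6, 102691, 23),
  (89509, 6, 7599, 13),
  (89511, 6, 170354, 24),
  (89519, 6, 116989, 26),
  (89553, 8, 126301, 11),
  (89559, 7, 38397, 7),
  (89561, 7, 213343, 12),
  (89563, 7, 36349, 7),
  (89565, 7, 83137, 38),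
  (89567, 7, 143455, 42),
  (89587, 7, 102863, 41),
  (89591, 7, 172473, 39),
  (89593, 7, 213375, 12),
  (89597, 7, 53343, 43),
  (89599, 8, 260143, 16),
  (90118, 4, 32928, 40),
  (90121, 7, 45108, 19),
  (90122, 5, 197000, 44),
  (90124, 5, 16394, 39),
  (90127, 5, 131075, 38),
  (90131, 7, 108550, 21),
  (90138, 5, 186, 8),
  (90147, 6, 131391, 38),
  (90153, 7, 135482, 20),
  (90154, 6, 106834, 24),
  (90159, 7, 123324, 26),
  (90163, 7, 188468, 26),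
  (90166, 6, 182, 6),
  (90169, 6, 16839, 39),
  (90170, 6, 151836, 20),
  (90172, 7, 36922, 19),
  (90175, 7, 254140, 26),
  (90177, 6, 4513, 44),
  (90178, 5, 8204, 37),
  (90183, 5, 2177, 43),
  (90184, 5, 33040, 40),
  (90187, 5, 65541, 42),
  (90189, 5, 1281, 41),
  (90194, 7, 51526, 26),
  (90199, 6, 250955, 22),
  (90203, 7, 151958, 20),
  (90210, 7, 149830, 26),
  (90215, 6, 244186, 21),
  (90216, 5, 90360, 10),
  (90219, 7, 223558, 26),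
  (90222, 6, 129030, 1),
  (90235, 7, 132313, 24),
  (90237, 6, 37182, 19),
  (90238, 6, 127222, 15),
  (90243, 7, 1215, 41),
  (90246, 6, 182, 3),
  (90261, 6, 174102, 21),
  (90265, 7, 1493, 41),
  (90268, 7, 245762, 24),
  (90281, 7, 168322, 24),
  (90282, 5, 186, 4),
  (90284, 7, 201036, 26),
  (90287, 7, 192898, 24),
  (90291, 7, 106518, 21),
  (90293, 6, 12620, 26),
  (90294, 5, 32992, 40),
  (90298, 5, 196616, 44),
  (90300, 5, 16426, 39),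
  (90303, 5, 131331, 38),
  (90305, 6, 45396, 19),
  (90306, 7, 180550, 26),
  (90308, 6, 45394, 19),
  (90318, 6, 127166, 12),
  (90324, 6, 45402, 19),
  (90328, 5, 90360, 11),
  (90334, 6, 129274, 2),
  (90349, 6, 220577, 22),
  (90354, 5, 8220, 37),
  (90359, 5, 2181, 43),
  (90360, 4, 33104, 40),
  (90363, 5, 65669, 42),
  (90365, 5, 1283, 41),
  (90369, 6, 196785, 3),
  (90375, 6, 205275, 22),
  (90376, 6, 90216, 19),
  (90379, 7, 244062, 24),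
  (90382, 7, 256374, 24),
  (90391, 6, 242763, 22),
  (90395, 6, 8475, 37),
  (90398, 5, 98336, 39),
  (90401, 5, 8241, 37),
  (90402, 6, 76054, 24),
  (90404, 6, 141618, 21),
  (90407, 7, 219237, 23),
  (90411, 7, 220199, 23),
  (90414, 5, 4124, 44),
  (90417, 5, 16401, 39),
  (90423, 7, 96702, 24),
  (90424, 7, 57640, 20),
  (90427, 7, 251171, 25),
  (90430, 5, 65800, 42),
  (90435, 6, 156027, 22),
  (90437, 7, 176510, 21),
  (90438, 6, 90363, 22),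
  (90447, 8, 243053, 10),
  (90451, 6, 193611, 22),
  (90454, 5, 65760, 42),
  (90457, 6, 152018, 20),
  (90458, 5, 163856, 37),
  (90460, 5, 131408, 38),
  (90463, 6, 33273, 40),
  (90469, 6, 102806, 19),
  (90470, 5, 20482, 41),
  (90473, 7, 135674, 20),
  (90474, 5, 131464, 38),
  (90485, 6, 152011, 20),
  (90489, 7, 247079, 25),
  (90490, 5, 4130, 44),
  (90492, 5, 12316, 43),
  (90497, 5, 16433, 39),
  (90498, 6, 141442, 24),
  (90500, 7, 8350, 37),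
  (90510, 5, 65928, 42),
  (90513, 5, 8225, 37),
  (90519, 6, 2385, 43),
  (90520, 6, 16600, 19),
  (90525, 7, 20819, 20),
  (90526, 5, 4116, 44),
  (90535, 6, 58569, 25),
  (90539, 6, 65635, 42),
  (90541, 6, 212369, 22),
  (90542, 5, 98528, 39),
  (90545, 6, 147857, 2),
  (90546, 7, 90166, 21),
  (90548, 6, 155702, 21),
  (90555, 7, 20830, 20),
  (90557, 6, 204815, 22),
  (90563, 7, 8349, 37),
  (90569, 6, 2221, 43),
  (90570, 5, 4138, 44),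
  (90572, 5, 12292, 43),
  (90575, 6, 16511, 39),
  (90582, 5, 20522, 41),
  (90586, 5, 131208, 38),
  (90591, 6, 131279, 38),
  (90598, 5, 65632, 42),
  (90601, 6, 163121, 22),
  (90602, 5, 164176, 37),
  (90604, 5, 131152, 38),
  (90607, 6, 4593, 44),
  (90613, 7, 102878, 19),
  (90617, 6, 155663, 22),
  (90618, 7, 20956, 20),
  (90620, 6, 90127, 22),
  (90623, 8, 151005, 2),
  (91137, 7, 41174, 21),
  (91139, 7, 209162, 24),
  (91153, 7, 201114, 24),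
  (91169, 7, 41268, 26),
  (91181, 7, 119162, 24),
  (91183, 7, 123292, 26),
  (91187, 7, 153870, 20),
  (91197, 7, 119290, 24),
  (91205, 7, 176606, 21),
  (91207, 7, 242014, 21),
  (91209, 6, 158061, 19),
  (91211, 7, 75225, 24),
  (91221, 6, 126129, 17),
  (91225, 7, 125286, 26),
  (91239, 7, 145774, 26),
  (91241, 5, 251, 1),
  (91253, 6, 127037, 25),
  (91255, 6, 153999, 20),
  (91267, 7, 6233, 19),
  (91281, 7, 22786, 20),
  (91283, 7, 41316, 26),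
  (91293, 7, 197711, 22),
  (91297, 7, 35026, 21),
  (91299, 7, 135570, 24),
  (91311, 7, 209260, 26),
  (91313, 7, 209170, 24),
  (91325, 7, 258322, 24),
  (91327, 7, 250130, 24),
  (91335, 7, 233822, 21),
  (91337, 7, 6578, 20),
  (91353, 7, 123238, 26),
  (91355, 5, 251, 2),
  (91365, 6, 251297, 22),
  (91367, 5, 247, 13),
  (91371, 6, 205158, 26),
  (91381, 6, 213067, 22),
  (91385, 6, 90470, 26),
  (91397, 7, 172534, 21),
  (91399, 7, 227630, 24),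
  (91401, 6, 92269, 19),
  (91403, 7, 55513, 19),
  (91413, 7, 256166, 21),
  (91415, 6, 227758, 24),
  (91417, 6, 235998, 24),
  (91433, 7, 137594, 20),
  (91445, 6, 215225, 43),
  (91449, 7, 104926, 24),
  (91451, 6, 59593, 19),
  (91457, 6, 207181, 19),
  (91459, 7, 110718, 21),
  (91469, 8, 212081, 14),
  (91485, 8, 159945, 44),
  (91489, 6, 137706, 20),
  (91491, 7, 138691, 38),
  (91501, 8, 206061, 24),
  (91505, 7, 127142, 21),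
  (91517, 7, 104707, 42),
  (91519, 7, 54367, 39),
  (91531, 6, 6518, 20),
  (91541, 7, 227346, 24),
  (91543, 7, 219154, 24),
  (91547, 7, 235538, 24),
  (91557, 6, 243089, 22),
  (91559, 7, 231794, 21),
  (91561, 6, 6522, 20),
  (91573, 6, 204875, 22),
  (91587, 6, 6630, 20),
  (91597, 8, 215069, 43),
  (91601, 6, 129206, 21),
  (91613, 7, 44073, 37),
  (91617, 5, 6634, 20),
  (91629, 7, 243061, 6),
  (91631, 7, 238009, 40),
  (91633, 6, 155723, 22),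
  (92161, 6, 12628, 26),
  (92175, 7, 258394, 24),
  (92181, 6, 143452, 26),
  (92182, 6, 182, 8),
  (92191, 6, 90303, 17),
  (92193, 6, 43346, 21),
  (92194, 5, 90118, 1),
  (92203, 7, 134357, 21),
  (92207, 6, 27913, 20),
  (92213, 6, 17705, 20),
  (92238, 6, 135494, 38),
  (92243, 7, 199855, 20),
  (92249, 6, 162150, 19),
  (92254, 7, 141683, 23),
  (92263, 6, 214377, 22),
  (92266, 6, 38193, 19),
  (92269, 5, 253, 1),
  (92270, 7, 219462, 26),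
  (92275, 7, 26958, 26),
  (92279, 7, 127013, 25),
  (92281, 6, 162166, 19),
  (92282, 6, 39154, 6),
  (92285, 6, 190538, 19),
  (92286, 6, 129270, 15),
  (92293, 6, 163926, 21),
  (92299, 6, 246215, 23),
  (92303, 7, 176290, 24),
  (92310, 5, 90118, 11),
  (92315, 7, 258082, 24),
  (92319, 7, 127300, 26),
  (92322, 6, 182, 4),
  (92325, 6, 143684, 26),
  (92331, 6, 7345, 13),
  (92355, 7, 102878, 21),
  (92362, 6, 39098, 3),
  (92366, 5, 129214, 12),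
  (92375, 7, 61766, 26),
  (92377, 5, 253, 2),
  (92387, 7, 104922, 21),
  (92393, 6, 190782, 19),
  (92397, 6, 161866, 19),
  (92403, 6, 241942, 21),
  (92407, 7, 18653, 25),
  (92409, 6, 194870, 19),
  (92413, 7, 78150, 26),
  (92414, 6, 38267, 19),
  (92419, 7, 211262, 24),
  (92423, 7, 111767, 19),
  (92425, 7, 235886, 24),
  (92430, 7, 111795, 19),
  (92441, 7, 236014, 24),
  (92442, 6, 90542, 4),
  (92445, 7, 252366, 24),
  (92457, 7, 92286, 19),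
  (92467, 7, 80318, 24),
  (92471, 7, 96670, 24),
  (92474, 5, 74158, 4),
  (92477, 7, 121294, 24),
  (92478, 7, 242947, 25),
  (92482, 5, 74214, 16),
  (92486, 6, 204918, 14),
  (92497, 6, 211270, 19),
  (92507, 8, 103589, 42),
  (92511, 8, 243887, 3),
  (92517, 7, 178298, 21),
  (92527, 7, 252063, 3),
  (92529, 7, 127013, 23),
  (92530, 5, 147702, 7),
  (92533, 7, 61734, 21),
  (92534, 7, 94502, 21),
  (92539, 8, 103685, 42),
  (92551, 7, 209235, 22),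
  (92553, 7, 124974, 19),
  (92557, 7, 211219, 22),
  (92558, 6, 74046, 8),
  (92563, 7, 256310, 21),
  (92567, 7, 125238, 21),
  (92569, 6, 173435, 20),
  (92573, 7, 140431, 22),
  (92574, 7, 239650, 24),
  (92585, 7, 124990, 19),
  (92590, 6, 139694, 17),
  (92599, 7, 233573, 23),
  (92605, 7, 26826, 19),
  (92606, 7, 169063, 23),
  (92609, 7, 239886, 19),
  (92614, 6, 147926, 5),
  (92623, 8, 92605, 43),
  (92625, 6, 194870, 21),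
  (92626, 7, 227638, 21),
  (92641, 6, 39290, 21),
  (92651, 7, 191709, 25),
  (92658, 6, 25046, 16),
  (92661, 7, 19669, 25),
  (92662, 6, 213206, 14),
  (93193, 6, 199761, 21),
  (93199, 7, 94684, 26),
  (93209, 6, 209140, 26),
  (93213, 7, 250330, 24),
  (93215, 7, 225500, 26),
  (93229, 5, 191, 1),
  (93231, 7, 25869, 20),
  (93241, 6, 90127, 15),
  (93247, 7, 200151, 21),
  (93253, 7, 194918, 26),
  (93267, 7, 43374, 26),
  (93285, 5, 247, 1),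
  (93297, 7, 26990, 26),
  (93299, 7, 176518, 21),
  (93303, 6, 36087, 6),
  (93325, 7, 176306, 24),
  (93327, 6, 97281, 12),
  (93337, 6, 140607, 20),
  (93339, 5, 191, 2),
  (93341, 7, 19611, 39),
  (93343, 7, 233522, 24),
  (93357, 6, 208197, 21),
  (93373, 6, 230759, 23),
  (93377, 6, 36017, 3),
  (93379, 7, 102750, 21),
  (93393, 6, 244118, 21),
  (93395, 5, 247, 2),
  (93397, 7, 61798, 26),
  (93409, 6, 39386, 21),
  (93427, 6, 30941, 25),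
  (93429, 7, 29030, 26),
  (93431, 6, 140323, 41),
  (93441, 7, 203070, 24),
  (93443, 7, 211246, 24),
  (93447, 7, 227598, 24),
  (93457, 6, 256422, 21),
  (93461, 6, 219550, 24),
  (93473, 7, 141381, 43),
  (93489, 7, 254374, 21),
  (93491, 7, 188838, 21),
  (93493, 7, 88478, 24),
  (93495, 7, 96654, 24),
  (93513, 8, 260383, 4),
  (93515, 7, 45537, 37),
  (93517, 7, 114735, 40),
  (93529, 7, 86361, 44),
  (93531, 7, 96739, 13),
  (93533, 7, 155887, 1),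
  (93545, 7, 168327, 38),
  (93549, 7, 140555, 41),
  (93567, 7, 128359, 23),
  (93571, 7, 98678, 21),
  (93587, 7, 219186, 24),
  (93589, 7, 125366, 21),
  (93591, 7, 202802, 24),
  (93603, 6, 104741, 23),
  (93607, 6, 182397, 26),
  (93645, 7, 213119, 1),
  (93657, 7, 114963, 40),
  (93659, 7, 140313, 41),
  (93673, 7, 7667, 13),
  (93675, 7, 156127, 2),
  (93677, 7, 7671, 13),
  (93693, 8, 248895, 16),
  (94210, 6, 205138, 24),
  (94212, 6, 460, 26),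
  (94217, 7, 143666, 20),
  (94223, 6, 90492, 26),
  (94225, 7, 160002, 20),
  (94226, 6, 205266, 24),
  (94228, 6, 90300, 8),
  (94231, 6, 155900, 26),
  (94233, 7, 61500, 19),
  (94236, 6, 196684, 26),
  (94241, 7, 53268, 19),
  (94244, 6, 90300, 1),
  (94250, 5, 186, 10),
  (94252, 7, 53298, 19),
  (94265, 7, 160026, 20),
  (94266, 5, 186, 6),
  (94268, 6, 188, 6),
  (94271, 5, 191, 6),
  (94275, 7, 256454, 26),
  (94278, 7, 252366, 26),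
  (94283, 7, 143798, 20),
  (94285, 6, 213423, 22),
  (94291, 7, 125382, 26),
  (94293, 6, 129101, 8),
  (94294, 7, 121294, 26),
  (94301, 6, 220175, 22),
  (94302, 6, 39098, 8),
  (94309, 6, 53526, 19),
  (94310, 6, 129038, 1),
  (94315, 7, 143806, 20),
  (94317, 6, 93285, 23),
  (94323, 7, 92614, 26),
  (94325, 7, 53534, 19),
  (94331, 7, 160158, 20),
  (94337, 7, 12578, 20),
  (94338, 5, 186, 3),
  (94340, 6, 188, 3),
  (94343, 5, 191, 3),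
  (94345, 7, 61556, 19),
  (94346, 6, 12596, 20),
  (94348, 7, 61554, 19),
  (94351, 7, 52705, 39),
  (94353, 7, 61532, 19),
  (94354, 6, 90298, 2),
  (94362, 6, 204866, 24),
  (94364, 6, 188, 11),
  (94367, 7, 225346, 24),
  (94370, 6, 7237, 22),
  (94377, 7, 139716, 26),
  (94380, 6, 188, 13),
  (94383, 7, 160204, 26),
  (94385, 7, 74180, 26),
  (94386, 6, 34891, 22),
  (94388, 7, 53338, 19),
  (94391, 7, 28943, 20),
  (94393, 7, 201026, 24),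
  (94399, 6, 237591, 21),
  (94406, 7, 245850, 40),
  (94411, 7, 99803, 24),
  (94414, 7, 184782, 26),
  (94421, 7, 111054, 26),
  (94430, 6, 129090, 11),
  (94438, 6, 129270, 13),
  (94445, 5, 253, 13),
  (94453, 7, 53598, 19),
  (94454, 7, 86478, 26),
  (94461, 7, 12750, 26),
  (94470, 6, 196798, 3),
  (94477, 6, 205215, 22),
  (94478, 7, 256310, 24),
  (94486, 6, 204974, 3),
  (94491, 6, 244126, 24),
  (94493, 5, 252334, 24),
  (94499, 6, 143726, 20),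
  (94502, 6, 74046, 12),
  (94507, 7, 143742, 20),
  (94509, 7, 118966, 19),
  (94510, 7, 125238, 24),
  (94517, 7, 52317, 39),
  (94518, 7, 92662, 24),
  (94523, 7, 113054, 24),
  (94525, 6, 160091, 20),
  (94526, 7, 41014, 39),
  (94537, 6, 155967, 22),
  (94538, 6, 204922, 14),
  (94540, 6, 90303, 22),
  (94545, 7, 162827, 22),
  (94551, 7, 94537, 44),
  (94553, 6, 162831, 22),
  (94556, 6, 97295, 22),
  (94559, 7, 163051, 1),
  (94562, 6, 90570, 16),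
  (94564, 6, 213116, 17),
  (94567, 7, 169349, 38),
  (94569, 6, 157925, 43),
  (94570, 7, 232675, 26),
  (94572, 7, 119218, 19),
  (94575, 7, 47231, 37),
  (94578, 6, 147706, 7),
  (94588, 6, 74220, 13),
  (94591, 8, 73039, 42),
  (94595, 7, 12646, 20),
  (94605, 6, 127222, 19),
  (94611, 6, 243778, 24),
  (94613, 6, 251970, 24),
  (94622, 6, 155806, 15),
  (94635, 6, 50633, 25),
  (94638, 6, 155822, 15),
  (94643, 7, 200743, 23),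
  (94645, 7, 167281, 21),
  (94651, 6, 122935, 21),
  (94653, 6, 188471, 21),
  (94654, 6, 196926, 6),
  (94657, 7, 162103, 22),
  (94658, 7, 69823, 21),
  (94660, 6, 213212, 17),
  (94665, 7, 12786, 20),
  (94666, 6, 147930, 5),
  (94668, 7, 110021, 25),
  (94671, 7, 73167, 42),
  (94682, 6, 196858, 14),
  (94684, 6, 25068, 13),
  (94687, 8, 47215, 37),
  (94689, 6, 79911, 23),
  (94692, 6, 213244, 17),
  (94697, 7, 119284, 19),
  (94703, 8, 246201, 40),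
  (94705, 7, 29130, 20),
  (94706, 5, 25050, 16),
  (94713, 7, 119292, 19),
  (94716, 7, 165095, 24),
  (94719, 8, 257261, 8),
  (95239, 5, 25052, 26),
  (95245, 6, 74108, 26),
  (95247, 6, 90460, 26),
  (95253, 6, 97457, 17),
  (95255, 6, 155868, 26),
  (95261, 6, 204924, 26),
  (95263, 7, 258474, 24),
  (95271, 6, 90127, 10),
  (95277, 6, 216421, 23),
  (95293, 7, 119226, 24),
  (95295, 6, 162079, 20),
  (95313, 6, 128075, 8),
  (95321, 6, 42441, 24),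
  (95329, 6, 223718, 26),
  (95337, 7, 158182, 26),
  (95347, 6, 38139, 6),
  (95353, 6, 249901, 25),
  (95365, 7, 192722, 24),
  (95367, 6, 14631, 20),
  (95373, 7, 159954, 24),
  (95381, 7, 165333, 21),
  (95389, 6, 97281, 11),
  (95391, 7, 217170, 24),
  (95405, 6, 160236, 26),
  (95407, 5, 191, 13),
  (95425, 7, 186663, 22),
  (95433, 6, 90187, 12),
  (95435, 6, 137337, 19),
  (95443, 6, 106982, 26),
  (95449, 7, 31122, 20),
  (95451, 7, 41446, 26),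
  (95457, 7, 14762, 20),
  (95459, 6, 205286, 26),
  (95465, 6, 156134, 26),
  (95467, 5, 251, 13),
  (95473, 6, 90598, 26),
  (95475, 5, 74214, 26),
  (95481, 6, 25062, 26),
  (95489, 7, 203102, 24),
  (95499, 7, 243982, 24),
  (95507, 6, 162118, 20),
  (95515, 7, 244110, 24),
  (95523, 7, 145774, 20),
  (95539, 7, 162126, 20),
  (95557, 8, 145891, 20),
  (95565, 8, 234677, 3),
  (95573, 7, 212327, 19),
  (95575, 7, 166165, 38),
  (95581, 7, 22693, 39),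
  (95583, 7, 90607, 13),
  (95589, 7, 57795, 40),
  (95591, 7, 166277, 38),
  (95597, 7, 75861, 43),
  (95599, 8, 148923, 41),
  (95605, 8, 13509, 37),
  (95607, 7, 99649, 42),
  (95613, 7, 57381, 40),
  (95615, 7, 99663, 42),
  (95619, 7, 218253, 23),
  (95625, 7, 14706, 20),
  (95627, 6, 6393, 19),
  (95633, 6, 112677, 19),
  (95635, 7, 218569, 25),
  (95641, 7, 31058, 20),
  (95649, 7, 35059, 21),
  (95651, 6, 71975, 23),
  (95665, 7, 31050, 20),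
  (95675, 7, 203090, 24),
  (95695, 8, 201147, 44),
  (95701, 8, 99357, 42),
  (95717, 7, 57737, 40),
  (95719, 7, 22665, 39),
  (95725, 7, 165969, 38),
  (95727, 7, 193719, 21),
  (95741, 7, 129423, 15),
  (95743, 8, 173311, 24),
  (96259, 7, 29172, 26),
  (96271, 7, 94588, 26),
  (96275, 7, 159988, 26),
  (96279, 7, 32057, 20),
  (96287, 6, 108807, 21),
  (96291, 7, 109011, 21),
  (96299, 6, 97281, 10),
  (96307, 6, 245799, 23),
  (96311, 7, 94682, 24),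
  (96315, 7, 198867, 43),
  (96326, 5, 4130, 39),
  (96330, 5, 20522, 39),
  (96338, 6, 129206, 17),
  (96342, 7, 121286, 26),
  (96345, 6, 50633, 24),
  (96346, 5, 129214, 17),
  (96349, 7, 106599, 40),
  (96350, 6, 127166, 17),
  (96353, 7, 207310, 26),
  (96354, 6, 126990, 1),
  (96357, 6, 216365, 22),
  (96358, 6, 129034, 1),
  (96362, 7, 210183, 21),
  (96369, 7, 76238, 26),
  (96370, 6, 39162, 6),
  (96373, 6, 39165, 6),
  (96377, 7, 10702, 26),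
  (96381, 7, 174186, 19),
  (96387, 7, 192738, 24),
  (96403, 7, 258146, 24),
  (96407, 6, 90127, 11),
  (96423, 7, 176610, 24),
  (96427, 6, 156108, 26),
  (96435, 6, 90572, 26),
  (96439, 7, 147929, 25),
  (96449, 7, 124117, 23),
  (96457, 6, 39089, 3),
  (96458, 7, 180686, 26),
  (96462, 6, 129206, 12),
  (96465, 6, 216203, 22),
  (96469, 6, 149626, 19),
  (96474, 6, 129270, 2),
  (96477, 6, 93395, 23),
  (96478, 6, 127222, 2),
  (96481, 6, 108583, 23),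
  (96482, 6, 127222, 13),
  (96486, 6, 39154, 4),
  (96494, 6, 39162, 4),
  (96501, 7, 78278, 26),
  (96502, 5, 20482, 39),
  (96505, 7, 194838, 19),
  (96506, 5, 4138, 39),
  (96509, 7, 141418, 19),
  (96514, 5, 74158, 16),
  (96517, 7, 55546, 19),
  (96518, 7, 63769, 20),
  (96521, 7, 139679, 22),
  (96522, 5, 147646, 10),
  (96525, 6, 39162, 19),
  (96533, 6, 51450, 19),
  (96537, 6, 96326, 19),
  (96538, 6, 155822, 10),
  (96545, 6, 75902, 19),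
  (96546, 6, 90510, 16),
  (96549, 7, 63722, 19),
  (96553, 7, 140701, 22),
  (96562, 5, 147646, 7),
  (96569, 7, 211087, 22),
  (96573, 7, 50489, 20),
  (96574, 7, 231913, 26),
  (96579, 8, 195067, 6),
  (96583, 7, 25709, 41),
  (96587, 8, 137401, 38),
  (96603, 7, 21667, 39),
  (96607, 7, 107001, 40),
  (96611, 7, 151709, 44),
  (96615, 7, 246973, 24),
  (96627, 7, 100619, 42),
  (96639, 8, 26097, 41),
  (96645, 7, 22778, 19),
  (96646, 7, 174306, 24),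
  (96653, 5, 6394, 19),
  (96654, 6, 147870, 5),
  (96658, 7, 235821, 26),
  (96662, 7, 239714, 24),
  (96665, 6, 129030, 19),
  (96666, 7, 75225, 25),
  (96670, 6, 196798, 14),
  (96673, 7, 186850, 24),
  (96677, 7, 106809, 40),
  (96678, 6, 204974, 2),
  (96685, 6, 231645, 26),
  (96694, 6, 90414, 11),
  (96697, 7, 129046, 19),
  (96702, 6, 213150, 14),
  (96707, 8, 241129, 10),
  (96739, 6, 137299, 38),
  (96755, 8, 249279, 4),
  (96759, 8, 190667, 22),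
  (97281, 5, 132097, 38),
  (97283, 7, 209258, 24),
  (97289, 7, 156719, 20),
  (97293, 6, 23837, 20),
  (97295, 5, 132099, 38),
  (97297, 7, 143604, 26),
  (97299, 7, 49593, 25),
  (97307, 6, 90127, 8),
  (97317, 7, 27933, 20),
  (97319, 7, 94538, 24),
  (97321, 7, 102714, 24),
  (97323, 7, 110890, 24),
  (97333, 7, 86490, 24),
  (97335, 6, 97281, 15),
  (97337, 7, 241716, 26),
  (97339, 7, 258068, 26),
  (97343, 7, 41351, 21),
  (97409, 7, 254444, 26),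
  (97411, 7, 238060, 26),
  (97415, 7, 229463, 21),
  (97417, 6, 90127, 12),
  (97423, 6, 6267, 19),
  (97427, 7, 106988, 26),
  (97439, 6, 216259, 23),
  (97443, 6, 205292, 26),
  (97445, 6, 90303, 4),
  (97447, 7, 168434, 24),
  (97449, 6, 156140, 26),
  (97451, 6, 139756, 26),
  (97453, 7, 150557, 20),
  (97457, 5, 132353, 38),
  (97459, 6, 74220, 26),
  (97461, 7, 242034, 24),
  (97463, 7, 78308, 26),
  (97465, 6, 25068, 26),
  (97467, 7, 217458, 24),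
  (97471, 5, 132355, 38),
  (97605, 7, 164239, 40),
  (97613, 7, 161007, 25),
  (97615, 8, 63907, 5),
  (97617, 7, 12777, 44),
  (97621, 7, 49379, 39),
  (97625, 7, 156127, 12),
  (97627, 7, 132377, 38),
  (97633, 8, 87423, 25),
  (97635, 7, 18549, 43),
  (97637, 7, 10357, 37),
  (97643, 7, 194747, 16),
  (97651, 6, 10381, 37),
  (97657, 7, 66785, 41),
  (97735, 7, 66659, 41),
  (97739, 7, 244195, 10),
  (97743, 7, 49279, 39),
  (97745, 7, 132301, 38),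
  (97747, 6, 18545, 43),
  (97751, 7, 234621, 21),
  (97759, 7, 132303, 38),
  (97761, 7, 12769, 44),
  (97763, 6, 132179, 38),
  (97765, 7, 49347, 39),
  (97767, 7, 183455, 3),
  (97771, 7, 10561, 37),
  (97775, 7, 12785, 44),
  (97779, 8, 18559, 43),
  (97783, 7, 18639, 43),
  (97791, 7, 128359, 11),
  (98305, 4, 65712, 23),
  (98306, 4, 131376, 23),
  (98308, 4, 6146, 26),
  (98312, 4, 196880, 20),
  (98317, 7, 98482, 23),
  (98320, 4, 65952, 20),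
  (98325, 6, 4434, 21),
  (98332, 5, 220, 14),
  (98335, 7, 6578, 26),
  (98336, 4, 2114, 26),
  (98345, 7, 2258, 26),
  (98353, 6, 172044, 19),
  (98360, 5, 90360, 12),
  (98363, 6, 213310, 20),
  (98369, 4, 81968, 23),
  (98370, 4, 147504, 23),
  (98372, 3, 14, 26),
  (98376, 4, 197008, 20),
  (98379, 6, 90294, 26),
  (98381, 6, 73886, 26),
  (98382, 6, 82094, 26),
  (98384, 3, 416, 20),
  (98387, 5, 155958, 26),
  (98389, 5, 139550, 26),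
  (98390, 6, 73798, 12),
  (98393, 5, 205206, 26),
  (98394, 6, 213414, 26),
  (98396, 6, 197006, 26),
  (98400, 4, 32838, 26),
  (98403, 6, 24977, 23),
  (98406, 5, 81990, 12),
  (98412, 6, 236, 16),
  (98418, 6, 90354, 3),
  (98423, 6, 36087, 12)]

theorem chk_rows1_10 : rows1_10.all (rowBP1 tr1 bm1 gensLitP gensListP 1) = true := by decide +kernel

/-- Rows 8800 to 9599. -/
def rows1_11 : List (ℕ × ℕ × ℕ × ℕ) := [(98429, 7, 172334, 19),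
  (98433, 4, 82064, 23),
  (98434, 4, 147728, 23),
  (98436, 4, 6150, 26),
  (98439, 6, 245864, 22),
  (98440, 4, 65808, 20),
  (98445, 7, 6294, 26),
  (98448, 4, 196768, 20),
  (98454, 6, 214, 15),
  (98464, 4, 2118, 26),
  (98467, 6, 24993, 23),
  (98470, 5, 81990, 6),
  (98476, 5, 82156, 5),
  (98479, 6, 6390, 26),
  (98481, 6, 2390, 26),
  (98482, 6, 242, 15),
  (98487, 6, 6518, 26),
  (98491, 6, 82238, 20),
  (98494, 6, 6630, 26),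
  (98497, 4, 65584, 23),
  (98498, 4, 131120, 23),
  (98500, 4, 2058, 26),
  (98504, 4, 65936, 20),
  (98510, 7, 98412, 22),
  (98512, 4, 131232, 20),
  (98518, 7, 57716, 23),
  (98524, 6, 73804, 16),
  (98527, 7, 223674, 26),
  (98528, 4, 34882, 26),
  (98533, 6, 12620, 21),
  (98537, 7, 108754, 26),
  (98546, 7, 182626, 26),
  (98548, 6, 172362, 19),
  (98551, 6, 190842, 26),
  (98552, 5, 90360, 15),
  (98557, 6, 240090, 26),
  (98558, 6, 248298, 26),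
  (98565, 6, 172408, 21),
  (98566, 6, 57672, 23),
  (98569, 6, 2195, 26),
  (98570, 7, 135482, 23),
  (98572, 6, 460, 14),
  (98577, 7, 193809, 37),
  (98580, 6, 468, 14),
  (98584, 5, 204872, 5),
  (98587, 6, 213366, 20),
  (98589, 6, 39389, 5),
  (98593, 7, 240709, 43),
  (98594, 6, 482, 11),
  (98599, 7, 97459, 25),
  (98605, 6, 58569, 23),
  (98606, 5, 6634, 11),
  (98608, 6, 213352, 20),
  (98611, 6, 2419, 26),
  (98618, 6, 205162, 13),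
  (98623, 7, 213375, 20),
  (98630, 6, 90328, 22),
  (98633, 6, 229796, 19),
  (98634, 6, 458, 8),
  (98636, 7, 77868, 22),
  (98639, 6, 7345, 26),
  (98641, 6, 213474, 20),
  (98642, 6, 213476, 20),
  (98647, 6, 213479, 20),
  (98653, 6, 7569, 26),
  (98654, 6, 243778, 14),
  (98657, 6, 197066, 20),
  (98658, 6, 197068, 20),
  (98660, 5, 484, 2),
  (98663, 7, 20956, 21),
  (98667, 7, 55606, 22),
  (98672, 5, 213480, 20),
  (98677, 6, 213483, 20),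
  (98678, 6, 213485, 20),
  (98681, 6, 249319, 25),
  (98682, 6, 25066, 8),
  (98684, 6, 241111, 25),
  (98687, 7, 212331, 4),
  (98691, 6, 98552, 21),
  (98693, 6, 57576, 23),
  (98697, 6, 155692, 22),
  (98698, 6, 458, 4),
  (98705, 7, 24748, 23),
  (98708, 7, 57452, 23),
  (98715, 6, 82294, 20),
  (98717, 7, 6551, 26),
  (98718, 6, 243726, 7),
  (98724, 5, 484, 1),
  (98741, 7, 6487, 26),
  (98745, 6, 82298, 20),
  (98746, 5, 25050, 4),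
  (98761, 6, 66002, 20),
  (98764, 6, 196684, 16),
  (98770, 6, 82404, 20),
  (98772, 6, 205268, 7),
  (98775, 7, 29130, 21),
  (98776, 5, 204872, 16),
  (98781, 6, 191489, 25),
  (98782, 7, 194830, 23),
  (98785, 7, 238020, 19),
  (98786, 6, 213474, 1),
  (98788, 6, 7237, 26),
  (98791, 6, 238023, 19),
  (98798, 6, 219622, 1),
  (98805, 6, 125953, 25),
  (98809, 6, 248833, 25),
  (98810, 6, 147930, 17),
  (98812, 6, 240641, 25),
  (99335, 6, 185505, 40),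
  (99337, 6, 198930, 20),
  (99345, 6, 215330, 20),
  (99357, 7, 100790, 23),
  (99359, 7, 70099, 21),
  (99361, 6, 18514, 26),
  (99363, 6, 156033, 23),
  (99373, 6, 55750, 22),
  (99385, 7, 22909, 19),
  (99387, 6, 128251, 3),
  (99397, 6, 134215, 19),
  (99421, 6, 194941, 25),
  (99425, 6, 155793, 23),
  (99437, 7, 106750, 26),
  (99439, 7, 23014, 22),
  (99445, 6, 129277, 25),
  (99449, 6, 252397, 25),
  (99467, 6, 185467, 40),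
  (99475, 6, 18742, 26),
  (99485, 6, 22934, 26),
  (99491, 6, 156065, 23),
  (99501, 7, 55758, 22),
  (99509, 7, 78150, 21),
  (99511, 7, 78278, 21),
  (99527, 6, 229416, 22),
  (99529, 6, 131180, 22),
  (99537, 6, 141618, 26),
  (99549, 6, 194561, 25),
  (99551, 7, 223642, 26),
  (99553, 6, 155825, 23),
  (99555, 6, 78028, 21),
  (99565, 7, 55790, 22),
  (99567, 6, 78285, 21),
  (99573, 6, 129025, 25),
  (99575, 7, 190810, 26),
  (99577, 6, 90363, 15),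
  (99579, 7, 256466, 26),
  (99587, 6, 172408, 22),
  (99597, 7, 225388, 22),
  (99605, 6, 36311, 5),
  (99609, 6, 242689, 14),
  (99611, 7, 186817, 19),
  (99621, 7, 53714, 22),
  (99625, 7, 55638, 22),
  (99627, 7, 199006, 20),
  (99633, 7, 86102, 21),
  (99635, 7, 20819, 22),
  (99645, 8, 128407, 13),
  (99649, 6, 123048, 21),
  (99661, 6, 163135, 25),
  (99663, 6, 52673, 19),
  (99669, 7, 188636, 23),
  (99671, 7, 86490, 21),
  (99673, 7, 215538, 20),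
  (99685, 6, 36257, 11),
  (99689, 6, 220591, 25),
  (99691, 7, 199134, 20),
  (99699, 7, 86238, 21),
  (99727, 7, 250010, 23),
  (99735, 7, 95255, 42),
  (99737, 7, 88478, 23),
  (99751, 6, 213479, 10),
  (99761, 7, 84330, 20),
  (99763, 7, 18807, 26),
  (99779, 6, 57528, 21),
  (99789, 6, 162817, 25),
  (99791, 7, 258186, 23),
  (99797, 7, 94538, 21),
  (99799, 6, 204871, 16),
  (99801, 7, 96654, 23),
  (99803, 6, 204875, 16),
  (99813, 6, 97281, 25),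
  (99815, 7, 11729, 19),
  (99817, 6, 220161, 25),
  (99827, 7, 84462, 20),
  (99839, 8, 32209, 19),
  (100361, 7, 6298, 26),
  (100366, 6, 2218, 26),
  (100370, 6, 73798, 13),
  (100374, 7, 135570, 21),
  (100383, 7, 199158, 23),
  (100385, 6, 84145, 25),
  (100390, 5, 81990, 2),
  (100395, 5, 6394, 26),
  (100403, 6, 6522, 26),
  (100407, 7, 135638, 21),
  (100410, 5, 6634, 26),
  (100413, 6, 39089, 12),
  (100429, 7, 73954, 23),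
  (100434, 7, 135322, 21),
  (100453, 6, 43346, 19),
  (100459, 6, 127222, 26),
  (100467, 6, 220175, 20),
  (100471, 6, 7585, 20),
  (100473, 6, 242134, 26),
  (100474, 6, 250342, 26),
  (100477, 7, 63826, 19),
  (100483, 6, 98776, 21),
  (100487, 6, 180456, 22),
  (100493, 7, 82130, 23),
  (100494, 6, 2222, 26),
  (100497, 6, 143426, 21),
  (100498, 7, 24932, 23),
  (100507, 6, 248278, 23),
  (100511, 6, 121229, 22),
  (100517, 6, 143684, 21),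
  (100527, 7, 193625, 24),
  (100542, 6, 6390, 15),
  (100553, 7, 123074, 23),
  (100557, 7, 18754, 19),
  (100561, 6, 145682, 26),
  (100566, 6, 214, 17),
  (100571, 7, 256454, 23),
  (100578, 5, 81990, 10),
  (100587, 6, 129266, 26),
  (100591, 6, 129274, 26),
  (100599, 6, 194938, 26),
  (100601, 6, 129025, 6),
  (100602, 6, 252386, 26),
  (100605, 6, 244186, 26),
  (100606, 6, 129030, 6),
  (100619, 6, 6331, 26),
  (100623, 7, 2235, 26),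
  (100631, 6, 30879, 24),
  (100634, 6, 244118, 5),
  (100643, 6, 6267, 26),
  (100647, 5, 487, 11),
  (100653, 7, 88470, 22),
  (100658, 6, 205158, 13),
  (100661, 7, 151894, 21),
  (100662, 7, 151958, 21),
  (100667, 7, 220537, 10),
  (100671, 8, 234757, 40),
  (100677, 6, 57496, 23),
  (100687, 7, 176364, 22),
  (100691, 5, 25052, 23),
  (100695, 6, 36257, 20),
  (100698, 6, 244182, 5),
  (100702, 6, 241734, 14),
  (100711, 7, 119218, 22),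
  (100714, 6, 251918, 2),
  (100717, 7, 88502, 22),
  (100718, 6, 249870, 2),
  (100721, 6, 250955, 20),
  (100722, 6, 251981, 20),
  (100725, 6, 38305, 20),
  (100726, 6, 25062, 8),
  (100731, 7, 7673, 26),
  (100742, 6, 57576, 22),
  (100747, 7, 250330, 23),
  (100755, 6, 25068, 23),
  (100759, 7, 57772, 23),
  (100761, 7, 121054, 23),
  (100762, 6, 241678, 7),
  (100766, 5, 243722, 7),
  (100778, 6, 250342, 1),
  (100781, 7, 88478, 22),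
  (100782, 6, 251970, 10),
  (100786, 6, 25046, 4),
  (100790, 6, 74102, 11),
  (100795, 8, 240745, 16),
  (100799, 8, 63583, 44),
  (100805, 6, 210219, 38),
  (100806, 6, 41192, 22),
  (100811, 7, 237804, 22),
  (100825, 7, 129230, 23),
  (100826, 7, 194894, 23),
  (100829, 7, 96462, 23),
  (100830, 6, 243786, 7),
  (100835, 6, 249249, 10),
  (100839, 7, 160204, 21),
  (100842, 7, 207897, 25),
  (100845, 7, 27090, 19),
  (100849, 7, 235550, 19),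
  (100854, 6, 147926, 17),
  (101379, 6, 164328, 22),
  (101383, 6, 237656, 21),
  (101401, 7, 100854, 23),
  (101403, 7, 22970, 26),
  (101405, 7, 53467, 24),
  (101407, 7, 18874, 26),
  (101417, 7, 144543, 20),
  (101419, 7, 22778, 26),
  (101421, 7, 121286, 22),
  (101429, 7, 201046, 21),
  (101431, 6, 36017, 12),
  (101441, 6, 180616, 22),
  (101445, 6, 246024, 22),
  (101469, 7, 121317, 22),
  (101485, 7, 46387, 24),
  (101487, 7, 189841, 23),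
  (101491, 6, 116989, 25),
  (101493, 7, 176510, 26),
  (101495, 7, 192862, 26),
  (101533, 6, 184341, 25),
  (101535, 7, 215254, 23),
  (101547, 7, 22782, 26),
  (101549, 7, 121294, 22),
  (101557, 7, 18782, 26),
  (101571, 6, 229544, 22),
  (101575, 6, 98672, 23),
  (101593, 7, 125382, 23),
  (101595, 7, 256198, 23),
  (101597, 7, 92614, 23),
  (101599, 7, 227738, 26),
  (101615, 7, 129242, 26),
  (101617, 6, 90359, 15),
  (101619, 7, 86379, 22),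
  (101621, 6, 138405, 20),
  (101641, 7, 84327, 19),
  (101643, 7, 258220, 22),
  (101649, 7, 217170, 21),
  (101651, 6, 156108, 23),
  (101665, 7, 67927, 19),
  (101667, 7, 145455, 24),
  (101669, 7, 68949, 19),
  (101695, 8, 243053, 4),
  (101707, 7, 241898, 23),
  (101713, 6, 155868, 23),
  (101715, 5, 471, 5),
  (101731, 6, 23859, 24),
  (101755, 7, 191709, 1),
  (101757, 8, 170115, 44),
  (101771, 7, 175571, 20),
  (101773, 6, 155884, 22),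
  (101775, 6, 217306, 23),
  (101777, 6, 155884, 23),
  (101779, 6, 156140, 23),
  (101781, 5, 471, 7),
  (101783, 6, 188844, 23),
  (101793, 6, 119130, 22),
  (101795, 7, 225476, 21),
  (101799, 7, 86490, 22),
  (101819, 8, 217533, 39),
  (101823, 8, 163017, 9),
  (101833, 6, 205036, 22),
  (101837, 7, 94666, 23),
  (101841, 6, 155900, 23),
  (101857, 7, 119162, 22),
  (101861, 7, 119290, 22),
  (101881, 7, 251967, 19),
  (102406, 7, 53380, 22),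
  (102413, 7, 180262, 19),
  (102425, 6, 24710, 23),
  (102426, 6, 24838, 23),
  (102428, 6, 57414, 23),
  (102434, 6, 234, 11),
  (102441, 7, 67794, 26),
  (102447, 6, 192571, 24),
  (102462, 6, 127222, 3),
  (102467, 6, 205190, 20),
  (102469, 7, 8350, 26),
  (102475, 5, 205206, 20),
  (102484, 6, 73804, 12),
  (102487, 7, 215154, 23),
  (102497, 7, 41174, 26),
  (102498, 5, 82154, 3),
  (102500, 5, 82156, 3),
  (102505, 6, 205210, 20),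
  (102508, 5, 82156, 11),
  (102511, 6, 205215, 20),
  (102515, 6, 90363, 3),
  (102517, 6, 39165, 12),
  (102525, 7, 87491, 24),
  (102526, 7, 246126, 26),
  (102533, 7, 73842, 23),
  (102534, 6, 71718, 26),
  (102545, 6, 67862, 26),
  (102546, 6, 67878, 26),
  (102548, 6, 90401, 20),
  (102551, 7, 53645, 22),
  (102556, 5, 220, 15),
  (102559, 7, 72118, 26),
  (102561, 7, 67670, 26),
  (102564, 5, 82156, 10),
  (102569, 7, 74010, 20),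
  (102570, 6, 234, 15),
  (102572, 6, 236, 15),
  (102579, 6, 90414, 20),
  (102581, 7, 20879, 22),
  (102587, 6, 90187, 6),
  (102589, 6, 90189, 6),
  (102597, 7, 180550, 19),
  (102605, 7, 57586, 23),
  (102615, 6, 127171, 24),
  (102617, 6, 207122, 26),
  (102618, 6, 215330, 26),
  (102620, 6, 57462, 23),
  (102625, 7, 74122, 20),
  (102631, 6, 188743, 19),
  (102634, 5, 82154, 1),
  (102639, 7, 55722, 22),
  (102643, 6, 90542, 20),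
  (102645, 7, 174554, 26),
  (102646, 6, 126990, 6),
  (102653, 7, 188782, 19),
  (102654, 7, 207897, 21),
  (102658, 6, 458, 11),
  (102660, 7, 20628, 22),
  (102665, 6, 38927, 24),
  (102677, 6, 173435, 21),
  (102678, 5, 243722, 14),
  (102685, 7, 245934, 19),
  (102691, 5, 491, 11),
  (102701, 7, 254118, 19),
  (102708, 6, 74220, 1),
  (102713, 7, 22803, 22),
  (102714, 6, 196858, 15),
  (102716, 6, 196860, 15),
  (102729, 6, 205266, 20),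
  (102730, 6, 205268, 20),
  (102732, 6, 460, 2),
  (102735, 6, 205271, 20),
  (102739, 7, 219186, 23),
  (102742, 6, 243786, 14),
  (102749, 7, 57566, 23),
  (102750, 6, 240090, 5),
  (102755, 6, 68721, 26),
  (102765, 6, 205275, 20),
  (102766, 6, 205277, 20),
  (102785, 6, 7245, 24),
  (102788, 6, 460, 1),
  (102794, 7, 24874, 23),
  (102796, 7, 78004, 22),
  (102799, 7, 209396, 22),
  (102803, 6, 90470, 20),
  (102806, 5, 35230, 16),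
  (102814, 6, 39318, 16),
  (102819, 7, 53534, 22),
  (102821, 6, 213485, 10),
  (102829, 7, 254182, 19),
  (102833, 6, 90474, 20),
  (102836, 7, 254154, 19),
  (102841, 6, 90490, 20),
  (102842, 6, 90492, 20),
  (102844, 7, 183461, 24),
  (102849, 6, 38979, 24),
  (102850, 7, 74180, 20),
  (102852, 7, 246210, 19),
  (102855, 6, 246215, 19),
  (102858, 6, 196682, 10),
  (102863, 6, 27913, 25),
  (102867, 6, 90598, 20),
  (102878, 6, 243782, 7),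
  (102891, 6, 250955, 1),
  (102893, 7, 22970, 22),
  (102894, 7, 55482, 22),
  (102897, 6, 90602, 20),
  (102898, 6, 90604, 20),
  (102900, 6, 90572, 12),
  (102903, 7, 90607, 20),
  (102905, 7, 254444, 19),
  (102906, 7, 69093, 26),
  (102908, 6, 74108, 2),
  (102911, 8, 210029, 16),
  (103425, 6, 83986, 26),
  (103433, 6, 207122, 20),
  (103447, 6, 238939, 21),
  (103455, 7, 177289, 21),
  (103461, 7, 88146, 26),
  (103471, 7, 223417, 25),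
  (103475, 7, 223534, 20),
  (103483, 7, 223550, 20),
  (103509, 7, 215410, 23),
  (103511, 6, 156062, 26),
  (103517, 6, 205118, 26),
  (103527, 7, 57566, 26),
  (103537, 7, 172534, 26),
  (103545, 7, 223674, 20),
  (103547, 6, 248045, 25),
  (103555, 6, 98393, 21),
  (103563, 6, 76054, 20),
  (103581, 7, 88470, 26),
  (103583, 7, 88502, 26),
  (103589, 7, 88150, 26),
  (103599, 7, 76063, 20),
  (103609, 6, 55581, 19),
  (103611, 7, 177289, 24),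
  (103617, 6, 76162, 20),
  (103625, 6, 76178, 20),
  (103647, 7, 23017, 22),
  (103653, 7, 76171, 20),
  (103655, 7, 28017, 19),
  (103663, 7, 20819, 24),
  (103667, 7, 190930, 26),
  (103675, 7, 256338, 26),
  (103685, 7, 53716, 22),
  (103687, 7, 94578, 23),
  (103693, 7, 88211, 26),
  (103699, 6, 107643, 21),
  (103707, 6, 156046, 23),
  (103721, 7, 220331, 25),
  (103735, 7, 213375, 10),
  (103743, 8, 103685, 40),
  (103749, 7, 217458, 23),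
  (103751, 6, 20980, 22),
  (103757, 7, 188634, 23),
  (103763, 5, 475, 5),
  (103769, 6, 155806, 23),
  (103771, 6, 156062, 23),
  (103777, 6, 47349, 21),
  (103779, 7, 207310, 20),
  (103785, 6, 38305, 11),
  (103805, 7, 97747, 24),
  (103815, 7, 20956, 22),
  (103823, 7, 242164, 22),
  (103833, 5, 475, 7),
  (103835, 6, 156078, 23),
  (103841, 7, 53598, 22),
  (103843, 6, 250881, 1),
  (103849, 6, 76122, 20),
  (103863, 8, 241129, 4),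
  (103869, 7, 244195, 4),
  (103877, 7, 89109, 26),
  (103879, 7, 20988, 22),
  (103887, 7, 188922, 23),
  (103897, 6, 155838, 23),
  (103899, 7, 92662, 20),
  (103905, 7, 53630, 22),
  (103907, 7, 76238, 20),
  (103925, 8, 92605, 42),
  (104449, 7, 122930, 23),
  (104453, 7, 182626, 19),
  (104458, 6, 236, 22),
  (104461, 7, 196908, 22),
  (104467, 6, 55665, 25),
  (104471, 6, 28891, 24),
  (104483, 7, 119046, 22),
  (104487, 7, 119174, 22),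
  (104495, 7, 67834, 26),
  (104506, 6, 129090, 12),
  (104509, 7, 88451, 22),
  (104510, 6, 129270, 3),
  (104513, 7, 133222, 19),
  (104514, 6, 20646, 26),
  (104521, 7, 24786, 23),
  (104525, 7, 5219, 24),
  (104526, 6, 81996, 22),
  (104531, 7, 247858, 23),
  (104535, 7, 160190, 26),
  (104539, 6, 25046, 23),
  (104551, 6, 215225, 39),
  (104555, 6, 211983, 20),
  (104559, 6, 7569, 20),
  (104561, 7, 176598, 26),
  (104565, 7, 176606, 26),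
  (104566, 7, 189707, 19),
  (104573, 7, 242014, 26),
  (104574, 6, 96502, 3),
  (104577, 7, 35110, 19),
  (104585, 7, 135588, 22),
  (104586, 7, 65622, 43),
  (104589, 7, 133474, 19),
  (104595, 7, 99803, 21),
  (104603, 6, 25062, 23),
  (104607, 7, 68030, 26),
  (104611, 7, 71806, 26),
  (104615, 6, 231645, 21),
  (104623, 7, 203921, 20),
  (104626, 5, 6394, 15),
  (104638, 7, 98589, 25),
  (104642, 6, 22690, 26),
  (104645, 7, 86444, 22),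
  (104649, 7, 79890, 26),
  (104654, 6, 88106, 26),
  (104663, 6, 162234, 26),
  (104683, 7, 212239, 20),
  (104689, 7, 170046, 19),
  (104690, 6, 129034, 6),
  (104694, 6, 129038, 6),
  (104697, 7, 186398, 19),
  (104701, 7, 14706, 19),
  (104707, 6, 23859, 25),
  (104719, 6, 205180, 22),
  (104721, 6, 52595, 25),
  (104722, 6, 244126, 5),
  (104725, 7, 186850, 19),
  (104726, 6, 241678, 14),
  (104729, 7, 24782, 23),
  (104730, 6, 240030, 5),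
  (104733, 7, 138295, 41),
  (104737, 7, 67958, 19),
  (104738, 7, 25931, 23),
  (104741, 5, 493, 11),
  (104746, 6, 6630, 11),
  (104750, 7, 190487, 24),
  (104755, 8, 260143, 14),
  (104759, 8, 159945, 37),
  (104763, 8, 215069, 39),
  (104767, 7, 44073, 43),
  (104771, 6, 72761, 26),
  (104775, 7, 119220, 22),
  (104779, 5, 25050, 23),
  (104783, 6, 36241, 20),
  (104785, 5, 477, 5),
  (104786, 7, 186418, 23),
  (104790, 7, 186482, 23),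
  (104797, 6, 39394, 19),
  (104798, 7, 57630, 23),
  (104802, 6, 35246, 11),
  (104805, 6, 178293, 21),
  (104806, 7, 118966, 22),
  (104809, 6, 242763, 20),
  (104810, 6, 243789, 20),
  (104813, 6, 38289, 20),
  (104814, 6, 39313, 20),
  (104819, 8, 73081, 26),
  (104823, 7, 104707, 44),
  (104827, 7, 126425, 13),
  (104835, 7, 246981, 19),
  (104843, 6, 25066, 23),
  (104849, 7, 71967, 26),
  (104861, 5, 477, 7),
  (104865, 7, 86302, 22),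
  (104870, 6, 252394, 1),
  (104873, 7, 117014, 19),
  (104878, 6, 248298, 1),
  (104899, 7, 138691, 41),
  (104914, 7, 170034, 23),
  (104918, 6, 35290, 16),
  (104921, 6, 251918, 19),
  (104922, 6, 241734, 7),
  (104926, 6, 243778, 7),
  (104929, 7, 86334, 22),
  (104933, 6, 86462, 22),
  (104934, 6, 219626, 1),
  (104937, 6, 251981, 1),
  (104951, 7, 54367, 40),
  (104955, 7, 238009, 38),
  (105489, 7, 88346, 26),
  (105491, 6, 125234, 23),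
  (105503, 7, 61579, 24),
  (105507, 7, 84409, 25),
  (105511, 7, 84090, 26),
  (105513, 7, 121154, 22),
  (105515, 6, 178569, 21),
  (105553, 7, 143798, 26),
  (105557, 7, 143806, 26),
  (105559, 7, 160158, 26),
  (105561, 6, 155862, 23),
  (105563, 6, 156118, 23),
  (105567, 6, 1461, 20),
  (105569, 7, 45302, 26),
  (105571, 6, 54643, 24),
  (105573, 6, 178389, 21),
  (105581, 7, 110718, 26),
  (105583, 6, 5491, 24),
  (105625, 6, 155878, 23),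
  (105627, 6, 156134, 23),
  (105631, 7, 188838, 23),
  (105633, 6, 136313, 24),
  (105639, 7, 86478, 22),
  (105643, 6, 146827, 20),
  (105645, 6, 52501, 19),
  (105647, 7, 201877, 20),
  (105683, 6, 103763, 21),
  (105685, 7, 231794, 23),
  (105687, 6, 86509, 22),
  (105691, 7, 63769, 25),
  (105697, 7, 202015, 20),
  (105701, 6, 146581, 20),
  (105707, 7, 129106, 26),
  (105709, 7, 112762, 26),
  (105731, 7, 127282, 23),
  (105733, 6, 258418, 23),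
  (105737, 7, 154683, 25),
  (105739, 6, 156106, 23),
  (105741, 6, 101781, 20),
  (105779, 7, 163275, 6),
  (105785, 7, 126363, 13),
  (105797, 7, 119284, 22),
  (105803, 6, 156122, 23),
  (105843, 8, 208237, 4),
  (105845, 7, 205167, 4),
  (105849, 7, 155871, 23),
  (105851, 7, 156127, 23),
  (105855, 8, 252215, 10),
  (105857, 6, 100647, 19),
  (105859, 7, 151011, 19),
  (105861, 7, 242034, 23),
  (105865, 6, 155882, 23),
  (105871, 6, 84159, 26),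
  (105905, 8, 77181, 11),
  (105913, 7, 155887, 23),
  (105917, 8, 220663, 10),
  (105919, 7, 243173, 4),
  (105925, 7, 119292, 22),
  (105929, 6, 155898, 23),
  (105933, 7, 258324, 22),
  (105935, 7, 258388, 22),
  (105973, 7, 205295, 4),
  (105977, 7, 155903, 23),
  (105979, 8, 155103, 17),
  (106502, 6, 205210, 21),
  (106505, 6, 133266, 26),
  (106506, 6, 133282, 26),
  (106508, 6, 196913, 20),
  (106518, 6, 214, 6),
  (106527, 6, 194865, 25),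
  (106530, 6, 242, 11),
  (106539, 6, 196926, 20),
  (106541, 6, 60609, 23),
  (106542, 5, 6394, 11),
  (106546, 7, 133474, 26),
  (106551, 5, 243722, 21),
  (106555, 6, 252321, 25),
  (106558, 5, 129214, 16),
  (106563, 6, 197030, 20),
  (106579, 6, 155702, 26),
  (106582, 6, 204810, 21),
  (106588, 5, 220, 16),
  (106591, 7, 240034, 23),
  (106593, 6, 176388, 19),
  (106594, 7, 49510, 26),
  (106599, 6, 244182, 21),
  (106606, 6, 129034, 2),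
  (106616, 6, 90184, 7),
  (106621, 5, 253, 16),
  (106636, 6, 73804, 14),
  (106639, 7, 137398, 26),
  (106645, 6, 137494, 26),
  (106646, 7, 208922, 21),
  (106649, 6, 133526, 26),
  (106650, 6, 149778, 23),
  (106652, 6, 137606, 26),
  (106655, 6, 155725, 25),
  (106658, 7, 133222, 26),
  (106663, 7, 202211, 22),
  (106664, 5, 90360, 5),
  (106667, 7, 133366, 26),
  (106669, 6, 129101, 5),
  (106670, 7, 137446, 26),
  (106679, 6, 90189, 25),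
  (106683, 6, 213069, 25),
  (106685, 7, 176238, 19),
  (106686, 6, 129270, 1),
  (106694, 6, 214, 3),
  (106697, 6, 76178, 26),
  (106698, 6, 155910, 23),
  (106700, 6, 67978, 26),
  (106709, 6, 210219, 43),
  (106721, 6, 43346, 26),
  (106724, 6, 137494, 21),
  (106727, 7, 59770, 26),
  (106734, 6, 39154, 5),
  (106738, 6, 90354, 1),
  (106740, 6, 176458, 19),
  (106747, 6, 82334, 20),
  (106749, 7, 239834, 26),
  (106750, 6, 96502, 1),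
  (106753, 7, 69820, 23),
  (106754, 5, 466, 11),
  (106756, 7, 36924, 23),
  (106770, 6, 213316, 20),
  (106779, 6, 213334, 20),
  (106782, 6, 35290, 8),
  (106789, 6, 59593, 23),
  (106790, 6, 205030, 15),
  (106793, 5, 196986, 20),
  (106794, 5, 196988, 20),
  (106799, 7, 97763, 7),
  (106806, 6, 147926, 6),
  (106809, 6, 213338, 20),
  (106810, 5, 196986, 13),
  (106812, 5, 25052, 14),
  (106815, 7, 213343, 20),
  (106820, 6, 468, 2),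
  (106823, 7, 242162, 21),
  (106830, 5, 243722, 2),
  (106833, 7, 57386, 21),
  (106834, 5, 466, 8),
  (106836, 7, 20596, 23),
  (106839, 7, 253994, 21),
  (106840, 6, 472, 8),
  (106843, 6, 205275, 17),
  (106846, 7, 110701, 22),
  (106851, 6, 134257, 26),
  (106853, 7, 178550, 21),
  (106854, 6, 213238, 3),
  (106860, 6, 213340, 7),
  (106863, 7, 39355, 11),
  (106867, 7, 213454, 20),
  (106869, 7, 190506, 21),
  (106870, 7, 223274, 21),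
  (106873, 6, 213466, 20),
  (106874, 6, 213468, 20),
  (106876, 7, 118019, 24),
  (106882, 5, 466, 4),
  (106888, 6, 472, 4),
  (106891, 6, 38289, 13),
  (106893, 7, 233702, 19),
  (106897, 7, 61498, 21)]

theorem chk_rows1_11 : rows1_11.all (rowBP1 tr1 bm1 gensLitP gensListP 1) = true := by decide +kernel

/-- Rows 9600 to 10399. -/
def rows1_12 : List (ℕ × ℕ × ℕ × ℕ) := [(106898, 6, 94266, 21),
  (106900, 6, 468, 1),
  (106907, 7, 219546, 23),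
  (106909, 7, 233710, 19),
  (106910, 6, 244182, 1),
  (106915, 7, 65902, 20),
  (106917, 7, 166270, 21),
  (106927, 8, 234757, 37),
  (106933, 7, 241870, 19),
  (106934, 6, 139510, 15),
  (106940, 6, 90460, 14),
  (106945, 7, 233924, 19),
  (106948, 7, 233922, 19),
  (106957, 7, 127118, 23),
  (106958, 5, 35230, 4),
  (106961, 7, 82370, 20),
  (106962, 6, 205266, 1),
  (106967, 7, 200820, 23),
  (106971, 6, 82390, 20),
  (106973, 7, 129162, 23),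
  (106979, 6, 242117, 19),
  (106982, 5, 147702, 3),
  (106985, 7, 163091, 22),
  (106986, 6, 156106, 17),
  (106988, 6, 204924, 16),
  (106991, 8, 63583, 38),
  (106998, 6, 155878, 3),
  (107001, 6, 82394, 20),
  (107002, 6, 156122, 17),
  (107521, 6, 149522, 26),
  (107535, 7, 231913, 22),
  (107537, 6, 149778, 26),
  (107549, 7, 100786, 23),
  (107551, 6, 249901, 22),
  (107557, 7, 174558, 21),
  (107559, 7, 153714, 26),
  (107563, 7, 198974, 20),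
  (107573, 6, 243850, 21),
  (107579, 7, 215326, 20),
  (107599, 6, 90526, 26),
  (107613, 6, 204990, 26),
  (107621, 6, 36017, 11),
  (107623, 7, 244054, 21),
  (107625, 7, 199098, 20),
  (107637, 6, 201833, 22),
  (107639, 5, 247, 16),
  (107641, 7, 237814, 26),
  (107643, 5, 251, 16),
  (107651, 6, 53325, 25),
  (107663, 7, 245910, 23),
  (107667, 6, 149814, 26),
  (107685, 6, 126129, 14),
  (107689, 6, 128075, 5),
  (107703, 6, 90359, 10),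
  (107713, 6, 10546, 26),
  (107729, 6, 84354, 20),
  (107743, 6, 79307, 21),
  (107755, 7, 68030, 20),
  (107781, 7, 238009, 22),
  (107787, 7, 199030, 20),
  (107811, 6, 173435, 22),
  (107821, 7, 7673, 11),
  (107823, 7, 7675, 11),
  (107827, 7, 211087, 24),
  (107837, 7, 107811, 44),
  (107845, 6, 241111, 2),
  (107847, 7, 242034, 21),
  (107851, 7, 199158, 20),
  (107861, 7, 217460, 23),
  (107865, 7, 87131, 21),
  (107867, 6, 51657, 19),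
  (107873, 7, 199146, 20),
  (107891, 6, 72979, 24),
  (107901, 7, 108565, 39),
  (107903, 8, 107955, 44),
  (107915, 7, 217246, 23),
  (107927, 6, 205271, 10),
  (107949, 8, 30083, 43),
  (107953, 6, 129210, 21),
  (107955, 7, 63674, 21),
  (107973, 7, 232463, 19),
  (107975, 7, 258188, 23),
  (107979, 7, 194897, 22),
  (107989, 7, 201076, 23),
  (107991, 7, 70004, 23),
  (107995, 6, 227466, 23),
  (108001, 6, 39158, 21),
  (108003, 7, 193875, 22),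
  (108013, 7, 108677, 39),
  (108019, 6, 84430, 20),
  (108031, 7, 161007, 3),
  (108545, 6, 18545, 25),
  (108550, 6, 214, 11),
  (108562, 7, 209162, 21),
  (108565, 6, 45322, 21),
  (108571, 6, 137658, 26),
  (108583, 5, 247, 11),
  (108595, 7, 137594, 26),
  (108601, 7, 137690, 26),
  (108602, 6, 127166, 16),
  (108605, 7, 133594, 26),
  (108606, 6, 39098, 7),
  (108609, 6, 45394, 21),
  (108610, 6, 214, 10),
  (108614, 7, 139620, 23),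
  (108623, 6, 205286, 23),
  (108629, 6, 143390, 26),
  (108630, 6, 214, 8),
  (108635, 7, 225462, 26),
  (108639, 7, 207330, 23),
  (108650, 6, 129038, 2),
  (108654, 6, 126990, 2),
  (108659, 7, 203823, 20),
  (108670, 6, 39162, 7),
  (108674, 6, 214, 4),
  (108677, 6, 163930, 21),
  (108678, 7, 196762, 21),
  (108683, 7, 137406, 26),
  (108687, 6, 213462, 23),
  (108694, 6, 73798, 11),
  (108703, 7, 180461, 22),
  (108707, 7, 100830, 21),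
  (108714, 6, 129206, 14),
  (108718, 7, 133358, 26),
  (108727, 7, 220321, 20),
  (108729, 7, 55606, 19),
  (108730, 6, 127222, 1),
  (108733, 7, 158042, 19),
  (108734, 6, 129090, 10),
  (108738, 7, 70034, 21),
  (108741, 6, 168018, 21),
  (108754, 6, 73798, 10),
  (108758, 7, 74010, 21),
  (108763, 6, 157785, 25),
  (108767, 6, 110627, 24),
  (108771, 7, 104918, 21),
  (108777, 7, 155011, 22),
  (108778, 6, 129270, 14),
  (108782, 6, 127222, 14),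
  (108787, 6, 126129, 10),
  (108793, 7, 197805, 22),
  (108794, 7, 252130, 26),
  (108797, 6, 102691, 24),
  (108803, 7, 107002, 21),
  (108807, 5, 471, 11),
  (108809, 7, 137371, 26),
  (108814, 7, 133291, 26),
  (108819, 7, 258100, 23),
  (108830, 7, 137594, 23),
  (108834, 6, 205174, 13),
  (108843, 7, 183455, 1),
  (108847, 8, 30083, 38),
  (108849, 7, 117939, 25),
  (108853, 7, 133467, 26),
  (108859, 8, 97783, 7),
  (108867, 6, 138297, 26),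
  (108874, 6, 243726, 2),
  (108878, 6, 241678, 2),
  (108887, 6, 205271, 17),
  (108893, 6, 205277, 17),
  (108897, 7, 198750, 19),
  (108907, 7, 107811, 39),
  (108913, 6, 89379, 24),
  (108931, 6, 241111, 4),
  (108937, 6, 39313, 13),
  (108941, 7, 86238, 23),
  (108942, 7, 79985, 22),
  (108947, 7, 241716, 23),
  (108953, 7, 121126, 19),
  (108954, 6, 241734, 10),
  (108957, 7, 149962, 19),
  (108958, 6, 243778, 10),
  (108962, 7, 68030, 21),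
  (108966, 7, 242883, 19),
  (108975, 7, 108677, 41),
  (108977, 6, 194874, 21),
  (108995, 6, 234949, 19),
  (109001, 7, 247854, 19),
  (109005, 7, 134301, 26),
  (109011, 6, 240711, 1),
  (109021, 7, 18890, 19),
  (109025, 6, 39286, 21),
  (109026, 7, 72118, 21),
  (109035, 7, 108565, 41),
  (109045, 6, 10714, 19),
  (109046, 6, 156118, 17),
  (109051, 8, 107955, 39),
  (109055, 7, 156127, 17),
  (109579, 7, 149881, 25),
  (109599, 6, 198898, 23),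
  (109607, 6, 230763, 22),
  (109617, 7, 6487, 19),
  (109619, 7, 153978, 26),
  (109621, 6, 36087, 16),
  (109623, 7, 125097, 25),
  (109641, 6, 201817, 21),
  (109645, 5, 74214, 23),
  (109647, 6, 205030, 23),
  (109657, 7, 78201, 39),
  (109659, 7, 225430, 26),
  (109661, 7, 76258, 23),
  (109663, 7, 26021, 20),
  (109671, 7, 243798, 21),
  (109681, 7, 176246, 26),
  (109705, 7, 115158, 23),
  (109707, 7, 192605, 25),
  (109709, 6, 82390, 23),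
  (109711, 6, 213206, 23),
  (109731, 7, 26799, 38),
  (109745, 6, 244122, 21),
  (109747, 6, 138667, 20),
  (109749, 7, 149854, 26),
  (109751, 7, 47514, 21),
  (109771, 7, 186817, 22),
  (109775, 7, 210377, 21),
  (109785, 7, 211122, 26),
  (109787, 6, 256194, 23),
  (109793, 6, 39382, 21),
  (109795, 6, 126199, 14),
  (109811, 7, 230569, 22),
  (109813, 7, 178298, 26),
  (109815, 7, 43418, 21),
  (109825, 7, 102908, 23),
  (109827, 7, 233724, 23),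
  (109829, 6, 118149, 20),
  (109831, 7, 78231, 39),
  (109841, 7, 258474, 21),
  (109843, 6, 204871, 8),
  (109845, 6, 258420, 23),
  (109867, 8, 197691, 37),
  (109871, 7, 78177, 39),
  (109881, 8, 235775, 24),
  (109907, 6, 89139, 24),
  (109947, 7, 155129, 26),
  (109951, 7, 197839, 37),
  (109953, 7, 33274, 21),
  (109955, 7, 98682, 21),
  (109959, 6, 149567, 26),
  (109971, 7, 192954, 21),
  (109973, 6, 89245, 24),
  (109999, 7, 26643, 38),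
  (110009, 8, 220497, 6),
  (110011, 7, 14463, 40),
  (110021, 6, 205271, 4),
  (110033, 6, 230759, 20),
  (110035, 7, 102708, 23),
  (110037, 7, 26763, 38),
  (110063, 8, 51637, 41),
  (110073, 6, 51439, 41),
  (110075, 7, 51295, 41),
  (110077, 8, 251125, 14),
  (110079, 8, 243875, 8),
  (110596, 6, 73804, 10),
  (110599, 7, 202802, 26),
  (110607, 6, 127035, 24),
  (110609, 6, 198930, 26),
  (110610, 6, 155702, 23),
  (110612, 6, 24694, 23),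
  (110620, 5, 220, 6),
  (110627, 5, 251, 11),
  (110635, 6, 205118, 20),
  (110637, 6, 249899, 24),
  (110645, 6, 192526, 19),
  (110653, 7, 173413, 44),
  (110654, 6, 129206, 16),
  (110657, 6, 84022, 23),
  (110658, 6, 59446, 38),
  (110660, 5, 398, 26),
  (110668, 5, 220, 2),
  (110671, 6, 90430, 26),
  (110679, 6, 213110, 23),
  (110681, 6, 204822, 26),
  (110682, 6, 26902, 23),
  (110684, 6, 196622, 26),
  (110693, 7, 216463, 22),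
  (110699, 7, 205246, 20),
  (110701, 6, 39089, 11),
  (110702, 7, 115054, 26),
  (110709, 6, 203817, 22),
  (110718, 6, 129270, 16),
  (110727, 6, 206966, 23),
  (110729, 6, 49477, 25),
  (110730, 6, 26914, 23),
  (110732, 6, 74033, 20),
  (110740, 5, 220, 1),
  (110743, 6, 204918, 23),
  (110751, 6, 241691, 21),
  (110757, 6, 192582, 19),
  (110758, 6, 39098, 5),
  (110763, 6, 74046, 20),
  (110771, 7, 199030, 26),
  (110773, 6, 129025, 1),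
  (110779, 6, 90398, 20),
  (110781, 7, 192622, 19),
  (110788, 5, 220, 3),
  (110799, 6, 59721, 25),
  (110801, 6, 65590, 23),
  (110802, 6, 202762, 37),
  (110804, 5, 118, 23),
  (110812, 5, 220, 11),
  (110815, 7, 223290, 26),
  (110819, 5, 74158, 20),
  (110822, 6, 39162, 5),
  (110835, 6, 90510, 20),
  (110843, 6, 128075, 1),
  (110846, 7, 192875, 19),
  (110851, 5, 475, 11),
  (110854, 7, 249987, 19),
  (110859, 6, 205174, 20),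
  (110861, 7, 250022, 19),
  (110870, 6, 39378, 8),
  (110877, 7, 87431, 43),
  (110878, 6, 39386, 8),
  (110881, 6, 205162, 20),
  (110887, 7, 205167, 20),
  (110889, 6, 205178, 20),
  (110890, 6, 156122, 6),
  (110892, 6, 156124, 6),
  (110895, 7, 116875, 41),
  (110897, 7, 258188, 19),
  (110898, 7, 76989, 21),
  (110900, 7, 41014, 38),
  (110905, 7, 258220, 19),
  (110906, 6, 147930, 6),
  (110915, 6, 205286, 20),
  (110923, 7, 27034, 23),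
  (110925, 6, 39313, 11),
  (110933, 6, 87335, 43),
  (110941, 6, 250286, 19),
  (110945, 6, 205290, 20),
  (110946, 6, 90458, 12),
  (110948, 6, 90460, 12),
  (110951, 7, 110889, 39),
  (110959, 8, 212339, 4),
  (110969, 7, 258476, 19),
  (110970, 7, 26911, 23),
  (110972, 7, 258474, 19),
  (110987, 6, 74102, 20),
  (110995, 7, 99577, 21),
  (110997, 6, 205277, 10),
  (110998, 7, 143478, 23),
  (111003, 6, 90454, 20),
  (111005, 6, 192571, 21),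
  (111015, 7, 145577, 40),
  (111018, 6, 74108, 20),
  (111020, 7, 258274, 19),
  (111031, 8, 126301, 5),
  (111033, 6, 90458, 20),
  (111034, 6, 213338, 6),
  (111036, 6, 213340, 6),
  (111039, 7, 145743, 40),
  (111043, 5, 74214, 20),
  (111046, 6, 39318, 4),
  (111053, 6, 250342, 19),
  (111054, 6, 244126, 13),
  (111061, 7, 159041, 25),
  (111067, 6, 243089, 10),
  (111074, 6, 74220, 20),
  (111079, 7, 87171, 43),
  (111087, 7, 27743, 38),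
  (111089, 6, 90570, 20),
  (111090, 6, 90572, 20),
  (111092, 6, 82396, 12),
  (111095, 7, 111033, 39),
  (111097, 6, 90586, 20),
  (111103, 7, 90591, 20),
  (111621, 7, 219154, 26),
  (111623, 7, 219186, 26),
  (111645, 7, 190662, 23),
  (111647, 7, 219570, 26),
  (111651, 7, 215154, 26),
  (111667, 7, 215410, 26),
  (111673, 6, 90363, 7),
  (111675, 7, 71739, 40),
  (111685, 7, 134255, 19),
  (111693, 6, 74046, 26),
  (111695, 6, 90398, 26),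
  (111701, 6, 139454, 26),
  (111703, 6, 155806, 26),
  (111713, 7, 207274, 20),
  (111721, 6, 128251, 2),
  (111723, 6, 5587, 24),
  (111731, 6, 103763, 24),
  (111737, 7, 28823, 38),
  (111739, 7, 223646, 20),
  (111749, 6, 192837, 25),
  (111751, 7, 219190, 26),
  (111765, 6, 205174, 23),
  (111767, 6, 74102, 23),
  (111777, 6, 201817, 24),
  (111785, 7, 215254, 26),
  (111795, 6, 90363, 10),
  (111801, 6, 215510, 26),
  (111813, 7, 10682, 26),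
  (111815, 7, 27034, 26),
  (111821, 7, 190706, 23),
  (111823, 6, 250309, 22),
  (111831, 7, 234833, 21),
  (111837, 7, 190710, 23),
  (111839, 7, 172187, 21),
  (111841, 7, 45523, 24),
  (111843, 6, 90187, 5),
  (111851, 7, 125266, 26),
  (111859, 7, 92558, 20),
  (111867, 7, 256082, 26),
  (111873, 7, 227638, 23),
  (111883, 6, 172413, 22),
  (111889, 7, 223554, 20),
  (111891, 7, 229719, 37),
  (111897, 7, 43415, 41),
  (111899, 6, 204875, 8),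
  (111917, 7, 251967, 24),
  (111919, 7, 7667, 11),
  (111937, 7, 207330, 20),
  (111945, 6, 38289, 11),
  (111953, 6, 46321, 21),
  (111961, 7, 157854, 23),
  (111973, 7, 191707, 23),
  (111989, 7, 43217, 41),
  (111991, 7, 43105, 41),
  (112001, 7, 33019, 21),
  (112011, 7, 158122, 23),
  (112017, 6, 104741, 19),
  (112019, 6, 205275, 10),
  (112037, 7, 229647, 37),
  (112061, 8, 129519, 15),
  (112063, 7, 194747, 21),
  (112065, 6, 205275, 4),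
  (112067, 7, 23017, 19),
  (112075, 6, 6633, 19),
  (112083, 7, 92614, 20),
  (112089, 7, 157886, 23),
  (112111, 7, 28767, 38),
  (112119, 7, 220533, 26),
  (112643, 7, 256054, 23),
  (112655, 6, 196973, 22),
  (112667, 7, 203194, 26),
  (112671, 7, 199098, 26),
  (112674, 6, 193537, 19),
  (112677, 5, 253, 11),
  (112681, 7, 215281, 25),
  (112682, 6, 6390, 11),
  (112685, 6, 197935, 22),
  (112686, 7, 198890, 26),
  (112689, 6, 6518, 19),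
  (112690, 7, 27975, 23),
  (112693, 6, 190842, 19),
  (112697, 7, 203226, 26),
  (112698, 7, 203242, 26),
  (112701, 6, 39165, 16),
  (112702, 7, 199146, 26),
  (112715, 7, 27090, 23),
  (112719, 7, 59794, 23),
  (112742, 7, 211095, 21),
  (112746, 6, 129030, 2),
  (112750, 7, 77067, 21),
  (112753, 6, 120163, 24),
  (112757, 7, 59770, 19),
  (112761, 6, 26839, 23),
  (112762, 6, 127222, 16),
  (112766, 6, 39154, 7),
  (112775, 6, 229595, 21),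
  (112779, 7, 111673, 24),
  (112783, 7, 111899, 21),
  (112787, 7, 203070, 26),
  (112791, 7, 147805, 25),
  (112795, 6, 248045, 22),
  (112801, 5, 35134, 19),
  (112802, 5, 129214, 14),
  (112805, 6, 162170, 19),
  (112806, 6, 127166, 14),
  (112809, 6, 51486, 19),
  (112814, 7, 98653, 25),
  (112817, 6, 39222, 19),
  (112821, 7, 199006, 26),
  (112822, 6, 193611, 19),
  (112829, 7, 218289, 20),
  (112835, 7, 31154, 26),
  (112839, 7, 31162, 26),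
  (112843, 6, 96562, 26),
  (112863, 7, 59830, 23),
  (112865, 6, 90189, 5),
  (112885, 6, 27002, 19),
  (112886, 6, 96506, 1),
  (112889, 6, 129101, 1),
  (112901, 5, 477, 11),
  (112905, 7, 26826, 23),
  (112914, 6, 244182, 17),
  (112917, 6, 182762, 19),
  (112918, 6, 37334, 8),
  (112921, 6, 244189, 17),
  (112922, 7, 26958, 23),
  (112925, 7, 59534, 23),
  (112926, 7, 251051, 19),
  (112931, 8, 28107, 23),
  (112935, 7, 97763, 25),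
  (112943, 8, 99357, 44),
  (112947, 7, 128359, 15),
  (112951, 7, 22693, 40),
  (112961, 6, 203801, 26),
  (112962, 5, 35230, 11),
  (112969, 7, 26842, 23),
  (112970, 6, 39318, 11),
  (112973, 6, 39402, 19),
  (112977, 7, 118838, 23),
  (112981, 6, 177265, 21),
  (112985, 6, 219206, 19),
  (112989, 6, 35306, 19),
  (112990, 7, 51633, 20),
  (112995, 7, 57795, 38),
  (112999, 8, 13509, 43),
  (113003, 7, 57737, 38),
  (113011, 7, 75861, 39),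
  (113015, 7, 57381, 38),
  (113019, 7, 165969, 41),
  (113023, 8, 124351, 7),
  (113034, 7, 109621, 24),
  (113037, 6, 198815, 26),
  (113042, 7, 176182, 23),
  (113046, 6, 243786, 10),
  (113049, 7, 25941, 25),
  (113050, 7, 26990, 23),
  (113053, 7, 59566, 23),
  (113054, 6, 240090, 1),
  (113063, 7, 166165, 41),
  (113079, 7, 22767, 40),
  (113083, 8, 201147, 37),
  (113093, 6, 39389, 13),
  (113097, 6, 247822, 19),
  (113098, 6, 37278, 4),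
  (113101, 5, 6634, 19),
  (113102, 6, 39322, 4),
  (113106, 7, 204077, 26),
  (113113, 6, 244113, 10),
  (113118, 6, 251371, 19),
  (113123, 7, 166277, 41),
  (113127, 7, 99649, 44),
  (113131, 7, 22665, 40),
  (113139, 8, 148923, 42),
  (113143, 7, 99663, 44),
  (113147, 7, 240877, 22),
  (113151, 8, 200189, 26),
  (113665, 7, 256310, 23),
  (113667, 7, 125238, 23),
  (113669, 7, 256374, 23),
  (113671, 7, 215098, 26),
  (113675, 6, 177547, 21),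
  (113677, 7, 190594, 23),
  (113679, 6, 229741, 22),
  (113683, 7, 252073, 22),
  (113687, 7, 238681, 21),
  (113689, 7, 219546, 26),
  (113691, 7, 219578, 26),
  (113693, 7, 110987, 21),
  (113695, 7, 190854, 23),
  (113729, 7, 45523, 21),
  (113737, 7, 149583, 19),
  (113739, 7, 94486, 26),
  (113741, 7, 78142, 26),
  (113747, 6, 119923, 24),
  (113749, 6, 177361, 21),
  (113753, 7, 202989, 22),
  (113757, 7, 194605, 25),
  (113793, 6, 70777, 24),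
  (113811, 7, 106806, 23),
  (113813, 7, 215326, 26),
  (113815, 7, 215358, 26),
  (113817, 6, 219550, 26),
  (113819, 7, 158182, 23),
  (113821, 6, 119961, 24),
  (113857, 7, 14770, 26),
  (113859, 7, 31122, 26),
  (113861, 7, 231798, 23),
  (113863, 7, 100726, 23),
  (113871, 6, 6507, 19),
  (113879, 7, 98678, 23),
  (113881, 7, 157942, 23),
  (113883, 7, 227346, 26),
  (113885, 7, 133357, 22),
  (113887, 7, 227354, 26),
  (113957, 8, 130453, 20),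
  (113959, 8, 195067, 19),
  (113963, 7, 7671, 11),
  (113965, 7, 90607, 7),
  (113967, 7, 243061, 4),
  (113973, 8, 73077, 19),
  (113975, 7, 240765, 21),
  (113979, 7, 194987, 21),
  (113981, 7, 252063, 24),
  (114017, 7, 36285, 11),
  (114019, 7, 36287, 11),
  (114021, 7, 205183, 4),
  (114029, 8, 191901, 6),
  (114031, 7, 7667, 24),
  (114033, 8, 236747, 37),
  (114035, 7, 236685, 37),
  (114037, 7, 64555, 38),
  (114039, 8, 64549, 38),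
  (114041, 7, 97651, 24),
  (114043, 8, 236737, 37),
  (114081, 7, 64529, 38),
  (114089, 8, 236877, 37),
  (114095, 8, 64531, 38),
  (114097, 7, 36349, 21),
  (114099, 8, 220507, 6),
  (114105, 7, 128343, 5),
  (114107, 7, 205039, 8),
  (114109, 7, 246973, 14),
  (114147, 8, 243053, 12),
  (114149, 8, 64539, 38),
  (114159, 7, 236879, 37),
  (114163, 7, 90463, 5),
  (114165, 7, 96739, 15),
  (114167, 8, 251135, 14),
  (114169, 8, 251927, 19),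
  (114171, 8, 94551, 5),
  (114693, 6, 172380, 21),
  (114698, 5, 82154, 4),
  (114703, 7, 199146, 22),
  (114706, 6, 90354, 4),
  (114708, 6, 172058, 19),
  (114712, 5, 90360, 4),
  (114715, 6, 128075, 4),
  (114718, 7, 172091, 19),
  (114726, 6, 82150, 15),
  (114729, 7, 35026, 26),
  (114732, 6, 236, 14),
  (114735, 6, 39154, 26),
  (114738, 7, 6294, 21),
  (114744, 6, 90184, 5),
  (114749, 6, 39165, 5),
  (114750, 6, 39394, 26),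
  (114755, 6, 24694, 26),
  (114761, 6, 73942, 26),
  (114762, 5, 82154, 17),
  (114769, 5, 139606, 26),
  (114770, 6, 147814, 26),
  (114787, 6, 213041, 23),
  (114789, 6, 172044, 21),
  (114793, 7, 201114, 20),
  (114799, 7, 201119, 20),
  (114804, 6, 164122, 19),
  (114814, 6, 129090, 14),
  (114819, 6, 213393, 23),
  (114825, 7, 34966, 26),
  (114831, 6, 39094, 26),
  (114834, 7, 35110, 26),
  (114839, 6, 39222, 26),
  (114845, 6, 39318, 26),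
  (114846, 6, 129038, 7),
  (114851, 6, 204849, 23),
  (114853, 6, 163926, 19),
  (114857, 7, 69914, 20),
  (114858, 5, 82154, 13),
  (114863, 6, 39158, 26),
  (114868, 6, 163930, 19),
  (114871, 6, 39286, 26),
  (114875, 7, 86334, 20),
  (114877, 6, 39382, 26),
  (114886, 6, 82150, 12),
  (114889, 7, 70034, 20),
  (114892, 5, 82156, 7),
  (114897, 6, 172380, 19),
  (114903, 7, 14794, 21),
  (114904, 5, 90360, 7),
  (114907, 6, 172413, 19),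
  (114909, 6, 39089, 7),
  (114922, 6, 234, 17),
  (114930, 6, 242, 17),
  (114936, 6, 90184, 8),
  (114939, 5, 251, 17),
  (114945, 7, 41084, 21),
  (114948, 6, 139580, 21),
  (114955, 7, 201046, 20),
  (114957, 7, 207290, 22),
  (114958, 6, 35306, 8),
  (114963, 6, 145823, 24),
  (114966, 6, 213206, 15),
  (114969, 7, 217458, 20),
  (114970, 7, 217460, 20),
  (114972, 7, 175571, 25),
  (114975, 8, 109951, 15),
  (114978, 7, 61546, 22),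
  (114980, 5, 484, 14),
  (114984, 6, 213064, 5),
  (114987, 7, 192622, 22),
  (114989, 6, 39405, 5),
  (114990, 7, 160883, 23),
  (114995, 7, 217454, 20),
  (114997, 7, 229534, 19),
  (114998, 6, 213238, 15),
  (115010, 6, 482, 8),
  (115015, 7, 242164, 21),
  (115016, 5, 213480, 17),
  (115019, 6, 250881, 8),
  (115021, 7, 110763, 23),
  (115027, 6, 36145, 26),
  (115030, 6, 90470, 12),
  (115033, 6, 36241, 26),
  (115034, 6, 36257, 26),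
  (115036, 7, 238010, 19),
  (115041, 7, 143402, 22),
  (115044, 6, 229778, 19),
  (115047, 7, 241770, 22),
  (115051, 7, 176238, 22),
  (115054, 6, 251970, 14),
  (115065, 6, 89139, 23),
  (115068, 6, 205180, 7),
  (115073, 7, 143666, 22),
  (115074, 7, 12402, 22),
  (115085, 7, 237814, 19),
  (115086, 6, 251918, 7),
  (115091, 6, 54553, 22),
  (115093, 6, 120989, 23),
  (115097, 6, 23837, 22),
  (115100, 6, 82300, 14),
  (115103, 7, 7667, 7),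
  (115105, 7, 61500, 21),
  (115106, 6, 482, 4),
  (115108, 6, 38983, 26),
  (115112, 5, 213480, 13),
  (115115, 6, 38305, 13),
  (115117, 7, 69979, 20),
  (115118, 7, 122990, 22),
  (115120, 6, 229544, 20),
  (115125, 7, 79985, 23),
  (115126, 5, 147702, 15),
  (115137, 7, 238036, 19),
  (115140, 6, 213476, 7),
  (115144, 5, 213480, 7),
  (115149, 6, 213069, 16),
  (115157, 7, 31050, 21),
  (115158, 6, 90598, 12),
  (115170, 7, 70092, 20),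
  (115175, 6, 27785, 25),
  (115182, 6, 35246, 4),
  (115184, 7, 229848, 19),
  (115190, 5, 74214, 12),
  (115713, 6, 203010, 20),
  (115715, 6, 196785, 23),
  (115727, 7, 174145, 39),
  (115739, 7, 51634, 26),
  (115745, 6, 51282, 26),
  (115747, 6, 90417, 23),
  (115765, 6, 36087, 5),
  (115767, 7, 125049, 25),
  (115769, 6, 38139, 5),
  (115771, 7, 51698, 26),
  (115777, 6, 74145, 23),
  (115789, 7, 88073, 37),
  (115791, 6, 185363, 24),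
  (115801, 7, 219570, 20),
  (115809, 6, 213297, 23),
  (115821, 7, 106686, 26),
  (115823, 6, 60737, 19),
  (115833, 7, 219578, 20),
  (115835, 7, 254358, 26),
  (115843, 6, 213137, 23),
  (115853, 6, 235938, 22),
  (115863, 7, 55606, 26),
  (115865, 6, 51606, 26),
  (115875, 6, 74033, 23),
  (115885, 6, 55510, 26),
  (115887, 7, 88229, 37),
  (115893, 7, 55638, 26),
  (115895, 7, 61581, 25),
  (115897, 6, 184453, 25),
  (115905, 6, 90497, 23),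
  (115907, 6, 2385, 19),
  (115917, 7, 252290, 22),
  (115925, 7, 80202, 21),
  (115927, 6, 36017, 7),
  (115929, 7, 241811, 24),
  (115931, 6, 90187, 16),
  (115937, 6, 196913, 23),
  (115939, 6, 41116, 21),
  (115949, 7, 174357, 39),
  (115957, 7, 80206, 21),
  (115959, 7, 190746, 26),
  (115963, 7, 256402, 26),
  (115973, 7, 238010, 22),
  (115977, 7, 203090, 20),
  (115979, 7, 203094, 20),
  (115985, 7, 88146, 21),
  (116005, 6, 248833, 14),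
  (116009, 6, 38379, 5),
  (116011, 7, 203102, 20),
  (116017, 7, 88150, 21),
  (116031, 7, 174161, 39),
  (116039, 6, 254426, 22),
  (116041, 7, 190746, 22),
  (116043, 7, 190810, 22),
  (116051, 6, 219622, 20),
  (116063, 8, 219639, 20),
  (116069, 7, 163091, 24),
  (116071, 6, 44481, 19),
  (116073, 7, 203226, 20),
  (116081, 6, 219626, 20),
  (116093, 7, 88201, 37),
  (116095, 7, 155887, 16)]

theorem chk_rows1_12 : rows1_12.all (rowBP1 tr1 bm1 gensLitP gensListP 1) = true := by decide +kernel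

/-- Rows 10400 to 11199. -/
def rows1_13 : List (ℕ × ℕ × ℕ × ℕ) := [(116101, 7, 164348, 21),
  (116103, 7, 242162, 22),
  (116107, 7, 218253, 25),
  (116125, 7, 61889, 43),
  (116127, 7, 88101, 37),
  (116135, 7, 253994, 22),
  (116145, 6, 96326, 21),
  (116157, 8, 96583, 21),
  (116165, 7, 240647, 19),
  (116167, 6, 213063, 16),
  (116171, 6, 38305, 7),
  (116177, 6, 96330, 21),
  (116179, 7, 88550, 20),
  (116189, 7, 174341, 39),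
  (116197, 7, 254140, 21),
  (116211, 7, 96462, 21),
  (116738, 5, 81990, 13),
  (116747, 6, 39098, 26),
  (116755, 6, 126129, 13),
  (116761, 6, 129101, 4),
  (116773, 6, 45324, 21),
  (116779, 6, 39162, 26),
  (116787, 6, 39290, 26),
  (116791, 6, 35194, 26),
  (116793, 6, 39386, 26),
  (116794, 6, 129206, 5),
  (116797, 6, 35290, 26),
  (116798, 6, 35306, 26),
  (116801, 6, 45396, 21),
  (116806, 6, 82150, 17),
  (116811, 7, 149962, 22),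
  (116823, 7, 137690, 21),
  (116826, 7, 137371, 21),
  (116829, 7, 89509, 22),
  (116834, 5, 81990, 1),
  (116843, 7, 233710, 22),
  (116847, 6, 127166, 26),
  (116855, 6, 192830, 26),
  (116858, 6, 129270, 5),
  (116861, 6, 242078, 26),
  (116862, 6, 127222, 5),
  (116865, 6, 33116, 21),
  (116870, 5, 81990, 11),
  (116875, 6, 39102, 26),
  (116887, 5, 35134, 26),
  (116889, 6, 39326, 26),
  (116890, 6, 126990, 7),
  (116893, 5, 35230, 26),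
  (116894, 6, 35246, 26),
  (116898, 6, 82150, 13),
  (116915, 7, 57501, 25),
  (116921, 7, 63806, 19),
  (116933, 6, 168020, 21),
  (116943, 6, 96506, 26),
  (116951, 6, 162170, 26),
  (116958, 6, 39162, 16),
  (116961, 6, 174102, 19),
  (116966, 5, 81990, 8),
  (116971, 7, 229614, 22),
  (116975, 6, 129210, 26),
  (116983, 5, 247, 17),
  (116986, 7, 174233, 25),
  (116989, 5, 253, 17),
  (116999, 6, 205178, 22),
  (117009, 7, 80206, 19),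
  (117013, 6, 153999, 24),
  (117014, 6, 25046, 11),
  (117019, 7, 39355, 26),
  (117023, 7, 145577, 42),
  (117027, 6, 89139, 25),
  (117033, 7, 225454, 22),
  (117034, 6, 252326, 5),
  (117038, 7, 61678, 22),
  (117041, 6, 117875, 25),
  (117051, 7, 116875, 37),
  (117059, 6, 156122, 22),
  (117063, 6, 213479, 17),
  (117066, 7, 26842, 22),
  (117069, 6, 213485, 17),
  (117077, 6, 39378, 19),
  (117087, 8, 241129, 2),
  (117091, 7, 173413, 39),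
  (117095, 7, 176362, 22),
  (117097, 7, 87431, 38),
  (117101, 6, 119923, 23),
  (117102, 6, 250342, 5),
  (117106, 6, 139510, 10),
  (117109, 6, 120945, 23),
  (117119, 7, 145743, 42),
  (117123, 7, 146749, 24),
  (117130, 6, 249870, 7),
  (117142, 6, 213238, 2),
  (117147, 7, 110889, 41),
  (117151, 7, 87171, 38),
  (117155, 6, 36257, 13),
  (117161, 6, 252397, 4),
  (117165, 6, 155822, 22),
  (117169, 6, 161862, 21),
  (117170, 7, 161926, 21),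
  (117173, 6, 162118, 21),
  (117179, 8, 194779, 3),
  (117183, 7, 27743, 44),
  (117187, 6, 173173, 39),
  (117193, 6, 238939, 20),
  (117197, 7, 177289, 20),
  (117198, 6, 39402, 16),
  (117201, 6, 243726, 19),
  (117215, 7, 111033, 41),
  (117225, 6, 204974, 22),
  (117226, 7, 106734, 22),
  (117234, 6, 204918, 10),
  (117237, 7, 162126, 21),
  (117238, 7, 119995, 22),
  (117247, 7, 36349, 26),
  (117771, 7, 55482, 26),
  (117773, 7, 51354, 26),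
  (117779, 7, 87361, 22),
  (117781, 7, 51482, 26),
  (117783, 7, 203218, 21),
  (117803, 7, 55546, 26),
  (117805, 7, 151790, 22),
  (117807, 6, 51450, 26),
  (117809, 6, 152711, 20),
  (117813, 7, 134613, 44),
  (117815, 7, 51578, 26),
  (117833, 6, 202841, 21),
  (117839, 7, 94430, 26),
  (117843, 7, 51453, 25),
  (117845, 6, 126199, 13),
  (117847, 7, 203226, 21),
  (117873, 6, 120163, 22),
  (117875, 5, 247, 5),
  (117877, 7, 176446, 26),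
  (117899, 7, 170466, 22),
  (117901, 7, 51358, 26),
  (117909, 5, 247, 7),
  (117931, 7, 245934, 22),
  (117935, 6, 180398, 22),
  (117939, 6, 36087, 17),
  (117941, 6, 53397, 25),
  (117943, 6, 211398, 21),
  (117961, 6, 206111, 20),
  (117965, 7, 252162, 22),
  (117967, 7, 96474, 26),
  (117995, 7, 84137, 38),
  (117999, 7, 129178, 26),
  (118007, 6, 87531, 22),
  (118017, 6, 83361, 37),
  (118019, 6, 213063, 8),
  (118043, 7, 191707, 20),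
  (118049, 7, 258476, 21),
  (118053, 7, 159978, 22),
  (118073, 8, 220507, 10),
  (118079, 7, 39419, 5),
  (118115, 5, 487, 5),
  (118119, 7, 57772, 21),
  (118137, 7, 90463, 15),
  (118139, 7, 83137, 37),
  (118141, 7, 7675, 5),
  (118143, 7, 143455, 39),
  (118145, 6, 108807, 19),
  (118147, 7, 176626, 22),
  (118149, 5, 487, 7),
  (118151, 7, 242034, 22),
  (118173, 7, 83043, 37),
  (118175, 7, 110073, 15),
  (118179, 7, 192956, 21),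
  (118181, 6, 155882, 22),
  (118205, 7, 102863, 43),
  (118207, 7, 172473, 42),
  (118213, 7, 258322, 22),
  (118233, 7, 39351, 7),
  (118239, 7, 102897, 43),
  (118241, 6, 205034, 22),
  (118245, 6, 213479, 4),
  (118265, 7, 90591, 15),
  (118267, 7, 53343, 41),
  (118271, 8, 259271, 14),
  (118785, 7, 100370, 26),
  (118793, 7, 209170, 20),
  (118799, 6, 188471, 19),
  (118803, 6, 143835, 24),
  (118805, 7, 104722, 26),
  (118806, 6, 96502, 4),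
  (118811, 7, 100786, 26),
  (118817, 7, 209162, 20),
  (118820, 5, 82156, 1),
  (118826, 5, 82154, 15),
  (118828, 5, 82156, 15),
  (118831, 7, 252014, 22),
  (118835, 6, 121185, 25),
  (118837, 7, 180254, 19),
  (118838, 6, 129034, 14),
  (118845, 7, 180286, 19),
  (118849, 7, 209282, 20),
  (118855, 6, 209287, 20),
  (118863, 7, 90238, 26),
  (118867, 7, 242883, 24),
  (118870, 6, 129206, 4),
  (118878, 5, 129214, 4),
  (118889, 7, 106518, 26),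
  (118890, 6, 234, 10),
  (118895, 7, 180535, 19),
  (118902, 6, 129274, 5),
  (118909, 7, 237854, 26),
  (118913, 7, 78082, 20),
  (118914, 5, 82154, 2),
  (118931, 7, 94502, 20),
  (118933, 6, 117909, 23),
  (118939, 7, 100790, 26),
  (118942, 6, 129030, 7),
  (118951, 7, 30073, 24),
  (118953, 7, 100566, 26),
  (118959, 6, 241693, 21),
  (118963, 7, 100726, 26),
  (118965, 7, 180318, 19),
  (118966, 6, 129090, 8),
  (118971, 7, 100854, 26),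
  (118973, 7, 104918, 26),
  (118974, 6, 39162, 17),
  (118978, 5, 82154, 12),
  (118980, 5, 82156, 12),
  (118983, 7, 219590, 22),
  (118985, 7, 75858, 26),
  (118988, 6, 236, 11),
  (118991, 7, 78231, 20),
  (119005, 7, 188798, 19),
  (119006, 6, 129094, 7),
  (119009, 7, 43154, 26),
  (119015, 6, 192835, 24),
  (119017, 7, 78234, 20),
  (119027, 6, 242115, 24),
  (119029, 6, 250307, 24),
  (119035, 7, 94654, 20),
  (119037, 6, 68721, 23),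
  (119038, 5, 6394, 17),
  (119043, 7, 141694, 22),
  (119045, 6, 172413, 21),
  (119046, 6, 39394, 8),
  (119053, 7, 205246, 22),
  (119054, 6, 39402, 8),
  (119058, 5, 25050, 11),
  (119060, 5, 196988, 10),
  (119063, 8, 228445, 8),
  (119065, 7, 100755, 26),
  (119068, 6, 213212, 15),
  (119075, 6, 89379, 25),
  (119077, 7, 245910, 19),
  (119089, 6, 118115, 25),
  (119092, 6, 213340, 10),
  (119095, 7, 36349, 5),
  (119098, 6, 213242, 15),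
  (119100, 6, 213244, 15),
  (119109, 7, 254358, 19),
  (119118, 5, 6634, 8),
  (119121, 7, 21813, 22),
  (119122, 6, 90474, 12),
  (119129, 7, 225778, 20),
  (119130, 5, 196986, 1),
  (119132, 5, 25052, 2),
  (119135, 8, 245167, 23),
  (119141, 7, 210986, 22),
  (119142, 6, 252394, 5),
  (119147, 7, 220199, 25),
  (119150, 6, 248298, 5),
  (119153, 7, 246172, 19),
  (119161, 6, 23859, 22),
  (119162, 6, 213338, 1),
  (119171, 7, 78150, 20),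
  (119173, 6, 119961, 23),
  (119174, 6, 35246, 16),
  (119182, 6, 251910, 7),
  (119185, 6, 89245, 23),
  (119186, 6, 90458, 11),
  (119191, 7, 7675, 7),
  (119193, 7, 254204, 19),
  (119203, 7, 78158, 20),
  (119205, 7, 223274, 22),
  (119206, 6, 6630, 4),
  (119211, 6, 127037, 21),
  (119213, 6, 192573, 21),
  (119217, 7, 181637, 25),
  (119218, 6, 196858, 2),
  (119220, 6, 25068, 1),
  (119223, 8, 54687, 22),
  (119226, 6, 147706, 15),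
  (119231, 7, 205167, 6),
  (119235, 7, 78278, 20),
  (119243, 7, 78294, 20),
  (119250, 6, 90602, 12),
  (119252, 6, 90604, 12),
  (119257, 6, 101781, 26),
  (119260, 6, 90460, 2),
  (119267, 7, 174186, 22),
  (119269, 7, 206890, 22),
  (119270, 6, 252326, 13),
  (119275, 6, 19849, 25),
  (119277, 7, 246262, 19),
  (119278, 5, 252334, 13),
  (119284, 6, 74220, 12),
  (119287, 7, 155871, 3),
  (119290, 6, 204922, 10),
  (119292, 6, 156108, 11),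
  (119295, 8, 196045, 2),
  (119813, 7, 231854, 22),
  (119815, 6, 237917, 21),
  (119821, 7, 211219, 20),
  (119823, 7, 157881, 25),
  (119835, 7, 227638, 20),
  (119845, 7, 219242, 22),
  (119855, 7, 121074, 26),
  (119859, 7, 227630, 20),
  (119867, 7, 45451, 24),
  (119889, 6, 90187, 4),
  (119891, 6, 156118, 26),
  (119897, 6, 205174, 26),
  (119909, 7, 193875, 24),
  (119911, 7, 235562, 22),
  (119917, 6, 106558, 26),
  (119921, 7, 172470, 26),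
  (119923, 5, 251, 5),
  (119931, 6, 227774, 20),
  (119943, 6, 80135, 20),
  (119951, 7, 94605, 25),
  (119953, 7, 117014, 26),
  (119961, 5, 251, 7),
  (119973, 7, 215146, 22),
  (119983, 7, 247854, 22),
  (119995, 6, 90363, 8),
  (120007, 7, 26842, 26),
  (120019, 7, 96678, 20),
  (120027, 7, 44189, 21),
  (120039, 7, 28001, 19),
  (120045, 6, 198766, 22),
  (120059, 6, 140323, 39),
  (120065, 7, 116755, 26),
  (120067, 6, 106621, 21),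
  (120075, 6, 213067, 8),
  (120085, 8, 245159, 2),
  (120087, 7, 86361, 38),
  (120093, 7, 168327, 43),
  (120117, 7, 45537, 41),
  (120119, 7, 213343, 10),
  (120131, 6, 211398, 20),
  (120151, 7, 114963, 37),
  (120157, 8, 240745, 14),
  (120163, 5, 491, 5),
  (120183, 7, 140313, 39),
  (120189, 7, 7671, 5),
  (120195, 7, 178550, 22),
  (120201, 5, 491, 7),
  (120213, 7, 114735, 37),
  (120215, 7, 7673, 7),
  (120221, 7, 140555, 39),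
  (120225, 7, 35065, 21),
  (120227, 7, 190506, 22),
  (120233, 7, 80218, 20),
  (120235, 6, 116983, 26),
  (120255, 7, 193725, 21),
  (120257, 7, 194838, 22),
  (120259, 7, 19611, 44),
  (120265, 6, 117909, 26),
  (120267, 6, 2545, 19),
  (120277, 7, 39355, 7),
  (120285, 7, 155129, 17),
  (120287, 8, 88439, 5),
  (120289, 6, 38379, 13),
  (120291, 7, 174122, 22),
  (120835, 7, 104506, 26),
  (120839, 6, 160091, 24),
  (120849, 7, 87301, 22),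
  (120850, 7, 104746, 26),
  (120853, 6, 152011, 24),
  (120861, 6, 170354, 19),
  (120862, 6, 96506, 4),
  (120871, 6, 181271, 19),
  (120879, 7, 186606, 22),
  (120882, 5, 129214, 5),
  (120885, 7, 100698, 26),
  (120886, 6, 127166, 5),
  (120889, 7, 104922, 26),
  (120893, 7, 19611, 40),
  (120894, 7, 79117, 21),
  (120899, 7, 199711, 20),
  (120903, 7, 206305, 23),
  (120914, 7, 152038, 26),
  (120917, 6, 90189, 4),
  (120918, 7, 152046, 26),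
  (120922, 6, 127166, 4),
  (120926, 6, 129034, 13),
  (120935, 7, 245875, 23),
  (120945, 5, 253, 5),
  (120953, 6, 89379, 22),
  (120957, 6, 1465, 20),
  (120963, 7, 104510, 26),
  (120971, 7, 177465, 24),
  (120975, 7, 100542, 26),
  (120978, 7, 186494, 42),
  (120986, 7, 212253, 21),
  (120989, 5, 253, 7),
  (120990, 7, 100782, 26),
  (120995, 7, 104574, 26),
  (121007, 7, 199833, 20),
  (121009, 7, 5609, 24),
  (121010, 6, 129094, 8),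
  (121013, 7, 162146, 19),
  (121014, 6, 127046, 8),
  (121017, 6, 39165, 17),
  (121021, 7, 100830, 26),
  (121031, 7, 219462, 22),
  (121035, 6, 152006, 22),
  (121050, 6, 127046, 7),
  (121054, 6, 129090, 7),
  (121063, 7, 63674, 26),
  (121067, 6, 129074, 26),
  (121073, 7, 178238, 19),
  (121074, 6, 6390, 17),
  (121077, 6, 87471, 22),
  (121078, 7, 186794, 26),
  (121094, 6, 250342, 17),
  (121097, 6, 213069, 8),
  (121101, 6, 205118, 22),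
  (121107, 8, 195767, 1),
  (121111, 7, 86361, 37),
  (121119, 7, 114963, 38),
  (121121, 7, 104539, 26),
  (121122, 5, 252334, 5),
  (121126, 6, 250286, 5),
  (121130, 6, 248238, 5),
  (121133, 7, 174562, 19),
  (121134, 7, 63726, 22),
  (121139, 7, 114735, 38),
  (121143, 7, 36345, 5),
  (121147, 7, 38389, 5),
  (121154, 6, 6630, 8),
  (121157, 7, 51698, 19),
  (121158, 7, 15751, 25),
  (121161, 6, 156062, 22),
  (121171, 7, 168327, 41),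
  (121179, 8, 163017, 16),
  (121185, 5, 493, 5),
  (121197, 7, 138595, 24),
  (121203, 7, 140555, 42),
  (121211, 7, 110073, 13),
  (121215, 8, 116127, 7),
  (121218, 7, 14582, 22),
  (121221, 7, 150002, 19),
  (121225, 7, 143798, 22),
  (121226, 7, 185691, 23),
  (121229, 5, 493, 7),
  (121230, 7, 235673, 20),
  (121235, 7, 45537, 43),
  (121239, 7, 90463, 11),
  (121247, 7, 140313, 42),
  (121250, 7, 140701, 25),
  (121262, 5, 6634, 4),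
  (121285, 7, 168053, 21),
  (121286, 6, 35306, 16),
  (121290, 6, 249926, 7),
  (121293, 6, 2546, 19),
  (121294, 6, 251970, 7),
  (121307, 7, 36287, 7),
  (121314, 7, 108778, 22),
  (121317, 6, 213485, 4),
  (121318, 7, 168051, 23),
  (121322, 6, 250286, 13),
  (121325, 6, 140323, 42),
  (121335, 7, 244195, 24),
  (121863, 7, 116794, 26),
  (121865, 7, 164270, 22),
  (121869, 6, 73117, 20),
  (121889, 6, 136343, 20),
  (121893, 7, 20827, 24),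
  (121895, 7, 116858, 26),
  (121897, 7, 121050, 26),
  (121903, 7, 61707, 24),
  (121921, 7, 12534, 26),
  (121923, 6, 52595, 19),
  (121929, 7, 160883, 24),
  (121931, 7, 180686, 22),
  (121933, 7, 77950, 26),
  (121935, 7, 206051, 23),
  (121953, 7, 45238, 26),
  (121955, 7, 235690, 22),
  (121963, 7, 215101, 25),
  (121965, 7, 110654, 26),
  (121967, 6, 1437, 20),
  (121985, 6, 43303, 19),
  (121987, 7, 98653, 21),
  (121991, 7, 235878, 22),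
  (121993, 7, 168358, 22),
  (121997, 7, 233766, 22),
  (122017, 7, 215274, 22),
  (122023, 7, 116862, 26),
  (122025, 7, 121054, 26),
  (122029, 6, 54553, 24),
  (122049, 7, 14578, 26),
  (122055, 7, 168051, 24),
  (122059, 7, 96338, 26),
  (122061, 7, 91587, 23),
  (122063, 6, 2419, 19),
  (122081, 7, 198890, 22),
  (122083, 6, 104785, 21),
  (122089, 7, 210183, 20),
  (122091, 7, 129042, 26),
  (122093, 7, 133358, 22),
  (122131, 8, 145903, 24),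
  (122133, 8, 173311, 21),
  (122135, 8, 129471, 13),
  (122141, 8, 117147, 26),
  (122143, 7, 193725, 1),
  (122161, 7, 258057, 43),
  (122163, 8, 258289, 41),
  (122169, 7, 39359, 24),
  (122195, 8, 87413, 22),
  (122199, 7, 244195, 2),
  (122201, 8, 243183, 2),
  (122225, 8, 121965, 38),
  (122227, 8, 258497, 41),
  (122231, 8, 177397, 1),
  (122233, 7, 163051, 16),
  (122235, 8, 258129, 41),
  (122237, 7, 36285, 20),
  (122239, 7, 258489, 43),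
  (122257, 7, 258057, 41),
  (122261, 8, 258289, 43),
  (122265, 8, 121965, 37),
  (122269, 8, 258497, 43),
  (122271, 8, 178603, 2),
  (122291, 7, 212331, 6),
  (122293, 7, 191709, 3),
  (122295, 8, 259215, 14),
  (122301, 8, 117215, 26),
  (122303, 8, 145891, 19),
  (122321, 7, 39359, 7),
  (122329, 7, 240877, 14),
  (122331, 7, 36285, 7),
  (122333, 8, 258129, 43),
  (122335, 7, 258489, 41),
  (122355, 8, 87423, 22),
  (122359, 8, 173245, 20),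
  (122361, 8, 253331, 10),
  (122882, 6, 73886, 21),
  (122884, 5, 139550, 21),
  (122887, 7, 170034, 26),
  (122893, 7, 176182, 19),
  (122894, 6, 7569, 21),
  (122897, 6, 166162, 26),
  (122900, 6, 145422, 21),
  (122903, 6, 243726, 21),
  (122913, 6, 167956, 19),
  (122919, 6, 240090, 21),
  (122925, 7, 93303, 23),
  (122926, 6, 129094, 1),
  (122930, 6, 242, 6),
  (122935, 5, 247, 6),
  (122939, 6, 166386, 26),
  (122941, 6, 217135, 22),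
  (122942, 7, 243985, 25),
  (122951, 6, 242134, 21),
  (122957, 6, 185475, 24),
  (122962, 6, 242, 8),
  (122967, 6, 239630, 21),
  (122968, 5, 90360, 17),
  (122971, 6, 90363, 17),
  (122973, 7, 176446, 19),
  (122978, 6, 242, 10),
  (122980, 6, 145682, 21),
  (122983, 6, 244178, 21),
  (122989, 7, 106910, 26),
  (122990, 6, 6390, 10),
  (122993, 6, 168220, 19),
  (122994, 6, 73742, 21),
  (122996, 6, 139278, 21),
  (123000, 5, 90360, 6),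
  (123003, 7, 242947, 24),
  (123006, 6, 7583, 21),
  (123016, 6, 90184, 3),
  (123019, 7, 166070, 26),
  (123021, 7, 176246, 19),
  (123025, 6, 176220, 19),
  (123026, 6, 90354, 2),
  (123035, 7, 86294, 20),
  (123038, 6, 96506, 2),
  (123041, 6, 168020, 19),
  (123042, 6, 242, 4),
  (123044, 6, 168018, 19),
  (123048, 5, 90360, 13),
  (123051, 6, 128251, 4),
  (123054, 7, 168051, 19),
  (123058, 7, 205, 25),
  (123060, 6, 83361, 24),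
  (123067, 7, 86302, 20),
  (123070, 6, 49230, 39),
  (123074, 6, 242, 3),
  (123079, 5, 247, 3),
  (123083, 7, 92658, 26),
  (123090, 7, 75806, 21),
  (123099, 6, 215241, 25),
  (123101, 7, 176510, 19),
  (123102, 6, 129034, 11),
  (123106, 7, 51490, 26),
  (123111, 6, 59593, 25),
  (123117, 7, 168310, 19),
  (123121, 6, 168284, 19),
  (123139, 7, 106750, 21),
  (123141, 7, 201059, 20),
  (123142, 7, 241811, 19),
  (123145, 7, 151011, 25),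
  (123146, 7, 201076, 20),
  (123148, 6, 25068, 14),
  (123162, 6, 213338, 13),
  (123171, 7, 201070, 20),
  (123173, 7, 233622, 19),
  (123174, 7, 207290, 21),
  (123177, 7, 97335, 23),
  (123178, 7, 108887, 24),
  (123180, 7, 233650, 19),
  (123189, 7, 233630, 19),
  (123190, 7, 217421, 20),
  (123199, 7, 97747, 7),
  (123212, 6, 155868, 16),
  (123219, 7, 124974, 21),
  (123221, 6, 242078, 19),
  (123222, 6, 205030, 3),
  (123231, 7, 244139, 23),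
  (123237, 7, 155011, 24),
  (123238, 6, 74102, 12),
  (123241, 7, 171395, 24),
  (123242, 5, 25050, 8),
  (123244, 5, 196988, 7),
  (123247, 8, 217533, 44),
  (123251, 7, 217550, 20),
  (123254, 7, 233883, 19),
  (123267, 7, 69990, 20),
  (123273, 7, 246981, 25),
  (123274, 7, 70004, 20),
  (123283, 7, 241885, 19),
  (123286, 6, 155862, 15),
  (123289, 7, 156719, 22),
  (123290, 6, 25066, 4),
  (123292, 6, 196860, 5),
  (123295, 8, 170115, 38),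
  (123299, 7, 69998, 20),
  (123302, 6, 155878, 15),
  (123311, 8, 191901, 2),
  (123321, 7, 233724, 19),
  (123322, 7, 245850, 37),
  (123324, 6, 74108, 14),
  (123331, 6, 70118, 20),
  (123333, 6, 242134, 19),
  (123337, 7, 242164, 19),
  (123340, 7, 242162, 19),
  (123347, 7, 124990, 21),
  (123349, 7, 190526, 21),
  (123363, 7, 104690, 21),
  (123365, 6, 60609, 25),
  (123370, 6, 90458, 8),
  (123375, 7, 38389, 13),
  (123379, 7, 86478, 20),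
  (123385, 7, 86490, 20),
  (123388, 6, 213116, 16),
  (123909, 7, 172510, 21),
  (123911, 7, 26873, 25),
  (123915, 7, 182450, 26),
  (123931, 7, 72915, 21),
  (123941, 7, 198119, 41),
  (123943, 6, 36017, 1),
  (123947, 7, 203070, 20),
  (123959, 6, 249899, 22),
  (123973, 7, 176598, 21),
  (123979, 6, 90582, 26),
  (123991, 6, 174222, 21),
  (123993, 6, 205046, 26),
  (124005, 7, 41278, 26),
  (124007, 7, 57630, 26),
  (124009, 7, 26799, 43),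
  (124011, 6, 215405, 25),
  (124023, 7, 172174, 21),
  (124025, 6, 90187, 15),
  (124027, 6, 59721, 19),
  (124037, 6, 127173, 25),
  (124039, 6, 71975, 20),
  (124043, 6, 38139, 3),
  (124069, 7, 78231, 44),
  (124073, 7, 59709, 19),
  (124075, 7, 162121, 19),
  (124089, 7, 151749, 25),
  (124103, 6, 250307, 22),
  (124107, 7, 72118, 20),
  (124117, 6, 36087, 2),
  (124119, 7, 26763, 43),
  (124123, 7, 88470, 20),
  (124133, 6, 170450, 21),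
  (124139, 7, 125330, 26),
  (124155, 7, 88478, 20),
  (124175, 8, 240123, 22),
  (124177, 6, 129198, 21),
  (124179, 7, 219462, 20),
  (124193, 7, 71967, 24),
  (124205, 8, 241129, 17),
  (124211, 7, 61614, 21),
  (124223, 7, 219487, 20),
  (124225, 7, 203234, 20),
  (124239, 7, 155871, 16),
  (124243, 7, 219590, 20),
  (124255, 6, 51439, 39),
  (124257, 7, 203242, 20),
  (124271, 7, 14463, 37),
  (124273, 7, 211029, 19),
  (124275, 6, 43465, 19),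
  (124287, 7, 51295, 39),
  (124305, 5, 129214, 21),
  (124307, 7, 133593, 19),
  (124323, 6, 182391, 26),
  (124333, 7, 78177, 44),
  (124337, 6, 127166, 21),
  (124339, 7, 141769, 19),
  (124351, 7, 197839, 41),
  (124353, 6, 37110, 21),
  (124383, 8, 180659, 40),
  (124385, 6, 39154, 21),
  (124397, 7, 38391, 13),
  (124401, 7, 211219, 24),
  (124413, 8, 51637, 39),
  (124415, 7, 213119, 16),
  (124935, 6, 196971, 22),
  (124937, 7, 26990, 19),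
  (124941, 7, 186714, 19),
  (124947, 7, 243982, 21),
  (124967, 7, 239834, 21),
  (124970, 6, 127046, 1),
  (124974, 6, 129090, 1),
  (124985, 6, 31094, 19),
  (124989, 7, 166362, 26),
  (124990, 6, 6390, 6),
  (125001, 7, 78294, 26),
  (125005, 6, 73959, 23),
  (125011, 7, 239886, 21),
  (125015, 6, 90359, 17),
  (125017, 7, 229719, 40),
  (125018, 7, 177465, 19),
  (125021, 6, 129025, 8),
  (125027, 6, 36087, 1),
  (125031, 6, 19849, 20),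
  (125033, 7, 43415, 37),
  (125034, 7, 119206, 26),
  (125043, 7, 71739, 42),
  (125049, 6, 39089, 6),
  (125050, 7, 250022, 26),
  (125054, 6, 129206, 15),
  (125059, 7, 170046, 26),
  (125063, 7, 114909, 25),
  (125065, 7, 170142, 26),
  (125066, 6, 39162, 3),
  (125069, 6, 39165, 3),
  (125079, 6, 36017, 2),
  (125085, 7, 84179, 23),
  (125091, 6, 36017, 13),
  (125097, 6, 39089, 13),
  (125107, 6, 245995, 22),
  (125111, 7, 166270, 26),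
  (125117, 6, 107639, 23),
  (125129, 6, 123079, 23),
  (125130, 5, 6394, 3),
  (125139, 6, 92377, 25),
  (125143, 7, 161914, 26),
  (125146, 5, 129214, 2),
  (125149, 7, 211162, 26),
  (125150, 6, 127166, 2),
  (125155, 7, 28823, 44),
  (125161, 7, 190526, 19),
  (125162, 7, 166967, 23),
  (125165, 7, 31050, 19),
  (125171, 7, 237854, 21),
  (125175, 7, 106782, 21),
  (125185, 7, 139707, 22),
  (125189, 6, 120201, 20),
  (125190, 6, 204990, 21),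
  (125199, 7, 229647, 40),
  (125201, 7, 194862, 21),
  (125202, 6, 90598, 4),
  (125205, 7, 166362, 19),
  (125227, 7, 220531, 25),
  (125234, 5, 74214, 4),
  (125238, 6, 25062, 11),
  (125243, 8, 251927, 14),
  (125250, 5, 147702, 10),
  (125253, 6, 39386, 19),
  (125254, 7, 243091, 19),
  (125266, 6, 155878, 10),
  (125269, 6, 35290, 19),
  (125281, 7, 206942, 19),
  (125286, 6, 25046, 8),
  (125295, 7, 205295, 17),
  (125297, 7, 188718, 21),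
  (125302, 6, 90414, 21),
  (125311, 7, 250999, 23),
  (125313, 7, 204077, 24),
  (125317, 7, 137690, 19)]

theorem chk_rows1_13 : rows1_13.all (rowBP1 tr1 bm1 gensLitP gensListP 1) = true := by decide +kernel

/-- Rows 11200 to 11999. -/
def rows1_14 : List (ℕ × ℕ × ℕ × ℕ) := [(125318, 6, 196798, 21),
  (125323, 7, 242933, 19),
  (125330, 6, 25062, 4),
  (125333, 7, 133594, 19),
  (125334, 7, 252073, 20),
  (125345, 6, 35194, 21),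
  (125349, 7, 145866, 19),
  (125350, 6, 205030, 2),
  (125361, 6, 192830, 21),
  (125365, 6, 89485, 24),
  (125366, 6, 90470, 11),
  (125375, 7, 28767, 44),
  (125377, 6, 37238, 21),
  (125378, 6, 213110, 10),
  (125382, 6, 74102, 8),
  (125387, 7, 43217, 37),
  (125393, 6, 190782, 21),
  (125394, 7, 223550, 21),
  (125397, 7, 96457, 23),
  (125398, 6, 243163, 19),
  (125403, 7, 43105, 37),
  (125407, 7, 163275, 21),
  (125413, 7, 14794, 19),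
  (125414, 6, 139750, 17),
  (125429, 7, 10698, 19),
  (125430, 6, 90430, 21),
  (125953, 5, 67585, 43),
  (125955, 7, 164331, 22),
  (125957, 6, 89485, 20),
  (125969, 7, 244110, 21),
  (125971, 6, 126199, 17),
  (126001, 7, 186714, 26),
  (126003, 7, 186746, 26),
  (126021, 6, 74213, 23),
  (126023, 5, 67713, 43),
  (126033, 7, 143478, 26),
  (126035, 7, 159830, 26),
  (126037, 7, 136427, 22),
  (126049, 7, 88189, 25),
  (126055, 6, 92269, 25),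
  (126065, 6, 36017, 6),
  (126067, 7, 116797, 25),
  (126081, 7, 186398, 26),
  (126083, 7, 98654, 21),
  (126087, 6, 36087, 3),
  (126097, 6, 244126, 21),
  (126101, 7, 113054, 21),
  (126103, 7, 133467, 19),
  (126113, 6, 35290, 21),
  (126115, 7, 100698, 21),
  (126129, 5, 67589, 43),
  (126135, 7, 45470, 21),
  (126145, 6, 37334, 21),
  (126147, 7, 31058, 26),
  (126161, 6, 240030, 21),
  (126165, 7, 108958, 21),
  (126167, 7, 161882, 26),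
  (126177, 6, 39378, 21),
  (126179, 7, 63762, 26),
  (126181, 6, 36087, 13),
  (126183, 7, 9379, 37),
  (126197, 7, 106910, 21),
  (126199, 5, 67717, 43),
  (126217, 7, 212331, 10),
  (126221, 7, 17533, 41),
  (126233, 7, 133467, 38),
  (126237, 7, 161007, 22),
  (126271, 7, 41221, 40),
  (126281, 7, 98681, 42),
  (126285, 7, 135367, 44),
  (126287, 8, 240123, 2),
  (126297, 7, 219487, 4),
  (126301, 7, 9497, 37),
  (126319, 7, 63947, 19),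
  (126329, 7, 135443, 44),
  (126331, 7, 41093, 40),
  (126335, 7, 20575, 39),
  (126351, 7, 17603, 41),
  (126361, 8, 133323, 38),
  (126363, 6, 67793, 43),
  (126365, 6, 133261, 38),
  (126379, 7, 9483, 37),
  (126383, 7, 39351, 13),
  (126397, 7, 17535, 41),
  (126399, 7, 98745, 42),
  (126409, 7, 17635, 41),
  (126411, 7, 193725, 9),
  (126413, 7, 41061, 40),
  (126425, 6, 17577, 41),
  (126427, 7, 98325, 42),
  (126457, 7, 98809, 42),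
  (126459, 8, 28107, 19),
  (126981, 6, 83361, 41),
  (126982, 6, 205215, 21),
  (126987, 6, 131439, 22),
  (126989, 7, 157937, 25),
  (126990, 5, 131152, 40),
  (126998, 6, 39154, 8),
  (127003, 6, 192573, 19),
  (127006, 6, 39162, 8),
  (127011, 6, 184341, 19),
  (127013, 6, 39089, 1),
  (127027, 7, 231794, 26),
  (127035, 5, 251, 6),
  (127037, 5, 253, 6),
  (127045, 6, 8670, 26),
  (127046, 5, 164176, 40),
  (127069, 6, 192830, 19),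
  (127070, 5, 6394, 8),
  (127077, 7, 185795, 24),
  (127083, 6, 38139, 1),
  (127085, 7, 106782, 26),
  (127086, 7, 211029, 25),
  (127094, 6, 127166, 15),
  (127102, 6, 204815, 21),
  (127107, 7, 78118, 20),
  (127115, 7, 134613, 38),
  (127117, 7, 235670, 26),
  (127118, 6, 127222, 12),
  (127123, 6, 90187, 11),
  (127131, 7, 94486, 20),
  (127139, 7, 78126, 20),
  (127142, 6, 6390, 4),
  (127147, 7, 78142, 20),
  (127155, 7, 147917, 25),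
  (127158, 7, 235878, 26),
  (127165, 7, 94491, 20),
  (127166, 5, 163856, 40),
  (127171, 5, 251, 3),
  (127173, 5, 253, 3),
  (127179, 6, 92530, 26),
  (127181, 6, 192886, 19),
  (127182, 7, 84330, 26),
  (127189, 7, 192862, 19),
  (127197, 6, 39165, 2),
  (127198, 7, 94613, 20),
  (127205, 7, 43418, 26),
  (127206, 6, 129206, 13),
  (127211, 6, 51657, 25),
  (127214, 5, 129214, 13),
  (127222, 5, 131408, 40),
  (127227, 7, 184701, 19),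
  (127247, 8, 84075, 43),
  (127249, 6, 225602, 20),
  (127252, 6, 205180, 10),
  (127263, 7, 210293, 10),
  (127265, 7, 209258, 20),
  (127266, 7, 209260, 20),
  (127268, 7, 84327, 24),
  (127271, 7, 244195, 17),
  (127273, 7, 104719, 24),
  (127282, 6, 25066, 11),
  (127284, 7, 250010, 19),
  (127295, 7, 83137, 41),
  (127298, 6, 196858, 3),
  (127300, 6, 196860, 3),
  (127306, 6, 147706, 10),
  (127313, 6, 258460, 19),
  (127314, 6, 82298, 12),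
  (127316, 6, 82300, 12),
  (127319, 7, 205039, 3),
  (127322, 6, 205178, 1),
  (127327, 8, 11615, 37),
  (127329, 7, 250260, 19),
  (127332, 6, 74108, 12),
  (127337, 7, 138691, 24),
  (127338, 7, 209404, 20),
  (127340, 7, 156719, 21),
  (127353, 7, 145455, 22),
  (127354, 7, 225756, 20),
  (127356, 6, 25068, 2),
  (127359, 7, 53343, 39),
  (127361, 7, 145719, 22),
  (127364, 5, 25052, 1),
  (127369, 7, 258292, 19),
  (127370, 7, 152863, 23),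
  (127372, 7, 258290, 19),
  (127388, 6, 155868, 15),
  (127391, 7, 213375, 6),
  (127394, 6, 82298, 11),
  (127401, 6, 231639, 26),
  (127402, 6, 205178, 6),
  (127404, 6, 205180, 6),
  (127407, 7, 205183, 6),
  (127409, 7, 94538, 20),
  (127410, 6, 90474, 11),
  (127412, 7, 134457, 21),
  (127418, 5, 196986, 6),
  (127420, 5, 196988, 6),
  (127423, 7, 143455, 44),
  (127425, 7, 78306, 20),
  (127426, 7, 78308, 20),
  (127428, 7, 96407, 22),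
  (127431, 7, 83043, 41),
  (127434, 6, 213114, 10),
  (127439, 7, 102863, 42),
  (127441, 7, 216513, 25),
  (127442, 7, 232741, 26),
  (127444, 7, 247875, 24),
  (127463, 7, 38397, 13),
  (127465, 6, 52673, 25),
  (127468, 6, 156124, 11),
  (127471, 7, 172473, 40),
  (127473, 7, 94666, 20),
  (127474, 7, 135223, 23),
  (127476, 7, 250330, 19),
  (127479, 7, 102897, 42),
  (127481, 7, 94682, 20),
  (127482, 7, 94684, 20),
  (127487, 8, 129315, 11),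
  (128001, 5, 67585, 42),
  (128003, 7, 247858, 26),
  (128011, 7, 48271, 21),
  (128019, 7, 227590, 20),
  (128025, 7, 233883, 24),
  (128027, 6, 90187, 8),
  (128033, 7, 69979, 24),
  (128035, 6, 90187, 10),
  (128043, 7, 211262, 20),
  (128051, 7, 227598, 20),
  (128059, 7, 248306, 26),
  (128065, 7, 211362, 20),
  (128067, 6, 25046, 26),
  (128073, 6, 74102, 26),
  (128075, 5, 67589, 42),
  (128081, 6, 139510, 26),
  (128083, 6, 155862, 26),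
  (128089, 6, 204918, 26),
  (128097, 7, 211370, 20),
  (128105, 7, 106806, 26),
  (128113, 7, 227722, 20),
  (128121, 7, 227738, 20),
  (128129, 6, 250309, 25),
  (128145, 6, 47397, 19),
  (128147, 7, 210377, 24),
  (128177, 5, 67713, 42),
  (128185, 6, 103833, 24),
  (128195, 7, 27090, 26),
  (128211, 7, 233555, 24),
  (128217, 6, 38139, 2),
  (128219, 7, 223314, 26),
  (128225, 6, 90363, 4),
  (128227, 7, 59794, 26),
  (128235, 7, 80318, 20),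
  (128243, 7, 96654, 20),
  (128249, 7, 9379, 41),
  (128251, 5, 67717, 42),
  (128261, 8, 161277, 6),
  (128263, 7, 133467, 43),
  (128277, 7, 98681, 40),
  (128279, 7, 205183, 10),
  (128287, 7, 135443, 38),
  (128319, 7, 41093, 37),
  (128327, 8, 133323, 43),
  (128341, 7, 17635, 39),
  (128343, 6, 17577, 39),
  (128351, 7, 98809, 40),
  (128359, 6, 67793, 42),
  (128365, 7, 9483, 41),
  (128373, 7, 41157, 37),
  (128375, 7, 98325, 40),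
  (128383, 8, 87413, 23),
  (128389, 7, 17533, 39),
  (128391, 7, 205295, 10),
  (128405, 7, 135367, 38),
  (128407, 7, 9497, 41),
  (128431, 7, 41221, 37),
  (128437, 7, 250999, 16),
  (128445, 7, 210293, 23),
  (128447, 7, 20575, 44),
  (128455, 6, 133261, 43),
  (128463, 7, 17535, 39),
  (128469, 7, 41061, 37),
  (128485, 7, 17603, 39),
  (128493, 7, 81255, 5),
  (128495, 7, 98745, 40),
  (129025, 5, 132097, 41),
  (129026, 7, 235562, 26),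
  (129029, 7, 186746, 19),
  (129030, 5, 98400, 40),
  (129033, 7, 26958, 19),
  (129034, 5, 196872, 44),
  (129038, 5, 12292, 37),
  (129041, 7, 220331, 22),
  (129042, 6, 129270, 17),
  (129046, 6, 127222, 17),
  (129049, 6, 90189, 8),
  (129062, 6, 39162, 10),
  (129073, 6, 122935, 23),
  (129074, 5, 6394, 6),
  (129086, 6, 243713, 25),
  (129090, 5, 12300, 37),
  (129094, 5, 131464, 44),
  (129098, 5, 65760, 40),
  (129101, 5, 132353, 41),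
  (129105, 7, 70063, 44),
  (129106, 6, 6390, 8),
  (129109, 7, 51578, 19),
  (129110, 7, 151790, 26),
  (129113, 6, 161862, 19),
  (129117, 6, 35194, 19),
  (129121, 7, 141438, 19),
  (129125, 7, 45470, 26),
  (129126, 5, 6394, 10),
  (129129, 6, 39165, 1),
  (129133, 7, 47466, 19),
  (129138, 6, 39098, 6),
  (129142, 5, 129214, 15),
  (129145, 7, 115765, 23),
  (129153, 7, 235550, 26),
  (129157, 7, 153978, 19),
  (129161, 7, 234793, 24),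
  (129162, 6, 39154, 3),
  (129165, 7, 137594, 19),
  (129166, 6, 129270, 12),
  (129170, 6, 205277, 25),
  (129173, 6, 39089, 2),
  (129178, 6, 96502, 2),
  (129182, 7, 231854, 26),
  (129186, 7, 235630, 26),
  (129193, 7, 136613, 22),
  (129198, 5, 6394, 4),
  (129201, 5, 132099, 41),
  (129202, 7, 235886, 26),
  (129206, 5, 65632, 40),
  (129209, 6, 215215, 22),
  (129210, 5, 131208, 44),
  (129213, 6, 120201, 24),
  (129214, 4, 12308, 37),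
  (129222, 7, 193875, 19),
  (129225, 6, 190478, 19),
  (129229, 6, 6522, 19),
  (129230, 6, 6390, 3),
  (129233, 7, 145618, 26),
  (129237, 7, 145626, 26),
  (129238, 7, 201877, 21),
  (129241, 6, 194566, 19),
  (129242, 6, 129206, 2),
  (129245, 7, 211034, 26),
  (129246, 6, 193915, 19),
  (129249, 7, 47506, 26),
  (129250, 7, 55714, 26),
  (129253, 6, 39165, 13),
  (129254, 7, 55722, 26),
  (129257, 7, 112914, 26),
  (129258, 6, 127166, 13),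
  (129261, 7, 14698, 19),
  (129262, 6, 39098, 4),
  (129266, 5, 12316, 37),
  (129269, 7, 133291, 22),
  (129270, 5, 196744, 44),
  (129274, 5, 98464, 40),
  (129277, 5, 132355, 41),
  (129287, 7, 12777, 37),
  (129295, 7, 132301, 41),
  (129303, 7, 239855, 3),
  (129315, 7, 164239, 38),
  (129319, 7, 49379, 40),
  (129331, 7, 110073, 21),
  (129347, 8, 111095, 21),
  (129355, 7, 12769, 37),
  (129367, 7, 66785, 42),
  (129379, 7, 10357, 43),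
  (129387, 7, 49347, 40),
  (129423, 6, 18545, 39),
  (129431, 7, 132377, 41),
  (129435, 7, 164037, 38),
  (129451, 7, 66659, 42),
  (129455, 7, 36285, 13),
  (129459, 7, 252063, 14),
  (129467, 7, 49279, 40),
  (129471, 7, 132303, 41),
  (129475, 7, 18549, 39),
  (129479, 6, 10381, 43),
  (129483, 6, 132179, 41),
  (129487, 8, 18559, 39),
  (129491, 7, 164035, 38),
  (129499, 7, 10561, 43),
  (129515, 7, 36345, 13),
  (129519, 7, 18639, 39),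
  (129531, 7, 12785, 37),
  (129535, 8, 81265, 5),
  (130309, 7, 219487, 24),
  (130315, 8, 194779, 16),
  (130317, 7, 163051, 25),
  (130319, 8, 191881, 12),
  (130321, 7, 254025, 40),
  (130323, 8, 129451, 13),
  (130325, 7, 240877, 3),
  (130327, 8, 193701, 1),
  (130329, 8, 96583, 19),
  (130333, 7, 254169, 40),
  (130341, 7, 243173, 17),
  (130345, 8, 193767, 20),
  (130347, 7, 213119, 8),
  (130349, 7, 90575, 7),
  (130351, 7, 48181, 37),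
  (130357, 7, 105803, 42),
  (130365, 7, 90591, 7),
  (130367, 7, 129423, 24),
  (130377, 7, 240765, 14),
  (130381, 8, 248859, 8),
  (130383, 7, 39419, 19),
  (130387, 7, 254313, 40),
  (130389, 7, 225401, 44),
  (130391, 8, 129519, 13),
  (130401, 7, 171469, 38),
  (130403, 7, 254307, 40),
  (130419, 7, 225427, 44),
  (130421, 7, 56403, 39),
  (130427, 7, 222289, 41),
  (130429, 8, 212339, 24),
  (130433, 7, 105857, 42),
  (130435, 7, 251967, 26),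
  (130441, 7, 56439, 39),
  (130445, 8, 222323, 41),
  (130447, 7, 105865, 42),
  (130449, 7, 252191, 26),
  (130453, 7, 48175, 37),
  (130457, 8, 48237, 37),
  (130461, 8, 48227, 37),
  (130467, 7, 39355, 13),
  (130471, 7, 39359, 13),
  (130475, 7, 254009, 40),
  (130477, 7, 225633, 44),
  (130479, 7, 243061, 22),
  (130481, 7, 36345, 21),
  (130485, 8, 157931, 22),
  (130489, 8, 228819, 10),
  (130493, 7, 249021, 20),
  (130495, 7, 246973, 20),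
  (130505, 7, 225563, 44),
  (130507, 7, 7675, 19),
  (130509, 8, 126399, 21),
  (130511, 7, 244135, 10),
  (130513, 7, 38389, 21),
  (130519, 7, 193725, 20),
  (130521, 7, 254227, 40),
  (130525, 7, 225413, 44),
  (130527, 7, 48239, 37),
  (130531, 7, 225489, 44),
  (130535, 8, 253977, 40),
  (130541, 8, 124351, 21),
  (130543, 7, 225777, 44),
  (130549, 8, 244083, 24),
  (130553, 8, 219639, 4),
  (131075, 4, 32774, 20),
  (131077, 4, 197008, 22),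
  (131078, 4, 196640, 21),
  (131081, 4, 36940, 24),
  (131084, 4, 32778, 23),
  (131090, 4, 36930, 25),
  (131092, 4, 36932, 23),
  (131095, 7, 90601, 38),
  (131096, 4, 2062, 23),
  (131101, 6, 174, 19),
  (131105, 4, 32778, 20),
  (131106, 4, 32780, 20),
  (131111, 6, 159804, 24),
  (131112, 4, 82096, 19),
  (131115, 6, 176220, 24),
  (131120, 3, 304, 3),
  (131126, 5, 155958, 3),
  (131130, 7, 49212, 20),
  (131132, 6, 37957, 23),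
  (131137, 4, 147760, 22),
  (131138, 4, 4102, 25),
  (131140, 4, 82096, 22),
  (131144, 3, 416, 19),
  (131147, 6, 205210, 23),
  (131149, 5, 155958, 25),
  (131152, 4, 32838, 25),
  (131157, 5, 398, 19),
  (131161, 6, 428, 19),
  (131167, 5, 431, 19),
  (131168, 4, 197008, 19),
  (131173, 6, 90294, 25),
  (131177, 6, 213414, 25),
  (131178, 6, 43046, 22),
  (131180, 5, 205206, 25),
  (131191, 6, 127222, 25),
  (131195, 6, 250342, 25),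
  (131198, 6, 192526, 12),
  (131201, 4, 2058, 24),
  (131202, 4, 65584, 21),
  (131204, 4, 131120, 21),
  (131208, 4, 2114, 24),
  (131213, 6, 230, 19),
  (131216, 3, 400, 1),
  (131219, 7, 180262, 20),
  (131225, 6, 236, 19),
  (131228, 6, 234, 19),
  (131231, 6, 248238, 23),
  (131232, 3, 416, 4),
  (131235, 6, 4513, 23),
  (131244, 7, 133474, 24),
  (131249, 6, 90401, 2),
  (131250, 6, 198930, 24),
  (131252, 6, 8394, 19),
  (131259, 7, 180286, 20),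
  (131273, 5, 484, 19),
  (131274, 6, 155962, 23),
  (131276, 6, 482, 19),
  (131279, 5, 487, 19),
  (131281, 6, 460, 19),
  (131284, 6, 458, 19),
  (131288, 5, 204872, 10),
  (131291, 5, 493, 19),
  (131294, 5, 491, 19),
  (131297, 6, 24700, 21),
  (131300, 6, 213476, 4),
  (131307, 7, 163998, 20),
  (131315, 6, 4533, 23),
  (131317, 7, 24958, 21),
  (131321, 7, 180410, 20),
  (131322, 7, 180412, 20),
  (131324, 7, 10415, 22),
  (131327, 7, 38389, 23),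
  (131331, 4, 32838, 20),
  (131333, 4, 196624, 22),
  (131334, 3, 416, 21),
  (131337, 4, 36868, 24),
  (131340, 4, 36866, 23),
  (131343, 6, 155658, 25),
  (131346, 4, 32778, 25),
  (131348, 4, 36940, 23),
  (131351, 6, 482, 21),
  (131352, 4, 6150, 23),
  (131361, 4, 32842, 20),
  (131362, 4, 32844, 20),
  (131367, 5, 484, 21),
  (131368, 4, 16560, 19),
  (131374, 6, 204810, 25),
  (131376, 3, 304, 6),
  (131379, 6, 230, 21),
  (131381, 6, 358, 21),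
  (131382, 6, 422, 21),
  (131385, 7, 49274, 20),
  (131391, 5, 487, 21),
  (131393, 4, 147472, 22),
  (131394, 4, 2062, 25),
  (131396, 4, 81936, 22),
  (131399, 5, 204872, 23),
  (131400, 4, 65824, 19),
  (131408, 4, 34822, 25),
  (131411, 6, 234, 21),
  (131413, 5, 362, 21),
  (131417, 7, 205033, 39),
  (131423, 5, 491, 21),
  (131424, 4, 131472, 19),
  (131427, 6, 236, 21),
  (131430, 6, 428, 21),
  (131439, 5, 493, 21),
  (131442, 6, 174, 21),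
  (131444, 6, 302, 21),
  (131451, 6, 247822, 25),
  (131454, 5, 431, 21),
  (131457, 4, 2062, 24),
  (131458, 4, 81936, 21),
  (131460, 4, 147472, 21),
  (131463, 6, 213064, 23),
  (131464, 4, 2118, 24),
  (131467, 6, 168020, 22),
  (131470, 6, 65635, 19),
  (131472, 3, 400, 2),
  (131482, 7, 153894, 23),
  (131487, 6, 252326, 23),
  (131488, 3, 416, 8),
  (131493, 6, 73798, 19),
  (131497, 6, 163930, 20),
  (131503, 7, 163935, 20),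
  (131505, 6, 196785, 12),
  (131511, 7, 198974, 24),
  (131512, 6, 73832, 19),
  (131515, 7, 5549, 23),
  (131517, 6, 180347, 20),
  (131518, 7, 199030, 24),
  (131525, 6, 90184, 23),
  (131526, 5, 155720, 23),
  (131529, 6, 164050, 20),
  (131538, 6, 7243, 25),
  (131544, 5, 204872, 2),
  (131549, 6, 129206, 23),
  (131550, 6, 194870, 23),
  (131554, 7, 41018, 22),
  (131556, 5, 484, 17),
  (131568, 6, 180456, 20),
  (131573, 7, 74062, 19),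
  (131574, 7, 180461, 20),
  (131583, 7, 38397, 23),
  (132097, 4, 34818, 20),
  (132099, 4, 34822, 20),
  (132109, 7, 98698, 23),
  (132111, 6, 155962, 25),
  (132117, 7, 20668, 24),
  (132121, 6, 184682, 25),
  (132123, 6, 51254, 20),
  (132135, 6, 34831, 20),
  (132147, 6, 82150, 21),
  (132159, 7, 254458, 25),
  (132171, 6, 147758, 25),
  (132179, 5, 82154, 21),
  (132189, 6, 220591, 19),
  (132191, 6, 220161, 19),
  (132195, 5, 82156, 21),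
  (132229, 6, 115112, 23),
  (132243, 6, 90354, 21),
  (132269, 6, 169185, 23),
  (132271, 7, 10702, 22),
  (132283, 6, 90359, 21),
  (132291, 5, 90360, 21),
  (132301, 6, 249319, 19),
  (132303, 6, 248833, 19),
  (132309, 6, 90490, 21),
  (132311, 7, 168436, 23),
  (132313, 6, 205275, 1),
  (132315, 6, 90363, 21),
  (132325, 6, 90492, 21),
  (132327, 6, 213063, 13),
  (132329, 7, 43374, 22),
  (132331, 6, 90365, 21),
  (132337, 7, 90238, 21),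
  (132351, 7, 252063, 5),
  (132353, 4, 34882, 20),
  (132355, 4, 34886, 20),
  (132367, 7, 97459, 38),
  (132375, 7, 66018, 21),
  (132377, 6, 110740, 24),
  (132379, 6, 51318, 20),
  (132389, 6, 34891, 20),
  (132393, 6, 43350, 22),
  (132421, 6, 65896, 21),
  (132423, 6, 74056, 23),
  (132425, 7, 35026, 20),
  (132427, 7, 251211, 43),
  (132445, 6, 194566, 25),
  (132463, 6, 66029, 21),
  (132469, 6, 129030, 25),
  (132471, 6, 129038, 25),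
  (132473, 6, 251910, 25),
  (132475, 6, 251918, 25),
  (132489, 6, 165970, 20),
  (132491, 6, 167956, 22),
  (132497, 7, 73842, 21),
  (132499, 7, 182374, 20),
  (132511, 6, 182391, 20),
  (132513, 6, 141582, 24),
  (132527, 7, 126097, 19),
  (132533, 6, 74102, 21),
  (132547, 6, 8568, 22),
  (132557, 7, 74105, 21),
  (132569, 7, 73851, 21),
  (132571, 6, 204875, 2),
  (132581, 6, 74108, 21),
  (132595, 7, 73982, 21),
  (132607, 7, 7667, 25),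
  (133121, 4, 131472, 22),
  (133122, 4, 196896, 21),
  (133125, 4, 196880, 22),
  (133126, 4, 65824, 21),
  (133131, 7, 151858, 25),
  (133135, 6, 197066, 23),
  (133139, 7, 4548, 23),
  (133150, 6, 286, 17),
  (133155, 6, 106754, 22),
  (133159, 6, 106882, 22),
  (133161, 6, 84150, 19),
  (133162, 6, 302, 13),
  (133166, 7, 209282, 25),
  (133169, 7, 240709, 44),
  (133173, 6, 147814, 21),
  (133179, 6, 108807, 22),
  (133191, 6, 205272, 23),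
  (133198, 6, 139610, 23),
  (133205, 6, 74145, 22),
  (133218, 7, 106530, 22),
  (133222, 6, 358, 5),
  (133231, 6, 38289, 23),
  (133239, 7, 127206, 25),
  (133241, 7, 246262, 25),
  (133242, 5, 194570, 12),
  (133245, 7, 227346, 19),
  (133255, 5, 213480, 23),
  (133257, 6, 116966, 19),
  (133258, 5, 398, 13),
  (133261, 5, 82154, 23),
  (133262, 6, 147818, 23),
  (133265, 6, 83978, 24),
  (133266, 5, 205206, 10),
  (133279, 7, 84090, 24),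
  (133281, 7, 193809, 42),
  (133282, 5, 212998, 4),
  (133285, 6, 156020, 21),
  (133291, 6, 7599, 4),
  (133295, 6, 38305, 23),
  (133303, 6, 194941, 26),
  (133309, 6, 156023, 21),
  (133310, 6, 252397, 26),
  (133317, 5, 90360, 23),
  (133318, 6, 156024, 23),
  (133323, 7, 254458, 23),
  (133331, 6, 155898, 21),
  (133341, 6, 39389, 10),
  (133347, 6, 155900, 21),
  (133357, 6, 156029, 21),
  (133358, 6, 35306, 13),
  (133361, 6, 4341, 23),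
  (133362, 6, 213110, 16),
  (133366, 6, 74102, 5),
  (133371, 7, 155903, 21),
  (133375, 7, 250999, 7),
  (133377, 4, 196752, 22),
  (133378, 4, 131232, 21),
  (133381, 4, 131216, 22),
  (133382, 4, 131488, 21),
  (133387, 7, 233922, 23),
  (133399, 7, 49178, 25),
  (133402, 5, 139550, 4),
  (133405, 6, 88194, 19),
  (133411, 6, 90138, 25),
  (133415, 6, 131556, 21),
  (133417, 6, 76054, 22),
  (133422, 6, 147470, 17),
  (133429, 7, 70052, 24),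
  (133449, 6, 157718, 25),
  (133454, 7, 133150, 25),
  (133457, 6, 74033, 22),
  (133467, 6, 244182, 23),
  (133473, 6, 133526, 19),
  (133474, 6, 358, 7),
  (133501, 6, 215405, 24),
  (133502, 6, 194630, 6),
  (133518, 6, 196622, 17),
  (133521, 6, 4332, 23),
  (133526, 5, 205206, 11),
  (133535, 6, 219622, 23),
  (133537, 7, 74010, 22),
  (133542, 5, 212998, 17),
  (133547, 7, 5609, 23),
  (133551, 6, 129025, 26),
  (133555, 6, 139510, 21),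
  (133559, 6, 194561, 26),
  (133561, 7, 5357, 23),
  (133565, 6, 243713, 26),
  (133566, 6, 251905, 26),
  (133583, 7, 225778, 23),
  (133587, 6, 139514, 21),
  (133593, 6, 129270, 23),
  (133594, 6, 194934, 23),
  (133597, 6, 96502, 23),
  (133598, 6, 162166, 23),
  (133603, 6, 139516, 21),
  (133610, 6, 248238, 8),
  (133613, 7, 256146, 19),
  (133614, 7, 108734, 22),
  (133618, 5, 74214, 7),
  (133622, 6, 25062, 14),
  (134155, 7, 45164, 24),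
  (134157, 7, 160042, 25),
  (134163, 7, 49274, 25),
  (134165, 7, 61546, 25),
  (134167, 6, 213474, 21),
  (134179, 6, 7243, 20),
  (134183, 6, 213476, 21),
  (134203, 7, 176364, 24),
  (134207, 6, 213479, 21),
  (134213, 6, 213352, 21),
  (134215, 5, 213480, 21),
  (134235, 6, 93395, 20),
  (134239, 6, 213483, 21),
  (134255, 6, 213485, 21),
  (134257, 5, 375, 12),
  (134261, 6, 168085, 23),
  (134275, 6, 74056, 22),
  (134301, 6, 7583, 10),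
  (134303, 7, 173413, 20),
  (134313, 6, 116983, 19),
  (134315, 7, 158042, 24),
  (134319, 7, 76238, 22),
  (134323, 7, 135653, 23),
  (134349, 7, 159956, 22),
  (134357, 6, 205271, 1),
  (134373, 7, 106986, 22),
  (134409, 7, 196820, 22),
  (134413, 7, 45108, 24),
  (134415, 7, 151578, 25),
  (134417, 7, 61458, 25),
  (134419, 7, 86196, 24),
  (134421, 7, 78004, 24),
  (134433, 6, 37903, 20),
  (134437, 6, 7237, 20),
  (134457, 6, 155967, 15),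
  (134459, 7, 119220, 24),
  (134463, 7, 249882, 25),
  (134493, 6, 92269, 24),
  (134495, 7, 186398, 25),
  (134507, 7, 227358, 25),
  (134509, 6, 158061, 24),
  (134511, 6, 110627, 26),
  (134513, 7, 129046, 25)]

theorem chk_rows1_14 : rows1_14.all (rowBP1 tr1 bm1 gensLitP gensListP 1) = true := by decide +kernel

/-- Rows 12000 to 12799. -/
def rows1_15 : List (ℕ × ℕ × ℕ × ℕ) := [(134519, 6, 191559, 6),
  (134529, 6, 246024, 23),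
  (134535, 6, 115016, 23),
  (134553, 7, 9579, 25),
  (134555, 6, 204815, 2),
  (134557, 7, 88550, 23),
  (134559, 7, 92286, 24),
  (134577, 6, 204918, 21),
  (134579, 6, 205046, 21),
  (134581, 6, 205174, 21),
  (134583, 7, 223550, 24),
  (134601, 7, 11563, 25),
  (134603, 7, 258290, 23),
  (134605, 6, 208197, 20),
  (134609, 6, 204922, 21),
  (134611, 6, 204871, 2),
  (134613, 6, 205178, 21),
  (134625, 6, 204924, 21),
  (134629, 6, 205180, 21),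
  (134653, 7, 205183, 21),
  (134655, 8, 246815, 17),
  (135169, 4, 4172, 24),
  (135172, 4, 4170, 23),
  (135175, 7, 193809, 43),
  (135177, 4, 36876, 24),
  (135180, 4, 36930, 23),
  (135183, 7, 61500, 24),
  (135187, 6, 202762, 23),
  (135190, 5, 139550, 3),
  (135195, 6, 57398, 20),
  (135203, 6, 143452, 24),
  (135205, 6, 8582, 22),
  (135206, 6, 147470, 12),
  (135211, 6, 40990, 20),
  (135214, 7, 188468, 24),
  (135217, 7, 57386, 20),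
  (135218, 6, 155962, 3),
  (135220, 6, 155964, 3),
  (135223, 6, 155967, 3),
  (135225, 7, 24748, 19),
  (135231, 7, 258290, 25),
  (135235, 7, 240709, 39),
  (135237, 6, 16774, 19),
  (135238, 6, 17577, 26),
  (135245, 6, 155702, 25),
  (135249, 7, 49510, 25),
  (135252, 6, 139612, 17),
  (135263, 6, 37334, 23),
  (135274, 5, 362, 5),
  (135279, 7, 225462, 25),
  (135283, 6, 5527, 23),
  (135307, 6, 4514, 23),
  (135314, 7, 153610, 23),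
  (135319, 6, 219210, 23),
  (135322, 6, 410, 1),
  (135327, 6, 37350, 23),
  (135330, 6, 172044, 20),
  (135337, 6, 172058, 20),
  (135340, 6, 213420, 4),
  (135349, 7, 24782, 19),
  (135358, 6, 196926, 15),
  (135362, 6, 196682, 16),
  (135367, 6, 138297, 25),
  (135369, 6, 34891, 24),
  (135372, 6, 196684, 13),
  (135381, 6, 96330, 23),
  (135382, 6, 244126, 10),
  (135389, 6, 37110, 23),
  (135390, 5, 35230, 1),
  (135395, 7, 172174, 20),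
  (135405, 6, 25062, 19),
  (135410, 6, 213114, 16),
  (135415, 7, 38391, 23),
  (135417, 6, 25068, 19),
  (135420, 6, 25066, 19),
  (135425, 4, 36932, 24),
  (135428, 3, 74, 23),
  (135431, 6, 196682, 23),
  (135433, 4, 4164, 24),
  (135436, 4, 36938, 23),
  (135443, 6, 110788, 24),
  (135445, 5, 81934, 19),
  (135451, 6, 57462, 20),
  (135454, 6, 286, 15),
  (135461, 5, 90118, 19),
  (135470, 6, 302, 15),
  (135473, 6, 90124, 19),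
  (135474, 7, 57452, 20),
  (135476, 6, 90122, 19),
  (135479, 6, 90127, 19),
  (135482, 6, 314, 15),
  (135484, 5, 316, 15),
  (135487, 6, 248833, 21),
  (135491, 6, 204810, 23),
  (135494, 5, 139338, 23),
  (135499, 7, 41174, 20),
  (135511, 6, 251371, 21),
  (135513, 7, 57586, 20),
  (135516, 6, 139612, 13),
  (135519, 6, 250881, 21),
  (135522, 5, 362, 7),
  (135527, 6, 38363, 23),
  (135529, 6, 10546, 22),
  (135530, 6, 90401, 19),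
  (135532, 6, 10418, 22),
  (135535, 6, 251905, 21),
  (135541, 7, 256262, 25),
  (135542, 6, 220591, 21),
  (135549, 6, 90414, 19),
  (135550, 6, 220161, 21),
  (135557, 5, 81990, 19),
  (135558, 6, 147530, 23),
  (135566, 6, 78028, 22),
  (135569, 6, 81996, 19),
  (135570, 6, 410, 2),
  (135572, 6, 81994, 19),
  (135586, 6, 40990, 22),
  (135588, 6, 428, 17),
  (135591, 6, 38379, 23),
  (135596, 7, 10394, 22),
  (135599, 7, 166270, 24),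
  (135603, 6, 90189, 19),
  (135606, 6, 156046, 12),
  (135613, 7, 231790, 24),
  (135614, 7, 231798, 24),
  (135617, 6, 34831, 24),
  (135618, 6, 155658, 23),
  (135620, 6, 460, 17),
  (135626, 6, 458, 14),
  (135628, 7, 94380, 22),
  (135635, 7, 223242, 23),
  (135638, 6, 35290, 2),
  (135646, 6, 39378, 2),
  (135651, 7, 41278, 22),
  (135653, 6, 39405, 8),
  (135654, 6, 38267, 23),
  (135659, 6, 138667, 25),
  (135661, 6, 90470, 19),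
  (135671, 7, 97747, 1),
  (135674, 6, 25066, 14),
  (135676, 6, 90474, 19),
  (136199, 7, 28780, 24),
  (136205, 7, 159802, 25),
  (136209, 6, 59426, 20),
  (136219, 6, 59446, 20),
  (136245, 7, 169159, 23),
  (136253, 7, 184508, 24),
  (136257, 7, 209162, 23),
  (136265, 7, 43154, 20),
  (136267, 7, 135570, 23),
  (136279, 7, 251211, 21),
  (136293, 7, 41446, 22),
  (136301, 7, 43490, 22),
  (136303, 7, 10722, 22),
  (136305, 6, 136343, 23),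
  (136307, 7, 115182, 25),
  (136313, 5, 379, 12),
  (136329, 6, 168220, 22),
  (136331, 6, 168284, 22),
  (136343, 5, 415, 10),
  (136349, 6, 43465, 22),
  (136359, 7, 8654, 22),
  (136367, 6, 7585, 4),
  (136369, 7, 190506, 20),
  (136371, 6, 126023, 21),
  (136379, 6, 36017, 21),
  (136391, 7, 27805, 26),
  (136397, 7, 134457, 25),
  (136399, 7, 168434, 23),
  (136403, 6, 128075, 21),
  (136411, 6, 38065, 21),
  (136417, 6, 44277, 26),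
  (136419, 6, 129101, 21),
  (136427, 6, 39089, 21),
  (136439, 7, 31825, 40),
  (136453, 7, 160002, 25),
  (136461, 7, 168138, 23),
  (136463, 7, 238020, 22),
  (136465, 6, 59490, 20),
  (136475, 6, 69844, 24),
  (136481, 6, 45396, 24),
  (136489, 6, 12628, 24),
  (136501, 6, 7359, 19),
  (136503, 6, 97457, 19),
  (136515, 7, 153870, 25),
  (136521, 7, 135322, 23),
  (136535, 7, 194830, 25),
  (136549, 7, 227590, 25),
  (136551, 7, 227598, 25),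
  (136557, 7, 232589, 44),
  (136563, 6, 193841, 15),
  (136569, 6, 59642, 20),
  (136599, 7, 84298, 23),
  (136605, 6, 211983, 2),
  (136607, 7, 136563, 25),
  (136613, 6, 7599, 8),
  (136615, 6, 126129, 19),
  (136623, 6, 47273, 26),
  (136625, 6, 39165, 19),
  (136627, 6, 129201, 19),
  (136635, 7, 190590, 20),
  (136645, 7, 41468, 22),
  (136653, 7, 258476, 22),
  (136655, 7, 168442, 23),
  (136665, 7, 190706, 20),
  (136667, 7, 190710, 20),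
  (136673, 6, 38379, 8),
  (136675, 7, 174286, 20),
  (136695, 7, 232783, 44),
  (137219, 7, 233482, 23),
  (137231, 7, 196948, 22),
  (137233, 6, 143761, 26),
  (137242, 5, 139550, 10),
  (137245, 6, 53388, 24),
  (137250, 7, 70034, 25),
  (137261, 6, 76162, 22),
  (137262, 6, 302, 5),
  (137275, 7, 250098, 25),
  (137279, 7, 258274, 25),
  (137290, 6, 4434, 23),
  (137299, 5, 243722, 23),
  (137303, 6, 243786, 23),
  (137315, 6, 5587, 23),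
  (137323, 7, 217270, 25),
  (137327, 7, 225446, 25),
  (137329, 6, 5335, 23),
  (137334, 6, 190782, 3),
  (137337, 5, 381, 12),
  (137341, 7, 254182, 25),
  (137342, 6, 194870, 3),
  (137346, 6, 196622, 16),
  (137350, 6, 184394, 23),
  (137354, 5, 398, 1),
  (137358, 6, 69724, 22),
  (137367, 6, 251978, 23),
  (137371, 6, 7569, 10),
  (137375, 7, 116858, 24),
  (137397, 6, 191559, 21),
  (137398, 6, 147870, 2),
  (137401, 7, 121054, 19),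
  (137405, 6, 36145, 21),
  (137406, 6, 74046, 5),
  (137419, 7, 152060, 22),
  (137425, 6, 129034, 23),
  (137426, 5, 194570, 23),
  (137429, 6, 193611, 21),
  (137430, 6, 194634, 23),
  (137433, 7, 252366, 19),
  (137437, 6, 38193, 21),
  (137442, 6, 249926, 4),
  (137445, 5, 74158, 22),
  (137446, 6, 251970, 4),
  (137449, 6, 79307, 20),
  (137453, 6, 39217, 21),
  (137454, 6, 39402, 13),
  (137459, 7, 193719, 15),
  (137463, 7, 38327, 23),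
  (137467, 8, 234757, 43),
  (137479, 7, 106900, 22),
  (137483, 7, 24858, 25),
  (137487, 7, 12388, 24),
  (137494, 5, 139550, 11),
  (137497, 6, 22670, 19),
  (137506, 6, 302, 7),
  (137510, 7, 41316, 24),
  (137514, 7, 74010, 25),
  (137517, 6, 210219, 39),
  (137531, 7, 123162, 25),
  (137535, 7, 78308, 24),
  (137537, 6, 133542, 19),
  (137545, 6, 26902, 25),
  (137546, 6, 4442, 23),
  (137559, 6, 239690, 23),
  (137563, 7, 83245, 19),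
  (137567, 6, 37278, 23),
  (137571, 7, 106806, 22),
  (137575, 7, 215326, 25),
  (137586, 6, 194634, 6),
  (137589, 6, 194865, 15),
  (137590, 7, 79985, 20),
  (137594, 6, 35194, 15),
  (137597, 7, 117014, 25),
  (137601, 6, 35046, 19),
  (137605, 6, 114762, 23),
  (137606, 5, 398, 2),
  (137614, 5, 398, 14),
  (137623, 6, 211969, 2),
  (137631, 6, 37294, 23),
  (137635, 7, 106782, 22),
  (137639, 7, 106910, 22),
  (137647, 7, 108954, 22),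
  (137650, 5, 74158, 7),
  (137653, 7, 248110, 24),
  (137654, 7, 144603, 25),
  (137658, 5, 147646, 1),
  (137667, 6, 106812, 22),
  (137671, 7, 106940, 22),
  (137675, 6, 146731, 25),
  (137686, 6, 190538, 23),
  (137690, 6, 244182, 11),
  (137693, 6, 37054, 23),
  (137694, 6, 37182, 23),
  (137697, 6, 74046, 22),
  (137698, 6, 252326, 8),
  (137702, 7, 106686, 22),
  (137705, 7, 76090, 22),
  (137706, 5, 252334, 8),
  (137710, 6, 250286, 8),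
  (137715, 8, 251927, 17),
  (137723, 8, 63583, 41),
  (138241, 7, 106820, 22),
  (138245, 7, 20572, 24),
  (138247, 7, 24874, 25),
  (138249, 7, 36924, 24),
  (138251, 7, 147514, 25),
  (138255, 7, 33877, 20),
  (138289, 7, 135420, 24),
  (138295, 6, 248903, 21),
  (138297, 5, 319, 12),
  (138301, 6, 89245, 19),
  (138303, 6, 36257, 21),
  (138321, 7, 53630, 25),
  (138327, 6, 250955, 21),
  (138329, 7, 135382, 23),
  (138331, 7, 135638, 23),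
  (138333, 6, 215225, 37),
  (138335, 6, 38305, 21),
  (138337, 6, 46321, 26),
  (138341, 6, 169107, 23),
  (138343, 5, 74214, 22),
  (138347, 6, 213182, 25),
  (138349, 7, 225454, 25),
  (138351, 6, 39329, 21),
  (138389, 7, 252234, 23),
  (138395, 7, 144737, 25),
  (138397, 7, 168102, 23),
  (138399, 7, 168358, 23),
  (138401, 6, 47349, 26),
  (138403, 7, 190746, 24),
  (138405, 5, 431, 4),
  (138409, 7, 190794, 24),
  (138411, 7, 138295, 40),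
  (138415, 6, 190842, 24),
  (138433, 6, 15541, 26),
  (138437, 7, 106988, 22),
  (138439, 6, 74220, 22),
  (138441, 6, 75207, 20),
  (138445, 7, 168114, 23),
  (138481, 8, 228443, 13),
  (138483, 8, 215069, 37),
  (138485, 8, 169143, 23),
  (138487, 7, 244135, 16),
  (138489, 8, 159945, 42),
  (138491, 7, 44073, 44),
  (138493, 7, 104707, 41),
  (138497, 7, 61556, 24),
  (138499, 7, 160026, 25),
  (138503, 7, 98634, 23),
  (138507, 7, 20596, 24),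
  (138509, 7, 20754, 25),
  (138545, 7, 258322, 25),
  (138547, 7, 119284, 24),
  (138549, 7, 250130, 25),
  (138551, 6, 162831, 6),
  (138557, 6, 119058, 25),
  (138577, 7, 194838, 25),
  (138583, 7, 250987, 21),
  (138585, 6, 153999, 19),
  (138587, 7, 185729, 21),
  (138593, 7, 190733, 24),
  (138595, 6, 74102, 22),
  (138597, 7, 138691, 40),
  (138645, 7, 124974, 24),
  (138647, 7, 124990, 24),
  (138655, 7, 125054, 24),
  (138657, 7, 125097, 26),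
  (138663, 6, 190782, 24),
  (138667, 5, 431, 8),
  (138689, 7, 166375, 19),
  (138691, 6, 74108, 22),
  (138699, 7, 135674, 23),
  (138701, 6, 168122, 23),
  (138743, 7, 238009, 39),
  (138749, 7, 54367, 43),
  (139266, 4, 4162, 25),
  (139268, 4, 32780, 23),
  (139271, 7, 94268, 24),
  (139272, 3, 14, 23),
  (139275, 6, 197006, 23),
  (139278, 5, 32992, 39),
  (139282, 4, 36866, 25),
  (139284, 4, 4172, 23),
  (139288, 4, 2058, 23),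
  (139291, 6, 110812, 24),
  (139301, 6, 90354, 25),
  (139305, 6, 213474, 25),
  (139308, 6, 205266, 25),
  (139311, 7, 225778, 25),
  (139317, 7, 165922, 21),
  (139321, 7, 233676, 24),
  (139322, 6, 314, 13),
  (139333, 6, 24694, 25),
  (139334, 5, 32992, 42),
  (139337, 6, 147814, 25),
  (139338, 4, 33104, 37),
  (139340, 4, 33104, 38),
  (139347, 6, 49286, 20),
  (139349, 6, 57398, 25),
  (139361, 6, 82150, 25),
  (139364, 6, 73942, 25),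
  (139367, 7, 252366, 21),
  (139371, 6, 7569, 23),
  (139378, 6, 49292, 20),
  (139380, 6, 156020, 4),
  (139383, 7, 12687, 19),
  (139387, 7, 49310, 20),
  (139395, 6, 213420, 23),
  (139401, 6, 82094, 23),
  (139402, 6, 147758, 23),
  (139407, 7, 67834, 24),
  (139413, 6, 2218, 24),
  (139417, 6, 4332, 19),
  (139418, 6, 410, 13),
  (139425, 6, 196785, 11),
  (139431, 7, 199098, 24),
  (139432, 7, 163896, 20),
  (139435, 6, 7585, 23),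
  (139437, 7, 199146, 24),
  (139451, 7, 180254, 20),
  (139453, 7, 12526, 19),
  (139454, 5, 98464, 39),
  (139457, 6, 90300, 23),
  (139458, 6, 205266, 7),
  (139463, 7, 254396, 23),
  (139469, 6, 36145, 25),
  (139474, 6, 180356, 20),
  (139476, 6, 205268, 4),
  (139479, 7, 233522, 21),
  (139483, 7, 223674, 23),
  (139491, 7, 129230, 21),
  (139493, 6, 36017, 25),
  (139497, 6, 36257, 25),
  (139498, 6, 7473, 23),
  (139500, 6, 36241, 25),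
  (139509, 7, 12750, 19),
  (139510, 5, 98400, 42),
  (139514, 5, 164112, 37),
  (139516, 5, 163920, 38),
  (139522, 4, 32842, 25),
  (139524, 4, 36868, 23),
  (139528, 4, 4102, 23),
  (139531, 6, 201094, 23),
  (139533, 6, 69670, 19),
  (139538, 3, 74, 25),
  (139540, 3, 76, 23),
  (139543, 6, 24650, 25),
  (139544, 4, 6146, 23),
  (139547, 6, 147530, 25),
  (139550, 4, 32928, 39),
  (139555, 6, 116966, 21),
  (139562, 6, 155962, 8),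
  (139564, 6, 32889, 20),
  (139567, 7, 61828, 24),
  (139571, 6, 81994, 25),
  (139573, 6, 90178, 25),
  (139577, 6, 213058, 25),
  (139578, 6, 196682, 25),
  (139580, 5, 316, 16),
  (139589, 6, 110740, 23),
  (139605, 6, 73804, 23),
  (139606, 4, 32928, 42),
  (139609, 7, 49362, 20),
  (139610, 5, 33040, 37),
  (139612, 5, 33040, 38),
  (139617, 6, 33002, 20),
  (139620, 6, 372, 17),
  (139629, 7, 78118, 19),
  (139639, 6, 39389, 23),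
  (139643, 7, 49374, 20),
  (139645, 7, 78126, 19),
  (139651, 7, 67742, 24),
  (139658, 6, 205210, 8),
  (139660, 6, 69730, 19),
  (139663, 7, 163959, 20),
  (139667, 6, 213004, 23),
  (139669, 6, 81996, 23),
  (139679, 6, 38267, 25),
  (139691, 7, 163966, 20),
  (139694, 5, 98400, 39),
  (139697, 6, 90401, 3),
  (139698, 6, 133526, 24),
  (139700, 6, 149522, 21),
  (139703, 6, 39405, 23),
  (139707, 6, 38379, 25),
  (139709, 7, 77934, 19),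
  (139710, 6, 38363, 25),
  (139713, 7, 61546, 21),
  (139716, 6, 468, 17),
  (139725, 7, 69990, 19),
  (139729, 6, 90124, 23),
  (139730, 5, 466, 14),
  (139732, 6, 24652, 23),
  (139739, 7, 180438, 20),
  (139741, 7, 69998, 19),
  (139747, 7, 164078, 20),
  (139749, 7, 78150, 19),
  (139750, 5, 98464, 42),
  (139754, 5, 163920, 37),
  (139756, 5, 164112, 38),
  (139763, 7, 180430, 20),
  (139765, 6, 39165, 23),
  (139766, 6, 39293, 23),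
  (139769, 7, 180442, 20),
  (140295, 6, 24698, 25),
  (140299, 6, 147818, 25),
  (140309, 7, 61498, 25),
  (140311, 7, 94380, 24),
  (140313, 6, 204977, 26),
  (140323, 5, 82154, 25),
  (140333, 6, 162831, 5),
  (140339, 6, 34978, 21),
  (140351, 6, 83431, 21),
  (140353, 6, 34978, 20),
  (140365, 7, 106910, 23),
  (140381, 6, 192830, 25),
  (140405, 6, 127166, 25),
  (140407, 6, 36145, 4),
  (140409, 6, 250286, 25),
  (140411, 7, 51358, 20),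
  (140417, 7, 165922, 20),
  (140429, 7, 76010, 24),
  (140431, 6, 211969, 7),
  (140433, 7, 98482, 21),
  (140435, 7, 32946, 21),
  (140453, 7, 207274, 24),
  (140455, 6, 38065, 25),
  (140457, 6, 116989, 19),
  (140459, 6, 38305, 25),
  (140469, 6, 170213, 23),
  (140473, 6, 138405, 23),
  (140485, 7, 123324, 23),
  (140487, 7, 27933, 26),
  (140491, 7, 166070, 20),
  (140501, 7, 233650, 21),
  (140503, 6, 204871, 13),
  (140525, 8, 62959, 10),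
  (140529, 6, 175221, 26),
  (140531, 7, 182414, 20),
  (140541, 7, 39355, 4),
  (140549, 7, 61506, 25),
  (140551, 7, 20628, 24),
  (140555, 6, 205089, 26),
  (140565, 7, 94228, 24),
  (140569, 6, 90401, 26),
  (140605, 7, 225346, 25),
  (140607, 5, 319, 16),
  (140611, 6, 35046, 20),
  (140621, 6, 194630, 25),
  (140623, 7, 76029, 24),
  (140625, 6, 118914, 21),
  (140637, 6, 161862, 25),
  (140645, 6, 36215, 8),
  (140661, 6, 96326, 25),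
  (140665, 6, 219206, 25),
  (140675, 7, 122978, 21),
  (140685, 7, 119206, 23),
  (140687, 7, 250022, 23),
  (140689, 7, 182338, 20),
  (140701, 6, 7569, 14),
  (140711, 6, 178473, 26),
  (140713, 7, 207310, 24),
  (140741, 6, 36311, 8),
  (140747, 7, 225462, 23),
  (140757, 7, 10415, 24),
  (140763, 6, 184341, 22),
  (140769, 7, 63726, 21),
  (140785, 7, 141711, 24),
  (141319, 6, 197068, 23),
  (141321, 6, 84142, 19),
  (141331, 7, 53298, 25),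
  (141335, 7, 94364, 24),
  (141338, 6, 286, 13),
  (141341, 6, 83978, 19),
  (141345, 7, 51526, 21),
  (141350, 5, 155958, 14),
  (141355, 7, 217586, 25),
  (141359, 7, 200019, 22),
  (141362, 6, 155654, 4),
  (141365, 7, 123042, 25),
  (141371, 6, 7487, 4),
  (141378, 5, 139606, 7),
  (141381, 6, 73948, 23),
  (141382, 5, 139606, 14),
  (141387, 7, 151926, 25),
  (141397, 6, 155793, 22),
  (141403, 6, 240090, 23),
  (141407, 7, 18681, 24),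
  (141411, 7, 121294, 21),
  (141415, 6, 191489, 5),
  (141418, 6, 6518, 5),
  (141421, 7, 227354, 19),
  (141427, 7, 118966, 25),
  (141431, 7, 127142, 25),
  (141434, 7, 124117, 22),
  (141437, 7, 254374, 25),
  (141438, 6, 35194, 13),
  (141442, 5, 205206, 7),
  (141445, 5, 82156, 23),
  (141458, 6, 204806, 4),
  (141467, 6, 7583, 4),
  (141475, 7, 125382, 21),
  (141479, 6, 39329, 23),
  (141482, 7, 121317, 26),
  (141486, 7, 215538, 24),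
  (141495, 6, 177361, 22),
  (141497, 7, 149962, 24),
  (141502, 6, 213182, 8),
  (141507, 6, 240711, 7),
  (141514, 7, 89509, 26),
  (141530, 6, 190842, 23),
  (141534, 6, 35290, 13),
  (141537, 6, 87531, 20),
  (141538, 7, 96654, 21),
  (141541, 6, 39089, 23),
  (141542, 6, 39217, 23),
  (141547, 8, 235775, 11),
  (141553, 7, 170290, 21),
  (141571, 7, 57434, 25),
  (141575, 7, 12452, 24),
  (141582, 5, 139550, 8),
  (141587, 7, 94244, 24),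
  (141593, 6, 118820, 24),
  (141601, 7, 122962, 25),
  (141605, 7, 182374, 21),
  (141606, 5, 155958, 8),
  (141611, 7, 61860, 24),
  (141615, 6, 155663, 17),
  (141617, 7, 6294, 19),
  (141618, 5, 155958, 16),
  (141627, 7, 132327, 21),
  (141633, 6, 156065, 22),
  (141643, 6, 242134, 23),
  (141649, 6, 213137, 22),
  (141650, 5, 139606, 16),
  (141654, 6, 342, 14),
  (141659, 6, 244178, 23),
  (141674, 6, 190782, 8),
  (141683, 6, 36145, 16),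
  (141690, 7, 206942, 25),
  (141693, 6, 110851, 26),
  (141694, 6, 6522, 7),
  (141701, 6, 84142, 24),
  (141702, 5, 205206, 8),
  (141707, 6, 250342, 23),
  (141711, 6, 7569, 8),
  (141718, 6, 204806, 5),
  (141723, 6, 252386, 23),
  (141731, 6, 46251, 25),
  (141737, 6, 146827, 22),
  (141738, 6, 139454, 13),
  (141741, 7, 129178, 19),
  (141753, 7, 201877, 22),
  (141767, 6, 84159, 24),
  (141769, 6, 127222, 23),
  (141770, 6, 240030, 8),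
  (141773, 7, 252042, 19),
  (141779, 7, 250130, 21),
  (141783, 5, 471, 14),
  (141785, 6, 129266, 23),
  (141793, 6, 44195, 25),
  (141803, 7, 38389, 8),
  (142337, 7, 20602, 25),
  (142339, 7, 77868, 24),
  (142341, 7, 86044, 24),
  (142353, 7, 69820, 24),
  (142359, 7, 57386, 25),
  (142377, 6, 84159, 19),
  (142379, 7, 213498, 25),
  (142381, 7, 249948, 24),
  (142393, 7, 233724, 24),
  (142397, 7, 258474, 25),
  (142411, 6, 92377, 24),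
  (142413, 6, 214377, 21),
  (142415, 7, 156014, 25),
  (142427, 7, 239834, 23),
  (142431, 7, 26873, 24),
  (142433, 7, 86270, 25),
  (142449, 6, 177265, 26),
  (142455, 7, 193625, 26),
  (142473, 7, 115182, 23),
  (142489, 7, 26826, 24),
  (142491, 7, 26842, 24),
  (142495, 7, 215274, 23),
  (142499, 7, 137697, 23),
  (142501, 7, 42169, 25),
  (142503, 7, 223674, 24),
  (142513, 6, 178293, 26),
  (142517, 7, 100786, 21),
  (142519, 6, 46321, 25),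
  (142529, 6, 83431, 20),
  (142531, 7, 254204, 23),
  (142533, 7, 249157, 20),
  (142545, 6, 146485, 26),
  (142569, 8, 259215, 5),
  (142575, 8, 253307, 22),
  (142585, 7, 39359, 4),
  (142593, 7, 28852, 24),
  (142599, 7, 53338, 25),
  (142611, 7, 28762, 25),
  (142613, 7, 20562, 25),
  (142615, 7, 69684, 24),
  (142633, 6, 175491, 22),
  (142649, 7, 225362, 25),
  (142651, 6, 93339, 19),
  (142653, 7, 217170, 25),
  (142655, 7, 102708, 24),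
  (142669, 7, 78294, 23),
  (142671, 7, 198121, 21),
  (142681, 7, 154023, 19),
  (142683, 6, 216203, 19),
  (142685, 6, 93285, 20),
  (142689, 7, 55790, 21),
  (142693, 7, 186606, 21),
  (142695, 7, 252014, 21),
  (142705, 7, 252290, 21),
  (142707, 6, 208027, 19),
  (142709, 7, 88150, 25),
  (142711, 6, 45347, 26),
  (142729, 6, 178569, 22),
  (142735, 7, 92414, 24),
  (142745, 7, 26830, 24),
  (142747, 7, 252130, 23),
  (142749, 6, 159077, 20),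
  (142751, 6, 168085, 22),
  (142753, 6, 177547, 22),
  (142755, 7, 125286, 21),
  (142759, 6, 170409, 23),
  (142769, 7, 201937, 22),
  (142785, 7, 61930, 21),
  (142787, 7, 258292, 23),
  (142801, 7, 254220, 23),
  (142803, 7, 123148, 23),
  (142805, 6, 216421, 20),
  (142807, 7, 53650, 21),
  (142825, 7, 38391, 8),
  (142841, 8, 138493, 23),
  (142843, 7, 213119, 2),
  (142845, 7, 90575, 1),
  (142847, 8, 130351, 3),
  (143371, 6, 90417, 26),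
  (143373, 6, 20646, 19),
  (143379, 6, 155825, 26),
  (143381, 6, 20622, 19),
  (143390, 5, 139550, 15),
  (143394, 7, 70082, 25),
  (143399, 6, 94706, 25),
  (143401, 7, 41018, 20),
  (143402, 6, 314, 5),
  (143404, 6, 38979, 23),
  (143409, 7, 115106, 25),
  (143412, 6, 213220, 24),
  (143415, 7, 28815, 19),
  (143418, 7, 57372, 20),
  (143420, 6, 155964, 4),
  (143426, 5, 139338, 16),
  (143433, 7, 41138, 20),
  (143434, 6, 139610, 14),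
  (143439, 6, 39378, 23),
  (143441, 7, 57474, 20),
  (143447, 7, 20879, 19),
  (143449, 7, 180262, 25),
  (143452, 5, 139340, 13),
  (143455, 6, 39382, 23),
  (143462, 6, 6522, 5),
  (143467, 6, 156027, 14),
  (143469, 7, 231913, 24),
  (143470, 7, 209110, 25),
  (143475, 7, 119206, 25),
  (143478, 6, 194630, 4),
  (143483, 7, 250022, 25),
  (143485, 6, 155725, 13),
  (143486, 7, 57501, 20),
  (143490, 6, 205210, 7),
  (143500, 6, 100578, 24),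
  (143503, 6, 39394, 23),
  (143508, 6, 34978, 24),
  (143514, 7, 35026, 24),
  (143526, 6, 155806, 12),
  (143533, 7, 172091, 20),
  (143534, 6, 205102, 15),
  (143547, 7, 166362, 24),
  (143549, 7, 28910, 19),
  (143550, 6, 205118, 15),
  (143555, 6, 243089, 16),
  (143563, 7, 6578, 23),
  (143565, 6, 39154, 23),
  (143574, 6, 243782, 4),
  (143581, 6, 39313, 4),
  (143582, 6, 39286, 23),
  (143601, 6, 175317, 26)]

theorem chk_rows1_15 : rows1_15.all (rowBP1 tr1 bm1 gensLitP gensListP 1) = true := by decide +kernel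

/-- Rows 12800 to 13599. -/
def rows1_16 : List (ℕ × ℕ × ℕ × ℕ) := [(143604, 6, 90460, 8),
  (143622, 5, 139550, 12),
  (143627, 6, 156033, 26),
  (143635, 6, 196622, 23),
  (143645, 6, 86084, 24),
  (143649, 7, 37316, 24),
  (143652, 5, 316, 17),
  (143657, 7, 4548, 24),
  (143658, 7, 41084, 20),
  (143666, 6, 314, 7),
  (143671, 7, 127300, 24),
  (143673, 7, 57434, 20),
  (143676, 6, 94250, 19),
  (143681, 7, 41186, 20),
  (143684, 5, 139340, 8),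
  (143689, 7, 51526, 25),
  (143695, 6, 39386, 23),
  (143697, 6, 73742, 23),
  (143698, 6, 139610, 16),
  (143706, 5, 139338, 5),
  (143711, 7, 26958, 25),
  (143717, 6, 194561, 17),
  (143725, 7, 94502, 19),
  (143726, 5, 194570, 17),
  (143731, 6, 7583, 23),
  (143733, 7, 223558, 25),
  (143739, 7, 57566, 20),
  (143741, 7, 45451, 26),
  (143742, 6, 6518, 7),
  (143745, 6, 86084, 19),
  (143751, 7, 100542, 24),
  (143754, 7, 100566, 24),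
  (143759, 6, 39402, 23),
  (143761, 5, 81934, 23),
  (143762, 6, 147470, 23),
  (143770, 6, 410, 14),
  (143772, 6, 35046, 24),
  (143781, 7, 231854, 24),
  (143782, 6, 156062, 12),
  (143787, 6, 169387, 25),
  (143789, 6, 178569, 26),
  (143795, 6, 7599, 23),
  (143798, 6, 147870, 12),
  (143803, 6, 188510, 20),
  (143806, 6, 74046, 15),
  (143811, 7, 86341, 19),
  (143813, 6, 39389, 8),
  (143821, 6, 39162, 23),
  (143822, 5, 243722, 17),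
  (143835, 5, 475, 14),
  (143838, 7, 39294, 23),
  (143849, 6, 167331, 25),
  (143852, 6, 213340, 13),
  (143855, 7, 39419, 23),
  (143857, 6, 7359, 23),
  (143858, 6, 7487, 23),
  (143860, 7, 104843, 26),
  (143865, 7, 188634, 20),
  (143866, 7, 188636, 20),
  (143868, 7, 166375, 24),
  (143871, 7, 244195, 11),
  (144385, 6, 69724, 24),
  (144387, 6, 24977, 26),
  (144393, 6, 74033, 26),
  (144403, 6, 155793, 26),
  (144409, 6, 204849, 26),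
  (144411, 6, 32931, 21),
  (144423, 7, 225388, 24),
  (144429, 7, 225530, 25),
  (144437, 6, 127418, 25),
  (144439, 7, 249157, 21),
  (144447, 6, 155663, 13),
  (144455, 7, 88073, 39),
  (144461, 7, 174145, 38),
  (144463, 6, 203817, 19),
  (144469, 6, 209230, 23),
  (144471, 7, 78158, 23),
  (144499, 7, 59534, 20),
  (144505, 7, 250030, 25),
  (144507, 6, 38193, 4),
  (144517, 7, 108714, 24),
  (144519, 7, 108730, 24),
  (144525, 7, 108778, 24),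
  (144527, 7, 170466, 23),
  (144541, 7, 211029, 22),
  (144543, 6, 7569, 4),
  (144545, 7, 174122, 20),
  (144555, 6, 240090, 24),
  (144563, 6, 190478, 20),
  (144571, 7, 174554, 24),
  (144577, 7, 227598, 23),
  (144587, 6, 137650, 23),
  (144593, 7, 190594, 20),
  (144595, 7, 128073, 21),
  (144601, 7, 137398, 23),
  (144603, 6, 204875, 13),
  (144623, 8, 240123, 24),
  (144629, 7, 61889, 40),
  (144631, 7, 174341, 38),
  (144637, 7, 88101, 39),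
  (144641, 6, 45268, 24),
  (144643, 6, 205217, 26),
  (144649, 6, 156065, 26),
  (144659, 6, 74145, 26),
  (144665, 6, 24993, 26),
  (144667, 6, 59478, 20),
  (144677, 6, 7487, 8),
  (144679, 7, 53716, 24),
  (144685, 7, 127298, 25),
  (144687, 7, 127306, 25),
  (144693, 6, 199761, 22),
  (144703, 7, 94538, 25),
  (144711, 7, 194894, 25),
  (144719, 6, 185475, 21),
  (144725, 6, 162118, 25),
  (144727, 7, 174357, 38),
  (144733, 7, 88229, 39),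
  (144737, 6, 38267, 8),
  (144745, 7, 137371, 23),
  (144753, 7, 219462, 25),
  (144755, 7, 59598, 20),
  (144761, 7, 150613, 22),
  (144763, 7, 88398, 25),
  (144773, 6, 7583, 8),
  (144775, 7, 108734, 24),
  (144781, 7, 108782, 24),
  (144801, 7, 174186, 20),
  (144803, 6, 240030, 24),
  (144817, 6, 190538, 20),
  (144827, 7, 190558, 20),
  (144833, 6, 242689, 17),
  (144835, 7, 252073, 19),
  (144843, 6, 54419, 21),
  (144851, 7, 190662, 20),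
  (144857, 7, 137406, 23),
  (144871, 7, 88201, 39),
  (144877, 7, 174161, 38),
  (144879, 7, 213343, 13),
  (144885, 8, 190667, 20),
  (145410, 5, 139550, 7),
  (145413, 6, 88106, 19),
  (145422, 5, 139550, 14),
  (145430, 5, 139550, 2),
  (145433, 6, 88198, 19),
  (145455, 6, 155967, 14),
  (145459, 7, 119218, 25),
  (145463, 7, 87431, 39),
  (145471, 6, 175317, 22),
  (145475, 6, 243726, 23),
  (145479, 7, 29030, 25),
  (145491, 6, 241678, 23),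
  (145495, 7, 61734, 25),
  (145503, 6, 39318, 23),
  (145509, 6, 90598, 25),
  (145510, 7, 78278, 25),
  (145513, 6, 213238, 25),
  (145517, 6, 156029, 14),
  (145521, 6, 177361, 26),
  (145522, 6, 192582, 4),
  (145525, 7, 173413, 37),
  (145530, 7, 233622, 25),
  (145533, 7, 254118, 25),
  (145534, 6, 194634, 4),
  (145539, 6, 211983, 7),
  (145551, 7, 177465, 25),
  (145555, 6, 249870, 23),
  (145563, 6, 6630, 23),
  (145567, 6, 39334, 23),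
  (145569, 7, 248202, 24),
  (145570, 7, 177289, 25),
  (145574, 6, 196798, 11),
  (145577, 6, 30059, 20),
  (145581, 6, 248298, 24),
  (145582, 7, 248306, 24),
  (145585, 6, 178389, 26),
  (145590, 6, 204974, 11),
  (145597, 6, 146581, 22),
  (145601, 6, 244113, 16),
  (145606, 7, 88189, 22),
  (145613, 7, 235562, 19),
  (145617, 6, 126990, 23),
  (145618, 6, 192526, 23),
  (145622, 6, 243778, 4),
  (145625, 6, 6390, 23),
  (145626, 6, 6518, 23),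
  (145629, 6, 39094, 23),
  (145630, 6, 39222, 23),
  (145635, 7, 7667, 23),
  (145643, 7, 145577, 38),
  (145647, 8, 252215, 3),
  (145651, 7, 116875, 42),
  (145663, 7, 145743, 38),
  (145665, 6, 2222, 19),
  (145674, 6, 286, 10),
  (145677, 6, 71850, 19),
  (145682, 5, 139550, 16),
  (145685, 6, 102500, 24),
  (145694, 6, 286, 14),
  (145703, 6, 248039, 21),
  (145711, 7, 118019, 21),
  (145715, 6, 163135, 7),
  (145719, 6, 213338, 25),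
  (145723, 6, 90458, 25),
  (145731, 6, 239630, 23),
  (145743, 6, 39322, 23),
  (145751, 7, 149854, 25),
  (145759, 6, 39326, 23),
  (145761, 7, 119995, 20),
  (145762, 6, 194870, 8),
  (145765, 6, 173173, 37),
  (145774, 6, 192526, 17),
  (145777, 6, 39217, 16),
  (145782, 7, 199006, 25),
  (145795, 6, 247822, 23),
  (145803, 5, 6634, 23),
  (145811, 7, 51358, 24),
  (145823, 5, 415, 14),
  (145829, 6, 248238, 24),
  (145834, 6, 155822, 1),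
  (145841, 6, 39158, 19),
  (145849, 6, 55510, 19),
  (145850, 6, 90510, 10),
  (145853, 7, 108730, 19),
  (145858, 6, 244118, 8),
  (145865, 5, 6394, 23),
  (145866, 6, 244126, 8),
  (145869, 6, 39098, 23),
  (145870, 6, 241678, 17),
  (145873, 7, 76171, 26),
  (145878, 7, 88451, 26),
  (145885, 5, 477, 14),
  (145891, 7, 110889, 40),
  (145899, 7, 87171, 39),
  (145903, 7, 111033, 40),
  (145907, 8, 97735, 1),
  (145915, 7, 27743, 41),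
  (145919, 7, 39359, 23),
  (146467, 6, 155663, 5),
  (146471, 6, 90602, 25),
  (146475, 6, 213242, 25),
  (146477, 7, 249884, 24),
  (146481, 7, 138439, 23),
  (146485, 5, 319, 4),
  (146491, 7, 241836, 24),
  (146495, 7, 54389, 20),
  (146497, 7, 243982, 23),
  (146501, 7, 125097, 24),
  (146505, 6, 91367, 20),
  (146509, 7, 246069, 22),
  (146521, 6, 59593, 24),
  (146523, 7, 180286, 25),
  (146525, 7, 157909, 22),
  (146561, 7, 173097, 25),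
  (146569, 6, 25959, 20),
  (146571, 6, 125146, 24),
  (146573, 6, 204815, 7),
  (146579, 7, 119054, 23),
  (146581, 5, 415, 4),
  (146583, 6, 177265, 25),
  (146585, 7, 137446, 23),
  (146587, 7, 19611, 43),
  (146591, 6, 33203, 21),
  (146657, 8, 130521, 6),
  (146661, 7, 168327, 40),
  (146663, 8, 128263, 17),
  (146665, 7, 86361, 42),
  (146667, 7, 114963, 39),
  (146673, 7, 114735, 39),
  (146675, 7, 36285, 4),
  (146677, 7, 140555, 38),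
  (146679, 7, 235959, 16),
  (146681, 7, 39351, 4),
  (146687, 8, 174571, 8),
  (146723, 7, 258394, 25),
  (146729, 7, 29172, 24),
  (146731, 5, 319, 8),
  (146733, 7, 19613, 19),
  (146735, 6, 4596, 24),
  (146749, 6, 155967, 7),
  (146751, 6, 140323, 38),
  (146753, 7, 239886, 23),
  (146755, 7, 220331, 19),
  (146759, 6, 186718, 25),
  (146763, 7, 137690, 23),
  (146765, 7, 55638, 25),
  (146769, 7, 237838, 23),
  (146775, 6, 106830, 23),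
  (146779, 7, 184707, 21),
  (146781, 7, 170142, 23),
  (146827, 5, 415, 8),
  (146833, 7, 34103, 20),
  (146835, 6, 7583, 14),
  (146837, 7, 59566, 24),
  (146841, 7, 59598, 24),
  (146843, 7, 137710, 23),
  (146845, 6, 173435, 25),
  (146913, 7, 45537, 44),
  (146919, 7, 39419, 8),
  (146921, 7, 205039, 12),
  (146923, 7, 140313, 38),
  (146941, 7, 220533, 20),
  (147457, 4, 36866, 20),
  (147458, 4, 36868, 20),
  (147463, 6, 246212, 21),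
  (147464, 4, 81936, 19),
  (147470, 5, 8220, 44),
  (147472, 3, 304, 1),
  (147475, 6, 18658, 21),
  (147477, 7, 57586, 25),
  (147481, 7, 53298, 20),
  (147484, 6, 34831, 23),
  (147489, 4, 36874, 20),
  (147490, 4, 36876, 20),
  (147496, 3, 176, 19),
  (147501, 6, 182, 19),
  (147502, 7, 209170, 25),
  (147504, 3, 304, 8),
  (147509, 6, 158, 19),
  (147513, 6, 188, 19),
  (147514, 6, 314, 17),
  (147516, 5, 186, 19),
  (147519, 5, 191, 19),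
  (147523, 6, 20646, 25),
  (147525, 6, 24758, 25),
  (147526, 5, 16426, 41),
  (147530, 5, 196616, 38),
  (147535, 7, 215538, 22),
  (147537, 6, 49382, 25),
  (147540, 7, 41174, 25),
  (147544, 5, 155720, 10),
  (147549, 7, 67945, 24),
  (147550, 6, 39222, 1),
  (147557, 6, 406, 19),
  (147558, 7, 122962, 22),
  (147567, 7, 439, 19),
  (147572, 6, 410, 19),
  (147575, 5, 415, 19),
  (147589, 7, 201114, 22),
  (147594, 6, 167956, 20),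
  (147599, 7, 203226, 22),
  (147607, 6, 70777, 25),
  (147621, 6, 214, 19),
  (147628, 6, 242, 19),
  (147631, 5, 247, 19),
  (147633, 5, 24593, 37),
  (147640, 6, 248, 19),
  (147643, 5, 253, 19),
  (147646, 4, 12308, 44),
  (147650, 7, 198666, 41),
  (147655, 6, 72761, 25),
  (147656, 5, 213480, 1),
  (147659, 7, 153978, 22),
  (147661, 7, 219578, 22),
  (147662, 6, 252326, 10),
  (147667, 7, 42281, 22),
  (147669, 6, 68721, 25),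
  (147679, 7, 38397, 10),
  (147681, 6, 468, 19),
  (147682, 6, 213474, 7),
  (147684, 5, 466, 19),
  (147687, 5, 471, 19),
  (147696, 6, 472, 19),
  (147699, 5, 477, 19),
  (147702, 4, 20490, 41),
  (147706, 5, 196872, 38),
  (147711, 7, 191647, 15),
  (147713, 4, 36930, 20),
  (147714, 4, 36932, 20),
  (147720, 4, 82064, 19),
  (147728, 3, 304, 4),
  (147737, 6, 73903, 42),
  (147738, 6, 155962, 4),
  (147743, 7, 258180, 24),
  (147745, 4, 36938, 20),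
  (147746, 4, 36940, 20),
  (147751, 6, 65559, 19),
  (147752, 4, 65584, 19),
  (147755, 6, 176388, 24),
  (147757, 6, 196630, 22),
  (147758, 5, 8204, 44),
  (147760, 3, 304, 2),
  (147765, 7, 217476, 24),
  (147770, 7, 26742, 40),
  (147775, 6, 65599, 19),
  (147785, 6, 215174, 25),
  (147786, 6, 74033, 19),
  (147788, 6, 206982, 25),
  (147793, 6, 35223, 43),
  (147794, 6, 202762, 41),
  (147796, 6, 372, 4),
  (147805, 6, 74046, 19),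
  (147814, 5, 16394, 41),
  (147818, 5, 197000, 38),
  (147823, 7, 157838, 25),
  (147826, 6, 2222, 21),
  (147831, 7, 59534, 25),
  (147832, 5, 155720, 2),
  (147835, 7, 198749, 24),
  (147837, 7, 190598, 25),
  (147838, 6, 39290, 2),
  (147849, 6, 6331, 44),
  (147850, 6, 59446, 40),
  (147852, 6, 428, 5),
  (147857, 5, 24609, 37),
  (147858, 6, 67862, 24),
  (147860, 6, 10546, 21),
  (147870, 5, 12300, 44),
  (147875, 6, 168018, 22),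
  (147877, 7, 65622, 19),
  (147881, 6, 135190, 22),
  (147884, 7, 133222, 24),
  (147895, 6, 65631, 19),
  (147899, 7, 198750, 24),
  (147901, 6, 65662, 19),
  (147905, 6, 74183, 42),
  (147906, 6, 482, 14),
  (147911, 7, 225770, 22),
  (147917, 6, 74102, 19),
  (147926, 5, 20514, 41),
  (147929, 6, 74108, 19),
  (147930, 5, 196744, 38),
  (147937, 7, 53268, 21),
  (147940, 6, 6219, 26),
  (147944, 6, 213064, 2),
  (147949, 7, 10621, 21),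
  (147950, 6, 39402, 2),
  (147967, 7, 210293, 13),
  (148485, 6, 229778, 22),
  (148489, 6, 168284, 24),
  (148511, 7, 188922, 25),
  (148517, 6, 38923, 20),
  (148519, 6, 38927, 20),
  (148523, 6, 172054, 22),
  (148529, 6, 84070, 21),
  (148541, 6, 97471, 19),
  (148543, 6, 97281, 19),
  (148557, 7, 160190, 25),
  (148559, 7, 248306, 22),
  (148565, 7, 84330, 21),
  (148569, 6, 38267, 10),
  (148577, 6, 102564, 21),
  (148597, 6, 36145, 17),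
  (148599, 6, 211969, 19),
  (148601, 7, 55482, 20),
  (148603, 7, 246126, 25),
  (148609, 6, 168218, 22),
  (148621, 7, 115115, 23),
  (148629, 6, 42441, 22),
  (148631, 7, 92658, 21),
  (148633, 7, 186418, 20),
  (148635, 6, 215215, 23),
  (148643, 6, 176146, 22),
  (148653, 6, 126199, 19),
  (148655, 6, 213423, 16),
  (148661, 7, 206890, 24),
  (148663, 7, 92662, 21),
  (148665, 6, 129277, 19),
  (148667, 6, 129025, 19),
  (148677, 7, 192972, 21),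
  (148681, 6, 38379, 10),
  (148683, 7, 186746, 22),
  (148689, 7, 92282, 21),
  (148701, 8, 186547, 20),
  (148709, 6, 241111, 19),
  (148711, 6, 240641, 19),
  (148713, 7, 159830, 22),
  (148715, 7, 170142, 20),
  (148721, 6, 244189, 19),
  (148723, 6, 243713, 19),
  (148741, 6, 38979, 20),
  (148743, 6, 38983, 20),
  (148747, 6, 167956, 24),
  (148753, 6, 185505, 39),
  (148767, 7, 258186, 25),
  (148775, 6, 180356, 21),
  (148787, 6, 53386, 25),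
  (148799, 7, 250260, 24),
  (148801, 6, 88198, 25),
  (148813, 7, 67945, 21),
  (148815, 7, 241811, 23),
  (148823, 6, 191489, 4),
  (148827, 7, 95255, 41),
  (148835, 6, 22670, 25),
  (148845, 7, 161926, 25),
  (148847, 7, 245782, 22),
  (148855, 7, 76105, 23),
  (148857, 7, 55546, 20),
  (148859, 6, 193915, 11),
  (148867, 6, 185467, 39),
  (148877, 6, 7585, 14),
  (148889, 7, 186482, 20),
  (148911, 7, 141438, 24),
  (148917, 7, 76150, 21),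
  (148919, 6, 206910, 24),
  (148923, 7, 206942, 24),
  (148933, 7, 258474, 22),
  (148937, 7, 68907, 25),
  (148947, 7, 9593, 22),
  (148965, 7, 217170, 22),
  (148971, 6, 213067, 2),
  (148977, 6, 75902, 21),
  (148979, 7, 186606, 20),
  (148991, 8, 191901, 15),
  (149507, 6, 20658, 25),
  (149511, 6, 245956, 21),
  (149514, 7, 135570, 25),
  (149517, 6, 198930, 22),
  (149521, 7, 80014, 19),
  (149522, 5, 155958, 10),
  (149531, 7, 149731, 21),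
  (149550, 6, 302, 17),
  (149557, 7, 122978, 25),
  (149558, 6, 155654, 8),
  (149563, 7, 45564, 24),
  (149567, 5, 319, 17),
  (149574, 7, 217228, 21),
  (149579, 7, 150002, 22),
  (149583, 6, 205275, 23),
  (149593, 6, 91355, 20),
  (149597, 6, 156029, 1),
  (149602, 6, 147526, 16),
  (149611, 6, 128177, 26),
  (149615, 6, 242763, 23),
  (149619, 6, 193841, 26),
  (149625, 6, 243089, 26),
  (149626, 5, 35134, 17),
  (149629, 7, 227330, 19),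
  (149634, 6, 422, 1),
  (149637, 7, 18730, 24),
  (149643, 7, 137690, 22),
  (149647, 6, 213483, 23),
  (149657, 7, 84298, 24),
  (149661, 7, 84330, 24),
  (149662, 6, 204974, 8),
  (149665, 7, 164148, 21),
  (149666, 5, 212998, 16),
  (149679, 6, 250955, 23),
  (149683, 7, 157942, 21),
  (149687, 7, 251977, 23),
  (149693, 7, 173417, 20),
  (149694, 7, 215154, 24),
  (149706, 7, 22778, 22),
  (149709, 6, 213485, 1),
  (149710, 6, 156027, 23),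
  (149717, 7, 235538, 19),
  (149718, 6, 139750, 14),
  (149731, 6, 249249, 16),
  (149735, 7, 102708, 21),
  (149737, 7, 225430, 22),
  (149741, 6, 128075, 23),
  (149742, 6, 193611, 23),
  (149745, 7, 157822, 21),
  (149746, 7, 157886, 21),
  (149755, 7, 31825, 37),
  (149759, 7, 232783, 38),
  (149770, 6, 147470, 13),
  (149773, 6, 84114, 19),
  (149774, 7, 196762, 25),
  (149777, 7, 217252, 24),
  (149778, 5, 155958, 4),
  (149781, 7, 133474, 21),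
  (149787, 6, 162831, 4),
  (149791, 6, 74815, 19),
  (149795, 6, 229586, 22),
  (149799, 6, 164050, 22),
  (149802, 7, 139418, 25),
  (149809, 7, 133222, 21),
  (149814, 5, 155958, 11),
  (149825, 6, 141702, 19),
  (149826, 7, 86444, 21),
  (149830, 6, 358, 14),
  (149847, 7, 116894, 25),
  (149850, 7, 133291, 21),
  (149854, 6, 190842, 4),
  (149857, 6, 8267, 26),
  (149862, 7, 49362, 22),
  (149867, 6, 90187, 26),
  (149871, 7, 149662, 25),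
  (149875, 6, 155723, 26),
  (149879, 7, 215101, 24),
  (149881, 6, 204875, 26),
  (149882, 6, 213067, 26),
  (149886, 7, 215157, 24),
  (149889, 7, 18702, 24),
  (149893, 7, 209162, 22),
  (149894, 5, 212998, 5),
  (149899, 7, 145866, 22),
  (149913, 7, 63726, 19),
  (149917, 7, 232589, 38),
  (149925, 7, 108674, 19),
  (149926, 6, 422, 2),
  (149945, 7, 63742, 19),
  (149946, 6, 155822, 13),
  (149955, 6, 160234, 22),
  (149959, 5, 487, 14),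
  (149962, 6, 6630, 14),
  (149966, 7, 186494, 39),
  (149969, 7, 76899, 25),
  (149973, 7, 235666, 19),
  (149991, 6, 149567, 24),
  (149993, 6, 213069, 2),
  (149997, 6, 206153, 20),
  (150001, 7, 141438, 21),
  (150002, 6, 90598, 7),
  (150005, 7, 243842, 19),
  (150529, 6, 164242, 22),
  (150533, 6, 65993, 23),
  (150557, 6, 155967, 1),
  (150559, 7, 192972, 24),
  (150561, 6, 5191, 20),
  (150563, 6, 7235, 20),
  (150565, 6, 35917, 20),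
  (150567, 6, 33869, 20),
  (150587, 7, 246138, 25),
  (150591, 7, 254314, 25),
  (150601, 7, 151998, 25),
  (150605, 7, 160174, 25),
  (150607, 6, 156078, 25),
  (150609, 7, 215146, 21),
  (150611, 7, 215274, 21),
  (150613, 6, 36215, 10),
  (150635, 6, 213310, 25),
  (150637, 6, 155862, 22),
  (150643, 7, 114814, 25),
  (150645, 7, 177465, 26),
  (150647, 7, 122990, 25),
  (150667, 6, 245995, 23),
  (150669, 6, 7599, 10),
  (150671, 6, 27002, 24),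
  (150675, 6, 248045, 23),
  (150679, 6, 162141, 26),
  (150697, 7, 209110, 22),
  (150699, 7, 129173, 26),
  (150701, 7, 251211, 23),
  (150705, 7, 88073, 44),
  (150707, 7, 223478, 21),
  (150709, 7, 223274, 24),
  (150711, 7, 174357, 43),
  (150721, 7, 61900, 21),
  (150725, 6, 213479, 1),
  (150747, 7, 61889, 37),
  (150751, 8, 81265, 25),
  (150753, 7, 225490, 22),
  (150757, 7, 159954, 22),
  (150779, 7, 174341, 43),
  (150781, 7, 88201, 44),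
  (150785, 6, 33807, 20),
  (150787, 6, 35851, 20),
  (150789, 6, 7245, 20),
  (150791, 6, 5197, 20),
  (150811, 7, 258202, 25),
  (150813, 7, 31917, 19),
  (150815, 7, 250010, 25),
  (150819, 6, 180612, 21),
  (150823, 6, 20634, 25),
  (150843, 6, 155663, 2),
  (150847, 7, 184474, 25),
  (150867, 7, 198890, 21),
  (150871, 7, 199146, 21),
  (150889, 6, 213206, 22),
  (150891, 7, 245910, 22),
  (150895, 7, 180374, 22),
  (150897, 6, 145823, 19),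
  (150899, 6, 155719, 2),
  (150901, 6, 199022, 21),
  (150921, 7, 26958, 24),
  (150925, 7, 26990, 24),
  (150929, 7, 174145, 43),
  (150935, 7, 88229, 44),
  (150955, 6, 220591, 11),
  (150957, 7, 135382, 22),
  (150959, 7, 157822, 24),
  (150961, 6, 206966, 21),
  (150965, 6, 223278, 24),
  (150977, 7, 76843, 25),
  (150979, 7, 26911, 24),
  (150981, 7, 192748, 21),
  (151003, 7, 88101, 44),
  (151005, 7, 174161, 43),
  (151009, 7, 250260, 21),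
  (151011, 6, 213063, 2),
  (151033, 8, 109951, 22),
  (151037, 7, 88271, 44),
  (151558, 6, 156020, 24),
  (151565, 6, 24758, 19),
  (151569, 7, 24732, 19),
  (151570, 7, 37314, 25),
  (151572, 5, 316, 10),
  (151578, 6, 314, 1),
  (151583, 7, 192956, 24),
  (151598, 6, 302, 6),
  (151604, 5, 316, 8),
  (151609, 7, 61498, 20),
  (151610, 7, 61500, 20),
  (151617, 6, 149814, 22),
  (151618, 6, 24977, 19),
  (151620, 6, 84150, 22),
  (151646, 5, 35134, 1),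
  (151650, 6, 147530, 16),
  (151655, 7, 256082, 22),
  (151657, 6, 157718, 22),
  (151658, 6, 59478, 22),
  (151660, 6, 204822, 25),
  (151667, 7, 61614, 20),
  (151669, 6, 39217, 17),
  (151675, 7, 249958, 25),
  (151678, 5, 194570, 8),
  (151684, 6, 428, 10),
  (151689, 6, 176146, 20),
  (151692, 7, 69790, 22),
  (151695, 6, 35194, 24),
  (151699, 6, 201833, 25),
  (151702, 6, 155822, 12),
  (151707, 7, 100698, 24),
  (151709, 6, 11657, 22),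
  (151710, 6, 90542, 6),
  (151716, 7, 165922, 24),
  (151719, 7, 59581, 26),
  (151721, 6, 145430, 22),
  (151722, 6, 165970, 24),
  (151727, 7, 243798, 22),
  (151731, 7, 42255, 22),
  (151733, 7, 16606, 19),
  (151741, 6, 192571, 20),
  (151742, 5, 74158, 6),
  (151747, 6, 203817, 25),
  (151749, 6, 25046, 19),
  (151750, 5, 252334, 10),
  (151758, 6, 35246, 1),
  (151761, 5, 25052, 19),
  (151764, 5, 25050, 19),
  (151767, 7, 249021, 5),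
  (151770, 6, 90458, 5),
  (151775, 7, 38389, 10),
  (151779, 6, 250955, 7),
  (151781, 7, 227346, 22),
  (151782, 7, 129106, 22),
  (151790, 6, 219622, 7),
  (151799, 8, 234757, 38),
  (151801, 7, 11563, 22),
  (151802, 6, 156106, 14),
  (151804, 6, 204924, 13),
  (151807, 8, 63583, 37),
  (151814, 6, 302, 3),
  (151821, 6, 205190, 22),
  (151822, 6, 155716, 24),
  (151828, 6, 245956, 24),
  (151833, 7, 61554, 20),
  (151834, 7, 61556, 20),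
  (151836, 5, 316, 4),
  (151839, 7, 225476, 24),
  (151843, 6, 165970, 22),
  (151846, 7, 188740, 24),
  (151851, 6, 210219, 41),
  (151857, 7, 61546, 20),
  (151858, 6, 314, 2),
  (151860, 6, 246212, 24),
  (151865, 7, 81980, 19),
  (151868, 6, 155964, 2),
  (151871, 7, 57738, 25),
  (151879, 6, 243089, 23),
  (151882, 5, 362, 14),
  (151887, 7, 92558, 25),
  (151893, 6, 90398, 19),
  (151894, 6, 194934, 4),
  (151901, 6, 156029, 13),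
  (151902, 7, 184523, 26),
  (151905, 6, 149522, 22),
  (151906, 6, 51282, 22),
  (151908, 6, 141702, 25),
  (151911, 6, 204875, 23),
  (151923, 7, 61678, 20),
  (151925, 7, 190854, 25),
  (151926, 6, 35194, 2),
  (151931, 7, 51598, 25),
  (151933, 6, 82238, 19),
  (151940, 7, 35110, 24),
  (151943, 5, 35134, 24),
  (151958, 6, 74046, 3),
  (151963, 7, 100702, 24),
  (151965, 7, 90238, 19),
  (151966, 7, 100726, 24),
  (151975, 6, 213067, 23),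
  (151978, 6, 176220, 20),
  (151980, 6, 213420, 2),
  (151987, 7, 192622, 20),
  (151990, 6, 139694, 12),
  (151998, 6, 204974, 6),
  (152005, 6, 128177, 23),
  (152006, 5, 6634, 14),
  (152011, 5, 491, 14),
  (152017, 6, 90460, 19),
  (152018, 5, 196986, 16),
  (152020, 5, 25052, 17),
  (152023, 7, 90463, 19),
  (152025, 6, 90492, 19),
  (152026, 7, 89109, 21),
  (152028, 6, 90490, 19),
  (152035, 7, 176334, 20),
  (152037, 6, 90187, 23)]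

theorem chk_rows1_16 : rows1_16.all (rowBP1 tr1 bm1 gensLitP gensListP 1) = true := by decide +kernel

/-- Rows 13600 to 14399. -/
def rows1_17 : List (ℕ × ℕ × ℕ × ℕ) := [(152038, 6, 35306, 2),
  (152043, 7, 186454, 22),
  (152045, 6, 82294, 19),
  (152046, 6, 39394, 2),
  (152050, 6, 213338, 16),
  (152057, 6, 82300, 19),
  (152060, 6, 205180, 13),
  (152577, 6, 66953, 23),
  (152585, 6, 168220, 24),
  (152597, 7, 61946, 25),
  (152599, 5, 319, 10),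
  (152605, 6, 44481, 22),
  (152611, 6, 12620, 24),
  (152619, 6, 45324, 24),
  (152629, 6, 163135, 8),
  (152637, 6, 63547, 20),
  (152655, 6, 155838, 25),
  (152657, 7, 42341, 22),
  (152677, 7, 223314, 22),
  (152679, 6, 90430, 25),
  (152689, 6, 38193, 17),
  (152691, 7, 115054, 25),
  (152697, 7, 63674, 20),
  (152699, 7, 11619, 22),
  (152711, 5, 431, 10),
  (152729, 7, 194610, 20),
  (152741, 7, 174122, 24),
  (152749, 7, 174186, 24),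
  (152761, 6, 239690, 24),
  (152789, 7, 81255, 2),
  (152791, 8, 30083, 37),
  (152797, 7, 107811, 42),
  (152809, 7, 109621, 26),
  (152823, 7, 108677, 43),
  (152829, 7, 108565, 43),
  (152835, 6, 168020, 24),
  (152843, 6, 172358, 22),
  (152853, 7, 258434, 25),
  (152863, 6, 155967, 13),
  (152885, 7, 192898, 25),
  (152893, 6, 162831, 2),
  (152901, 6, 256422, 22),
  (152909, 7, 254374, 22),
  (152911, 7, 96654, 25),
  (152923, 6, 156027, 13),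
  (152935, 7, 78059, 26),
  (152941, 6, 206153, 23),
  (152943, 6, 184453, 21),
  (152945, 7, 63722, 20),
  (152947, 7, 63726, 20),
  (152955, 7, 63742, 20),
  (152965, 7, 244110, 22),
  (152973, 7, 43374, 24),
  (152977, 7, 89509, 23),
  (152979, 7, 9565, 22),
  (152985, 6, 117909, 21),
  (152999, 7, 126113, 19),
  (153005, 6, 220577, 11),
  (153009, 6, 239630, 24),
  (153019, 6, 194686, 20),
  (153025, 7, 194862, 22),
  (153027, 7, 194926, 22),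
  (153045, 8, 249279, 5),
  (153057, 7, 178378, 20),
  (153059, 7, 178382, 20),
  (153065, 7, 26851, 26),
  (153067, 6, 53397, 21),
  (153085, 8, 107955, 42),
  (153087, 7, 205183, 13),
  (153601, 6, 133526, 22),
  (153606, 6, 147470, 11),
  (153610, 6, 214, 22),
  (153614, 7, 65622, 22),
  (153619, 7, 116167, 21),
  (153627, 6, 163135, 1),
  (153631, 7, 192738, 25),
  (153634, 6, 147470, 16),
  (153637, 6, 102475, 23),
  (153638, 7, 78082, 25),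
  (153641, 6, 206998, 22),
  (153642, 7, 41268, 24),
  (153659, 7, 31815, 20),
  (153663, 7, 258146, 25),
  (153671, 7, 29945, 26),
  (153679, 6, 213366, 22),
  (153682, 6, 37182, 1),
  (153685, 7, 219186, 19),
  (153686, 6, 39226, 1),
  (153693, 7, 202802, 19),
  (153703, 7, 94502, 25),
  (153714, 6, 39222, 17),
  (153717, 7, 123238, 25),
  (153725, 7, 242969, 26),
  (153726, 6, 192526, 8),
  (153731, 7, 51482, 24),
  (153735, 7, 203102, 22),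
  (153739, 6, 7585, 10),
  (153743, 7, 51578, 24),
  (153749, 6, 145885, 26),
  (153753, 7, 129230, 19),
  (153758, 6, 139694, 14),
  (153763, 6, 220577, 16),
  (153778, 7, 186789, 26),
  (153782, 7, 186443, 23),
  (153785, 6, 247882, 24),
  (153786, 7, 210377, 25),
  (153789, 7, 243997, 26),
  (153790, 6, 156046, 14),
  (153794, 6, 250286, 10),
  (153797, 7, 247858, 19),
  (153801, 7, 151998, 22),
  (153802, 7, 20734, 22),
  (153811, 7, 36345, 10),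
  (153815, 7, 36349, 10),
  (153825, 6, 251981, 7),
  (153834, 7, 212361, 25),
  (153837, 7, 239650, 19),
  (153843, 8, 30083, 41),
  (153851, 7, 108677, 42),
  (153857, 6, 141702, 22),
  (153858, 6, 205210, 25),
  (153870, 6, 302, 14),
  (153883, 7, 123290, 25),
  (153893, 6, 133266, 22),
  (153894, 6, 302, 2),
  (153897, 6, 26774, 19),
  (153898, 6, 302, 10),
  (153902, 6, 410, 25),
  (153911, 6, 155967, 11),
  (153915, 7, 57754, 25),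
  (153919, 7, 49562, 25),
  (153923, 7, 158182, 22),
  (153927, 6, 127171, 26),
  (153931, 6, 156134, 22),
  (153938, 6, 192582, 13),
  (153945, 7, 117069, 24),
  (153946, 7, 108958, 25),
  (153949, 6, 70777, 20),
  (153950, 6, 194634, 13),
  (153967, 6, 182397, 24),
  (153974, 7, 220331, 21),
  (153978, 6, 194934, 11),
  (153981, 6, 51606, 25),
  (153982, 5, 35230, 25),
  (153987, 6, 51486, 24),
  (153995, 6, 59593, 26),
  (153999, 5, 431, 14),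
  (154002, 6, 196926, 16),
  (154005, 7, 189543, 21),
  (154013, 6, 52501, 21),
  (154023, 6, 213423, 11),
  (154033, 6, 247822, 24),
  (154034, 6, 90542, 7),
  (154037, 7, 247854, 24),
  (154045, 6, 112802, 19),
  (154053, 7, 227630, 22),
  (154057, 7, 160174, 22),
  (154058, 7, 28910, 22),
  (154061, 5, 493, 14),
  (154067, 7, 107811, 40),
  (154075, 7, 108565, 42),
  (154079, 8, 107955, 40),
  (154094, 6, 250342, 11),
  (154111, 7, 239855, 6),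
  (154641, 7, 53754, 25),
  (154643, 6, 89139, 19),
  (154645, 7, 61930, 25),
  (154647, 7, 78231, 42),
  (154673, 7, 119162, 25),
  (154677, 7, 20956, 24),
  (154679, 6, 75207, 22),
  (154683, 6, 155967, 8),
  (154693, 7, 75225, 23),
  (154697, 6, 59721, 24),
  (154699, 5, 147646, 25),
  (154703, 6, 155822, 25),
  (154721, 7, 86334, 25),
  (154723, 6, 82238, 25),
  (154725, 7, 241995, 23),
  (154727, 6, 90414, 25),
  (154733, 7, 102821, 21),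
  (154735, 7, 37285, 21),
  (154759, 6, 30941, 26),
  (154767, 7, 233822, 22),
  (154789, 7, 26799, 37),
  (154793, 6, 190538, 24),
  (154797, 6, 220591, 16),
  (154837, 8, 197691, 38),
  (154839, 7, 78177, 42),
  (154871, 7, 26643, 37),
  (154879, 8, 51637, 43),
  (154897, 7, 258292, 24),
  (154899, 6, 258458, 25),
  (154901, 6, 155663, 4),
  (154909, 6, 118149, 21),
  (154931, 6, 118115, 21),
  (154933, 7, 242164, 24),
  (154937, 6, 30879, 19),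
  (154939, 7, 26763, 37),
  (154941, 7, 209396, 24),
  (154951, 6, 219550, 25),
  (154953, 7, 78201, 42),
  (154955, 7, 96670, 25),
  (154957, 7, 88470, 25),
  (154959, 7, 88478, 25),
  (154985, 7, 215254, 22),
  (154989, 6, 22934, 25),
  (155009, 7, 34079, 20),
  (155011, 6, 7599, 14),
  (155013, 7, 243982, 22),
  (155015, 7, 218337, 23),
  (155017, 7, 42255, 20),
  (155041, 6, 190478, 24),
  (155043, 7, 235666, 22),
  (155045, 6, 44277, 19),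
  (155047, 7, 190526, 24),
  (155051, 7, 190558, 24),
  (155053, 7, 30945, 26),
  (155055, 7, 190590, 24),
  (155089, 8, 62959, 21),
  (155101, 7, 110073, 22),
  (155103, 7, 197839, 38),
  (155121, 8, 126233, 3),
  (155125, 7, 14463, 44),
  (155129, 6, 51439, 43),
  (155131, 8, 129451, 16),
  (155133, 7, 51295, 43),
  (155135, 8, 243875, 19),
  (155651, 6, 4513, 43),
  (155653, 7, 180550, 21),
  (155654, 5, 33040, 41),
  (155658, 5, 8204, 39),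
  (155660, 5, 197000, 43),
  (155663, 5, 65541, 37),
  (155667, 6, 100390, 21),
  (155673, 7, 1215, 44),
  (155674, 7, 53268, 20),
  (155689, 7, 36922, 20),
  (155690, 7, 36924, 20),
  (155692, 5, 316, 7),
  (155695, 7, 127356, 24),
  (155701, 7, 1493, 44),
  (155702, 5, 155958, 15),
  (155716, 5, 16394, 38),
  (155719, 5, 1281, 44),
  (155720, 4, 32928, 41),
  (155723, 5, 2177, 40),
  (155725, 5, 131075, 42),
  (155730, 6, 71718, 21),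
  (155736, 6, 376, 2),
  (155742, 6, 194634, 11),
  (155755, 6, 211983, 23),
  (155761, 6, 53386, 20),
  (155762, 6, 69670, 21),
  (155764, 7, 106518, 25),
  (155774, 6, 37238, 6),
  (155777, 6, 147857, 8),
  (155778, 6, 12497, 19),
  (155780, 6, 155910, 21),
  (155787, 6, 213423, 23),
  (155789, 7, 12534, 19),
  (155793, 5, 16433, 38),
  (155799, 6, 2221, 40),
  (155800, 6, 114712, 19),
  (155803, 7, 8349, 39),
  (155806, 5, 4138, 43),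
  (155815, 6, 198842, 24),
  (155819, 6, 220175, 23),
  (155821, 6, 8475, 39),
  (155822, 5, 163856, 39),
  (155825, 5, 8225, 39),
  (155826, 6, 133266, 24),
  (155828, 6, 131126, 21),
  (155838, 5, 131208, 42),
  (155843, 7, 168102, 20),
  (155849, 6, 90303, 23),
  (155850, 6, 155967, 23),
  (155852, 7, 12786, 19),
  (155855, 8, 97735, 12),
  (155862, 5, 12292, 40),
  (155868, 5, 65928, 37),
  (155871, 6, 16511, 38),
  (155878, 5, 131408, 42),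
  (155881, 6, 97295, 23),
  (155882, 5, 65760, 37),
  (155884, 5, 98336, 38),
  (155887, 6, 33273, 41),
  (155893, 7, 133291, 24),
  (155897, 6, 2385, 40),
  (155898, 5, 20522, 44),
  (155900, 5, 4116, 43),
  (155903, 6, 131279, 42),
  (155909, 7, 123074, 25),
  (155910, 5, 155958, 12),
  (155913, 6, 131391, 42),
  (155914, 7, 229578, 25),
  (155916, 6, 180356, 24),
  (155919, 7, 254154, 25),
  (155925, 7, 77854, 19),
  (155932, 5, 316, 5),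
  (155941, 6, 16839, 38),
  (155945, 7, 180418, 25),
  (155948, 6, 180612, 24),
  (155951, 7, 69687, 19),
  (155958, 4, 33104, 41),
  (155961, 7, 53338, 20),
  (155962, 5, 8220, 39),
  (155964, 5, 196616, 43),
  (155967, 5, 65669, 37),
  (155979, 6, 37110, 20),
  (155981, 7, 256198, 25),
  (155982, 6, 37182, 3),
  (155988, 7, 75974, 25),
  (155991, 6, 244113, 23),
  (155997, 7, 78142, 19),
  (156004, 7, 153898, 21),
  (156007, 6, 252394, 21),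
  (156008, 6, 376, 1),
  (156013, 7, 190662, 25),
  (156014, 6, 39222, 10),
  (156017, 6, 18630, 25),
  (156020, 5, 16426, 38),
  (156023, 5, 1283, 44),
  (156024, 5, 32992, 41),
  (156027, 5, 2181, 40),
  (156029, 5, 131331, 42),
  (156033, 5, 8241, 39),
  (156039, 7, 68030, 24),
  (156040, 6, 57576, 19),
  (156045, 7, 168051, 20),
  (156046, 5, 131464, 42),
  (156055, 6, 252321, 23),
  (156061, 6, 65635, 37),
  (156062, 5, 164176, 39),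
  (156065, 5, 16401, 38),
  (156066, 6, 32948, 41),
  (156068, 7, 198822, 24),
  (156071, 7, 210377, 22),
  (156077, 7, 212361, 22),
  (156078, 5, 4130, 43),
  (156081, 6, 196785, 6),
  (156087, 6, 213069, 23),
  (156088, 7, 156008, 20),
  (156093, 7, 133358, 24),
  (156094, 7, 133366, 24),
  (156099, 6, 127214, 21),
  (156105, 7, 162091, 22),
  (156106, 5, 20482, 44),
  (156108, 5, 4124, 43),
  (156117, 6, 129201, 23),
  (156118, 5, 131152, 42),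
  (156121, 6, 152599, 22),
  (156122, 5, 65632, 37),
  (156124, 5, 98528, 38),
  (156127, 6, 4593, 43),
  (156131, 6, 198815, 24),
  (156134, 5, 12316, 40),
  (156137, 7, 70004, 19),
  (156140, 5, 65800, 37),
  (156147, 7, 118806, 21),
  (156149, 6, 90189, 23),
  (156150, 6, 155725, 23),
  (156159, 8, 233719, 6),
  (156701, 7, 192954, 25),
  (156703, 7, 188858, 25),
  (156705, 6, 86122, 25),
  (156719, 6, 155967, 16),
  (156721, 6, 98470, 21),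
  (156733, 7, 119292, 24),
  (156735, 6, 237591, 22),
  (156741, 7, 184782, 21),
  (156743, 6, 203801, 19),
  (156745, 7, 152046, 25),
  (156747, 6, 39094, 20),
  (156757, 7, 235686, 21),
  (156763, 5, 379, 2),
  (156775, 7, 90238, 25),
  (156777, 6, 39098, 20),
  (156779, 6, 39102, 20),
  (156791, 7, 168102, 21),
  (156805, 7, 233883, 22),
  (156809, 7, 170034, 20),
  (156821, 7, 210003, 22),
  (156823, 7, 166070, 21),
  (156825, 7, 10698, 24),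
  (156827, 6, 10714, 24),
  (156843, 7, 170046, 20),
  (156853, 7, 217421, 23),
  (156857, 7, 93303, 21),
  (156859, 7, 186398, 20),
  (156865, 7, 76171, 24),
  (156883, 6, 39094, 21),
  (156899, 6, 129098, 21),
  (156911, 7, 126365, 26),
  (156915, 7, 186510, 20),
  (156925, 8, 170115, 42),
  (156929, 6, 49382, 21),
  (156945, 6, 116870, 21),
  (156957, 6, 163135, 5),
  (156963, 6, 116834, 21),
  (156973, 6, 192706, 25),
  (156975, 7, 69093, 21),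
  (156979, 6, 49286, 21),
  (156989, 7, 258324, 24),
  (156997, 7, 192875, 26),
  (156999, 7, 129230, 25),
  (157001, 6, 39154, 20),
  (157003, 6, 39158, 20),
  (157015, 7, 96462, 25),
  (157019, 6, 181271, 22),
  (157029, 6, 207181, 23),
  (157033, 5, 379, 1),
  (157061, 7, 194921, 26),
  (157063, 7, 105625, 19),
  (157065, 7, 76238, 24),
  (157081, 7, 10702, 24),
  (157083, 7, 186454, 20),
  (157099, 7, 207070, 24),
  (157109, 7, 245910, 21),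
  (157111, 7, 141502, 24),
  (157115, 7, 141534, 24),
  (157121, 7, 61678, 21),
  (157123, 7, 192875, 22),
  (157135, 8, 217533, 43),
  (157139, 6, 185363, 22),
  (157149, 8, 251125, 6),
  (157151, 7, 7667, 14),
  (157153, 7, 63722, 21),
  (157165, 7, 194747, 4),
  (157701, 7, 196883, 22),
  (157707, 7, 152050, 25),
  (157711, 7, 258396, 24),
  (157713, 7, 49330, 25),
  (157717, 7, 35110, 21),
  (157718, 5, 155958, 2),
  (157727, 7, 151011, 21),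
  (157729, 7, 69932, 24),
  (157730, 5, 155958, 7),
  (157733, 7, 182338, 21),
  (157739, 7, 217458, 25),
  (157745, 7, 164134, 21),
  (157767, 6, 205277, 23),
  (157770, 7, 135638, 25),
  (157773, 6, 156134, 25),
  (157785, 5, 381, 2),
  (157786, 7, 245850, 41),
  (157789, 7, 52705, 38),
  (157790, 7, 176518, 25),
  (157795, 6, 191559, 7),
  (157799, 6, 243789, 23),
  (157801, 6, 213366, 25),
  (157802, 7, 201046, 25),
  (157806, 6, 162170, 7),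
  (157811, 7, 233766, 21),
  (157821, 7, 223242, 19),
  (157822, 6, 194934, 15),
  (157831, 6, 213485, 23),
  (157838, 6, 90414, 17),
  (157843, 7, 248297, 23),
  (157847, 7, 18874, 24),
  (157849, 7, 18890, 24),
  (157850, 7, 10621, 20),
  (157854, 6, 196798, 8),
  (157859, 7, 251917, 23),
  (157863, 6, 251981, 23),
  (157869, 6, 129034, 19),
  (157881, 6, 129270, 19),
  (157886, 6, 74046, 17),
  (157893, 6, 90365, 23),
  (157894, 6, 156029, 23),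
  (157906, 6, 204918, 16),
  (157909, 6, 39222, 21),
  (157910, 7, 62675, 22),
  (157919, 7, 73167, 37),
  (157925, 5, 243722, 19),
  (157926, 6, 194637, 23),
  (157931, 7, 94537, 43),
  (157935, 7, 252191, 3),
  (157937, 6, 244182, 19),
  (157942, 6, 147926, 14),
  (157951, 8, 47215, 39),
  (157953, 7, 49510, 21),
  (157967, 7, 176292, 24),
  (157973, 7, 82130, 25),
  (157974, 6, 155654, 5),
  (157986, 6, 155654, 1),
  (157989, 7, 49362, 25),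
  (157995, 7, 188634, 25),
  (157999, 7, 176548, 24),
  (158001, 7, 24786, 25),
  (158005, 7, 75914, 19),
  (158019, 6, 119278, 21),
  (158023, 6, 192835, 26),
  (158026, 6, 39226, 3),
  (158039, 5, 375, 14),
  (158042, 6, 6518, 14),
  (158045, 7, 215254, 25),
  (158051, 7, 121322, 21),
  (158061, 5, 381, 1),
  (158067, 7, 250118, 21),
  (158071, 7, 18654, 25),
  (158073, 7, 149709, 24),
  (158074, 7, 141534, 25),
  (158077, 6, 91241, 20),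
  (158087, 6, 157925, 40),
  (158089, 6, 84430, 24),
  (158090, 6, 155806, 13),
  (158093, 7, 84462, 24),
  (158094, 7, 111899, 25),
  (158099, 6, 59721, 26),
  (158103, 7, 117014, 21),
  (158109, 6, 136343, 22),
  (158122, 6, 196926, 4),
  (158125, 7, 129162, 19),
  (158131, 7, 149662, 24),
  (158135, 7, 114966, 21),
  (158137, 7, 76105, 26),
  (158138, 5, 147646, 13),
  (158141, 6, 157033, 20),
  (158146, 6, 205158, 16),
  (158149, 7, 192622, 21),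
  (158150, 7, 225454, 21),
  (158155, 7, 169349, 42),
  (158159, 7, 47231, 39),
  (158162, 6, 205174, 16),
  (158175, 8, 246201, 41),
  (158177, 7, 52317, 38),
  (158181, 6, 215215, 24),
  (158182, 6, 25046, 14),
  (158191, 8, 73039, 37),
  (158193, 7, 103843, 20),
  (158197, 6, 214377, 20),
  (158198, 7, 71003, 19),
  (158207, 8, 259415, 7),
  (158733, 6, 65999, 23),
  (158745, 7, 233980, 24),
  (158747, 5, 319, 2),
  (158749, 7, 134613, 42),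
  (158751, 6, 188842, 25),
  (158765, 6, 216421, 21),
  (158777, 6, 155663, 15),
  (158781, 7, 119260, 24),
  (158785, 6, 83361, 44),
  (158787, 6, 16638, 25),
  (158789, 7, 246067, 22),
  (158803, 5, 375, 2),
  (158805, 7, 61614, 25),
  (158807, 6, 39334, 21),
  (158823, 6, 251978, 21),
  (158835, 7, 168358, 21),
  (158839, 6, 36215, 6),
  (158865, 7, 117225, 23),
  (158867, 7, 27034, 24),
  (158869, 7, 100790, 21),
  (158881, 6, 223370, 24),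
  (158883, 6, 125250, 21),
  (158899, 7, 241811, 22),
  (158925, 8, 84075, 40),
  (158939, 7, 83043, 44),
  (158943, 7, 102863, 37),
  (158955, 7, 90463, 2),
  (158957, 7, 96739, 12),
  (158959, 8, 11615, 39),
  (158973, 7, 205295, 1),
  (158985, 6, 199777, 21),
  (158991, 6, 7487, 3),
  (159001, 7, 225490, 25),
  (159005, 7, 241716, 24),
  (159007, 6, 165015, 22),
  (159017, 7, 192722, 25),
  (159021, 5, 319, 1),
  (159033, 7, 196823, 22),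
  (159039, 7, 200167, 21),
  (159041, 6, 36145, 3),
  (159043, 7, 203931, 19),
  (159047, 7, 121054, 25),
  (159059, 7, 96478, 25),
  (159077, 5, 375, 1),
  (159093, 7, 119174, 21),
  (159105, 7, 92558, 24),
  (159107, 7, 123238, 21),
  (159109, 7, 44237, 19),
  (159111, 7, 104603, 19),
  (159125, 6, 107643, 25),
  (159127, 6, 169107, 22),
  (159143, 7, 117069, 23),
  (159153, 7, 157838, 24),
  (159155, 7, 157854, 24),
  (159159, 7, 157886, 24),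
  (159177, 7, 126363, 16),
  (159195, 7, 7671, 14),
  (159197, 7, 90607, 1),
  (159199, 7, 172473, 41),
  (159213, 7, 83137, 44),
  (159215, 7, 53343, 38),
  (159227, 7, 102897, 37),
  (159229, 7, 143455, 43),
  (159231, 8, 191881, 15),
  (159745, 7, 45090, 20),
  (159751, 6, 246215, 21),
  (159753, 7, 28852, 19),
  (159754, 7, 45108, 20),
  (159756, 6, 33807, 23),
  (159759, 7, 28855, 19),
  (159762, 6, 155962, 2),
  (159764, 6, 213476, 24),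
  (159767, 7, 225788, 24),
  (159769, 7, 34855, 21),
  (159772, 5, 316, 11),
  (159777, 7, 20628, 19),
  (159778, 6, 155962, 7),
  (159783, 7, 94588, 24),
  (159788, 6, 7245, 23),
  (159793, 7, 70092, 24),
  (159794, 7, 102658, 25),
  (159796, 6, 82404, 24),
  (159799, 7, 127282, 25),
  (159801, 7, 245794, 25),
  (159802, 6, 314, 6),
  (159804, 5, 316, 6),
  (159807, 5, 319, 6),
  (159811, 7, 45222, 20),
  (159819, 7, 45238, 20),
  (159822, 7, 143574, 25),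
  (159830, 6, 190842, 2),
  (159835, 7, 191575, 22),
  (159843, 6, 193841, 16),
  (159854, 6, 162166, 7),
  (159861, 7, 77903, 23),
  (159862, 7, 61581, 20),
  (159870, 7, 200743, 21),
  (159875, 6, 123079, 21),
  (159877, 6, 188743, 21),
  (159878, 6, 196926, 3),
  (159883, 7, 176182, 20),
  (159885, 7, 166967, 21),
  (159894, 5, 147646, 12),
  (159899, 6, 35290, 24),
  (159901, 6, 35306, 24),
  (159909, 6, 20694, 19),
  (159910, 6, 139454, 12),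
  (159923, 6, 192526, 20),
  (159933, 7, 20734, 19),
  (159937, 7, 176290, 20),
  (159938, 7, 176292, 20),
  (159943, 8, 129315, 17),
  (159945, 7, 176306, 20),
  (159948, 6, 213116, 13),
  (159954, 6, 204922, 16),
  (159956, 6, 156108, 17),
  (159959, 8, 215069, 40),
  (159969, 7, 20948, 19),
  (159975, 8, 159945, 43),
  (159977, 6, 20980, 19),
  (159978, 6, 156122, 14),
  (159985, 7, 20956, 19),
  (159986, 7, 183461, 26),
  (159988, 6, 74108, 8),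
  (159991, 7, 44073, 39),
  (159993, 7, 20988, 19),
  (159994, 6, 147930, 14),
  (159996, 7, 135223, 21),
  (160001, 7, 246210, 25),
  (160002, 6, 314, 3),
  (160004, 5, 316, 3),
  (160007, 5, 319, 3),
  (160017, 7, 61506, 20),
  (160018, 6, 197066, 25),
  (160025, 7, 94268, 19),
  (160026, 6, 314, 14),
  (160028, 6, 213060, 24),
  (160031, 6, 90570, 25),
  (160034, 7, 45164, 20),
  (160036, 6, 155964, 1),
  (160041, 7, 135620, 24),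
  (160042, 6, 314, 10),
  (160049, 7, 86044, 19),
  (160055, 6, 156106, 25),
  (160058, 6, 458, 25),
  (160060, 6, 213316, 24),
  (160069, 7, 94486, 19),
  (160075, 7, 117198, 25),
  (160077, 7, 125382, 25),
  (160083, 6, 212369, 23),
  (160086, 6, 6522, 14),
  (160091, 5, 379, 14),
  (160093, 7, 92614, 25),
  (160094, 7, 76238, 25),
  (160099, 6, 159077, 22),
  (160101, 7, 86294, 19),
  (160107, 6, 231645, 24),
  (160110, 5, 35134, 10),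
  (160115, 6, 204815, 23),
  (160117, 7, 86302, 19),
  (160125, 7, 86334, 19),
  (160126, 7, 10702, 25),
  (160131, 6, 100766, 24),
  (160133, 7, 100782, 24),
  (160134, 7, 100790, 24),
  (160139, 7, 138691, 42),
  (160142, 7, 100854, 24),
  (160147, 5, 35230, 24),
  (160149, 6, 35246, 24),
  (160158, 6, 213182, 6),
  (160163, 7, 176238, 20),
  (160165, 7, 86102, 19),
  (160166, 7, 234651, 25),
  (160173, 6, 181271, 21),
  (160174, 6, 90414, 15),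
  (160179, 6, 213007, 23),
  (160182, 7, 166070, 24),
  (160190, 6, 196798, 6),
  (160194, 6, 205162, 16),
  (160199, 8, 94551, 19),
  (160204, 6, 74220, 4),
  (160209, 6, 97457, 23),
  (160210, 6, 205178, 16),
  (160215, 7, 97763, 1),
  (160217, 7, 94588, 19),
  (160223, 7, 238009, 41),
  (160225, 6, 215225, 40),
  (160226, 7, 176364, 20),
  (160228, 7, 232595, 25),
  (160231, 7, 104707, 37),
  (160234, 5, 25050, 14),
  (160236, 5, 196988, 13),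
  (160239, 7, 54367, 38),
  (160241, 6, 90127, 23),
  (160242, 6, 155663, 23),
  (160244, 6, 25068, 17),
  (160781, 7, 159994, 25),
  (160783, 6, 155898, 25),
  (160797, 6, 7487, 2),
  (160799, 7, 258476, 24),
  (160807, 6, 90490, 25),
  (160813, 7, 225402, 25),
  (160831, 7, 127404, 24),
  (160833, 7, 47266, 20),
  (160835, 7, 47270, 20),
  (160841, 7, 180535, 22),
  (160849, 6, 158803, 22),
  (160857, 6, 43465, 24),
  (160859, 6, 208027, 23),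
  (160875, 6, 47294, 20),
  (160883, 6, 38267, 6),
  (160891, 7, 26763, 40),
  (160899, 7, 108954, 24),
  (160915, 6, 194566, 20),
  (160929, 6, 178218, 20),
  (160937, 7, 239818, 24),
  (160939, 7, 239834, 24),
  (160945, 5, 194570, 20),
  (160953, 7, 98487, 21),
  (160973, 8, 124351, 23),
  (160975, 7, 213119, 13),
  (161007, 6, 51439, 38),
  (161023, 8, 180659, 41),
  (161031, 7, 26799, 40),
  (161037, 7, 159956, 24),
  (161039, 6, 238023, 22),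
  (161045, 7, 181733, 21),
  (161053, 7, 247943, 21),
  (161055, 7, 94666, 25),
  (161063, 6, 155663, 10),
  (161071, 6, 181383, 21),
  (161077, 7, 258388, 24),
  (161087, 7, 29130, 25),
  (161089, 7, 198119, 44),
  (161091, 7, 252366, 25),
  (161097, 6, 38193, 3),
  (161099, 7, 121294, 25),
  (161105, 7, 78231, 43),
  (161107, 6, 63686, 20),
  (161129, 6, 208141, 23),
  (161131, 7, 47358, 20),
  (161153, 7, 43245, 19),
  (161155, 7, 108958, 24),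
  (161171, 6, 194630, 20),
  (161177, 6, 230763, 25),
  (161187, 7, 125027, 21),
  (161193, 7, 178298, 20),
  (161195, 6, 50327, 21),
  (161201, 6, 194634, 20),
  (161203, 7, 125097, 19),
  (161209, 7, 114839, 21),
  (161221, 8, 128407, 16),
  (161231, 7, 14463, 39),
  (161237, 7, 78177, 43),
  (161239, 7, 7675, 14),
  (161261, 7, 239855, 24),
  (161263, 7, 51295, 38),
  (161271, 8, 51637, 38),
  (161277, 7, 197839, 44),
  (161279, 7, 205167, 13),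
  (161811, 7, 232905, 23),
  (161815, 6, 155663, 11),
  (161823, 6, 100647, 21),
  (161827, 6, 162831, 7),
  (161831, 6, 21655, 19),
  (161847, 7, 94684, 24)]

theorem chk_rows1_17 : rows1_17.all (rowBP1 tr1 bm1 gensLitP gensListP 1) = true := by decide +kernel

/-- Rows 14400 to 15199. -/
def rows1_18 : List (ℕ × ℕ × ℕ × ℕ) := [(161851, 6, 249906, 25),
  (161855, 7, 52345, 20),
  (161861, 6, 25062, 25),
  (161862, 5, 65800, 43),
  (161865, 5, 147702, 25),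
  (161866, 5, 131208, 43),
  (161869, 6, 155878, 25),
  (161873, 7, 211366, 19),
  (161877, 7, 215098, 19),
  (161878, 7, 218253, 21),
  (161881, 6, 51657, 24),
  (161882, 6, 194934, 2),
  (161886, 6, 192582, 11),
  (161889, 6, 194865, 16),
  (161893, 6, 90470, 25),
  (161894, 7, 78150, 25),
  (161897, 6, 213110, 25),
  (161901, 7, 210986, 19),
  (161905, 7, 70899, 20),
  (161906, 6, 39290, 6),
  (161909, 6, 194561, 15),
  (161910, 7, 125049, 20),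
  (161914, 6, 35194, 6),
  (161917, 7, 206890, 19),
  (161921, 7, 108782, 19),
  (161926, 6, 213150, 11),
  (161933, 7, 104506, 19),
  (161934, 7, 242969, 25),
  (161941, 7, 116794, 19),
  (161942, 7, 51634, 24),
  (161945, 7, 9579, 20),
  (161946, 7, 10605, 20),
  (161949, 6, 35127, 21),
  (161950, 7, 51698, 24),
  (161958, 6, 213182, 11),
  (161961, 6, 248010, 24),
  (161965, 7, 112682, 19),
  (161966, 6, 156062, 14),
  (161969, 6, 60737, 21),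
  (161973, 7, 182442, 24),
  (161974, 7, 182450, 24),
  (161977, 7, 211095, 22),
  (161982, 6, 147870, 14),
  (161987, 8, 117147, 24),
  (161991, 8, 81265, 2),
  (162015, 8, 201147, 43),
  (162019, 7, 129483, 21),
  (162023, 7, 22693, 38),
  (162027, 7, 166165, 42),
  (162031, 7, 156127, 14),
  (162035, 8, 99357, 37),
  (162051, 6, 254426, 25),
  (162055, 7, 246234, 25),
  (162067, 7, 258148, 24),
  (162071, 6, 213466, 25),
  (162075, 6, 90586, 25),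
  (162079, 5, 319, 14),
  (162087, 6, 208197, 22),
  (162091, 6, 7487, 1),
  (162099, 6, 156122, 25),
  (162103, 6, 147930, 25),
  (162107, 5, 25050, 25),
  (162117, 6, 242115, 26),
  (162118, 5, 35134, 3),
  (162121, 6, 155725, 12),
  (162126, 6, 39222, 3),
  (162133, 6, 215510, 25),
  (162134, 7, 199134, 25),
  (162141, 5, 381, 14),
  (162146, 6, 192526, 1),
  (162149, 7, 227498, 19),
  (162150, 5, 194570, 1),
  (162157, 6, 248045, 24),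
  (162166, 5, 131464, 43),
  (162170, 5, 65928, 43),
  (162178, 6, 205102, 16),
  (162185, 7, 59598, 19),
  (162190, 7, 186817, 26),
  (162193, 7, 34107, 20),
  (162194, 6, 242763, 25),
  (162201, 6, 43465, 26),
  (162202, 6, 90542, 10),
  (162217, 7, 141769, 26),
  (162225, 7, 182414, 24),
  (162230, 7, 87131, 19),
  (162234, 5, 74158, 10),
  (162237, 7, 108714, 19),
  (162238, 6, 243163, 25),
  (162243, 7, 57795, 41),
  (162247, 7, 75861, 40),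
  (162251, 7, 166277, 42),
  (162255, 8, 148923, 44),
  (162259, 7, 57737, 41),
  (162263, 7, 165969, 42),
  (162267, 7, 22665, 38),
  (162271, 7, 220537, 20),
  (162275, 8, 13509, 39),
  (162279, 7, 57381, 41),
  (162283, 7, 99649, 37),
  (162287, 7, 99663, 37),
  (162295, 7, 191709, 10),
  (162303, 8, 87423, 19),
  (162817, 5, 67585, 37),
  (162819, 7, 209260, 24),
  (162823, 6, 25066, 25),
  (162825, 7, 151802, 25),
  (162827, 6, 147706, 25),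
  (162829, 7, 159978, 25),
  (162831, 5, 67589, 37),
  (162833, 6, 208083, 22),
  (162843, 7, 180410, 25),
  (162851, 6, 82298, 25),
  (162853, 7, 76989, 19),
  (162855, 6, 90474, 25),
  (162857, 7, 102716, 24),
  (162859, 6, 213114, 25),
  (162861, 6, 155663, 7),
  (162865, 6, 52673, 21),
  (162871, 6, 7487, 6),
  (162873, 7, 229799, 21),
  (162875, 7, 76843, 19),
  (162879, 7, 253994, 25),
  (163009, 8, 219639, 1),
  (163017, 7, 133467, 40),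
  (163019, 8, 133323, 40),
  (163025, 7, 17533, 38),
  (163033, 7, 90591, 12),
  (163035, 6, 133261, 40),
  (163039, 7, 17535, 38),
  (163041, 7, 98681, 41),
  (163043, 7, 17635, 38),
  (163049, 7, 90607, 12),
  (163051, 6, 17577, 38),
  (163053, 7, 135443, 42),
  (163055, 7, 98809, 41),
  (163057, 7, 135367, 42),
  (163059, 7, 41061, 39),
  (163065, 7, 9497, 44),
  (163073, 7, 49639, 21),
  (163075, 7, 184564, 24),
  (163079, 7, 250330, 25),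
  (163081, 6, 155663, 12),
  (163085, 7, 143604, 24),
  (163091, 6, 155967, 5),
  (163099, 7, 94682, 25),
  (163103, 7, 86490, 25),
  (163107, 7, 184820, 24),
  (163111, 7, 168436, 24),
  (163113, 7, 160244, 24),
  (163117, 7, 53714, 25),
  (163121, 5, 67713, 37),
  (163125, 6, 15541, 19),
  (163127, 7, 9379, 44),
  (163131, 7, 217460, 24),
  (163135, 5, 67717, 37),
  (163271, 7, 9483, 44),
  (163275, 6, 67793, 37),
  (163283, 7, 17603, 38),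
  (163287, 7, 63947, 8),
  (163293, 7, 41221, 39),
  (163295, 7, 98745, 41),
  (163299, 7, 41157, 39),
  (163307, 7, 98325, 41),
  (163309, 7, 41093, 39),
  (163311, 8, 145891, 26),
  (163313, 7, 212331, 13),
  (163317, 7, 96739, 26),
  (163325, 7, 20575, 43),
  (163841, 4, 131376, 22),
  (163842, 4, 6146, 25),
  (163844, 4, 65712, 22),
  (163848, 4, 131232, 19),
  (163854, 6, 164122, 23),
  (163856, 4, 34882, 25),
  (163859, 6, 20706, 21),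
  (163865, 7, 182626, 25),
  (163872, 4, 65936, 19),
  (163878, 7, 20900, 21),
  (163882, 5, 362, 13),
  (163887, 7, 59782, 22),
  (163890, 6, 20646, 21),
  (163892, 7, 147621, 24),
  (163895, 6, 129266, 25),
  (163896, 6, 376, 3),
  (163899, 6, 252386, 25),
  (163902, 6, 244178, 25),
  (163905, 4, 147728, 22),
  (163906, 4, 6150, 25),
  (163908, 4, 82064, 22),
  (163911, 6, 229416, 21),
  (163912, 4, 131488, 19),
  (163915, 7, 98454, 20),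
  (163920, 4, 34886, 25),
  (163925, 6, 24993, 22),
  (163926, 5, 139606, 3),
  (163930, 5, 139338, 8),
  (163935, 6, 194934, 25),
  (163936, 4, 196752, 19),
  (163942, 6, 147526, 12),
  (163953, 6, 116966, 25),
  (163956, 6, 156020, 3),
  (163959, 6, 129270, 25),
  (163965, 6, 139694, 19),
  (163966, 6, 244182, 25),
  (163977, 6, 82106, 23),
  (163978, 6, 458, 13),
  (163985, 7, 12452, 23),
  (163986, 6, 7245, 25),
  (163988, 6, 468, 10),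
  (163991, 6, 245799, 20),
  (163998, 6, 244182, 10),
  (164002, 6, 482, 13),
  (164004, 6, 28980, 21),
  (164007, 7, 57738, 22),
  (164008, 6, 213064, 4),
  (164011, 6, 38379, 4),
  (164014, 7, 59534, 22),
  (164019, 6, 191863, 26),
  (164025, 6, 241111, 26),
  (164026, 6, 249319, 26),
  (164028, 6, 213212, 14),
  (164035, 6, 98360, 21),
  (164037, 6, 123048, 23),
  (164041, 6, 131556, 19),
  (164044, 6, 460, 7),
  (164050, 5, 466, 1),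
  (164065, 7, 24874, 22),
  (164066, 7, 57386, 22),
  (164075, 7, 229534, 20),
  (164077, 6, 139750, 19),
  (164078, 6, 35246, 13),
  (164083, 7, 245934, 20),
  (164089, 6, 139756, 19),
  (164092, 5, 25052, 7),
  (164097, 4, 147504, 22),
  (164098, 3, 14, 25),
  (164100, 4, 81968, 22),
  (164104, 4, 196640, 19),
  (164107, 6, 147470, 25),
  (164109, 6, 155654, 25),
  (164110, 6, 139278, 25),
  (164112, 4, 32774, 25),
  (164117, 6, 24977, 22),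
  (164118, 6, 342, 15),
  (164122, 5, 139338, 13),
  (164128, 3, 400, 19),
  (164131, 5, 81934, 25),
  (164133, 5, 90118, 25),
  (164134, 6, 358, 15),
  (164137, 5, 212998, 25),
  (164138, 6, 196622, 25),
  (164140, 6, 204806, 25),
  (164148, 6, 372, 15),
  (164151, 6, 204815, 19),
  (164155, 7, 114814, 20),
  (164161, 4, 131120, 22),
  (164162, 4, 2058, 25),
  (164164, 4, 65584, 22),
  (164168, 4, 196896, 19),
  (164171, 7, 209282, 23),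
  (164176, 4, 34818, 25),
  (164185, 7, 114930, 20),
  (164192, 4, 131216, 19),
  (164195, 6, 83978, 25),
  (164202, 6, 147530, 17),
  (164207, 7, 223242, 25),
  (164209, 6, 116738, 25),
  (164216, 6, 376, 6),
  (164221, 6, 205102, 19),
  (164230, 6, 57496, 22),
  (164233, 6, 151604, 22),
  (164234, 7, 151858, 23),
  (164236, 6, 460, 5),
  (164239, 6, 7487, 25),
  (164241, 6, 196684, 19),
  (164242, 5, 466, 2),
  (164244, 6, 196682, 19),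
  (164247, 7, 12786, 21),
  (164253, 7, 196718, 19),
  (164257, 6, 204868, 19),
  (164260, 6, 204866, 19),
  (164263, 6, 7359, 25),
  (164267, 6, 7599, 25),
  (164270, 6, 7583, 25),
  (164272, 5, 204872, 19),
  (164275, 6, 191489, 26),
  (164278, 6, 204875, 19),
  (164281, 6, 240641, 26),
  (164282, 6, 248833, 26),
  (164284, 6, 25068, 5),
  (164287, 7, 126363, 1),
  (164291, 6, 114712, 21),
  (164294, 6, 57528, 22),
  (164297, 6, 229586, 20),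
  (164298, 6, 196682, 17),
  (164300, 7, 196962, 19),
  (164305, 7, 97459, 40),
  (164308, 6, 205268, 2),
  (164311, 7, 45564, 23),
  (164315, 6, 196973, 19),
  (164318, 6, 39322, 2),
  (164321, 7, 251211, 37),
  (164322, 6, 213474, 8),
  (164328, 5, 213480, 8),
  (164331, 6, 38305, 8),
  (164333, 6, 205158, 19),
  (164336, 6, 66949, 24),
  (164341, 6, 245995, 20),
  (164348, 6, 74220, 16),
  (164351, 7, 205167, 19),
  (164873, 7, 153898, 25),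
  (164875, 7, 196762, 23),
  (164893, 6, 194938, 25),
  (164895, 6, 190842, 25),
  (164899, 6, 86244, 21),
  (164911, 7, 223674, 25),
  (164917, 6, 129274, 25),
  (164921, 6, 252394, 25),
  (164923, 6, 248298, 25),
  (164933, 6, 229544, 21),
  (164935, 6, 237704, 23),
  (164937, 7, 74122, 23),
  (164945, 6, 86122, 21),
  (164957, 7, 124385, 38),
  (164963, 6, 84142, 25),
  (164973, 6, 177361, 23),
  (164975, 6, 86509, 21),
  (164993, 6, 124305, 38),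
  (165007, 7, 258100, 22),
  (165013, 7, 94578, 21),
  (165015, 5, 471, 10),
  (165017, 7, 247858, 20),
  (165033, 7, 231450, 20),
  (165035, 7, 26958, 22),
  (165043, 7, 247854, 20),
  (165071, 7, 241716, 22),
  (165081, 7, 247986, 20),
  (165093, 7, 94588, 21),
  (165095, 6, 25066, 22),
  (165099, 7, 26990, 22),
  (165117, 8, 62485, 43),
  (165119, 7, 205295, 16),
  (165129, 7, 70034, 23),
  (165137, 6, 116834, 20),
  (165151, 6, 192526, 25),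
  (165173, 6, 7583, 19),
  (165175, 6, 212369, 19),
  (165177, 7, 116858, 20),
  (165179, 6, 249870, 25),
  (165195, 7, 100566, 20),
  (165203, 6, 116966, 20),
  (165215, 5, 194570, 25),
  (165229, 7, 227330, 25),
  (165237, 7, 69998, 21),
  (165239, 6, 129034, 25),
  (165241, 6, 156027, 15),
  (165249, 6, 57576, 21),
  (165261, 7, 119218, 23),
  (165269, 7, 176364, 23),
  (165273, 7, 88502, 23),
  (165285, 6, 36311, 19),
  (165287, 5, 25050, 22),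
  (165297, 6, 39389, 19),
  (165299, 6, 244113, 19),
  (165311, 7, 7671, 25),
  (165325, 7, 78201, 21),
  (165327, 6, 231639, 20),
  (165333, 6, 240711, 2),
  (165335, 6, 248039, 20),
  (165337, 7, 96678, 23),
  (165349, 7, 29973, 24),
  (165361, 7, 77950, 21),
  (165373, 8, 248059, 20),
  (165375, 7, 126425, 1),
  (165891, 6, 115144, 21),
  (165901, 6, 53325, 24),
  (165905, 6, 12484, 23),
  (165909, 6, 90497, 22),
  (165915, 6, 186738, 25),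
  (165919, 7, 199134, 23),
  (165922, 6, 358, 13),
  (165925, 6, 207122, 19),
  (165931, 7, 219570, 25),
  (165935, 6, 128251, 26),
  (165939, 7, 121074, 25),
  (165943, 6, 193915, 26),
  (165945, 7, 248306, 25),
  (165946, 6, 194634, 12),
  (165949, 6, 39217, 12),
  (165950, 6, 251371, 26),
  (165961, 6, 185505, 43),
  (165962, 6, 172362, 23),
  (165969, 6, 90401, 22),
  (165970, 5, 139606, 10),
  (165974, 6, 342, 17),
  (165983, 7, 207310, 23),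
  (165985, 6, 84150, 25),
  (165990, 7, 123042, 22),
  (165999, 6, 47397, 24),
  (166003, 7, 151790, 21),
  (166007, 7, 152046, 21),
  (166010, 6, 162170, 3),
  (166017, 6, 57672, 21),
  (166022, 6, 132291, 19),
  (166027, 7, 258292, 22),
  (166031, 6, 97471, 26),
  (166035, 7, 13503, 24),
  (166039, 6, 163135, 26),
  (166042, 6, 37334, 1),
  (166045, 6, 212383, 26),
  (166046, 6, 39378, 1),
  (166051, 6, 248833, 13),
  (166055, 7, 160244, 21),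
  (166057, 6, 39405, 4),
  (166061, 7, 92558, 22),
  (166065, 7, 104926, 19),
  (166070, 6, 147926, 2),
  (166075, 8, 241129, 16),
  (166086, 6, 123048, 22),
  (166091, 7, 132581, 19),
  (166099, 6, 241111, 1),
  (166115, 7, 32037, 24),
  (166122, 7, 124974, 22),
  (166125, 7, 125202, 19),
  (166129, 7, 89509, 24),
  (166133, 7, 112914, 19),
  (166134, 7, 160190, 21),
  (166151, 6, 16414, 25),
  (166162, 5, 139606, 4),
  (166165, 6, 90513, 22),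
  (166166, 5, 139606, 11),
  (166171, 7, 235990, 23),
  (166175, 7, 180254, 25),
  (166182, 7, 135588, 21),
  (166191, 6, 128001, 26),
  (166199, 6, 193537, 26),
  (166205, 6, 242689, 26),
  (166206, 6, 6518, 15),
  (166211, 6, 185467, 43),
  (166218, 7, 141338, 25),
  (166221, 6, 149522, 25),
  (166225, 6, 90417, 22),
  (166229, 6, 72066, 19),
  (166239, 6, 197935, 19),
  (166242, 7, 122930, 22),
  (166245, 6, 76178, 19),
  (166246, 6, 147526, 17),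
  (166251, 7, 125238, 22),
  (166255, 7, 125366, 22),
  (166265, 6, 156029, 15),
  (166269, 7, 102821, 24),
  (166270, 6, 39222, 15),
  (166277, 6, 122968, 23),
  (166283, 6, 250354, 23),
  (166287, 6, 97281, 26),
  (166295, 6, 205271, 11),
  (166297, 7, 55790, 19),
  (166301, 6, 211969, 26),
  (166302, 6, 220161, 26),
  (166307, 7, 123162, 22),
  (166311, 7, 123290, 22),
  (166317, 7, 256402, 19),
  (166321, 7, 143478, 21),
  (166326, 7, 143798, 21),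
  (166337, 6, 114712, 23),
  (166351, 7, 225762, 23),
  (166359, 7, 45500, 23),
  (166361, 7, 186606, 19),
  (166362, 6, 244126, 11),
  (166365, 7, 96486, 23),
  (166366, 6, 37278, 2),
  (166375, 6, 213063, 17),
  (166377, 7, 95255, 38),
  (166378, 7, 124990, 22),
  (166381, 6, 213069, 17),
  (166385, 7, 12541, 23),
  (166386, 5, 147702, 1),
  (166389, 7, 143742, 21),
  (166390, 7, 143806, 21),
  (166399, 8, 112037, 24),
  (166913, 6, 98776, 23),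
  (166915, 6, 115016, 21),
  (166937, 7, 186746, 25),
  (166953, 7, 219578, 25),
  (166955, 7, 144833, 23),
  (166957, 7, 125382, 22),
  (166959, 7, 92614, 22),
  (166963, 7, 193875, 26),
  (166965, 6, 73117, 19),
  (166967, 6, 36145, 12),
  (167003, 7, 225683, 26),
  (167005, 7, 76238, 23),
  (167017, 7, 125286, 22),
  (167021, 6, 227758, 25),
  (167029, 7, 217454, 21),
  (167053, 7, 159988, 22),
  (167055, 6, 213242, 23),
  (167061, 7, 176292, 23),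
  (167063, 7, 225778, 21),
  (167079, 6, 90570, 22),
  (167103, 7, 243173, 20),
  (167113, 6, 248039, 19),
  (167115, 7, 118019, 19),
  (167117, 6, 90602, 23),
  (167121, 7, 225402, 21),
  (167123, 7, 225530, 21),
  (167127, 6, 162079, 26),
  (167137, 6, 231639, 19),
  (167139, 6, 90474, 22),
  (167141, 5, 487, 4),
  (167143, 6, 90602, 22),
  (167161, 7, 155903, 15),
  (167163, 8, 103685, 43),
  (167173, 6, 180456, 21),
  (167175, 6, 245864, 21),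
  (167193, 7, 104918, 23),
  (167197, 7, 55513, 24),
  (167213, 7, 177289, 23),
  (167217, 7, 126998, 25),
  (167219, 6, 200934, 21),
  (167221, 7, 118806, 25),
  (167233, 6, 133255, 19),
  (167235, 6, 180616, 21),
  (167259, 7, 200939, 21),
  (167261, 7, 110773, 24),
  (167263, 7, 88451, 19),
  (167273, 7, 227346, 25),
  (167275, 7, 227354, 25),
  (167277, 7, 219154, 25),
  (167279, 7, 92662, 22),
  (167281, 6, 191489, 6),
  (167285, 7, 201070, 21),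
  (167307, 7, 250098, 23),
  (167315, 6, 15531, 24),
  (167331, 5, 487, 8),
  (167335, 6, 90586, 22),
  (167355, 7, 220533, 7),
  (167357, 8, 92605, 38),
  (167371, 7, 258274, 23),
  (167375, 7, 13623, 25),
  (167379, 7, 118019, 20),
  (167381, 7, 176316, 23),
  (167383, 7, 176572, 23),
  (167395, 6, 90490, 22),
  (167399, 7, 209404, 21),
  (167417, 8, 252215, 7),
  (167939, 7, 208922, 23),
  (167947, 7, 106518, 20),
  (167956, 5, 139340, 1),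
  (167959, 7, 211034, 23),
  (167961, 7, 122930, 20),
  (167967, 6, 122935, 20),
  (167969, 6, 24838, 22),
  (167970, 6, 72066, 25),
  (167972, 6, 76178, 25),
  (167983, 6, 192573, 24),
  (167987, 7, 57607, 22),
  (167990, 7, 216463, 21),
  (167995, 7, 252130, 25),
  (167997, 6, 155822, 19),
  (167998, 6, 192582, 12),
  (168011, 7, 12690, 23),
  (168014, 6, 45394, 23),
  (168017, 7, 123042, 20),
  (168018, 5, 139338, 12),
  (168020, 5, 139340, 12),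
  (168025, 7, 182374, 25),
  (168026, 6, 139610, 10),
  (168034, 6, 147530, 12),
  (168039, 7, 96694, 25),
  (168041, 6, 26914, 22),
  (168042, 6, 156065, 19),
  (168044, 6, 206998, 25),
  (168047, 7, 45523, 23),
  (168051, 6, 38267, 12),
  (168053, 6, 156029, 3),
  (168059, 7, 59683, 22),
  (168061, 6, 156078, 19),
  (168068, 6, 460, 10),
  (168071, 6, 225370, 23),
  (168073, 6, 37903, 24),
  (168074, 7, 12578, 23),
  (168076, 7, 69820, 22),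
  (168079, 6, 237591, 20),
  (168083, 7, 227354, 23),
  (168085, 5, 477, 10),
  (168086, 7, 161882, 23),
  (168102, 6, 6630, 13),
  (168109, 6, 155878, 19),
  (168113, 7, 253994, 20),
  (168114, 6, 147930, 2),
  (168116, 7, 155850, 19),
  (168119, 7, 243173, 16),
  (168121, 6, 155884, 19),
  (168122, 5, 196986, 15),
  (168124, 5, 196988, 15),
  (168127, 7, 90575, 6),
  (168130, 7, 151578, 23),
  (168132, 7, 24748, 22),
  (168135, 7, 57772, 22),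
  (168137, 6, 7237, 24),
  (168138, 6, 458, 1),
  (168147, 7, 254118, 20),
  (168155, 6, 38289, 10),
  (168157, 7, 147950, 19),
  (168166, 6, 251910, 4),
  (168173, 6, 156134, 19),
  (168174, 6, 251918, 4),
  (168177, 6, 156108, 19),
  (168178, 7, 13623, 23),
  (168180, 6, 156106, 19),
  (168185, 6, 156140, 19),
  (168186, 7, 254140, 20),
  (168197, 5, 212998, 19),
  (168203, 7, 139620, 22),
  (168205, 6, 24838, 25),
  (168209, 6, 213004, 19),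
  (168210, 6, 139610, 11),
  (168215, 6, 213007, 19),
  (168217, 7, 49414, 25),
  (168218, 5, 139338, 6),
  (168220, 5, 139340, 6),
  (168234, 5, 362, 15),
  (168239, 7, 59794, 22),
  (168243, 7, 122990, 20),
  (168246, 7, 157937, 24),
  (168251, 6, 193915, 15),
  (168253, 6, 155725, 6),
  (168259, 7, 106694, 20),
  (168270, 6, 45402, 23),
  (168273, 7, 182530, 25),
  (168279, 6, 127173, 24),
  (168284, 5, 139340, 11),
  (168289, 6, 221444, 19),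
  (168290, 6, 57398, 22),
  (168292, 6, 49477, 24),
  (168310, 6, 192526, 6),
  (168321, 6, 213060, 19),
  (168322, 6, 458, 2),
  (168324, 6, 213058, 19),
  (168327, 6, 213063, 19),
  (168339, 6, 205275, 11),
  (168342, 6, 213067, 19),
  (168349, 7, 134519, 25),
  (168355, 7, 57630, 22),
  (168358, 6, 251970, 17),
  (168365, 7, 27034, 22),
  (168366, 6, 252394, 8),
  (168385, 6, 37957, 24),
  (168394, 7, 237780, 20),
  (168396, 6, 196684, 11),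
  (168403, 7, 254182, 20),
  (168413, 6, 244113, 11),
  (168419, 7, 129253, 21),
  (168427, 6, 237790, 20),
  (168430, 6, 219626, 8),
  (168433, 7, 132327, 25),
  (168434, 6, 156106, 12),
  (168436, 6, 156108, 12),
  (168442, 6, 147706, 1),
  (168963, 7, 108550, 20),
  (168969, 7, 164148, 22),
  (168983, 7, 80218, 23),
  (169005, 6, 107643, 26),
  (169009, 7, 121322, 25),
  (169011, 7, 124974, 20),
  (169019, 7, 124990, 20),
  (169025, 7, 108674, 20),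
  (169027, 7, 24723, 26),
  (169035, 7, 32937, 21),
  (169045, 7, 63870, 25),
  (169053, 6, 194686, 25),
  (169055, 7, 190590, 25),
  (169061, 7, 96702, 25),
  (169063, 6, 25062, 22),
  (169071, 7, 122971, 26),
  (169103, 7, 52317, 44),
  (169107, 5, 475, 10),
  (169113, 6, 59721, 22),
  (169115, 7, 256054, 20),
  (169123, 6, 239630, 20),
  (169143, 7, 94537, 38),
  (169149, 7, 169349, 43),
  (169159, 6, 25068, 22),
  (169167, 7, 176626, 23),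
  (169171, 7, 128067, 21),
  (169179, 7, 143798, 23),
  (169185, 5, 491, 4),
  (169195, 7, 136613, 25),
  (169217, 7, 108610, 20),
  (169219, 7, 74010, 23),
  (169227, 7, 108630, 20),
  (169237, 6, 7599, 19),
  (169239, 6, 220577, 19),
  (169245, 6, 157925, 42),
  (169255, 6, 25046, 22),
  (169261, 7, 94470, 25),
  (169263, 7, 27090, 22),
  (169265, 7, 250118, 25),
  (169273, 7, 119046, 25),
  (169275, 7, 125054, 20),
  (169281, 7, 57716, 22),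
  (169289, 7, 22786, 25),
  (169291, 7, 143770, 23),
  (169301, 7, 194818, 25),
  (169309, 7, 176350, 23),
  (169311, 7, 176606, 23),
  (169325, 6, 96514, 25),
  (169327, 6, 46251, 26),
  (169329, 7, 144543, 23),
  (169349, 6, 36327, 19),
  (169351, 5, 25052, 22),
  (169357, 7, 176362, 23),
  (169359, 6, 242156, 22),
  (169361, 6, 39405, 19),
  (169363, 6, 252321, 19),
  (169369, 6, 119961, 21),
  (169377, 6, 239690, 20),
  (169387, 5, 491, 8),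
  (169399, 7, 163051, 24),
  (169405, 7, 47231, 41),
  (169407, 8, 73039, 40),
  (169413, 6, 213338, 23),
  (169423, 6, 15531, 26),
  (169433, 6, 243089, 11),
  (169435, 7, 143806, 23),
  (169441, 7, 239818, 20),
  (169443, 7, 24958, 22),
  (169449, 7, 239834, 20),
  (169451, 6, 44195, 26),
  (169461, 7, 73167, 40),
  (169463, 8, 47215, 41),
  (169469, 8, 246201, 37),
  (169471, 8, 130521, 1),
  (169986, 6, 122884, 22),
  (169989, 6, 26914, 25),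
  (169997, 6, 157730, 25),
  (169998, 6, 45314, 23),
  (170003, 7, 12541, 24),
  (170011, 7, 186482, 25),
  (170015, 7, 148655, 19),
  (170019, 7, 143485, 24),
  (170033, 7, 135405, 24),
  (170034, 6, 190842, 3),
  (170041, 7, 88478, 19),
  (170046, 6, 194934, 3),
  (170049, 6, 18742, 25),
  (170054, 6, 4508, 39),
  (170057, 6, 215174, 19),
  (170067, 7, 235546, 23),
  (170079, 7, 125345, 22),
  (170083, 7, 88502, 25),
  (170087, 7, 96678, 25),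
  (170097, 7, 121317, 24),
  (170098, 7, 104918, 25),
  (170101, 6, 46321, 20),
  (170110, 6, 162166, 3),
  (170115, 7, 123148, 22),
  (170123, 7, 11719, 20),
  (170127, 7, 146749, 25),
  (170130, 7, 91531, 21),
  (170134, 6, 39386, 1),
  (170137, 7, 121294, 19),
  (170138, 7, 12646, 23),
  (170141, 7, 45222, 23),
  (170142, 6, 35290, 1),
  (170145, 7, 100854, 19),
  (170146, 7, 122894, 22),
  (170149, 6, 90510, 22),
  (170158, 5, 6634, 13),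
  (170175, 8, 170115, 41),
  (170179, 7, 249882, 23),
  (170187, 7, 12786, 23),
  (170194, 7, 126181, 24),
  (170197, 6, 145823, 26),
  (170201, 6, 39313, 10),
  (170205, 7, 45238, 23),
  (170206, 7, 245850, 43),
  (170209, 6, 90414, 22),
  (170210, 7, 60773, 24),
  (170213, 5, 493, 4),
  (170214, 7, 178641, 20),
  (170218, 6, 249870, 4),
  (170231, 7, 129423, 6),
  (170235, 8, 248895, 7),
  (170242, 5, 139550, 25),
  (170254, 6, 286, 25),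
  (170267, 7, 57630, 25),
  (170279, 6, 213278, 25),
  (170283, 6, 90398, 25),
  (170287, 7, 125330, 22),
  (170289, 6, 254230, 25),
  (170290, 6, 6522, 15),
  (170293, 7, 246038, 25),
  (170298, 7, 106782, 25),
  (170301, 7, 114966, 25),
  (170309, 6, 149778, 25),
  (170310, 6, 163930, 23),
  (170317, 6, 221444, 22),
  (170323, 7, 190746, 25)]

theorem chk_rows1_18 : rows1_18.all (rowBP1 tr1 bm1 gensLitP gensListP 1) = true := by decide +kernel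

/-- Rows 15200 to 15999. -/
def rows1_19 : List (ℕ × ℕ × ℕ × ℕ) := [(170335, 7, 51482, 25),
  (170339, 7, 121317, 21),
  (170347, 6, 125234, 22),
  (170353, 7, 137406, 19),
  (170354, 5, 194570, 6),
  (170361, 7, 173195, 26),
  (170366, 5, 35134, 15),
  (170375, 7, 123292, 22),
  (170379, 6, 27785, 26),
  (170383, 7, 209260, 22),
  (170389, 6, 205277, 11),
  (170393, 7, 12526, 23),
  (170397, 6, 54553, 21),
  (170401, 6, 90398, 22),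
  (170405, 6, 90526, 22),
  (170406, 6, 250342, 8),
  (170409, 5, 493, 8),
  (170423, 7, 163035, 24),
  (170439, 7, 123324, 22),
  (170443, 7, 160204, 22),
  (170447, 7, 45498, 23),
  (170450, 5, 35230, 2),
  (170453, 7, 140407, 25),
  (170458, 6, 39318, 2),
  (170465, 6, 90430, 22),
  (170466, 6, 219622, 8),
  (170470, 7, 144543, 25),
  (170473, 6, 92474, 22),
  (170483, 8, 217533, 37),
  (170491, 8, 128263, 9),
  (171027, 7, 51578, 25),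
  (171029, 7, 63850, 25),
  (171037, 6, 89485, 19),
  (171039, 7, 176518, 23),
  (171043, 7, 117069, 21),
  (171049, 6, 125250, 22),
  (171051, 6, 170409, 21),
  (171053, 7, 227498, 25),
  (171089, 7, 143795, 26),
  (171091, 6, 89379, 19),
  (171093, 6, 44277, 20),
  (171097, 7, 143574, 23),
  (171103, 6, 34037, 20),
  (171105, 7, 123238, 22),
  (171107, 6, 90470, 22),
  (171111, 6, 90598, 22),
  (171137, 7, 258330, 23),
  (171141, 7, 258394, 23),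
  (171143, 6, 90572, 22),
  (171149, 7, 176290, 23),
  (171187, 7, 244195, 16),
  (171191, 7, 90575, 22),
  (171197, 7, 213119, 7),
  (171201, 6, 123244, 22),
  (171207, 6, 90604, 22),
  (171211, 7, 77123, 20),
  (171213, 7, 176306, 23),
  (171215, 6, 33209, 21),
  (171249, 7, 128359, 2),
  (171253, 8, 249919, 7),
  (171255, 7, 90607, 22),
  (171263, 8, 163065, 15),
  (171281, 6, 50327, 20),
  (171285, 7, 181483, 21),
  (171291, 6, 47273, 24),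
  (171293, 6, 120201, 21),
  (171295, 7, 53534, 25),
  (171297, 6, 137337, 24),
  (171299, 6, 90454, 22),
  (171303, 6, 90582, 22),
  (171305, 7, 94486, 25),
  (171309, 7, 86294, 25),
  (171311, 7, 86302, 25),
  (171347, 6, 120163, 21),
  (171351, 7, 100698, 23),
  (171353, 7, 63762, 25),
  (171355, 7, 86261, 24),
  (171361, 7, 144603, 23),
  (171371, 6, 143835, 23),
  (171375, 7, 92658, 22),
  (171395, 6, 90460, 22),
  (171405, 7, 241964, 22),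
  (171441, 8, 233663, 12),
  (171443, 7, 90463, 22),
  (171447, 7, 90591, 22),
  (171451, 8, 194045, 15),
  (171453, 7, 213375, 7),
  (171459, 6, 90492, 22),
  (171461, 6, 167141, 19),
  (171463, 7, 81059, 26),
  (171467, 7, 192972, 22),
  (171469, 6, 140607, 25),
  (171511, 8, 62959, 14),
  (171515, 7, 249149, 7),
  (172044, 5, 139340, 14),
  (172054, 5, 139606, 15),
  (172057, 7, 114706, 20),
  (172058, 5, 139338, 4),
  (172068, 6, 156020, 5),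
  (172072, 5, 155720, 14),
  (172077, 6, 194865, 14),
  (172081, 6, 114698, 20),
  (172087, 7, 235562, 21),
  (172088, 5, 155720, 4),
  (172091, 6, 38267, 4),
  (172093, 7, 114715, 20),
  (172099, 6, 98470, 20),
  (172101, 6, 213393, 22),
  (172105, 7, 98482, 20),
  (172108, 6, 139612, 16),
  (172111, 6, 162166, 25),
  (172117, 6, 204849, 22),
  (172121, 7, 182566, 25),
  (172127, 6, 194870, 25),
  (172130, 6, 88198, 21),
  (172135, 6, 96502, 25),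
  (172139, 6, 219622, 25),
  (172141, 7, 223734, 25),
  (172148, 7, 133162, 21),
  (172151, 6, 129206, 25),
  (172155, 6, 252326, 25),
  (172158, 5, 35134, 13),
  (172164, 7, 49212, 23),
  (172167, 6, 246204, 23),
  (172174, 6, 244126, 7),
  (172177, 7, 36922, 21),
  (172178, 5, 466, 13),
  (172184, 5, 204872, 4),
  (172187, 6, 242689, 13),
  (172198, 6, 205158, 15),
  (172211, 7, 104506, 21),
  (172214, 6, 205174, 15),
  (172225, 7, 61506, 21),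
  (172226, 6, 37901, 25),
  (172228, 6, 468, 7),
  (172232, 6, 472, 7),
  (172235, 7, 29945, 21),
  (172237, 6, 205277, 16),
  (172238, 7, 188718, 23),
  (172241, 7, 86044, 23),
  (172244, 7, 20572, 23),
  (172251, 7, 245910, 20),
  (172254, 5, 35230, 13),
  (172259, 7, 14769, 23),
  (172262, 6, 155862, 12),
  (172275, 6, 177265, 22),
  (172277, 6, 47349, 23),
  (172281, 6, 15541, 23),
  (172282, 6, 90458, 17),
  (172287, 7, 38397, 25),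
  (172291, 6, 98406, 20),
  (172293, 6, 205217, 22),
  (172297, 7, 98418, 20),
  (172303, 7, 200743, 19),
  (172309, 6, 24646, 25),
  (172313, 6, 147526, 25),
  (172316, 6, 139612, 14),
  (172322, 6, 84142, 21),
  (172334, 6, 190842, 8),
  (172337, 5, 81990, 25),
  (172340, 6, 73798, 25),
  (172358, 5, 139606, 12),
  (172361, 7, 182338, 25),
  (172362, 5, 139338, 17),
  (172367, 6, 190538, 25),
  (172371, 6, 114698, 21),
  (172380, 5, 139340, 7),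
  (172383, 7, 244098, 23),
  (172388, 7, 108610, 25),
  (172392, 5, 155720, 17),
  (172395, 6, 38193, 8),
  (172398, 6, 239690, 25),
  (172402, 6, 83978, 21),
  (172404, 6, 372, 16),
  (172408, 5, 155720, 7),
  (172413, 5, 381, 16),
  (172414, 7, 114909, 20),
  (172417, 7, 86196, 23),
  (172418, 6, 90282, 21),
  (172423, 7, 229479, 20),
  (172429, 7, 118966, 23),
  (172430, 6, 240090, 8),
  (172436, 6, 468, 5),
  (172439, 7, 249882, 21),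
  (172440, 6, 472, 5),
  (172443, 7, 219570, 23),
  (172445, 6, 36215, 25),
  (172457, 6, 146731, 22),
  (172458, 6, 213338, 4),
  (172469, 6, 36087, 25),
  (172470, 6, 74102, 15),
  (172473, 6, 36327, 25),
  (172474, 7, 54389, 22),
  (172476, 6, 36311, 25),
  (172482, 6, 205266, 8),
  (172484, 7, 201026, 19),
  (172488, 5, 204872, 17),
  (172491, 6, 204875, 17),
  (172493, 7, 127142, 23),
  (172494, 7, 96457, 22),
  (172497, 7, 201036, 19),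
  (172498, 6, 245956, 20),
  (172507, 7, 168053, 22),
  (172509, 7, 201070, 19),
  (172510, 6, 243778, 5),
  (172515, 7, 229614, 20),
  (172517, 7, 21893, 24),
  (172518, 6, 156118, 12),
  (172533, 6, 209230, 19),
  (172534, 6, 147926, 12),
  (172537, 7, 209260, 19),
  (172538, 7, 118019, 26),
  (172540, 7, 209258, 19),
  (172543, 7, 193725, 10),
  (173059, 6, 100390, 20),
  (173069, 6, 162170, 25),
  (173071, 7, 229534, 23),
  (173073, 6, 116738, 20),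
  (173085, 6, 194874, 25),
  (173093, 6, 191559, 5),
  (173097, 6, 193841, 14),
  (173109, 6, 129210, 25),
  (173139, 6, 116870, 20),
  (173151, 6, 190782, 25),
  (173159, 7, 92414, 25),
  (173163, 7, 100542, 20),
  (173173, 5, 129214, 25),
  (173177, 5, 252334, 25),
  (173179, 6, 248238, 25),
  (173195, 6, 213182, 23),
  (173207, 6, 95407, 24),
  (173209, 7, 121317, 19),
  (173211, 6, 173173, 38),
  (173217, 7, 59598, 21),
  (173229, 7, 36285, 25),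
  (173235, 6, 39098, 21),
  (173245, 7, 110889, 44),
  (173255, 6, 205271, 16),
  (173257, 6, 90542, 23),
  (173259, 6, 205275, 16),
  (173271, 7, 247943, 20),
  (173281, 6, 231645, 19),
  (173283, 6, 129094, 21),
  (173293, 7, 145577, 37),
  (173295, 8, 128407, 6),
  (173309, 7, 87171, 42),
  (173311, 7, 111033, 44),
  (173325, 6, 192582, 25),
  (173327, 7, 233622, 23),
  (173331, 6, 53386, 21),
  (173343, 7, 235666, 23),
  (173349, 6, 127046, 25),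
  (173353, 6, 249926, 25),
  (173365, 7, 252042, 21),
  (173369, 7, 148597, 22),
  (173377, 6, 100578, 20),
  (173391, 6, 194634, 25),
  (173407, 6, 161866, 25),
  (173413, 6, 129090, 25),
  (173415, 6, 129098, 25),
  (173417, 6, 251970, 25),
  (173419, 6, 251978, 25),
  (173431, 5, 375, 16),
  (173435, 5, 379, 16),
  (173445, 7, 119220, 23),
  (173447, 7, 87431, 42),
  (173449, 6, 178473, 22),
  (173451, 7, 173413, 38),
  (173461, 6, 241111, 5),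
  (173463, 6, 90460, 23),
  (173465, 6, 38289, 14),
  (173473, 6, 177451, 22),
  (173485, 7, 116875, 39),
  (173489, 6, 247882, 20),
  (173501, 8, 248895, 2),
  (173511, 6, 146731, 26),
  (173515, 7, 225446, 23),
  (173525, 6, 213340, 23),
  (173539, 6, 175395, 26),
  (173551, 7, 145743, 37),
  (173553, 6, 248010, 20),
  (173555, 7, 51354, 21),
  (173565, 7, 27743, 43),
  (173567, 7, 38391, 25),
  (174081, 6, 49482, 21),
  (174085, 6, 196913, 22),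
  (174095, 7, 88073, 42),
  (174097, 6, 110620, 23),
  (174098, 6, 342, 13),
  (174101, 6, 155825, 22),
  (174102, 5, 139606, 2),
  (174111, 7, 199130, 23),
  (174115, 7, 117198, 21),
  (174119, 7, 96482, 25),
  (174121, 7, 215538, 25),
  (174122, 6, 39222, 5),
  (174131, 6, 36215, 4),
  (174135, 7, 104746, 21),
  (174137, 6, 194561, 13),
  (174141, 7, 128225, 20),
  (174142, 7, 244098, 25),
  (174145, 6, 147857, 22),
  (174155, 7, 174145, 37),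
  (174159, 6, 60609, 20),
  (174161, 6, 204977, 22),
  (174175, 6, 112677, 24),
  (174179, 7, 121286, 21),
  (174183, 7, 96486, 25),
  (174186, 6, 194934, 14),
  (174189, 6, 223718, 25),
  (174190, 6, 37238, 5),
  (174195, 7, 231722, 21),
  (174205, 6, 104741, 24),
  (174215, 7, 254154, 21),
  (174218, 6, 241678, 16),
  (174222, 5, 243722, 16),
  (174227, 6, 36311, 4),
  (174231, 7, 102714, 21),
  (174233, 6, 39389, 4),
  (174238, 7, 136427, 19),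
  (174241, 7, 100830, 19),
  (174242, 7, 92558, 21),
  (174257, 7, 104918, 19),
  (174261, 6, 39226, 21),
  (174262, 6, 205030, 11),
  (174271, 7, 88201, 42),
  (174275, 7, 254444, 23),
  (174282, 7, 188782, 23),
  (174286, 6, 243786, 16),
  (174291, 7, 249884, 23),
  (174295, 7, 249948, 23),
  (174297, 7, 211095, 26),
  (174306, 6, 25062, 1),
  (174309, 6, 194630, 21),
  (174310, 7, 186817, 20),
  (174319, 8, 161277, 21),
  (174326, 6, 213238, 8),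
  (174331, 7, 174161, 37),
  (174335, 7, 90463, 17),
  (174341, 6, 205089, 22),
  (174347, 6, 188510, 25),
  (174351, 7, 180318, 25),
  (174357, 6, 147633, 22),
  (174363, 6, 235986, 23),
  (174367, 7, 174357, 37),
  (174377, 7, 18878, 19),
  (174381, 7, 251977, 24),
  (174382, 7, 136613, 21),
  (174394, 6, 37182, 7),
  (174397, 7, 223642, 19),
  (174398, 6, 39226, 7),
  (174401, 6, 156033, 22),
  (174402, 6, 342, 10),
  (174405, 6, 51282, 25),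
  (174406, 5, 139606, 8),
  (174417, 6, 196785, 22),
  (174421, 6, 18514, 25),
  (174427, 7, 88229, 42),
  (174435, 7, 189707, 26),
  (174439, 6, 36145, 8),
  (174441, 7, 256082, 25),
  (174445, 6, 155725, 17),
  (174457, 7, 223314, 25),
  (174458, 7, 112701, 20),
  (174462, 6, 39290, 7),
  (174467, 6, 250356, 23),
  (174471, 7, 216513, 20),
  (174477, 7, 252298, 19),
  (174478, 7, 151926, 23),
  (174483, 6, 27913, 26),
  (174489, 7, 121074, 23),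
  (174490, 6, 39318, 14),
  (174493, 7, 248202, 19),
  (174498, 6, 139510, 13),
  (174501, 6, 244122, 19),
  (174507, 7, 61889, 44),
  (174511, 7, 174341, 37),
  (174513, 6, 39382, 19),
  (174518, 6, 25046, 2),
  (174523, 8, 210029, 19),
  (174535, 6, 204871, 17),
  (174537, 7, 127206, 23),
  (174541, 6, 39313, 8),
  (174551, 7, 245852, 23),
  (174553, 7, 77067, 26),
  (174554, 6, 243782, 5),
  (174557, 7, 96482, 23),
  (174558, 6, 241734, 5),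
  (174562, 6, 155878, 1),
  (174565, 7, 194662, 21),
  (174571, 7, 88101, 42),
  (174581, 7, 51482, 21),
  (175113, 7, 153978, 25),
  (175115, 7, 110701, 24),
  (175129, 7, 186682, 25),
  (175133, 7, 89509, 19),
  (175135, 6, 198874, 23),
  (175137, 7, 145601, 23),
  (175177, 6, 215215, 19),
  (175179, 7, 94611, 26),
  (175195, 7, 239818, 23),
  (175197, 7, 194862, 25),
  (175201, 6, 198815, 19),
  (175203, 6, 155719, 5),
  (175205, 6, 186566, 21),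
  (175221, 5, 375, 4),
  (175237, 6, 204871, 7),
  (175239, 6, 213244, 23),
  (175253, 7, 258396, 23),
  (175273, 8, 253305, 3),
  (175275, 7, 168327, 44),
  (175279, 8, 251927, 13),
  (175289, 7, 45537, 40),
  (175295, 7, 38397, 4),
  (175299, 7, 127298, 21),
  (175301, 6, 90604, 23),
  (175313, 7, 229818, 21),
  (175315, 7, 68963, 20),
  (175317, 5, 471, 4),
  (175319, 6, 33210, 21),
  (175337, 7, 86361, 39),
  (175341, 7, 114963, 42),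
  (175353, 7, 155887, 15),
  (175357, 7, 140313, 37),
  (175385, 7, 159830, 25),
  (175391, 6, 151646, 25),
  (175395, 5, 375, 8),
  (175397, 7, 118870, 25),
  (175399, 6, 178569, 23),
  (175409, 7, 6551, 19),
  (175411, 7, 186762, 21),
  (175413, 6, 36215, 16),
  (175433, 6, 201833, 21),
  (175435, 7, 206123, 26),
  (175437, 7, 78278, 23),
  (175451, 7, 161882, 25),
  (175453, 7, 110645, 24),
  (175457, 7, 129106, 25),
  (175461, 7, 19611, 41),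
  (175463, 6, 4533, 24),
  (175473, 7, 96338, 25),
  (175475, 6, 145885, 23),
  (175477, 7, 88146, 25),
  (175489, 7, 119284, 23),
  (175491, 5, 471, 8),
  (175529, 7, 114735, 42),
  (175531, 7, 140555, 37),
  (175533, 7, 7667, 8),
  (175535, 7, 62903, 14),
  (175557, 7, 192738, 21),
  (175559, 7, 104843, 19),
  (175571, 6, 205271, 5),
  (175575, 6, 140323, 37),
  (175593, 7, 38327, 8),
  (175599, 8, 144637, 4),
  (175611, 7, 126363, 19),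
  (176129, 7, 106530, 20),
  (176137, 7, 131381, 22),
  (176143, 6, 127037, 24),
  (176145, 7, 51490, 25),
  (176146, 5, 139338, 11),
  (176151, 7, 63794, 25),
  (176154, 6, 139610, 15),
  (176156, 6, 139612, 15),
  (176159, 7, 47558, 23),
  (176163, 6, 106542, 20),
  (176165, 7, 92658, 25),
  (176166, 6, 39226, 5),
  (176171, 6, 241693, 24),
  (176173, 6, 249901, 24),
  (176179, 7, 15751, 23),
  (176182, 6, 6518, 13),
  (176193, 7, 8595, 26),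
  (176199, 6, 250307, 21),
  (176207, 7, 30917, 24),
  (176217, 7, 32811, 21),
  (176220, 5, 139340, 2),
  (176227, 7, 88550, 25),
  (176229, 7, 92662, 25),
  (176230, 6, 39290, 5),
  (176235, 7, 106686, 20),
  (176237, 7, 223478, 25),
  (176238, 6, 35194, 5),
  (176245, 7, 125366, 25),
  (176246, 6, 39222, 13),
  (176251, 6, 175221, 22),
  (176253, 7, 160174, 19),
  (176259, 7, 237606, 20),
  (176261, 6, 151750, 19),
  (176262, 6, 240030, 7),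
  (176267, 7, 14754, 23),
  (176269, 7, 47330, 23),
  (176270, 6, 244118, 7),
  (176277, 7, 151758, 19),
  (176285, 7, 151790, 19),
  (176290, 6, 196858, 11),
  (176292, 6, 25068, 10),
  (176295, 8, 253331, 1),
  (176298, 6, 205162, 15),
  (176303, 7, 90591, 6),
  (176305, 6, 167141, 25),
  (176306, 6, 156122, 2),
  (176314, 6, 205178, 15),
  (176316, 6, 205180, 15),
  (176323, 6, 127171, 21),
  (176325, 6, 192835, 21),
  (176331, 7, 14770, 23),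
  (176333, 7, 152038, 19),
  (176334, 6, 244182, 7),
  (176342, 6, 39318, 13),
  (176347, 6, 178293, 22),
  (176349, 7, 152046, 19),
  (176350, 6, 243726, 4),
  (176356, 6, 155868, 12),
  (176359, 7, 213375, 3),
  (176361, 7, 152863, 22),
  (176362, 6, 25066, 1),
  (176364, 6, 196860, 2),
  (176367, 8, 160231, 19),
  (176369, 7, 160204, 19),
  (176377, 6, 146485, 22),
  (176380, 6, 82300, 11),
  (176383, 7, 7667, 4),
  (176385, 7, 180550, 25),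
  (176388, 5, 139340, 10),
  (176391, 7, 206942, 23),
  (176407, 7, 155982, 25),
  (176409, 7, 122962, 20),
  (176415, 6, 217135, 19),
  (176419, 7, 106606, 20),
  (176430, 6, 194634, 17),
  (176438, 5, 35134, 7),
  (176445, 7, 252073, 24),
  (176446, 6, 39222, 7),
  (176450, 6, 139610, 12),
  (176452, 6, 139612, 12),
  (176455, 7, 198750, 23),
  (176457, 7, 4293, 24),
  (176458, 5, 139338, 1),
  (176465, 7, 123074, 20),
  (176471, 6, 123079, 20),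
  (176473, 7, 18754, 25),
  (176483, 7, 106734, 20),
  (176491, 7, 106750, 20),
  (176493, 6, 177547, 26),
  (176494, 6, 162170, 8),
  (176501, 7, 223554, 25),
  (176507, 7, 84298, 25),
  (176509, 6, 92482, 25),
  (176510, 6, 194934, 16),
  (176517, 7, 212361, 26),
  (176518, 6, 243778, 17),
  (176523, 7, 14762, 23),
  (176526, 6, 243786, 17),
  (176534, 5, 243722, 5),
  (176539, 7, 14766, 23),
  (176545, 6, 15531, 23),
  (176548, 6, 205180, 1),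
  (176553, 7, 225380, 19),
  (176561, 7, 254026, 20),
  (176562, 5, 25050, 2),
  (176564, 5, 196988, 1),
  (176567, 8, 257517, 21),
  (176569, 7, 225388, 19),
  (176572, 6, 74108, 15),
  (176587, 7, 237814, 20),
  (176589, 6, 146827, 26),
  (176595, 7, 217421, 19),
  (176598, 6, 243786, 5),
  (176603, 6, 14782, 23),
  (176605, 7, 217454, 19),
  (176606, 6, 35290, 14),
  (176610, 6, 156122, 12),
  (176612, 6, 156124, 12),
  (176617, 6, 175491, 26),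
  (176618, 6, 82394, 10),
  (176623, 7, 36285, 8),
  (176625, 7, 254154, 20),
  (176626, 6, 147930, 12),
  (176634, 6, 90570, 10),
  (176636, 6, 213116, 11),
  (176639, 8, 257339, 7),
  (177159, 6, 108583, 20),
  (177165, 7, 161914, 25),
  (177175, 6, 94445, 24),
  (177181, 7, 178374, 23),
  (177193, 7, 145539, 23),
  (177195, 7, 215274, 25),
  (177221, 7, 31102, 25),
  (177231, 7, 157822, 25),
  (177237, 7, 63806, 25),
  (177239, 7, 69982, 23),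
  (177247, 7, 190526, 25),
  (177249, 7, 108714, 20),
  (177251, 6, 193915, 14),
  (177257, 7, 108730, 20),
  (177259, 7, 108734, 20),
  (177265, 5, 379, 4),
  (177281, 6, 83361, 39),
  (177289, 6, 204875, 7),
  (177297, 6, 58569, 21),
  (177305, 7, 145574, 23),
  (177325, 7, 250943, 24),
  (177335, 7, 36345, 4),
  (177361, 5, 475, 4),
  (177363, 7, 86302, 23),
  (177369, 7, 145590, 23),
  (177397, 7, 83043, 39),
  (177405, 7, 62903, 10),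
  (177407, 7, 102897, 40),
  (177421, 7, 61766, 25),
  (177437, 7, 178382, 23),
  (177439, 7, 84137, 42),
  (177441, 6, 202841, 24),
  (177443, 6, 146827, 23),
  (177451, 5, 379, 8),
  (177465, 6, 38267, 16),
  (177477, 7, 199006, 23),
  (177485, 6, 63810, 25),
  (177501, 6, 178398, 23),
  (177503, 7, 31050, 25),
  (177505, 7, 134613, 43),
  (177507, 7, 108782, 20),
  (177513, 7, 121154, 25),
  (177521, 6, 134257, 22),
  (177529, 6, 125146, 20),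
  (177531, 6, 145823, 23),
  (177537, 7, 239714, 20),
  (177547, 5, 475, 8),
  (177555, 6, 90398, 23),
  (177561, 7, 256082, 20),
  (177573, 8, 243887, 12),
  (177575, 7, 155887, 10),
  (177583, 7, 83137, 39),
  (177591, 7, 155903, 10),
  (177599, 7, 53343, 44),
  (177601, 7, 215326, 23),
  (177611, 7, 239862, 20),
  (177617, 6, 213278, 23),
  (177619, 6, 205275, 5),
  (177639, 7, 39359, 8),
  (177645, 7, 36287, 8),
  (177647, 7, 143455, 38),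
  (177653, 7, 102863, 40),
  (177661, 7, 172473, 37),
  (177663, 8, 228443, 17),
  (178183, 6, 152711, 19),
  (178187, 7, 153714, 25),
  (178203, 7, 186418, 25),
  (178209, 6, 83361, 42),
  (178214, 6, 37182, 5),
  (178218, 5, 35134, 5),
  (178225, 7, 72118, 19),
  (178233, 7, 88470, 19),
  (178234, 7, 235666, 25),
  (178238, 6, 6522, 13),
  (178243, 7, 235550, 23),
  (178255, 7, 47506, 23),
  (178259, 7, 55606, 25),
  (178267, 6, 14806, 23),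
  (178273, 6, 155725, 5),
  (178274, 7, 88189, 20),
  (178278, 7, 63697, 20),
  (178286, 7, 68907, 21),
  (178293, 5, 381, 4),
  (178298, 6, 192526, 4),
  (178301, 7, 76090, 19),
  (178302, 5, 194570, 4),
  (178313, 7, 14562, 23),
  (178317, 6, 244189, 16),
  (178321, 6, 58697, 21),
  (178325, 6, 175221, 25),
  (178329, 7, 134613, 41),
  (178330, 7, 220199, 26),
  (178333, 7, 47270, 23),
  (178355, 8, 193767, 15),
  (178359, 7, 205039, 11),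
  (178367, 7, 38391, 4),
  (178369, 7, 173093, 25),
  (178370, 7, 186398, 23),
  (178373, 7, 14751, 26),
  (178374, 6, 240090, 7),
  (178377, 7, 248014, 19),
  (178378, 6, 241734, 16),
  (178381, 7, 104746, 19),
  (178382, 6, 243778, 16),
  (178389, 5, 477, 4),
  (178393, 7, 14582, 23),
  (178394, 6, 241678, 4),
  (178398, 5, 243722, 4),
  (178403, 7, 129479, 21),
  (178423, 7, 83137, 42),
  (178427, 7, 7671, 4),
  (178431, 7, 143455, 37),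
  (178439, 6, 245995, 21),
  (178443, 7, 14794, 23),
  (178447, 7, 49502, 25),
  (178465, 6, 202857, 24),
  (178466, 6, 194934, 8),
  (178470, 6, 192582, 17),
  (178473, 5, 381, 8),
  (178474, 7, 9447, 22),
  (178477, 7, 115030, 25),
  (178478, 7, 98654, 25),
  (178485, 6, 213334, 25),
  (178489, 6, 90454, 25),
  (178493, 6, 156029, 7),
  (178499, 7, 190810, 25),
  (178511, 7, 47514, 23),
  (178515, 7, 158042, 25),
  (178519, 7, 84137, 39),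
  (178523, 6, 26970, 25),
  (178527, 7, 47518, 23),
  (178529, 7, 256338, 25),
  (178530, 6, 162166, 8),
  (178537, 7, 149662, 19),
  (178542, 7, 100698, 25),
  (178545, 7, 137398, 19),
  (178546, 7, 89509, 21),
  (178550, 6, 35194, 7),
  (178554, 6, 37238, 7),
  (178562, 6, 244182, 8),
  (178566, 6, 241734, 17),
  (178569, 5, 477, 8),
  (178570, 7, 218395, 21),
  (178574, 7, 47402, 23),
  (178578, 6, 243726, 5),
  (178582, 6, 241678, 5),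
  (178585, 6, 11657, 26),
  (178586, 5, 35230, 14),
  (178599, 7, 7673, 8),
  (178603, 7, 83043, 42),
  (178615, 7, 205295, 11),
  (178619, 7, 102863, 44),
  (178638, 7, 155011, 26),
  (178641, 6, 39389, 14),
  (178642, 7, 180254, 23),
  (178646, 7, 180318, 23),
  (178649, 6, 186566, 19),
  (178653, 6, 173431, 25),
  (178654, 7, 47422, 23),
  (178667, 7, 235959, 11),
  (178671, 7, 102897, 44),
  (178679, 7, 53343, 40),
  (178683, 7, 172473, 38),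
  (178687, 8, 257357, 13),
  (179203, 7, 18810, 25),
  (179205, 7, 244062, 23),
  (179207, 7, 219435, 19),
  (179211, 6, 169387, 21),
  (179215, 7, 178562, 23),
  (179217, 6, 50633, 21),
  (179219, 7, 51514, 25),
  (179221, 7, 242014, 23),
  (179225, 7, 9447, 20),
  (179231, 7, 190506, 25),
  (179269, 6, 47349, 24),
  (179271, 7, 26990, 25),
  (179273, 7, 153726, 25),
  (179279, 7, 94491, 26),
  (179285, 7, 233822, 23),
  (179287, 7, 159899, 26),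
  (179289, 7, 145622, 23),
  (179291, 7, 68907, 19),
  (179295, 6, 33195, 21),
  (179367, 8, 249215, 3),
  (179369, 8, 117215, 19),
  (179371, 8, 145891, 23),
  (179377, 7, 258057, 44),
  (179379, 7, 7675, 20),
  (179381, 8, 121965, 39),
  (179383, 7, 128343, 17),
  (179391, 7, 39355, 21),
  (179425, 8, 87423, 20),
  (179429, 8, 173245, 25),
  (179433, 8, 212475, 16),
  (179435, 7, 126363, 6),
  (179437, 7, 220533, 3),
  (179441, 8, 258289, 40),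
  (179445, 8, 258497, 40),
  (179447, 8, 258129, 40),
  (179453, 8, 118173, 6),
  (179455, 7, 258489, 44),
  (179457, 6, 71801, 24),
  (179459, 7, 192862, 25),
  (179461, 7, 184662, 25),
  (179467, 7, 145866, 23),
  (179471, 7, 237925, 22),
  (179473, 7, 237854, 23),
  (179475, 7, 106782, 23),
  (179477, 7, 151894, 25),
  (179479, 7, 96457, 24),
  (179483, 6, 44195, 20),
  (179487, 7, 20830, 25),
  (179521, 7, 133295, 19),
  (179527, 7, 186714, 25),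
  (179529, 7, 63826, 25),
  (179533, 7, 150669, 19),
  (179535, 6, 4341, 24),
  (179541, 6, 138405, 19)]

theorem chk_rows1_19 : rows1_19.all (rowBP1 tr1 bm1 gensLitP gensListP 1) = true := by decide +kernel

/-- Rows 16000 to 16799. -/
def rows1_20 : List (ℕ × ℕ × ℕ × ℕ) := [(179543, 7, 98654, 23),
  (179545, 7, 31058, 25),
  (179617, 7, 258057, 40),
  (179619, 8, 121965, 42),
  (179621, 7, 7675, 8),
  (179623, 7, 252191, 13),
  (179625, 8, 258289, 44),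
  (179627, 8, 258497, 44),
  (179631, 8, 258129, 44),
  (179639, 8, 196065, 15),
  (179641, 7, 129423, 1),
  (179643, 8, 145903, 23),
  (179687, 7, 39355, 8),
  (179691, 8, 89459, 3),
  (179695, 7, 258489, 40),
  (179697, 7, 250999, 2),
  (179701, 8, 173311, 25),
  (179705, 8, 228445, 17),
  (179707, 8, 87413, 24),
  (179709, 8, 117147, 21),
  (180227, 6, 124305, 40),
  (180242, 6, 22690, 21),
  (180244, 6, 372, 10),
  (180251, 7, 186850, 25),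
  (180253, 6, 139454, 19),
  (180254, 6, 194934, 10),
  (180262, 6, 358, 6),
  (180265, 6, 155702, 22),
  (180266, 6, 57462, 22),
  (180268, 6, 207122, 25),
  (180273, 6, 116834, 25),
  (180274, 6, 118828, 20),
  (180279, 7, 23014, 21),
  (180286, 6, 35194, 17),
  (180291, 6, 118980, 21),
  (180294, 7, 82130, 22),
  (180297, 6, 149778, 22),
  (180298, 6, 18514, 22),
  (180300, 6, 84114, 22),
  (180303, 6, 90363, 26),
  (180311, 6, 156027, 26),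
  (180315, 7, 118966, 20),
  (180317, 6, 205275, 26),
  (180318, 6, 6518, 1),
  (180330, 5, 362, 17),
  (180335, 7, 227638, 25),
  (180340, 7, 108630, 25),
  (180343, 6, 202841, 23),
  (180344, 5, 155720, 8),
  (180347, 5, 379, 17),
  (180349, 7, 256374, 25),
  (180350, 7, 244054, 25),
  (180353, 7, 135482, 22),
  (180356, 5, 484, 10),
  (180359, 7, 254412, 21),
  (180363, 7, 137594, 22),
  (180365, 6, 139510, 19),
  (180374, 6, 90598, 6),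
  (180377, 6, 139516, 19),
  (180380, 6, 213244, 14),
  (180385, 7, 36924, 21),
  (180386, 7, 61554, 22),
  (180395, 7, 233502, 20),
  (180398, 5, 252334, 7),
  (180400, 6, 229864, 20),
  (180405, 6, 249899, 20),
  (180406, 5, 74214, 6),
  (180409, 7, 124385, 40),
  (180410, 6, 25066, 13),
  (180412, 6, 196860, 14),
  (180415, 8, 62485, 37),
  (180417, 7, 61508, 21),
  (180418, 6, 482, 1),
  (180420, 6, 139730, 19),
  (180427, 7, 233622, 20),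
  (180429, 7, 219546, 22),
  (180430, 6, 6630, 1),
  (180435, 7, 250022, 20),
  (180438, 6, 155878, 12),
  (180442, 6, 82298, 17),
  (180452, 5, 484, 7),
  (180456, 5, 213480, 16),
  (180459, 7, 176246, 22),
  (180461, 6, 213485, 16),
  (180464, 6, 164328, 20),
  (180467, 7, 131549, 19),
  (180469, 7, 31102, 21),
  (180479, 8, 60847, 22),
  (180485, 6, 204822, 19),
  (180486, 6, 213420, 21),
  (180490, 6, 147530, 13),
  (180495, 7, 207330, 22),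
  (180504, 5, 155720, 13),
  (180507, 6, 193841, 13),
  (180517, 6, 196630, 19),
  (180529, 6, 49286, 25),
  (180532, 7, 6438, 21),
  (180535, 6, 6630, 21),
  (180542, 6, 6522, 2),
  (180550, 6, 358, 3),
  (180559, 6, 128075, 26),
  (180564, 7, 108674, 25),
  (180567, 5, 6634, 21),
  (180573, 6, 242763, 26),
  (180574, 6, 250955, 26),
  (180582, 6, 213004, 21),
  (180585, 6, 131126, 22),
  (180586, 6, 196913, 19),
  (180588, 6, 141442, 25),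
  (180596, 6, 156020, 2),
  (180603, 6, 196925, 19),
  (180605, 6, 196926, 19),
  (180606, 6, 39226, 2),
  (180609, 7, 57452, 21),
  (180610, 7, 12394, 22),
  (180612, 5, 484, 5),
  (180615, 7, 254444, 21),
  (180616, 5, 213480, 14),
  (180621, 6, 204918, 19),
  (180622, 7, 14769, 21),
  (180627, 7, 249958, 20),
  (180629, 7, 14706, 21),
  (180630, 7, 14770, 21),
  (180633, 6, 204924, 19),
  (180634, 7, 153911, 23),
  (180636, 6, 204922, 19),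
  (180642, 6, 482, 2),
  (180647, 7, 249884, 21),
  (180654, 5, 6634, 2),
  (180659, 7, 14582, 21),
  (180661, 6, 14710, 21),
  (180662, 6, 205030, 6),
  (180666, 6, 205178, 4),
  (180671, 8, 191967, 15),
  (180676, 6, 205138, 19),
  (180685, 6, 205174, 19),
  (180686, 6, 251970, 5),
  (180694, 6, 74102, 3),
  (180697, 6, 205180, 19),
  (180698, 6, 213114, 17),
  (180700, 6, 205178, 19),
  (180703, 7, 205183, 19),
  (180705, 7, 196948, 19),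
  (180706, 7, 196945, 19),
  (180708, 6, 213476, 2),
  (180723, 6, 196957, 19),
  (180726, 6, 139750, 12),
  (180729, 5, 196988, 19),
  (180732, 5, 196986, 19),
  (180735, 7, 163051, 4),
  (181261, 6, 162234, 25),
  (181263, 6, 91355, 26),
  (181271, 5, 375, 10),
  (181273, 6, 120882, 20),
  (181275, 6, 198815, 23),
  (181281, 6, 88106, 25),
  (181303, 7, 88550, 21),
  (181307, 7, 27975, 22),
  (181325, 7, 194581, 24),
  (181333, 7, 63742, 25),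
  (181337, 7, 60773, 22),
  (181339, 7, 182766, 25),
  (181345, 6, 88110, 25),
  (181357, 6, 204918, 22),
  (181359, 7, 223550, 25),
  (181367, 7, 125054, 25),
  (181383, 5, 487, 10),
  (181385, 7, 235538, 20),
  (181393, 6, 58697, 22),
  (181405, 7, 63947, 4),
  (181407, 8, 79145, 42),
  (181415, 6, 29999, 24),
  (181417, 7, 235546, 20),
  (181419, 7, 235550, 20),
  (181427, 6, 96502, 21),
  (181439, 7, 59429, 43),
  (181447, 7, 250330, 22),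
  (181449, 7, 235666, 20),
  (181451, 7, 186714, 22),
  (181459, 6, 96506, 21),
  (181479, 6, 213479, 16),
  (181481, 7, 218395, 23),
  (181483, 6, 250881, 7),
  (181501, 7, 59413, 43),
  (181505, 6, 49388, 21),
  (181517, 7, 240034, 22),
  (181519, 7, 194921, 24),
  (181527, 7, 127118, 25),
  (181539, 6, 20622, 25),
  (181549, 6, 213110, 22),
  (181569, 6, 88194, 25),
  (181583, 6, 184341, 24),
  (181591, 7, 129162, 25),
  (181593, 7, 121074, 20),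
  (181595, 7, 252042, 25),
  (181603, 6, 135445, 24),
  (181621, 6, 191559, 2),
  (181637, 6, 36257, 14),
  (181641, 6, 38305, 14),
  (181651, 6, 146827, 24),
  (181671, 6, 249906, 22),
  (181683, 7, 252014, 20),
  (181695, 7, 201935, 41),
  (181703, 7, 258404, 21),
  (181713, 7, 252130, 20),
  (181715, 7, 201877, 24),
  (181727, 7, 90575, 16),
  (181733, 6, 249249, 11),
  (181735, 7, 233522, 22),
  (181739, 7, 169237, 24),
  (181757, 8, 230897, 38),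
  (181759, 7, 90607, 16),
  (182274, 6, 242, 22),
  (182277, 6, 198930, 19),
  (182278, 6, 147526, 11),
  (182283, 6, 133618, 22),
  (182298, 6, 37238, 1),
  (182309, 6, 20749, 24),
  (182310, 7, 57586, 22),
  (182329, 7, 243091, 26),
  (182334, 7, 126087, 22),
  (182337, 6, 206982, 19),
  (182338, 6, 358, 1),
  (182355, 6, 36145, 10),
  (182369, 6, 206998, 19),
  (182370, 7, 196908, 21),
  (182374, 6, 358, 17),
  (182379, 7, 132533, 19),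
  (182391, 5, 375, 17),
  (182397, 5, 381, 17),
  (182403, 7, 135674, 22),
  (182407, 7, 80957, 25),
  (182409, 6, 114939, 23),
  (182410, 5, 6394, 22),
  (182414, 6, 39394, 1),
  (182417, 6, 116989, 23),
  (182427, 7, 7673, 10),
  (182435, 7, 258290, 22),
  (182439, 7, 102716, 21),
  (182441, 7, 225462, 22),
  (182442, 6, 127222, 22),
  (182449, 7, 21955, 20),
  (182450, 6, 25062, 13),
  (182453, 6, 162166, 21),
  (182454, 7, 231913, 20),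
  (182463, 7, 59413, 37),
  (182467, 6, 36257, 10),
  (182474, 7, 79117, 25),
  (182481, 7, 161914, 21),
  (182485, 6, 162170, 21),
  (182486, 6, 205030, 8),
  (182505, 7, 256246, 19),
  (182510, 6, 252394, 7),
  (182514, 7, 161982, 21),
  (182518, 7, 132571, 19),
  (182527, 8, 230897, 40),
  (182530, 6, 147526, 13),
  (182543, 6, 213150, 25),
  (182547, 6, 191559, 4),
  (182551, 6, 124305, 22),
  (182553, 6, 194865, 13),
  (182557, 7, 245910, 25),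
  (182558, 7, 229534, 25),
  (182562, 7, 114930, 22),
  (182566, 6, 358, 2),
  (182571, 6, 155806, 25),
  (182579, 7, 137446, 21),
  (182583, 6, 191489, 2),
  (182589, 7, 180374, 25),
  (182590, 7, 163998, 25),
  (182597, 6, 84114, 25),
  (182598, 6, 90178, 22),
  (182603, 6, 242115, 23),
  (182607, 7, 223554, 22),
  (182615, 6, 206111, 19),
  (182617, 7, 238667, 26),
  (182626, 6, 358, 10),
  (182629, 6, 76162, 19),
  (182635, 7, 192805, 24),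
  (182643, 7, 137454, 21),
  (182647, 7, 51354, 25),
  (182649, 7, 161982, 19),
  (182654, 6, 37182, 2),
  (182663, 7, 209258, 22),
  (182665, 7, 42395, 20),
  (182666, 6, 251910, 5),
  (182669, 7, 210377, 20),
  (182670, 7, 191827, 24),
  (182673, 6, 138667, 24),
  (182683, 8, 79145, 41),
  (182687, 7, 59429, 37),
  (182691, 7, 250098, 22),
  (182695, 6, 213479, 11),
  (182697, 7, 217270, 22),
  (182706, 6, 155878, 13),
  (182709, 7, 244098, 19),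
  (182734, 6, 249926, 5),
  (182737, 7, 178382, 19),
  (182742, 6, 213110, 17),
  (182751, 7, 213119, 17),
  (182759, 7, 197975, 19),
  (182761, 7, 190710, 19),
  (182762, 5, 252334, 11),
  (182766, 6, 250286, 11),
  (182769, 6, 178398, 19),
  (182779, 8, 243875, 6),
  (182783, 7, 161007, 4),
  (183307, 6, 229595, 23),
  (183311, 7, 231794, 22),
  (183313, 7, 55546, 25),
  (183315, 6, 231645, 23),
  (183317, 7, 63722, 25),
  (183337, 7, 111795, 26),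
  (183339, 7, 111899, 23),
  (183347, 6, 36215, 17),
  (183351, 6, 219622, 21),
  (183377, 7, 219242, 21),
  (183379, 6, 72979, 19),
  (183381, 7, 63726, 25),
  (183383, 6, 219626, 21),
  (183401, 6, 205046, 22),
  (183403, 7, 215358, 25),
  (183405, 6, 139510, 22),
  (183407, 7, 223534, 25),
  (183411, 7, 198867, 38),
  (183427, 7, 168442, 22),
  (183429, 7, 152863, 24),
  (183431, 6, 233850, 22),
  (183449, 7, 7675, 10),
  (183451, 7, 151709, 39),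
  (183453, 8, 151707, 39),
  (183455, 6, 137299, 44),
  (183461, 6, 213063, 7),
  (183481, 8, 137401, 44),
  (183491, 7, 127300, 21),
  (183493, 6, 146485, 24),
  (183515, 7, 39355, 10),
  (183519, 7, 39359, 10),
  (183521, 6, 209138, 22),
  (183523, 7, 164284, 21),
  (183527, 7, 176306, 22),
  (183545, 7, 155871, 15),
  (183561, 7, 225430, 25),
  (183563, 7, 174562, 22),
  (183565, 7, 70099, 23),
  (183567, 7, 217246, 25),
  (183575, 7, 91601, 22),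
  (183593, 6, 213238, 22),
  (183597, 5, 147702, 22),
  (183599, 6, 180406, 22),
  (183601, 7, 14751, 19),
  (183625, 6, 202857, 21),
  (183633, 7, 113093, 23),
  (183635, 7, 129178, 25),
  (183637, 6, 155719, 4),
  (183639, 7, 203242, 21),
  (183659, 7, 202989, 21),
  (183665, 7, 231705, 23),
  (183683, 6, 146731, 24),
  (183705, 7, 25709, 37),
  (183707, 7, 81255, 25),
  (183747, 6, 213479, 5),
  (183749, 6, 74815, 25),
  (183751, 7, 100755, 19),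
  (183775, 8, 234677, 24),
  (183777, 7, 106599, 42),
  (183779, 7, 25869, 37),
  (183781, 6, 175317, 19),
  (183783, 7, 168114, 22),
  (183801, 7, 107001, 42),
  (183803, 8, 251125, 12),
  (184322, 6, 147530, 11),
  (184327, 7, 31154, 25),
  (184329, 6, 149666, 25),
  (184330, 5, 118, 22),
  (184332, 6, 59446, 37),
  (184341, 5, 381, 10),
  (184342, 7, 127013, 20),
  (184349, 6, 155838, 19),
  (184359, 6, 96562, 25),
  (184362, 5, 362, 6),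
  (184381, 5, 147646, 19),
  (184382, 6, 194634, 8),
  (184391, 6, 250309, 21),
  (184394, 5, 362, 1),
  (184399, 6, 213462, 22),
  (184403, 7, 127142, 20),
  (184405, 6, 156062, 19),
  (184411, 6, 38193, 10),
  (184413, 7, 190710, 25),
  (184417, 6, 69659, 23),
  (184418, 6, 147857, 19),
  (184420, 6, 76054, 25),
  (184431, 6, 201817, 23),
  (184437, 6, 147870, 19),
  (184443, 6, 127166, 20),
  (184446, 6, 6522, 17),
  (184453, 5, 493, 10),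
  (184459, 7, 204077, 25),
  (184465, 6, 155868, 19),
  (184471, 7, 155871, 19),
  (184473, 6, 155900, 19),
  (184474, 6, 213338, 15),
  (184476, 6, 213340, 15),
  (184479, 7, 110889, 42),
  (184483, 6, 241678, 20),
  (184486, 6, 248238, 7),
  (184493, 5, 147702, 19),
  (184494, 6, 252326, 7),
  (184503, 7, 145577, 44),
  (184508, 6, 74220, 6),
  (184511, 7, 87171, 41),
  (184515, 6, 127173, 21),
  (184517, 6, 156118, 19),
  (184523, 6, 38305, 10),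
  (184525, 7, 241811, 20),
  (184526, 7, 86238, 22),
  (184529, 6, 156124, 19),
  (184530, 6, 205178, 3),
  (184532, 6, 156122, 19),
  (184535, 7, 116875, 43),
  (184543, 8, 191901, 8),
  (184549, 6, 147926, 19),
  (184562, 7, 258220, 20),
  (184564, 6, 147930, 19),
  (184575, 7, 27743, 37),
  (184577, 6, 141606, 22),
  (184578, 6, 197006, 25),
  (184580, 6, 205190, 25),
  (184591, 6, 90510, 25),
  (184598, 6, 162166, 4),
  (184603, 6, 87335, 41),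
  (184610, 5, 362, 2),
  (184615, 6, 156046, 25),
  (184617, 6, 16774, 25),
  (184618, 5, 398, 25),
  (184620, 6, 202762, 38),
  (184627, 6, 156027, 11),
  (184629, 7, 23017, 24),
  (184630, 7, 172430, 25),
  (184635, 7, 207897, 23),
  (184642, 5, 362, 3),
  (184649, 6, 155910, 22),
  (184650, 6, 24646, 22),
  (184652, 6, 76162, 25),
  (184659, 7, 87431, 41),
  (184662, 6, 194870, 4),
  (184667, 6, 127222, 20),
  (184679, 6, 192837, 24),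
  (184682, 5, 362, 10),
  (184687, 7, 231542, 22),
  (184691, 6, 242117, 24),
  (184693, 6, 213278, 19),
  (184701, 6, 194865, 11),
  (184707, 6, 241734, 20),
  (184715, 6, 60609, 26),
  (184721, 7, 258146, 20),
  (184722, 7, 41014, 37),
  (184724, 7, 151011, 24),
  (184739, 6, 250881, 2),
  (184741, 7, 219186, 22),
  (184749, 6, 213110, 19),
  (184759, 8, 220507, 7),
  (184761, 6, 213116, 19),
  (184762, 6, 82298, 15),
  (184764, 6, 213114, 19),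
  (184767, 7, 111033, 42),
  (184771, 7, 173413, 40),
  (184774, 6, 39402, 14),
  (184782, 6, 35306, 14),
  (184785, 7, 258274, 20),
  (184788, 6, 74108, 3),
  (184793, 7, 258290, 20),
  (184794, 7, 258292, 20),
  (184796, 7, 150557, 21),
  (184803, 7, 241870, 20),
  (184805, 6, 213334, 19),
  (184813, 6, 251981, 2),
  (184814, 7, 148569, 23),
  (184817, 6, 213340, 19),
  (184818, 6, 90458, 3),
  (184820, 6, 213338, 19),
  (184823, 7, 145743, 44),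
  (184825, 6, 213372, 19),
  (184831, 7, 213375, 19),
  (185349, 7, 31162, 25),
  (185363, 5, 379, 10),
  (185369, 6, 60737, 22),
  (185383, 6, 29037, 24),
  (185389, 7, 53565, 24),
  (185391, 7, 223290, 25),
  (185403, 6, 38267, 17),
  (185415, 6, 24795, 26),
  (185421, 7, 161982, 25),
  (185423, 7, 157886, 25),
  (185425, 7, 55790, 25),
  (185433, 7, 186606, 25),
  (185435, 6, 129206, 20),
  (185445, 7, 186817, 21),
  (185447, 7, 69979, 23),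
  (185453, 6, 206966, 22),
  (185459, 6, 25959, 22),
  (185465, 6, 129210, 20),
  (185467, 5, 129214, 20),
  (185475, 5, 491, 10),
  (185493, 8, 199805, 25),
  (185495, 7, 249021, 23),
  (185501, 7, 57795, 37),
  (185503, 8, 13509, 41),
  (185505, 5, 243722, 20),
  (185507, 6, 243726, 20),
  (185513, 6, 213067, 7),
  (185527, 7, 166165, 43),
  (185533, 7, 166277, 43),
  (185535, 7, 99649, 40),
  (185537, 7, 243842, 20),
  (185539, 6, 26839, 26),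
  (185559, 8, 99357, 40),
  (185565, 7, 57737, 37),
  (185569, 6, 243850, 20),
  (185597, 7, 22665, 44),
  (185619, 6, 129126, 20),
  (185625, 7, 119174, 25),
  (185627, 6, 178569, 24),
  (185637, 7, 215154, 22),
  (185639, 7, 74075, 23),
  (185669, 7, 256390, 22),
  (185671, 7, 227722, 25),
  (185681, 6, 193915, 13),
  (185683, 7, 252298, 25),
  (185689, 6, 129266, 20),
  (185691, 6, 129270, 20),
  (185701, 6, 95467, 26),
  (185711, 7, 31114, 25),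
  (185713, 7, 198939, 23),
  (185715, 7, 186762, 25),
  (185721, 6, 193841, 11),
  (185729, 6, 243778, 20),
  (185731, 6, 243782, 20),
  (185737, 6, 120989, 21),
  (185739, 7, 243798, 20),
  (185749, 7, 252063, 12),
  (185751, 7, 22693, 44),
  (185757, 7, 75861, 42),
  (185759, 7, 57381, 37),
  (185761, 6, 243786, 20),
  (185763, 7, 186418, 22),
  (185771, 6, 243806, 20),
  (185783, 7, 22767, 44),
  (185789, 8, 148923, 39),
  (185791, 7, 99663, 40),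
  (185793, 7, 194830, 22),
  (185795, 6, 38379, 14),
  (185801, 6, 197935, 25),
  (185821, 7, 165969, 43),
  (185823, 8, 219639, 5),
  (185827, 7, 125345, 19),
  (185833, 6, 250955, 2),
  (185845, 8, 201147, 38),
  (185853, 7, 163051, 26),
  (185855, 8, 28155, 22),
  (186371, 7, 133622, 22),
  (186375, 7, 199030, 22),
  (186379, 7, 235821, 21),
  (186385, 7, 51698, 25),
  (186386, 6, 39378, 25),
  (186390, 6, 39290, 1),
  (186393, 7, 96654, 19),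
  (186394, 6, 125953, 22),
  (186398, 6, 35194, 1),
  (186403, 6, 241691, 23),
  (186407, 7, 190706, 22),
  (186411, 7, 256246, 22),
  (186415, 7, 190710, 22),
  (186417, 7, 80318, 19),
  (186418, 6, 194630, 8),
  (186422, 6, 192582, 8),
  (186425, 6, 156029, 8),
  (186426, 7, 30917, 20),
  (186429, 7, 53645, 24),
  (186430, 6, 243778, 25),
  (186443, 6, 147926, 22),
  (186447, 6, 213334, 22),
  (186450, 6, 39382, 25),
  (186453, 6, 143835, 26),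
  (186454, 6, 6522, 1),
  (186457, 6, 39217, 10),
  (186462, 7, 126113, 22),
  (186475, 7, 239862, 22),
  (186479, 6, 127035, 26),
  (186482, 6, 6518, 17),
  (186485, 7, 125286, 25),
  (186493, 6, 34041, 20),
  (186494, 6, 243782, 25),
  (186501, 7, 203070, 22),
  (186502, 6, 39402, 1),
  (186505, 7, 125382, 19),
  (186510, 6, 35306, 1),
  (186523, 7, 212333, 25),
  (186529, 6, 59721, 21),
  (186530, 6, 129266, 22),
  (186537, 7, 168253, 21),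
  (186538, 6, 129270, 22),
  (186541, 6, 213069, 7),
  (186542, 7, 193625, 23),
  (186547, 7, 229647, 38),
  (186566, 5, 6634, 1),
  (186569, 6, 252397, 1),
  (186573, 6, 35133, 21),
  (186579, 7, 128455, 21),
  (186583, 7, 36285, 10),
  (186593, 7, 239862, 19),
  (186598, 6, 248298, 7),
  (186602, 6, 250342, 7),
  (186605, 7, 145590, 22),
  (186606, 6, 251970, 16),
  (186623, 7, 28767, 37),
  (186635, 6, 139750, 22),
  (186639, 6, 205158, 22),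
  (186641, 7, 254358, 25),
  (186645, 7, 229719, 38),
  (186649, 6, 170409, 24),
  (186650, 7, 106910, 25),
  (186654, 6, 162170, 4),
  (186659, 6, 156062, 25),
  (186663, 6, 147870, 25),
  (186671, 7, 238681, 23),
  (186673, 6, 54419, 20),
  (186677, 6, 156029, 11),
  (186682, 6, 6518, 2),
  (186685, 7, 211362, 19),
  (186691, 7, 223642, 25),
  (186695, 7, 223558, 22),
  (186705, 7, 43415, 43),
  (186709, 6, 155725, 4),
  (186713, 7, 125330, 25),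
  (186714, 6, 192526, 13),
  (186718, 5, 194570, 13),
  (186731, 7, 27034, 25),
  (186735, 7, 143717, 24),
  (186738, 5, 35134, 2),
  (186745, 7, 59794, 25),
  (186746, 6, 39222, 2),
  (186754, 6, 211983, 25),
  (186757, 7, 211246, 22),
  (186758, 6, 249870, 5),
  (186762, 6, 35246, 14),
  (186765, 6, 55581, 21),
  (186766, 7, 77934, 22),
  (186779, 7, 43217, 43),
  (186783, 7, 43105, 43),
  (186786, 7, 121074, 22),
  (186789, 6, 213485, 11),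
  (186794, 6, 6630, 2),
  (186797, 7, 240034, 19),
  (186798, 6, 212383, 25),
  (186815, 7, 126363, 22),
  (186817, 6, 213485, 5),
  (186821, 7, 71739, 44),
  (186825, 7, 28823, 37),
  (186829, 7, 100786, 19),
  (186849, 6, 202930, 22),
  (186850, 6, 35246, 2),
  (186854, 6, 39154, 22),
  (186858, 6, 252326, 11),
  (186861, 7, 137398, 22),
  (186862, 6, 39158, 22),
  (186867, 8, 251135, 12),
  (186871, 7, 243173, 24),
  (187393, 7, 22970, 25),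
  (187395, 7, 18874, 25),
  (187397, 7, 31146, 25),
  (187399, 7, 231798, 22),
  (187401, 7, 99803, 23),
  (187425, 6, 51657, 21),
  (187433, 7, 223478, 22),
  (187435, 7, 215098, 25),
  (187437, 7, 157942, 22),
  (187439, 7, 223274, 25),
  (187459, 7, 18878, 25),
  (187461, 6, 178293, 24),
  (187463, 6, 28891, 26),
  (187465, 7, 74831, 20),
  (187467, 7, 180694, 22),
  (187469, 7, 246038, 22),
  (187503, 6, 34013, 20),
  (187539, 8, 253235, 19),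
  (187543, 8, 243197, 20),
  (187545, 7, 7667, 10),
  (187547, 7, 156127, 8),
  (187549, 7, 7671, 10),
  (187569, 7, 64529, 37),
  (187579, 8, 64539, 37),
  (187581, 8, 194779, 15),
  (187603, 7, 213247, 5),
  (187605, 7, 36287, 10),
  (187607, 7, 194971, 8),
  (187611, 8, 212339, 3),
  (187615, 7, 36285, 21),
  (187633, 8, 236877, 38),
  (187639, 8, 64531, 37),
  (187647, 7, 236879, 38),
  (187653, 7, 180461, 21),
  (187655, 7, 162121, 24),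
  (187659, 6, 178473, 24),
  (187661, 6, 121229, 21),
  (187683, 7, 160158, 25),
  (187685, 7, 151958, 25),
  (187687, 7, 182450, 22),
  (187695, 7, 53645, 21),
  (187713, 7, 190854, 22),
  (187715, 7, 184437, 24),
  (187717, 7, 256262, 22),
  (187719, 7, 219546, 25),
  (187721, 7, 157831, 19),
  (187723, 7, 242883, 23),
  (187745, 6, 198898, 22),
  (187747, 6, 121185, 21),
  (187749, 7, 154002, 25),
  (187753, 7, 31122, 25),
  (187755, 7, 9451, 26),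
  (187757, 7, 133366, 22),
  (187759, 7, 166070, 22),
  (187795, 8, 52635, 20),
  (187799, 7, 163275, 24),
  (187801, 8, 236747, 38),
  (187803, 7, 64555, 37),
  (187805, 7, 236685, 38),
  (187807, 8, 64549, 37),
  (187825, 7, 7675, 24),
  (187829, 8, 126301, 3),
  (187835, 7, 246973, 12),
  (187837, 7, 213343, 7),
  (187839, 8, 129519, 16),
  (187859, 7, 128359, 21),
  (187861, 7, 242933, 24),
  (187865, 7, 249245, 21),
  (187869, 8, 236737, 38),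
  (187889, 7, 252191, 7),
  (187891, 7, 96739, 16),
  (187893, 7, 155887, 4),
  (187897, 8, 128263, 20),
  (187901, 8, 246047, 7),
  (188417, 6, 18658, 25),
  (188436, 7, 43154, 25),
  (188443, 7, 118806, 20),
  (188445, 6, 206043, 26),
  (188446, 6, 162170, 2),
  (188452, 7, 75858, 25),
  (188455, 6, 248266, 21),
  (188459, 7, 102462, 20),
  (188468, 6, 372, 6),
  (188471, 5, 375, 6),
  (188477, 7, 135358, 19),
  (188482, 6, 143761, 19),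
  (188484, 7, 10454, 25),
  (188493, 7, 143798, 19),
  (188494, 6, 135494, 42),
  (188497, 6, 118914, 20),
  (188500, 6, 372, 11),
  (188509, 7, 143806, 19),
  (188510, 5, 194570, 11),
  (188513, 6, 84070, 25),
  (188514, 6, 88194, 21),
  (188516, 6, 372, 7),
  (188520, 6, 376, 7),
  (188525, 6, 156029, 16),
  (188526, 7, 115115, 26),
  (188536, 5, 155720, 15),
  (188539, 7, 172151, 22),
  (188541, 7, 256310, 25),
  (188549, 7, 143574, 19),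
  (188553, 7, 233522, 20),
  (188554, 5, 25050, 13),
  (188563, 7, 104510, 21),
  (188565, 7, 170046, 21),
  (188579, 6, 125130, 21),
  (188581, 7, 135382, 19),
  (188588, 6, 156124, 5),
  (188591, 8, 103589, 37),
  (188595, 6, 249870, 20),
  (188597, 6, 87471, 24),
  (188601, 7, 249882, 20),
  (188602, 7, 249884, 20),
  (188617, 7, 31865, 21),
  (188618, 6, 90474, 17),
  (188620, 7, 32057, 21),
  (188629, 7, 125097, 23),
  (188630, 5, 147702, 12),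
  (188633, 7, 99685, 25),
  (188634, 6, 196858, 8),
  (188636, 6, 25068, 7),
  (188639, 8, 92605, 40),
  (188645, 7, 135638, 19),
  (188646, 6, 139510, 12),
  (188655, 8, 126301, 2),
  (188661, 7, 86109, 23),
  (188665, 7, 250010, 20),
  (188668, 7, 135674, 19),
  (188673, 6, 102498, 20)]

theorem chk_rows1_20 : rows1_20.all (rowBP1 tr1 bm1 gensLitP gensListP 1) = true := by decide +kernel

/-- Rows 16800 to 17599. -/
def rows1_21 : List (ℕ × ℕ × ℕ × ℕ) := [(188674, 6, 82094, 21),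
  (188676, 6, 147758, 21),
  (188680, 5, 155720, 3),
  (188685, 7, 102515, 20),
  (188686, 6, 7585, 21),
  (188692, 6, 372, 5),
  (188695, 6, 251918, 21),
  (188696, 6, 376, 5),
  (188699, 7, 118870, 20),
  (188701, 6, 39217, 14),
  (188706, 6, 102508, 20),
  (188708, 6, 156020, 1),
  (188711, 6, 248298, 21),
  (188715, 7, 180430, 25),
  (188718, 6, 194630, 1),
  (188727, 6, 249870, 21),
  (188731, 6, 118878, 20),
  (188740, 6, 372, 3),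
  (188743, 5, 375, 3),
  (188747, 6, 209287, 23),
  (188749, 6, 184453, 24),
  (188750, 7, 239818, 25),
  (188753, 6, 84162, 25),
  (188754, 6, 67786, 25),
  (188759, 6, 247822, 21),
  (188769, 6, 135557, 24),
  (188775, 6, 252386, 21),
  (188779, 7, 199711, 23),
  (188782, 6, 6518, 10),
  (188786, 5, 81934, 21),
  (188788, 6, 147470, 21),
  (188791, 7, 26826, 25),
  (188795, 7, 163959, 22),
  (188798, 6, 7599, 21),
  (188805, 7, 188782, 21),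
  (188806, 7, 233573, 20),
  (188819, 6, 249926, 20),
  (188821, 7, 186398, 21),
  (188822, 6, 213238, 6),
  (188831, 7, 250999, 22),
  (188835, 7, 159041, 26),
  (188838, 6, 90470, 15),
  (188841, 7, 233594, 20),
  (188842, 5, 196986, 4),
  (188844, 5, 25052, 5),
  (188847, 8, 103685, 37),
  (188858, 6, 147706, 13),
  (188867, 7, 127206, 21),
  (188870, 7, 192805, 23),
  (188879, 7, 240765, 2),
  (188892, 6, 82396, 16),
  (188899, 7, 233710, 20),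
  (188901, 7, 201046, 19),
  (188902, 7, 149597, 23),
  (188905, 7, 201076, 19),
  (188906, 7, 233724, 20),
  (188908, 7, 97417, 22),
  (188915, 7, 168051, 22),
  (188917, 7, 180254, 21),
  (188918, 7, 213022, 21),
  (188921, 7, 135223, 22),
  (188922, 6, 204922, 17),
  (188924, 7, 73035, 26),
  (189445, 7, 180686, 21),
  (189447, 7, 26874, 25),
  (189461, 7, 63674, 25),
  (189463, 6, 156763, 26),
  (189465, 7, 186794, 25),
  (189479, 7, 229719, 41),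
  (189481, 7, 104506, 20),
  (189483, 7, 104510, 20),
  (189499, 6, 188471, 22),
  (189509, 7, 184774, 21),
  (189511, 6, 24923, 26),
  (189513, 6, 74127, 23),
  (189525, 6, 36215, 2),
  (189529, 7, 76171, 23),
  (189543, 6, 191489, 7),
  (189547, 6, 156027, 16),
  (189557, 7, 172091, 26),
  (189559, 7, 124990, 25),
  (189561, 6, 38193, 6),
  (189563, 7, 248110, 25),
  (189569, 7, 82365, 23),
  (189585, 7, 160883, 22),
  (189587, 6, 251910, 20),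
  (189597, 7, 97651, 21),
  (189599, 7, 43217, 39),
  (189601, 7, 235562, 20),
  (189619, 6, 251918, 20),
  (189631, 7, 43105, 39),
  (189633, 6, 146581, 24),
  (189635, 6, 127046, 21),
  (189645, 7, 229647, 41),
  (189649, 7, 100542, 21),
  (189665, 7, 235690, 20),
  (189667, 6, 129090, 21),
  (189681, 7, 98494, 21),
  (189683, 7, 86301, 23),
  (189695, 7, 252063, 20),
  (189703, 7, 43415, 39),
  (189707, 6, 38267, 3),
  (189717, 6, 36145, 14),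
  (189719, 7, 186510, 21),
  (189721, 6, 38193, 14),
  (189723, 7, 28823, 43),
  (189733, 6, 182762, 21),
  (189735, 6, 36145, 1),
  (189739, 7, 71739, 37),
  (189753, 6, 206111, 23),
  (189755, 7, 151758, 25),
  (189769, 7, 104690, 20),
  (189771, 6, 168085, 24),
  (189783, 7, 182414, 21),
  (189797, 7, 186850, 21),
  (189813, 6, 30059, 26),
  (189817, 7, 131191, 22),
  (189819, 7, 121054, 20),
  (189827, 7, 122990, 21),
  (189837, 7, 244139, 22),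
  (189841, 6, 251970, 20),
  (189859, 7, 235630, 20),
  (189869, 8, 240745, 17),
  (189873, 6, 251978, 20),
  (189903, 7, 90591, 16),
  (189905, 7, 116894, 21),
  (189907, 7, 51358, 21),
  (189935, 7, 212331, 26),
  (189937, 6, 178389, 19),
  (189939, 7, 49310, 21),
  (189949, 7, 28767, 43),
  (190473, 7, 150002, 25),
  (190478, 5, 20522, 38),
  (190483, 7, 160883, 26),
  (190487, 6, 36145, 2),
  (190489, 7, 96678, 19),
  (190494, 7, 178562, 25),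
  (190503, 6, 136343, 19),
  (190505, 7, 215410, 25),
  (190506, 6, 192526, 16),
  (190510, 5, 194570, 16),
  (190515, 6, 241693, 23),
  (190521, 7, 96694, 19),
  (190526, 6, 6518, 6),
  (190538, 5, 4130, 38),
  (190541, 7, 158182, 25),
  (190558, 6, 192526, 11),
  (190567, 7, 106599, 41),
  (190569, 7, 186789, 24),
  (190570, 7, 203094, 25),
  (190573, 6, 58569, 20),
  (190574, 6, 194634, 16),
  (190579, 6, 229678, 21),
  (190583, 6, 192571, 26),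
  (190585, 6, 155725, 15),
  (190590, 6, 39222, 6),
  (190594, 6, 25046, 13),
  (190597, 7, 82173, 23),
  (190598, 6, 213206, 11),
  (190603, 8, 249279, 1),
  (190607, 8, 137401, 42),
  (190610, 7, 203070, 21),
  (190614, 7, 144603, 19),
  (190619, 8, 128407, 12),
  (190629, 6, 190538, 21),
  (190630, 6, 213238, 11),
  (190639, 7, 21667, 38),
  (190645, 6, 37182, 21),
  (190646, 7, 69950, 21),
  (190657, 7, 61766, 21),
  (190661, 6, 192582, 21),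
  (190662, 6, 90470, 17),
  (190667, 7, 25709, 44),
  (190673, 7, 166206, 21),
  (190674, 7, 111693, 25),
  (190677, 5, 35134, 21),
  (190689, 6, 63810, 21),
  (190703, 7, 107001, 41),
  (190706, 6, 25046, 1),
  (190710, 6, 74102, 17),
  (190723, 7, 115182, 21),
  (190729, 7, 58555, 20),
  (190730, 6, 39290, 3),
  (190733, 6, 194561, 12),
  (190734, 7, 96457, 20),
  (190739, 6, 58697, 26),
  (190746, 6, 39222, 14),
  (190749, 6, 213206, 25),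
  (190755, 7, 57566, 25),
  (190759, 7, 49374, 25),
  (190761, 6, 206153, 26),
  (190762, 6, 192582, 1),
  (190765, 7, 198867, 40),
  (190775, 7, 16606, 25),
  (190777, 6, 155862, 25),
  (190782, 5, 4138, 38),
  (190787, 6, 242117, 23),
  (190794, 6, 6522, 3),
  (190809, 7, 161958, 19),
  (190810, 6, 194630, 5),
  (190814, 6, 192582, 5),
  (190819, 6, 36215, 1),
  (190823, 7, 252130, 21),
  (190825, 7, 157886, 19),
  (190835, 7, 26842, 25),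
  (190839, 7, 114958, 21),
  (190841, 7, 196791, 22),
  (190842, 5, 20482, 38),
  (190849, 6, 57710, 21),
  (190850, 6, 90542, 21),
  (190853, 7, 86261, 23),
  (190854, 6, 25062, 2),
  (190859, 7, 151709, 43),
  (190865, 7, 47558, 19),
  (190875, 6, 137299, 42),
  (190885, 7, 125021, 23),
  (190891, 7, 100619, 37),
  (190898, 5, 147702, 13),
  (190901, 7, 53534, 21),
  (190902, 7, 86302, 21),
  (190907, 8, 243197, 5),
  (190913, 7, 61798, 21),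
  (190918, 7, 225446, 21),
  (190923, 7, 210293, 19),
  (190929, 7, 106809, 41),
  (190930, 6, 90598, 10),
  (190933, 6, 107639, 25),
  (190949, 7, 136613, 24),
  (190959, 8, 26097, 44),
  (190962, 5, 74214, 10),
  (190966, 6, 204918, 17),
  (190971, 8, 246815, 23),
  (191489, 5, 132097, 44),
  (191493, 7, 180430, 21),
  (191505, 7, 55482, 25),
  (191509, 7, 81285, 19),
  (191511, 6, 39342, 21),
  (191521, 7, 243997, 23),
  (191523, 7, 70063, 43),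
  (191525, 6, 155719, 7),
  (191527, 6, 247882, 21),
  (191539, 7, 116794, 25),
  (191543, 6, 37294, 21),
  (191553, 7, 22782, 25),
  (191559, 5, 132353, 44),
  (191569, 7, 231854, 21),
  (191573, 7, 100782, 21),
  (191575, 6, 35246, 21),
  (191587, 7, 121154, 21),
  (191591, 6, 251970, 21),
  (191601, 6, 36145, 6),
  (191603, 7, 116798, 25),
  (191607, 7, 124974, 25),
  (191627, 8, 28155, 20),
  (191631, 7, 12769, 39),
  (191643, 7, 18549, 38),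
  (191647, 6, 132179, 44),
  (191675, 7, 164035, 42),
  (191677, 7, 164037, 42),
  (191679, 7, 10561, 40),
  (191689, 7, 12777, 39),
  (191693, 7, 132301, 44),
  (191707, 6, 10381, 40),
  (191709, 6, 18545, 38),
  (191711, 8, 18559, 38),
  (191721, 7, 124255, 2),
  (191723, 7, 66785, 37),
  (191737, 7, 132377, 44),
  (191747, 7, 115054, 21),
  (191751, 6, 36215, 3),
  (191763, 7, 94430, 25),
  (191765, 7, 62817, 26),
  (191767, 7, 86238, 25),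
  (191777, 6, 157033, 26),
  (191783, 7, 144737, 26),
  (191793, 5, 132099, 44),
  (191797, 6, 237917, 23),
  (191811, 7, 129242, 25),
  (191815, 7, 254275, 22),
  (191827, 6, 36215, 14),
  (191831, 7, 51598, 21),
  (191859, 7, 9579, 26),
  (191861, 6, 146581, 19),
  (191863, 5, 132355, 44),
  (191881, 7, 164239, 42),
  (191883, 7, 10357, 40),
  (191887, 7, 49347, 41),
  (191901, 7, 66659, 37),
  (191903, 7, 38327, 14),
  (191913, 7, 62903, 20),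
  (191929, 7, 240765, 17),
  (191933, 7, 49279, 41),
  (191935, 7, 12785, 39),
  (191945, 7, 49379, 41),
  (191965, 7, 38389, 14),
  (191967, 7, 18639, 38),
  (191997, 7, 132303, 44),
  (191999, 8, 63907, 8),
  (192517, 6, 110627, 20),
  (192526, 5, 65632, 41),
  (192531, 6, 38193, 2),
  (192534, 7, 47506, 25),
  (192539, 7, 126998, 20),
  (192549, 6, 92530, 25),
  (192550, 6, 190782, 7),
  (192555, 7, 110654, 20),
  (192558, 6, 194870, 7),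
  (192563, 6, 126990, 20),
  (192565, 6, 86509, 24),
  (192566, 7, 112914, 25),
  (192571, 5, 379, 6),
  (192573, 5, 381, 6),
  (192579, 7, 23014, 25),
  (192582, 5, 98528, 41),
  (192589, 7, 157942, 25),
  (192590, 7, 145622, 25),
  (192597, 7, 160158, 19),
  (192605, 6, 194561, 11),
  (192613, 7, 151958, 19),
  (192621, 7, 223350, 25),
  (192622, 6, 194934, 7),
  (192627, 7, 127118, 20),
  (192629, 7, 19611, 38),
  (192630, 6, 37182, 6),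
  (192637, 7, 151998, 19),
  (192641, 7, 159956, 19),
  (192644, 7, 159954, 19),
  (192647, 8, 257261, 5),
  (192649, 7, 159988, 19),
  (192650, 7, 241716, 20),
  (192652, 7, 186494, 44),
  (192655, 7, 45537, 39),
  (192665, 7, 258066, 20),
  (192666, 7, 258068, 20),
  (192668, 7, 159994, 19),
  (192673, 6, 241706, 20),
  (192674, 6, 213242, 11),
  (192679, 7, 86361, 43),
  (192687, 7, 190875, 14),
  (192692, 5, 25052, 10),
  (192695, 7, 114963, 41),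
  (192697, 7, 151804, 19),
  (192698, 7, 69695, 21),
  (192700, 7, 232463, 26),
  (192703, 7, 140313, 44),
  (192706, 5, 196986, 3),
  (192708, 5, 196988, 3),
  (192711, 7, 114735, 41),
  (192713, 7, 160244, 19),
  (192714, 7, 84327, 26),
  (192716, 6, 74108, 11),
  (192722, 6, 147706, 12),
  (192727, 7, 205167, 3),
  (192737, 6, 152020, 19),
  (192738, 6, 213338, 3),
  (192740, 6, 213340, 3),
  (192743, 7, 213343, 3),
  (192748, 6, 90460, 11),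
  (192753, 7, 258186, 20),
  (192754, 7, 258188, 20),
  (192756, 7, 249157, 24),
  (192761, 7, 258202, 20),
  (192762, 5, 25050, 1),
  (192774, 6, 213423, 21),
  (192782, 6, 220175, 21),
  (192787, 6, 127046, 20),
  (192790, 5, 194570, 5),
  (192803, 7, 180686, 25),
  (192805, 6, 155725, 10),
  (192806, 7, 110701, 20),
  (192811, 7, 110718, 20),
  (192827, 6, 182391, 22),
  (192830, 5, 98336, 41),
  (192835, 5, 379, 3),
  (192837, 5, 381, 3),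
  (192845, 7, 151749, 24),
  (192853, 6, 127171, 20),
  (192854, 6, 194634, 5),
  (192862, 6, 35194, 14),
  (192875, 6, 38267, 1),
  (192877, 7, 110843, 20),
  (192883, 7, 149962, 25),
  (192885, 6, 79307, 26),
  (192886, 5, 65760, 41),
  (192891, 6, 140323, 44),
  (192894, 6, 213007, 21),
  (192897, 7, 141381, 40),
  (192898, 6, 25066, 2),
  (192900, 7, 225362, 19),
  (192903, 7, 168327, 42),
  (192916, 6, 213340, 1),
  (192919, 7, 39355, 14),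
  (192921, 6, 44481, 26),
  (192922, 6, 90458, 15),
  (192924, 6, 90460, 15),
  (192927, 7, 213247, 6),
  (192929, 7, 241770, 20),
  (192930, 7, 216513, 26),
  (192932, 7, 217170, 19),
  (192937, 7, 241786, 20),
  (192938, 6, 90474, 15),
  (192948, 6, 155868, 10),
  (192954, 6, 196858, 6),
  (192956, 6, 196860, 6),
  (192967, 7, 140555, 44),
  (192970, 7, 183747, 26),
  (192972, 6, 204924, 11),
  (192983, 7, 39419, 14),
  (192985, 6, 230759, 25),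
  (192986, 6, 90602, 10),
  (192993, 7, 241898, 20),
  (193001, 7, 217460, 19),
  (193002, 7, 150557, 23),
  (193004, 7, 217458, 19),
  (193007, 7, 163275, 26),
  (193015, 8, 243053, 13),
  (193537, 5, 67585, 40),
  (193545, 7, 66975, 23),
  (193553, 7, 55722, 25),
  (193555, 6, 129030, 20),
  (193561, 7, 129042, 20),
  (193563, 7, 129046, 20),
  (193569, 7, 112682, 20),
  (193571, 7, 84330, 25),
  (193577, 6, 193915, 16),
  (193579, 7, 215146, 25),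
  (193585, 6, 129034, 20),
  (193587, 6, 129038, 20),
  (193601, 6, 178389, 24),
  (193603, 6, 25043, 26),
  (193611, 5, 67713, 40),
  (193625, 6, 38267, 2),
  (193635, 7, 71967, 23),
  (193649, 7, 129162, 20),
  (193651, 7, 129166, 20),
  (193657, 7, 98479, 21),
  (193659, 7, 247854, 25),
  (193669, 7, 129423, 12),
  (193671, 7, 98681, 37),
  (193687, 7, 17635, 44),
  (193695, 7, 220533, 9),
  (193701, 7, 133467, 42),
  (193703, 7, 239855, 5),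
  (193717, 8, 133323, 42),
  (193719, 6, 17577, 44),
  (193725, 6, 67793, 40),
  (193727, 7, 98325, 37),
  (193733, 7, 17533, 44),
  (193735, 7, 135367, 43),
  (193743, 8, 124351, 6),
  (193751, 7, 41061, 41),
  (193757, 7, 17603, 44),
  (193765, 7, 219487, 23),
  (193767, 7, 9497, 39),
  (193781, 6, 133261, 42),
  (193795, 7, 201877, 23),
  (193809, 6, 129090, 20),
  (193811, 6, 129094, 20),
  (193817, 7, 129106, 20),
  (193819, 7, 86478, 25),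
  (193825, 7, 51435, 21),
  (193827, 6, 38193, 1),
  (193833, 7, 112762, 20),
  (193835, 7, 173413, 22),
  (193841, 5, 67589, 40),
  (193867, 6, 188743, 22),
  (193875, 6, 38267, 14),
  (193883, 7, 9379, 39),
  (193907, 7, 129230, 20),
  (193913, 7, 129242, 20),
  (193915, 5, 67717, 40),
  (193949, 7, 9483, 39),
  (193959, 7, 135443, 43),
  (193967, 7, 41093, 41),
  (193975, 7, 98809, 37),
  (193983, 8, 184479, 21),
  (193999, 7, 183455, 21),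
  (194013, 7, 36345, 14),
  (194029, 7, 41221, 41),
  (194031, 7, 20575, 38),
  (194037, 7, 17535, 44),
  (194045, 7, 98745, 37),
  (194561, 5, 132097, 42),
  (194565, 7, 217421, 24),
  (194566, 5, 164112, 41),
  (194569, 7, 92558, 19),
  (194570, 4, 12308, 39),
  (194577, 7, 51634, 25),
  (194581, 6, 155725, 11),
  (194585, 7, 182450, 25),
  (194586, 6, 162166, 2),
  (194593, 7, 84338, 25),
  (194601, 7, 132533, 22),
  (194605, 6, 155725, 7),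
  (194610, 6, 6522, 6),
  (194617, 7, 247858, 25),
  (194618, 7, 235538, 25),
  (194629, 6, 170213, 24),
  (194630, 5, 4124, 39),
  (194634, 5, 163856, 41),
  (194637, 5, 132099, 42),
  (194638, 6, 49230, 38),
  (194642, 6, 39318, 25),
  (194649, 7, 74859, 20),
  (194650, 6, 194870, 2),
  (194653, 6, 35119, 21),
  (194658, 7, 88451, 21),
  (194662, 6, 190842, 7),
  (194666, 6, 192582, 16),
  (194674, 6, 39226, 6),
  (194685, 6, 241691, 26),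
  (194686, 5, 35134, 6),
  (194719, 7, 126363, 12),
  (194723, 7, 12777, 43),
  (194727, 7, 213247, 11),
  (194735, 7, 132377, 42),
  (194739, 7, 132301, 42),
  (194747, 6, 18545, 40),
  (194755, 7, 164239, 41),
  (194759, 7, 219487, 22),
  (194767, 8, 183705, 8),
  (194779, 7, 66659, 44),
  (194783, 7, 49279, 38),
  (194787, 7, 49379, 38),
  (194811, 7, 81255, 20),
  (194815, 7, 132303, 42),
  (194818, 6, 35194, 3),
  (194821, 7, 219578, 19),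
  (194829, 7, 203194, 19),
  (194830, 6, 194934, 12),
  (194837, 6, 213462, 25),
  (194838, 6, 192526, 5),
  (194841, 6, 90582, 25),
  (194842, 5, 35134, 14),
  (194845, 6, 82390, 25),
  (194850, 7, 172510, 25),
  (194853, 7, 180694, 25),
  (194854, 6, 194634, 1),
  (194858, 7, 9445, 22),
  (194861, 7, 49622, 25),
  (194862, 6, 35194, 10),
  (194865, 5, 132353, 42),
  (194869, 6, 147926, 25),
  (194870, 5, 164176, 41),
  (194873, 6, 25046, 25),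
  (194874, 5, 4116, 39),
  (194877, 7, 207274, 19),
  (194881, 7, 184549, 24),
  (194882, 6, 240090, 25),
  (194889, 7, 157838, 19),
  (194894, 6, 6518, 3),
  (194897, 6, 156029, 5),
  (194898, 7, 100413, 20),
  (194901, 7, 233573, 24),
  (194902, 7, 199130, 25),
  (194905, 7, 161926, 19),
  (194910, 6, 36087, 22),
  (194913, 7, 141502, 19),
  (194914, 7, 174554, 25),
  (194918, 6, 6522, 10),
  (194921, 6, 194561, 10),
  (194925, 7, 17625, 20),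
  (194926, 6, 35290, 25),
  (194929, 7, 145590, 19),
  (194934, 5, 12300, 39),
  (194937, 7, 27090, 25),
  (194938, 5, 163920, 41),
  (194941, 5, 132355, 42),
  (194942, 7, 82191, 21),
  (194947, 8, 145903, 22),
  (194955, 7, 18549, 40),
  (194959, 7, 249149, 13),
  (194963, 7, 12769, 43),
  (194971, 6, 132179, 42),
  (194975, 7, 10561, 39),
  (194983, 7, 66785, 44),
  (194987, 6, 10381, 39),
  (195003, 8, 18559, 40),
  (195011, 7, 10357, 39),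
  (195027, 7, 49347, 38),
  (195035, 7, 234621, 2),
  (195039, 7, 12785, 43),
  (195067, 7, 18639, 40),
  (195071, 7, 163275, 15),
  (195719, 7, 128359, 17),
  (195725, 8, 248895, 13),
  (195729, 7, 105857, 37),
  (195733, 7, 56439, 38),
  (195735, 7, 225563, 43),
  (195737, 7, 241005, 25),
  (195743, 7, 39359, 21),
  (195745, 7, 254025, 41),
  (195749, 8, 190667, 21),
  (195753, 8, 191901, 14),
  (195755, 7, 254313, 41),
  (195761, 7, 240877, 25),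
  (195763, 7, 7667, 20),
  (195765, 8, 48237, 39),
  (195767, 7, 254227, 41),
  (195777, 7, 239855, 19),
  (195781, 7, 240877, 19),
  (195783, 8, 242733, 7),
  (195789, 8, 251029, 11),
  (195791, 7, 36287, 21),
  (195797, 8, 222323, 44),
  (195799, 8, 194045, 20),
  (195805, 7, 105865, 37),
  (195807, 7, 126425, 12),
  (195809, 7, 128343, 2),
  (195811, 7, 225401, 43),
  (195813, 7, 254169, 41),
  (195817, 8, 220497, 3),
  (195819, 8, 191967, 14),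
  (195825, 7, 48175, 39),
  (195829, 8, 48227, 39),
  (195831, 7, 225413, 43),
  (195835, 7, 220533, 24),
  (195839, 7, 48239, 39),
  (195971, 7, 171469, 42),
  (195973, 8, 220507, 24),
  (195979, 7, 254307, 41),
  (195981, 7, 205167, 7),
  (195993, 7, 36285, 14),
  (195995, 7, 225489, 43),
  (195997, 7, 254009, 41),
  (196011, 7, 225427, 43),
  (196015, 7, 222289, 44),
  (196017, 7, 38327, 20),
  (196021, 8, 260283, 12),
  (196023, 8, 240123, 5),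
  (196033, 7, 97747, 16),
  (196037, 7, 155871, 4),
  (196045, 7, 48181, 39),
  (196053, 7, 225633, 43),
  (196055, 8, 161277, 20),
  (196057, 7, 36349, 14),
  (196059, 8, 253977, 41),
  (196061, 7, 249021, 6),
  (196063, 7, 225777, 43),
  (196065, 7, 105803, 37),
  (196067, 7, 56403, 38),
  (196069, 7, 155903, 4),
  (196071, 8, 129451, 19),
  (196077, 7, 191709, 19),
  (196081, 8, 246047, 23),
  (196083, 8, 126379, 19),
  (196085, 7, 97763, 26),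
  (196093, 7, 210293, 24),
  (196609, 4, 4110, 24),
  (196610, 4, 16560, 21),
  (196612, 4, 16688, 21),
  (196616, 4, 32838, 24),
  (196619, 6, 176220, 22),
  (196622, 5, 196616, 42),
  (196624, 3, 400, 3),
  (196630, 5, 205206, 3),
  (196634, 7, 198666, 44),
  (196636, 6, 49382, 24),
  (196639, 7, 231854, 23),
  (196640, 3, 416, 3),
  (196643, 6, 45314, 22),
  (196645, 7, 151598, 24),
  (196646, 5, 212998, 12),
  (196649, 6, 164122, 20),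
  (196667, 7, 21893, 23),
  (196675, 6, 147832, 22),
  (196681, 6, 164242, 20),
  (196682, 5, 16426, 44),
  (196684, 5, 8220, 43),
  (196687, 7, 238010, 23),
  (196689, 7, 20628, 23),
  (196695, 7, 53716, 23),
  (196699, 6, 47397, 22),
  (196701, 7, 108734, 23),
  (196702, 6, 241678, 12),
  (196705, 7, 12578, 22),
  (196706, 7, 45090, 22),
  (196708, 6, 33869, 26),
  (196711, 7, 134457, 24),
  (196718, 6, 250286, 3),
  (196723, 6, 45347, 22),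
  (196729, 6, 14631, 22),
  (196735, 7, 7671, 12),
  (196737, 4, 6150, 24),
  (196738, 4, 82064, 21),
  (196740, 4, 147728, 21),
  (196743, 6, 237656, 22),
  (196744, 4, 34822, 24),
  (196750, 6, 24993, 21),
  (196752, 3, 400, 8),
  (196755, 6, 74183, 37),
  (196757, 6, 6331, 43),
  (196762, 6, 410, 17),
  (196764, 6, 59446, 41),
  (196768, 3, 416, 5),
  (196771, 6, 35223, 40),
  (196773, 6, 73903, 37),
  (196778, 6, 202762, 44),
  (196780, 6, 213420, 5),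
  (196785, 5, 24609, 39),
  (196791, 6, 25062, 21),
  (196792, 6, 41192, 19),
  (196798, 5, 196744, 42),
  (196806, 6, 122968, 22),
  (196820, 6, 468, 8),
  (196823, 6, 25066, 21),
  (196827, 7, 223646, 23),
  (196834, 6, 482, 5),
  (196839, 6, 25068, 21),
  (196845, 7, 41446, 19),
  (196848, 6, 49576, 20),
  (196858, 5, 20514, 44),
  (196860, 5, 12300, 43),
  (196865, 4, 6154, 24),
  (196866, 3, 176, 21),
  (196868, 3, 304, 21),
  (196872, 4, 34882, 24),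
  (196880, 3, 400, 4),
  (196883, 6, 242, 21),
  (196890, 6, 205210, 4),
  (196896, 3, 416, 7),
  (196901, 6, 372, 21),
  (196908, 6, 428, 16),
  (196913, 5, 24593, 39),
  (196914, 6, 182, 21),
  (196916, 6, 310, 21),
  (196923, 5, 247, 21),
  (196925, 5, 375, 21),
  (196926, 5, 196872, 42),
  (196931, 6, 248, 21),
  (196933, 6, 376, 21),
  (196938, 7, 143666, 23),
  (196940, 7, 86044, 22),
  (196943, 7, 249948, 22),
  (196945, 6, 122, 21),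
  (196946, 5, 186, 21),
  (196948, 6, 314, 21),
  (196955, 5, 251, 21),
  (196957, 5, 379, 21),
  (196961, 6, 124, 21),
  (196962, 6, 188, 21),
  (196964, 5, 316, 21),
  (196971, 5, 253, 21),
  (196973, 5, 381, 21),
  (196986, 4, 20490, 44),
  (196988, 4, 12308, 43),
  (196991, 7, 251005, 10),
  (196993, 4, 4102, 24),
  (196994, 4, 82096, 21),
  (196996, 4, 147760, 21),
  (197000, 4, 32774, 24),
  (197005, 6, 98406, 19),
  (197006, 5, 197000, 42),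
  (197008, 3, 400, 6),
  (197011, 7, 49510, 20),
  (197013, 6, 53484, 23),
  (197014, 6, 204806, 6),
  (197017, 6, 88198, 23),
  (197024, 3, 416, 6),
  (197030, 5, 212998, 6),
  (197034, 6, 33116, 20),
  (197036, 7, 26742, 41),
  (197039, 7, 106599, 19),
  (197053, 7, 119174, 24),
  (197061, 6, 73832, 23),
  (197065, 6, 98660, 19),
  (197066, 5, 16394, 44),
  (197068, 5, 8204, 43),
  (197071, 7, 245852, 22),
  (197073, 7, 8298, 21),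
  (197074, 6, 34831, 25),
  (197076, 7, 8490, 21),
  (197079, 7, 49639, 20),
  (197086, 6, 241734, 6),
  (197089, 7, 106820, 19),
  (197095, 7, 45498, 22),
  (197099, 7, 47422, 22),
  (197101, 6, 8557, 21),
  (197102, 6, 249926, 6),
  (197109, 6, 8558, 21),
  (197113, 6, 8303, 21),
  (197119, 7, 96739, 14),
  (197639, 6, 229544, 23),
  (197641, 6, 124305, 41),
  (197643, 6, 166166, 20),
  (197649, 7, 151684, 23),
  (197651, 7, 182566, 20),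
  (197661, 7, 100782, 23),
  (197663, 7, 61678, 24),
  (197677, 7, 47558, 22),
  (197679, 7, 192622, 24),
  (197685, 6, 82294, 21),
  (197691, 7, 176334, 24),
  (197711, 6, 155967, 25),
  (197717, 6, 82298, 21),
  (197719, 7, 184788, 23),
  (197721, 7, 182706, 20),
  (197733, 6, 82300, 21),
  (197735, 6, 90303, 25),
  (197739, 6, 213423, 25)]

theorem chk_rows1_21 : rows1_21.all (rowBP1 tr1 bm1 gensLitP gensListP 1) = true := by decide +kernel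

/-- Rows 17600 to 18399. -/
def rows1_22 : List (ℕ × ℕ × ℕ × ℕ) := [(197777, 7, 51490, 20),
  (197805, 6, 220577, 14),
  (197813, 6, 90470, 21),
  (197815, 6, 90598, 21),
  (197817, 7, 113046, 24),
  (197825, 6, 90216, 21),
  (197837, 7, 123290, 23),
  (197839, 6, 162831, 25),
  (197845, 6, 90474, 21),
  (197847, 6, 90602, 21),
  (197849, 7, 51634, 20),
  (197863, 6, 97295, 25),
  (197867, 5, 35230, 20),
  (197873, 7, 51626, 20),
  (197887, 7, 90607, 21),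
  (197893, 6, 213352, 23),
  (197905, 7, 182626, 20),
  (197917, 7, 55546, 24),
  (197919, 7, 63722, 24),
  (197921, 6, 45394, 22),
  (197935, 5, 431, 16),
  (197941, 7, 124385, 41),
  (197947, 7, 65783, 21),
  (197967, 7, 249884, 22),
  (197975, 6, 205271, 13),
  (197991, 7, 12786, 22),
  (197993, 7, 166362, 20),
  (197995, 6, 108583, 26),
  (198001, 6, 208141, 24),
  (198003, 7, 182766, 20),
  (198013, 8, 62485, 39),
  (198015, 8, 185821, 23),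
  (198023, 6, 65896, 23),
  (198035, 7, 73954, 21),
  (198049, 6, 45402, 22),
  (198063, 6, 74213, 21),
  (198071, 5, 74214, 21),
  (198073, 7, 51578, 20),
  (198075, 6, 73959, 21),
  (198081, 6, 73832, 21),
  (198105, 7, 51698, 20),
  (198119, 6, 74220, 21),
  (198121, 6, 35290, 20),
  (198129, 6, 51690, 20),
  (198141, 8, 251135, 10),
  (198143, 7, 252191, 5),
  (198659, 6, 229864, 23),
  (198666, 6, 147633, 21),
  (198677, 6, 20622, 24),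
  (198683, 6, 112901, 22),
  (198689, 7, 78082, 22),
  (198707, 5, 147702, 21),
  (198713, 6, 80135, 22),
  (198717, 7, 129106, 19),
  (198718, 6, 155822, 8),
  (198722, 6, 172408, 23),
  (198725, 6, 147832, 21),
  (198739, 6, 147706, 21),
  (198746, 5, 243722, 12),
  (198749, 6, 251970, 19),
  (198750, 6, 244126, 3),
  (198765, 7, 256082, 19),
  (198766, 5, 252334, 3),
  (198770, 5, 147646, 21),
  (198773, 6, 53397, 23),
  (198779, 7, 243061, 8),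
  (198783, 7, 7667, 12),
  (198798, 5, 398, 17),
  (198806, 6, 204806, 8),
  (198815, 5, 415, 17),
  (198821, 7, 75858, 19),
  (198822, 6, 422, 5),
  (198835, 6, 155878, 21),
  (198839, 6, 156134, 21),
  (198842, 5, 74158, 13),
  (198845, 7, 96338, 19),
  (198846, 7, 178273, 20),
  (198853, 6, 90328, 23),
  (198859, 6, 97457, 26),
  (198863, 7, 188636, 22),
  (198867, 6, 163121, 26),
  (198873, 5, 252334, 19),
  (198874, 5, 35230, 17),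
  (198883, 6, 155884, 21),
  (198887, 6, 213479, 14),
  (198890, 6, 6630, 5),
  (198893, 7, 223314, 19),
  (198894, 7, 199711, 25),
  (198898, 5, 147702, 16),
  (198901, 7, 156014, 21),
  (198902, 6, 156078, 21),
  (198907, 7, 155887, 21),
  (198919, 6, 245864, 23),
  (198922, 6, 196622, 13),
  (198926, 6, 135522, 23),
  (198930, 5, 205206, 4),
  (198933, 6, 53388, 23),
  (198939, 6, 211983, 4),
  (198946, 6, 422, 7),
  (198949, 7, 153610, 24),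
  (198955, 7, 178298, 24),
  (198959, 7, 113046, 22),
  (198967, 7, 53645, 23),
  (198969, 7, 22782, 19),
  (198974, 6, 213150, 17),
  (198982, 6, 90216, 22),
  (198987, 7, 242162, 23),
  (198995, 7, 20956, 23),
  (199001, 7, 181621, 25),
  (199002, 7, 178550, 23),
  (199005, 7, 80118, 23),
  (199006, 6, 240090, 4),
  (199011, 6, 36257, 16),
  (199022, 5, 6634, 7),
  (199025, 7, 131198, 21),
  (199029, 6, 216365, 24),
  (199030, 6, 90470, 14),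
  (199035, 8, 234757, 42),
  (199039, 8, 63583, 39),
  (199043, 6, 229416, 23),
  (199049, 6, 118978, 23),
  (199050, 6, 184642, 23),
  (199053, 6, 210219, 44),
  (199067, 7, 127142, 24),
  (199071, 7, 219590, 23),
  (199073, 7, 34966, 19),
  (199077, 7, 139620, 21),
  (199083, 7, 61734, 24),
  (199087, 7, 113054, 22),
  (199095, 6, 139750, 21),
  (199097, 7, 119206, 24),
  (199098, 6, 204974, 13),
  (199106, 6, 114904, 22),
  (199115, 6, 90127, 26),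
  (199123, 6, 155663, 26),
  (199127, 6, 139754, 21),
  (199129, 6, 204815, 26),
  (199130, 6, 243778, 6),
  (199134, 6, 243782, 6),
  (199139, 7, 110906, 22),
  (199143, 6, 139756, 21),
  (199146, 6, 251970, 6),
  (199149, 7, 80318, 22),
  (199158, 6, 90598, 14),
  (199685, 6, 229656, 22),
  (199707, 6, 158803, 20),
  (199709, 7, 192875, 25),
  (199711, 6, 7569, 12),
  (199723, 7, 176238, 24),
  (199727, 6, 7585, 12),
  (199729, 6, 213110, 21),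
  (199731, 6, 213238, 21),
  (199733, 6, 213366, 21),
  (199753, 7, 107002, 23),
  (199755, 6, 208083, 20),
  (199759, 6, 205050, 23),
  (199761, 5, 471, 12),
  (199763, 6, 213242, 21),
  (199767, 7, 213498, 21),
  (199777, 5, 487, 12),
  (199779, 6, 213244, 21),
  (199781, 6, 213372, 21),
  (199783, 7, 78306, 22),
  (199801, 7, 213119, 21),
  (199803, 7, 116875, 40),
  (199805, 7, 110889, 37),
  (199807, 8, 251125, 7),
  (199809, 6, 115144, 23),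
  (199815, 6, 213192, 23),
  (199833, 6, 129206, 24),
  (199835, 7, 173413, 41),
  (199837, 6, 185363, 25),
  (199851, 7, 87431, 44),
  (199853, 6, 185505, 23),
  (199855, 6, 39222, 24),
  (199857, 7, 96694, 24),
  (199859, 7, 88502, 24),
  (199863, 7, 72118, 24),
  (199885, 6, 155868, 22),
  (199939, 6, 10285, 26),
  (199961, 6, 39162, 24),
  (199983, 6, 194634, 24),
  (200009, 6, 217308, 22),
  (200015, 6, 79911, 26),
  (200019, 6, 196858, 21),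
  (200021, 5, 196986, 21),
  (200035, 6, 196860, 21),
  (200037, 5, 196988, 21),
  (200057, 7, 145577, 43),
  (200061, 7, 87171, 44),
  (200063, 7, 27743, 39),
  (200069, 6, 131288, 22),
  (200089, 6, 211969, 6),
  (200091, 7, 118966, 24),
  (200105, 6, 213423, 15),
  (200107, 6, 93395, 19),
  (200109, 7, 127013, 26),
  (200115, 6, 205030, 21),
  (200117, 6, 205158, 21),
  (200119, 6, 205286, 21),
  (200137, 6, 213212, 22),
  (200139, 6, 216259, 19),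
  (200143, 7, 225490, 23),
  (200145, 7, 151804, 23),
  (200147, 6, 205034, 21),
  (200149, 6, 205162, 21),
  (200151, 6, 240711, 6),
  (200161, 7, 166295, 19),
  (200163, 6, 205036, 21),
  (200167, 6, 249249, 15),
  (200185, 8, 243887, 4),
  (200187, 7, 145743, 43),
  (200189, 7, 111033, 37),
  (200191, 7, 205295, 21),
  (200709, 6, 49286, 19),
  (200710, 6, 196622, 12),
  (200718, 5, 398, 6),
  (200721, 6, 88106, 23),
  (200722, 6, 205210, 3),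
  (200727, 6, 7583, 12),
  (200735, 7, 53702, 23),
  (200740, 6, 213420, 3),
  (200743, 6, 7599, 12),
  (200746, 6, 172054, 24),
  (200748, 7, 180262, 24),
  (200755, 7, 188718, 20),
  (200757, 7, 151790, 24),
  (200765, 6, 237917, 26),
  (200769, 6, 94250, 23),
  (200772, 7, 26742, 39),
  (200775, 7, 45476, 22),
  (200778, 7, 20754, 23),
  (200783, 7, 53714, 23),
  (200787, 7, 188838, 20),
  (200789, 7, 140701, 26),
  (200803, 7, 172430, 20),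
  (200806, 7, 45222, 22),
  (200813, 7, 14754, 22),
  (200814, 7, 47266, 22),
  (200817, 6, 21655, 23),
  (200818, 6, 213242, 16),
  (200820, 6, 205180, 17),
  (200823, 8, 232761, 24),
  (200825, 7, 57772, 19),
  (200835, 6, 45324, 22),
  (200838, 6, 213393, 21),
  (200845, 6, 49382, 19),
  (200846, 6, 204849, 21),
  (200855, 7, 189707, 25),
  (200857, 6, 185467, 38),
  (200858, 7, 75974, 24),
  (200865, 6, 185505, 38),
  (200868, 7, 51526, 24),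
  (200879, 7, 95255, 44),
  (200885, 7, 121286, 24),
  (200886, 7, 125382, 24),
  (200891, 7, 20903, 23),
  (200894, 7, 92614, 24),
  (200897, 6, 35851, 24),
  (200898, 7, 143402, 23),
  (200900, 6, 460, 8),
  (200903, 7, 41351, 20),
  (200905, 6, 35915, 24),
  (200906, 6, 458, 5),
  (200908, 7, 86196, 22),
  (200911, 7, 49639, 19),
  (200915, 7, 210986, 23),
  (200917, 6, 39313, 17),
  (200926, 5, 243722, 8),
  (200934, 5, 6634, 5),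
  (200939, 6, 250881, 5),
  (200941, 7, 14762, 22),
  (200946, 6, 147706, 16),
  (200956, 6, 155868, 13),
  (200963, 6, 172358, 20),
  (200973, 6, 53450, 23),
  (200980, 6, 18658, 24),
  (200983, 7, 215146, 23),
  (200985, 6, 20622, 23),
  (200986, 7, 43154, 24),
  (200991, 7, 63674, 24),
  (200993, 6, 172362, 20),
  (200996, 7, 12438, 22),
  (200999, 7, 161914, 24),
  (201002, 6, 172380, 20),
  (201007, 7, 47506, 22),
  (201011, 6, 126199, 21),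
  (201013, 6, 191863, 21),
  (201019, 6, 125953, 21),
  (201021, 6, 191489, 21),
  (201025, 6, 35853, 24),
  (201026, 6, 458, 7),
  (201033, 6, 35917, 24),
  (201036, 6, 460, 4),
  (201043, 6, 128251, 21),
  (201045, 6, 193915, 21),
  (201046, 6, 244182, 4),
  (201051, 6, 128001, 21),
  (201053, 6, 205277, 13),
  (201054, 7, 53598, 23),
  (201059, 6, 38305, 16),
  (201061, 6, 194941, 21),
  (201062, 7, 45238, 22),
  (201067, 6, 129025, 21),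
  (201069, 6, 194561, 21),
  (201070, 6, 6630, 7),
  (201073, 7, 123148, 19),
  (201074, 6, 97471, 21),
  (201076, 6, 74108, 17),
  (201081, 7, 188922, 20),
  (201082, 6, 97281, 21),
  (201084, 6, 162817, 21),
  (201094, 5, 398, 3),
  (201099, 6, 143684, 22),
  (201102, 5, 398, 15),
  (201106, 7, 106694, 24),
  (201108, 6, 114762, 19),
  (201114, 6, 410, 15),
  (201119, 6, 204815, 6),
  (201127, 7, 61766, 24),
  (201129, 6, 14618, 22),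
  (201132, 6, 428, 15),
  (201135, 6, 220591, 15),
  (201139, 6, 57710, 20),
  (201147, 7, 78278, 24),
  (201149, 7, 122990, 19),
  (201156, 7, 8298, 23),
  (201159, 7, 45500, 22),
  (201161, 6, 41426, 20),
  (201162, 7, 198666, 42),
  (201167, 7, 53754, 23),
  (201171, 7, 206890, 23),
  (201174, 7, 141418, 23),
  (201181, 7, 115054, 19),
  (201182, 7, 151695, 26),
  (201195, 7, 57479, 26),
  (201197, 7, 123238, 19),
  (201201, 7, 123212, 19),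
  (201209, 6, 123244, 19),
  (201210, 6, 90602, 14),
  (201212, 6, 156124, 13),
  (201215, 8, 251125, 10),
  (201749, 7, 20734, 24),
  (201751, 7, 28910, 24),
  (201759, 7, 61614, 24),
  (201765, 6, 151678, 24),
  (201767, 7, 185795, 23),
  (201773, 6, 106621, 26),
  (201775, 7, 14786, 22),
  (201777, 6, 152711, 23),
  (201787, 6, 190782, 20),
  (201797, 6, 45540, 22),
  (201799, 7, 248929, 19),
  (201805, 6, 159807, 25),
  (201817, 5, 475, 12),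
  (201819, 7, 151958, 23),
  (201827, 7, 12646, 22),
  (201833, 5, 491, 12),
  (201845, 7, 183455, 5),
  (201853, 8, 79145, 37),
  (201857, 6, 43266, 20),
  (201859, 6, 12620, 22),
  (201877, 6, 7569, 17),
  (201895, 7, 55638, 24),
  (201903, 7, 14794, 22),
  (201907, 7, 104918, 24),
  (201913, 6, 120989, 19),
  (201915, 7, 79985, 19),
  (201925, 7, 209258, 23),
  (201933, 7, 249223, 19),
  (201935, 6, 199777, 19),
  (201937, 6, 38289, 17),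
  (201947, 7, 59830, 20),
  (201961, 7, 47466, 22),
  (201963, 7, 14698, 22),
  (201983, 7, 155871, 13),
  (201985, 6, 45396, 22),
  (201987, 6, 12628, 22),
  (202005, 7, 22778, 24),
  (202007, 7, 211117, 26),
  (202013, 7, 55482, 24),
  (202015, 6, 211969, 4),
  (202029, 7, 184523, 23),
  (202041, 6, 190842, 20),
  (202055, 6, 90474, 23),
  (202063, 7, 254444, 22),
  (202073, 6, 154061, 19),
  (202075, 6, 205275, 13),
  (202089, 7, 174554, 20),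
  (202091, 7, 14706, 22),
  (202103, 7, 59413, 40),
  (202109, 7, 59429, 40),
  (202121, 6, 176388, 22),
  (202123, 6, 67809, 19),
  (202143, 7, 61707, 25),
  (202169, 7, 78294, 24),
  (202181, 6, 205162, 23),
  (202195, 6, 243089, 15),
  (202201, 6, 151742, 23),
  (202203, 7, 151998, 23),
  (202211, 6, 250955, 6),
  (202231, 8, 230897, 42),
  (202237, 7, 201935, 44),
  (202239, 7, 156127, 13),
  (202753, 6, 12437, 26),
  (202754, 6, 90513, 21),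
  (202757, 6, 116834, 19),
  (202762, 5, 220, 22),
  (202787, 7, 21955, 23),
  (202802, 6, 213182, 16),
  (202805, 7, 151758, 24),
  (202806, 6, 155862, 24),
  (202810, 6, 156062, 10),
  (202831, 6, 213372, 22),
  (202838, 6, 240030, 3),
  (202841, 5, 477, 12),
  (202846, 6, 244118, 3),
  (202849, 7, 78118, 22),
  (202853, 6, 54419, 23),
  (202854, 6, 248238, 3),
  (202857, 5, 493, 12),
  (202858, 7, 20819, 23),
  (202862, 6, 252326, 3),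
  (202867, 7, 63947, 6),
  (202871, 7, 107811, 37),
  (202875, 8, 30083, 39),
  (202886, 6, 196622, 11),
  (202889, 6, 116870, 19),
  (202893, 6, 53410, 23),
  (202894, 5, 398, 5),
  (202899, 7, 235562, 23),
  (202907, 7, 20966, 23),
  (202927, 6, 213423, 14),
  (202929, 7, 178641, 26),
  (202930, 5, 147646, 16),
  (202933, 6, 177265, 20),
  (202937, 7, 20711, 23),
  (202942, 7, 58603, 19),
  (202947, 6, 241706, 23),
  (202951, 7, 241770, 23),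
  (202959, 7, 217460, 22),
  (202961, 7, 112682, 23),
  (202962, 6, 39318, 17),
  (202965, 7, 185435, 21),
  (202970, 6, 243726, 8),
  (202974, 6, 241678, 8),
  (202977, 7, 78126, 22),
  (202986, 7, 112682, 22),
  (202989, 6, 213485, 14),
  (202995, 8, 243197, 8),
  (203010, 5, 398, 7),
  (203014, 6, 110740, 22),
  (203017, 6, 18630, 19),
  (203018, 5, 398, 10),
  (203021, 6, 100578, 19),
  (203022, 6, 73804, 22),
  (203031, 7, 62817, 25),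
  (203043, 6, 7585, 16),
  (203047, 7, 161882, 24),
  (203051, 7, 112914, 22),
  (203055, 7, 53643, 23),
  (203061, 6, 129266, 19),
  (203062, 7, 112065, 25),
  (203070, 6, 90414, 14),
  (203075, 7, 253994, 23),
  (203083, 6, 156140, 22),
  (203089, 7, 137710, 19),
  (203090, 6, 241734, 13),
  (203093, 7, 252130, 19),
  (203094, 6, 243778, 13),
  (203098, 7, 20830, 23),
  (203102, 6, 243786, 13),
  (203105, 6, 252397, 7),
  (203109, 6, 183597, 24),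
  (203114, 7, 201877, 25),
  (203127, 7, 108565, 40),
  (203131, 7, 108677, 40),
  (203138, 6, 110620, 22),
  (203146, 6, 12484, 22),
  (203155, 7, 127206, 24),
  (203159, 7, 180507, 25),
  (203163, 7, 94438, 24),
  (203167, 6, 134257, 20),
  (203171, 7, 61798, 24),
  (203179, 7, 29030, 24),
  (203183, 7, 12646, 24),
  (203185, 6, 39102, 19),
  (203190, 6, 205118, 11),
  (203194, 6, 213182, 1),
  (203197, 6, 70118, 24),
  (203198, 5, 74214, 24),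
  (203207, 6, 94343, 26),
  (203211, 7, 26911, 25),
  (203215, 6, 199761, 20),
  (203218, 6, 243786, 6),
  (203221, 6, 244113, 15),
  (203222, 7, 174186, 23),
  (203225, 7, 193809, 21),
  (203226, 6, 35290, 15),
  (203233, 7, 78142, 22),
  (203234, 6, 39402, 15),
  (203237, 6, 251981, 6),
  (203242, 6, 35306, 15),
  (203255, 8, 107955, 37),
  (203263, 7, 90607, 14),
  (203795, 7, 160149, 26),
  (203801, 5, 415, 12),
  (203803, 6, 180347, 25),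
  (203811, 7, 78150, 22),
  (203813, 6, 185475, 23),
  (203815, 7, 78278, 22),
  (203817, 5, 431, 12),
  (203823, 6, 192526, 24),
  (203841, 7, 110948, 22),
  (203847, 7, 78308, 22),
  (203851, 6, 147519, 25),
  (203855, 7, 246140, 22),
  (203889, 8, 110951, 22),
  (203893, 7, 57795, 39),
  (203895, 7, 57737, 39),
  (203897, 7, 243061, 26),
  (203899, 8, 99357, 41),
  (203901, 8, 13509, 44),
  (203921, 6, 129270, 24),
  (203923, 7, 104746, 23),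
  (203925, 6, 175221, 20),
  (203927, 6, 78285, 22),
  (203929, 6, 96502, 24),
  (203931, 6, 7583, 17),
  (203933, 7, 80118, 24),
  (203939, 6, 220591, 14),
  (203941, 7, 111054, 22),
  (203943, 6, 39286, 24),
  (203945, 6, 31094, 24),
  (203947, 7, 80202, 22),
  (203949, 6, 117909, 19),
  (203951, 6, 6518, 24),
  (203971, 7, 110890, 23),
  (203979, 7, 152050, 23),
  (204017, 7, 240765, 11),
  (204021, 7, 75861, 37),
  (204023, 7, 165969, 40),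
  (204025, 7, 22693, 43),
  (204029, 7, 57381, 39),
  (204031, 8, 240123, 8),
  (204049, 5, 6394, 24),
  (204051, 6, 14570, 24),
  (204053, 6, 204815, 4),
  (204057, 6, 39098, 24),
  (204071, 6, 161866, 24),
  (204075, 6, 152011, 23),
  (204077, 6, 7599, 16),
  (204079, 5, 194570, 24),
  (204099, 7, 232595, 20),
  (204101, 7, 254314, 23),
  (204103, 6, 123242, 23),
  (204105, 6, 149959, 19),
  (204107, 7, 232675, 19),
  (204109, 7, 184474, 23),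
  (204149, 7, 166277, 40),
  (204151, 7, 22665, 43),
  (204153, 7, 166165, 40),
  (204157, 7, 99649, 41),
  (204177, 6, 127222, 24),
  (204183, 6, 211983, 6),
  (204185, 7, 151790, 23),
  (204187, 7, 189841, 21),
  (204189, 6, 78070, 24),
  (204195, 7, 106669, 26),
  (204199, 6, 220577, 15),
  (204203, 7, 80218, 22),
  (204225, 7, 237866, 23),
  (204227, 6, 162079, 25),
  (204233, 7, 24751, 26),
  (204239, 7, 258404, 22),
  (204275, 8, 201147, 42),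
  (204277, 8, 148923, 38),
  (204279, 7, 252191, 25),
  (204281, 7, 22767, 43),
  (204285, 7, 99663, 41),
  (204287, 8, 184767, 23),
  (204803, 7, 164134, 20),
  (204805, 6, 4513, 41),
  (204806, 5, 33040, 43),
  (204810, 5, 16394, 37),
  (204815, 5, 1281, 40),
  (204819, 7, 106530, 21),
  (204822, 5, 205206, 15),
  (204833, 6, 147857, 1),
  (204834, 6, 204822, 24),
  (204836, 6, 164137, 20),
  (204845, 7, 45222, 19),
  (204849, 5, 8241, 42),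
  (204855, 7, 239650, 21),
  (204856, 6, 122968, 19),
  (204861, 6, 250094, 24),
  (204866, 5, 197000, 41),
  (204868, 5, 8204, 42),
  (204871, 5, 65541, 38),
  (204872, 4, 32928, 43),
  (204875, 5, 131075, 39),
  (204877, 5, 2177, 44),
  (204881, 6, 131391, 39),
  (204882, 6, 180612, 20),
  (204884, 7, 28780, 23),
  (204887, 7, 225388, 23),
  (204891, 7, 207290, 23),
  (204893, 6, 37294, 19),
  (204894, 6, 37334, 6),
  (204899, 7, 164270, 20),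
  (204901, 6, 90359, 25),
  (204905, 6, 213479, 25),
  (204906, 7, 164284, 20),
  (204908, 6, 205271, 25),
  (204911, 8, 248895, 15),
  (204915, 7, 193625, 22),
  (204918, 5, 131464, 39),
  (204921, 7, 160797, 22),
  (204922, 5, 4124, 41),
  (204924, 5, 20482, 40),
  (204947, 6, 16839, 37),
  (204954, 7, 108550, 24),
  (204959, 6, 129030, 24),
  (204967, 6, 248278, 21),
  (204974, 5, 131408, 39),
  (204977, 5, 16401, 37),
  (204978, 7, 75826, 21),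
  (204980, 6, 32948, 43),
  (204983, 7, 238681, 22),
  (204989, 6, 25959, 21),
  (204990, 5, 12316, 44),
  (204993, 7, 53338, 21),
  (204994, 5, 466, 5),
  (204996, 7, 57372, 23),
  (204999, 7, 250330, 21),
  (205005, 6, 191559, 25),
  (205009, 7, 77868, 23),
  (205010, 6, 77874, 21),
  (205015, 7, 49543, 20),
  (205016, 6, 472, 2),
  (205019, 7, 223642, 23),
  (205022, 6, 243786, 11),
  (205027, 6, 8475, 42),
  (205029, 6, 126023, 25),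
  (205030, 5, 163856, 42),
  (205033, 6, 248903, 25),
  (205034, 5, 98336, 37),
  (205036, 5, 65760, 38),
  (205039, 6, 33273, 43),
  (205043, 7, 191601, 26),
  (205046, 5, 4130, 41),
  (205049, 7, 49562, 20),
  (205050, 5, 65800, 38),
  (205061, 6, 88106, 24),
  (205068, 6, 116834, 24),
  (205075, 7, 180550, 20),
  (205082, 7, 137506, 23),
  (205087, 6, 193841, 25),
  (205089, 5, 16433, 37),
  (205095, 6, 2221, 44),
  (205096, 7, 8350, 42),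
  (205102, 5, 12292, 44),
  (205111, 6, 128177, 25),
  (205115, 6, 251297, 25),
  (205118, 5, 131152, 39),
  (205121, 7, 1215, 40),
  (205124, 7, 45108, 23),
  (205128, 6, 472, 1),
  (205134, 6, 39318, 10),
  (205138, 5, 466, 7),
  (205147, 7, 180694, 20),
  (205157, 7, 8349, 42),
  (205158, 5, 4138, 41),
  (205162, 5, 65928, 38),
  (205167, 6, 16511, 37),
  (205171, 6, 65635, 38),
  (205174, 5, 164176, 42),
  (205177, 6, 108807, 26),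
  (205178, 5, 98528, 37),
  (205180, 5, 65632, 38),
  (205183, 6, 4593, 41),
  (205187, 7, 1493, 40),
  (205190, 5, 205206, 12),
  (205193, 6, 102500, 19),
  (205194, 7, 33140, 20),
  (205196, 6, 49286, 24),
  (205206, 4, 33104, 43),
  (205209, 6, 88194, 23),
  (205210, 5, 16426, 37),
  (205215, 5, 1283, 40),
  (205217, 5, 8225, 42),
  (205218, 6, 8582, 24),
  (205220, 6, 149814, 21),
  (205227, 7, 9445, 21),
  (205233, 6, 196785, 4),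
  (205239, 6, 90187, 25),
  (205240, 6, 90328, 19),
  (205243, 6, 213067, 25),
  (205245, 7, 119046, 24),
  (205246, 6, 204875, 25),
  (205262, 6, 37278, 3),
  (205265, 7, 102732, 19),
  (205266, 5, 196616, 41),
  (205268, 5, 8220, 42),
  (205271, 5, 65669, 38),
  (205272, 5, 32992, 43),
  (205275, 5, 131331, 39),
  (205277, 5, 2181, 44),
  (205286, 5, 131208, 39),
  (205289, 6, 2385, 44),
  (205290, 5, 4116, 41),
  (205292, 5, 20522, 40),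
  (205295, 6, 131279, 39),
  (205299, 7, 129042, 21),
  (205302, 7, 227346, 21),
  (205311, 8, 61871, 3),
  (205827, 7, 122962, 21),
  (205839, 6, 156027, 25),
  (205841, 7, 69790, 24),
  (205853, 6, 119038, 24),
  (205855, 6, 241693, 22),
  (205863, 6, 90363, 25),
  (205867, 6, 213483, 25),
  (205879, 6, 157925, 44),
  (205883, 7, 241870, 24),
  (205893, 7, 106940, 23),
  (205895, 7, 258394, 21),
  (205899, 6, 204990, 23),
  (205911, 7, 176290, 21),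
  (205937, 6, 112802, 21),
  (205939, 7, 47266, 21),
  (205949, 7, 169349, 39),
  (205951, 7, 47231, 42),
  (205953, 7, 49362, 21),
  (205955, 7, 35110, 20),
  (205965, 6, 211983, 5),
  (205967, 6, 193611, 25),
  (205971, 7, 41138, 21),
  (205981, 7, 129046, 24),
  (205989, 7, 128067, 25),
  (205991, 6, 128075, 25),
  (205995, 5, 35134, 20),
  (206009, 7, 52317, 37),
  (206011, 6, 91367, 21),
  (206021, 7, 123292, 23),
  (206025, 6, 90526, 23),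
  (206037, 7, 209260, 23),
  (206039, 7, 176306, 21),
  (206043, 5, 475, 2),
  (206051, 6, 35246, 20),
  (206061, 7, 94537, 41),
  (206063, 7, 128343, 6),
  (206067, 7, 51598, 20),
  (206079, 8, 73039, 38),
  (206081, 7, 57586, 21),
  (206083, 7, 79882, 24),
  (206099, 7, 82220, 23),
  (206111, 5, 415, 16),
  (206117, 7, 95481, 25),
  (206119, 7, 256374, 21),
  (206123, 6, 243786, 24),
  (206133, 6, 201817, 22),
  (206135, 7, 190594, 21),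
  (206151, 7, 166375, 20),
  (206153, 5, 475, 1),
  (206155, 7, 52705, 37),
  (206171, 7, 211122, 23),
  (206177, 7, 63742, 21),
  (206191, 7, 73167, 38),
  (206195, 6, 43303, 26),
  (206207, 8, 246201, 43),
  (206209, 7, 12438, 24),
  (206221, 7, 119174, 23),
  (206225, 7, 196908, 23),
  (206227, 7, 51526, 20),
  (206237, 7, 126998, 24),
  (206239, 7, 252034, 23),
  (206249, 6, 35194, 20),
  (206261, 7, 94486, 24),
  (206263, 7, 86294, 24),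
  (206265, 7, 55477, 19),
  (206267, 6, 92377, 19),
  (206283, 7, 225430, 23),
  (206297, 7, 186789, 19),
  (206299, 6, 215241, 19),
  (206305, 6, 35306, 20),
  (206319, 8, 47215, 42),
  (206321, 7, 148569, 22),
  (206323, 6, 207065, 19),
  (206335, 8, 260383, 5),
  (206859, 7, 110718, 24),
  (206863, 6, 60737, 20),
  (206865, 6, 69806, 24),
  (206875, 7, 241885, 22),
  (206879, 7, 199146, 23),
  (206883, 7, 132571, 22),
  (206889, 7, 148597, 21),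
  (206890, 6, 74046, 13),
  (206894, 6, 90510, 17),
  (206899, 7, 242905, 22)]

theorem chk_rows1_22 : rows1_22.all (rowBP1 tr1 bm1 gensLitP gensListP 1) = true := by decide +kernel

/-- Rows 18400 to 19199. -/
def rows1_23 : List (ℕ × ℕ × ℕ × ℕ) := [(206903, 7, 56673, 20),
  (206905, 7, 233710, 24),
  (206906, 7, 237814, 24),
  (206909, 7, 62817, 20),
  (206910, 5, 147646, 8),
  (206921, 7, 106750, 23),
  (206922, 6, 38305, 19),
  (206925, 6, 251978, 19),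
  (206937, 6, 219622, 19),
  (206938, 6, 39378, 6),
  (206941, 6, 247882, 19),
  (206942, 6, 244182, 15),
  (206945, 7, 199134, 19),
  (206946, 7, 96670, 21),
  (206961, 7, 178466, 21),
  (206962, 7, 202989, 20),
  (206966, 5, 74214, 5),
  (206975, 8, 217533, 41),
  (206977, 6, 114892, 23),
  (206982, 5, 205206, 14),
  (206991, 7, 47270, 24),
  (206997, 6, 71718, 24),
  (206998, 5, 205206, 2),
  (207003, 6, 156763, 25),
  (207021, 6, 39334, 24),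
  (207033, 7, 121126, 24),
  (207047, 6, 205271, 14),
  (207049, 6, 248238, 19),
  (207053, 6, 219210, 19),
  (207059, 6, 241708, 23),
  (207063, 7, 248929, 20),
  (207065, 5, 477, 2),
  (207066, 7, 220321, 26),
  (207070, 6, 38379, 19),
  (207074, 6, 155878, 16),
  (207077, 7, 211034, 19),
  (207087, 7, 220531, 22),
  (207093, 7, 47410, 21),
  (207099, 7, 243173, 8),
  (207106, 6, 204806, 1),
  (207115, 7, 112762, 24),
  (207121, 6, 71850, 24),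
  (207122, 5, 205206, 16),
  (207135, 7, 129242, 24),
  (207139, 7, 190733, 26),
  (207143, 7, 227354, 24),
  (207149, 6, 251978, 24),
  (207150, 7, 256082, 24),
  (207165, 6, 112901, 26),
  (207171, 7, 242164, 23),
  (207175, 7, 209396, 23),
  (207181, 5, 477, 1),
  (207187, 6, 241111, 7),
  (207194, 7, 169237, 25),
  (207197, 6, 80135, 26),
  (207201, 7, 63870, 21),
  (207202, 7, 96702, 21),
  (207205, 6, 194686, 21),
  (207217, 7, 194818, 21),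
  (207221, 7, 239834, 19),
  (207222, 6, 205030, 5),
  (207227, 8, 129451, 3),
  (207231, 7, 36285, 16),
  (207233, 6, 20646, 24),
  (207247, 7, 45222, 24),
  (207253, 6, 69670, 24),
  (207267, 7, 23017, 23),
  (207274, 6, 147870, 4),
  (207277, 7, 96474, 19),
  (207283, 7, 94502, 24),
  (207287, 7, 78118, 24),
  (207290, 6, 196798, 13),
  (207294, 6, 155806, 17),
  (207299, 7, 119290, 21),
  (207303, 6, 160007, 26),
  (207306, 6, 39322, 3),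
  (207310, 6, 244126, 12),
  (207315, 7, 258322, 21),
  (207322, 6, 49230, 37),
  (207329, 7, 216463, 24),
  (207330, 6, 74102, 7),
  (207333, 7, 211162, 19),
  (207339, 8, 170115, 39),
  (207346, 7, 245850, 42),
  (207349, 7, 63762, 21),
  (207881, 6, 83361, 40),
  (207883, 7, 94613, 26),
  (207885, 6, 66030, 23),
  (207897, 6, 7569, 6),
  (207901, 7, 60773, 20),
  (207903, 7, 198890, 23),
  (207921, 7, 240034, 21),
  (207923, 7, 138347, 20),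
  (207925, 7, 217246, 24),
  (207927, 7, 54629, 20),
  (207939, 6, 16511, 25),
  (207953, 6, 27785, 24),
  (207959, 6, 36311, 6),
  (207979, 8, 84075, 44),
  (207993, 7, 220533, 14),
  (208015, 6, 39094, 24),
  (208027, 5, 415, 2),
  (208033, 6, 51670, 21),
  (208037, 6, 14774, 24),
  (208055, 7, 186789, 23),
  (208067, 6, 93339, 24),
  (208081, 7, 241964, 23),
  (208083, 5, 471, 2),
  (208107, 7, 246973, 15),
  (208109, 7, 213343, 1),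
  (208111, 8, 11615, 42),
  (208123, 7, 83137, 40),
  (208127, 7, 53343, 37),
  (208139, 7, 233702, 23),
  (208141, 5, 415, 1),
  (208143, 6, 129098, 24),
  (208157, 7, 72162, 23),
  (208161, 7, 87289, 25),
  (208163, 7, 210986, 24),
  (208165, 7, 190710, 21),
  (208179, 6, 154061, 23),
  (208183, 6, 47397, 26),
  (208193, 7, 61946, 21),
  (208195, 7, 134613, 39),
  (208197, 5, 471, 1),
  (208199, 6, 209140, 23),
  (208209, 7, 258434, 21),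
  (208211, 7, 192898, 21),
  (208215, 6, 14631, 26),
  (208237, 7, 83043, 40),
  (208239, 7, 102863, 38),
  (208251, 7, 213247, 2),
  (208253, 7, 36287, 16),
  (208255, 7, 172473, 43),
  (208269, 7, 45238, 24),
  (208271, 6, 7583, 3),
  (208283, 7, 206051, 21),
  (208293, 7, 242947, 22),
  (208305, 7, 256402, 21),
  (208309, 7, 125330, 21),
  (208311, 7, 59794, 21),
  (208321, 6, 204871, 12),
  (208323, 7, 119162, 21),
  (208337, 7, 24879, 26),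
  (208343, 7, 27839, 24),
  (208363, 7, 155903, 2),
  (208379, 7, 143455, 41),
  (208381, 7, 102897, 38),
  (208383, 8, 212081, 12),
  (208897, 6, 88110, 23),
  (208906, 7, 106518, 24),
  (208908, 6, 172337, 20),
  (208913, 6, 53388, 19),
  (208914, 6, 73942, 24),
  (208916, 6, 82150, 24),
  (208922, 6, 410, 6),
  (208927, 5, 415, 6),
  (208931, 7, 172334, 20),
  (208947, 7, 209118, 24),
  (208950, 7, 180461, 26),
  (208957, 7, 61614, 19),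
  (208958, 7, 241811, 25),
  (208971, 7, 172470, 20),
  (208974, 6, 135494, 39),
  (208979, 7, 53645, 19),
  (208982, 6, 36017, 24),
  (208987, 6, 110627, 21),
  (208989, 6, 188471, 25),
  (208990, 7, 55638, 23),
  (208993, 7, 172458, 20),
  (208996, 5, 196988, 17),
  (209001, 7, 232905, 24),
  (209002, 7, 232913, 24),
  (209004, 6, 213212, 13),
  (209023, 7, 163275, 1),
  (209026, 7, 137262, 23),
  (209031, 6, 63686, 24),
  (209033, 6, 22690, 23),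
  (209034, 6, 410, 5),
  (209036, 6, 18630, 24),
  (209042, 6, 205210, 2),
  (209044, 6, 53450, 19),
  (209047, 6, 129094, 24),
  (209049, 6, 41011, 21),
  (209055, 6, 96326, 24),
  (209059, 7, 47558, 24),
  (209061, 6, 55750, 24),
  (209067, 7, 41278, 20),
  (209070, 6, 139694, 15),
  (209077, 7, 207897, 22),
  (209078, 6, 213150, 12),
  (209083, 7, 57630, 20),
  (209085, 7, 61678, 19),
  (209086, 7, 75083, 25),
  (209093, 7, 184667, 21),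
  (209099, 6, 205275, 14),
  (209102, 7, 86261, 22),
  (209109, 7, 77934, 23),
  (209110, 6, 240090, 2),
  (209117, 7, 207897, 26),
  (209118, 6, 243778, 11),
  (209122, 6, 205178, 7),
  (209127, 8, 103589, 38),
  (209135, 8, 220507, 1),
  (209137, 7, 57738, 20),
  (209138, 5, 196986, 7),
  (209140, 5, 25052, 8),
  (209143, 8, 103685, 38),
  (209145, 7, 57754, 20),
  (209146, 7, 248929, 26),
  (209148, 7, 61930, 19),
  (209154, 7, 75858, 24),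
  (209161, 6, 118820, 19),
  (209162, 6, 410, 10),
  (209170, 6, 410, 7),
  (209175, 6, 96506, 24),
  (209177, 6, 22670, 23),
  (209180, 6, 55374, 23),
  (209183, 6, 129210, 24),
  (209187, 7, 211034, 24),
  (209189, 7, 219242, 24),
  (209195, 7, 127013, 19),
  (209198, 5, 74158, 15),
  (209203, 7, 211162, 24),
  (209205, 6, 126990, 19),
  (209206, 6, 90542, 3),
  (209219, 6, 158061, 22),
  (209221, 7, 119046, 19),
  (209222, 6, 243726, 1),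
  (209227, 7, 172534, 20),
  (209230, 5, 35230, 10),
  (209235, 6, 38289, 16),
  (209237, 7, 119054, 19),
  (209257, 7, 214245, 25),
  (209258, 6, 196858, 5),
  (209260, 6, 25068, 4),
  (209263, 8, 92605, 44),
  (209271, 7, 129423, 26),
  (209274, 6, 82298, 14),
  (209282, 6, 410, 3),
  (209287, 5, 415, 3),
  (209303, 6, 127046, 24),
  (209306, 6, 73798, 24),
  (209308, 5, 81990, 24),
  (209311, 7, 55790, 23),
  (209315, 6, 116983, 21),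
  (209317, 6, 127046, 19),
  (209323, 7, 115019, 25),
  (209339, 7, 78150, 24),
  (209341, 7, 45453, 26),
  (209342, 7, 53645, 26),
  (209347, 7, 41446, 20),
  (209355, 7, 22970, 23),
  (209357, 7, 55546, 23),
  (209365, 6, 119118, 19),
  (209373, 7, 12687, 26),
  (209374, 6, 36087, 24),
  (209377, 7, 127300, 19),
  (209380, 7, 127298, 19),
  (209385, 7, 127332, 19),
  (209386, 7, 41468, 20),
  (209396, 6, 74220, 17),
  (209401, 7, 150557, 22),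
  (209402, 7, 52317, 22),
  (209404, 6, 156108, 13),
  (209941, 7, 217454, 23),
  (209949, 6, 192571, 25),
  (209955, 7, 155011, 23),
  (209961, 7, 165151, 22),
  (209963, 6, 241678, 24),
  (209969, 6, 200926, 24),
  (209971, 7, 125049, 19),
  (209977, 7, 190746, 20),
  (209985, 7, 227630, 23),
  (209995, 7, 174518, 20),
  (210001, 7, 203237, 19),
  (210003, 6, 242689, 15),
  (210021, 8, 249279, 22),
  (210023, 8, 137401, 39),
  (210029, 7, 25709, 40),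
  (210037, 7, 151709, 41),
  (210045, 7, 190875, 20),
  (210055, 6, 43303, 20),
  (210063, 7, 106599, 43),
  (210069, 7, 201070, 23),
  (210071, 7, 69998, 23),
  (210077, 6, 7583, 2),
  (210079, 7, 88150, 24),
  (210083, 6, 39382, 24),
  (210089, 6, 14806, 24),
  (210099, 7, 218443, 25),
  (210107, 7, 43187, 21),
  (210113, 7, 211246, 23),
  (210121, 7, 111795, 21),
  (210123, 6, 202857, 19),
  (210129, 6, 157785, 22),
  (210131, 7, 198867, 44),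
  (210137, 7, 59794, 20),
  (210151, 7, 21667, 37),
  (210159, 7, 107001, 43),
  (210165, 7, 100619, 38),
  (210175, 8, 26097, 40),
  (210181, 7, 240013, 22),
  (210183, 6, 7569, 1),
  (210197, 6, 202841, 22),
  (210217, 7, 235546, 24),
  (210219, 5, 243722, 24),
  (210225, 7, 190794, 20),
  (210233, 7, 106809, 43),
  (210235, 6, 153999, 23),
  (210241, 7, 223534, 23),
  (210259, 6, 90414, 23),
  (210265, 7, 27047, 26),
  (210277, 8, 252215, 15),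
  (210293, 6, 137299, 39),
  (210309, 6, 192835, 25),
  (210317, 6, 28886, 24),
  (210319, 6, 242117, 22),
  (210327, 7, 118870, 24),
  (210333, 7, 186606, 23),
  (210335, 7, 86102, 24),
  (210339, 6, 37334, 24),
  (210355, 7, 102742, 24),
  (210369, 7, 43490, 20),
  (210377, 6, 204875, 12),
  (210385, 6, 205102, 23),
  (210393, 7, 24999, 26),
  (210421, 8, 195067, 7),
  (210429, 8, 96583, 25),
  (210947, 7, 77950, 24),
  (210951, 7, 252014, 23),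
  (210955, 7, 110654, 24),
  (210959, 6, 196957, 22),
  (210967, 7, 43415, 42),
  (210977, 7, 82419, 25),
  (210978, 6, 204918, 24),
  (210985, 6, 175395, 21),
  (210986, 6, 147870, 10),
  (210989, 6, 249870, 24),
  (210994, 6, 205046, 24),
  (210997, 7, 217294, 24),
  (211002, 6, 156046, 10),
  (211006, 5, 74158, 5),
  (211017, 6, 147575, 25),
  (211026, 6, 39386, 6),
  (211029, 6, 39389, 6),
  (211030, 7, 192622, 23),
  (211033, 7, 219590, 19),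
  (211034, 6, 35290, 6),
  (211037, 6, 45347, 21),
  (211051, 7, 229647, 43),
  (211059, 7, 193781, 26),
  (211071, 7, 213375, 14),
  (211079, 7, 229719, 43),
  (211087, 6, 211969, 5),
  (211091, 6, 129126, 24),
  (211095, 6, 7569, 2),
  (211099, 7, 23014, 23),
  (211105, 7, 100542, 19),
  (211106, 6, 155822, 16),
  (211113, 7, 23014, 24),
  (211114, 6, 90542, 1),
  (211117, 6, 6630, 24),
  (211122, 6, 196926, 7),
  (211125, 7, 92282, 19),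
  (211137, 7, 231854, 19),
  (211141, 7, 219242, 19),
  (211142, 7, 117939, 24),
  (211149, 6, 205277, 14),
  (211157, 7, 71739, 38),
  (211158, 7, 176238, 23),
  (211162, 6, 244182, 2),
  (211166, 6, 241734, 11),
  (211187, 8, 163017, 13),
  (211199, 7, 191709, 22),
  (211203, 7, 247854, 23),
  (211207, 6, 207181, 22),
  (211211, 6, 7583, 1),
  (211219, 6, 7569, 16),
  (211223, 7, 96474, 24),
  (211231, 7, 129178, 24),
  (211233, 7, 185403, 20),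
  (211234, 6, 128001, 19),
  (211237, 6, 129274, 19),
  (211238, 7, 223314, 24),
  (211241, 7, 235562, 24),
  (211242, 7, 194605, 20),
  (211246, 6, 196798, 5),
  (211249, 6, 6390, 19),
  (211254, 6, 139694, 11),
  (211257, 7, 235690, 24),
  (211261, 7, 252042, 24),
  (211262, 6, 204974, 5),
  (211265, 7, 124974, 23),
  (211266, 6, 241678, 1),
  (211270, 5, 243722, 1),
  (211273, 7, 141711, 26),
  (211281, 6, 39313, 16),
  (211285, 7, 28823, 41),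
  (211286, 7, 55513, 22),
  (211299, 7, 249245, 24),
  (211303, 7, 43217, 42),
  (211339, 7, 143813, 22),
  (211343, 7, 55722, 23),
  (211355, 6, 231645, 22),
  (211362, 6, 74046, 7),
  (211365, 6, 96506, 19),
  (211366, 6, 196926, 11),
  (211369, 7, 20966, 24),
  (211370, 6, 25062, 24),
  (211373, 7, 210183, 22),
  (211377, 6, 39094, 19),
  (211378, 7, 123238, 24),
  (211382, 6, 128075, 19),
  (211385, 6, 177451, 20),
  (211386, 6, 90470, 24),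
  (211389, 7, 69990, 24),
  (211397, 6, 209287, 26),
  (211398, 5, 35230, 3),
  (211401, 6, 39313, 3),
  (211405, 7, 55482, 23),
  (211406, 6, 39318, 3),
  (211409, 6, 158039, 25),
  (211413, 7, 215274, 19),
  (211417, 7, 22782, 23),
  (211421, 7, 198890, 19),
  (211431, 7, 43105, 42),
  (211439, 7, 128359, 19),
  (211451, 7, 28767, 41),
  (211969, 5, 132097, 40),
  (211971, 7, 77934, 24),
  (211977, 7, 102462, 24),
  (211983, 5, 132353, 40),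
  (211989, 7, 86238, 24),
  (211991, 6, 7583, 6),
  (211997, 7, 186502, 23),
  (211999, 7, 127118, 24),
  (212069, 8, 200189, 19),
  (212071, 7, 12769, 42),
  (212073, 7, 12777, 42),
  (212075, 7, 132301, 40),
  (212081, 7, 164239, 39),
  (212085, 7, 10357, 44),
  (212087, 7, 49347, 43),
  (212089, 7, 49379, 43),
  (212097, 7, 193875, 25),
  (212099, 6, 204815, 5),
  (212101, 7, 70063, 41),
  (212103, 6, 39158, 24),
  (212109, 7, 14582, 24),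
  (212111, 6, 6390, 24),
  (212113, 6, 207065, 22),
  (212119, 7, 174233, 22),
  (212201, 7, 219487, 1),
  (212205, 7, 66785, 38),
  (212209, 7, 235959, 19),
  (212225, 7, 248110, 23),
  (212227, 7, 183347, 20),
  (212231, 6, 96330, 24),
  (212233, 7, 104506, 24),
  (212235, 7, 112682, 24),
  (212239, 6, 129034, 24),
  (212243, 7, 50489, 25),
  (212245, 7, 246126, 23),
  (212247, 7, 115054, 23),
  (212253, 6, 7583, 16),
  (212255, 7, 129162, 24),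
  (212325, 7, 18549, 37),
  (212327, 6, 132179, 40),
  (212331, 6, 18545, 37),
  (212333, 6, 10381, 44),
  (212335, 8, 18559, 37),
  (212339, 7, 66659, 38),
  (212343, 7, 39351, 16),
  (212347, 7, 39355, 16),
  (212351, 7, 18639, 37),
  (212357, 7, 231790, 23),
  (212359, 6, 37110, 24),
  (212361, 6, 7569, 3),
  (212365, 7, 186538, 23),
  (212367, 7, 186794, 23),
  (212369, 5, 132099, 40),
  (212371, 6, 160091, 25),
  (212379, 6, 175395, 20),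
  (212381, 7, 20819, 25),
  (212383, 5, 132355, 40),
  (212451, 7, 164037, 39),
  (212453, 7, 164035, 39),
  (212455, 7, 10561, 44),
  (212457, 7, 132377, 40),
  (212465, 7, 163275, 13),
  (212467, 7, 49279, 43),
  (212471, 7, 12785, 42),
  (212475, 7, 132303, 40),
  (212479, 8, 234677, 4),
  (212998, 4, 32928, 44),
  (213001, 6, 4513, 40),
  (213004, 5, 8204, 38),
  (213007, 5, 2177, 41),
  (213009, 6, 196785, 7),
  (213015, 6, 156029, 26),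
  (213016, 6, 18483, 21),
  (213019, 7, 176606, 24),
  (213021, 6, 205277, 26),
  (213022, 6, 213485, 26),
  (213029, 7, 1215, 43),
  (213030, 6, 422, 6),
  (213033, 6, 168218, 20),
  (213034, 6, 168220, 20),
  (213036, 7, 49510, 24),
  (213041, 5, 16433, 42),
  (213042, 7, 8350, 38),
  (213044, 6, 18742, 21),
  (213053, 7, 8349, 38),
  (213057, 7, 61532, 21),
  (213058, 5, 16394, 42),
  (213060, 5, 197000, 40),
  (213063, 5, 131075, 37),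
  (213064, 5, 33040, 44),
  (213067, 5, 1281, 43),
  (213069, 5, 65541, 39),
  (213072, 6, 213192, 20),
  (213077, 7, 18810, 21),
  (213078, 7, 18874, 21),
  (213087, 8, 194779, 11),
  (213102, 6, 250342, 15),
  (213110, 5, 65928, 39),
  (213113, 6, 2221, 41),
  (213114, 5, 12292, 41),
  (213116, 5, 4138, 40),
  (213119, 6, 16511, 42),
  (213125, 6, 131391, 37),
  (213132, 7, 71826, 22),
  (213135, 6, 194566, 24),
  (213137, 5, 8241, 38),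
  (213138, 6, 206982, 24),
  (213140, 6, 26914, 21),
  (213143, 7, 248205, 23),
  (213147, 6, 53558, 20),
  (213150, 5, 20482, 43),
  (213175, 6, 202857, 23),
  (213182, 5, 65632, 39),
  (213185, 7, 151858, 22),
  (213188, 6, 41426, 19),
  (213191, 7, 217586, 22),
  (213192, 5, 213480, 11),
  (213197, 7, 219570, 22),
  (213198, 6, 252394, 2),
  (213205, 7, 68907, 24),
  (213206, 5, 4124, 40),
  (213209, 7, 41468, 19),
  (213212, 5, 131464, 37),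
  (213217, 7, 45108, 21),
  (213218, 7, 57434, 22),
  (213220, 5, 484, 8),
  (213223, 7, 241716, 21),
  (213227, 6, 126129, 26),
  (213235, 6, 191793, 26),
  (213237, 6, 65635, 39),
  (213238, 5, 98528, 42),
  (213241, 6, 241041, 26),
  (213242, 5, 131152, 37),
  (213244, 5, 164176, 38),
  (213247, 6, 4593, 40),
  (213253, 7, 106518, 19),
  (213260, 7, 182626, 24),
  (213263, 6, 129101, 26),
  (213271, 6, 194637, 26),
  (213277, 6, 243789, 26),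
  (213278, 5, 65760, 39),
  (213283, 6, 14618, 24),
  (213290, 6, 168284, 20),
  (213297, 5, 8225, 38),
  (213303, 6, 2385, 41),
  (213304, 6, 98360, 19),
  (213310, 5, 20522, 43),
  (213316, 5, 484, 4),
  (213325, 7, 106806, 19),
  (213333, 6, 8475, 38),
  (213334, 5, 98336, 42),
  (213337, 6, 106812, 19),
  (213338, 5, 131408, 37),
  (213340, 5, 163856, 38),
  (213343, 6, 33273, 44),
  (213345, 7, 1493, 43),
  (213346, 7, 53338, 22),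
  (213352, 5, 213480, 10),
  (213358, 6, 251910, 1),
  (213360, 6, 65896, 20),
  (213363, 7, 98589, 19),
  (213366, 5, 4116, 40),
  (213372, 5, 131208, 37),
  (213375, 6, 131279, 37),
  (213381, 7, 209282, 22),
  (213382, 6, 422, 3),
  (213393, 5, 16401, 42),
  (213399, 7, 10722, 21),
  (213400, 6, 32948, 44),
  (213403, 6, 106621, 19),
  (213411, 6, 163930, 22),
  (213413, 7, 151814, 24),
  (213414, 5, 32992, 44),
  (213420, 5, 8220, 38),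
  (213423, 5, 2181, 41),
  (213425, 6, 147857, 7),
  (213426, 6, 205190, 24),
  (213428, 7, 213382, 24),
  (213435, 7, 53630, 20),
  (213441, 6, 16839, 42),
  (213442, 7, 37316, 20),
  (213444, 6, 106834, 19),
  (213447, 7, 225762, 22),
  (213451, 6, 37334, 20),
  (213453, 7, 10601, 21),
  (213454, 6, 250286, 12),
  (213456, 7, 106840, 19),
  (213461, 7, 129173, 23),
  (213462, 5, 65800, 39),
  (213465, 7, 247943, 25),
  (213466, 5, 12316, 41),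
  (213468, 5, 4130, 40),
  (213474, 5, 16426, 42),
  (213476, 5, 196616, 40),
  (213479, 5, 131331, 37),
  (213480, 4, 33104, 44),
  (213483, 5, 1283, 43),
  (213485, 5, 65669, 39),
  (213491, 6, 155719, 26),
  (213493, 7, 98654, 19),
  (213497, 6, 204871, 26),
  (213498, 6, 213063, 26),
  (213500, 7, 98682, 19),
  (213503, 8, 77179, 1),
  (214017, 6, 164122, 22),
  (214037, 7, 151998, 24),
  (214039, 7, 186663, 20),
  (214051, 6, 12558, 24),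
  (214061, 7, 53630, 24),
  (214071, 7, 13763, 22),
  (214073, 7, 186682, 20),
  (214087, 7, 258396, 21),
  (214097, 7, 84090, 21),
  (214117, 6, 94271, 25),
  (214119, 7, 176292, 21),
  (214129, 7, 186794, 20),
  (214131, 7, 207897, 24),
  (214143, 8, 92605, 41),
  (214145, 6, 145430, 24),
  (214159, 6, 92377, 26),
  (214171, 7, 55606, 20),
  (214179, 6, 172058, 22),
  (214189, 7, 194838, 24),
  (214201, 6, 244118, 24),
  (214213, 7, 11563, 24),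
  (214215, 6, 199761, 19),
  (214219, 5, 491, 2),
  (214225, 7, 55714, 20),
  (214239, 7, 128359, 6),
  (214245, 6, 36257, 17),
  (214249, 6, 39322, 20),
  (214251, 6, 39326, 20),
  (214257, 7, 55722, 20),
  (214269, 7, 212331, 23),
  (214275, 6, 172362, 22),
  (214285, 7, 186746, 24),
  (214297, 6, 186738, 20),
  (214319, 7, 83307, 23),
  (214325, 7, 22970, 24),
  (214327, 7, 31146, 24),
  (214329, 6, 39386, 24),
  (214343, 6, 213479, 13),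
  (214345, 6, 170450, 20),
  (214353, 7, 186850, 20),
  (214355, 7, 67834, 21),
  (214365, 8, 103589, 39),
  (214367, 8, 193767, 6),
  (214373, 7, 258180, 21),
  (214375, 7, 249882, 22),
  (214377, 5, 491, 1),
  (214385, 6, 145885, 19),
  (214387, 7, 141415, 26),
  (214403, 6, 67793, 19),
  (214413, 7, 244098, 22),
  (214415, 7, 110701, 26),
  (214421, 7, 225430, 24),
  (214423, 7, 76258, 21),
  (214425, 7, 249987, 25),
  (214427, 7, 233622, 24),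
  (214445, 6, 192790, 24),
  (214447, 7, 66923, 23),
  (214455, 7, 67945, 23),
  (214459, 7, 68907, 23),
  (214473, 6, 39378, 20),
  (214475, 6, 39382, 20),
  (214483, 7, 76010, 21),
  (214493, 8, 103685, 39),
  (214505, 6, 39386, 20),
  (214507, 7, 180254, 22),
  (214515, 7, 55790, 20),
  (215041, 7, 75974, 19),
  (215045, 7, 65769, 23),
  (215051, 7, 176510, 24),
  (215055, 7, 192862, 24),
  (215059, 7, 143806, 24),
  (215063, 7, 160158, 24),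
  (215065, 6, 156763, 20),
  (215066, 7, 172534, 24),
  (215069, 7, 184782, 24),
  (215077, 7, 108610, 19),
  (215087, 7, 250987, 23),
  (215098, 6, 90414, 13),
  (215101, 6, 129090, 19),
  (215113, 6, 206043, 20),
  (215117, 7, 149881, 21),
  (215118, 7, 84090, 22),
  (215121, 6, 214219, 20),
  (215125, 7, 103785, 20),
  (215126, 6, 205158, 14),
  (215131, 8, 191881, 16),
  (215145, 7, 223734, 19),
  (215146, 6, 39394, 6),
  (215154, 6, 213206, 16),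
  (215157, 6, 243778, 19),
  (215163, 8, 215069, 41),
  (215169, 7, 135570, 22),
  (215174, 5, 212998, 11),
  (215183, 7, 203090, 22),
  (215193, 6, 129198, 19),
  (215194, 6, 90510, 13),
  (215197, 7, 138691, 37),
  (215201, 7, 153894, 24),
  (215205, 7, 139418, 22),
  (215206, 5, 212998, 8),
  (215211, 6, 129201, 26),
  (215215, 5, 431, 17),
  (215219, 6, 194865, 26),
  (215223, 7, 158182, 21),
  (215225, 5, 129214, 19),
  (215226, 6, 90542, 13),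
  (215235, 7, 152050, 22),
  (215239, 7, 217458, 22),
  (215241, 5, 493, 2),
  (215249, 7, 244110, 19),
  (215254, 6, 25046, 5),
  (215259, 8, 157931, 21),
  (215271, 7, 188634, 22),
  (215274, 6, 35246, 17),
  (215277, 6, 155806, 22),
  (215278, 7, 57566, 22),
  (215281, 6, 244126, 19),
  (215291, 7, 194971, 3),
  (215295, 7, 238009, 44),
  (215297, 7, 57716, 21),
  (215298, 5, 212998, 13),
  (215307, 6, 220577, 13),
  (215315, 7, 133362, 21),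
  (215319, 6, 133618, 21),
  (215326, 6, 213182, 17),
  (215329, 7, 10454, 19),
  (215330, 5, 212998, 1),
  (215333, 7, 135322, 22),
  (215347, 7, 133366, 21),
  (215351, 7, 133622, 21),
  (215353, 6, 39402, 24),
  (215354, 7, 234833, 25),
  (215358, 6, 196798, 17),
  (215369, 7, 158182, 19),
  (215374, 6, 248298, 4),
  (215377, 6, 133242, 21),
  (215387, 8, 159945, 40),
  (215395, 7, 150557, 24),
  (215401, 7, 217246, 22),
  (215402, 7, 150613, 24),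
  (215405, 5, 493, 1),
  (215406, 7, 76105, 20),
  (215410, 6, 25062, 7),
  (215413, 7, 133502, 21),
  (215414, 7, 67945, 20),
  (215419, 7, 44073, 38),
  (215429, 7, 67794, 19),
  (215435, 6, 250307, 23),
  (215439, 6, 107639, 19),
  (215443, 6, 215225, 41),
  (215449, 7, 250022, 24),
  (215450, 7, 254118, 24),
  (215454, 5, 147646, 17),
  (215457, 7, 196762, 22),
  (215467, 6, 90189, 26),
  (215475, 6, 155725, 26),
  (215481, 6, 204877, 26),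
  (215482, 6, 213069, 26),
  (215491, 7, 119292, 21),
  (215502, 5, 252334, 12),
  (215505, 7, 141418, 21),
  (215506, 7, 111673, 22),
  (215509, 6, 201833, 20),
  (215510, 5, 74214, 14),
  (215515, 7, 104707, 39),
  (215519, 7, 54367, 42),
  (215523, 7, 258324, 21)]

theorem chk_rows1_23 : rows1_23.all (rowBP1 tr1 bm1 gensLitP gensListP 1) = true := by decide +kernel

/-- Rows 19200 to 19999. -/
def rows1_24 : List (ℕ × ℕ × ℕ × ℕ) := [(215527, 7, 127252, 21),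
  (215529, 6, 213150, 22),
  (215534, 7, 49374, 22),
  (215538, 6, 147926, 16),
  (216075, 7, 166362, 22),
  (216081, 7, 215154, 21),
  (216085, 7, 215410, 21),
  (216087, 7, 215538, 21),
  (216105, 6, 7585, 6),
  (216109, 7, 53598, 24),
  (216117, 7, 20894, 24),
  (216129, 6, 27913, 24),
  (216135, 7, 246138, 22),
  (216153, 8, 259415, 8),
  (216155, 7, 114735, 44),
  (216157, 7, 45537, 38),
  (216163, 7, 258202, 22),
  (216167, 6, 248833, 15),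
  (216187, 7, 90575, 2),
  (216203, 5, 431, 2),
  (216209, 7, 141381, 41),
  (216233, 6, 194870, 24),
  (216245, 6, 54419, 25),
  (216247, 6, 79307, 22),
  (216259, 5, 487, 2),
  (216263, 7, 249948, 21),
  (216281, 7, 168327, 37),
  (216283, 7, 140555, 43),
  (216291, 6, 158747, 24),
  (216313, 7, 36285, 17),
  (216315, 7, 36287, 17),
  (216317, 7, 205183, 1),
  (216333, 7, 186714, 24),
  (216337, 6, 137658, 24),
  (216339, 6, 198898, 21),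
  (216361, 6, 39290, 24),
  (216363, 7, 47466, 24),
  (216365, 5, 431, 1),
  (216371, 7, 14762, 24),
  (216373, 7, 199030, 21),
  (216375, 7, 31114, 24),
  (216385, 6, 188842, 22),
  (216387, 7, 127356, 21),
  (216391, 7, 254314, 22),
  (216409, 7, 86361, 40),
  (216411, 7, 205039, 2),
  (216413, 7, 246973, 17),
  (216417, 6, 141783, 19),
  (216419, 7, 19611, 42),
  (216421, 5, 487, 1),
  (216423, 7, 184474, 22),
  (216441, 7, 114963, 44),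
  (216445, 7, 140313, 43),
  (216457, 7, 178562, 22),
  (216461, 7, 176182, 24),
  (216463, 6, 7599, 3),
  (216465, 7, 225462, 24),
  (216467, 7, 217270, 24),
  (216469, 7, 209078, 24),
  (216471, 7, 207330, 21),
  (216491, 7, 229534, 22),
  (216493, 6, 230763, 23),
  (216495, 6, 140323, 43),
  (216513, 6, 213063, 12),
  (216519, 7, 27967, 24),
  (216543, 7, 252063, 25),
  (216547, 6, 30879, 25),
  (216571, 8, 97735, 14),
  (217090, 5, 139606, 24),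
  (217092, 6, 147814, 24),
  (217095, 7, 199134, 22),
  (217103, 6, 192830, 24),
  (217107, 7, 57501, 19),
  (217109, 7, 152046, 24),
  (217110, 7, 45523, 25),
  (217132, 6, 428, 6),
  (217135, 5, 431, 6),
  (217141, 7, 49310, 19),
  (217147, 6, 192830, 20),
  (217149, 6, 49342, 19),
  (217155, 7, 176518, 20),
  (217158, 6, 36145, 24),
  (217163, 6, 112677, 21),
  (217169, 7, 49639, 25),
  (217170, 6, 196858, 16),
  (217172, 7, 57754, 19),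
  (217178, 6, 205162, 14),
  (217187, 7, 176526, 20),
  (217189, 7, 227354, 22),
  (217197, 7, 227358, 22),
  (217201, 7, 96299, 23),
  (217204, 7, 49562, 19),
  (217209, 7, 192954, 20),
  (217210, 7, 192956, 20),
  (217217, 6, 45314, 20),
  (217223, 6, 194630, 24),
  (217226, 6, 141382, 24),
  (217228, 6, 428, 11),
  (217231, 6, 161862, 24),
  (217235, 7, 61734, 20),
  (217237, 7, 57566, 19),
  (217238, 7, 256198, 24),
  (217243, 7, 216463, 23),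
  (217246, 6, 147870, 15),
  (217249, 6, 45322, 20),
  (217250, 6, 45324, 20),
  (217252, 6, 428, 8),
  (217260, 7, 149830, 24),
  (217263, 6, 201833, 23),
  (217269, 7, 49374, 19),
  (217270, 6, 204974, 12),
  (217275, 6, 203817, 23),
  (217277, 7, 219590, 24),
  (217283, 7, 216463, 25),
  (217286, 6, 248298, 2),
  (217291, 7, 151926, 22),
  (217294, 6, 251970, 11),
  (217297, 7, 249223, 25),
  (217298, 7, 61860, 20),
  (217300, 7, 152863, 21),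
  (217305, 7, 48181, 21),
  (217306, 5, 25050, 5),
  (217308, 5, 196988, 4),
  (217311, 8, 217533, 40),
  (217317, 6, 252397, 8),
  (217318, 7, 52393, 26),
  (217323, 7, 190558, 22),
  (217335, 8, 212339, 1),
  (217340, 6, 213340, 4),
  (217343, 7, 39355, 17),
  (217345, 6, 141582, 22),
  (217346, 6, 141650, 24),
  (217351, 6, 162170, 24),
  (217356, 6, 428, 4),
  (217359, 6, 194874, 24),
  (217371, 6, 192886, 20),
  (217373, 7, 186794, 24),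
  (217374, 6, 155822, 6),
  (217377, 6, 176458, 20),
  (217380, 6, 213420, 1),
  (217388, 7, 51490, 24),
  (217397, 7, 192875, 20),
  (217398, 6, 205102, 12),
  (217403, 7, 47514, 24),
  (217405, 7, 55722, 24),
  (217419, 7, 156014, 22),
  (217421, 6, 213485, 13),
  (217428, 6, 90460, 17),
  (217439, 7, 193781, 25),
  (217445, 7, 114966, 19),
  (217446, 6, 251918, 1),
  (217451, 7, 176606, 20),
  (217453, 6, 91241, 23),
  (217454, 6, 35246, 10),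
  (217457, 7, 13623, 22),
  (217458, 6, 25066, 7),
  (217460, 6, 196860, 8),
  (217463, 8, 170115, 37),
  (217476, 6, 428, 3),
  (217479, 5, 431, 3),
  (217481, 6, 45394, 20),
  (217482, 6, 139334, 24),
  (217484, 6, 147526, 24),
  (217491, 7, 61798, 20),
  (217494, 7, 122971, 19),
  (217501, 7, 123006, 19),
  (217502, 7, 61813, 20),
  (217506, 6, 84145, 21),
  (217508, 7, 180550, 24),
  (217513, 6, 45402, 20),
  (217533, 7, 114814, 19),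
  (217539, 6, 123079, 26),
  (217541, 6, 227750, 22),
  (217542, 7, 193809, 23),
  (217549, 7, 45523, 20),
  (217550, 6, 36215, 24),
  (217559, 7, 249149, 5),
  (217573, 7, 115030, 19),
  (217574, 6, 49230, 42),
  (217585, 7, 61930, 20),
  (217586, 6, 147930, 16),
  (217588, 7, 245850, 38),
  (217593, 7, 61946, 20),
  (217594, 6, 90570, 14),
  (218119, 6, 24797, 26),
  (218129, 7, 139765, 26),
  (218131, 6, 120945, 19),
  (218139, 6, 194870, 20),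
  (218149, 7, 211034, 22),
  (218151, 7, 57501, 26),
  (218161, 7, 219435, 23),
  (218163, 7, 194862, 20),
  (218169, 6, 37278, 24),
  (218177, 7, 178562, 20),
  (218179, 7, 178566, 20),
  (218185, 7, 180542, 22),
  (218187, 6, 147631, 25),
  (218199, 7, 229647, 44),
  (218209, 7, 161882, 22),
  (218211, 6, 38379, 6),
  (218217, 6, 217135, 25),
  (218229, 7, 194987, 20),
  (218237, 7, 43217, 38),
  (218247, 7, 186454, 24),
  (218253, 6, 7599, 2),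
  (218255, 6, 68721, 19),
  (218265, 7, 63794, 20),
  (218277, 6, 7585, 17),
  (218285, 7, 28823, 40),
  (218289, 6, 244182, 24),
  (218291, 7, 63790, 20),
  (218299, 7, 63806, 20),
  (218313, 7, 43415, 38),
  (218325, 7, 126365, 23),
  (218335, 7, 155903, 13),
  (218337, 6, 38305, 17),
  (218345, 7, 47514, 20),
  (218347, 7, 47518, 20),
  (218373, 7, 153978, 24),
  (218381, 7, 186682, 24),
  (218383, 6, 213423, 13),
  (218385, 7, 137690, 24),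
  (218387, 7, 145866, 24),
  (218395, 6, 194934, 20),
  (218407, 6, 7585, 1),
  (218413, 6, 214377, 23),
  (218415, 7, 235550, 22),
  (218419, 7, 194926, 20),
  (218425, 6, 39322, 24),
  (218427, 7, 141541, 26),
  (218441, 7, 229719, 44),
  (218443, 6, 250881, 4),
  (218467, 7, 83245, 25),
  (218475, 7, 186398, 22),
  (218493, 7, 43105, 38),
  (218495, 7, 240765, 24),
  (218509, 7, 71739, 39),
  (218521, 7, 209110, 24),
  (218533, 6, 94445, 26),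
  (218535, 7, 65899, 23),
  (218541, 7, 198750, 22),
  (218543, 7, 151894, 24),
  (218545, 6, 242134, 24),
  (218547, 6, 117875, 21),
  (218555, 7, 63870, 20),
  (218561, 6, 47554, 20),
  (218563, 7, 47558, 20),
  (218569, 6, 38305, 3),
  (218581, 8, 128263, 16),
  (218591, 7, 129423, 25),
  (218595, 6, 153999, 25),
  (218615, 7, 28767, 40),
  (219139, 7, 143742, 24),
  (219143, 7, 198121, 23),
  (219147, 7, 176446, 24),
  (219154, 6, 196798, 16),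
  (219158, 6, 156118, 24),
  (219161, 7, 96462, 19),
  (219162, 7, 172470, 24),
  (219166, 6, 205102, 14),
  (219171, 6, 249899, 23),
  (219175, 6, 50327, 19),
  (219183, 6, 127037, 26),
  (219186, 6, 213150, 16),
  (219190, 6, 25046, 24),
  (219193, 6, 37294, 24),
  (219194, 7, 161861, 20),
  (219205, 7, 215358, 22),
  (219206, 5, 12316, 38),
  (219210, 5, 4116, 38),
  (219213, 6, 213310, 22),
  (219223, 8, 161277, 26),
  (219231, 7, 205167, 14),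
  (219234, 6, 39402, 6),
  (219237, 6, 39405, 6),
  (219242, 6, 35306, 6),
  (219245, 7, 239714, 19),
  (219267, 7, 198119, 43),
  (219271, 6, 7585, 2),
  (219275, 7, 135638, 22),
  (219279, 7, 201046, 22),
  (219281, 7, 79117, 22),
  (219289, 7, 129166, 19),
  (219299, 7, 78231, 40),
  (219307, 6, 162150, 24),
  (219317, 6, 79247, 22),
  (219321, 6, 219622, 24),
  (219322, 6, 205118, 10),
  (219333, 7, 215154, 19),
  (219337, 7, 26799, 41),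
  (219341, 6, 91355, 23),
  (219342, 6, 250342, 2),
  (219347, 8, 163065, 13),
  (219359, 7, 14463, 38),
  (219361, 7, 202195, 20),
  (219362, 6, 251910, 8),
  (219365, 7, 238681, 20),
  (219366, 7, 183347, 24),
  (219370, 6, 251918, 8),
  (219373, 7, 157854, 22),
  (219374, 6, 249870, 8),
  (219379, 7, 78177, 40),
  (219387, 7, 39359, 17),
  (219407, 6, 194842, 24),
  (219409, 6, 137706, 24),
  (219413, 7, 121074, 19),
  (219414, 6, 156062, 11),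
  (219421, 7, 186762, 24),
  (219435, 6, 7599, 1),
  (219439, 7, 26763, 41),
  (219441, 5, 6634, 24),
  (219445, 7, 9593, 20),
  (219446, 7, 27090, 24),
  (219450, 7, 149709, 26),
  (219454, 7, 59794, 24),
  (219458, 6, 250342, 4),
  (219461, 7, 223534, 22),
  (219462, 6, 251970, 13),
  (219465, 6, 156078, 22),
  (219470, 6, 252394, 4),
  (219487, 6, 51439, 42),
  (219490, 6, 249870, 1),
  (219498, 7, 121054, 22),
  (219501, 7, 239842, 19),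
  (219519, 8, 180659, 44),
  (219527, 6, 127173, 26),
  (219535, 7, 143462, 24),
  (219538, 7, 254182, 24),
  (219541, 7, 233702, 24),
  (219545, 7, 189707, 20),
  (219546, 6, 196798, 1),
  (219549, 6, 136313, 20),
  (219550, 5, 74158, 14),
  (219569, 6, 250342, 24),
  (219570, 6, 147870, 16),
  (219573, 7, 96482, 19),
  (219577, 7, 189717, 21),
  (219578, 6, 74046, 10),
  (219582, 6, 90510, 14),
  (219590, 6, 35246, 3),
  (219593, 6, 213069, 12),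
  (219594, 7, 193875, 23),
  (219597, 6, 201817, 20),
  (219598, 6, 252326, 12),
  (219607, 7, 124255, 19),
  (219615, 7, 51295, 42),
  (219617, 7, 174518, 19),
  (219622, 5, 4124, 38),
  (219626, 5, 12292, 38),
  (219629, 7, 149662, 22),
  (219639, 7, 197839, 43),
  (219643, 8, 51637, 42),
  (219647, 7, 90575, 14),
  (220161, 5, 67585, 41),
  (220163, 6, 117875, 19),
  (220165, 7, 12541, 26),
  (220171, 6, 147643, 25),
  (220175, 5, 67713, 41),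
  (220193, 7, 211162, 22),
  (220197, 7, 20830, 24),
  (220199, 6, 7599, 6),
  (220201, 6, 37182, 24),
  (220205, 7, 53534, 24),
  (220241, 7, 191709, 11),
  (220243, 7, 17533, 43),
  (220249, 7, 98681, 39),
  (220251, 7, 135367, 40),
  (220255, 8, 161277, 1),
  (220279, 7, 17603, 43),
  (220281, 7, 17635, 43),
  (220283, 7, 41061, 44),
  (220285, 7, 244195, 9),
  (220297, 7, 79985, 26),
  (220303, 6, 214219, 23),
  (220321, 6, 194934, 24),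
  (220325, 7, 178550, 24),
  (220329, 6, 162166, 24),
  (220331, 6, 7599, 17),
  (220333, 7, 141534, 22),
  (220335, 7, 9379, 38),
  (220383, 7, 234621, 20),
  (220405, 7, 9483, 38),
  (220407, 7, 38327, 17),
  (220417, 7, 137594, 24),
  (220421, 6, 220591, 13),
  (220425, 7, 172430, 22),
  (220427, 7, 43245, 26),
  (220429, 7, 237838, 22),
  (220449, 6, 6522, 24),
  (220451, 7, 14698, 24),
  (220455, 7, 9565, 20),
  (220457, 6, 39226, 24),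
  (220459, 7, 47402, 24),
  (220463, 7, 170142, 22),
  (220497, 7, 133467, 37),
  (220499, 7, 239855, 26),
  (220505, 7, 124255, 8),
  (220507, 7, 9497, 38),
  (220529, 8, 133323, 37),
  (220531, 6, 133261, 37),
  (220533, 6, 67793, 41),
  (220537, 6, 17577, 43),
  (220541, 7, 98325, 39),
  (220545, 7, 165151, 20),
  (220549, 7, 176246, 24),
  (220553, 6, 7585, 3),
  (220557, 7, 87491, 23),
  (220577, 5, 67589, 41),
  (220583, 7, 168310, 24),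
  (220587, 7, 151926, 24),
  (220591, 5, 67717, 41),
  (220631, 7, 41221, 44),
  (220633, 7, 135443, 40),
  (220637, 7, 41093, 44),
  (220639, 7, 20575, 42),
  (220659, 7, 17535, 43),
  (220663, 7, 98745, 39),
  (220665, 7, 98809, 39),
  (220669, 8, 199805, 20),
  (221195, 7, 242014, 24),
  (221197, 7, 45238, 19),
  (221201, 6, 147857, 16),
  (221202, 5, 205206, 24),
  (221204, 6, 213414, 24),
  (221211, 7, 184739, 25),
  (221217, 6, 196785, 13),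
  (221223, 7, 256466, 21),
  (221224, 5, 90360, 19),
  (221229, 7, 200089, 22),
  (221230, 6, 49230, 43),
  (221239, 7, 237606, 21),
  (221245, 6, 37054, 19),
  (221251, 7, 168358, 20),
  (221253, 7, 192862, 21),
  (221269, 7, 45470, 19),
  (221273, 7, 45500, 19),
  (221274, 6, 49230, 44),
  (221276, 7, 45498, 19),
  (221283, 7, 129242, 21),
  (221286, 7, 227738, 21),
  (221301, 6, 37278, 19),
  (221313, 6, 196785, 15),
  (221319, 7, 161926, 24),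
  (221320, 6, 156024, 20),
  (221325, 7, 186502, 24),
  (221326, 7, 190598, 24),
  (221339, 6, 243718, 24),
  (221341, 6, 251910, 24),
  (221345, 6, 147857, 3),
  (221346, 6, 141702, 24),
  (221348, 6, 149778, 21),
  (221355, 6, 37182, 20),
  (221357, 6, 37110, 19),
  (221358, 7, 190854, 24),
  (221361, 6, 156033, 3),
  (221367, 7, 227590, 24),
  (221368, 6, 90184, 19),
  (221371, 7, 53534, 20),
  (221374, 7, 256262, 24),
  (221379, 7, 28017, 26),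
  (221382, 6, 49230, 41),
  (221401, 7, 45564, 19),
  (221411, 6, 37294, 20),
  (221413, 6, 37334, 19),
  (221414, 7, 219546, 21),
  (221429, 7, 176182, 21),
  (221430, 6, 135494, 44),
  (221441, 6, 147857, 11),
  (221442, 6, 90294, 21),
  (221444, 5, 155958, 21),
  (221451, 7, 168310, 20),
  (221457, 6, 196785, 2),
  (221464, 6, 114904, 19),
  (221467, 6, 244186, 24),
  (221469, 6, 252394, 24),
  (221489, 6, 90401, 8),
  (221490, 5, 90118, 21),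
  (221492, 6, 155654, 21),
  (221501, 7, 102462, 19),
  (221509, 7, 110773, 23),
  (221513, 7, 168434, 20),
  (221514, 7, 168436, 20),
  (221516, 6, 49230, 40),
  (221523, 6, 129030, 21),
  (221525, 6, 194566, 21),
  (221530, 7, 184788, 20),
  (221532, 7, 110906, 19),
  (221539, 6, 129274, 21),
  (221541, 6, 194938, 21),
  (221545, 7, 102708, 19),
  (221555, 7, 184782, 20),
  (221561, 7, 102716, 19),
  (221562, 6, 135494, 43),
  (221564, 7, 102714, 19),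
  (221575, 7, 246262, 21),
  (221579, 6, 37238, 20),
  (221585, 6, 90401, 1),
  (221586, 6, 204806, 24),
  (221588, 5, 212998, 24),
  (221597, 7, 110718, 19),
  (221601, 6, 156033, 7),
  (221607, 7, 248306, 21),
  (221608, 5, 155720, 20),
  (221611, 7, 176518, 24),
  (221614, 6, 135494, 40),
  (221627, 7, 163935, 22),
  (221629, 7, 66671, 23),
  (221635, 6, 37350, 20),
  (221651, 7, 129046, 21),
  (221657, 7, 53714, 20),
  (221658, 7, 53716, 20),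
  (221660, 6, 135494, 41),
  (221669, 7, 186746, 21),
  (221670, 7, 219578, 21),
  (221683, 7, 18639, 25),
  (221685, 7, 12623, 26),
  (222215, 6, 24925, 26),
  (222217, 7, 233822, 24),
  (222245, 7, 86334, 24),
  (222247, 7, 256338, 21),
  (222249, 7, 102750, 24),
  (222261, 6, 127035, 25),
  (222263, 6, 241691, 22),
  (222265, 7, 102878, 24),
  (222267, 7, 111054, 24),
  (222275, 6, 16623, 25),
  (222287, 8, 212339, 14),
  (222289, 6, 11657, 24),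
  (222291, 7, 47270, 21),
  (222321, 7, 186762, 20),
  (222323, 7, 45222, 21),
  (222333, 7, 38389, 6),
  (222335, 7, 38391, 6),
  (222341, 7, 180694, 21),
  (222347, 6, 39222, 20),
  (222359, 6, 157785, 26),
  (222377, 6, 39226, 20),
  (222389, 7, 174137, 26),
  (222391, 7, 219414, 24),
  (222401, 7, 240013, 19),
  (222403, 6, 39334, 20),
  (222413, 8, 96583, 12),
  (222415, 7, 39351, 20),
  (222417, 6, 156763, 22),
  (222431, 8, 246047, 16),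
  (222435, 6, 39342, 20),
  (222445, 7, 39355, 20),
  (222447, 7, 39359, 20),
  (222451, 7, 45238, 21),
  (222469, 7, 102821, 23),
  (222473, 6, 68721, 21),
  (222485, 7, 219578, 24),
  (222487, 7, 190598, 21),
  (222501, 6, 215405, 23),
  (222507, 6, 214377, 25),
  (222521, 7, 186714, 20),
  (222523, 6, 186718, 20),
  (222529, 7, 170466, 20),
  (222531, 7, 174439, 26),
  (222541, 7, 244195, 7),
  (222573, 8, 177397, 6),
  (222597, 6, 127171, 25),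
  (222599, 6, 242115, 22),
  (222603, 6, 39286, 20),
  (222615, 7, 68825, 19),
  (222617, 7, 88451, 23),
  (222619, 7, 55638, 20),
  (222631, 7, 151958, 24),
  (222633, 6, 39290, 20),
  (222635, 7, 96457, 19),
  (222645, 6, 29037, 26),
  (222649, 6, 197935, 23),
  (222657, 6, 39394, 20),
  (222675, 6, 55750, 20),
  (222687, 7, 250999, 6),
  (222689, 6, 39402, 20),
  (222701, 7, 39419, 20),
  (222703, 7, 97747, 14),
  (222707, 7, 61590, 21),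
  (222717, 8, 116031, 16),
  (223239, 6, 196955, 22),
  (223242, 6, 213182, 4),
  (223245, 6, 65775, 23),
  (223246, 6, 90542, 17),
  (223251, 7, 231913, 23),
  (223257, 7, 96486, 19),
  (223258, 7, 238070, 24),
  (223261, 7, 144543, 22),
  (223267, 7, 78142, 24),
  (223273, 7, 160883, 20),
  (223274, 6, 196798, 4),
  (223277, 6, 129098, 19),
  (223278, 5, 74158, 17),
  (223283, 6, 249901, 23),
  (223287, 6, 192573, 26),
  (223289, 6, 96502, 19),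
  (223290, 6, 204974, 4),
  (223297, 7, 207310, 19),
  (223298, 6, 205030, 16),
  (223302, 6, 205174, 14),
  (223311, 8, 191901, 16),
  (223313, 6, 19849, 24),
  (223314, 6, 147926, 7),
  (223323, 7, 193725, 5),
  (223330, 6, 38289, 19),
  (223333, 6, 243786, 19),
  (223339, 8, 246815, 15),
  (223343, 7, 38327, 19),
  (223349, 6, 239690, 19),
  (223350, 6, 90598, 5),
  (223363, 7, 161958, 24),
  (223367, 7, 145574, 24),
  (223370, 5, 147646, 4),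
  (223379, 6, 91355, 25),
  (223386, 6, 155822, 4),
  (223405, 6, 96330, 19),
  (223415, 7, 106806, 21),
  (223417, 6, 129206, 19),
  (223422, 6, 38139, 19),
  (223425, 7, 53598, 21),
  (223430, 7, 217246, 21),
  (223442, 6, 139510, 16),
  (223445, 6, 92377, 23),
  (223451, 8, 178603, 3),
  (223457, 6, 240030, 19),
  (223467, 7, 38389, 19),
  (223471, 7, 38391, 19),
  (223473, 6, 244118, 19),
  (223474, 6, 155862, 16),
  (223477, 7, 110701, 23),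
  (223478, 6, 25062, 5),
  (223483, 7, 38397, 19),
  (223487, 7, 249149, 16),
  (223497, 6, 134257, 21),
  (223501, 7, 252234, 24),
  (223502, 7, 256338, 24),
  (223507, 7, 256262, 21),
  (223511, 7, 227738, 24),
  (223514, 7, 117069, 26),
  (223518, 7, 256466, 24),
  (223527, 6, 206153, 22),
  (223529, 6, 207181, 26),
  (223534, 6, 204974, 17),
  (223543, 7, 19817, 20),
  (223549, 6, 125130, 19),
  (223550, 6, 147870, 8),
  (223554, 6, 25046, 7),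
  (223558, 6, 74102, 14),
  (223570, 7, 227590, 21),
  (223574, 7, 111899, 19),
  (223590, 6, 213238, 5),
  (223599, 8, 94551, 14),
  (223601, 7, 150669, 24),
  (223605, 7, 239818, 19),
  (223606, 7, 94470, 21),
  (223615, 7, 129423, 3),
  (223619, 6, 250309, 23),
  (223623, 6, 192837, 26),
  (223625, 7, 59566, 19),
  (223629, 7, 168102, 24),
  (223630, 6, 155822, 17),
  (223642, 6, 213150, 13),
  (223646, 6, 196926, 8),
  (223651, 7, 144833, 22),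
  (223655, 7, 143782, 24),
  (223658, 7, 194869, 20),
  (223661, 7, 168358, 24),
  (223667, 6, 229595, 22),
  (223674, 6, 213182, 13),
  (223677, 7, 233766, 24),
  (223678, 6, 139454, 17),
  (223681, 7, 53630, 21),
  (223682, 6, 139750, 16),
  (223685, 7, 184446, 21),
  (223691, 7, 39355, 3),
  (223695, 7, 39359, 3),
  (223697, 7, 194838, 21),
  (223698, 7, 194897, 23),
  (223701, 6, 198874, 19),
  (223718, 5, 147702, 5),
  (223729, 6, 26839, 25),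
  (223730, 6, 156118, 16),
  (223734, 6, 155878, 5),
  (223739, 8, 88535, 14),
  (224259, 6, 16635, 25),
  (224261, 6, 66029, 23),
  (224263, 7, 104539, 19),
  (224277, 7, 144603, 22),
  (224289, 7, 69950, 24),
  (224291, 7, 78126, 24),
  (224293, 7, 52557, 20),
  (224295, 7, 256082, 21),
  (224331, 7, 258057, 38),
  (224333, 7, 258057, 37),
  (224345, 8, 184767, 25),
  (224347, 8, 258289, 37),
  (224351, 7, 194747, 5),
  (224363, 7, 213375, 25),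
  (224365, 8, 121965, 40),
  (224385, 7, 49622, 21),
  (224387, 7, 72795, 19),
  (224389, 7, 145590, 24),
  (224391, 7, 137398, 24),
  (224401, 6, 206043, 22),
  (224403, 7, 174518, 21),
  (224407, 6, 215241, 23),
  (224417, 7, 235821, 23),
  (224423, 7, 234833, 22),
  (224433, 7, 227638, 24),
  (224435, 7, 172470, 21),
  (224437, 7, 211254, 24),
  (224439, 7, 102765, 23),
  (224459, 8, 121965, 44),
  (224461, 7, 213375, 1),
  (224473, 8, 28107, 24),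
  (224475, 8, 258497, 37),
  (224479, 8, 28155, 24),
  (224489, 8, 257339, 16),
  (224491, 7, 129483, 10),
  (224493, 7, 251005, 11),
  (224495, 8, 243755, 5),
  (224507, 8, 258129, 37),
  (224509, 7, 205167, 1),
  (224515, 7, 172491, 22),
  (224529, 7, 203194, 24),
  (224531, 7, 190854, 21),
  (224533, 7, 219546, 24),
  (224535, 7, 227722, 24),
  (224545, 6, 158061, 26),
  (224549, 7, 190706, 21),
  (224551, 6, 91241, 25),
  (224563, 7, 10605, 26),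
  (224585, 8, 111095, 23),
  (224589, 8, 258289, 38),
  (224591, 7, 243173, 7),
  (224601, 8, 196045, 11),
  (224607, 8, 28157, 24),
  (224617, 8, 199805, 21),
  (224621, 8, 258497, 38),
  (224623, 8, 200189, 21),
  (224633, 7, 128359, 8),
  (224637, 8, 249919, 4),
  (224639, 8, 184479, 22),
  (224661, 7, 132315, 22),
  (224673, 7, 51698, 21),
  (224675, 7, 151990, 24),
  (224677, 7, 143798, 24),
  (224679, 7, 53467, 25),
  (224689, 7, 254358, 21),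
  (224691, 6, 28891, 25),
  (224693, 6, 229741, 23),
  (224729, 7, 252063, 4),
  (224731, 8, 127431, 8),
  (224735, 8, 110951, 26),
  (224747, 7, 205167, 26),
  (224749, 8, 258129, 38),
  (224763, 7, 258489, 38),
  (224765, 7, 258489, 37),
  (225285, 7, 217454, 24),
  (225291, 6, 131423, 22),
  (225299, 7, 124117, 21),
  (225307, 6, 242078, 24),
  (225309, 6, 250286, 24),
  (225315, 6, 53397, 19),
  (225323, 7, 176446, 20),
  (225326, 7, 53427, 19),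
  (225331, 6, 217135, 23),
  (225346, 6, 156122, 7),
  (225348, 6, 213340, 17),
  (225353, 6, 147687, 25),
  (225354, 6, 205178, 14),
  (225356, 6, 213244, 13),
  (225359, 8, 129451, 17),
  (225361, 7, 192898, 20),
  (225362, 6, 147930, 7),
  (225364, 6, 36257, 24),
  (225367, 8, 190667, 11),
  (225370, 5, 196986, 14),
  (225375, 7, 36345, 24),
  (225380, 6, 74220, 8),
  (225386, 7, 176572, 20),
  (225388, 6, 196860, 13),
  (225401, 6, 245799, 25),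
  (225402, 6, 213338, 14),
  (225404, 6, 156124, 4),
  (225407, 8, 206061, 13),
  (225411, 7, 178374, 24),
  (225413, 6, 45347, 20),
  (225414, 7, 190662, 24),
  (225419, 7, 116171, 25),
  (225422, 6, 156046, 15),
  (225427, 6, 243782, 24),
  (225430, 6, 213182, 12),
  (225437, 6, 219206, 24),
  (225438, 6, 156062, 15),
  (225446, 6, 147870, 3),
  (225454, 6, 74046, 6),
  (225461, 7, 61707, 20),
  (225462, 6, 196798, 12),
  (225467, 6, 211270, 24)]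

theorem chk_rows1_24 : rows1_24.all (rowBP1 tr1 bm1 gensLitP gensListP 1) = true := by decide +kernel

/-- Rows 20000 to 20799. -/
def rows1_25 : List (ℕ × ℕ × ℕ × ℕ) := [(225469, 7, 219462, 24),
  (225470, 7, 223558, 24),
  (225473, 7, 153911, 22),
  (225474, 7, 45476, 20),
  (225476, 6, 25068, 8),
  (225479, 7, 126363, 4),
  (225489, 6, 158747, 22),
  (225490, 6, 213338, 7),
  (225497, 6, 93339, 23),
  (225500, 6, 205180, 4),
  (225505, 7, 53716, 19),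
  (225506, 7, 145455, 23),
  (225508, 7, 53714, 19),
  (225513, 7, 45498, 20),
  (225514, 7, 45500, 20),
  (225516, 7, 232675, 24),
  (225529, 7, 45111, 21),
  (225530, 6, 25066, 5),
  (225532, 7, 53754, 19),
  (225535, 7, 212331, 1),
  (225541, 7, 126998, 19),
  (225550, 6, 90510, 15),
  (225557, 6, 219626, 24),
  (225558, 5, 74158, 3),
  (225563, 6, 244122, 24),
  (225566, 5, 147646, 6),
  (225571, 7, 80218, 24),
  (225573, 7, 118806, 19),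
  (225574, 6, 205118, 12),
  (225579, 7, 176510, 20),
  (225581, 7, 118838, 19),
  (225582, 6, 90542, 15),
  (225590, 6, 196926, 12),
  (225595, 7, 192862, 20),
  (225601, 7, 176610, 20),
  (225602, 5, 25050, 7),
  (225609, 7, 176626, 20),
  (225612, 7, 127282, 19),
  (225623, 7, 36285, 24),
  (225631, 7, 36349, 24),
  (225633, 6, 159021, 22),
  (225636, 6, 82300, 17),
  (225639, 7, 7667, 1),
  (225641, 6, 93229, 23),
  (225642, 6, 90458, 14),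
  (225647, 7, 7675, 1),
  (225649, 7, 116005, 25),
  (225650, 7, 97465, 21),
  (225657, 7, 192986, 20),
  (225660, 5, 25052, 4),
  (225677, 6, 209287, 22),
  (225683, 6, 241734, 24),
  (225685, 6, 249926, 24),
  (225693, 7, 199711, 22),
  (225701, 7, 118870, 19),
  (225702, 7, 172491, 25),
  (225709, 6, 152006, 24),
  (225717, 6, 78285, 26),
  (225723, 7, 61790, 20),
  (225729, 6, 238023, 26),
  (225730, 6, 90458, 7),
  (225732, 6, 82396, 17),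
  (225735, 8, 89459, 1),
  (225748, 6, 90572, 17),
  (225751, 7, 36287, 24),
  (225753, 7, 127356, 19),
  (225754, 6, 36311, 24),
  (225756, 6, 74108, 4),
  (225759, 7, 194747, 17),
  (225762, 6, 156106, 16),
  (225764, 7, 97445, 22),
  (225770, 6, 147706, 5),
  (225777, 6, 149959, 25),
  (225778, 6, 156122, 16),
  (225780, 6, 90604, 17),
  (225783, 8, 144877, 13),
  (225786, 6, 82394, 14),
  (225788, 6, 90460, 4),
  (226305, 7, 178466, 20),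
  (226307, 6, 25045, 26),
  (226321, 7, 194818, 20),
  (226331, 7, 194838, 20),
  (226337, 7, 69982, 24),
  (226339, 7, 78158, 24),
  (226355, 7, 194830, 20),
  (226361, 6, 249899, 25),
  (226375, 7, 64529, 40),
  (226383, 7, 213247, 13),
  (226389, 8, 228443, 22),
  (226397, 8, 205949, 26),
  (226405, 8, 251927, 15),
  (226413, 8, 236747, 44),
  (226421, 7, 38397, 6),
  (226423, 8, 220507, 14),
  (226429, 7, 64555, 40),
  (226431, 7, 205039, 13),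
  (226441, 7, 145622, 24),
  (226443, 6, 71801, 19),
  (226449, 7, 243798, 24),
  (226457, 7, 63762, 20),
  (226459, 6, 216203, 23),
  (226465, 7, 47402, 20),
  (226473, 7, 204077, 23),
  (226475, 7, 47422, 20),
  (226481, 7, 244054, 24),
  (226489, 7, 129173, 19),
  (226491, 7, 203094, 24),
  (226503, 8, 236877, 44),
  (226511, 7, 220537, 1),
  (226517, 7, 7671, 2),
  (226525, 7, 126363, 23),
  (226527, 7, 155887, 13),
  (226541, 7, 252063, 15),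
  (226543, 8, 126233, 26),
  (226549, 8, 194779, 7),
  (226561, 7, 21993, 25),
  (226569, 7, 126087, 21),
  (226571, 7, 178550, 20),
  (226577, 7, 203226, 24),
  (226585, 7, 30917, 19),
  (226587, 7, 100601, 19),
  (226595, 7, 80202, 24),
  (226601, 6, 216365, 23),
  (226611, 7, 194894, 20),
  (226619, 7, 83245, 23),
  (226639, 8, 241129, 7),
  (226645, 8, 129519, 26),
  (226653, 7, 193725, 25),
  (226661, 7, 62903, 16),
  (226663, 8, 255185, 42),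
  (226669, 7, 236685, 44),
  (226671, 7, 7673, 1),
  (226685, 8, 64549, 40),
  (226687, 7, 205295, 13),
  (226689, 6, 250307, 25),
  (226697, 7, 87431, 23),
  (226699, 7, 135382, 24),
  (226705, 6, 63810, 20),
  (226713, 7, 63826, 20),
  (226721, 7, 47466, 20),
  (226731, 7, 135638, 24),
  (226739, 6, 152011, 25),
  (226747, 7, 201046, 24),
  (226757, 7, 235959, 15),
  (226765, 7, 129479, 25),
  (226767, 7, 38327, 3),
  (226773, 7, 244135, 15),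
  (226775, 8, 64531, 40),
  (226797, 8, 236737, 44),
  (226799, 8, 73081, 1),
  (226805, 7, 205167, 23),
  (226807, 7, 36349, 9),
  (227329, 7, 201070, 24),
  (227330, 6, 204974, 16),
  (227337, 6, 147699, 25),
  (227342, 6, 205118, 14),
  (227346, 6, 147870, 7),
  (227349, 7, 116858, 19),
  (227354, 6, 74046, 1),
  (227357, 6, 43303, 21),
  (227358, 6, 196926, 14),
  (227361, 7, 69998, 24),
  (227362, 6, 74102, 24),
  (227366, 5, 147646, 11),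
  (227370, 7, 106806, 24),
  (227373, 7, 119054, 24),
  (227377, 7, 80118, 19),
  (227381, 7, 86478, 24),
  (227382, 6, 155822, 11),
  (227386, 6, 139694, 10),
  (227389, 6, 241693, 26),
  (227390, 6, 90542, 5),
  (227403, 7, 64529, 41),
  (227407, 7, 205183, 14),
  (227419, 8, 236877, 43),
  (227423, 7, 244135, 3),
  (227427, 8, 260143, 23),
  (227431, 8, 94567, 25),
  (227443, 7, 39419, 6),
  (227447, 7, 193725, 26),
  (227455, 7, 213343, 14),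
  (227457, 7, 137623, 22),
  (227461, 7, 193625, 20),
  (227462, 7, 23017, 26),
  (227466, 5, 74158, 1),
  (227469, 7, 137446, 24),
  (227470, 7, 245850, 39),
  (227473, 6, 208027, 22),
  (227474, 6, 139454, 16),
  (227477, 7, 145625, 26),
  (227485, 7, 67706, 19),
  (227489, 7, 108734, 19),
  (227493, 7, 104559, 23),
  (227498, 6, 196926, 10),
  (227501, 7, 42295, 21),
  (227505, 6, 252262, 24),
  (227506, 6, 155806, 16),
  (227509, 7, 235878, 24),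
  (227510, 7, 186494, 41),
  (227514, 6, 205102, 10),
  (227535, 8, 128407, 4),
  (227539, 7, 110073, 10),
  (227543, 7, 191707, 22),
  (227551, 7, 7673, 2),
  (227555, 8, 191967, 25),
  (227559, 7, 220533, 22),
  (227571, 7, 126425, 10),
  (227579, 8, 64531, 41),
  (227585, 7, 141711, 22),
  (227590, 6, 147870, 11),
  (227593, 7, 26830, 19),
  (227598, 6, 74046, 14),
  (227601, 7, 203242, 24),
  (227602, 6, 38289, 25),
  (227605, 7, 113093, 26),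
  (227606, 6, 156046, 11),
  (227613, 7, 252298, 24),
  (227614, 7, 138595, 23),
  (227621, 6, 208141, 22),
  (227625, 7, 104746, 24),
  (227630, 6, 213182, 5),
  (227633, 7, 14582, 19),
  (227637, 7, 137371, 22),
  (227638, 6, 74046, 2),
  (227645, 7, 108778, 19),
  (227646, 6, 242689, 25),
  (227651, 8, 240745, 10),
  (227655, 8, 236747, 43),
  (227671, 7, 240765, 10),
  (227679, 8, 193701, 25),
  (227683, 7, 7671, 1),
  (227687, 7, 64555, 41),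
  (227691, 8, 243887, 17),
  (227695, 7, 90463, 14),
  (227699, 8, 248895, 4),
  (227714, 6, 139694, 16),
  (227717, 6, 242117, 26),
  (227718, 6, 90542, 2),
  (227721, 7, 59534, 19),
  (227722, 6, 204974, 1),
  (227729, 7, 47270, 19),
  (227730, 6, 205275, 25),
  (227738, 6, 90414, 10),
  (227741, 7, 67834, 19),
  (227746, 6, 156046, 16),
  (227750, 5, 74158, 2),
  (227753, 7, 152038, 24),
  (227754, 6, 156134, 24),
  (227757, 7, 148569, 20),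
  (227758, 5, 147646, 5),
  (227762, 6, 156062, 16),
  (227769, 6, 198815, 22),
  (227773, 7, 76010, 19),
  (227774, 5, 475, 25),
  (227779, 7, 155129, 13),
  (227783, 7, 236685, 43),
  (227787, 8, 255185, 37),
  (227791, 7, 39351, 3),
  (227799, 8, 236737, 43),
  (227807, 8, 47527, 3),
  (227815, 8, 64549, 41),
  (227823, 7, 90591, 14),
  (227827, 7, 90575, 26),
  (227835, 7, 38391, 9),
  (228419, 7, 105857, 41),
  (228425, 7, 254025, 39),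
  (228427, 7, 240877, 7),
  (228431, 7, 155887, 25),
  (228433, 7, 110073, 23),
  (228437, 7, 163035, 22),
  (228441, 7, 244135, 21),
  (228443, 7, 48175, 44),
  (228445, 7, 105803, 41),
  (228447, 8, 47527, 21),
  (228453, 7, 171469, 40),
  (228459, 7, 213119, 25),
  (228473, 7, 225401, 42),
  (228477, 7, 56403, 43),
  (228479, 8, 193767, 11),
  (228547, 7, 56439, 43),
  (228549, 8, 252215, 22),
  (228553, 8, 81265, 26),
  (228555, 8, 48237, 44),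
  (228559, 8, 260383, 16),
  (228561, 7, 163051, 13),
  (228563, 8, 222323, 38),
  (228565, 7, 7667, 2),
  (228567, 7, 225633, 42),
  (228569, 7, 254169, 39),
  (228571, 8, 48227, 44),
  (228573, 7, 7675, 2),
  (228575, 7, 252191, 16),
  (228577, 8, 183705, 3),
  (228579, 7, 225563, 42),
  (228587, 7, 254227, 39),
  (228591, 7, 250999, 11),
  (228593, 8, 253235, 16),
  (228595, 8, 163295, 25),
  (228599, 8, 155103, 25),
  (228603, 7, 225413, 42),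
  (228605, 8, 243053, 23),
  (228675, 7, 126365, 24),
  (228679, 8, 163017, 12),
  (228681, 8, 105709, 41),
  (228695, 8, 225505, 42),
  (228697, 7, 155871, 12),
  (228709, 7, 254307, 39),
  (228711, 7, 225489, 42),
  (228713, 7, 254313, 39),
  (228717, 7, 225427, 42),
  (228727, 8, 163065, 12),
  (228729, 7, 155903, 12),
  (228731, 7, 252063, 22),
  (228801, 8, 194983, 22),
  (228805, 7, 36285, 3),
  (228807, 7, 254009, 39),
  (228817, 8, 257357, 11),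
  (228819, 7, 105865, 41),
  (228821, 7, 48181, 44),
  (228823, 7, 193719, 17),
  (228829, 7, 193725, 17),
  (228831, 7, 183455, 22),
  (228835, 7, 205295, 26),
  (228845, 7, 222289, 38),
  (228849, 7, 90607, 26),
  (228851, 7, 249021, 4),
  (228855, 7, 225777, 42),
  (228859, 7, 38389, 9),
  (229385, 6, 159804, 22),
  (229388, 7, 94268, 22),
  (229391, 7, 229818, 23),
  (229394, 6, 38979, 25),
  (229396, 7, 61508, 23),
  (229400, 6, 472, 3),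
  (229405, 7, 100542, 23),
  (229406, 7, 166206, 23),
  (229409, 7, 20596, 21),
  (229415, 6, 159807, 24),
  (229416, 5, 213480, 12),
  (229421, 7, 229659, 20),
  (229429, 7, 172174, 19),
  (229445, 6, 106664, 23),
  (229449, 6, 229778, 20),
  (229450, 7, 229780, 20),
  (229455, 6, 90303, 26),
  (229457, 7, 164236, 19),
  (229458, 6, 205266, 3),
  (229460, 6, 205268, 3),
  (229463, 6, 155967, 26),
  (229469, 6, 205215, 26),
  (229470, 6, 213423, 26),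
  (229474, 6, 213474, 3),
  (229476, 6, 213476, 3),
  (229479, 6, 213479, 3),
  (229491, 7, 20734, 21),
  (229493, 7, 172430, 19),
  (229498, 6, 82394, 17),
  (229500, 6, 90460, 7),
  (229507, 6, 114904, 21),
  (229510, 6, 123000, 22),
  (229514, 7, 98580, 20),
  (229516, 6, 196684, 14),
  (229521, 7, 164044, 19),
  (229522, 6, 33807, 25),
  (229531, 6, 215454, 23),
  (229533, 7, 164078, 19),
  (229534, 6, 35290, 17),
  (229537, 7, 172228, 19),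
  (229538, 7, 98572, 20),
  (229540, 6, 213476, 5),
  (229544, 5, 213480, 5),
  (229549, 6, 251981, 5),
  (229550, 7, 62817, 23),
  (229552, 6, 32948, 40),
  (229555, 7, 61707, 22),
  (229557, 7, 29030, 21),
  (229558, 7, 61579, 22),
  (229573, 6, 172088, 21),
  (229574, 6, 188680, 23),
  (229578, 6, 458, 17),
  (229580, 7, 73788, 22),
  (229585, 7, 28852, 23),
  (229586, 5, 466, 17),
  (229588, 7, 61556, 23),
  (229592, 5, 204872, 8),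
  (229595, 5, 475, 17),
  (229598, 7, 186494, 38),
  (229601, 7, 28780, 21),
  (229604, 6, 34891, 26),
  (229611, 7, 63790, 22),
  (229613, 6, 29037, 21),
  (229614, 6, 39394, 5),
  (229616, 6, 115112, 20),
  (229619, 7, 28910, 21),
  (229621, 7, 232589, 42),
  (229622, 7, 172491, 19),
  (229642, 6, 196682, 13),
  (229647, 6, 163121, 25),
  (229649, 7, 246114, 20),
  (229650, 6, 205266, 4),
  (229655, 7, 61900, 23),
  (229656, 5, 204872, 13),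
  (229659, 6, 243089, 13),
  (229666, 7, 229708, 20),
  (229671, 6, 97457, 25),
  (229675, 6, 220577, 25),
  (229677, 7, 237606, 19),
  (229678, 5, 252334, 16),
  (229683, 7, 246126, 20),
  (229689, 7, 246138, 20),
  (229690, 7, 246140, 20),
  (229695, 7, 31825, 39),
  (229708, 6, 460, 16),
  (229711, 6, 97295, 26),
  (229716, 7, 61532, 23),
  (229719, 6, 162831, 26),
  (229723, 7, 246262, 20),
  (229725, 6, 211983, 26),
  (229726, 6, 220175, 26),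
  (229729, 7, 28978, 22),
  (229732, 5, 484, 16),
  (229735, 7, 4604, 21),
  (229736, 6, 213064, 7),
  (229741, 5, 493, 16),
  (229749, 7, 87431, 24),
  (229753, 7, 240647, 26),
  (229756, 7, 237866, 19),
  (229759, 7, 232783, 42),
  (229763, 6, 16399, 25),
  (229769, 6, 86162, 23),
  (229772, 7, 81980, 22),
  (229775, 6, 155663, 25),
  (229778, 5, 466, 15),
  (229780, 6, 468, 15),
  (229783, 6, 204871, 6),
  (229793, 7, 12388, 21),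
  (229794, 6, 482, 15),
  (229796, 5, 484, 15),
  (229799, 6, 213063, 6),
  (229803, 6, 213007, 25),
  (229806, 6, 204815, 25),
  (229811, 7, 115054, 20),
  (229813, 7, 12646, 21),
  (229818, 6, 156122, 4),
  (229820, 6, 213340, 14),
  (229833, 6, 229732, 19),
  (229834, 7, 160002, 23),
  (229839, 7, 258434, 23),
  (229841, 7, 12394, 21),
  (229847, 6, 94343, 24),
  (229848, 6, 472, 6),
  (229851, 6, 229741, 19),
  (229858, 7, 61498, 22),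
  (229860, 6, 37903, 26),
  (229864, 5, 213480, 15),
  (229867, 7, 237925, 19),
  (229870, 7, 237923, 19),
  (229875, 7, 115182, 20),
  (230403, 6, 122968, 21),
  (230413, 6, 98746, 23),
  (230421, 6, 140607, 26),
  (230425, 7, 68030, 23),
  (230427, 6, 38289, 12),
  (230443, 6, 38305, 12),
  (230449, 6, 173431, 26),
  (230451, 7, 248110, 20),
  (230461, 7, 39351, 12),
  (230465, 6, 106664, 21),
  (230489, 7, 63845, 22),
  (230515, 6, 248238, 20),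
  (230543, 6, 93339, 26),
  (230549, 7, 21693, 24),
  (230565, 6, 249249, 14),
  (230567, 7, 29130, 22),
  (230569, 6, 250955, 5),
  (230577, 6, 104861, 19),
  (230579, 7, 94438, 21),
  (230589, 8, 79145, 44),
  (230595, 6, 172088, 22),
  (230605, 6, 204924, 22),
  (230607, 7, 254090, 23),
  (230613, 7, 96407, 24),
  (230617, 7, 92558, 23),
  (230629, 7, 61930, 22),
  (230633, 6, 160945, 23),
  (230635, 6, 94445, 21),
  (230653, 7, 59429, 39),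
  (230655, 7, 205167, 16),
  (230659, 6, 123000, 21),
  (230671, 7, 70129, 21),
  (230677, 7, 192716, 23),
  (230679, 7, 70130, 21),
  (230681, 7, 72118, 23),
  (230693, 7, 97465, 25),
  (230705, 7, 137371, 24),
  (230721, 6, 133317, 19),
  (230745, 7, 248306, 20),
  (230759, 5, 487, 16),
  (230763, 5, 491, 16),
  (230769, 6, 248298, 20),
  (230781, 7, 59413, 39),
  (230783, 8, 230897, 41),
  (230797, 6, 213116, 22),
  (230799, 7, 216513, 19),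
  (230805, 7, 192748, 23),
  (230807, 7, 78306, 21),
  (230809, 7, 88470, 23),
  (230823, 7, 78308, 21),
  (230825, 7, 100698, 20),
  (230827, 7, 100702, 20),
  (230835, 6, 78054, 21),
  (230847, 8, 126233, 1),
  (230851, 6, 57496, 21),
  (230873, 6, 205275, 15),
  (230875, 7, 78059, 21),
  (230885, 7, 61946, 22),
  (230889, 6, 250881, 6),
  (230891, 7, 31102, 22),
  (230897, 7, 77934, 21),
  (230911, 7, 219487, 5),
  (231425, 6, 98552, 23),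
  (231426, 6, 248, 22),
  (231447, 7, 152050, 21),
  (231449, 7, 88558, 19),
  (231450, 6, 243786, 12),
  (231453, 6, 39313, 12),
  (231454, 7, 133502, 23),
  (231465, 7, 144603, 20),
  (231466, 6, 129030, 22),
  (231469, 6, 252397, 3),
  (231477, 7, 151926, 21),
  (231478, 6, 139510, 11),
  (231483, 7, 38327, 12),
  (231490, 6, 202762, 42),
  (231499, 7, 153911, 25),
  (231503, 6, 205290, 23),
  (231507, 7, 151802, 21),
  (231513, 7, 108782, 23),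
  (231517, 7, 121154, 19),
  (231523, 7, 151804, 21),
  (231527, 7, 152060, 21),
  (231530, 6, 219626, 3),
  (231533, 7, 96678, 22),
  (231537, 6, 116983, 25),
  (231538, 6, 156118, 10),
  (231542, 6, 155878, 8),
  (231547, 7, 38391, 12),
  (231553, 6, 114904, 23),
  (231563, 7, 254204, 22),
  (231567, 6, 213466, 23),
  (231575, 7, 61860, 23),
  (231577, 6, 121262, 19),
  (231581, 6, 181271, 25),
  (231582, 7, 149854, 23),
  (231591, 7, 173255, 19),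
  (231594, 6, 252326, 14),
  (231597, 7, 96654, 22),
  (231598, 7, 129166, 22),
  (231602, 5, 74214, 13),
  (231606, 6, 204918, 11),
  (231611, 7, 107811, 41),
  (231615, 7, 108565, 37),
  (231627, 6, 158747, 25),
  (231635, 7, 159978, 21),
  (231639, 5, 471, 17),
  (231645, 5, 477, 17),
  (231655, 6, 14631, 24),
  (231662, 6, 250342, 14),
  (231665, 7, 218443, 20),
  (231669, 6, 169185, 20),
  (231670, 7, 160174, 21),
  (231679, 8, 107955, 41),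
  (231685, 6, 123000, 23),
  (231686, 6, 73832, 22),
  (231699, 6, 240711, 4),
  (231705, 6, 244113, 13),
  (231710, 7, 129173, 22),
  (231722, 6, 250286, 16),
  (231725, 7, 186443, 24),
  (231733, 6, 244178, 19),
  (231734, 7, 238603, 19),
  (231739, 8, 30083, 44),
  (231743, 7, 108677, 37),
  (231745, 6, 11279, 26),
  (231750, 6, 90184, 22),
  (231755, 7, 233724, 22),
  (231767, 7, 135674, 21),
  (231779, 7, 127282, 22),
  (231783, 7, 97445, 25),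
  (231789, 7, 96694, 22),
  (231790, 6, 129206, 22),
  (231794, 6, 25046, 10),
  (231797, 7, 126181, 25),
  (231798, 6, 213206, 17),
  (231810, 6, 172088, 23),
  (231813, 6, 180344, 21),
  (231853, 7, 96670, 22),
  (231854, 6, 6630, 15),
  (231857, 6, 39326, 19),
  (231858, 6, 205030, 13),
  (231862, 6, 205174, 11),
  (231873, 6, 98360, 23),
  (231874, 6, 98552, 22),
  (231887, 6, 230759, 19),
  (231897, 6, 205277, 15),
  (231902, 6, 39318, 15),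
  (231911, 6, 127418, 22),
  (231913, 6, 213485, 15),
  (231914, 7, 243997, 20),
  (231917, 7, 96702, 22),
  (231918, 5, 129214, 22),
  (231921, 7, 170142, 19),
  (231922, 6, 213238, 1),
  (231925, 6, 143726, 21),
  (231935, 7, 124255, 1),
  (232457, 7, 98810, 23),
  (232461, 7, 53343, 24),
  (232463, 6, 196858, 23),
  (232469, 7, 217458, 21),
  (232471, 6, 241111, 3),
  (232481, 7, 127298, 22),
  (232485, 7, 217460, 21),
  (232487, 6, 36257, 12),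
  (232507, 7, 163035, 20),
  (232509, 7, 129479, 22),
  (232521, 7, 106986, 23),
  (232527, 6, 205034, 23),
  (232529, 7, 159956, 23),
  (232535, 6, 34277, 20),
  (232547, 6, 84159, 25),
  (232571, 7, 38389, 12),
  (232587, 7, 254140, 22),
  (232589, 6, 82394, 23),
  (232595, 6, 205271, 8),
  (232599, 7, 28823, 39),
  (232609, 7, 225380, 21),
  (232611, 7, 43415, 40),
  (232613, 6, 101781, 19),
  (232615, 7, 94666, 22),
  (232637, 7, 43217, 40),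
  (232651, 7, 254154, 23),
  (232653, 6, 90570, 23),
  (232657, 7, 159988, 23),
  (232659, 7, 71739, 43),
  (232661, 6, 167141, 20),
  (232663, 7, 225770, 21),
  (232673, 7, 229719, 42),
  (232675, 6, 213063, 5),
  (232701, 7, 43105, 40),
  (232713, 6, 93229, 26),
  (232717, 7, 70130, 23),
  (232719, 7, 184508, 22),
  (232721, 6, 181383, 20),
  (232723, 7, 160204, 23),
  (232725, 7, 69093, 20),
  (232737, 7, 2519, 19),
  (232741, 6, 213479, 7),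
  (232761, 7, 229647, 42),
  (232777, 7, 111074, 23),
  (232781, 7, 78306, 23),
  (232783, 6, 159021, 25),
  (232789, 6, 204871, 4),
  (232791, 7, 192924, 23),
  (232803, 7, 94578, 22),
  (232805, 7, 13623, 24),
  (232807, 6, 5431, 24),
  (232831, 7, 28767, 39),
  (232841, 6, 213244, 22),
  (232847, 7, 180412, 22),
  (232851, 6, 160236, 23),
  (232865, 6, 138297, 24),
  (232871, 7, 94682, 22),
  (232891, 8, 212351, 11),
  (232905, 6, 196860, 22),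
  (232909, 7, 183461, 19),
  (232911, 7, 84419, 19),
  (232913, 6, 205271, 15),
  (232917, 7, 209258, 21),
  (232919, 7, 192956, 23),
  (232929, 6, 213479, 15),
  (232933, 7, 209260, 21),
  (232955, 7, 97747, 19),
  (232957, 7, 193725, 23),
  (233473, 6, 180356, 19),
  (233474, 7, 159802, 23),
  (233479, 7, 225402, 23),
  (233482, 6, 124, 22),
  (233484, 6, 460, 6),
  (233491, 7, 254246, 20),
  (233494, 7, 161914, 23),
  (233501, 6, 206111, 26),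
  (233502, 6, 241734, 12),
  (233507, 7, 237838, 20),
  (233515, 7, 237854, 20),
  (233518, 6, 250342, 3),
  (233522, 6, 213338, 2),
  (233524, 6, 82300, 10),
  (233529, 6, 238935, 26),
  (233535, 7, 61889, 39),
  (233537, 6, 180612, 19),
  (233538, 6, 196682, 12),
  (233540, 6, 196684, 12),
  (233543, 7, 61860, 22),
  (233548, 7, 180642, 19),
  (233551, 6, 213468, 22),
  (233555, 6, 205275, 3),
  (233557, 6, 39389, 12),
  (233565, 6, 180654, 19),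
  (233571, 6, 38379, 12),
  (233573, 6, 213485, 3),
  (233581, 7, 188838, 19),
  (233582, 7, 211095, 25),
  (233593, 6, 248039, 25),
  (233594, 6, 156122, 10),
  (233596, 6, 90604, 11),
  (233599, 8, 63907, 22),
  (233601, 6, 5197, 24),
  (233602, 6, 196682, 11),
  (233604, 7, 180418, 19),
  (233609, 6, 37901, 24),
  (233619, 7, 61709, 22),
  (233621, 7, 180430, 19),
  (233622, 6, 243778, 8),
  (233627, 7, 180461, 19),
  (233630, 6, 243786, 8),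
  (233643, 7, 106782, 20),
  (233645, 7, 31114, 22),
  (233649, 7, 174145, 40),
  (233650, 6, 204922, 11),
  (233652, 7, 28815, 22),
  (233663, 7, 88101, 43),
  (233665, 6, 38983, 24),
  (233673, 6, 6215, 24),
  (233674, 7, 28978, 23),
  (233676, 6, 460, 11),
  (233683, 7, 123302, 20),
  (233685, 7, 180686, 19),
  (233701, 7, 186709, 21),
  (233702, 6, 39402, 5),
  (233707, 7, 106910, 20),
  (233709, 7, 31146, 22),
  (233710, 6, 35306, 5),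
  (233719, 7, 174161, 40),
  (233721, 7, 88229, 43),
  (233722, 7, 123324, 20),
  (233724, 6, 25068, 11),
  (233729, 6, 6219, 24),
  (233732, 6, 196684, 10),
  (233737, 6, 38923, 24),
  (233738, 7, 237908, 20),
  (233740, 7, 245794, 19),
  (233743, 6, 205292, 22),
  (233747, 7, 223290, 23),
  (233749, 7, 92282, 23),
  (233757, 7, 191601, 25),
  (233766, 6, 35246, 7),
  (233771, 7, 63762, 22),
  (233773, 7, 31122, 22),
  (233774, 6, 252326, 16),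
  (233777, 7, 88073, 43),
  (233780, 6, 213116, 10),
  (233785, 7, 254330, 20),
  (233786, 7, 28943, 23),
  (233788, 7, 253994, 19),
  (233791, 7, 174341, 40),
  (233793, 6, 37959, 24),
  (233794, 7, 147514, 23),
  (233796, 7, 28852, 22),
  (233799, 6, 213114, 23),
  (233801, 6, 5191, 24),
  (233802, 6, 458, 10),
  (233811, 7, 215098, 23),
  (233813, 7, 212111, 26),
  (233814, 6, 244118, 4),
  (233822, 6, 244126, 4),
  (233827, 7, 89509, 25),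
  (233835, 7, 63794, 22),
  (233837, 7, 31154, 22),
  (233841, 7, 254220, 19),
  (233842, 7, 254444, 20),
  (233844, 7, 116167, 24),
  (233847, 7, 88201, 43),
  (233849, 7, 174357, 40),
  (233850, 5, 25050, 10),
  (233858, 7, 139322, 23),
  (233863, 6, 204922, 23),
  (233865, 6, 106834, 20),
  (233866, 6, 458, 15),
  (233868, 6, 460, 15),
  (233871, 7, 61930, 23),
  (233875, 7, 123238, 20),
  (233878, 7, 218253, 26),
  (233883, 6, 204875, 6),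
  (233885, 6, 244189, 15),
  (233891, 6, 116989, 21),
  (233899, 6, 213067, 6),
  (233901, 6, 213069, 6),
  (233905, 6, 123242, 20),
  (233906, 6, 205178, 11),
  (233908, 6, 213244, 10)]

theorem chk_rows1_25 : rows1_25.all (rowBP1 tr1 bm1 gensLitP gensListP 1) = true := by decide +kernel

/-- Rows 20800 to 21599. -/
def rows1_26 : List (ℕ × ℕ × ℕ × ℕ) := [(233911, 8, 62959, 23),
  (233922, 6, 458, 3),
  (233924, 6, 122, 23),
  (233929, 6, 160004, 22),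
  (233932, 7, 94340, 22),
  (233935, 7, 61946, 23),
  (233941, 7, 67706, 23),
  (233942, 6, 241678, 6),
  (233949, 7, 246126, 19),
  (233955, 6, 106958, 20),
  (233958, 6, 249870, 6),
  (233965, 7, 31162, 22),
  (233966, 7, 63674, 22),
  (233969, 6, 254284, 19),
  (233975, 7, 88271, 43),
  (233978, 6, 90458, 10),
  (233980, 6, 205180, 2),
  (234509, 6, 74815, 26),
  (234521, 7, 159878, 23),
  (234523, 7, 256310, 20),
  (234529, 7, 61766, 22),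
  (234531, 7, 239886, 20),
  (234537, 6, 107639, 26),
  (234539, 6, 47273, 21),
  (234549, 7, 39359, 12),
  (234557, 7, 151709, 38),
  (234559, 7, 36285, 12),
  (234573, 7, 246172, 22),
  (234577, 7, 202989, 19),
  (234579, 6, 121185, 19),
  (234585, 6, 159894, 23),
  (234593, 7, 61798, 22),
  (234595, 7, 29030, 22),
  (234603, 6, 240030, 20),
  (234613, 8, 151707, 38),
  (234621, 6, 137299, 43),
  (234623, 7, 36349, 12),
  (234629, 7, 11451, 26),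
  (234631, 6, 108807, 20),
  (234637, 7, 192738, 23),
  (234649, 6, 121229, 19),
  (234651, 6, 205275, 8),
  (234659, 7, 60627, 26),
  (234667, 7, 31050, 22),
  (234677, 7, 25709, 39),
  (234685, 7, 63947, 22),
  (234693, 7, 10427, 26),
  (234701, 7, 250260, 22),
  (234707, 6, 29037, 22),
  (234715, 7, 42169, 21),
  (234723, 6, 213067, 5),
  (234729, 7, 159923, 23),
  (234731, 7, 108958, 20),
  (234751, 8, 81265, 19),
  (234757, 7, 32057, 25),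
  (234759, 6, 90490, 23),
  (234765, 7, 31917, 26),
  (234767, 7, 238060, 22),
  (234771, 6, 92474, 23),
  (234779, 7, 256374, 20),
  (234793, 6, 38379, 16),
  (234795, 7, 198867, 42),
  (234805, 8, 137401, 43),
  (234807, 7, 213119, 10),
  (234823, 6, 82298, 23),
  (234831, 7, 254412, 22),
  (234833, 6, 204875, 4),
  (234843, 7, 160158, 23),
  (234857, 6, 240090, 20),
  (234885, 6, 205178, 23),
  (234895, 7, 28943, 25),
  (234899, 7, 106599, 37),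
  (234907, 7, 25869, 39),
  (234913, 7, 51453, 21),
  (234915, 7, 107685, 26),
  (234935, 7, 107001, 37),
  (234943, 8, 212339, 11),
  (234949, 5, 196986, 23),
  (234957, 6, 192762, 23),
  (234963, 6, 119923, 21),
  (234971, 7, 160190, 23),
  (235527, 6, 181383, 19),
  (235535, 5, 196988, 22),
  (235538, 6, 240090, 3),
  (235546, 6, 243778, 12),
  (235550, 6, 244182, 3),
  (235553, 7, 94470, 22),
  (235554, 6, 248298, 3),
  (235561, 6, 178473, 21),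
  (235562, 6, 251970, 12),
  (235587, 7, 28855, 26),
  (235599, 6, 213340, 22),
  (235602, 7, 127013, 22),
  (235609, 6, 182391, 25),
  (235613, 7, 104802, 19),
  (235617, 7, 94502, 22),
  (235622, 7, 127142, 22),
  (235625, 7, 78231, 37),
  (235630, 6, 219622, 3),
  (235635, 8, 197691, 42),
  (235643, 7, 78177, 37),
  (235655, 7, 78201, 37),
  (235663, 7, 201076, 22),
  (235665, 7, 5357, 24),
  (235666, 6, 243782, 8),
  (235669, 7, 112762, 23),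
  (235670, 6, 241734, 8),
  (235673, 6, 39389, 17),
  (235674, 7, 29030, 23),
  (235678, 7, 61734, 23),
  (235681, 7, 100790, 19),
  (235682, 5, 252334, 14),
  (235686, 6, 250286, 14),
  (235689, 6, 96522, 22),
  (235690, 6, 35246, 5),
  (235694, 7, 189667, 19),
  (235699, 8, 155103, 20),
  (235719, 7, 233594, 23),
  (235723, 6, 152020, 22),
  (235727, 7, 106809, 21),
  (235729, 7, 104506, 23),
  (235737, 7, 211219, 26),
  (235742, 7, 219435, 26),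
  (235745, 6, 213069, 5),
  (235749, 6, 177361, 20),
  (235767, 7, 62903, 23),
  (235775, 7, 197839, 42),
  (235779, 7, 127252, 22),
  (235787, 6, 139756, 22),
  (235797, 6, 252386, 19),
  (235802, 7, 150669, 26),
  (235809, 7, 94486, 22),
  (235810, 7, 126998, 22),
  (235818, 7, 129042, 22),
  (235821, 6, 213485, 7),
  (235822, 7, 61707, 23),
  (235843, 7, 93327, 26),
  (235847, 7, 32037, 25),
  (235851, 6, 156108, 22),
  (235855, 7, 247079, 19),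
  (235857, 7, 26799, 39),
  (235861, 6, 244189, 13),
  (235866, 6, 241678, 13),
  (235870, 5, 243722, 13),
  (235873, 7, 133366, 19),
  (235878, 6, 35306, 7),
  (235881, 6, 28891, 23),
  (235882, 6, 250342, 16),
  (235886, 6, 39394, 7),
  (235899, 7, 26643, 39),
  (235903, 8, 51637, 40),
  (235911, 7, 237690, 23),
  (235921, 6, 39342, 19),
  (235929, 7, 28910, 23),
  (235930, 7, 246889, 19),
  (235933, 7, 61614, 23),
  (235938, 5, 6634, 15),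
  (235941, 6, 182397, 21),
  (235945, 6, 177547, 20),
  (235949, 7, 26763, 39),
  (235950, 7, 129178, 22),
  (235955, 8, 193701, 2),
  (235959, 6, 51439, 40),
  (235967, 8, 191901, 13),
  (235975, 6, 127420, 22),
  (235985, 6, 54643, 21),
  (235986, 5, 243722, 6),
  (235989, 7, 182547, 25),
  (235990, 6, 243726, 6),
  (235993, 7, 186510, 19),
  (235997, 7, 72162, 19),
  (235998, 5, 35230, 15),
  (236001, 7, 166070, 19),
  (236005, 7, 92658, 19),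
  (236006, 6, 127166, 22),
  (236014, 6, 35246, 15),
  (236019, 7, 14463, 43),
  (236023, 7, 51295, 40),
  (236031, 8, 220497, 5),
  (236545, 7, 127300, 22),
  (236549, 7, 69093, 19),
  (236551, 7, 28751, 24),
  (236553, 7, 164284, 22),
  (236555, 7, 164348, 22),
  (236559, 7, 192898, 23),
  (236597, 7, 39355, 12),
  (236601, 8, 245161, 21),
  (236603, 7, 205183, 8),
  (236605, 7, 213247, 7),
  (236607, 8, 129451, 2),
  (236609, 7, 127332, 22),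
  (236611, 6, 118115, 19),
  (236615, 7, 119162, 23),
  (236617, 7, 159954, 23),
  (236619, 6, 149567, 25),
  (236659, 7, 38397, 12),
  (236661, 7, 39419, 12),
  (236665, 8, 97783, 24),
  (236667, 7, 249021, 7),
  (236671, 7, 38389, 20),
  (236675, 7, 110906, 23),
  (236679, 7, 152863, 25),
  (236683, 7, 200035, 19),
  (236685, 6, 118149, 19),
  (236687, 7, 97307, 26),
  (236725, 8, 236747, 42),
  (236727, 7, 242933, 20),
  (236729, 8, 169149, 24),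
  (236731, 7, 163275, 20),
  (236733, 7, 64555, 39),
  (236737, 7, 163091, 25),
  (236739, 7, 102714, 23),
  (236741, 6, 175317, 20),
  (236745, 7, 247943, 19),
  (236747, 7, 184788, 22),
  (236787, 7, 97651, 19),
  (236789, 7, 236685, 42),
  (236791, 8, 236737, 42),
  (236793, 7, 252063, 19),
  (236797, 8, 64549, 39),
  (236801, 6, 165015, 20),
  (236805, 7, 254330, 23),
  (236813, 7, 237868, 22),
  (236849, 7, 64529, 39),
  (236851, 8, 236877, 42),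
  (236861, 8, 64539, 39),
  (236869, 7, 246138, 23),
  (236877, 7, 254220, 22),
  (236879, 6, 5239, 24),
  (236917, 8, 248895, 10),
  (236923, 8, 64531, 39),
  (236927, 7, 236879, 42),
  (236931, 6, 106810, 23),
  (236935, 7, 94684, 22),
  (236937, 7, 159978, 23),
  (236939, 6, 175491, 20),
  (236943, 7, 20767, 25),
  (236977, 7, 39359, 19),
  (236979, 7, 240877, 4),
  (236983, 8, 163017, 24),
  (236987, 7, 190875, 13),
  (236989, 7, 210293, 11),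
  (236993, 7, 127356, 22),
  (236995, 7, 94588, 22),
  (236999, 7, 98682, 23),
  (237001, 7, 159994, 23),
  (237005, 7, 258308, 22),
  (237007, 7, 192954, 23),
  (237041, 8, 193767, 2),
  (237043, 7, 213343, 5),
  (237045, 7, 205039, 4),
  (237047, 8, 206061, 4),
  (237053, 8, 191967, 13),
  (237569, 7, 57434, 21),
  (237575, 6, 94271, 24),
  (237581, 7, 168102, 19),
  (237585, 7, 94268, 23),
  (237586, 5, 466, 6),
  (237588, 6, 468, 6),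
  (237591, 5, 471, 6),
  (237595, 7, 199098, 23),
  (237603, 6, 208927, 24),
  (237605, 6, 217135, 24),
  (237606, 6, 25046, 6),
  (237609, 7, 176292, 19),
  (237612, 7, 176290, 19),
  (237615, 8, 251029, 13),
  (237619, 7, 112682, 21),
  (237621, 6, 178218, 21),
  (237622, 7, 210986, 21),
  (237628, 6, 155868, 14),
  (237631, 8, 246047, 20),
  (237633, 7, 8471, 26),
  (237634, 6, 6215, 25),
  (237636, 7, 271, 26),
  (237639, 7, 229799, 20),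
  (237645, 7, 168358, 19),
  (237646, 7, 172334, 23),
  (237656, 5, 204872, 15),
  (237659, 7, 207274, 23),
  (237661, 7, 108714, 23),
  (237667, 7, 15751, 24),
  (237669, 7, 176518, 19),
  (237673, 7, 229818, 20),
  (237674, 6, 90570, 17),
  (237685, 7, 138691, 39),
  (237686, 7, 206890, 21),
  (237690, 6, 147706, 8),
  (237697, 7, 98594, 20),
  (237700, 6, 205268, 5),
  (237703, 7, 246172, 23),
  (237704, 5, 204872, 14),
  (237709, 6, 244113, 14),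
  (237714, 6, 205266, 2),
  (237716, 7, 168138, 19),
  (237723, 7, 114966, 20),
  (237725, 6, 208027, 26),
  (237731, 6, 98606, 20),
  (237734, 6, 139750, 15),
  (237737, 7, 176356, 19),
  (237743, 8, 159945, 41),
  (237747, 7, 114958, 20),
  (237749, 7, 176334, 19),
  (237750, 7, 63845, 23),
  (237753, 6, 215225, 44),
  (237754, 7, 32037, 23),
  (237756, 7, 176362, 19),
  (237759, 7, 104707, 38),
  (237762, 6, 35915, 25),
  (237774, 6, 39378, 5),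
  (237777, 7, 41018, 21),
  (237780, 6, 468, 11),
  (237789, 6, 30059, 21),
  (237790, 5, 243722, 11),
  (237801, 6, 98746, 20),
  (237804, 6, 205180, 16),
  (237811, 6, 80135, 24),
  (237814, 6, 213206, 12),
  (237818, 5, 25050, 17),
  (237820, 5, 196988, 16),
  (237823, 7, 54367, 37),
  (237826, 6, 90298, 21),
  (237828, 6, 155962, 21),
  (237831, 7, 254458, 21),
  (237838, 6, 243782, 1),
  (237841, 7, 233484, 19),
  (237844, 6, 24700, 23),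
  (237853, 6, 191793, 25),
  (237854, 6, 244126, 16),
  (237862, 5, 74214, 15),
  (237866, 6, 204922, 13),
  (237868, 6, 156108, 14),
  (237871, 8, 215069, 44),
  (237875, 6, 129034, 21),
  (237877, 5, 194570, 21),
  (237881, 6, 249249, 25),
  (237884, 6, 156124, 14),
  (237887, 7, 249021, 2),
  (237889, 7, 61554, 21),
  (237890, 5, 466, 10),
  (237901, 7, 233766, 19),
  (237905, 7, 81980, 23),
  (237906, 6, 90122, 21),
  (237908, 6, 468, 16),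
  (237911, 6, 213116, 23),
  (237912, 5, 204872, 7),
  (237915, 7, 211362, 23),
  (237917, 5, 477, 16),
  (237918, 7, 178466, 23),
  (237923, 6, 129270, 21),
  (237925, 6, 194934, 21),
  (237942, 6, 90598, 3),
  (237945, 7, 241964, 19),
  (237951, 7, 238009, 43),
  (237953, 7, 49274, 21),
  (237954, 6, 98660, 20),
  (237956, 7, 53268, 23),
  (237959, 7, 250260, 23),
  (237960, 5, 204872, 3),
  (237963, 7, 233573, 19),
  (237966, 7, 233571, 19),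
  (237969, 7, 73788, 23),
  (237975, 6, 204924, 23),
  (237979, 7, 115030, 20),
  (237981, 6, 155719, 25),
  (237989, 6, 241734, 19),
  (237993, 7, 98682, 20),
  (237994, 6, 147930, 4),
  (237996, 7, 248929, 24),
  (237999, 7, 44073, 42),
  (238005, 6, 90183, 25),
  (238006, 7, 227354, 21),
  (238009, 6, 213063, 25),
  (238010, 6, 196858, 13),
  (238012, 6, 204871, 25),
  (238017, 7, 94340, 23),
  (238018, 5, 466, 3),
  (238020, 6, 468, 3),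
  (238023, 5, 471, 3),
  (238030, 7, 57479, 24),
  (238034, 6, 32889, 22),
  (238036, 6, 124, 23),
  (238043, 7, 115158, 20),
  (238046, 7, 194818, 23),
  (238051, 7, 98798, 20),
  (238057, 7, 98810, 20),
  (238058, 7, 32057, 23),
  (238060, 6, 74108, 16),
  (238070, 6, 25062, 3),
  (238603, 6, 196798, 23),
  (238613, 6, 225660, 23),
  (238615, 7, 94588, 23),
  (238619, 6, 192573, 22),
  (238625, 7, 231722, 20),
  (238637, 8, 87413, 21),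
  (238639, 8, 183705, 1),
  (238653, 7, 57795, 43),
  (238655, 7, 75861, 44),
  (238665, 5, 74158, 23),
  (238667, 6, 204974, 23),
  (238681, 6, 204875, 15),
  (238691, 7, 231854, 20),
  (238705, 7, 108714, 21),
  (238717, 7, 166277, 39),
  (238719, 8, 148923, 40),
  (238725, 6, 240711, 5),
  (238727, 6, 100647, 20),
  (238729, 6, 243089, 14),
  (238731, 6, 213150, 23),
  (238743, 6, 158747, 26),
  (238747, 7, 117014, 20),
  (238765, 7, 251005, 24),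
  (238767, 7, 22693, 37),
  (238781, 8, 13509, 42),
  (238783, 7, 57381, 43),
  (238793, 6, 90510, 23),
  (238795, 7, 100790, 20),
  (238805, 6, 36311, 2),
  (238811, 6, 95467, 21),
  (238817, 6, 55510, 21),
  (238819, 7, 100782, 20),
  (238829, 7, 166165, 39),
  (238831, 7, 205183, 16),
  (238833, 7, 108730, 21),
  (238845, 7, 99649, 38),
  (238847, 7, 99663, 38),
  (238853, 7, 31865, 25),
  (238855, 6, 204871, 10),
  (238857, 7, 231794, 20),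
  (238859, 7, 231798, 20),
  (238869, 7, 258186, 21),
  (238871, 6, 90492, 23),
  (238875, 6, 202930, 23),
  (238883, 7, 125054, 21),
  (238897, 7, 6613, 19),
  (238909, 7, 57737, 43),
  (238911, 7, 165969, 39),
  (238919, 6, 21655, 24),
  (238921, 6, 70777, 21),
  (238933, 6, 213372, 23),
  (238935, 5, 471, 16),
  (238939, 5, 475, 16),
  (238945, 7, 189707, 22),
  (238947, 6, 5527, 24),
  (238959, 8, 201147, 41),
  (238961, 6, 136313, 22),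
  (238973, 7, 22665, 37),
  (238975, 7, 126425, 19),
  (238983, 7, 246138, 21),
  (238985, 7, 51629, 19),
  (238987, 6, 242689, 12),
  (238997, 6, 205180, 23),
  (238999, 6, 74108, 23),
  (239009, 6, 203801, 24),
  (239011, 7, 116862, 21),
  (239021, 8, 99357, 38),
  (239025, 7, 129178, 21),
  (239039, 7, 212331, 11),
  (239045, 6, 127364, 23),
  (239047, 7, 258180, 23),
  (239051, 7, 100854, 20),
  (239061, 5, 196988, 23),
  (239073, 7, 189735, 26),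
  (239091, 7, 117198, 20),
  (239103, 8, 117215, 20),
  (239625, 7, 84462, 19),
  (239629, 7, 252234, 19),
  (239630, 5, 4116, 42),
  (239639, 7, 26799, 44),
  (239641, 7, 198119, 40),
  (239645, 7, 67834, 23),
  (239650, 6, 74102, 13),
  (239653, 7, 190558, 21),
  (239665, 7, 30917, 23),
  (239666, 7, 177289, 19),
  (239669, 7, 47402, 21),
  (239675, 8, 252215, 14),
  (239683, 7, 238060, 23),
  (239687, 6, 205292, 23),
  (239689, 7, 78231, 26),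
  (239690, 5, 12316, 42),
  (239699, 7, 237866, 21),
  (239703, 6, 159807, 26),
  (239705, 6, 39313, 6),
  (239709, 7, 76010, 23),
  (239710, 6, 39318, 6),
  (239714, 6, 147926, 10),
  (239723, 8, 219639, 25),
  (239727, 7, 90575, 17),
  (239734, 5, 147702, 8),
  (239743, 7, 14463, 42),
  (239751, 6, 213468, 23),
  (239754, 6, 39318, 5),
  (239767, 6, 204871, 11),
  (239774, 7, 220331, 26),
  (239777, 6, 100766, 19),
  (239797, 7, 218253, 24),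
  (239811, 7, 169413, 19),
  (239818, 6, 244182, 14),
  (239821, 6, 88394, 19),
  (239822, 6, 37334, 5),
  (239831, 6, 79911, 24),
  (239833, 6, 158803, 25),
  (239834, 6, 244126, 2),
  (239837, 7, 84298, 19),
  (239838, 6, 241678, 11),
  (239841, 7, 55638, 21),
  (239842, 6, 90598, 1),
  (239845, 7, 80218, 19),
  (239855, 6, 51439, 37),
  (239857, 7, 235670, 19),
  (239861, 6, 71975, 24),
  (239862, 6, 25046, 17),
  (239867, 7, 161007, 21),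
  (239871, 7, 51295, 37),
  (239881, 6, 208141, 26),
  (239882, 6, 241734, 1),
  (239886, 6, 243778, 1),
  (239891, 7, 80059, 24),
  (239897, 7, 78231, 41),
  (239898, 6, 37278, 7),
  (239901, 6, 248266, 19),
  (239902, 6, 39322, 7),
  (239906, 6, 242689, 19),
  (239909, 6, 244186, 19),
  (239910, 7, 74859, 22),
  (239925, 6, 240090, 19),
  (239926, 6, 139750, 11),
  (239931, 7, 78177, 41),
  (239935, 7, 36349, 16),
  (239939, 6, 36311, 1),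
  (239943, 7, 258290, 21),
  (239945, 6, 136313, 21),
  (239949, 6, 159077, 25),
  (239955, 7, 95271, 24),
  (239959, 7, 245884, 23),
  (239962, 7, 234793, 19),
  (239966, 6, 39386, 7),
  (239970, 7, 96694, 21),
  (239974, 7, 242947, 19),
  (239985, 6, 30941, 23),
  (240010, 6, 39386, 3),
  (240013, 6, 39389, 3),
  (240014, 7, 151894, 23),
  (240019, 7, 25869, 26),
  (240030, 5, 12292, 42),
  (240033, 5, 35230, 19),
  (240034, 6, 147926, 4),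
  (240049, 6, 39318, 19),
  (240053, 7, 218337, 20),
  (240054, 6, 242763, 19),
  (240063, 8, 51637, 37),
  (240071, 7, 250098, 21),
  (240077, 7, 26763, 44),
  (240087, 7, 123162, 21),
  (240090, 5, 4124, 42),
  (240097, 7, 20903, 24),
  (240098, 7, 88502, 21),
  (240111, 8, 180659, 43),
  (240113, 7, 190746, 21),
  (240114, 7, 235821, 20),
  (240118, 6, 155862, 17),
  (240123, 7, 197839, 40),
  (240127, 7, 155871, 17),
  (240641, 5, 67585, 38),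
  (240645, 7, 188634, 21),
  (240647, 6, 196860, 23),
  (240657, 7, 132327, 20),
  (240661, 7, 111018, 21),
  (240663, 7, 127356, 23),
  (240681, 8, 124351, 2),
  (240703, 7, 9483, 40),
  (240705, 7, 106988, 23),
  (240707, 7, 105803, 19),
  (240709, 6, 74220, 23),
  (240711, 5, 67589, 38),
  (240721, 6, 204871, 15),
  (240723, 7, 172458, 21),
  (240745, 7, 133467, 44),
  (240749, 8, 133323, 44),
  (240765, 6, 67793, 38),
  (240771, 7, 151011, 20),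
  (240773, 6, 82396, 23),
  (240775, 6, 213212, 23),
  (240789, 7, 111034, 21),
  (240791, 7, 45498, 21),
  (240809, 7, 98681, 43),
  (240813, 7, 17635, 37),
  (240829, 7, 41157, 42),
  (240833, 7, 53714, 21),
  (240835, 6, 204871, 5),
  (240837, 6, 90572, 23),
  (240849, 7, 238010, 21),
  (240851, 7, 102716, 23),
  (240873, 7, 213247, 15),
  (240875, 7, 135443, 39),
  (240877, 6, 17577, 37),
  (240879, 7, 98809, 43),
  (240891, 7, 41093, 42),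
  (240893, 7, 98325, 43),
  (240895, 8, 173245, 22),
  (240897, 6, 159021, 26),
  (240917, 6, 205271, 7),
  (240937, 7, 17533, 37),
  (240957, 7, 17603, 37),
  (240959, 7, 234621, 4),
  (240965, 7, 78308, 23),
  (240981, 7, 246140, 23),
  (240983, 7, 57738, 21),
  (241001, 7, 213375, 15),
  (241005, 6, 133261, 44),
  (241007, 7, 17535, 37),
  (241019, 7, 41221, 42),
  (241023, 7, 98745, 43),
  (241025, 6, 72761, 24),
  (241031, 6, 36311, 3),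
  (241041, 5, 67713, 38),
  (241043, 6, 167331, 20),
  (241047, 7, 9379, 40),
  (241065, 7, 135367, 39),
  (241069, 7, 41061, 42),
  (241081, 7, 191709, 17),
  (241083, 7, 246973, 22),
  (241089, 7, 247079, 20),
  (241093, 7, 150725, 20),
  (241095, 7, 225476, 23),
  (241109, 7, 123290, 21),
  (241111, 5, 67717, 38),
  (241129, 7, 9497, 40),
  (241147, 7, 20575, 41),
  (241667, 6, 184453, 19),
  (241677, 7, 63682, 23),
  (241678, 5, 98528, 43),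
  (241686, 6, 90359, 24),
  (241691, 5, 475, 6),
  (241693, 5, 477, 6),
  (241697, 7, 237866, 20),
  (241698, 7, 237868, 20),
  (241703, 8, 228587, 7),
  (241706, 5, 25050, 6),
  (241708, 5, 25052, 6),
  (241711, 7, 114735, 43),
  (241713, 7, 141381, 44),
  (241714, 7, 254220, 20),
  (241716, 6, 196860, 1),
  (241719, 7, 168327, 39),
  (241727, 7, 140555, 40),
  (241734, 5, 65632, 43),
  (241739, 7, 31122, 23),
  (241742, 7, 63826, 23),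
  (241750, 6, 126023, 24),
  (241755, 7, 254358, 20),
  (241761, 7, 237994, 20),
  (241762, 7, 186494, 40),
  (241764, 7, 192898, 19),
  (241767, 7, 45537, 42),
  (241769, 7, 238010, 20),
  (241770, 6, 147930, 10),
  (241772, 7, 238009, 20),
  (241786, 6, 156106, 10),
  (241788, 7, 80957, 22),
  (241795, 6, 211006, 23),
  (241798, 6, 39322, 5),
  (241803, 7, 106806, 20),
  (241811, 6, 204875, 11),
  (241813, 7, 77950, 23),
  (241814, 7, 125049, 22),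
  (241825, 6, 192708, 19),
  (241828, 6, 90604, 10),
  (241831, 7, 86361, 41),
  (241833, 6, 106810, 20),
  (241834, 6, 90458, 6),
  (241836, 6, 90460, 6),
  (241839, 7, 90463, 6),
  (241841, 7, 192716, 19),
  (241842, 7, 123148, 20),
  (241844, 7, 93241, 22),
  (241849, 7, 123162, 20),
  (241861, 7, 71806, 23),
  (241862, 6, 39386, 5),
  (241867, 7, 31154, 23),
  (241870, 6, 35290, 5),
  (241877, 7, 184782, 19),
  (241883, 7, 184813, 19),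
  (241885, 6, 39389, 2),
  (241895, 7, 210293, 16),
  (241898, 6, 213338, 10),
  (241905, 7, 192972, 19),
  (241908, 6, 213212, 12),
  (241913, 7, 123290, 20),
  (241914, 7, 123292, 20),
  (241916, 7, 77123, 25),
  (241919, 7, 240765, 22),
  (241925, 6, 39313, 1),
  (241926, 7, 157822, 23),
  (241931, 7, 31114, 23),
  (241941, 6, 249870, 19),
  (241942, 5, 35230, 7),
  (241947, 6, 249901, 19),
  (241950, 6, 39318, 7),
  (241964, 6, 74220, 15),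
  (241967, 7, 155871, 6),
  (241970, 6, 90458, 2),
  (241975, 7, 38389, 16),
  (241983, 7, 38397, 16),
  (241989, 7, 250118, 19),
  (241995, 6, 242689, 10),
  (242014, 6, 244182, 16),
  (242017, 7, 258308, 19),
  (242018, 7, 238060, 20),
  (242020, 7, 258306, 19),
  (242033, 6, 138297, 22),
  (242034, 6, 213338, 12),
  (242036, 6, 213340, 12),
  (242039, 7, 90607, 3),
  (242041, 6, 30879, 23),
  (242044, 6, 213244, 11),
  (242051, 6, 114939, 21),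
  (242053, 6, 249926, 19),
  (242054, 7, 141438, 23),
  (242059, 7, 19611, 37),
  (242061, 7, 63722, 23),
  (242062, 6, 37334, 3),
  (242075, 6, 182397, 22),
  (242077, 7, 63726, 23),
  (242078, 5, 65760, 43),
  (242082, 5, 196986, 11),
  (242087, 7, 114963, 43),
  (242089, 7, 258148, 19),
  (242090, 7, 97307, 21),
  (242092, 7, 258146, 19),
  (242098, 6, 205162, 11),
  (242111, 8, 194779, 17),
  (242115, 5, 475, 3),
  (242117, 5, 477, 3),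
  (242123, 7, 31162, 23),
  (242133, 6, 79247, 26),
  (242134, 5, 98336, 43),
  (242141, 6, 140323, 40),
  (242142, 6, 90183, 24),
  (242145, 7, 106986, 20),
  (242146, 7, 31815, 22),
  (242148, 7, 153911, 21),
  (242151, 7, 140313, 40),
  (242153, 7, 107002, 20),
  (242156, 5, 196988, 2),
  (242162, 6, 25066, 3),
  (242164, 6, 25068, 3),
  (242689, 5, 132097, 39),
  (242691, 7, 77903, 24),
  (242699, 6, 46251, 21),
  (242707, 7, 256262, 20),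
  (242713, 7, 110763, 21),
  (242733, 7, 164239, 43),
  (242735, 7, 124255, 26),
  (242741, 8, 173311, 26),
  (242749, 7, 10357, 42),
  (242753, 7, 240034, 20),
  (242763, 5, 132099, 39),
  (242771, 7, 86334, 23),
  (242777, 7, 256402, 20),
  (242799, 8, 81265, 4),
  (242805, 7, 18549, 44),
  (242807, 7, 97747, 17),
  (242817, 7, 211262, 23),
  (242835, 7, 78142, 23),
  (242841, 7, 161958, 23),
  (242853, 7, 12777, 41),
  (242855, 7, 90607, 10),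
  (242861, 7, 49379, 37),
  (242871, 7, 66785, 40),
  (242881, 7, 10675, 26),
  (242883, 6, 204875, 5),
  (242899, 7, 69950, 23),
  (242905, 6, 242689, 11),
  (242907, 7, 67945, 19),
  (242919, 7, 132377, 39),
  (242933, 6, 10381, 42),
  (242945, 7, 223550, 23),
  (242947, 6, 204875, 10),
  (242963, 6, 90430, 23),
  (242969, 6, 205275, 7),
  (242971, 7, 231913, 19),
  (242997, 7, 12769, 41),
  (243005, 7, 49347, 37),
  (243009, 7, 215358, 23),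
  (243017, 7, 149709, 19),
  (243019, 6, 5335, 24),
  (243025, 6, 213310, 23),
  (243027, 6, 82238, 23),
  (243033, 7, 256466, 20),
  (243047, 7, 220533, 15),
  (243053, 7, 66659, 40),
  (243055, 7, 49279, 37),
  (243061, 6, 132179, 39),
  (243063, 7, 10561, 42),
  (243069, 7, 63947, 1),
  (243071, 7, 12785, 41),
  (243089, 5, 132353, 39),
  (243091, 6, 74046, 23)]

theorem chk_rows1_26 : rows1_26.all (rowBP1 tr1 bm1 gensLitP gensListP 1) = true := by decide +kernel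

/-- Rows 21600 to 22399. -/
def rows1_27 : List (ℕ × ℕ × ℕ × ℕ) := [(243097, 7, 26021, 26),
  (243109, 7, 132301, 39),
  (243137, 7, 198974, 23),
  (243147, 6, 192837, 22),
  (243153, 6, 196926, 23),
  (243155, 7, 125382, 20),
  (243161, 7, 161982, 23),
  (243163, 5, 132355, 39),
  (243173, 6, 18545, 44),
  (243181, 7, 183455, 19),
  (243183, 7, 132303, 39),
  (243189, 8, 18559, 44),
  (243197, 7, 18639, 44),
  (243199, 7, 240765, 12),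
  (243713, 5, 67585, 44),
  (243718, 5, 163920, 43),
  (243721, 6, 177451, 21),
  (243722, 4, 20490, 37),
  (243725, 6, 196925, 22),
  (243726, 5, 65928, 41),
  (243733, 7, 144543, 26),
  (243738, 6, 129277, 22),
  (243747, 7, 250999, 15),
  (243751, 7, 98681, 38),
  (243755, 7, 17533, 40),
  (243759, 7, 135367, 41),
  (243777, 7, 18807, 25),
  (243778, 5, 196744, 41),
  (243782, 5, 20482, 37),
  (243786, 5, 131408, 43),
  (243789, 5, 67713, 44),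
  (243790, 7, 63762, 23),
  (243794, 6, 39322, 6),
  (243798, 6, 244126, 15),
  (243805, 6, 208927, 26),
  (243806, 5, 35230, 6),
  (243823, 8, 219639, 3),
  (243839, 7, 81255, 24),
  (243841, 7, 100782, 19),
  (243842, 6, 244126, 14),
  (243845, 7, 112766, 23),
  (243846, 6, 37278, 5),
  (243850, 5, 35230, 5),
  (243853, 7, 50519, 25),
  (243857, 7, 110654, 23),
  (243861, 6, 39313, 2),
  (243875, 7, 133467, 39),
  (243879, 7, 161007, 7),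
  (243883, 7, 124255, 25),
  (243887, 7, 9497, 42),
  (243895, 7, 135443, 41),
  (243905, 6, 244189, 14),
  (243906, 7, 170046, 23),
  (243909, 7, 104574, 23),
  (243910, 7, 185795, 19),
  (243918, 7, 63794, 23),
  (243921, 7, 102462, 23),
  (243922, 6, 240030, 2),
  (243925, 7, 145563, 26),
  (243930, 6, 244118, 2),
  (243959, 7, 41093, 43),
  (243963, 7, 41221, 43),
  (243967, 7, 20575, 37),
  (243969, 7, 124990, 23),
  (243970, 6, 250881, 19),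
  (243973, 6, 252394, 19),
  (243974, 6, 243786, 1),
  (243978, 7, 31050, 23),
  (243982, 6, 35290, 10),
  (243985, 6, 6630, 19),
  (243989, 6, 248298, 19),
  (243997, 6, 39389, 16),
  (244007, 7, 17635, 40),
  (244015, 7, 41061, 43),
  (244033, 7, 133358, 19),
  (244034, 7, 216463, 26),
  (244037, 7, 116862, 23),
  (244041, 6, 39389, 1),
  (244046, 6, 90189, 22),
  (244049, 7, 137446, 19),
  (244050, 7, 180286, 23),
  (244053, 7, 114814, 23),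
  (244054, 6, 35290, 7),
  (244058, 6, 37334, 7),
  (244061, 7, 9379, 42),
  (244062, 6, 39165, 22),
  (244071, 7, 126363, 9),
  (244075, 7, 17603, 40),
  (244083, 7, 9483, 42),
  (244091, 7, 7673, 16),
  (244097, 6, 35246, 19),
  (244098, 6, 35290, 3),
  (244101, 6, 219626, 19),
  (244105, 7, 51598, 19),
  (244106, 6, 39378, 3),
  (244109, 7, 203242, 19),
  (244110, 6, 244182, 12),
  (244113, 5, 67589, 44),
  (244118, 5, 131152, 43),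
  (244122, 5, 20522, 37),
  (244125, 7, 199146, 19),
  (244126, 5, 196872, 41),
  (244131, 8, 133323, 39),
  (244135, 6, 17577, 40),
  (244139, 6, 133261, 39),
  (244151, 7, 98809, 38),
  (244155, 7, 17535, 40),
  (244162, 7, 30917, 22),
  (244169, 7, 20711, 24),
  (244173, 7, 63674, 23),
  (244178, 5, 65800, 41),
  (244182, 5, 20514, 37),
  (244185, 7, 186502, 19),
  (244186, 5, 164112, 43),
  (244189, 5, 67717, 44),
  (244190, 7, 63806, 23),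
  (244195, 6, 67793, 44),
  (244199, 7, 98325, 38),
  (244215, 8, 110951, 24),
  (244219, 7, 98745, 38),
  (244775, 7, 252063, 13),
  (244777, 7, 161007, 20),
  (244779, 7, 163051, 20),
  (244783, 8, 194755, 5),
  (244787, 8, 126301, 21),
  (244789, 7, 171469, 39),
  (244793, 7, 249149, 14),
  (244795, 7, 205167, 8),
  (244835, 8, 97735, 17),
  (244843, 8, 129315, 10),
  (244847, 7, 7671, 24),
  (244851, 7, 155871, 5),
  (244853, 7, 254307, 43),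
  (244859, 7, 48181, 42),
  (244897, 7, 254025, 43),
  (244899, 8, 210029, 24),
  (244905, 7, 128343, 25),
  (244907, 7, 254169, 43),
  (244909, 7, 225401, 41),
  (244921, 7, 105803, 38),
  (244923, 7, 205295, 8),
  (244925, 7, 56403, 37),
  (244927, 8, 251125, 20),
  (244961, 8, 212339, 16),
  (244965, 7, 254313, 43),
  (244969, 8, 126233, 6),
  (244973, 8, 212351, 16),
  (244981, 7, 225427, 41),
  (244983, 7, 222289, 40),
  (244987, 7, 212331, 20),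
  (245025, 7, 105857, 38),
  (245027, 7, 56439, 37),
  (245031, 7, 225563, 41),
  (245035, 8, 222323, 40),
  (245039, 8, 244219, 19),
  (245051, 7, 225633, 41),
  (245055, 8, 240123, 19),
  (245089, 7, 163035, 23),
  (245095, 7, 38391, 24),
  (245099, 7, 105865, 38),
  (245103, 7, 220537, 15),
  (245105, 7, 7667, 16),
  (245107, 7, 254009, 43),
  (245109, 7, 225489, 41),
  (245113, 7, 7675, 16),
  (245115, 7, 249021, 25),
  (245117, 8, 253977, 43),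
  (245119, 7, 225777, 41),
  (245153, 7, 163051, 23),
  (245155, 8, 48237, 42),
  (245157, 7, 36285, 19),
  (245159, 7, 254227, 43),
  (245161, 7, 48175, 42),
  (245163, 8, 48227, 42),
  (245167, 7, 225413, 41),
  (245169, 7, 39351, 19),
  (245171, 8, 259557, 15),
  (245175, 8, 161277, 7),
  (245177, 8, 94551, 25),
  (245179, 7, 249021, 22),
  (245181, 8, 220405, 20),
  (245229, 7, 126363, 21),
  (245231, 7, 48239, 42),
  (245243, 7, 190875, 21),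
  (245762, 6, 122, 22),
  (245764, 6, 172178, 19),
  (245773, 7, 199098, 22),
  (245774, 7, 67834, 22),
  (245776, 6, 147656, 20),
  (245782, 6, 25062, 6),
  (245793, 7, 159802, 22),
  (245794, 6, 482, 6),
  (245796, 5, 484, 6),
  (245799, 5, 487, 6),
  (245806, 7, 245850, 44),
  (245813, 7, 163998, 19),
  (245817, 7, 238999, 26),
  (245818, 6, 90474, 13),
  (245820, 7, 49639, 24),
  (245825, 7, 73897, 23),
  (245831, 6, 213466, 22),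
  (245835, 6, 90359, 26),
  (245837, 7, 172470, 19),
  (245840, 6, 213064, 20),
  (245843, 6, 156023, 26),
  (245846, 7, 22970, 21),
  (245849, 6, 205271, 26),
  (245850, 6, 213479, 26),
  (245852, 6, 156108, 16),
  (245857, 7, 233866, 20),
  (245858, 7, 233868, 20),
  (245860, 6, 164242, 19),
  (245863, 7, 52705, 42),
  (245864, 5, 213480, 6),
  (245869, 7, 233883, 20),
  (245870, 7, 110718, 22),
  (245875, 6, 250286, 20),
  (245881, 7, 164284, 19),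
  (245882, 7, 154683, 23),
  (245884, 6, 74108, 7),
  (245887, 7, 73167, 39),
  (245889, 7, 102658, 20),
  (245890, 6, 213474, 2),
  (245899, 6, 102678, 20),
  (245902, 6, 219626, 2),
  (245909, 6, 172254, 19),
  (245910, 6, 147926, 15),
  (245914, 6, 90570, 13),
  (245916, 6, 213116, 14),
  (245919, 7, 169349, 37),
  (245924, 6, 35851, 26),
  (245934, 6, 35306, 17),
  (245945, 6, 181383, 25),
  (245946, 6, 90602, 13),
  (245954, 7, 20562, 22),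
  (245956, 5, 484, 11),
  (245963, 6, 216203, 25),
  (245965, 7, 172534, 19),
  (245971, 7, 119206, 20),
  (245973, 7, 172510, 19),
  (245974, 7, 31146, 21),
  (245977, 6, 157925, 41),
  (245978, 7, 119220, 20),
  (245980, 7, 247943, 24),
  (245983, 7, 47231, 38),
  (245985, 7, 139322, 22),
  (245986, 6, 482, 17),
  (245991, 7, 237690, 22),
  (245992, 6, 213064, 8),
  (245995, 5, 491, 17),
  (246005, 6, 71801, 23),
  (246006, 6, 205030, 12),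
  (246009, 7, 164348, 19),
  (246015, 8, 246201, 44),
  (246017, 7, 237588, 19),
  (246018, 6, 90300, 21),
  (246020, 6, 155964, 21),
  (246023, 6, 205290, 22),
  (246024, 5, 213480, 4),
  (246027, 6, 250955, 4),
  (246029, 7, 207274, 22),
  (246030, 7, 76010, 22),
  (246038, 6, 155878, 6),
  (246041, 7, 240709, 26),
  (246047, 7, 94537, 40),
  (246049, 7, 233802, 20),
  (246052, 6, 213476, 1),
  (246059, 7, 233822, 20),
  (246064, 7, 8350, 39),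
  (246067, 6, 6390, 21),
  (246069, 6, 6518, 21),
  (246081, 7, 61556, 21),
  (246082, 6, 24650, 22),
  (246091, 6, 126023, 26),
  (246094, 6, 248238, 4),
  (246099, 5, 6394, 21),
  (246101, 6, 6522, 21),
  (246105, 6, 240711, 26),
  (246106, 6, 248903, 26),
  (246111, 7, 240877, 2),
  (246114, 6, 482, 10),
  (246116, 6, 155660, 21),
  (246119, 7, 233594, 22),
  (246126, 6, 6630, 10),
  (246128, 6, 488, 20),
  (246134, 6, 205158, 12),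
  (246138, 6, 196858, 17),
  (246140, 6, 25068, 16),
  (246143, 8, 47215, 38),
  (246152, 6, 213064, 3),
  (246155, 7, 102742, 20),
  (246157, 7, 211362, 22),
  (246160, 6, 180616, 20),
  (246163, 7, 52317, 42),
  (246166, 7, 14754, 21),
  (246172, 6, 74220, 5),
  (246177, 7, 147514, 22),
  (246178, 7, 49274, 22),
  (246180, 6, 5197, 26),
  (246183, 7, 32057, 24),
  (246187, 7, 102750, 20),
  (246190, 7, 114814, 22),
  (246195, 7, 15769, 24),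
  (246197, 7, 57479, 25),
  (246201, 7, 119162, 20),
  (246204, 5, 196988, 14),
  (246209, 7, 160002, 22),
  (246210, 6, 482, 3),
  (246212, 5, 484, 3),
  (246215, 5, 487, 3),
  (246221, 7, 237942, 19),
  (246224, 6, 246024, 20),
  (246227, 6, 237917, 19),
  (246229, 7, 14698, 21),
  (246230, 7, 41014, 42),
  (246234, 6, 147706, 17),
  (246239, 8, 73039, 39),
  (246241, 7, 57372, 21),
  (246247, 6, 160007, 24),
  (246251, 7, 163966, 22),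
  (246259, 6, 209287, 24),
  (246261, 6, 217479, 24),
  (246262, 6, 25046, 3),
  (246265, 7, 119290, 20),
  (246266, 7, 14511, 21),
  (246271, 8, 228587, 4),
  (246789, 7, 229818, 22),
  (246803, 7, 51435, 25),
  (246813, 8, 195067, 25),
  (246815, 7, 25709, 43),
  (246821, 7, 225402, 22),
  (246825, 7, 219435, 25),
  (246835, 7, 252206, 20),
  (246845, 8, 163065, 11),
  (246855, 7, 258388, 21),
  (246865, 7, 62817, 22),
  (246867, 6, 252326, 20),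
  (246877, 8, 137401, 37),
  (246889, 6, 38305, 6),
  (246899, 5, 252334, 20),
  (246917, 7, 152893, 24),
  (246921, 7, 104722, 20),
  (246923, 6, 93395, 26),
  (246929, 6, 121122, 20),
  (246931, 7, 96482, 21),
  (246941, 7, 151709, 40),
  (246943, 7, 96739, 21),
  (246951, 7, 78201, 23),
  (246953, 6, 152711, 25),
  (246961, 7, 96358, 21),
  (246963, 7, 106809, 44),
  (246973, 6, 137299, 37),
  (246981, 6, 248833, 11),
  (246993, 7, 211095, 24),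
  (247013, 6, 204922, 22),
  (247027, 6, 30059, 22),
  (247045, 7, 237994, 22),
  (247047, 7, 232913, 19),
  (247059, 6, 252262, 20),
  (247077, 7, 258188, 21),
  (247079, 6, 213063, 10),
  (247081, 6, 93285, 26),
  (247083, 6, 235870, 20),
  (247111, 6, 152599, 24),
  (247113, 6, 71801, 21),
  (247115, 7, 106599, 44),
  (247121, 6, 252386, 20),
  (247133, 7, 21667, 42),
  (247135, 7, 107001, 44),
  (247147, 6, 216365, 25),
  (247153, 6, 252394, 20),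
  (247173, 6, 94343, 25),
  (247175, 7, 246140, 21),
  (247177, 7, 178466, 22),
  (247179, 6, 38379, 3),
  (247197, 7, 100619, 39),
  (247205, 6, 213114, 22),
  (247207, 7, 74105, 23),
  (247211, 7, 180286, 22),
  (247229, 8, 97783, 8),
  (247231, 8, 210029, 26),
  (247237, 7, 198867, 41),
  (247241, 7, 194818, 22),
  (247243, 7, 104918, 20),
  (247249, 7, 189543, 26),
  (247251, 7, 72145, 19),
  (247263, 8, 26097, 43),
  (247273, 7, 131198, 22),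
  (247275, 7, 104926, 20),
  (247281, 7, 121322, 20),
  (247815, 5, 196986, 22),
  (247822, 5, 131208, 40),
  (247825, 7, 153714, 21),
  (247826, 6, 128001, 22),
  (247830, 6, 155862, 11),
  (247835, 8, 173245, 19),
  (247843, 7, 241964, 21),
  (247847, 6, 165015, 19),
  (247849, 7, 111767, 26),
  (247854, 6, 6630, 6),
  (247858, 6, 90470, 13),
  (247861, 7, 20879, 24),
  (247875, 6, 147930, 22),
  (247879, 6, 213338, 22),
  (247882, 5, 65800, 40),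
  (247890, 7, 151911, 26),
  (247893, 7, 153978, 21),
  (247899, 8, 63907, 6),
  (247907, 7, 237868, 21),
  (247913, 6, 213069, 15),
  (247914, 7, 185403, 23),
  (247917, 6, 42441, 20),
  (247918, 6, 252326, 15),
  (247921, 7, 153726, 21),
  (247922, 7, 186425, 23),
  (247925, 6, 34281, 20),
  (247935, 8, 201147, 40),
  (247943, 6, 213063, 11),
  (247945, 6, 137650, 22),
  (247957, 7, 162146, 21),
  (247963, 7, 57795, 44),
  (247967, 7, 166277, 37),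
  (247977, 7, 125366, 19),
  (247981, 6, 155838, 22),
  (247985, 7, 5549, 24),
  (247986, 6, 90598, 13),
  (247989, 6, 50327, 25),
  (247995, 7, 57737, 44),
  (247999, 7, 22665, 42),
  (248003, 6, 93339, 25),
  (248009, 7, 154002, 22),
  (248010, 5, 252334, 2),
  (248014, 6, 250286, 2),
  (248027, 7, 75861, 41),
  (248031, 8, 148923, 43),
  (248035, 6, 237818, 22),
  (248039, 5, 487, 17),
  (248041, 6, 204990, 22),
  (248042, 7, 106750, 22),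
  (248045, 5, 493, 17),
  (248050, 6, 205174, 10),
  (248059, 7, 165969, 37),
  (248063, 7, 244135, 24),
  (248067, 6, 249249, 13),
  (248071, 6, 205162, 22),
  (248073, 6, 251981, 4),
  (248085, 6, 235986, 19),
  (248086, 6, 156118, 11),
  (248091, 7, 191647, 20),
  (248095, 7, 166165, 37),
  (248099, 7, 14651, 24),
  (248106, 6, 249926, 1),
  (248109, 6, 151742, 22),
  (248110, 6, 251970, 1),
  (248113, 6, 185475, 20),
  (248114, 7, 137398, 21),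
  (248117, 7, 125049, 23),
  (248118, 7, 190585, 23),
  (248123, 8, 99357, 39),
  (248131, 6, 156106, 22),
  (248135, 7, 258292, 21),
  (248137, 6, 137337, 21),
  (248138, 7, 26826, 22),
  (248149, 7, 137594, 21),
  (248150, 6, 213238, 17),
  (248155, 7, 22693, 42),
  (248159, 7, 213247, 17),
  (248163, 6, 248833, 10),
  (248167, 7, 123148, 21),
  (248169, 7, 157942, 19),
  (248170, 7, 189735, 24),
  (248173, 7, 169255, 24),
  (248177, 7, 145630, 19),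
  (248178, 7, 137406, 21),
  (248202, 6, 39402, 3),
  (248205, 6, 39405, 3),
  (248210, 7, 238681, 19),
  (248213, 7, 114839, 25),
  (248219, 8, 13509, 38),
  (248223, 7, 99649, 39),
  (248233, 6, 213182, 22),
  (248237, 5, 147646, 22),
  (248238, 5, 65928, 40),
  (248241, 7, 47518, 19),
  (248242, 7, 145574, 21),
  (248259, 7, 119284, 21),
  (248263, 6, 238935, 19),
  (248265, 6, 127171, 23),
  (248266, 5, 6634, 3),
  (248278, 5, 147702, 17),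
  (248283, 7, 57381, 44),
  (248287, 7, 99663, 39),
  (248297, 6, 196798, 22),
  (248298, 5, 131464, 40),
  (248306, 6, 74102, 10),
  (248309, 7, 145774, 21),
  (248315, 7, 250999, 12),
  (248319, 8, 145903, 21),
  (248833, 5, 132097, 37),
  (248837, 7, 188636, 21),
  (248859, 7, 164239, 44),
  (248865, 7, 225530, 22),
  (248869, 7, 159994, 22),
  (248871, 7, 28943, 24),
  (248895, 7, 66659, 43),
  (248897, 7, 197711, 20),
  (248899, 6, 101715, 19),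
  (248903, 5, 132099, 37),
  (248923, 7, 239855, 23),
  (248927, 8, 234677, 7),
  (248929, 6, 213063, 15),
  (248935, 6, 34253, 20),
  (248957, 7, 193725, 11),
  (248959, 7, 49279, 42),
  (248963, 7, 200019, 19),
  (248967, 7, 245852, 21),
  (248985, 8, 117215, 23),
  (248987, 7, 10357, 38),
  (248989, 7, 18549, 41),
  (248995, 6, 213479, 8),
  (248997, 6, 155898, 22),
  (248999, 7, 45500, 21),
  (249017, 7, 12769, 40),
  (249019, 7, 49347, 42),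
  (249021, 6, 132179, 37),
  (249023, 7, 81255, 6),
  (249025, 7, 53716, 21),
  (249029, 7, 250130, 22),
  (249053, 7, 243173, 14),
  (249057, 6, 205050, 22),
  (249059, 7, 153911, 24),
  (249061, 6, 139514, 22),
  (249085, 7, 10561, 38),
  (249087, 7, 12785, 40),
  (249089, 7, 172458, 22),
  (249093, 7, 70129, 23),
  (249113, 7, 12777, 40),
  (249115, 7, 49379, 42),
  (249125, 7, 151802, 22),
  (249145, 7, 132301, 37),
  (249149, 6, 18545, 41),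
  (249151, 7, 63947, 24),
  (249157, 6, 213063, 4),
  (249177, 7, 205183, 15),
  (249181, 7, 132377, 37),
  (249191, 6, 93229, 25),
  (249215, 7, 132303, 37),
  (249219, 7, 176610, 22),
  (249223, 6, 248833, 12),
  (249245, 6, 10381, 38),
  (249249, 5, 132353, 37),
  (249251, 7, 106809, 23),
  (249253, 6, 147706, 22),
  (249255, 7, 180410, 22),
  (249277, 8, 18559, 41),
  (249279, 7, 18639, 41),
  (249281, 7, 192898, 22),
  (249285, 7, 258306, 22),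
  (249287, 7, 135223, 24),
  (249305, 7, 66785, 43),
  (249313, 6, 196858, 22),
  (249317, 7, 123292, 21),
  (249319, 5, 132355, 37),
  (249343, 7, 252063, 10),
  (249859, 6, 83361, 43),
  (249862, 6, 156023, 24),
  (249867, 6, 131454, 22),
  (249870, 5, 164176, 44),
  (249882, 6, 25066, 6),
  (249884, 6, 25068, 6),
  (249893, 7, 180374, 19),
  (249899, 5, 491, 6),
  (249901, 5, 493, 6),
  (249905, 7, 173463, 26),
  (249906, 5, 196986, 2),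
  (249913, 7, 180412, 19),
  (249914, 7, 247079, 26),
  (249916, 7, 180410, 19),
  (249919, 7, 83043, 43),
  (249923, 7, 206249, 23),
  (249925, 6, 8415, 26),
  (249926, 5, 131152, 44),
  (249943, 8, 84075, 41),
  (249948, 6, 74220, 11),
  (249955, 7, 178298, 22),
  (249957, 7, 134613, 37),
  (249958, 6, 250286, 15),
  (249963, 6, 242078, 20),
  (249965, 6, 211006, 22),
  (249966, 7, 112766, 22),
  (249969, 7, 258474, 20),
  (249970, 7, 258476, 20),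
  (249972, 7, 163091, 21),
  (249980, 6, 90572, 11),
  (249983, 7, 102863, 39),
  (249987, 6, 38305, 2),
  (249989, 6, 110851, 20),
  (249995, 7, 112701, 21),
  (250001, 7, 188636, 19),
  (250002, 7, 151011, 26),
  (250004, 7, 188634, 19),
  (250007, 7, 193725, 13),
  (250009, 7, 127282, 20),
  (250010, 6, 147930, 15),
  (250021, 7, 223290, 22),
  (250022, 6, 251970, 8),
  (250027, 7, 190590, 22),
  (250030, 6, 39402, 17),
  (250036, 6, 82396, 10),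
  (250047, 7, 39419, 17),
  (250059, 7, 151894, 22),
  (250061, 6, 39405, 2),
  (250062, 7, 189707, 23),
  (250065, 7, 54359, 21),
  (250073, 7, 44093, 21),
  (250074, 7, 207047, 24),
  (250076, 7, 188922, 19),
  (250085, 7, 180694, 19),
  (250093, 6, 70777, 23),
  (250094, 5, 6634, 17),
  (250097, 6, 29999, 22),
  (250098, 6, 156122, 3),
  (250100, 6, 156124, 3),
  (250103, 7, 156127, 3),
  (250105, 6, 72761, 23),
  (250106, 6, 205178, 10),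
  (250111, 7, 172473, 44),
  (250118, 6, 219622, 4),
  (250129, 6, 253980, 19),
  (250130, 6, 156122, 11),
  (250137, 6, 258418, 20),
  (250138, 6, 82394, 15),
  (250140, 6, 82396, 15),
  (250143, 7, 155887, 6),
  (250149, 6, 213069, 10),
  (250155, 7, 242014, 20),
  (250169, 7, 248929, 25),
  (250170, 7, 95245, 21),
  (250172, 7, 31891, 22),
  (250181, 6, 242115, 20),
  (250182, 6, 252326, 4),
  (250187, 6, 242134, 20),
  (250190, 5, 252334, 4),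
  (250199, 7, 190875, 11),
  (250204, 6, 156124, 2),
  (250207, 8, 11615, 38),
  (250213, 7, 246038, 19),
  (250219, 6, 38379, 1),
  (250222, 7, 246067, 19),
  (250226, 6, 205162, 12),
  (250231, 7, 90591, 3),
  (250245, 7, 211366, 22),
  (250254, 6, 250342, 12),
  (250258, 7, 127332, 20),
  (250260, 6, 196860, 10),
  (250277, 7, 73851, 23),
  (250278, 7, 116858, 22),
  (250286, 5, 131408, 44),
  (250289, 7, 245852, 19),
  (250290, 7, 11729, 24),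
  (250292, 6, 213212, 10),
  (250297, 7, 245884, 19),
  (250298, 7, 127356, 20),
  (250300, 7, 41351, 25),
  (250303, 7, 102897, 39),
  (250307, 5, 491, 3),
  (250309, 5, 493, 3),
  (250318, 6, 155719, 24),
  (250327, 7, 83137, 43),
  (250329, 7, 32057, 22),
  (250330, 6, 196858, 1),
  (250332, 7, 254330, 19),
  (250335, 7, 53343, 42),
  (250339, 7, 111054, 20),
  (250342, 5, 163856, 44),
  (250349, 7, 111067, 20),
  (250354, 5, 25050, 3),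
  (250356, 5, 25052, 3),
  (250359, 7, 143455, 40),
  (250361, 7, 246140, 19),
  (250364, 7, 246138, 19),
  (250367, 8, 251029, 10),
  (250881, 5, 132097, 43),
  (250883, 7, 166270, 22),
  (250903, 7, 12777, 38),
  (250909, 8, 184767, 24),
  (250913, 7, 161914, 22),
  (250915, 7, 243982, 20),
  (250941, 7, 18549, 42),
  (250943, 6, 10381, 41),
  (250945, 7, 244098, 20),
  (250955, 5, 132353, 43),
  (250967, 7, 132301, 43),
  (250973, 7, 12769, 38),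
  (250977, 7, 63697, 21),
  (250979, 7, 244110, 20),
  (250985, 6, 244122, 20),
  (250987, 6, 244126, 20),
  (250999, 6, 18545, 42),
  (251005, 6, 132179, 43),
  (251007, 8, 18559, 42),
  (251017, 7, 112914, 20),
  (251019, 7, 168310, 22),
  (251029, 7, 164239, 37),
  (251031, 7, 49379, 44),
  (251037, 7, 10357, 41),
  (251049, 7, 157822, 22),
  (251051, 6, 38379, 17),
  (251081, 6, 38379, 2),
  (251083, 7, 222347, 23),
  (251101, 7, 49347, 44),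
  (251105, 7, 155011, 25),
  (251113, 7, 141438, 22),
  (251115, 7, 113054, 20),
  (251125, 7, 66659, 39),
  (251127, 7, 7667, 17),
  (251133, 7, 7673, 17),
  (251135, 7, 18639, 42),
  (251137, 7, 126181, 26),
  (251145, 7, 70063, 40),
  (251147, 7, 244054, 20),
  (251159, 7, 161007, 6),
  (251167, 7, 66785, 39),
  (251171, 6, 38305, 1),
  (251177, 7, 153726, 22),
  (251179, 7, 186430, 22),
  (251191, 7, 132377, 43),
  (251197, 7, 164035, 37),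
  (251201, 6, 213067, 4),
  (251209, 6, 244178, 20),
  (251211, 6, 244182, 20),
  (251241, 6, 244186, 20),
  (251243, 7, 170046, 22),
  (251253, 7, 164037, 37),
  (251261, 7, 10561, 41),
  (251265, 6, 217479, 25),
  (251285, 7, 155129, 24),
  (251297, 5, 132099, 43),
  (251307, 7, 20879, 25),
  (251317, 7, 128359, 16),
  (251337, 7, 88451, 25),
  (251361, 6, 91367, 26),
  (251363, 6, 120945, 21),
  (251371, 5, 132355, 43),
  (251381, 7, 49279, 44),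
  (251383, 7, 132303, 43),
  (251389, 7, 12785, 38),
  (251391, 8, 183705, 7),
  (251905, 5, 67585, 39),
  (251906, 7, 133341, 20),
  (251909, 7, 198974, 22),
  (251910, 5, 98464, 44),
  (251913, 7, 92614, 19),
  (251917, 6, 196926, 22),
  (251918, 5, 4138, 42),
  (251923, 8, 240123, 3),
  (251927, 7, 133467, 41),
  (251935, 8, 133323, 41),
  (251937, 6, 127035, 23),
  (251938, 5, 6634, 6),
  (251949, 7, 161982, 22),
  (251950, 7, 63742, 22),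
  (251955, 7, 17533, 42),
  (251959, 7, 155903, 11),
  (251967, 6, 133261, 41),
  (251970, 5, 20514, 42),
  (251973, 7, 215326, 22),
  (251977, 6, 147870, 22),
  (251978, 5, 98336, 44),
  (251981, 5, 67589, 39),
  (252006, 5, 252334, 15),
  (252014, 6, 35246, 6),
  (252031, 7, 17535, 42),
  (252033, 7, 132571, 20),
  (252034, 6, 6390, 22),
  (252037, 6, 213069, 11),
  (252041, 7, 125318, 19),
  (252042, 6, 219622, 2),
  (252046, 7, 66975, 25),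
  (252063, 6, 67793, 39),
  (252070, 6, 249926, 8),
  (252073, 6, 213485, 8),
  (252077, 7, 157886, 22),
  (252091, 7, 17603, 42),
  (252098, 6, 248238, 2),
  (252101, 7, 84338, 19),
  (252102, 7, 88150, 22),
  (252105, 7, 151958, 22),
  (252106, 6, 252326, 2),
  (252110, 7, 86102, 22),
  (252123, 7, 9483, 43),
  (252130, 6, 6630, 17),
  (252134, 7, 174439, 24),
  (252141, 7, 141502, 22),
  (252151, 7, 41221, 38),
  (252155, 7, 183455, 7),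
  (252159, 7, 98745, 44),
  (252162, 6, 7569, 25),
  (252165, 7, 248306, 19),
  (252169, 6, 139694, 22)]

theorem chk_rows1_27 : rows1_27.all (rowBP1 tr1 bm1 gensLitP gensListP 1) = true := by decide +kernel

/-- Rows 22400 to 23199. -/
def rows1_28 : List (ℕ × ℕ × ℕ × ℕ) := [(252173, 6, 205102, 22),
  (252174, 6, 219626, 4),
  (252179, 7, 98681, 44),
  (252183, 7, 156127, 11),
  (252187, 7, 17635, 42),
  (252191, 6, 17577, 42),
  (252193, 6, 169107, 20),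
  (252197, 7, 75225, 20),
  (252198, 6, 39402, 10),
  (252205, 7, 61709, 21),
  (252206, 6, 35306, 10),
  (252211, 7, 135367, 37),
  (252215, 7, 9497, 43),
  (252219, 7, 41061, 38),
  (252225, 7, 61813, 21),
  (252226, 7, 26830, 22),
  (252229, 6, 213069, 4),
  (252230, 7, 144737, 23),
  (252233, 6, 156046, 22),
  (252234, 6, 250286, 4),
  (252247, 7, 135443, 37),
  (252255, 7, 98809, 44),
  (252262, 5, 6634, 10),
  (252265, 6, 39405, 1),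
  (252269, 7, 137406, 22),
  (252290, 6, 35306, 3),
  (252293, 7, 215538, 19),
  (252297, 7, 59782, 19),
  (252298, 6, 39394, 3),
  (252315, 7, 41157, 38),
  (252319, 7, 98325, 44),
  (252321, 5, 67713, 39),
  (252322, 6, 135494, 37),
  (252326, 5, 98528, 44),
  (252333, 7, 207330, 19),
  (252334, 4, 20490, 42),
  (252339, 7, 129423, 14),
  (252357, 7, 227590, 22),
  (252358, 6, 96326, 22),
  (252361, 7, 190598, 19),
  (252366, 6, 6630, 3),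
  (252375, 7, 41093, 38),
  (252383, 8, 117147, 25),
  (252385, 6, 55665, 21),
  (252386, 5, 4130, 42),
  (252393, 7, 9379, 43),
  (252394, 5, 98400, 44),
  (252397, 5, 67717, 39),
  (252403, 7, 190875, 25),
  (252407, 7, 20575, 40),
  (252947, 7, 124255, 21),
  (252977, 7, 105857, 39),
  (252981, 7, 128455, 22),
  (253011, 7, 240877, 23),
  (253013, 8, 243053, 14),
  (253015, 8, 212081, 15),
  (253017, 7, 163275, 16),
  (253019, 8, 97605, 4),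
  (253023, 7, 38397, 20),
  (253041, 7, 56439, 42),
  (253043, 8, 222323, 43),
  (253047, 7, 105865, 39),
  (253049, 7, 225563, 40),
  (253051, 8, 220663, 24),
  (253053, 7, 36349, 20),
  (253055, 7, 193719, 11),
  (253075, 7, 194747, 13),
  (253081, 7, 171469, 37),
  (253085, 7, 254307, 44),
  (253109, 7, 38389, 17),
  (253111, 7, 38391, 17),
  (253117, 7, 225489, 40),
  (253119, 8, 253977, 44),
  (253137, 8, 243887, 19),
  (253139, 7, 213119, 5),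
  (253141, 7, 90575, 4),
  (253143, 7, 48181, 38),
  (253171, 7, 225633, 40),
  (253173, 7, 254009, 44),
  (253175, 7, 243061, 1),
  (253179, 8, 219639, 24),
  (253183, 7, 225777, 40),
  (253201, 7, 254025, 44),
  (253203, 7, 240877, 26),
  (253205, 8, 251125, 17),
  (253207, 8, 243875, 2),
  (253211, 7, 225401, 40),
  (253213, 7, 254313, 44),
  (253215, 8, 251135, 17),
  (253233, 7, 128343, 22),
  (253235, 7, 48175, 38),
  (253241, 7, 39355, 24),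
  (253247, 7, 244195, 19),
  (253265, 8, 246815, 20),
  (253267, 7, 254169, 44),
  (253297, 8, 48237, 38),
  (253299, 8, 48227, 38),
  (253305, 7, 254227, 44),
  (253307, 7, 225413, 40),
  (253311, 7, 48239, 38),
  (253331, 7, 105803, 39),
  (253339, 7, 56403, 42),
  (253341, 7, 225427, 40),
  (253361, 7, 7673, 24),
  (253363, 8, 206061, 26),
  (253371, 8, 193949, 21),
  (253395, 7, 213375, 5),
  (253399, 7, 250999, 21),
  (253403, 8, 191901, 21),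
  (253405, 7, 222289, 43),
  (253425, 8, 257341, 11),
  (253427, 7, 97763, 19),
  (253431, 7, 96739, 19),
  (253433, 8, 124351, 8),
  (253955, 7, 233766, 20),
  (253962, 6, 90458, 13),
  (253964, 6, 205180, 5),
  (253971, 7, 250118, 20),
  (253977, 7, 250130, 20),
  (253980, 5, 196988, 5),
  (253987, 6, 168085, 19),
  (253989, 7, 190810, 21),
  (253990, 7, 223642, 21),
  (253993, 7, 134457, 22),
  (253994, 6, 196858, 4),
  (253996, 7, 168114, 19),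
  (253999, 7, 220533, 8),
  (254009, 6, 159807, 22),
  (254010, 6, 82298, 13),
  (254012, 6, 213340, 5),
  (254015, 8, 118173, 2),
  (254021, 6, 8543, 26),
  (254025, 6, 73903, 23),
  (254026, 6, 90602, 17),
  (254028, 6, 156124, 16),
  (254031, 8, 251125, 13),
  (254038, 6, 213110, 12),
  (254041, 7, 176572, 19),
  (254042, 7, 250260, 20),
  (254053, 7, 88189, 23),
  (254054, 6, 204918, 12),
  (254067, 6, 188471, 26),
  (254085, 6, 102691, 20),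
  (254090, 6, 147706, 4),
  (254099, 7, 119046, 20),
  (254101, 7, 178238, 21),
  (254102, 6, 156118, 15),
  (254105, 6, 208083, 26),
  (254106, 6, 82394, 13),
  (254111, 7, 36285, 2),
  (254118, 6, 74102, 6),
  (254121, 7, 102714, 20),
  (254122, 7, 102716, 20),
  (254124, 7, 32037, 21),
  (254131, 7, 110654, 21),
  (254134, 7, 91573, 24),
  (254138, 7, 248995, 26),
  (254140, 6, 204924, 14),
  (254149, 7, 176598, 19),
  (254150, 7, 102821, 20),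
  (254154, 6, 25066, 17),
  (254156, 7, 176626, 19),
  (254163, 7, 119174, 20),
  (254165, 7, 176606, 19),
  (254166, 6, 213238, 12),
  (254169, 6, 216259, 25),
  (254172, 6, 213340, 16),
  (254175, 7, 36349, 2),
  (254182, 6, 147926, 3),
  (254185, 7, 168436, 19),
  (254186, 7, 31917, 21),
  (254188, 7, 168434, 19),
  (254195, 6, 106558, 21),
  (254204, 6, 74220, 7),
  (254213, 7, 219435, 24),
  (254217, 7, 241716, 19),
  (254218, 6, 7345, 21),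
  (254220, 6, 74108, 5),
  (254223, 8, 210029, 10),
  (254227, 6, 129038, 21),
  (254230, 5, 147702, 6),
  (254239, 7, 7667, 21),
  (254245, 6, 190842, 21),
  (254246, 6, 90598, 15),
  (254249, 6, 208197, 26),
  (254252, 6, 90460, 5),
  (254259, 6, 126990, 21),
  (254261, 6, 192526, 21),
  (254266, 6, 213114, 13),
  (254271, 7, 7671, 21),
  (254275, 6, 127222, 21),
  (254277, 6, 192886, 21),
  (254284, 5, 25052, 16),
  (254287, 7, 7673, 21),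
  (254293, 6, 190478, 21),
  (254294, 5, 74214, 3),
  (254303, 7, 7675, 21),
  (254307, 6, 129266, 21),
  (254310, 6, 205174, 12),
  (254313, 6, 216421, 25),
  (254314, 6, 156122, 8),
  (254323, 7, 210183, 24),
  (254329, 7, 250330, 20),
  (254330, 6, 147930, 8),
  (254332, 6, 7487, 21),
  (254335, 7, 243173, 13),
  (254341, 6, 123079, 25),
  (254358, 6, 25046, 15),
  (254361, 7, 88211, 23),
  (254364, 7, 249313, 24),
  (254371, 7, 144737, 22),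
  (254374, 6, 25062, 15),
  (254387, 6, 180347, 22),
  (254393, 6, 74815, 23),
  (254394, 6, 213242, 13),
  (254396, 6, 205180, 14),
  (254399, 8, 174331, 17),
  (254409, 6, 94343, 23),
  (254410, 6, 205178, 8),
  (254412, 6, 90460, 16),
  (254415, 8, 157931, 17),
  (254421, 7, 242014, 19),
  (254425, 7, 119250, 20),
  (254426, 5, 196986, 8),
  (254435, 7, 121074, 21),
  (254437, 6, 186738, 21),
  (254438, 7, 219570, 21),
  (254441, 7, 168327, 24),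
  (254442, 7, 102908, 20),
  (254444, 6, 196860, 7),
  (254447, 7, 191709, 2),
  (254453, 7, 233822, 19),
  (254458, 6, 213338, 8),
  (254460, 6, 82300, 16),
  (254977, 7, 57566, 21),
  (254993, 7, 252162, 20),
  (255005, 8, 163017, 11),
  (255007, 8, 236747, 41),
  (255009, 7, 42295, 26),
  (255011, 7, 244041, 19),
  (255027, 6, 192571, 22),
  (255037, 7, 110073, 17),
  (255039, 7, 236685, 41),
  (255041, 6, 74157, 23),
  (255053, 7, 64529, 43),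
  (255055, 7, 156127, 16),
  (255057, 7, 252290, 20),
  (255075, 7, 129106, 21),
  (255087, 8, 252215, 8),
  (255089, 7, 252298, 20),
  (255101, 8, 255185, 38),
  (255103, 7, 38327, 6),
  (255105, 7, 49374, 21),
  (255117, 8, 259271, 25),
  (255119, 8, 245919, 23),
  (255123, 6, 158803, 26),
  (255133, 7, 36287, 2),
  (255135, 7, 64555, 43),
  (255137, 7, 104746, 20),
  (255139, 7, 79117, 24),
  (255149, 8, 212351, 23),
  (255151, 7, 126363, 26),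
  (255167, 8, 64549, 43),
  (255171, 7, 118870, 21),
  (255185, 7, 108734, 21),
  (255197, 8, 193767, 13),
  (255199, 7, 213343, 16),
  (255203, 7, 137623, 24),
  (255217, 7, 106686, 21),
  (255219, 7, 172091, 22),
  (255231, 7, 213375, 16),
  (255235, 7, 235878, 20),
  (255249, 7, 129166, 21),
  (255251, 7, 185403, 22),
  (255263, 7, 163275, 11),
  (255265, 6, 159077, 26),
  (255267, 7, 173417, 22),
  (255277, 7, 155129, 11),
  (255279, 7, 212333, 26),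
  (255281, 7, 127118, 21),
  (255295, 8, 236737, 41),
  (255299, 6, 136343, 24),
  (255309, 8, 236877, 41),
  (255311, 7, 193719, 6),
  (255315, 7, 59534, 21),
  (255327, 8, 243875, 23),
  (255331, 7, 236014, 20),
  (255343, 7, 36345, 1),
  (255347, 7, 252366, 20),
  (255359, 8, 169143, 6),
  (255361, 7, 104802, 20),
  (255363, 7, 114814, 21),
  (255373, 7, 38397, 3),
  (255375, 7, 244195, 22),
  (255377, 7, 121154, 20),
  (255379, 7, 212361, 24),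
  (255389, 8, 97735, 8),
  (255393, 6, 51450, 21),
  (255395, 7, 116858, 21),
  (255405, 7, 220537, 11),
  (255421, 7, 213119, 22),
  (255427, 6, 192835, 22),
  (255439, 7, 90463, 16),
  (255443, 7, 121286, 20),
  (255469, 8, 64531, 43),
  (255473, 6, 25959, 26),
  (255475, 7, 121294, 20),
  (255485, 7, 39359, 9),
  (256001, 7, 76238, 19),
  (256002, 5, 251, 22),
  (256005, 6, 196923, 22),
  (256015, 7, 64529, 44),
  (256017, 7, 100601, 23),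
  (256018, 6, 128251, 22),
  (256038, 5, 147702, 11),
  (256047, 8, 236877, 40),
  (256049, 6, 127037, 23),
  (256050, 6, 205030, 4),
  (256054, 6, 155878, 11),
  (256059, 7, 62903, 12),
  (256070, 6, 90598, 17),
  (256079, 7, 90607, 17),
  (256081, 7, 220199, 24),
  (256082, 6, 74102, 1),
  (256085, 7, 100698, 19),
  (256095, 8, 163065, 5),
  (256097, 7, 63826, 21),
  (256098, 7, 17625, 22),
  (256101, 6, 50633, 20),
  (256102, 5, 74214, 17),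
  (256111, 7, 126425, 2),
  (256113, 7, 116791, 25),
  (256114, 6, 205102, 21),
  (256117, 7, 41262, 21),
  (256123, 7, 250943, 23),
  (256127, 7, 39351, 6),
  (256129, 7, 114909, 23),
  (256130, 5, 147702, 4),
  (256133, 7, 180318, 21),
  (256134, 6, 213150, 21),
  (256139, 8, 128263, 12),
  (256146, 6, 155878, 4),
  (256149, 7, 47422, 21),
  (256155, 7, 235959, 14),
  (256159, 8, 255185, 39),
  (256161, 7, 108958, 19),
  (256166, 6, 213110, 11),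
  (256177, 7, 176446, 21),
  (256182, 7, 78142, 21),
  (256194, 5, 74214, 1),
  (256198, 6, 25062, 17),
  (256203, 8, 236747, 40),
  (256209, 6, 93395, 25),
  (256219, 7, 236685, 40),
  (256223, 7, 36345, 2),
  (256225, 7, 60627, 25),
  (256229, 7, 80202, 19),
  (256235, 7, 128359, 12),
  (256239, 8, 220497, 22),
  (256242, 6, 205118, 21),
  (256245, 7, 41278, 21),
  (256246, 6, 74046, 21),
  (256251, 8, 236737, 40),
  (256255, 8, 52697, 2),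
  (256257, 7, 10702, 19),
  (256262, 6, 147926, 11),
  (256267, 8, 257357, 26),
  (256273, 7, 194830, 21),
  (256274, 7, 227598, 21),
  (256283, 8, 251135, 22),
  (256289, 7, 59770, 21),
  (256299, 7, 36287, 1),
  (256305, 6, 14806, 19),
  (256306, 6, 213110, 13),
  (256310, 6, 74102, 2),
  (256315, 7, 193719, 12),
  (256319, 8, 64531, 44),
  (256325, 7, 104922, 19),
  (256326, 6, 90187, 22),
  (256331, 8, 158155, 22),
  (256337, 7, 44367, 26),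
  (256338, 6, 25062, 10),
  (256341, 7, 21993, 20),
  (256342, 6, 38139, 22),
  (256347, 7, 244195, 23),
  (256353, 7, 141534, 19),
  (256357, 6, 93285, 25),
  (256358, 6, 205030, 17),
  (256363, 7, 220533, 25),
  (256367, 7, 205039, 17),
  (256369, 7, 145622, 19),
  (256374, 6, 147926, 8),
  (256389, 7, 203226, 19),
  (256390, 6, 213182, 21),
  (256395, 7, 39419, 3),
  (256399, 8, 126301, 16),
  (256402, 6, 213206, 13),
  (256405, 7, 199130, 19),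
  (256417, 7, 51578, 21),
  (256418, 7, 186789, 20),
  (256422, 5, 74214, 2),
  (256427, 8, 243053, 5),
  (256434, 6, 213238, 13),
  (256437, 6, 106621, 23),
  (256443, 7, 155871, 25),
  (256447, 7, 7675, 9),
  (256449, 6, 127173, 23),
  (256450, 6, 205030, 1),
  (256454, 6, 155878, 17),
  (256459, 7, 64555, 44),
  (256463, 7, 155887, 17),
  (256466, 6, 90470, 10),
  (256469, 7, 200743, 24),
  (256475, 8, 64549, 44),
  (256479, 7, 155903, 17),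
  (256481, 7, 100413, 23),
  (256482, 7, 234833, 19),
  (256485, 7, 186482, 21),
  (256501, 7, 57630, 21),
  (256502, 6, 139510, 17),
  (257037, 7, 105857, 43),
  (257053, 7, 220531, 21),
  (257055, 8, 240745, 15),
  (257067, 8, 128407, 26),
  (257069, 7, 56439, 41),
  (257081, 8, 242871, 26),
  (257083, 7, 7667, 6),
  (257087, 7, 254009, 42),
  (257097, 7, 254025, 42),
  (257101, 7, 163051, 5),
  (257103, 7, 205039, 23),
  (257113, 8, 105709, 43),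
  (257129, 8, 183705, 22),
  (257133, 8, 48237, 40),
  (257135, 8, 259415, 14),
  (257163, 7, 171469, 44),
  (257179, 7, 254307, 42),
  (257183, 7, 225489, 39),
  (257193, 8, 81265, 6),
  (257197, 7, 225563, 39),
  (257213, 7, 155903, 22),
  (257229, 7, 90575, 23),
  (257241, 7, 254313, 42),
  (257243, 7, 225427, 39),
  (257261, 7, 254227, 42),
  (257263, 7, 129423, 10),
  (257275, 7, 222289, 37),
  (257289, 7, 155129, 25),
  (257291, 7, 241005, 26),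
  (257311, 8, 225505, 39),
  (257321, 7, 240877, 17),
  (257323, 7, 36285, 1),
  (257325, 8, 222323, 37),
  (257327, 7, 225633, 39),
  (257337, 8, 228443, 10),
  (257339, 7, 48181, 40),
  (257341, 7, 105865, 43),
  (257343, 7, 244135, 13),
  (257353, 7, 244135, 7),
  (257355, 7, 105803, 43),
  (257357, 7, 48175, 40),
  (257359, 8, 169143, 24),
  (257369, 7, 205167, 15),
  (257385, 7, 254169, 42),
  (257387, 7, 36349, 1),
  (257389, 8, 48227, 40),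
  (257391, 7, 128343, 14),
  (257403, 7, 244195, 13),
  (257407, 7, 81255, 26),
  (257439, 8, 241129, 15),
  (257449, 8, 130453, 14),
  (257453, 8, 241023, 23),
  (257455, 8, 109951, 23),
  (257465, 7, 213247, 22),
  (257469, 7, 97763, 8),
  (257471, 7, 225777, 39),
  (257481, 7, 225401, 39),
  (257483, 7, 56403, 41),
  (257487, 8, 243887, 10),
  (257497, 7, 205295, 15),
  (257501, 7, 128359, 26),
  (257515, 8, 194779, 25),
  (257517, 7, 225413, 39),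
  (257533, 7, 39355, 9),
  (258057, 6, 131391, 22),
  (258063, 7, 258057, 42),
  (258065, 7, 258306, 20),
  (258066, 6, 205271, 24),
  (258068, 6, 74108, 10),
  (258073, 7, 47151, 21),
  (258074, 7, 258324, 20),
  (258076, 7, 145455, 21),
  (258079, 8, 121965, 43),
  (258082, 6, 147706, 11),
  (258087, 8, 200189, 22),
  (258095, 8, 258289, 39),
  (258097, 6, 94271, 23),
  (258098, 6, 205178, 2),
  (258100, 6, 90460, 10),
  (258103, 8, 184479, 19),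
  (258105, 7, 184508, 19),
  (258111, 8, 258497, 39),
  (258113, 6, 8663, 26),
  (258119, 7, 258057, 39),
  (258121, 7, 138439, 24),
  (258129, 7, 258434, 20),
  (258130, 6, 240711, 24),
  (258132, 6, 248903, 24),
  (258135, 7, 205295, 3),
  (258137, 7, 192956, 19),
  (258140, 7, 192954, 19),
  (258145, 7, 84327, 25),
  (258146, 6, 204922, 12),
  (258148, 6, 204924, 12),
  (258159, 7, 249149, 8),
  (258169, 6, 237591, 26),
  (258170, 6, 90458, 1),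
  (258172, 6, 82396, 11),
  (258175, 8, 184767, 19),
  (258180, 6, 74220, 10),
  (258183, 8, 28155, 26),
  (258185, 7, 116167, 25),
  (258186, 6, 156106, 15),
  (258188, 6, 156108, 15),
  (258202, 6, 156122, 15),
  (258204, 6, 156124, 15),
  (258209, 7, 110890, 20),
  (258210, 6, 213114, 11),
  (258212, 6, 90572, 10),
  (258215, 8, 130351, 12),
  (258217, 7, 110906, 20),
  (258220, 6, 74108, 6),
  (258231, 7, 240765, 5),
  (258239, 8, 158939, 7),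
  (258247, 8, 258289, 42),
  (258255, 7, 97747, 4),
  (258258, 6, 213242, 12),
  (258260, 6, 213244, 12),
  (258273, 7, 184788, 19),
  (258274, 6, 147930, 3),
  (258281, 7, 111034, 20),
  (258282, 5, 196986, 10),
  (258284, 5, 25052, 11),
  (258287, 8, 111039, 20),
  (258289, 7, 69695, 23),
  (258290, 6, 196858, 12),
  (258292, 6, 196860, 12),
  (258298, 6, 205162, 10),
  (258303, 8, 28107, 25),
  (258305, 7, 258068, 19),
  (258306, 6, 147930, 11),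
  (258308, 6, 155967, 21),
  (258313, 7, 242034, 20),
  (258314, 6, 97295, 21),
  (258316, 6, 162831, 21),
  (258319, 7, 205295, 22),
  (258321, 7, 154683, 22),
  (258322, 6, 156106, 11),
  (258324, 6, 204924, 10),
  (258327, 8, 259501, 13),
  (258330, 6, 147706, 6),
  (258335, 7, 191647, 12),
  (258346, 6, 90602, 15),
  (258348, 6, 90604, 15),
  (258353, 7, 249884, 19),
  (258356, 7, 249882, 19),
  (258361, 7, 258394, 20),
  (258362, 7, 258396, 20),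
  (258364, 7, 25725, 23),
  (258367, 8, 258129, 39),
  (258369, 7, 169159, 24),
  (258370, 7, 173255, 24),
  (258372, 7, 258322, 19),
  (258375, 8, 121965, 41),
  (258377, 7, 242162, 20),
  (258378, 7, 242164, 20),
  (258388, 6, 74220, 3),
  (258391, 7, 212327, 15),
  (258393, 7, 183461, 25),
  (258394, 6, 25066, 10),
  (258396, 6, 196860, 11),
  (258399, 8, 126221, 8),
  (258402, 6, 205178, 12),
  (258404, 6, 205180, 12),
  (258417, 7, 258506, 20),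
  (258418, 5, 196986, 12),
  (258420, 5, 196988, 12),
  (258423, 7, 90575, 3),
  (258425, 7, 11719, 26),
  (258426, 6, 90127, 21),
  (258428, 6, 213212, 11),
  (258433, 6, 246215, 25),
  (258434, 6, 213338, 11),
  (258436, 6, 156124, 1),
  (258439, 8, 110951, 20),
  (258449, 7, 127298, 20),
  (258450, 7, 127300, 20),
  (258457, 7, 127314, 20),
  (258458, 5, 25050, 15),
  (258460, 5, 25052, 15),
  (258463, 7, 90575, 25),
  (258471, 7, 163275, 7),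
  (258473, 7, 49607, 25),
  (258474, 6, 25066, 15),
  (258476, 6, 25068, 15),
  (258481, 7, 249948, 19),
  (258489, 6, 149567, 22),
  (258495, 7, 258489, 42),
  (258497, 7, 258388, 19),
  (258503, 8, 258497, 42),
  (258505, 6, 160007, 22),
  (258506, 6, 82298, 10),
  (258508, 6, 213340, 2),
  (258511, 8, 111095, 20),
  (258513, 7, 258396, 19),
  (258514, 7, 116167, 26),
  (258516, 7, 258394, 19),
  (258519, 8, 258129, 42),
  (258521, 7, 134207, 22),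
  (258522, 6, 90474, 10),
  (258524, 6, 213063, 24),
  (258535, 8, 208237, 5),
  (258540, 6, 155868, 11),
  (258543, 8, 199805, 23),
  (258545, 6, 75207, 26),
  (258551, 7, 258489, 39),
  (259079, 7, 254025, 37),
  (259101, 7, 171469, 43),
  (259111, 8, 105709, 40),
  (259127, 7, 254313, 37),
  (259133, 7, 254307, 37),
  (259135, 7, 225427, 38),
  (259141, 7, 105857, 40),
  (259143, 7, 244135, 20),
  (259151, 7, 90463, 26),
  (259159, 7, 155871, 26),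
  (259173, 7, 244139, 20),
  (259181, 8, 128263, 10),
  (259197, 7, 225489, 38),
  (259205, 7, 235959, 22),
  (259207, 7, 126425, 4),
  (259213, 7, 128455, 25),
  (259215, 7, 105803, 40),
  (259223, 7, 225401, 38),
  (259231, 7, 56403, 44),
  (259239, 7, 90575, 10),
  (259255, 7, 90591, 10),
  (259271, 7, 48175, 41),
  (259279, 8, 73081, 19),
  (259295, 8, 126301, 12),
  (259309, 8, 225505, 38),
  (259319, 7, 163275, 25),
  (259325, 8, 128407, 10),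
  (259335, 8, 234677, 23),
  (259341, 8, 163065, 25),
  (259349, 8, 63907, 1),
  (259365, 8, 97657, 25),
  (259373, 7, 39355, 1),
  (259391, 7, 222289, 39),
  (259397, 7, 56439, 44),
  (259399, 8, 48237, 41),
  (259407, 8, 228587, 17),
  (259413, 7, 225563, 38),
  (259415, 7, 254227, 37),
  (259423, 7, 191709, 12),
  (259437, 7, 254009, 37),
  (259445, 7, 213375, 23),
  (259461, 7, 128343, 16),
  (259463, 7, 254169, 37),
  (259469, 7, 38389, 3),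
  (259471, 7, 38391, 3),
  (259477, 8, 195825, 17),
  (259487, 8, 248895, 22),
  (259493, 8, 260143, 12),
  (259501, 7, 48181, 41),
  (259503, 7, 126363, 14),
  (259509, 7, 205183, 23),
  (259525, 8, 222323, 39),
  (259527, 8, 48227, 41),
  (259533, 7, 225633, 38),
  (259535, 7, 163051, 17),
  (259541, 8, 128495, 26),
  (259543, 7, 225413, 38),
  (259549, 8, 62959, 26),
  (259557, 7, 105865, 40),
  (259565, 7, 126425, 14),
  (259567, 7, 63947, 25),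
  (259573, 7, 129483, 20),
  (259575, 7, 36285, 9),
  (259581, 7, 225777, 38),
  (260103, 7, 254025, 38),
  (260107, 7, 105857, 44),
  (260111, 7, 128343, 4),
  (260119, 8, 63907, 25),
  (260123, 7, 56439, 40),
  (260127, 8, 48237, 43),
  (260131, 7, 62903, 26),
  (260135, 7, 126425, 20),
  (260143, 7, 48175, 43),
  (260147, 7, 126425, 21),
  (260151, 7, 254169, 38),
  (260155, 8, 222323, 42),
  (260159, 8, 48227, 43),
  (260175, 7, 213343, 22),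
  (260179, 8, 241129, 23),
  (260191, 8, 257261, 13),
  (260195, 7, 251967, 23),
  (260199, 7, 105803, 44),
  (260207, 8, 52697, 20),
  (260211, 7, 39355, 6),
  (260215, 7, 39359, 6),
  (260219, 7, 225633, 37),
  (260223, 7, 240877, 13),
  (260231, 8, 105709, 44),
  (260235, 7, 193781, 19),
  (260243, 8, 249305, 23),
  (260263, 7, 213119, 11),
  (260275, 8, 259271, 15),
  (260283, 7, 105865, 44),
  (260299, 8, 251927, 11),
  (260307, 7, 38389, 2),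
  (260315, 7, 254009, 38),
  (260331, 8, 225505, 37),
  (260339, 7, 48181, 43),
  (260343, 7, 220533, 16),
  (260347, 7, 220537, 16),
  (260351, 7, 234621, 23),
  (260367, 7, 205167, 22),
  (260371, 8, 234677, 2),
  (260379, 7, 225563, 37),
  (260383, 7, 254227, 38),
  (260391, 7, 225401, 37),
  (260403, 8, 245161, 13),
  (260411, 8, 252159, 22),
  (260415, 7, 225413, 37),
  (260419, 7, 171469, 41),
  (260447, 7, 212331, 15),
  (260455, 7, 56403, 40),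
  (260463, 8, 220507, 15),
  (260471, 8, 97735, 26),
  (260475, 8, 235775, 22),
  (260487, 7, 254313, 38),
  (260507, 7, 90591, 25),
  (260519, 7, 213375, 11),
  (260527, 7, 240765, 23),
  (260531, 7, 156127, 25),
  (260539, 7, 243061, 5),
  (260543, 7, 7667, 9),
  (260547, 7, 254307, 38),
  (260551, 7, 225427, 37),
  (260555, 7, 225489, 37),
  (260567, 7, 222289, 42),
  (260587, 8, 252215, 11),
  (260603, 7, 225777, 37),
  (261123, 8, 126301, 4),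
  (261125, 8, 220507, 8),
  (261129, 8, 193767, 5),
  (261131, 7, 213343, 8),
  (261133, 7, 205039, 7),
  (261135, 8, 206061, 7),
  (261137, 8, 241129, 3),
  (261153, 8, 128407, 2),
  (261163, 7, 213375, 8),
  (261167, 8, 96583, 10),
  (261169, 7, 7673, 6),
  (261171, 7, 7675, 6),
  (261175, 7, 194747, 22),
  (261185, 8, 243887, 7),
  (261187, 7, 155887, 5),
  (261189, 7, 90463, 4),
  (261191, 8, 206061, 23),
  (261195, 8, 246047, 8),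
  (261197, 8, 246047, 22),
  (261199, 8, 246111, 22),
  (261203, 7, 155903, 5),
  (261211, 8, 210029, 15),
  (261213, 8, 155103, 16),
  (261215, 8, 54781, 20),
  (261223, 8, 235775, 13),
  (261231, 8, 138743, 24),
  (261241, 7, 251967, 25),
  (261245, 7, 36285, 6),
  (261247, 7, 36287, 6),
  (261249, 8, 252215, 1),
  (261263, 8, 62959, 17),
  (261265, 7, 38327, 2),
  (261271, 7, 163035, 26),
  (261279, 7, 39355, 2),
  (261287, 9, 113023, 23),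
  (261291, 7, 212331, 19),
  (261293, 7, 126365, 19),
  (261297, 8, 52697, 21),
  (261305, 7, 97747, 10),
  (261309, 7, 155871, 7),
  (261317, 7, 90591, 4),
  (261319, 8, 246815, 11),
  (261327, 8, 138743, 3),
  (261329, 7, 38391, 2),
  (261337, 7, 97747, 25),
  (261343, 7, 39419, 2)]

theorem chk_rows1_28 : rows1_28.all (rowBP1 tr1 bm1 gensLitP gensListP 1) = true := by decide +kernel

/-- Rows 23200 to 23255. -/
def rows1_29 : List (ℕ × ℕ × ℕ × ℕ) := [(261347, 7, 220531, 20),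
  (261349, 7, 191709, 20),
  (261353, 8, 185749, 22),
  (261361, 7, 126363, 10),
  (261375, 8, 243053, 1),
  (261377, 8, 163065, 6),
  (261389, 7, 205295, 7),
  (261399, 8, 60841, 25),
  (261403, 7, 244139, 24),
  (261405, 7, 129423, 21),
  (261409, 7, 39351, 1),
  (261415, 7, 241005, 22),
  (261417, 7, 39359, 1),
  (261425, 8, 47527, 1),
  (261427, 7, 193725, 12),
  (261429, 7, 194747, 12),
  (261451, 8, 109951, 14),
  (261453, 8, 190667, 12),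
  (261455, 8, 54781, 1),
  (261459, 7, 250999, 24),
  (261461, 7, 193781, 21),
  (261465, 9, 204031, 22),
  (261479, 7, 38389, 1),
  (261481, 7, 249149, 23),
  (261487, 7, 38397, 1),
  (261493, 7, 213119, 4),
  (261503, 8, 97735, 3),
  (261505, 7, 36345, 3),
  (261509, 7, 36349, 3),
  (261511, 7, 243173, 26),
  (261521, 8, 47527, 19),
  (261523, 7, 243173, 15),
  (261525, 7, 244195, 15),
  (261531, 7, 90575, 8),
  (261537, 8, 52697, 3),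
  (261545, 7, 220533, 11),
  (261553, 8, 47543, 19),
  (261555, 8, 178603, 13),
  (261557, 8, 177397, 17),
  (261561, 8, 118173, 14),
  (261563, 7, 90607, 8),
  (261565, 7, 156127, 7),
  (261567, 8, 251125, 4),
  (261577, 7, 128455, 23),
  (261579, 7, 7667, 3),
  (261583, 7, 7671, 3),
  (261599, 8, 248895, 6),
  (261601, 7, 249149, 11),
  (261603, 7, 205167, 5),
  (261615, 8, 194779, 2),
  (261617, 8, 89459, 16),
  (261619, 7, 205183, 5),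
  (261621, 7, 213247, 4),
  (261623, 8, 129451, 8),
  (261627, 8, 191901, 7),
  (261629, 8, 212339, 5)]

theorem chk_rows1_29 : rows1_29.all (rowBP1 tr1 bm1 gensLitP gensListP 1) = true := by decide +kernel

/-- All rows of the first table. -/
def rows1 : List (ℕ × ℕ × ℕ × ℕ) :=
  rows1_0 ++ rows1_1 ++ rows1_2 ++ rows1_3 ++ rows1_4 ++ rows1_5 ++ rows1_6 ++ rows1_7 ++ rows1_8 ++ rows1_9 ++ rows1_10 ++ rows1_11 ++ rows1_12 ++ rows1_13 ++ rows1_14 ++ rows1_15 ++ rows1_16 ++ rows1_17 ++ rows1_18 ++ rows1_19 ++ rows1_20 ++ rows1_21 ++ rows1_22 ++ rows1_23 ++ rows1_24 ++ rows1_25 ++ rows1_26 ++ rows1_27 ++ rows1_28 ++ rows1_29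

theorem chk_rows1 : ∀ r ∈ rows1, rowBP1 tr1 bm1 gensLitP gensListP 1 r = true := by
  intro r hr
  unfold rows1 at hr
  simp only [List.mem_append, or_assoc] at hr
  rcases hr with hr | hr | hr | hr | hr | hr | hr | hr | hr | hr | hr | hr | hr | hr | hr | hr | hr | hr | hr | hr | hr | hr | hr | hr | hr | hr | hr | hr | hr | hr
  · exact List.all_eq_true.mp chk_rows1_0 r hr
  · exact List.all_eq_true.mp chk_rows1_1 r hr
  · exact List.all_eq_true.mp chk_rows1_2 r hr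
  · exact List.all_eq_true.mp chk_rows1_3 r hr
  · exact List.all_eq_true.mp chk_rows1_4 r hr
  · exact List.all_eq_true.mp chk_rows1_5 r hr
  · exact List.all_eq_true.mp chk_rows1_6 r hr
  · exact List.all_eq_true.mp chk_rows1_7 r hr
  · exact List.all_eq_true.mp chk_rows1_8 r hr
  · exact List.all_eq_true.mp chk_rows1_9 r hr
  · exact List.all_eq_true.mp chk_rows1_10 r hr
  · exact List.all_eq_true.mp chk_rows1_11 r hr
  · exact List.all_eq_true.mp chk_rows1_12 r hr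
  · exact List.all_eq_true.mp chk_rows1_13 r hr
  · exact List.all_eq_true.mp chk_rows1_14 r hr
  · exact List.all_eq_true.mp chk_rows1_15 r hr
  · exact List.all_eq_true.mp chk_rows1_16 r hr
  · exact List.all_eq_true.mp chk_rows1_17 r hr
  · exact List.all_eq_true.mp chk_rows1_18 r hr
  · exact List.all_eq_true.mp chk_rows1_19 r hr
  · exact List.all_eq_true.mp chk_rows1_20 r hr
  · exact List.all_eq_true.mp chk_rows1_21 r hr
  · exact List.all_eq_true.mp chk_rows1_22 r hr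
  · exact List.all_eq_true.mp chk_rows1_23 r hr
  · exact List.all_eq_true.mp chk_rows1_24 r hr
  · exact List.all_eq_true.mp chk_rows1_25 r hr
  · exact List.all_eq_true.mp chk_rows1_26 r hr
  · exact List.all_eq_true.mp chk_rows1_27 r hr
  · exact List.all_eq_true.mp chk_rows1_28 r hr
  · exact List.all_eq_true.mp chk_rows1_29 r hr

theorem tr1_toList : tr1.toList = rows1.map (fun r => (r.1, r.2.1)) := by decide +kernel

theorem rows1_incr : isIncr3 (rows1.map (fun r => r.1)) = true := by decide +kernel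

theorem rows1_length : rows1.length = 23256 := by decide +kernel

theorem tr1_root : tr1.get 1 = 1 := by decide +kernel

theorem bm1_eq : bm1 = bmOf (rows1.map (fun r => r.1)) := by decide +kernel

end Cfsg.Agent.Lib.Helper77.J3
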