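import Cfsg.Agent.Lib.Helper77.J3OrbD0

set_option autoImplicit false
set_option linter.style.haveILetI false
set_option maxRecDepth 100000
set_option Elab.async false

/-! The orbit table of the 43605 isotropic lines under the triple cover of J3 (generated by a
script, checked by the kernel). -/

namespace Cfsg.Agent.Lib.Helper77.J3

/-- A subtree. -/
def tr2_s0 : Tr := (Tr.node (Tr.node (Tr.node (Tr.node (Tr.node (Tr.node (Tr.node (Tr.node (Tr.node (Tr.node Tr.leaf 3 2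
 Tr.leaf) 5 2
 Tr.leaf) 6 1
 (Tr.node (Tr.node Tr.leaf 9 1
 Tr.leaf) 10 2
 Tr.leaf)) 12 2
 (Tr.node (Tr.node (Tr.node Tr.leaf 15 2
 Tr.leaf) 17 2
 Tr.leaf) 18 2
 (Tr.node Tr.leaf 20 3
 Tr.leaf))) 23 3
 (Tr.node (Tr.node (Tr.node (Tr.node Tr.leaf 24 3
 Tr.leaf) 27 4
 Tr.leaf) 29 6
 (Tr.node (Tr.node Tr.leaf 30 6
 Tr.leaf) 33 2
 Tr.leaf)) 34 3
 (Tr.node (Tr.node (Tr.node Tr.leaf 36 2
 Tr.leaf) 39 3
 Tr.leaf) 40 3
 (Tr.node Tr.leaf 43 6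
 Tr.leaf)))) 45 4
 (Tr.node (Tr.node (Tr.node (Tr.node (Tr.node Tr.leaf 46 6
 Tr.leaf) 48 2
 Tr.leaf) 51 6
 (Tr.node (Tr.node Tr.leaf 53 6
 Tr.leaf) 54 4
 Tr.leaf)) 57 3
 (Tr.node (Tr.node (Tr.node Tr.leaf 58 4
 Tr.leaf) 60 4
 Tr.leaf) 63 4
 (Tr.node Tr.leaf 65 1
 Tr.leaf))) 66 2
 (Tr.node (Tr.node (Tr.node (Tr.node Tr.leaf 68 2
 Tr.leaf) 71 2
 Tr.leaf) 72 0
 (Tr.node Tr.leaf 75 2
 Tr.leaf)) 77 2
 (Tr.node (Tr.node (Tr.node Tr.leaf 78 3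
 Tr.leaf) 80 3
 Tr.leaf) 83 6
 (Tr.node Tr.leaf 85 3
 Tr.leaf))))) 86 4
 (Tr.node (Tr.node (Tr.node (Tr.node (Tr.node (Tr.node Tr.leaf 89 3
 Tr.leaf) 90 6
 Tr.leaf) 92 4
 (Tr.node (Tr.node Tr.leaf 95 6
 Tr.leaf) 96 3
 Tr.leaf)) 99 3
 (Tr.node (Tr.node (Tr.node Tr.leaf 101 6
 Tr.leaf) 102 4
 Tr.leaf) 105 3
 (Tr.node Tr.leaf 106 4
 Tr.leaf))) 108 6
 (Tr.node (Tr.node (Tr.node (Tr.node Tr.leaf 111 6
 Tr.leaf) 113 4
 Tr.leaf) 114 4
 (Tr.node (Tr.node Tr.leaf 116 4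
 Tr.leaf) 119 5
 Tr.leaf)) 120 3
 (Tr.node (Tr.node (Tr.node Tr.leaf 123 6
 Tr.leaf) 125 6
 Tr.leaf) 126 6
 (Tr.node Tr.leaf 129 2
 Tr.leaf)))) 130 2
 (Tr.node (Tr.node (Tr.node (Tr.node (Tr.node Tr.leaf 132 3
 Tr.leaf) 135 3
 Tr.leaf) 136 3
 (Tr.node (Tr.node Tr.leaf 139 6
 Tr.leaf) 141 3
 Tr.leaf)) 142 4
 (Tr.node (Tr.node (Tr.node Tr.leaf 144 1
 Tr.leaf) 147 3
 Tr.leaf) 149 4
 (Tr.node Tr.leaf 150 3
 Tr.leaf))) 153 6
 (Tr.node (Tr.node (Tr.node (Tr.node Tr.leaf 154 4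
 Tr.leaf) 156 4
 Tr.leaf) 159 6
 (Tr.node Tr.leaf 160 1
 Tr.leaf)) 163 3
 (Tr.node (Tr.node (Tr.node Tr.leaf 165 3
 Tr.leaf) 166 6
 Tr.leaf) 169 3
 (Tr.node Tr.leaf 170 4
 Tr.leaf)))))) 172 3
 (Tr.node (Tr.node (Tr.node (Tr.node (Tr.node (Tr.node (Tr.node Tr.leaf 175 4
 Tr.leaf) 177 2
 Tr.leaf) 178 4
 (Tr.node (Tr.node Tr.leaf 180 6
 Tr.leaf) 183 4
 Tr.leaf)) 184 4
 (Tr.node (Tr.node (Tr.node Tr.leaf 187 5
 Tr.leaf) 189 6
 Tr.leaf) 190 3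
 (Tr.node Tr.leaf 192 3
 Tr.leaf))) 195 4
 (Tr.node (Tr.node (Tr.node (Tr.node Tr.leaf 197 6
 Tr.leaf) 198 6
 Tr.leaf) 201 3
 (Tr.node (Tr.node Tr.leaf 202 6
 Tr.leaf) 204 4
 Tr.leaf)) 207 6
 (Tr.node (Tr.node (Tr.node Tr.leaf 209 6
 Tr.leaf) 210 4
 Tr.leaf) 212 4
 (Tr.node Tr.leaf 215 6
 Tr.leaf)))) 216 4
 (Tr.node (Tr.node (Tr.node (Tr.node (Tr.node Tr.leaf 219 4
 Tr.leaf) 221 5
 Tr.leaf) 222 6
 (Tr.node (Tr.node Tr.leaf 225 3
 Tr.leaf) 226 3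
 Tr.leaf)) 228 4
 (Tr.node (Tr.node (Tr.node Tr.leaf 231 4
 Tr.leaf) 232 6
 Tr.leaf) 235 4
 (Tr.node Tr.leaf 237 4
 Tr.leaf))) 238 6
 (Tr.node (Tr.node (Tr.node (Tr.node Tr.leaf 240 6
 Tr.leaf) 243 6
 Tr.leaf) 245 4
 (Tr.node Tr.leaf 246 3
 Tr.leaf)) 249 4
 (Tr.node (Tr.node (Tr.node Tr.leaf 250 3
 Tr.leaf) 252 3
 Tr.leaf) 255 5
 (Tr.node Tr.leaf 257 2
 Tr.leaf))))) 258 3
 (Tr.node (Tr.node (Tr.node (Tr.node (Tr.node (Tr.node Tr.leaf 260 2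
 Tr.leaf) 263 3
 Tr.leaf) 264 3
 (Tr.node (Tr.node Tr.leaf 267 3
 Tr.leaf) 269 6
 Tr.leaf)) 270 4
 (Tr.node (Tr.node (Tr.node Tr.leaf 272 1
 Tr.leaf) 275 3
 Tr.leaf) 277 3
 (Tr.node Tr.leaf 278 6
 Tr.leaf))) 281 3
 (Tr.node (Tr.node (Tr.node (Tr.node Tr.leaf 282 3
 Tr.leaf) 284 4
 Tr.leaf) 287 4
 (Tr.node Tr.leaf 288 1
 Tr.leaf)) 291 4
 (Tr.node (Tr.node (Tr.node Tr.leaf 293 3
 Tr.leaf) 294 3
 Tr.leaf) 297 6
 (Tr.node Tr.leaf 298 4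
 Tr.leaf)))) 300 4
 (Tr.node (Tr.node (Tr.node (Tr.node (Tr.node Tr.leaf 303 6
 Tr.leaf) 305 2
 Tr.leaf) 306 6
 (Tr.node (Tr.node Tr.leaf 308 4
 Tr.leaf) 311 4
 Tr.leaf)) 312 4
 (Tr.node (Tr.node (Tr.node Tr.leaf 315 6
 Tr.leaf) 317 5
 Tr.leaf) 318 3
 (Tr.node Tr.leaf 320 3
 Tr.leaf))) 323 6
 (Tr.node (Tr.node (Tr.node (Tr.node Tr.leaf 325 4
 Tr.leaf) 326 6
 Tr.leaf) 329 3
 (Tr.node Tr.leaf 330 4
 Tr.leaf)) 332 6
 (Tr.node (Tr.node (Tr.node Tr.leaf 335 6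
 Tr.leaf) 337 3
 Tr.leaf) 338 4
 (Tr.node Tr.leaf 340 3
 Tr.leaf))))))) 343 4
 (Tr.node (Tr.node (Tr.node (Tr.node (Tr.node (Tr.node (Tr.node (Tr.node Tr.leaf 344 6
 Tr.leaf) 347 4
 Tr.leaf) 349 4
 (Tr.node (Tr.node Tr.leaf 350 6
 Tr.leaf) 353 6
 Tr.leaf)) 354 4
 (Tr.node (Tr.node (Tr.node Tr.leaf 356 4
 Tr.leaf) 359 6
 Tr.leaf) 360 4
 (Tr.node Tr.leaf 363 5
 Tr.leaf))) 365 4
 (Tr.node (Tr.node (Tr.node (Tr.node Tr.leaf 366 6
 Tr.leaf) 368 6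
 Tr.leaf) 371 4
 (Tr.node (Tr.node Tr.leaf 373 6
 Tr.leaf) 374 3
 Tr.leaf)) 377 4
 (Tr.node (Tr.node (Tr.node Tr.leaf 378 3
 Tr.leaf) 380 3
 Tr.leaf) 383 5
 (Tr.node Tr.leaf 384 2
 Tr.leaf)))) 387 6
 (Tr.node (Tr.node (Tr.node (Tr.node (Tr.node Tr.leaf 389 6
 Tr.leaf) 390 4
 Tr.leaf) 393 4
 (Tr.node (Tr.node Tr.leaf 394 4
 Tr.leaf) 396 4
 Tr.leaf)) 399 5
 (Tr.node (Tr.node (Tr.node Tr.leaf 401 2
 Tr.leaf) 402 4
 Tr.leaf) 404 6
 (Tr.node Tr.leaf 407 4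
 Tr.leaf))) 408 6
 (Tr.node (Tr.node (Tr.node (Tr.node Tr.leaf 411 6
 Tr.leaf) 413 4
 Tr.leaf) 414 3
 (Tr.node Tr.leaf 417 2
 Tr.leaf)) 418 6
 (Tr.node (Tr.node (Tr.node Tr.leaf 420 4
 Tr.leaf) 423 4
 Tr.leaf) 424 6
 (Tr.node Tr.leaf 427 4
 Tr.leaf))))) 429 6
 (Tr.node (Tr.node (Tr.node (Tr.node (Tr.node (Tr.node Tr.leaf 430 3
 Tr.leaf) 432 3
 Tr.leaf) 435 6
 (Tr.node (Tr.node Tr.leaf 437 6
 Tr.leaf) 438 6
 Tr.leaf)) 441 6
 (Tr.node (Tr.node (Tr.node Tr.leaf 442 6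
 Tr.leaf) 444 6
 Tr.leaf) 447 5
 (Tr.node Tr.leaf 449 3
 Tr.leaf))) 450 4
 (Tr.node (Tr.node (Tr.node (Tr.node Tr.leaf 452 4
 Tr.leaf) 455 4
 Tr.leaf) 456 3
 (Tr.node Tr.leaf 459 6
 Tr.leaf)) 461 6
 (Tr.node (Tr.node (Tr.node Tr.leaf 462 6
 Tr.leaf) 464 4
 Tr.leaf) 467 5
 (Tr.node Tr.leaf 469 6
 Tr.leaf)))) 470 3
 (Tr.node (Tr.node (Tr.node (Tr.node (Tr.node Tr.leaf 473 4
 Tr.leaf) 474 3
 Tr.leaf) 476 3
 (Tr.node (Tr.node Tr.leaf 479 5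
 Tr.leaf) 480 4
 Tr.leaf)) 483 6
 (Tr.node (Tr.node (Tr.node Tr.leaf 485 5
 Tr.leaf) 486 3
 Tr.leaf) 489 4
 (Tr.node Tr.leaf 490 3
 Tr.leaf))) 492 3
 (Tr.node (Tr.node (Tr.node (Tr.node Tr.leaf 495 5
 Tr.leaf) 497 6
 Tr.leaf) 498 6
 (Tr.node Tr.leaf 500 6
 Tr.leaf)) 503 5
 (Tr.node (Tr.node (Tr.node Tr.leaf 504 6
 Tr.leaf) 507 5
 Tr.leaf) 509 5
 (Tr.node Tr.leaf 510 6
 Tr.leaf)))))) 1025 3
 (Tr.node (Tr.node (Tr.node (Tr.node (Tr.node (Tr.node (Tr.node Tr.leaf 1027 3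
 Tr.leaf) 1037 4
 Tr.leaf) 1039 3
 (Tr.node (Tr.node Tr.leaf 1045 4
 Tr.leaf) 1047 4
 Tr.leaf)) 1049 5
 (Tr.node (Tr.node (Tr.node Tr.leaf 1051 5
 Tr.leaf) 1061 5
 Tr.leaf) 1063 4
 (Tr.node Tr.leaf 1065 6
 Tr.leaf))) 1067 6
 (Tr.node (Tr.node (Tr.node (Tr.node Tr.leaf 1073 5
 Tr.leaf) 1075 6
 Tr.leaf) 1085 6
 (Tr.node (Tr.node Tr.leaf 1087 6
 Tr.leaf) 1093 4
 Tr.leaf)) 1095 3
 (Tr.node (Tr.node (Tr.node Tr.leaf 1097 3
 Tr.leaf) 1099 3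
 Tr.leaf) 1105 6
 (Tr.node Tr.leaf 1107 6
 Tr.leaf)))) 1117 6
 (Tr.node (Tr.node (Tr.node (Tr.node (Tr.node Tr.leaf 1119 4
 Tr.leaf) 1121 4
 Tr.leaf) 1123 4
 (Tr.node (Tr.node Tr.leaf 1133 6
 Tr.leaf) 1135 6
 Tr.leaf)) 1141 5
 (Tr.node (Tr.node (Tr.node Tr.leaf 1143 6
 Tr.leaf) 1145 6
 Tr.leaf) 1147 6
 (Tr.node Tr.leaf 1157 4
 Tr.leaf))) 1159 4
 (Tr.node (Tr.node (Tr.node (Tr.node Tr.leaf 1161 6
 Tr.leaf) 1163 6
 Tr.leaf) 1169 4
 (Tr.node Tr.leaf 1171 4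
 Tr.leaf)) 1181 5
 (Tr.node (Tr.node (Tr.node Tr.leaf 1183 6
 Tr.leaf) 1185 4
 Tr.leaf) 1187 4
 (Tr.node Tr.leaf 1197 6
 Tr.leaf))))) 1199 6
 (Tr.node (Tr.node (Tr.node (Tr.node (Tr.node (Tr.node Tr.leaf 1205 5
 Tr.leaf) 1207 6
 Tr.leaf) 1209 5
 (Tr.node (Tr.node Tr.leaf 1211 4
 Tr.leaf) 1217 5
 Tr.leaf)) 1219 5
 (Tr.node (Tr.node (Tr.node Tr.leaf 1229 5
 Tr.leaf) 1231 6
 Tr.leaf) 1237 6
 (Tr.node Tr.leaf 1239 5
 Tr.leaf))) 1241 6
 (Tr.node (Tr.node (Tr.node (Tr.node Tr.leaf 1243 6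
 Tr.leaf) 1253 6
 Tr.leaf) 1255 4
 (Tr.node Tr.leaf 1257 6
 Tr.leaf)) 1259 6
 (Tr.node (Tr.node (Tr.node Tr.leaf 1265 6
 Tr.leaf) 1267 5
 Tr.leaf) 1277 5
 (Tr.node Tr.leaf 1279 5
 Tr.leaf)))) 1285 4
 (Tr.node (Tr.node (Tr.node (Tr.node (Tr.node Tr.leaf 1287 4
 Tr.leaf) 1289 4
 Tr.leaf) 1291 5
 (Tr.node (Tr.node Tr.leaf 1297 4
 Tr.leaf) 1299 4
 Tr.leaf)) 1309 4
 (Tr.node (Tr.node (Tr.node Tr.leaf 1311 5
 Tr.leaf) 1313 5
 Tr.leaf) 1315 5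
 (Tr.node Tr.leaf 1325 5
 Tr.leaf))) 1327 6
 (Tr.node (Tr.node (Tr.node (Tr.node Tr.leaf 1333 4
 Tr.leaf) 1335 6
 Tr.leaf) 1337 4
 (Tr.node Tr.leaf 1339 6
 Tr.leaf)) 1345 6
 (Tr.node (Tr.node (Tr.node Tr.leaf 1347 6
 Tr.leaf) 1357 6
 Tr.leaf) 1359 6
 (Tr.node Tr.leaf 1365 6
 Tr.leaf)))))))) 1367 6
 (Tr.node (Tr.node (Tr.node (Tr.node (Tr.node (Tr.node (Tr.node (Tr.node (Tr.node Tr.leaf 1369 6
 Tr.leaf) 1371 6
 Tr.leaf) 1381 6
 (Tr.node (Tr.node Tr.leaf 1383 5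
 Tr.leaf) 1385 6
 Tr.leaf)) 1387 6
 (Tr.node (Tr.node (Tr.node Tr.leaf 1393 5
 Tr.leaf) 1395 5
 Tr.leaf) 1405 5
 (Tr.node Tr.leaf 1407 6
 Tr.leaf))) 1409 6
 (Tr.node (Tr.node (Tr.node (Tr.node Tr.leaf 1411 5
 Tr.leaf) 1421 6
 Tr.leaf) 1423 5
 (Tr.node (Tr.node Tr.leaf 1429 6
 Tr.leaf) 1431 5
 Tr.leaf)) 1433 5
 (Tr.node (Tr.node (Tr.node Tr.leaf 1435 6
 Tr.leaf) 1445 6
 Tr.leaf) 1447 4
 (Tr.node Tr.leaf 1449 5
 Tr.leaf)))) 1451 5
 (Tr.node (Tr.node (Tr.node (Tr.node (Tr.node Tr.leaf 1457 5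
 Tr.leaf) 1459 5
 Tr.leaf) 1469 6
 (Tr.node (Tr.node Tr.leaf 1471 6
 Tr.leaf) 1477 6
 Tr.leaf)) 1479 6
 (Tr.node (Tr.node (Tr.node Tr.leaf 1481 6
 Tr.leaf) 1483 6
 Tr.leaf) 1489 4
 (Tr.node Tr.leaf 1491 5
 Tr.leaf))) 1501 5
 (Tr.node (Tr.node (Tr.node (Tr.node Tr.leaf 1503 5
 Tr.leaf) 1505 6
 Tr.leaf) 1507 4
 (Tr.node Tr.leaf 1517 6
 Tr.leaf)) 1519 5
 (Tr.node (Tr.node (Tr.node Tr.leaf 1525 6
 Tr.leaf) 1527 6
 Tr.leaf) 1529 6
 (Tr.node Tr.leaf 1531 6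
 Tr.leaf))))) 2049 3
 (Tr.node (Tr.node (Tr.node (Tr.node (Tr.node (Tr.node Tr.leaf 2050 2
 Tr.leaf) 2053 3
 Tr.leaf) 2054 2
 (Tr.node (Tr.node Tr.leaf 2059 4
 Tr.leaf) 2063 3
 Tr.leaf)) 2067 4
 (Tr.node (Tr.node (Tr.node Tr.leaf 2071 4
 Tr.leaf) 2073 6
 Tr.leaf) 2074 5
 (Tr.node Tr.leaf 2077 6
 Tr.leaf))) 2078 6
 (Tr.node (Tr.node (Tr.node (Tr.node Tr.leaf 2083 4
 Tr.leaf) 2087 4
 Tr.leaf) 2089 5
 (Tr.node (Tr.node Tr.leaf 2090 6
 Tr.leaf) 2093 5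
 Tr.leaf)) 2094 6
 (Tr.node (Tr.node (Tr.node Tr.leaf 2097 6
 Tr.leaf) 2098 3
 Tr.leaf) 2101 5
 (Tr.node Tr.leaf 2102 4
 Tr.leaf)))) 2107 6
 (Tr.node (Tr.node (Tr.node (Tr.node (Tr.node Tr.leaf 2111 6
 Tr.leaf) 2115 4
 Tr.leaf) 2119 3
 (Tr.node (Tr.node Tr.leaf 2121 3
 Tr.leaf) 2122 4
 Tr.leaf)) 2125 3
 (Tr.node (Tr.node (Tr.node Tr.leaf 2126 4
 Tr.leaf) 2129 4
 Tr.leaf) 2130 4
 (Tr.node Tr.leaf 2133 5
 Tr.leaf))) 2134 4
 (Tr.node (Tr.node (Tr.node (Tr.node Tr.leaf 2139 6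
 Tr.leaf) 2143 6
 Tr.leaf) 2145 6
 (Tr.node Tr.leaf 2146 4
 Tr.leaf)) 2149 6
 (Tr.node (Tr.node (Tr.node Tr.leaf 2150 5
 Tr.leaf) 2155 5
 Tr.leaf) 2159 6
 (Tr.node Tr.leaf 2163 6
 Tr.leaf)))))) 2167 5
 (Tr.node (Tr.node (Tr.node (Tr.node (Tr.node (Tr.node (Tr.node Tr.leaf 2169 6
 Tr.leaf) 2170 5
 Tr.leaf) 2173 6
 (Tr.node (Tr.node Tr.leaf 2174 4
 Tr.leaf) 2179 5
 Tr.leaf)) 2183 4
 (Tr.node (Tr.node (Tr.node Tr.leaf 2185 4
 Tr.leaf) 2186 4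
 Tr.leaf) 2189 4
 (Tr.node Tr.leaf 2190 4
 Tr.leaf))) 2193 5
 (Tr.node (Tr.node (Tr.node (Tr.node Tr.leaf 2194 4
 Tr.leaf) 2197 5
 Tr.leaf) 2198 4
 (Tr.node (Tr.node Tr.leaf 2203 6
 Tr.leaf) 2207 5
 Tr.leaf)) 2209 4
 (Tr.node (Tr.node (Tr.node Tr.leaf 2210 7
 Tr.leaf) 2213 4
 Tr.leaf) 2214 7
 (Tr.node Tr.leaf 2219 6
 Tr.leaf)))) 2223 4
 (Tr.node (Tr.node (Tr.node (Tr.node (Tr.node Tr.leaf 2227 6
 Tr.leaf) 2231 4
 Tr.leaf) 2233 6
 (Tr.node (Tr.node Tr.leaf 2234 5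
 Tr.leaf) 2237 4
 Tr.leaf)) 2238 4
 (Tr.node (Tr.node (Tr.node Tr.leaf 2241 6
 Tr.leaf) 2242 6
 Tr.leaf) 2245 6
 (Tr.node Tr.leaf 2246 5
 Tr.leaf))) 2251 6
 (Tr.node (Tr.node (Tr.node (Tr.node Tr.leaf 2255 6
 Tr.leaf) 2259 5
 Tr.leaf) 2263 6
 (Tr.node Tr.leaf 2265 6
 Tr.leaf)) 2266 6
 (Tr.node (Tr.node (Tr.node Tr.leaf 2269 6
 Tr.leaf) 2270 6
 Tr.leaf) 2275 6
 (Tr.node Tr.leaf 2279 6
 Tr.leaf))))) 2281 6
 (Tr.node (Tr.node (Tr.node (Tr.node (Tr.node (Tr.node Tr.leaf 2282 6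
 Tr.leaf) 2285 6
 Tr.leaf) 2286 6
 (Tr.node (Tr.node Tr.leaf 2289 5
 Tr.leaf) 2290 6
 Tr.leaf)) 2293 5
 (Tr.node (Tr.node (Tr.node Tr.leaf 2294 6
 Tr.leaf) 2299 6
 Tr.leaf) 2303 5
 (Tr.node Tr.leaf 2307 4
 Tr.leaf))) 2311 4
 (Tr.node (Tr.node (Tr.node (Tr.node Tr.leaf 2313 6
 Tr.leaf) 2314 4
 Tr.leaf) 2317 6
 (Tr.node Tr.leaf 2318 4
 Tr.leaf)) 2321 4
 (Tr.node (Tr.node (Tr.node Tr.leaf 2322 7
 Tr.leaf) 2325 4
 Tr.leaf) 2326 7
 (Tr.node Tr.leaf 2331 6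
 Tr.leaf)))) 2335 6
 (Tr.node (Tr.node (Tr.node (Tr.node (Tr.node Tr.leaf 2337 4
 Tr.leaf) 2338 4
 Tr.leaf) 2341 4
 (Tr.node (Tr.node Tr.leaf 2342 4
 Tr.leaf) 2347 6
 Tr.leaf)) 2351 5
 (Tr.node (Tr.node (Tr.node Tr.leaf 2355 6
 Tr.leaf) 2359 5
 Tr.leaf) 2361 4
 (Tr.node Tr.leaf 2362 5
 Tr.leaf))) 2365 5
 (Tr.node (Tr.node (Tr.node (Tr.node Tr.leaf 2366 5
 Tr.leaf) 2369 5
 Tr.leaf) 2370 6
 (Tr.node Tr.leaf 2373 5
 Tr.leaf)) 2374 6
 (Tr.node (Tr.node (Tr.node Tr.leaf 2379 6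
 Tr.leaf) 2383 4
 Tr.leaf) 2387 4
 (Tr.node Tr.leaf 2391 5
 Tr.leaf))))))) 2393 6
 (Tr.node (Tr.node (Tr.node (Tr.node (Tr.node (Tr.node (Tr.node (Tr.node Tr.leaf 2394 6
 Tr.leaf) 2397 6
 Tr.leaf) 2398 6
 (Tr.node (Tr.node Tr.leaf 2403 5
 Tr.leaf) 2407 6
 Tr.leaf)) 2409 6
 (Tr.node (Tr.node (Tr.node Tr.leaf 2410 6
 Tr.leaf) 2413 6
 Tr.leaf) 2414 6
 (Tr.node Tr.leaf 2417 5
 Tr.leaf))) 2418 5
 (Tr.node (Tr.node (Tr.node (Tr.node Tr.leaf 2421 6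
 Tr.leaf) 2422 5
 Tr.leaf) 2427 5
 (Tr.node (Tr.node Tr.leaf 2431 5
 Tr.leaf) 2433 5
 Tr.leaf)) 2434 4
 (Tr.node (Tr.node (Tr.node Tr.leaf 2437 6
 Tr.leaf) 2438 3
 Tr.leaf) 2443 5
 (Tr.node Tr.leaf 2447 6
 Tr.leaf)))) 2451 4
 (Tr.node (Tr.node (Tr.node (Tr.node (Tr.node Tr.leaf 2455 6
 Tr.leaf) 2457 5
 Tr.leaf) 2458 6
 (Tr.node (Tr.node Tr.leaf 2461 5
 Tr.leaf) 2462 6
 Tr.leaf)) 2467 5
 (Tr.node (Tr.node (Tr.node Tr.leaf 2471 6
 Tr.leaf) 2473 6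
 Tr.leaf) 2474 5
 (Tr.node Tr.leaf 2477 5
 Tr.leaf))) 2478 5
 (Tr.node (Tr.node (Tr.node (Tr.node Tr.leaf 2481 5
 Tr.leaf) 2482 5
 Tr.leaf) 2485 5
 (Tr.node Tr.leaf 2486 5
 Tr.leaf)) 2491 6
 (Tr.node (Tr.node (Tr.node Tr.leaf 2495 6
 Tr.leaf) 2499 6
 Tr.leaf) 2503 6
 (Tr.node Tr.leaf 2505 6
 Tr.leaf))))) 2506 4
 (Tr.node (Tr.node (Tr.node (Tr.node (Tr.node (Tr.node Tr.leaf 2509 6
 Tr.leaf) 2510 5
 Tr.leaf) 2513 4
 (Tr.node (Tr.node Tr.leaf 2514 4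
 Tr.leaf) 2517 6
 Tr.leaf)) 2518 5
 (Tr.node (Tr.node (Tr.node Tr.leaf 2523 5
 Tr.leaf) 2527 6
 Tr.leaf) 2529 5
 (Tr.node Tr.leaf 2530 5
 Tr.leaf))) 2533 4
 (Tr.node (Tr.node (Tr.node (Tr.node Tr.leaf 2534 5
 Tr.leaf) 2539 5
 Tr.leaf) 2543 5
 (Tr.node Tr.leaf 2547 6
 Tr.leaf)) 2551 6
 (Tr.node (Tr.node (Tr.node Tr.leaf 2553 6
 Tr.leaf) 2554 6
 Tr.leaf) 2557 6
 (Tr.node Tr.leaf 2558 6
 Tr.leaf)))) 3081 3
 (Tr.node (Tr.node (Tr.node (Tr.node (Tr.node Tr.leaf 3083 3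
 Tr.leaf) 3085 3
 Tr.leaf) 3087 4
 (Tr.node (Tr.node Tr.leaf 3089 4
 Tr.leaf) 3091 4
 Tr.leaf)) 3093 4
 (Tr.node (Tr.node (Tr.node Tr.leaf 3095 5
 Tr.leaf) 3105 4
 Tr.leaf) 3107 4
 (Tr.node Tr.leaf 3109 4
 Tr.leaf))) 3111 5
 (Tr.node (Tr.node (Tr.node (Tr.node Tr.leaf 3129 6
 Tr.leaf) 3131 6
 Tr.leaf) 3133 7
 (Tr.node Tr.leaf 3135 6
 Tr.leaf)) 3137 3
 (Tr.node (Tr.node (Tr.node Tr.leaf 3139 3
 Tr.leaf) 3141 3
 Tr.leaf) 3143 4
 (Tr.node Tr.leaf 3161 4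
 Tr.leaf)))))) 3163 6
 (Tr.node (Tr.node (Tr.node (Tr.node (Tr.node (Tr.node (Tr.node Tr.leaf 3165 6
 Tr.leaf) 3167 6
 Tr.leaf) 3177 6
 (Tr.node (Tr.node Tr.leaf 3179 6
 Tr.leaf) 3181 6
 Tr.leaf)) 3183 4
 (Tr.node (Tr.node (Tr.node Tr.leaf 3185 5
 Tr.leaf) 3187 6
 Tr.leaf) 3189 7
 (Tr.node Tr.leaf 3191 5
 Tr.leaf))) 3201 4
 (Tr.node (Tr.node (Tr.node (Tr.node Tr.leaf 3203 4
 Tr.leaf) 3205 4
 Tr.leaf) 3207 5
 (Tr.node (Tr.node Tr.leaf 3225 3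
 Tr.leaf) 3227 5
 Tr.leaf)) 3229 5
 (Tr.node (Tr.node (Tr.node Tr.leaf 3231 6
 Tr.leaf) 3241 6
 Tr.leaf) 3243 6
 (Tr.node Tr.leaf 3245 6
 Tr.leaf)))) 3247 3
 (Tr.node (Tr.node (Tr.node (Tr.node (Tr.node Tr.leaf 3249 5
 Tr.leaf) 3251 6
 Tr.leaf) 3253 6
 (Tr.node (Tr.node Tr.leaf 3255 4
 Tr.leaf) 3273 6
 Tr.leaf)) 3275 6
 (Tr.node (Tr.node (Tr.node Tr.leaf 3277 6
 Tr.leaf) 3279 4
 Tr.leaf) 3281 6
 (Tr.node Tr.leaf 3283 5
 Tr.leaf))) 3285 4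
 (Tr.node (Tr.node (Tr.node (Tr.node Tr.leaf 3287 3
 Tr.leaf) 3297 6
 Tr.leaf) 3299 6
 (Tr.node Tr.leaf 3301 6
 Tr.leaf)) 3303 3
 (Tr.node (Tr.node (Tr.node Tr.leaf 3321 6
 Tr.leaf) 3323 5
 Tr.leaf) 3325 5
 (Tr.node Tr.leaf 3327 5
 Tr.leaf))))) 3329 4
 (Tr.node (Tr.node (Tr.node (Tr.node (Tr.node (Tr.node Tr.leaf 3331 4
 Tr.leaf) 3333 4
 Tr.leaf) 3335 5
 (Tr.node (Tr.node Tr.leaf 3353 3
 Tr.leaf) 3355 6
 Tr.leaf)) 3357 6
 (Tr.node (Tr.node (Tr.node Tr.leaf 3359 6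
 Tr.leaf) 3369 6
 Tr.leaf) 3371 4
 (Tr.node Tr.leaf 3373 5
 Tr.leaf))) 3375 3
 (Tr.node (Tr.node (Tr.node (Tr.node Tr.leaf 3377 4
 Tr.leaf) 3379 6
 Tr.leaf) 3381 6
 (Tr.node Tr.leaf 3383 5
 Tr.leaf)) 3401 4
 (Tr.node (Tr.node (Tr.node Tr.leaf 3403 6
 Tr.leaf) 3405 6
 Tr.leaf) 3407 6
 (Tr.node Tr.leaf 3409 3
 Tr.leaf)))) 3411 6
 (Tr.node (Tr.node (Tr.node (Tr.node (Tr.node Tr.leaf 3413 6
 Tr.leaf) 3415 6
 Tr.leaf) 3425 3
 (Tr.node (Tr.node Tr.leaf 3427 5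
 Tr.leaf) 3429 5
 Tr.leaf)) 3431 6
 (Tr.node (Tr.node (Tr.node Tr.leaf 3449 5
 Tr.leaf) 3451 5
 Tr.leaf) 3453 5
 (Tr.node Tr.leaf 3455 6
 Tr.leaf))) 3465 5
 (Tr.node (Tr.node (Tr.node (Tr.node Tr.leaf 3467 7
 Tr.leaf) 3469 6
 Tr.leaf) 3471 5
 (Tr.node Tr.leaf 3473 4
 Tr.leaf)) 3475 6
 (Tr.node (Tr.node (Tr.node Tr.leaf 3477 6
 Tr.leaf) 3479 5
 Tr.leaf) 3489 5
 (Tr.node Tr.leaf 3491 6
 Tr.leaf)))))))))

/-- A subtree. -/
def tr2_s1 : Tr := (Tr.node (Tr.node (Tr.node (Tr.node (Tr.node (Tr.node (Tr.node (Tr.node (Tr.node (Tr.node Tr.leaf 3495 4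
 Tr.leaf) 3513 6
 Tr.leaf) 3515 6
 (Tr.node (Tr.node Tr.leaf 3517 6
 Tr.leaf) 3519 6
 Tr.leaf)) 3521 6
 (Tr.node (Tr.node (Tr.node Tr.leaf 3523 7
 Tr.leaf) 3525 6
 Tr.leaf) 3527 6
 (Tr.node Tr.leaf 3545 5
 Tr.leaf))) 3547 5
 (Tr.node (Tr.node (Tr.node (Tr.node Tr.leaf 3549 5
 Tr.leaf) 3551 6
 Tr.leaf) 3561 6
 (Tr.node (Tr.node Tr.leaf 3563 5
 Tr.leaf) 3565 5
 Tr.leaf)) 3567 5
 (Tr.node (Tr.node (Tr.node Tr.leaf 3569 6
 Tr.leaf) 3571 6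
 Tr.leaf) 3573 6
 (Tr.node Tr.leaf 3575 6
 Tr.leaf)))) 4097 2
 (Tr.node (Tr.node (Tr.node (Tr.node (Tr.node Tr.leaf 4098 3
 Tr.leaf) 4100 3
 Tr.leaf) 4103 3
 (Tr.node (Tr.node Tr.leaf 4105 2
 Tr.leaf) 4106 3
 Tr.leaf)) 4108 3
 (Tr.node (Tr.node (Tr.node Tr.leaf 4111 3
 Tr.leaf) 4115 5
 Tr.leaf) 4117 6
 (Tr.node Tr.leaf 4118 5
 Tr.leaf))) 4123 5
 (Tr.node (Tr.node (Tr.node (Tr.node Tr.leaf 4125 6
 Tr.leaf) 4126 6
 Tr.leaf) 4131 6
 (Tr.node Tr.leaf 4133 5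
 Tr.leaf)) 4134 6
 (Tr.node (Tr.node (Tr.node Tr.leaf 4139 6
 Tr.leaf) 4141 5
 Tr.leaf) 4142 5
 (Tr.node Tr.leaf 4145 4
 Tr.leaf))))) 4146 4
 (Tr.node (Tr.node (Tr.node (Tr.node (Tr.node (Tr.node Tr.leaf 4148 4
 Tr.leaf) 4151 6
 Tr.leaf) 4153 4
 (Tr.node (Tr.node Tr.leaf 4154 4
 Tr.leaf) 4156 4
 Tr.leaf)) 4159 6
 (Tr.node (Tr.node (Tr.node Tr.leaf 4163 4
 Tr.leaf) 4165 4
 Tr.leaf) 4166 4
 (Tr.node Tr.leaf 4171 3
 Tr.leaf))) 4173 3
 (Tr.node (Tr.node (Tr.node (Tr.node Tr.leaf 4174 4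
 Tr.leaf) 4177 4
 Tr.leaf) 4178 6
 (Tr.node (Tr.node Tr.leaf 4180 4
 Tr.leaf) 4183 5
 Tr.leaf)) 4185 4
 (Tr.node (Tr.node (Tr.node Tr.leaf 4186 6
 Tr.leaf) 4188 5
 Tr.leaf) 4191 6
 (Tr.node Tr.leaf 4193 4
 Tr.leaf)))) 4194 4
 (Tr.node (Tr.node (Tr.node (Tr.node (Tr.node Tr.leaf 4196 6
 Tr.leaf) 4199 6
 Tr.leaf) 4201 4
 (Tr.node (Tr.node Tr.leaf 4202 4
 Tr.leaf) 4204 6
 Tr.leaf)) 4207 4
 (Tr.node (Tr.node (Tr.node Tr.leaf 4211 6
 Tr.leaf) 4213 5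
 Tr.leaf) 4214 6
 (Tr.node Tr.leaf 4219 5
 Tr.leaf))) 4221 6
 (Tr.node (Tr.node (Tr.node (Tr.node Tr.leaf 4222 6
 Tr.leaf) 4227 6
 Tr.leaf) 4229 4
 (Tr.node Tr.leaf 4230 4
 Tr.leaf)) 4235 6
 (Tr.node (Tr.node (Tr.node Tr.leaf 4237 5
 Tr.leaf) 4238 4
 Tr.leaf) 4241 6
 (Tr.node Tr.leaf 4242 5
 Tr.leaf)))))) 4244 4
 (Tr.node (Tr.node (Tr.node (Tr.node (Tr.node (Tr.node (Tr.node Tr.leaf 4247 6
 Tr.leaf) 4249 5
 Tr.leaf) 4250 4
 (Tr.node (Tr.node Tr.leaf 4252 4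
 Tr.leaf) 4255 6
 Tr.leaf)) 4257 4
 (Tr.node (Tr.node (Tr.node Tr.leaf 4258 5
 Tr.leaf) 4260 4
 Tr.leaf) 4263 6
 (Tr.node Tr.leaf 4265 4
 Tr.leaf))) 4266 4
 (Tr.node (Tr.node (Tr.node (Tr.node Tr.leaf 4268 5
 Tr.leaf) 4271 6
 Tr.leaf) 4275 4
 (Tr.node (Tr.node Tr.leaf 4277 5
 Tr.leaf) 4278 5
 Tr.leaf)) 4283 5
 (Tr.node (Tr.node (Tr.node Tr.leaf 4285 6
 Tr.leaf) 4286 5
 Tr.leaf) 4289 4
 (Tr.node Tr.leaf 4290 5
 Tr.leaf)))) 4292 4
 (Tr.node (Tr.node (Tr.node (Tr.node (Tr.node Tr.leaf 4295 6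
 Tr.leaf) 4297 4
 Tr.leaf) 4298 6
 (Tr.node (Tr.node Tr.leaf 4300 4
 Tr.leaf) 4303 6
 Tr.leaf)) 4307 6
 (Tr.node (Tr.node (Tr.node Tr.leaf 4309 6
 Tr.leaf) 4310 5
 Tr.leaf) 4315 6
 (Tr.node Tr.leaf 4317 5
 Tr.leaf))) 4318 4
 (Tr.node (Tr.node (Tr.node (Tr.node Tr.leaf 4323 6
 Tr.leaf) 4325 4
 Tr.leaf) 4326 6
 (Tr.node Tr.leaf 4331 6
 Tr.leaf)) 4333 5
 (Tr.node (Tr.node (Tr.node Tr.leaf 4334 6
 Tr.leaf) 4337 6
 Tr.leaf) 4338 5
 (Tr.node Tr.leaf 4340 5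
 Tr.leaf))))) 4343 5
 (Tr.node (Tr.node (Tr.node (Tr.node (Tr.node (Tr.node Tr.leaf 4345 5
 Tr.leaf) 4346 5
 Tr.leaf) 4348 5
 (Tr.node (Tr.node Tr.leaf 4351 5
 Tr.leaf) 4355 4
 Tr.leaf)) 4357 6
 (Tr.node (Tr.node (Tr.node Tr.leaf 4358 5
 Tr.leaf) 4363 4
 Tr.leaf) 4365 6
 (Tr.node Tr.leaf 4366 4
 Tr.leaf))) 4369 4
 (Tr.node (Tr.node (Tr.node (Tr.node Tr.leaf 4370 4
 Tr.leaf) 4372 4
 Tr.leaf) 4375 6
 (Tr.node Tr.leaf 4377 4
 Tr.leaf)) 4378 5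
 (Tr.node (Tr.node (Tr.node Tr.leaf 4380 5
 Tr.leaf) 4383 6
 Tr.leaf) 4385 5
 (Tr.node Tr.leaf 4386 4
 Tr.leaf)))) 4388 4
 (Tr.node (Tr.node (Tr.node (Tr.node (Tr.node Tr.leaf 4391 6
 Tr.leaf) 4393 6
 Tr.leaf) 4394 4
 (Tr.node (Tr.node Tr.leaf 4396 4
 Tr.leaf) 4399 6
 Tr.leaf)) 4403 6
 (Tr.node (Tr.node (Tr.node Tr.leaf 4405 5
 Tr.leaf) 4406 5
 Tr.leaf) 4411 5
 (Tr.node Tr.leaf 4413 4
 Tr.leaf))) 4414 5
 (Tr.node (Tr.node (Tr.node (Tr.node Tr.leaf 4417 5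
 Tr.leaf) 4418 4
 Tr.leaf) 4420 6
 (Tr.node Tr.leaf 4423 6
 Tr.leaf)) 4425 4
 (Tr.node (Tr.node (Tr.node Tr.leaf 4426 4
 Tr.leaf) 4428 5
 Tr.leaf) 4431 6
 (Tr.node Tr.leaf 4435 6
 Tr.leaf))))))) 4437 6
 (Tr.node (Tr.node (Tr.node (Tr.node (Tr.node (Tr.node (Tr.node (Tr.node Tr.leaf 4438 6
 Tr.leaf) 4443 4
 Tr.leaf) 4445 6
 (Tr.node (Tr.node Tr.leaf 4446 6
 Tr.leaf) 4451 5
 Tr.leaf)) 4453 6
 (Tr.node (Tr.node (Tr.node Tr.leaf 4454 4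
 Tr.leaf) 4459 6
 Tr.leaf) 4461 6
 (Tr.node Tr.leaf 4462 5
 Tr.leaf))) 4465 5
 (Tr.node (Tr.node (Tr.node (Tr.node Tr.leaf 4466 5
 Tr.leaf) 4468 5
 Tr.leaf) 4471 5
 (Tr.node (Tr.node Tr.leaf 4473 6
 Tr.leaf) 4474 5
 Tr.leaf)) 4476 5
 (Tr.node (Tr.node (Tr.node Tr.leaf 4479 5
 Tr.leaf) 4481 5
 Tr.leaf) 4482 5
 (Tr.node Tr.leaf 4484 4
 Tr.leaf)))) 4487 6
 (Tr.node (Tr.node (Tr.node (Tr.node (Tr.node Tr.leaf 4489 5
 Tr.leaf) 4490 4
 Tr.leaf) 4492 4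
 (Tr.node (Tr.node Tr.leaf 4495 6
 Tr.leaf) 4499 6
 Tr.leaf)) 4501 5
 (Tr.node (Tr.node (Tr.node Tr.leaf 4502 5
 Tr.leaf) 4507 4
 Tr.leaf) 4509 5
 (Tr.node Tr.leaf 4510 4
 Tr.leaf))) 4515 5
 (Tr.node (Tr.node (Tr.node (Tr.node Tr.leaf 4517 4
 Tr.leaf) 4518 4
 Tr.leaf) 4523 5
 (Tr.node Tr.leaf 4525 6
 Tr.leaf)) 4526 6
 (Tr.node (Tr.node (Tr.node Tr.leaf 4529 5
 Tr.leaf) 4530 5
 Tr.leaf) 4532 6
 (Tr.node Tr.leaf 4535 6
 Tr.leaf))))) 4537 5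
 (Tr.node (Tr.node (Tr.node (Tr.node (Tr.node (Tr.node Tr.leaf 4538 6
 Tr.leaf) 4540 5
 Tr.leaf) 4543 6
 (Tr.node (Tr.node Tr.leaf 4547 6
 Tr.leaf) 4549 5
 Tr.leaf)) 4550 6
 (Tr.node (Tr.node (Tr.node Tr.leaf 4555 5
 Tr.leaf) 4557 6
 Tr.leaf) 4558 6
 (Tr.node Tr.leaf 4561 6
 Tr.leaf))) 4562 5
 (Tr.node (Tr.node (Tr.node (Tr.node Tr.leaf 4564 6
 Tr.leaf) 4567 6
 Tr.leaf) 4569 4
 (Tr.node Tr.leaf 4570 4
 Tr.leaf)) 4572 6
 (Tr.node (Tr.node (Tr.node Tr.leaf 4575 5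
 Tr.leaf) 4577 4
 Tr.leaf) 4578 6
 (Tr.node Tr.leaf 4580 4
 Tr.leaf)))) 4583 5
 (Tr.node (Tr.node (Tr.node (Tr.node (Tr.node Tr.leaf 4585 6
 Tr.leaf) 4586 6
 Tr.leaf) 4588 5
 (Tr.node (Tr.node Tr.leaf 4591 6
 Tr.leaf) 4595 6
 Tr.leaf)) 4597 6
 (Tr.node (Tr.node (Tr.node Tr.leaf 4598 6
 Tr.leaf) 4603 6
 Tr.leaf) 4605 6
 (Tr.node Tr.leaf 4606 6
 Tr.leaf))) 5125 4
 (Tr.node (Tr.node (Tr.node (Tr.node Tr.leaf 5127 3
 Tr.leaf) 5133 4
 Tr.leaf) 5135 3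
 (Tr.node Tr.leaf 5137 5
 Tr.leaf)) 5139 3
 (Tr.node (Tr.node (Tr.node Tr.leaf 5145 3
 Tr.leaf) 5147 5
 Tr.leaf) 5153 5
 (Tr.node Tr.leaf 5155 6
 Tr.leaf)))))) 5161 6
 (Tr.node (Tr.node (Tr.node (Tr.node (Tr.node (Tr.node (Tr.node Tr.leaf 5163 6
 Tr.leaf) 5173 5
 Tr.leaf) 5175 5
 (Tr.node (Tr.node Tr.leaf 5181 5
 Tr.leaf) 5183 6
 Tr.leaf)) 5185 4
 (Tr.node (Tr.node (Tr.node Tr.leaf 5187 4
 Tr.leaf) 5193 3
 Tr.leaf) 5195 3
 (Tr.node Tr.leaf 5205 6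
 Tr.leaf))) 5207 6
 (Tr.node (Tr.node (Tr.node (Tr.node Tr.leaf 5213 6
 Tr.leaf) 5215 6
 Tr.leaf) 5221 6
 (Tr.node (Tr.node Tr.leaf 5223 4
 Tr.leaf) 5229 6
 Tr.leaf)) 5231 6
 (Tr.node (Tr.node (Tr.node Tr.leaf 5233 6
 Tr.leaf) 5235 6
 Tr.leaf) 5241 5
 (Tr.node Tr.leaf 5243 5
 Tr.leaf)))) 5249 6
 (Tr.node (Tr.node (Tr.node (Tr.node (Tr.node Tr.leaf 5251 6
 Tr.leaf) 5257 6
 Tr.leaf) 5259 5
 (Tr.node (Tr.node Tr.leaf 5269 5
 Tr.leaf) 5271 6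
 Tr.leaf)) 5277 5
 (Tr.node (Tr.node (Tr.node Tr.leaf 5279 7
 Tr.leaf) 5285 5
 Tr.leaf) 5287 5
 (Tr.node Tr.leaf 5293 4
 Tr.leaf))) 5295 4
 (Tr.node (Tr.node (Tr.node (Tr.node Tr.leaf 5297 6
 Tr.leaf) 5299 6
 Tr.leaf) 5305 6
 (Tr.node Tr.leaf 5307 6
 Tr.leaf)) 5317 6
 (Tr.node (Tr.node (Tr.node Tr.leaf 5319 4
 Tr.leaf) 5325 6
 Tr.leaf) 5327 6
 (Tr.node Tr.leaf 5329 6
 Tr.leaf))))) 5331 5
 (Tr.node (Tr.node (Tr.node (Tr.node (Tr.node (Tr.node Tr.leaf 5337 5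
 Tr.leaf) 5339 5
 Tr.leaf) 5345 4
 (Tr.node (Tr.node Tr.leaf 5347 5
 Tr.leaf) 5353 4
 Tr.leaf)) 5355 5
 (Tr.node (Tr.node (Tr.node Tr.leaf 5365 6
 Tr.leaf) 5367 4
 Tr.leaf) 5373 4
 (Tr.node Tr.leaf 5375 6
 Tr.leaf))) 5377 5
 (Tr.node (Tr.node (Tr.node (Tr.node Tr.leaf 5379 4
 Tr.leaf) 5385 4
 Tr.leaf) 5387 4
 (Tr.node Tr.leaf 5397 5
 Tr.leaf)) 5399 6
 (Tr.node (Tr.node (Tr.node Tr.leaf 5405 6
 Tr.leaf) 5407 4
 Tr.leaf) 5413 6
 (Tr.node Tr.leaf 5415 4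
 Tr.leaf)))) 5421 6
 (Tr.node (Tr.node (Tr.node (Tr.node (Tr.node Tr.leaf 5423 5
 Tr.leaf) 5425 6
 Tr.leaf) 5427 5
 (Tr.node (Tr.node Tr.leaf 5433 6
 Tr.leaf) 5435 5
 Tr.leaf)) 5445 6
 (Tr.node (Tr.node (Tr.node Tr.leaf 5447 6
 Tr.leaf) 5453 6
 Tr.leaf) 5455 6
 (Tr.node Tr.leaf 5457 4
 Tr.leaf))) 5459 6
 (Tr.node (Tr.node (Tr.node (Tr.node Tr.leaf 5465 6
 Tr.leaf) 5467 5
 Tr.leaf) 5473 5
 (Tr.node Tr.leaf 5475 4
 Tr.leaf)) 5481 6
 (Tr.node (Tr.node (Tr.node Tr.leaf 5483 6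
 Tr.leaf) 5493 6
 Tr.leaf) 5495 6
 (Tr.node Tr.leaf 5501 6
 Tr.leaf)))))))) 5503 6
 (Tr.node (Tr.node (Tr.node (Tr.node (Tr.node (Tr.node (Tr.node (Tr.node (Tr.node Tr.leaf 5509 6
 Tr.leaf) 5511 4
 Tr.leaf) 5517 6
 (Tr.node (Tr.node Tr.leaf 5519 4
 Tr.leaf) 5521 4
 Tr.leaf)) 5523 5
 (Tr.node (Tr.node (Tr.node Tr.leaf 5529 6
 Tr.leaf) 5531 6
 Tr.leaf) 5537 5
 (Tr.node Tr.leaf 5539 7
 Tr.leaf))) 5545 6
 (Tr.node (Tr.node (Tr.node (Tr.node Tr.leaf 5547 5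
 Tr.leaf) 5557 6
 Tr.leaf) 5559 6
 (Tr.node (Tr.node Tr.leaf 5565 6
 Tr.leaf) 5567 6
 Tr.leaf)) 5569 4
 (Tr.node (Tr.node (Tr.node Tr.leaf 5571 4
 Tr.leaf) 5577 6
 Tr.leaf) 5579 6
 (Tr.node Tr.leaf 5589 6
 Tr.leaf)))) 5591 6
 (Tr.node (Tr.node (Tr.node (Tr.node (Tr.node Tr.leaf 5597 6
 Tr.leaf) 5599 6
 Tr.leaf) 5605 6
 (Tr.node (Tr.node Tr.leaf 5607 5
 Tr.leaf) 5613 5
 Tr.leaf)) 5615 6
 (Tr.node (Tr.node (Tr.node Tr.leaf 5617 6
 Tr.leaf) 5619 6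
 Tr.leaf) 5625 6
 (Tr.node Tr.leaf 5627 6
 Tr.leaf))) 6147 4
 (Tr.node (Tr.node (Tr.node (Tr.node Tr.leaf 6151 3
 Tr.leaf) 6155 4
 Tr.leaf) 6159 3
 (Tr.node Tr.leaf 6161 6
 Tr.leaf)) 6162 6
 (Tr.node (Tr.node (Tr.node Tr.leaf 6165 6
 Tr.leaf) 6166 6
 Tr.leaf) 6169 6
 (Tr.node Tr.leaf 6170 6
 Tr.leaf))))) 6173 5
 (Tr.node (Tr.node (Tr.node (Tr.node (Tr.node (Tr.node Tr.leaf 6174 6
 Tr.leaf) 6177 5
 Tr.leaf) 6178 5
 (Tr.node (Tr.node Tr.leaf 6181 3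
 Tr.leaf) 6182 6
 Tr.leaf)) 6185 3
 (Tr.node (Tr.node (Tr.node Tr.leaf 6186 6
 Tr.leaf) 6189 5
 Tr.leaf) 6190 6
 (Tr.node Tr.leaf 6195 6
 Tr.leaf))) 6199 5
 (Tr.node (Tr.node (Tr.node (Tr.node Tr.leaf 6203 5
 Tr.leaf) 6207 5
 Tr.leaf) 6209 4
 (Tr.node Tr.leaf 6210 3
 Tr.leaf)) 6213 4
 (Tr.node (Tr.node (Tr.node Tr.leaf 6214 3
 Tr.leaf) 6217 3
 Tr.leaf) 6218 3
 (Tr.node Tr.leaf 6221 3
 Tr.leaf)))) 6222 3
 (Tr.node (Tr.node (Tr.node (Tr.node (Tr.node Tr.leaf 6227 6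
 Tr.leaf) 6231 6
 Tr.leaf) 6235 4
 (Tr.node (Tr.node Tr.leaf 6239 6
 Tr.leaf) 6243 6
 Tr.leaf)) 6247 6
 (Tr.node (Tr.node (Tr.node Tr.leaf 6251 6
 Tr.leaf) 6255 6
 Tr.leaf) 6257 5
 (Tr.node Tr.leaf 6258 6
 Tr.leaf))) 6261 5
 (Tr.node (Tr.node (Tr.node (Tr.node Tr.leaf 6262 4
 Tr.leaf) 6265 6
 Tr.leaf) 6266 5
 (Tr.node Tr.leaf 6269 7
 Tr.leaf)) 6270 5
 (Tr.node (Tr.node (Tr.node Tr.leaf 6273 5
 Tr.leaf) 6274 4
 Tr.leaf) 6277 4
 (Tr.node Tr.leaf 6278 5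
 Tr.leaf)))))) 6281 4
 (Tr.node (Tr.node (Tr.node (Tr.node (Tr.node (Tr.node (Tr.node Tr.leaf 6282 5
 Tr.leaf) 6285 4
 Tr.leaf) 6286 4
 (Tr.node (Tr.node Tr.leaf 6291 4
 Tr.leaf) 6295 6
 Tr.leaf)) 6299 4
 (Tr.node (Tr.node (Tr.node Tr.leaf 6303 6
 Tr.leaf) 6307 4
 Tr.leaf) 6311 6
 (Tr.node Tr.leaf 6315 6
 Tr.leaf))) 6319 5
 (Tr.node (Tr.node (Tr.node (Tr.node Tr.leaf 6321 4
 Tr.leaf) 6322 5
 Tr.leaf) 6325 6
 (Tr.node (Tr.node Tr.leaf 6326 6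
 Tr.leaf) 6329 5
 Tr.leaf)) 6330 6
 (Tr.node (Tr.node (Tr.node Tr.leaf 6333 6
 Tr.leaf) 6334 5
 Tr.leaf) 6339 6
 (Tr.node Tr.leaf 6343 6
 Tr.leaf)))) 6347 6
 (Tr.node (Tr.node (Tr.node (Tr.node (Tr.node Tr.leaf 6351 6
 Tr.leaf) 6353 6
 Tr.leaf) 6354 6
 (Tr.node (Tr.node Tr.leaf 6357 6
 Tr.leaf) 6358 5
 Tr.leaf)) 6361 4
 (Tr.node (Tr.node (Tr.node Tr.leaf 6362 4
 Tr.leaf) 6365 4
 Tr.leaf) 6366 5
 (Tr.node Tr.leaf 6369 5
 Tr.leaf))) 6370 6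
 (Tr.node (Tr.node (Tr.node (Tr.node Tr.leaf 6373 6
 Tr.leaf) 6374 5
 Tr.leaf) 6377 6
 (Tr.node Tr.leaf 6378 5
 Tr.leaf)) 6381 4
 (Tr.node (Tr.node (Tr.node Tr.leaf 6382 6
 Tr.leaf) 6387 6
 Tr.leaf) 6391 6
 (Tr.node Tr.leaf 6395 6
 Tr.leaf))))) 6399 6
 (Tr.node (Tr.node (Tr.node (Tr.node (Tr.node (Tr.node Tr.leaf 6401 5
 Tr.leaf) 6402 5
 Tr.leaf) 6405 6
 (Tr.node (Tr.node Tr.leaf 6406 5
 Tr.leaf) 6409 6
 Tr.leaf)) 6410 4
 (Tr.node (Tr.node (Tr.node Tr.leaf 6413 6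
 Tr.leaf) 6414 4
 Tr.leaf) 6419 4
 (Tr.node Tr.leaf 6423 4
 Tr.leaf))) 6427 5
 (Tr.node (Tr.node (Tr.node (Tr.node Tr.leaf 6431 5
 Tr.leaf) 6435 6
 Tr.leaf) 6439 5
 (Tr.node Tr.leaf 6443 6
 Tr.leaf)) 6447 5
 (Tr.node (Tr.node (Tr.node Tr.leaf 6449 6
 Tr.leaf) 6450 6
 Tr.leaf) 6453 6
 (Tr.node Tr.leaf 6454 6
 Tr.leaf)))) 6457 6
 (Tr.node (Tr.node (Tr.node (Tr.node (Tr.node Tr.leaf 6458 6
 Tr.leaf) 6461 6
 Tr.leaf) 6462 5
 (Tr.node (Tr.node Tr.leaf 6467 6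
 Tr.leaf) 6471 6
 Tr.leaf)) 6475 4
 (Tr.node (Tr.node (Tr.node Tr.leaf 6479 6
 Tr.leaf) 6481 5
 Tr.leaf) 6482 6
 (Tr.node Tr.leaf 6485 4
 Tr.leaf))) 6486 5
 (Tr.node (Tr.node (Tr.node (Tr.node Tr.leaf 6489 5
 Tr.leaf) 6490 5
 Tr.leaf) 6493 4
 (Tr.node Tr.leaf 6494 6
 Tr.leaf)) 6497 5
 (Tr.node (Tr.node (Tr.node Tr.leaf 6498 5
 Tr.leaf) 6501 5
 Tr.leaf) 6502 5
 (Tr.node Tr.leaf 6505 5
 Tr.leaf))))))) 6506 5
 (Tr.node (Tr.node (Tr.node (Tr.node (Tr.node (Tr.node (Tr.node (Tr.node Tr.leaf 6509 6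
 Tr.leaf) 6510 6
 Tr.leaf) 6515 6
 (Tr.node (Tr.node Tr.leaf 6519 4
 Tr.leaf) 6523 4
 Tr.leaf)) 6527 6
 (Tr.node (Tr.node (Tr.node Tr.leaf 6531 5
 Tr.leaf) 6535 6
 Tr.leaf) 6539 4
 (Tr.node Tr.leaf 6543 6
 Tr.leaf))) 6545 5
 (Tr.node (Tr.node (Tr.node (Tr.node Tr.leaf 6546 5
 Tr.leaf) 6549 6
 Tr.leaf) 6550 5
 (Tr.node (Tr.node Tr.leaf 6553 7
 Tr.leaf) 6554 5
 Tr.leaf)) 6557 5
 (Tr.node (Tr.node (Tr.node Tr.leaf 6558 5
 Tr.leaf) 6561 6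
 Tr.leaf) 6562 6
 (Tr.node Tr.leaf 6565 6
 Tr.leaf)))) 6566 5
 (Tr.node (Tr.node (Tr.node (Tr.node (Tr.node Tr.leaf 6569 5
 Tr.leaf) 6570 5
 Tr.leaf) 6573 5
 (Tr.node (Tr.node Tr.leaf 6574 6
 Tr.leaf) 6579 6
 Tr.leaf)) 6583 6
 (Tr.node (Tr.node (Tr.node Tr.leaf 6587 6
 Tr.leaf) 6591 6
 Tr.leaf) 6593 6
 (Tr.node Tr.leaf 6594 5
 Tr.leaf))) 6597 6
 (Tr.node (Tr.node (Tr.node (Tr.node Tr.leaf 6598 5
 Tr.leaf) 6601 4
 Tr.leaf) 6602 4
 (Tr.node Tr.leaf 6605 5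
 Tr.leaf)) 6606 6
 (Tr.node (Tr.node (Tr.node Tr.leaf 6611 6
 Tr.leaf) 6615 5
 Tr.leaf) 6619 5
 (Tr.node Tr.leaf 6623 6
 Tr.leaf))))) 6627 6
 (Tr.node (Tr.node (Tr.node (Tr.node (Tr.node (Tr.node Tr.leaf 6631 6
 Tr.leaf) 6635 6
 Tr.leaf) 6639 6
 (Tr.node (Tr.node Tr.leaf 6641 6
 Tr.leaf) 6642 6
 Tr.leaf)) 6645 6
 (Tr.node (Tr.node (Tr.node Tr.leaf 6646 5
 Tr.leaf) 6649 6
 Tr.leaf) 6650 6
 (Tr.node Tr.leaf 6653 6
 Tr.leaf))) 6654 6
 (Tr.node (Tr.node (Tr.node (Tr.node Tr.leaf 7169 3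
 Tr.leaf) 7171 3
 Tr.leaf) 7173 3
 (Tr.node Tr.leaf 7175 4
 Tr.leaf)) 7177 3
 (Tr.node (Tr.node (Tr.node Tr.leaf 7179 3
 Tr.leaf) 7181 3
 Tr.leaf) 7183 3
 (Tr.node Tr.leaf 7217 5
 Tr.leaf)))) 7219 6
 (Tr.node (Tr.node (Tr.node (Tr.node (Tr.node Tr.leaf 7221 6
 Tr.leaf) 7223 6
 Tr.leaf) 7225 5
 (Tr.node (Tr.node Tr.leaf 7227 6
 Tr.leaf) 7229 6
 Tr.leaf)) 7231 5
 (Tr.node (Tr.node (Tr.node Tr.leaf 7249 6
 Tr.leaf) 7251 5
 Tr.leaf) 7253 4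
 (Tr.node Tr.leaf 7255 6
 Tr.leaf))) 7257 5
 (Tr.node (Tr.node (Tr.node (Tr.node Tr.leaf 7259 6
 Tr.leaf) 7261 6
 Tr.leaf) 7263 4
 (Tr.node Tr.leaf 7265 5
 Tr.leaf)) 7267 6
 (Tr.node (Tr.node (Tr.node Tr.leaf 7269 6
 Tr.leaf) 7271 5
 Tr.leaf) 7273 6
 (Tr.node Tr.leaf 7275 5
 Tr.leaf)))))) 7277 4
 (Tr.node (Tr.node (Tr.node (Tr.node (Tr.node (Tr.node (Tr.node Tr.leaf 7279 6
 Tr.leaf) 7313 4
 Tr.leaf) 7315 5
 (Tr.node (Tr.node Tr.leaf 7317 6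
 Tr.leaf) 7319 5
 Tr.leaf)) 7321 6
 (Tr.node (Tr.node (Tr.node Tr.leaf 7323 5
 Tr.leaf) 7325 6
 Tr.leaf) 7327 6
 (Tr.node Tr.leaf 7329 5
 Tr.leaf))) 7331 6
 (Tr.node (Tr.node (Tr.node (Tr.node Tr.leaf 7333 5
 Tr.leaf) 7335 7
 Tr.leaf) 7337 6
 (Tr.node (Tr.node Tr.leaf 7339 5
 Tr.leaf) 7341 6
 Tr.leaf)) 7343 5
 (Tr.node (Tr.node (Tr.node Tr.leaf 7361 4
 Tr.leaf) 7363 6
 Tr.leaf) 7365 6
 (Tr.node Tr.leaf 7367 6
 Tr.leaf)))) 7369 6
 (Tr.node (Tr.node (Tr.node (Tr.node (Tr.node Tr.leaf 7371 4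
 Tr.leaf) 7373 4
 Tr.leaf) 7375 6
 (Tr.node (Tr.node Tr.leaf 7409 6
 Tr.leaf) 7411 5
 Tr.leaf)) 7413 5
 (Tr.node (Tr.node (Tr.node Tr.leaf 7415 5
 Tr.leaf) 7417 5
 Tr.leaf) 7419 5
 (Tr.node Tr.leaf 7421 6
 Tr.leaf))) 7423 6
 (Tr.node (Tr.node (Tr.node (Tr.node Tr.leaf 7441 5
 Tr.leaf) 7443 5
 Tr.leaf) 7445 6
 (Tr.node Tr.leaf 7447 7
 Tr.leaf)) 7449 7
 (Tr.node (Tr.node (Tr.node Tr.leaf 7451 6
 Tr.leaf) 7453 5
 Tr.leaf) 7455 4
 (Tr.node Tr.leaf 7457 6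
 Tr.leaf))))) 7459 4
 (Tr.node (Tr.node (Tr.node (Tr.node (Tr.node (Tr.node Tr.leaf 7461 6
 Tr.leaf) 7463 6
 Tr.leaf) 7465 5
 (Tr.node (Tr.node Tr.leaf 7467 5
 Tr.leaf) 7469 6
 Tr.leaf)) 7471 4
 (Tr.node (Tr.node (Tr.node Tr.leaf 7489 6
 Tr.leaf) 7491 4
 Tr.leaf) 7493 4
 (Tr.node Tr.leaf 7495 6
 Tr.leaf))) 7497 6
 (Tr.node (Tr.node (Tr.node (Tr.node Tr.leaf 7499 6
 Tr.leaf) 7501 7
 Tr.leaf) 7503 4
 (Tr.node Tr.leaf 7537 6
 Tr.leaf)) 7539 5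
 (Tr.node (Tr.node (Tr.node Tr.leaf 7541 6
 Tr.leaf) 7543 5
 Tr.leaf) 7545 5
 (Tr.node Tr.leaf 7547 5
 Tr.leaf)))) 7549 5
 (Tr.node (Tr.node (Tr.node (Tr.node (Tr.node Tr.leaf 7551 6
 Tr.leaf) 7553 6
 Tr.leaf) 7555 6
 (Tr.node (Tr.node Tr.leaf 7557 4
 Tr.leaf) 7559 6
 Tr.leaf)) 7561 6
 (Tr.node (Tr.node (Tr.node Tr.leaf 7563 6
 Tr.leaf) 7565 4
 Tr.leaf) 7567 6
 (Tr.node Tr.leaf 7601 6
 Tr.leaf))) 7603 6
 (Tr.node (Tr.node (Tr.node (Tr.node Tr.leaf 7605 6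
 Tr.leaf) 7607 6
 Tr.leaf) 7609 6
 (Tr.node Tr.leaf 7611 6
 Tr.leaf)) 7613 6
 (Tr.node (Tr.node (Tr.node Tr.leaf 7615 6
 Tr.leaf) 7633 5
 Tr.leaf) 7635 6
 (Tr.node Tr.leaf 7637 6
 Tr.leaf)))))))))

/-- A subtree. -/
def tr2_s2 : Tr := (Tr.node (Tr.node (Tr.node (Tr.node (Tr.node (Tr.node (Tr.node (Tr.node (Tr.node (Tr.node Tr.leaf 7641 5
 Tr.leaf) 7643 6
 Tr.leaf) 7645 6
 (Tr.node (Tr.node Tr.leaf 7647 6
 Tr.leaf) 7649 6
 Tr.leaf)) 7651 6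
 (Tr.node (Tr.node (Tr.node Tr.leaf 7653 6
 Tr.leaf) 7655 5
 Tr.leaf) 7657 5
 (Tr.node Tr.leaf 7659 6
 Tr.leaf))) 7661 6
 (Tr.node (Tr.node (Tr.node (Tr.node Tr.leaf 7663 5
 Tr.leaf) 8193 3
 Tr.leaf) 8194 2
 (Tr.node (Tr.node Tr.leaf 8196 3
 Tr.leaf) 8199 4
 Tr.leaf)) 8200 2
 (Tr.node (Tr.node (Tr.node Tr.leaf 8203 5
 Tr.leaf) 8205 6
 Tr.leaf) 8206 6
 (Tr.node Tr.leaf 8209 3
 Tr.leaf)))) 8210 1
 (Tr.node (Tr.node (Tr.node (Tr.node (Tr.node Tr.leaf 8212 2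
 Tr.leaf) 8215 4
 Tr.leaf) 8216 3
 (Tr.node (Tr.node Tr.leaf 8219 5
 Tr.leaf) 8221 5
 Tr.leaf)) 8222 6
 (Tr.node (Tr.node (Tr.node Tr.leaf 8227 6
 Tr.leaf) 8229 6
 Tr.leaf) 8230 4
 (Tr.node Tr.leaf 8233 4
 Tr.leaf))) 8234 4
 (Tr.node (Tr.node (Tr.node (Tr.node Tr.leaf 8236 4
 Tr.leaf) 8239 5
 Tr.leaf) 8243 6
 (Tr.node Tr.leaf 8245 6
 Tr.leaf)) 8246 5
 (Tr.node (Tr.node (Tr.node Tr.leaf 8249 4
 Tr.leaf) 8250 5
 Tr.leaf) 8252 4
 (Tr.node Tr.leaf 8255 5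
 Tr.leaf))))) 8259 5
 (Tr.node (Tr.node (Tr.node (Tr.node (Tr.node (Tr.node Tr.leaf 8261 4
 Tr.leaf) 8262 4
 Tr.leaf) 8265 4
 (Tr.node (Tr.node Tr.leaf 8266 6
 Tr.leaf) 8268 3
 Tr.leaf)) 8271 5
 (Tr.node (Tr.node (Tr.node Tr.leaf 8275 6
 Tr.leaf) 8277 4
 Tr.leaf) 8278 3
 (Tr.node Tr.leaf 8281 4
 Tr.leaf))) 8282 6
 (Tr.node (Tr.node (Tr.node (Tr.node Tr.leaf 8284 4
 Tr.leaf) 8287 5
 Tr.leaf) 8289 5
 (Tr.node (Tr.node Tr.leaf 8290 4
 Tr.leaf) 8292 4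
 Tr.leaf)) 8295 5
 (Tr.node (Tr.node (Tr.node Tr.leaf 8296 5
 Tr.leaf) 8299 4
 Tr.leaf) 8301 5
 (Tr.node Tr.leaf 8302 6
 Tr.leaf)))) 8305 5
 (Tr.node (Tr.node (Tr.node (Tr.node (Tr.node Tr.leaf 8306 5
 Tr.leaf) 8308 4
 Tr.leaf) 8311 4
 (Tr.node (Tr.node Tr.leaf 8312 4
 Tr.leaf) 8315 6
 Tr.leaf)) 8317 6
 (Tr.node (Tr.node (Tr.node Tr.leaf 8318 5
 Tr.leaf) 8323 5
 Tr.leaf) 8325 5
 (Tr.node Tr.leaf 8326 5
 Tr.leaf))) 8329 6
 (Tr.node (Tr.node (Tr.node (Tr.node Tr.leaf 8330 4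
 Tr.leaf) 8332 4
 Tr.leaf) 8335 6
 (Tr.node Tr.leaf 8339 4
 Tr.leaf)) 8341 5
 (Tr.node (Tr.node (Tr.node Tr.leaf 8342 4
 Tr.leaf) 8345 6
 Tr.leaf) 8346 4
 (Tr.node Tr.leaf 8348 4
 Tr.leaf)))))) 8351 4
 (Tr.node (Tr.node (Tr.node (Tr.node (Tr.node (Tr.node (Tr.node Tr.leaf 8353 3
 Tr.leaf) 8354 4
 Tr.leaf) 8356 5
 (Tr.node (Tr.node Tr.leaf 8359 6
 Tr.leaf) 8360 4
 Tr.leaf)) 8363 6
 (Tr.node (Tr.node (Tr.node Tr.leaf 8365 6
 Tr.leaf) 8366 6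
 Tr.leaf) 8369 3
 (Tr.node Tr.leaf 8370 4
 Tr.leaf))) 8372 6
 (Tr.node (Tr.node (Tr.node (Tr.node Tr.leaf 8375 6
 Tr.leaf) 8376 5
 Tr.leaf) 8379 6
 (Tr.node (Tr.node Tr.leaf 8381 6
 Tr.leaf) 8382 4
 Tr.leaf)) 8385 6
 (Tr.node (Tr.node (Tr.node Tr.leaf 8386 4
 Tr.leaf) 8388 4
 Tr.leaf) 8391 6
 (Tr.node Tr.leaf 8392 5
 Tr.leaf)))) 8395 5
 (Tr.node (Tr.node (Tr.node (Tr.node (Tr.node Tr.leaf 8397 4
 Tr.leaf) 8398 5
 Tr.leaf) 8401 6
 (Tr.node (Tr.node Tr.leaf 8402 4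
 Tr.leaf) 8404 4
 Tr.leaf)) 8407 5
 (Tr.node (Tr.node (Tr.node Tr.leaf 8408 4
 Tr.leaf) 8411 5
 Tr.leaf) 8413 5
 (Tr.node Tr.leaf 8414 6
 Tr.leaf))) 8419 6
 (Tr.node (Tr.node (Tr.node (Tr.node Tr.leaf 8421 6
 Tr.leaf) 8422 5
 Tr.leaf) 8425 6
 (Tr.node Tr.leaf 8426 4
 Tr.leaf)) 8428 5
 (Tr.node (Tr.node (Tr.node Tr.leaf 8431 6
 Tr.leaf) 8435 6
 Tr.leaf) 8437 6
 (Tr.node Tr.leaf 8438 5
 Tr.leaf))))) 8441 6
 (Tr.node (Tr.node (Tr.node (Tr.node (Tr.node (Tr.node Tr.leaf 8442 5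
 Tr.leaf) 8444 5
 Tr.leaf) 8447 6
 (Tr.node (Tr.node Tr.leaf 8451 4
 Tr.leaf) 8453 4
 Tr.leaf)) 8454 7
 (Tr.node (Tr.node (Tr.node Tr.leaf 8457 4
 Tr.leaf) 8458 4
 Tr.leaf) 8460 3
 (Tr.node Tr.leaf 8463 6
 Tr.leaf))) 8467 4
 (Tr.node (Tr.node (Tr.node (Tr.node Tr.leaf 8469 4
 Tr.leaf) 8470 7
 Tr.leaf) 8473 5
 (Tr.node Tr.leaf 8474 4
 Tr.leaf)) 8476 4
 (Tr.node (Tr.node (Tr.node Tr.leaf 8479 4
 Tr.leaf) 8481 3
 Tr.leaf) 8482 6
 (Tr.node Tr.leaf 8484 4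
 Tr.leaf)))) 8487 6
 (Tr.node (Tr.node (Tr.node (Tr.node (Tr.node Tr.leaf 8488 4
 Tr.leaf) 8491 5
 Tr.leaf) 8493 6
 (Tr.node (Tr.node Tr.leaf 8494 6
 Tr.leaf) 8497 4
 Tr.leaf)) 8498 5
 (Tr.node (Tr.node (Tr.node Tr.leaf 8500 4
 Tr.leaf) 8503 6
 Tr.leaf) 8504 4
 (Tr.node Tr.leaf 8507 6
 Tr.leaf))) 8509 5
 (Tr.node (Tr.node (Tr.node (Tr.node Tr.leaf 8510 6
 Tr.leaf) 8513 4
 Tr.leaf) 8514 4
 (Tr.node Tr.leaf 8516 4
 Tr.leaf)) 8519 5
 (Tr.node (Tr.node (Tr.node Tr.leaf 8520 7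
 Tr.leaf) 8523 4
 Tr.leaf) 8525 6
 (Tr.node Tr.leaf 8526 5
 Tr.leaf))))))) 8529 4
 (Tr.node (Tr.node (Tr.node (Tr.node (Tr.node (Tr.node (Tr.node (Tr.node Tr.leaf 8530 3
 Tr.leaf) 8532 4
 Tr.leaf) 8535 6
 (Tr.node (Tr.node Tr.leaf 8536 7
 Tr.leaf) 8539 6
 Tr.leaf)) 8541 5
 (Tr.node (Tr.node (Tr.node Tr.leaf 8542 5
 Tr.leaf) 8547 6
 Tr.leaf) 8549 5
 (Tr.node Tr.leaf 8550 5
 Tr.leaf))) 8553 4
 (Tr.node (Tr.node (Tr.node (Tr.node Tr.leaf 8554 4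
 Tr.leaf) 8556 5
 Tr.leaf) 8559 6
 (Tr.node (Tr.node Tr.leaf 8563 6
 Tr.leaf) 8565 6
 Tr.leaf)) 8566 5
 (Tr.node (Tr.node (Tr.node Tr.leaf 8569 6
 Tr.leaf) 8570 5
 Tr.leaf) 8572 5
 (Tr.node Tr.leaf 8575 6
 Tr.leaf)))) 8577 3
 (Tr.node (Tr.node (Tr.node (Tr.node (Tr.node Tr.leaf 8578 4
 Tr.leaf) 8580 6
 Tr.leaf) 8583 5
 (Tr.node (Tr.node Tr.leaf 8584 5
 Tr.leaf) 8587 6
 Tr.leaf)) 8589 6
 (Tr.node (Tr.node (Tr.node Tr.leaf 8590 5
 Tr.leaf) 8593 4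
 Tr.leaf) 8594 4
 (Tr.node Tr.leaf 8596 6
 Tr.leaf))) 8599 4
 (Tr.node (Tr.node (Tr.node (Tr.node Tr.leaf 8600 6
 Tr.leaf) 8603 5
 Tr.leaf) 8605 6
 (Tr.node Tr.leaf 8606 4
 Tr.leaf)) 8611 6
 (Tr.node (Tr.node (Tr.node Tr.leaf 8613 4
 Tr.leaf) 8614 6
 Tr.leaf) 8617 6
 (Tr.node Tr.leaf 8618 6
 Tr.leaf))))) 8620 5
 (Tr.node (Tr.node (Tr.node (Tr.node (Tr.node (Tr.node Tr.leaf 8623 6
 Tr.leaf) 8627 6
 Tr.leaf) 8629 6
 (Tr.node (Tr.node Tr.leaf 8630 6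
 Tr.leaf) 8633 6
 Tr.leaf)) 8634 6
 (Tr.node (Tr.node (Tr.node Tr.leaf 8636 4
 Tr.leaf) 8639 5
 Tr.leaf) 8643 5
 (Tr.node Tr.leaf 8645 6
 Tr.leaf))) 8646 5
 (Tr.node (Tr.node (Tr.node (Tr.node Tr.leaf 8649 6
 Tr.leaf) 8650 6
 Tr.leaf) 8652 5
 (Tr.node Tr.leaf 8655 6
 Tr.leaf)) 8659 6
 (Tr.node (Tr.node (Tr.node Tr.leaf 8661 5
 Tr.leaf) 8662 5
 Tr.leaf) 8665 6
 (Tr.node Tr.leaf 8666 6
 Tr.leaf)))) 8668 5
 (Tr.node (Tr.node (Tr.node (Tr.node (Tr.node Tr.leaf 8671 6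
 Tr.leaf) 8673 6
 Tr.leaf) 8674 4
 (Tr.node (Tr.node Tr.leaf 8676 6
 Tr.leaf) 8679 5
 Tr.leaf)) 8680 6
 (Tr.node (Tr.node (Tr.node Tr.leaf 8683 5
 Tr.leaf) 8685 5
 Tr.leaf) 8686 6
 (Tr.node Tr.leaf 8689 5
 Tr.leaf))) 8690 5
 (Tr.node (Tr.node (Tr.node (Tr.node Tr.leaf 8692 6
 Tr.leaf) 8695 5
 Tr.leaf) 8696 6
 (Tr.node Tr.leaf 8699 6
 Tr.leaf)) 8701 5
 (Tr.node (Tr.node (Tr.node Tr.leaf 8702 6
 Tr.leaf) 9221 5
 Tr.leaf) 9223 4
 (Tr.node Tr.leaf 9225 4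
 Tr.leaf)))))) 9227 4
 (Tr.node (Tr.node (Tr.node (Tr.node (Tr.node (Tr.node (Tr.node Tr.leaf 9237 5
 Tr.leaf) 9239 4
 Tr.leaf) 9241 4
 (Tr.node (Tr.node Tr.leaf 9243 4
 Tr.leaf) 9249 6
 Tr.leaf)) 9251 6
 (Tr.node (Tr.node (Tr.node Tr.leaf 9261 6
 Tr.leaf) 9263 6
 Tr.leaf) 9265 6
 (Tr.node Tr.leaf 9267 6
 Tr.leaf))) 9277 6
 (Tr.node (Tr.node (Tr.node (Tr.node Tr.leaf 9279 5
 Tr.leaf) 9281 6
 Tr.leaf) 9283 6
 (Tr.node (Tr.node Tr.leaf 9293 5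
 Tr.leaf) 9295 3
 Tr.leaf)) 9297 6
 (Tr.node (Tr.node (Tr.node Tr.leaf 9299 6
 Tr.leaf) 9309 6
 Tr.leaf) 9311 6
 (Tr.node Tr.leaf 9317 6
 Tr.leaf)))) 9319 4
 (Tr.node (Tr.node (Tr.node (Tr.node (Tr.node Tr.leaf 9321 6
 Tr.leaf) 9323 4
 Tr.leaf) 9333 6
 (Tr.node (Tr.node Tr.leaf 9335 6
 Tr.leaf) 9337 6
 Tr.leaf)) 9339 6
 (Tr.node (Tr.node (Tr.node Tr.leaf 9345 4
 Tr.leaf) 9347 4
 Tr.leaf) 9357 6
 (Tr.node Tr.leaf 9359 6
 Tr.leaf))) 9361 4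
 (Tr.node (Tr.node (Tr.node (Tr.node Tr.leaf 9363 5
 Tr.leaf) 9373 4
 Tr.leaf) 9375 6
 (Tr.node Tr.leaf 9381 4
 Tr.leaf)) 9383 4
 (Tr.node (Tr.node (Tr.node Tr.leaf 9385 7
 Tr.leaf) 9387 3
 Tr.leaf) 9397 6
 (Tr.node Tr.leaf 9399 5
 Tr.leaf))))) 9401 6
 (Tr.node (Tr.node (Tr.node (Tr.node (Tr.node (Tr.node Tr.leaf 9403 6
 Tr.leaf) 9413 4
 Tr.leaf) 9415 5
 (Tr.node (Tr.node Tr.leaf 9417 6
 Tr.leaf) 9419 6
 Tr.leaf)) 9429 6
 (Tr.node (Tr.node (Tr.node Tr.leaf 9431 6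
 Tr.leaf) 9433 6
 Tr.leaf) 9435 6
 (Tr.node Tr.leaf 9441 5
 Tr.leaf))) 9443 6
 (Tr.node (Tr.node (Tr.node (Tr.node Tr.leaf 9453 7
 Tr.leaf) 9455 6
 Tr.leaf) 9457 5
 (Tr.node Tr.leaf 9459 6
 Tr.leaf)) 9469 6
 (Tr.node (Tr.node (Tr.node Tr.leaf 9471 6
 Tr.leaf) 9473 4
 Tr.leaf) 9475 4
 (Tr.node Tr.leaf 9485 7
 Tr.leaf)))) 9487 6
 (Tr.node (Tr.node (Tr.node (Tr.node (Tr.node Tr.leaf 9489 5
 Tr.leaf) 9491 5
 Tr.leaf) 9501 6
 (Tr.node (Tr.node Tr.leaf 9503 6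
 Tr.leaf) 9509 4
 Tr.leaf)) 9511 6
 (Tr.node (Tr.node (Tr.node Tr.leaf 9513 6
 Tr.leaf) 9515 3
 Tr.leaf) 9525 6
 (Tr.node Tr.leaf 9527 6
 Tr.leaf))) 9529 6
 (Tr.node (Tr.node (Tr.node (Tr.node Tr.leaf 9531 6
 Tr.leaf) 9541 7
 Tr.leaf) 9543 5
 (Tr.node Tr.leaf 9545 6
 Tr.leaf)) 9547 5
 (Tr.node (Tr.node (Tr.node Tr.leaf 9557 6
 Tr.leaf) 9559 6
 Tr.leaf) 9561 4
 (Tr.node Tr.leaf 9563 6
 Tr.leaf)))))))) 9569 6
 (Tr.node (Tr.node (Tr.node (Tr.node (Tr.node (Tr.node (Tr.node (Tr.node (Tr.node Tr.leaf 9571 6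
 Tr.leaf) 9581 6
 Tr.leaf) 9583 6
 (Tr.node (Tr.node Tr.leaf 9585 6
 Tr.leaf) 9587 6
 Tr.leaf)) 9597 6
 (Tr.node (Tr.node (Tr.node Tr.leaf 9599 6
 Tr.leaf) 9605 6
 Tr.leaf) 9607 6
 (Tr.node Tr.leaf 9609 6
 Tr.leaf))) 9611 6
 (Tr.node (Tr.node (Tr.node (Tr.node Tr.leaf 9621 5
 Tr.leaf) 9623 4
 Tr.leaf) 9625 6
 (Tr.node (Tr.node Tr.leaf 9627 6
 Tr.leaf) 9633 4
 Tr.leaf)) 9635 4
 (Tr.node (Tr.node (Tr.node Tr.leaf 9645 6
 Tr.leaf) 9647 6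
 Tr.leaf) 9649 6
 (Tr.node Tr.leaf 9651 6
 Tr.leaf)))) 9661 6
 (Tr.node (Tr.node (Tr.node (Tr.node (Tr.node Tr.leaf 9663 5
 Tr.leaf) 9665 6
 Tr.leaf) 9667 6
 (Tr.node (Tr.node Tr.leaf 9677 6
 Tr.leaf) 9679 6
 Tr.leaf)) 9681 7
 (Tr.node (Tr.node (Tr.node Tr.leaf 9683 5
 Tr.leaf) 9693 6
 Tr.leaf) 9695 6
 (Tr.node Tr.leaf 9701 6
 Tr.leaf))) 9703 6
 (Tr.node (Tr.node (Tr.node (Tr.node Tr.leaf 9705 6
 Tr.leaf) 9707 6
 Tr.leaf) 9717 6
 (Tr.node Tr.leaf 9719 6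
 Tr.leaf)) 9721 5
 (Tr.node (Tr.node (Tr.node Tr.leaf 9723 6
 Tr.leaf) 10243 5
 Tr.leaf) 10247 4
 (Tr.node Tr.leaf 10249 6
 Tr.leaf))))) 10250 5
 (Tr.node (Tr.node (Tr.node (Tr.node (Tr.node (Tr.node Tr.leaf 10253 6
 Tr.leaf) 10254 6
 Tr.leaf) 10259 5
 (Tr.node (Tr.node Tr.leaf 10263 4
 Tr.leaf) 10265 6
 Tr.leaf)) 10266 5
 (Tr.node (Tr.node (Tr.node Tr.leaf 10269 6
 Tr.leaf) 10270 6
 Tr.leaf) 10273 6
 (Tr.node Tr.leaf 10274 4
 Tr.leaf))) 10277 6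
 (Tr.node (Tr.node (Tr.node (Tr.node Tr.leaf 10278 5
 Tr.leaf) 10283 6
 Tr.leaf) 10287 6
 (Tr.node (Tr.node Tr.leaf 10289 6
 Tr.leaf) 10290 4
 Tr.leaf)) 10293 6
 (Tr.node (Tr.node (Tr.node Tr.leaf 10294 4
 Tr.leaf) 10299 6
 Tr.leaf) 10303 6
 (Tr.node Tr.leaf 10305 5
 Tr.leaf)))) 10306 4
 (Tr.node (Tr.node (Tr.node (Tr.node (Tr.node Tr.leaf 10309 4
 Tr.leaf) 10310 4
 Tr.leaf) 10315 6
 (Tr.node (Tr.node Tr.leaf 10319 4
 Tr.leaf) 10321 4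
 Tr.leaf)) 10322 4
 (Tr.node (Tr.node (Tr.node Tr.leaf 10325 4
 Tr.leaf) 10326 5
 Tr.leaf) 10331 6
 (Tr.node Tr.leaf 10335 4
 Tr.leaf))) 10339 5
 (Tr.node (Tr.node (Tr.node (Tr.node Tr.leaf 10343 6
 Tr.leaf) 10345 6
 Tr.leaf) 10346 4
 (Tr.node Tr.leaf 10349 6
 Tr.leaf)) 10350 6
 (Tr.node (Tr.node (Tr.node Tr.leaf 10355 7
 Tr.leaf) 10359 6
 Tr.leaf) 10361 5
 (Tr.node Tr.leaf 10362 7
 Tr.leaf)))))) 10365 5
 (Tr.node (Tr.node (Tr.node (Tr.node (Tr.node (Tr.node (Tr.node Tr.leaf 10366 6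
 Tr.leaf) 10369 4
 Tr.leaf) 10370 5
 (Tr.node (Tr.node Tr.leaf 10373 4
 Tr.leaf) 10374 5
 Tr.leaf)) 10379 6
 (Tr.node (Tr.node (Tr.node Tr.leaf 10383 3
 Tr.leaf) 10385 4
 Tr.leaf) 10386 4
 (Tr.node Tr.leaf 10389 4
 Tr.leaf))) 10390 4
 (Tr.node (Tr.node (Tr.node (Tr.node Tr.leaf 10395 6
 Tr.leaf) 10399 6
 Tr.leaf) 10403 6
 (Tr.node (Tr.node Tr.leaf 10407 5
 Tr.leaf) 10409 6
 Tr.leaf)) 10410 4
 (Tr.node (Tr.node (Tr.node Tr.leaf 10413 4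
 Tr.leaf) 10414 3
 Tr.leaf) 10419 4
 (Tr.node Tr.leaf 10423 6
 Tr.leaf)))) 10425 6
 (Tr.node (Tr.node (Tr.node (Tr.node (Tr.node Tr.leaf 10426 4
 Tr.leaf) 10429 6
 Tr.leaf) 10430 5
 (Tr.node (Tr.node Tr.leaf 10435 6
 Tr.leaf) 10439 6
 Tr.leaf)) 10441 6
 (Tr.node (Tr.node (Tr.node Tr.leaf 10442 4
 Tr.leaf) 10445 3
 Tr.leaf) 10446 4
 (Tr.node Tr.leaf 10451 6
 Tr.leaf))) 10455 6
 (Tr.node (Tr.node (Tr.node (Tr.node Tr.leaf 10457 6
 Tr.leaf) 10458 6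
 Tr.leaf) 10461 7
 (Tr.node Tr.leaf 10462 6
 Tr.leaf)) 10465 6
 (Tr.node (Tr.node (Tr.node Tr.leaf 10466 6
 Tr.leaf) 10469 6
 Tr.leaf) 10470 5
 (Tr.node Tr.leaf 10475 6
 Tr.leaf))))) 10479 6
 (Tr.node (Tr.node (Tr.node (Tr.node (Tr.node (Tr.node Tr.leaf 10481 6
 Tr.leaf) 10482 5
 Tr.leaf) 10485 6
 (Tr.node (Tr.node Tr.leaf 10486 6
 Tr.leaf) 10491 5
 Tr.leaf)) 10495 6
 (Tr.node (Tr.node (Tr.node Tr.leaf 10497 4
 Tr.leaf) 10498 7
 Tr.leaf) 10501 4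
 (Tr.node Tr.leaf 10502 6
 Tr.leaf))) 10507 6
 (Tr.node (Tr.node (Tr.node (Tr.node Tr.leaf 10511 6
 Tr.leaf) 10513 5
 Tr.leaf) 10514 6
 (Tr.node Tr.leaf 10517 5
 Tr.leaf)) 10518 7
 (Tr.node (Tr.node (Tr.node Tr.leaf 10523 6
 Tr.leaf) 10527 4
 Tr.leaf) 10531 6
 (Tr.node Tr.leaf 10535 5
 Tr.leaf)))) 10537 6
 (Tr.node (Tr.node (Tr.node (Tr.node (Tr.node Tr.leaf 10538 4
 Tr.leaf) 10541 4
 Tr.leaf) 10542 6
 (Tr.node (Tr.node Tr.leaf 10547 6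
 Tr.leaf) 10551 7
 Tr.leaf)) 10553 6
 (Tr.node (Tr.node (Tr.node Tr.leaf 10554 6
 Tr.leaf) 10557 6
 Tr.leaf) 10558 5
 (Tr.node Tr.leaf 10563 4
 Tr.leaf))) 10567 6
 (Tr.node (Tr.node (Tr.node (Tr.node Tr.leaf 10569 5
 Tr.leaf) 10570 6
 Tr.leaf) 10573 4
 (Tr.node Tr.leaf 10574 6
 Tr.leaf)) 10579 5
 (Tr.node (Tr.node (Tr.node Tr.leaf 10583 6
 Tr.leaf) 10585 6
 Tr.leaf) 10586 6
 (Tr.node Tr.leaf 10589 4
 Tr.leaf))))))) 10590 6
 (Tr.node (Tr.node (Tr.node (Tr.node (Tr.node (Tr.node (Tr.node (Tr.node Tr.leaf 10593 6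
 Tr.leaf) 10594 6
 Tr.leaf) 10597 5
 (Tr.node (Tr.node Tr.leaf 10598 4
 Tr.leaf) 10603 6
 Tr.leaf)) 10607 6
 (Tr.node (Tr.node (Tr.node Tr.leaf 10609 6
 Tr.leaf) 10610 5
 Tr.leaf) 10613 4
 (Tr.node Tr.leaf 10614 6
 Tr.leaf))) 10619 6
 (Tr.node (Tr.node (Tr.node (Tr.node Tr.leaf 10623 6
 Tr.leaf) 10627 6
 Tr.leaf) 10631 6
 (Tr.node (Tr.node Tr.leaf 10633 5
 Tr.leaf) 10634 6
 Tr.leaf)) 10637 6
 (Tr.node (Tr.node (Tr.node Tr.leaf 10638 6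
 Tr.leaf) 10643 6
 Tr.leaf) 10647 7
 (Tr.node Tr.leaf 10649 6
 Tr.leaf)))) 10650 6
 (Tr.node (Tr.node (Tr.node (Tr.node (Tr.node Tr.leaf 10653 6
 Tr.leaf) 10654 6
 Tr.leaf) 10657 6
 (Tr.node (Tr.node Tr.leaf 10658 6
 Tr.leaf) 10661 3
 Tr.leaf)) 10662 6
 (Tr.node (Tr.node (Tr.node Tr.leaf 10667 6
 Tr.leaf) 10671 6
 Tr.leaf) 10673 6
 (Tr.node Tr.leaf 10674 6
 Tr.leaf))) 10677 5
 (Tr.node (Tr.node (Tr.node (Tr.node Tr.leaf 10678 6
 Tr.leaf) 10683 6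
 Tr.leaf) 10687 6
 (Tr.node Tr.leaf 10689 6
 Tr.leaf)) 10690 5
 (Tr.node (Tr.node (Tr.node Tr.leaf 10693 6
 Tr.leaf) 10694 6
 Tr.leaf) 10699 5
 (Tr.node Tr.leaf 10703 6
 Tr.leaf))))) 10705 4
 (Tr.node (Tr.node (Tr.node (Tr.node (Tr.node (Tr.node Tr.leaf 10706 6
 Tr.leaf) 10709 6
 Tr.leaf) 10710 6
 (Tr.node (Tr.node Tr.leaf 10715 6
 Tr.leaf) 10719 6
 Tr.leaf)) 10723 6
 (Tr.node (Tr.node (Tr.node Tr.leaf 10727 6
 Tr.leaf) 10729 6
 Tr.leaf) 10730 6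
 (Tr.node Tr.leaf 10733 6
 Tr.leaf))) 10734 6
 (Tr.node (Tr.node (Tr.node (Tr.node Tr.leaf 10739 6
 Tr.leaf) 10743 6
 Tr.leaf) 10745 6
 (Tr.node Tr.leaf 10746 5
 Tr.leaf)) 10749 7
 (Tr.node (Tr.node (Tr.node Tr.leaf 10750 5
 Tr.leaf) 11265 4
 Tr.leaf) 11267 4
 (Tr.node Tr.leaf 11269 4
 Tr.leaf)))) 11271 4
 (Tr.node (Tr.node (Tr.node (Tr.node (Tr.node Tr.leaf 11281 4
 Tr.leaf) 11283 4
 Tr.leaf) 11285 4
 (Tr.node (Tr.node Tr.leaf 11287 5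
 Tr.leaf) 11305 6
 Tr.leaf)) 11307 6
 (Tr.node (Tr.node (Tr.node Tr.leaf 11309 6
 Tr.leaf) 11311 6
 Tr.leaf) 11321 6
 (Tr.node Tr.leaf 11323 6
 Tr.leaf))) 11325 6
 (Tr.node (Tr.node (Tr.node (Tr.node Tr.leaf 11327 6
 Tr.leaf) 11337 6
 Tr.leaf) 11339 6
 (Tr.node Tr.leaf 11341 6
 Tr.leaf)) 11343 6
 (Tr.node (Tr.node (Tr.node Tr.leaf 11353 4
 Tr.leaf) 11355 5
 Tr.leaf) 11357 6
 (Tr.node Tr.leaf 11359 6
 Tr.leaf)))))) 11361 6
 (Tr.node (Tr.node (Tr.node (Tr.node (Tr.node (Tr.node (Tr.node Tr.leaf 11363 5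
 Tr.leaf) 11365 4
 Tr.leaf) 11367 6
 (Tr.node (Tr.node Tr.leaf 11377 4
 Tr.leaf) 11379 6
 Tr.leaf)) 11381 6
 (Tr.node (Tr.node (Tr.node Tr.leaf 11383 5
 Tr.leaf) 11401 6
 Tr.leaf) 11403 6
 (Tr.node Tr.leaf 11405 6
 Tr.leaf))) 11407 4
 (Tr.node (Tr.node (Tr.node (Tr.node Tr.leaf 11417 7
 Tr.leaf) 11419 6
 Tr.leaf) 11421 6
 (Tr.node (Tr.node Tr.leaf 11423 6
 Tr.leaf) 11425 7
 Tr.leaf)) 11427 5
 (Tr.node (Tr.node (Tr.node Tr.leaf 11429 6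
 Tr.leaf) 11431 6
 Tr.leaf) 11441 4
 (Tr.node Tr.leaf 11443 5
 Tr.leaf)))) 11445 5
 (Tr.node (Tr.node (Tr.node (Tr.node (Tr.node Tr.leaf 11447 6
 Tr.leaf) 11457 6
 Tr.leaf) 11459 6
 (Tr.node (Tr.node Tr.leaf 11461 6
 Tr.leaf) 11463 5
 Tr.leaf)) 11473 5
 (Tr.node (Tr.node (Tr.node Tr.leaf 11475 4
 Tr.leaf) 11477 6
 Tr.leaf) 11479 6
 (Tr.node Tr.leaf 11497 5
 Tr.leaf))) 11499 6
 (Tr.node (Tr.node (Tr.node (Tr.node Tr.leaf 11501 5
 Tr.leaf) 11503 6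
 Tr.leaf) 11513 6
 (Tr.node Tr.leaf 11515 6
 Tr.leaf)) 11517 5
 (Tr.node (Tr.node (Tr.node Tr.leaf 11519 6
 Tr.leaf) 11529 5
 Tr.leaf) 11531 5
 (Tr.node Tr.leaf 11533 6
 Tr.leaf))))) 11535 4
 (Tr.node (Tr.node (Tr.node (Tr.node (Tr.node (Tr.node Tr.leaf 11545 6
 Tr.leaf) 11547 7
 Tr.leaf) 11549 5
 (Tr.node (Tr.node Tr.leaf 11551 6
 Tr.leaf) 11553 6
 Tr.leaf)) 11555 5
 (Tr.node (Tr.node (Tr.node Tr.leaf 11557 4
 Tr.leaf) 11559 5
 Tr.leaf) 11569 4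
 (Tr.node Tr.leaf 11571 6
 Tr.leaf))) 11573 4
 (Tr.node (Tr.node (Tr.node (Tr.node Tr.leaf 11575 6
 Tr.leaf) 11585 6
 Tr.leaf) 11587 4
 (Tr.node Tr.leaf 11589 6
 Tr.leaf)) 11591 6
 (Tr.node (Tr.node (Tr.node Tr.leaf 11601 4
 Tr.leaf) 11603 5
 Tr.leaf) 11605 5
 (Tr.node Tr.leaf 11607 6
 Tr.leaf)))) 11625 6
 (Tr.node (Tr.node (Tr.node (Tr.node (Tr.node Tr.leaf 11627 6
 Tr.leaf) 11629 6
 Tr.leaf) 11631 6
 (Tr.node (Tr.node Tr.leaf 11641 6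
 Tr.leaf) 11643 6
 Tr.leaf)) 11645 6
 (Tr.node (Tr.node (Tr.node Tr.leaf 11647 6
 Tr.leaf) 11649 5
 Tr.leaf) 11651 7
 (Tr.node Tr.leaf 11653 4
 Tr.leaf))) 11655 3
 (Tr.node (Tr.node (Tr.node (Tr.node Tr.leaf 11665 5
 Tr.leaf) 11667 6
 Tr.leaf) 11669 6
 (Tr.node Tr.leaf 11671 6
 Tr.leaf)) 11689 6
 (Tr.node (Tr.node (Tr.node Tr.leaf 11691 6
 Tr.leaf) 11693 6
 Tr.leaf) 11695 6
 (Tr.node Tr.leaf 11705 6
 Tr.leaf)))))))))

/-- A subtree. -/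
def tr2_s3 : Tr := (Tr.node (Tr.node (Tr.node (Tr.node (Tr.node (Tr.node (Tr.node (Tr.node (Tr.node (Tr.node Tr.leaf 11709 6
 Tr.leaf) 11711 6
 Tr.leaf) 11721 6
 (Tr.node (Tr.node Tr.leaf 11723 6
 Tr.leaf) 11725 7
 Tr.leaf)) 11727 6
 (Tr.node (Tr.node (Tr.node Tr.leaf 11737 6
 Tr.leaf) 11739 6
 Tr.leaf) 11741 6
 (Tr.node Tr.leaf 11743 5
 Tr.leaf))) 11745 6
 (Tr.node (Tr.node (Tr.node (Tr.node Tr.leaf 11747 6
 Tr.leaf) 11749 6
 Tr.leaf) 11751 6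
 (Tr.node (Tr.node Tr.leaf 11761 5
 Tr.leaf) 11763 6
 Tr.leaf)) 11765 6
 (Tr.node (Tr.node (Tr.node Tr.leaf 11767 6
 Tr.leaf) 12291 4
 Tr.leaf) 12293 6
 (Tr.node Tr.leaf 12294 5
 Tr.leaf)))) 12299 4
 (Tr.node (Tr.node (Tr.node (Tr.node (Tr.node Tr.leaf 12301 6
 Tr.leaf) 12302 6
 Tr.leaf) 12307 4
 (Tr.node (Tr.node Tr.leaf 12309 6
 Tr.leaf) 12310 5
 Tr.leaf)) 12315 4
 (Tr.node (Tr.node (Tr.node Tr.leaf 12317 6
 Tr.leaf) 12318 6
 Tr.leaf) 12321 4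
 (Tr.node Tr.leaf 12322 5
 Tr.leaf))) 12324 4
 (Tr.node (Tr.node (Tr.node (Tr.node Tr.leaf 12327 6
 Tr.leaf) 12329 4
 Tr.leaf) 12330 4
 (Tr.node Tr.leaf 12332 5
 Tr.leaf)) 12335 6
 (Tr.node (Tr.node (Tr.node Tr.leaf 12337 4
 Tr.leaf) 12338 4
 Tr.leaf) 12340 4
 (Tr.node Tr.leaf 12343 6
 Tr.leaf))))) 12345 5
 (Tr.node (Tr.node (Tr.node (Tr.node (Tr.node (Tr.node Tr.leaf 12346 4
 Tr.leaf) 12348 4
 Tr.leaf) 12351 6
 (Tr.node (Tr.node Tr.leaf 12353 5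
 Tr.leaf) 12354 6
 Tr.leaf)) 12356 4
 (Tr.node (Tr.node (Tr.node Tr.leaf 12359 6
 Tr.leaf) 12361 4
 Tr.leaf) 12362 6
 (Tr.node Tr.leaf 12364 4
 Tr.leaf))) 12367 7
 (Tr.node (Tr.node (Tr.node (Tr.node Tr.leaf 12369 5
 Tr.leaf) 12370 6
 Tr.leaf) 12372 4
 (Tr.node (Tr.node Tr.leaf 12375 3
 Tr.leaf) 12377 4
 Tr.leaf)) 12378 6
 (Tr.node (Tr.node (Tr.node Tr.leaf 12380 4
 Tr.leaf) 12383 5
 Tr.leaf) 12387 6
 (Tr.node Tr.leaf 12389 6
 Tr.leaf)))) 12390 6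
 (Tr.node (Tr.node (Tr.node (Tr.node (Tr.node Tr.leaf 12395 5
 Tr.leaf) 12397 7
 Tr.leaf) 12398 6
 (Tr.node (Tr.node Tr.leaf 12403 6
 Tr.leaf) 12405 4
 Tr.leaf)) 12406 4
 (Tr.node (Tr.node (Tr.node Tr.leaf 12411 6
 Tr.leaf) 12413 4
 Tr.leaf) 12414 4
 (Tr.node Tr.leaf 12417 6
 Tr.leaf))) 12418 4
 (Tr.node (Tr.node (Tr.node (Tr.node Tr.leaf 12420 5
 Tr.leaf) 12423 6
 Tr.leaf) 12425 6
 (Tr.node Tr.leaf 12426 4
 Tr.leaf)) 12428 4
 (Tr.node (Tr.node (Tr.node Tr.leaf 12431 6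
 Tr.leaf) 12433 6
 Tr.leaf) 12434 4
 (Tr.node Tr.leaf 12436 4
 Tr.leaf)))))) 12439 4
 (Tr.node (Tr.node (Tr.node (Tr.node (Tr.node (Tr.node (Tr.node Tr.leaf 12441 6
 Tr.leaf) 12442 4
 Tr.leaf) 12444 4
 (Tr.node (Tr.node Tr.leaf 12447 6
 Tr.leaf) 12451 6
 Tr.leaf)) 12453 6
 (Tr.node (Tr.node (Tr.node Tr.leaf 12454 6
 Tr.leaf) 12459 6
 Tr.leaf) 12461 4
 (Tr.node Tr.leaf 12462 6
 Tr.leaf))) 12467 3
 (Tr.node (Tr.node (Tr.node (Tr.node Tr.leaf 12469 6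
 Tr.leaf) 12470 6
 Tr.leaf) 12475 7
 (Tr.node (Tr.node Tr.leaf 12477 4
 Tr.leaf) 12478 6
 Tr.leaf)) 12483 6
 (Tr.node (Tr.node (Tr.node Tr.leaf 12485 6
 Tr.leaf) 12486 6
 Tr.leaf) 12491 6
 (Tr.node Tr.leaf 12493 6
 Tr.leaf)))) 12494 6
 (Tr.node (Tr.node (Tr.node (Tr.node (Tr.node Tr.leaf 12499 6
 Tr.leaf) 12501 4
 Tr.leaf) 12502 3
 (Tr.node (Tr.node Tr.leaf 12507 5
 Tr.leaf) 12509 6
 Tr.leaf)) 12510 6
 (Tr.node (Tr.node (Tr.node Tr.leaf 12513 5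
 Tr.leaf) 12514 6
 Tr.leaf) 12516 3
 (Tr.node Tr.leaf 12519 6
 Tr.leaf))) 12521 6
 (Tr.node (Tr.node (Tr.node (Tr.node Tr.leaf 12522 5
 Tr.leaf) 12524 6
 Tr.leaf) 12527 6
 (Tr.node Tr.leaf 12529 5
 Tr.leaf)) 12530 6
 (Tr.node (Tr.node (Tr.node Tr.leaf 12532 6
 Tr.leaf) 12535 6
 Tr.leaf) 12537 5
 (Tr.node Tr.leaf 12538 6
 Tr.leaf))))) 12540 3
 (Tr.node (Tr.node (Tr.node (Tr.node (Tr.node (Tr.node Tr.leaf 12543 7
 Tr.leaf) 12545 4
 Tr.leaf) 12546 4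
 (Tr.node (Tr.node Tr.leaf 12548 4
 Tr.leaf) 12551 6
 Tr.leaf)) 12553 4
 (Tr.node (Tr.node (Tr.node Tr.leaf 12554 5
 Tr.leaf) 12556 4
 Tr.leaf) 12559 5
 (Tr.node Tr.leaf 12561 5
 Tr.leaf))) 12562 4
 (Tr.node (Tr.node (Tr.node (Tr.node Tr.leaf 12564 5
 Tr.leaf) 12567 5
 Tr.leaf) 12569 4
 (Tr.node Tr.leaf 12570 4
 Tr.leaf)) 12572 4
 (Tr.node (Tr.node (Tr.node Tr.leaf 12575 6
 Tr.leaf) 12579 6
 Tr.leaf) 12581 4
 (Tr.node Tr.leaf 12582 6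
 Tr.leaf)))) 12587 6
 (Tr.node (Tr.node (Tr.node (Tr.node (Tr.node Tr.leaf 12589 6
 Tr.leaf) 12590 5
 Tr.leaf) 12595 6
 (Tr.node (Tr.node Tr.leaf 12597 6
 Tr.leaf) 12598 4
 Tr.leaf)) 12603 6
 (Tr.node (Tr.node (Tr.node Tr.leaf 12605 6
 Tr.leaf) 12606 6
 Tr.leaf) 12611 6
 (Tr.node Tr.leaf 12613 6
 Tr.leaf))) 12614 6
 (Tr.node (Tr.node (Tr.node (Tr.node Tr.leaf 12619 6
 Tr.leaf) 12621 5
 Tr.leaf) 12622 6
 (Tr.node Tr.leaf 12627 6
 Tr.leaf)) 12629 6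
 (Tr.node (Tr.node (Tr.node Tr.leaf 12630 6
 Tr.leaf) 12635 7
 Tr.leaf) 12637 7
 (Tr.node Tr.leaf 12638 6
 Tr.leaf))))))) 12641 5
 (Tr.node (Tr.node (Tr.node (Tr.node (Tr.node (Tr.node (Tr.node (Tr.node Tr.leaf 12642 5
 Tr.leaf) 12644 6
 Tr.leaf) 12647 6
 (Tr.node (Tr.node Tr.leaf 12649 5
 Tr.leaf) 12650 6
 Tr.leaf)) 12652 5
 (Tr.node (Tr.node (Tr.node Tr.leaf 12655 6
 Tr.leaf) 12657 6
 Tr.leaf) 12658 6
 (Tr.node Tr.leaf 12660 4
 Tr.leaf))) 12663 6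
 (Tr.node (Tr.node (Tr.node (Tr.node Tr.leaf 12665 6
 Tr.leaf) 12666 6
 Tr.leaf) 12668 6
 (Tr.node (Tr.node Tr.leaf 12671 6
 Tr.leaf) 12675 6
 Tr.leaf)) 12677 6
 (Tr.node (Tr.node (Tr.node Tr.leaf 12678 4
 Tr.leaf) 12683 6
 Tr.leaf) 12685 6
 (Tr.node Tr.leaf 12686 3
 Tr.leaf)))) 12691 3
 (Tr.node (Tr.node (Tr.node (Tr.node (Tr.node Tr.leaf 12693 6
 Tr.leaf) 12694 3
 Tr.leaf) 12699 6
 (Tr.node (Tr.node Tr.leaf 12701 6
 Tr.leaf) 12702 5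
 Tr.leaf)) 12705 6
 (Tr.node (Tr.node (Tr.node Tr.leaf 12706 4
 Tr.leaf) 12708 4
 Tr.leaf) 12711 6
 (Tr.node Tr.leaf 12713 7
 Tr.leaf))) 12714 6
 (Tr.node (Tr.node (Tr.node (Tr.node Tr.leaf 12716 6
 Tr.leaf) 12719 5
 Tr.leaf) 12721 4
 (Tr.node Tr.leaf 12722 4
 Tr.leaf)) 12724 6
 (Tr.node (Tr.node (Tr.node Tr.leaf 12727 6
 Tr.leaf) 12729 4
 Tr.leaf) 12730 6
 (Tr.node Tr.leaf 12732 6
 Tr.leaf))))) 12735 6
 (Tr.node (Tr.node (Tr.node (Tr.node (Tr.node (Tr.node Tr.leaf 12737 5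
 Tr.leaf) 12738 6
 Tr.leaf) 12740 4
 (Tr.node (Tr.node Tr.leaf 12743 6
 Tr.leaf) 12745 6
 Tr.leaf)) 12746 6
 (Tr.node (Tr.node (Tr.node Tr.leaf 12748 6
 Tr.leaf) 12751 6
 Tr.leaf) 12753 6
 (Tr.node Tr.leaf 12754 6
 Tr.leaf))) 12756 6
 (Tr.node (Tr.node (Tr.node (Tr.node Tr.leaf 12759 6
 Tr.leaf) 12761 4
 Tr.leaf) 12762 6
 (Tr.node Tr.leaf 12764 6
 Tr.leaf)) 12767 6
 (Tr.node (Tr.node (Tr.node Tr.leaf 12771 6
 Tr.leaf) 12773 6
 Tr.leaf) 12774 6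
 (Tr.node Tr.leaf 12779 5
 Tr.leaf)))) 12781 6
 (Tr.node (Tr.node (Tr.node (Tr.node (Tr.node Tr.leaf 12782 5
 Tr.leaf) 12787 6
 Tr.leaf) 12789 6
 (Tr.node (Tr.node Tr.leaf 12790 6
 Tr.leaf) 12795 5
 Tr.leaf)) 12797 6
 (Tr.node (Tr.node (Tr.node Tr.leaf 12798 6
 Tr.leaf) 13313 5
 Tr.leaf) 13315 4
 (Tr.node Tr.leaf 13321 4
 Tr.leaf))) 13323 3
 (Tr.node (Tr.node (Tr.node (Tr.node Tr.leaf 13329 3
 Tr.leaf) 13331 4
 Tr.leaf) 13337 4
 (Tr.node Tr.leaf 13339 5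
 Tr.leaf)) 13349 6
 (Tr.node (Tr.node (Tr.node Tr.leaf 13351 6
 Tr.leaf) 13357 6
 Tr.leaf) 13359 6
 (Tr.node Tr.leaf 13365 6
 Tr.leaf)))))) 13367 6
 (Tr.node (Tr.node (Tr.node (Tr.node (Tr.node (Tr.node (Tr.node Tr.leaf 13373 6
 Tr.leaf) 13375 6
 Tr.leaf) 13381 7
 (Tr.node (Tr.node Tr.leaf 13383 6
 Tr.leaf) 13389 5
 Tr.leaf)) 13391 6
 (Tr.node (Tr.node (Tr.node Tr.leaf 13397 6
 Tr.leaf) 13399 6
 Tr.leaf) 13405 4
 (Tr.node Tr.leaf 13407 6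
 Tr.leaf))) 13409 4
 (Tr.node (Tr.node (Tr.node (Tr.node Tr.leaf 13411 4
 Tr.leaf) 13417 5
 Tr.leaf) 13419 6
 (Tr.node (Tr.node Tr.leaf 13425 6
 Tr.leaf) 13427 6
 Tr.leaf)) 13433 6
 (Tr.node (Tr.node (Tr.node Tr.leaf 13435 6
 Tr.leaf) 13445 6
 Tr.leaf) 13447 6
 (Tr.node Tr.leaf 13453 6
 Tr.leaf)))) 13455 6
 (Tr.node (Tr.node (Tr.node (Tr.node (Tr.node Tr.leaf 13461 6
 Tr.leaf) 13463 4
 Tr.leaf) 13469 4
 (Tr.node (Tr.node Tr.leaf 13471 4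
 Tr.leaf) 13473 6
 Tr.leaf)) 13475 6
 (Tr.node (Tr.node (Tr.node Tr.leaf 13481 4
 Tr.leaf) 13483 5
 Tr.leaf) 13489 5
 (Tr.node Tr.leaf 13491 6
 Tr.leaf))) 13497 4
 (Tr.node (Tr.node (Tr.node (Tr.node Tr.leaf 13499 6
 Tr.leaf) 13505 6
 Tr.leaf) 13507 6
 (Tr.node Tr.leaf 13513 6
 Tr.leaf)) 13515 6
 (Tr.node (Tr.node (Tr.node Tr.leaf 13521 6
 Tr.leaf) 13523 6
 Tr.leaf) 13529 6
 (Tr.node Tr.leaf 13531 6
 Tr.leaf))))) 13541 6
 (Tr.node (Tr.node (Tr.node (Tr.node (Tr.node (Tr.node Tr.leaf 13543 6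
 Tr.leaf) 13549 5
 Tr.leaf) 13551 6
 (Tr.node (Tr.node Tr.leaf 13557 6
 Tr.leaf) 13559 6
 Tr.leaf)) 13565 5
 (Tr.node (Tr.node (Tr.node Tr.leaf 13567 6
 Tr.leaf) 13573 4
 Tr.leaf) 13575 6
 (Tr.node Tr.leaf 13581 6
 Tr.leaf))) 13583 5
 (Tr.node (Tr.node (Tr.node (Tr.node Tr.leaf 13589 6
 Tr.leaf) 13591 4
 Tr.leaf) 13597 6
 (Tr.node Tr.leaf 13599 6
 Tr.leaf)) 13601 4
 (Tr.node (Tr.node (Tr.node Tr.leaf 13603 6
 Tr.leaf) 13609 6
 Tr.leaf) 13611 5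
 (Tr.node Tr.leaf 13617 6
 Tr.leaf)))) 13619 4
 (Tr.node (Tr.node (Tr.node (Tr.node (Tr.node Tr.leaf 13625 4
 Tr.leaf) 13627 5
 Tr.leaf) 13633 6
 (Tr.node (Tr.node Tr.leaf 13635 4
 Tr.leaf) 13641 6
 Tr.leaf)) 13643 5
 (Tr.node (Tr.node (Tr.node Tr.leaf 13649 6
 Tr.leaf) 13651 6
 Tr.leaf) 13657 5
 (Tr.node Tr.leaf 13659 5
 Tr.leaf))) 13669 6
 (Tr.node (Tr.node (Tr.node (Tr.node Tr.leaf 13671 6
 Tr.leaf) 13677 6
 Tr.leaf) 13679 6
 (Tr.node Tr.leaf 13685 6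
 Tr.leaf)) 13687 5
 (Tr.node (Tr.node (Tr.node Tr.leaf 13693 6
 Tr.leaf) 13695 6
 Tr.leaf) 13697 5
 (Tr.node Tr.leaf 13699 5
 Tr.leaf)))))))) 13705 5
 (Tr.node (Tr.node (Tr.node (Tr.node (Tr.node (Tr.node (Tr.node (Tr.node (Tr.node Tr.leaf 13707 6
 Tr.leaf) 13713 5
 Tr.leaf) 13715 6
 (Tr.node (Tr.node Tr.leaf 13721 6
 Tr.leaf) 13723 4
 Tr.leaf)) 13733 6
 (Tr.node (Tr.node (Tr.node Tr.leaf 13735 6
 Tr.leaf) 13741 6
 Tr.leaf) 13743 6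
 (Tr.node Tr.leaf 13749 6
 Tr.leaf))) 13751 5
 (Tr.node (Tr.node (Tr.node (Tr.node Tr.leaf 13757 6
 Tr.leaf) 13759 6
 Tr.leaf) 13765 6
 (Tr.node (Tr.node Tr.leaf 13767 5
 Tr.leaf) 13773 6
 Tr.leaf)) 13775 6
 (Tr.node (Tr.node (Tr.node Tr.leaf 13781 6
 Tr.leaf) 13783 6
 Tr.leaf) 13789 6
 (Tr.node Tr.leaf 13791 6
 Tr.leaf)))) 13793 5
 (Tr.node (Tr.node (Tr.node (Tr.node (Tr.node Tr.leaf 13795 5
 Tr.leaf) 13801 6
 Tr.leaf) 13803 6
 (Tr.node (Tr.node Tr.leaf 13809 6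
 Tr.leaf) 13811 6
 Tr.leaf)) 13817 6
 (Tr.node (Tr.node (Tr.node Tr.leaf 13819 6
 Tr.leaf) 14337 5
 Tr.leaf) 14338 6
 (Tr.node Tr.leaf 14341 6
 Tr.leaf))) 14342 6
 (Tr.node (Tr.node (Tr.node (Tr.node Tr.leaf 14345 6
 Tr.leaf) 14346 6
 Tr.leaf) 14349 6
 (Tr.node Tr.leaf 14350 6
 Tr.leaf)) 14353 6
 (Tr.node (Tr.node (Tr.node Tr.leaf 14354 6
 Tr.leaf) 14357 6
 Tr.leaf) 14358 6
 (Tr.node Tr.leaf 14361 6
 Tr.leaf))))) 14362 6
 (Tr.node (Tr.node (Tr.node (Tr.node (Tr.node (Tr.node Tr.leaf 14365 6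
 Tr.leaf) 14366 6
 Tr.leaf) 14371 6
 (Tr.node (Tr.node Tr.leaf 14375 5
 Tr.leaf) 14379 6
 Tr.leaf)) 14383 6
 (Tr.node (Tr.node (Tr.node Tr.leaf 14387 6
 Tr.leaf) 14391 6
 Tr.leaf) 14395 6
 (Tr.node Tr.leaf 14399 6
 Tr.leaf))) 14403 6
 (Tr.node (Tr.node (Tr.node (Tr.node Tr.leaf 14407 6
 Tr.leaf) 14411 4
 Tr.leaf) 14415 6
 (Tr.node Tr.leaf 14419 6
 Tr.leaf)) 14423 6
 (Tr.node (Tr.node (Tr.node Tr.leaf 14427 5
 Tr.leaf) 14431 6
 Tr.leaf) 14433 6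
 (Tr.node Tr.leaf 14434 5
 Tr.leaf)))) 14437 6
 (Tr.node (Tr.node (Tr.node (Tr.node (Tr.node Tr.leaf 14438 7
 Tr.leaf) 14441 6
 Tr.leaf) 14442 4
 (Tr.node (Tr.node Tr.leaf 14445 6
 Tr.leaf) 14446 6
 Tr.leaf)) 14449 4
 (Tr.node (Tr.node (Tr.node Tr.leaf 14450 6
 Tr.leaf) 14453 6
 Tr.leaf) 14454 6
 (Tr.node Tr.leaf 14457 6
 Tr.leaf))) 14458 6
 (Tr.node (Tr.node (Tr.node (Tr.node Tr.leaf 14461 4
 Tr.leaf) 14462 6
 Tr.leaf) 14467 6
 (Tr.node Tr.leaf 14471 6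
 Tr.leaf)) 14475 6
 (Tr.node (Tr.node (Tr.node Tr.leaf 14479 4
 Tr.leaf) 14483 6
 Tr.leaf) 14487 6
 (Tr.node Tr.leaf 14491 6
 Tr.leaf)))))) 14495 6
 (Tr.node (Tr.node (Tr.node (Tr.node (Tr.node (Tr.node (Tr.node Tr.leaf 14497 6
 Tr.leaf) 14498 6
 Tr.leaf) 14501 6
 (Tr.node (Tr.node Tr.leaf 14502 6
 Tr.leaf) 14505 6
 Tr.leaf)) 14506 6
 (Tr.node (Tr.node (Tr.node Tr.leaf 14509 6
 Tr.leaf) 14510 6
 Tr.leaf) 14513 4
 (Tr.node Tr.leaf 14514 6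
 Tr.leaf))) 14517 6
 (Tr.node (Tr.node (Tr.node (Tr.node Tr.leaf 14518 5
 Tr.leaf) 14521 6
 Tr.leaf) 14522 6
 (Tr.node (Tr.node Tr.leaf 14525 6
 Tr.leaf) 14526 5
 Tr.leaf)) 14529 5
 (Tr.node (Tr.node (Tr.node Tr.leaf 14530 6
 Tr.leaf) 14533 6
 Tr.leaf) 14534 6
 (Tr.node Tr.leaf 14537 6
 Tr.leaf)))) 14538 5
 (Tr.node (Tr.node (Tr.node (Tr.node (Tr.node Tr.leaf 14541 6
 Tr.leaf) 14542 6
 Tr.leaf) 14545 5
 (Tr.node (Tr.node Tr.leaf 14546 5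
 Tr.leaf) 14549 6
 Tr.leaf)) 14550 5
 (Tr.node (Tr.node (Tr.node Tr.leaf 14553 6
 Tr.leaf) 14554 6
 Tr.leaf) 14557 5
 (Tr.node Tr.leaf 14558 6
 Tr.leaf))) 14563 6
 (Tr.node (Tr.node (Tr.node (Tr.node Tr.leaf 14567 5
 Tr.leaf) 14571 5
 Tr.leaf) 14575 6
 (Tr.node Tr.leaf 14579 6
 Tr.leaf)) 14583 5
 (Tr.node (Tr.node (Tr.node Tr.leaf 14587 6
 Tr.leaf) 14591 6
 Tr.leaf) 14595 6
 (Tr.node Tr.leaf 14599 5
 Tr.leaf))))) 14603 4
 (Tr.node (Tr.node (Tr.node (Tr.node (Tr.node (Tr.node Tr.leaf 14607 6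
 Tr.leaf) 14611 7
 Tr.leaf) 14615 5
 (Tr.node (Tr.node Tr.leaf 14619 6
 Tr.leaf) 14623 6
 Tr.leaf)) 14625 6
 (Tr.node (Tr.node (Tr.node Tr.leaf 14626 6
 Tr.leaf) 14629 5
 Tr.leaf) 14630 3
 (Tr.node Tr.leaf 14633 6
 Tr.leaf))) 14634 6
 (Tr.node (Tr.node (Tr.node (Tr.node Tr.leaf 14637 6
 Tr.leaf) 14638 6
 Tr.leaf) 14641 5
 (Tr.node Tr.leaf 14642 6
 Tr.leaf)) 14645 6
 (Tr.node (Tr.node (Tr.node Tr.leaf 14646 6
 Tr.leaf) 14649 5
 Tr.leaf) 14650 3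
 (Tr.node Tr.leaf 14653 5
 Tr.leaf)))) 14654 6
 (Tr.node (Tr.node (Tr.node (Tr.node (Tr.node Tr.leaf 14657 6
 Tr.leaf) 14658 6
 Tr.leaf) 14661 4
 (Tr.node (Tr.node Tr.leaf 14662 6
 Tr.leaf) 14665 6
 Tr.leaf)) 14666 6
 (Tr.node (Tr.node (Tr.node Tr.leaf 14669 6
 Tr.leaf) 14670 6
 Tr.leaf) 14673 6
 (Tr.node Tr.leaf 14674 6
 Tr.leaf))) 14677 5
 (Tr.node (Tr.node (Tr.node (Tr.node Tr.leaf 14678 6
 Tr.leaf) 14681 5
 Tr.leaf) 14682 6
 (Tr.node Tr.leaf 14685 5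
 Tr.leaf)) 14686 6
 (Tr.node (Tr.node (Tr.node Tr.leaf 14691 6
 Tr.leaf) 14695 6
 Tr.leaf) 14699 6
 (Tr.node Tr.leaf 14703 6
 Tr.leaf))))))) 14707 6
 (Tr.node (Tr.node (Tr.node (Tr.node (Tr.node (Tr.node (Tr.node (Tr.node Tr.leaf 14711 5
 Tr.leaf) 14715 6
 Tr.leaf) 14719 6
 (Tr.node (Tr.node Tr.leaf 14721 6
 Tr.leaf) 14722 6
 Tr.leaf)) 14725 6
 (Tr.node (Tr.node (Tr.node Tr.leaf 14726 6
 Tr.leaf) 14729 6
 Tr.leaf) 14730 5
 (Tr.node Tr.leaf 14733 6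
 Tr.leaf))) 14734 6
 (Tr.node (Tr.node (Tr.node (Tr.node Tr.leaf 14737 5
 Tr.leaf) 14738 5
 Tr.leaf) 14741 6
 (Tr.node (Tr.node Tr.leaf 14742 6
 Tr.leaf) 14745 6
 Tr.leaf)) 14746 6
 (Tr.node (Tr.node (Tr.node Tr.leaf 14749 6
 Tr.leaf) 14750 6
 Tr.leaf) 14755 6
 (Tr.node Tr.leaf 14759 6
 Tr.leaf)))) 14763 6
 (Tr.node (Tr.node (Tr.node (Tr.node (Tr.node Tr.leaf 14767 6
 Tr.leaf) 14771 6
 Tr.leaf) 14775 6
 (Tr.node (Tr.node Tr.leaf 14779 5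
 Tr.leaf) 14783 5
 Tr.leaf)) 14787 6
 (Tr.node (Tr.node (Tr.node Tr.leaf 14791 5
 Tr.leaf) 14795 5
 Tr.leaf) 14799 6
 (Tr.node Tr.leaf 14803 6
 Tr.leaf))) 14807 6
 (Tr.node (Tr.node (Tr.node (Tr.node Tr.leaf 14811 7
 Tr.leaf) 14815 6
 Tr.leaf) 14817 6
 (Tr.node Tr.leaf 14818 5
 Tr.leaf)) 14821 6
 (Tr.node (Tr.node (Tr.node Tr.leaf 14822 6
 Tr.leaf) 14825 5
 Tr.leaf) 14826 6
 (Tr.node Tr.leaf 14829 6
 Tr.leaf))))) 14830 6
 (Tr.node (Tr.node (Tr.node (Tr.node (Tr.node (Tr.node Tr.leaf 14833 6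
 Tr.leaf) 14834 5
 Tr.leaf) 14837 6
 (Tr.node (Tr.node Tr.leaf 14838 6
 Tr.leaf) 14841 6
 Tr.leaf)) 14842 4
 (Tr.node (Tr.node (Tr.node Tr.leaf 14845 6
 Tr.leaf) 14846 6
 Tr.leaf) 15393 7
 (Tr.node Tr.leaf 15395 6
 Tr.leaf))) 15397 6
 (Tr.node (Tr.node (Tr.node (Tr.node Tr.leaf 15399 6
 Tr.leaf) 15401 6
 Tr.leaf) 15403 5
 (Tr.node Tr.leaf 15405 6
 Tr.leaf)) 15407 6
 (Tr.node (Tr.node (Tr.node Tr.leaf 15409 5
 Tr.leaf) 15411 6
 Tr.leaf) 15413 5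
 (Tr.node Tr.leaf 15415 6
 Tr.leaf)))) 15417 6
 (Tr.node (Tr.node (Tr.node (Tr.node (Tr.node Tr.leaf 15419 6
 Tr.leaf) 15421 6
 Tr.leaf) 15423 6
 (Tr.node (Tr.node Tr.leaf 15425 6
 Tr.leaf) 15427 4
 Tr.leaf)) 15429 5
 (Tr.node (Tr.node (Tr.node Tr.leaf 15431 6
 Tr.leaf) 15433 6
 Tr.leaf) 15435 6
 (Tr.node Tr.leaf 15437 7
 Tr.leaf))) 15439 6
 (Tr.node (Tr.node (Tr.node (Tr.node Tr.leaf 15441 6
 Tr.leaf) 15443 5
 Tr.leaf) 15445 6
 (Tr.node Tr.leaf 15447 6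
 Tr.leaf)) 15449 6
 (Tr.node (Tr.node (Tr.node Tr.leaf 15451 6
 Tr.leaf) 15453 6
 Tr.leaf) 15455 4
 (Tr.node Tr.leaf 15489 7
 Tr.leaf)))))) 15491 6
 (Tr.node (Tr.node (Tr.node (Tr.node (Tr.node (Tr.node (Tr.node Tr.leaf 15493 4
 Tr.leaf) 15495 4
 Tr.leaf) 15497 6
 (Tr.node (Tr.node Tr.leaf 15499 6
 Tr.leaf) 15501 5
 Tr.leaf)) 15503 5
 (Tr.node (Tr.node (Tr.node Tr.leaf 15505 5
 Tr.leaf) 15507 6
 Tr.leaf) 15509 6
 (Tr.node Tr.leaf 15511 6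
 Tr.leaf))) 15513 6
 (Tr.node (Tr.node (Tr.node (Tr.node Tr.leaf 15515 6
 Tr.leaf) 15517 6
 Tr.leaf) 15519 5
 (Tr.node (Tr.node Tr.leaf 15585 7
 Tr.leaf) 15587 6
 Tr.leaf)) 15589 6
 (Tr.node (Tr.node (Tr.node Tr.leaf 15591 5
 Tr.leaf) 15593 6
 Tr.leaf) 15595 6
 (Tr.node Tr.leaf 15597 5
 Tr.leaf)))) 15599 6
 (Tr.node (Tr.node (Tr.node (Tr.node (Tr.node Tr.leaf 15601 6
 Tr.leaf) 15603 6
 Tr.leaf) 15605 6
 (Tr.node (Tr.node Tr.leaf 15607 6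
 Tr.leaf) 15609 5
 Tr.leaf)) 15611 6
 (Tr.node (Tr.node (Tr.node Tr.leaf 15613 6
 Tr.leaf) 15615 6
 Tr.leaf) 15617 6
 (Tr.node Tr.leaf 15619 6
 Tr.leaf))) 15621 5
 (Tr.node (Tr.node (Tr.node (Tr.node Tr.leaf 15623 6
 Tr.leaf) 15625 6
 Tr.leaf) 15627 6
 (Tr.node Tr.leaf 15629 6
 Tr.leaf)) 15631 6
 (Tr.node (Tr.node (Tr.node Tr.leaf 15633 6
 Tr.leaf) 15635 5
 Tr.leaf) 15637 7
 (Tr.node Tr.leaf 15639 6
 Tr.leaf))))) 15641 4
 (Tr.node (Tr.node (Tr.node (Tr.node (Tr.node (Tr.node Tr.leaf 15643 5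
 Tr.leaf) 15645 5
 Tr.leaf) 15647 7
 (Tr.node (Tr.node Tr.leaf 15713 6
 Tr.leaf) 15715 6
 Tr.leaf)) 15717 6
 (Tr.node (Tr.node (Tr.node Tr.leaf 15719 6
 Tr.leaf) 15721 5
 Tr.leaf) 15723 6
 (Tr.node Tr.leaf 15725 5
 Tr.leaf))) 15727 6
 (Tr.node (Tr.node (Tr.node (Tr.node Tr.leaf 15729 6
 Tr.leaf) 15731 6
 Tr.leaf) 15733 6
 (Tr.node Tr.leaf 15735 6
 Tr.leaf)) 15737 5
 (Tr.node (Tr.node (Tr.node Tr.leaf 15739 5
 Tr.leaf) 15741 5
 Tr.leaf) 15743 6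
 (Tr.node Tr.leaf 15777 6
 Tr.leaf)))) 15779 6
 (Tr.node (Tr.node (Tr.node (Tr.node (Tr.node Tr.leaf 15781 6
 Tr.leaf) 15783 6
 Tr.leaf) 15785 6
 (Tr.node (Tr.node Tr.leaf 15787 6
 Tr.leaf) 15789 6
 Tr.leaf)) 15791 6
 (Tr.node (Tr.node (Tr.node Tr.leaf 15793 6
 Tr.leaf) 15795 6
 Tr.leaf) 15797 5
 (Tr.node Tr.leaf 15799 6
 Tr.leaf))) 15801 6
 (Tr.node (Tr.node (Tr.node (Tr.node Tr.leaf 15803 6
 Tr.leaf) 15805 6
 Tr.leaf) 15807 5
 (Tr.node Tr.leaf 15809 6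
 Tr.leaf)) 15811 6
 (Tr.node (Tr.node (Tr.node Tr.leaf 15813 6
 Tr.leaf) 15815 6
 Tr.leaf) 15817 6
 (Tr.node Tr.leaf 15819 6
 Tr.leaf)))))))))

/-- A subtree. -/
def tr2_s4 : Tr := (Tr.node (Tr.node (Tr.node (Tr.node (Tr.node (Tr.node (Tr.node (Tr.node (Tr.node (Tr.node Tr.leaf 15823 6
 Tr.leaf) 15825 6
 Tr.leaf) 15827 6
 (Tr.node (Tr.node Tr.leaf 15829 6
 Tr.leaf) 15831 5
 Tr.leaf)) 15833 6
 (Tr.node (Tr.node (Tr.node Tr.leaf 15835 5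
 Tr.leaf) 15837 5
 Tr.leaf) 15839 6
 (Tr.node Tr.leaf 16385 3
 Tr.leaf))) 16386 2
 (Tr.node (Tr.node (Tr.node (Tr.node Tr.leaf 16388 1
 Tr.leaf) 16391 4
 Tr.leaf) 16392 3
 (Tr.node (Tr.node Tr.leaf 16395 5
 Tr.leaf) 16397 5
 Tr.leaf)) 16398 6
 (Tr.node (Tr.node (Tr.node Tr.leaf 16400 3
 Tr.leaf) 16403 6
 Tr.leaf) 16405 6
 (Tr.node Tr.leaf 16406 5
 Tr.leaf)))) 16409 5
 (Tr.node (Tr.node (Tr.node (Tr.node (Tr.node Tr.leaf 16410 4
 Tr.leaf) 16412 4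
 Tr.leaf) 16415 5
 (Tr.node (Tr.node Tr.leaf 16417 3
 Tr.leaf) 16418 3
 Tr.leaf)) 16420 2
 (Tr.node (Tr.node (Tr.node Tr.leaf 16423 4
 Tr.leaf) 16424 2
 Tr.leaf) 16427 6
 (Tr.node Tr.leaf 16429 5
 Tr.leaf))) 16430 6
 (Tr.node (Tr.node (Tr.node (Tr.node Tr.leaf 16432 3
 Tr.leaf) 16435 6
 Tr.leaf) 16437 6
 (Tr.node Tr.leaf 16438 4
 Tr.leaf)) 16441 4
 (Tr.node (Tr.node (Tr.node Tr.leaf 16442 4
 Tr.leaf) 16444 4
 Tr.leaf) 16447 5
 (Tr.node Tr.leaf 16451 4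
 Tr.leaf))))) 16453 6
 (Tr.node (Tr.node (Tr.node (Tr.node (Tr.node (Tr.node Tr.leaf 16454 3
 Tr.leaf) 16457 4
 Tr.leaf) 16458 4
 (Tr.node (Tr.node Tr.leaf 16460 6
 Tr.leaf) 16463 5
 Tr.leaf)) 16465 5
 (Tr.node (Tr.node (Tr.node Tr.leaf 16466 4
 Tr.leaf) 16468 4
 Tr.leaf) 16471 4
 (Tr.node Tr.leaf 16472 5
 Tr.leaf))) 16475 6
 (Tr.node (Tr.node (Tr.node (Tr.node Tr.leaf 16477 6
 Tr.leaf) 16478 5
 Tr.leaf) 16483 4
 (Tr.node (Tr.node Tr.leaf 16485 5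
 Tr.leaf) 16486 4
 Tr.leaf)) 16489 4
 (Tr.node (Tr.node (Tr.node Tr.leaf 16490 3
 Tr.leaf) 16492 6
 Tr.leaf) 16495 5
 (Tr.node Tr.leaf 16497 5
 Tr.leaf)))) 16498 4
 (Tr.node (Tr.node (Tr.node (Tr.node (Tr.node Tr.leaf 16500 4
 Tr.leaf) 16503 5
 Tr.leaf) 16504 4
 (Tr.node (Tr.node Tr.leaf 16507 5
 Tr.leaf) 16509 4
 Tr.leaf)) 16510 6
 (Tr.node (Tr.node (Tr.node Tr.leaf 16515 4
 Tr.leaf) 16517 4
 Tr.leaf) 16518 7
 (Tr.node Tr.leaf 16521 4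
 Tr.leaf))) 16522 4
 (Tr.node (Tr.node (Tr.node (Tr.node Tr.leaf 16524 4
 Tr.leaf) 16527 4
 Tr.leaf) 16529 3
 (Tr.node Tr.leaf 16530 5
 Tr.leaf)) 16532 5
 (Tr.node (Tr.node (Tr.node Tr.leaf 16535 6
 Tr.leaf) 16536 4
 Tr.leaf) 16539 5
 (Tr.node Tr.leaf 16541 6
 Tr.leaf)))))) 16542 6
 (Tr.node (Tr.node (Tr.node (Tr.node (Tr.node (Tr.node (Tr.node Tr.leaf 16547 4
 Tr.leaf) 16549 5
 Tr.leaf) 16550 7
 (Tr.node (Tr.node Tr.leaf 16553 4
 Tr.leaf) 16554 3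
 Tr.leaf)) 16556 4
 (Tr.node (Tr.node (Tr.node Tr.leaf 16559 6
 Tr.leaf) 16561 4
 Tr.leaf) 16562 4
 (Tr.node Tr.leaf 16564 6
 Tr.leaf))) 16567 6
 (Tr.node (Tr.node (Tr.node (Tr.node Tr.leaf 16568 4
 Tr.leaf) 16571 6
 Tr.leaf) 16573 5
 (Tr.node (Tr.node Tr.leaf 16574 6
 Tr.leaf) 16577 4
 Tr.leaf)) 16578 4
 (Tr.node (Tr.node (Tr.node Tr.leaf 16580 3
 Tr.leaf) 16583 6
 Tr.leaf) 16584 7
 (Tr.node Tr.leaf 16587 5
 Tr.leaf)))) 16589 6
 (Tr.node (Tr.node (Tr.node (Tr.node (Tr.node Tr.leaf 16590 5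
 Tr.leaf) 16592 6
 Tr.leaf) 16595 6
 (Tr.node (Tr.node Tr.leaf 16597 6
 Tr.leaf) 16598 5
 Tr.leaf)) 16601 5
 (Tr.node (Tr.node (Tr.node Tr.leaf 16602 5
 Tr.leaf) 16604 5
 Tr.leaf) 16607 6
 (Tr.node Tr.leaf 16609 4
 Tr.leaf))) 16610 4
 (Tr.node (Tr.node (Tr.node (Tr.node Tr.leaf 16612 4
 Tr.leaf) 16615 5
 Tr.leaf) 16616 7
 (Tr.node Tr.leaf 16619 6
 Tr.leaf)) 16621 4
 (Tr.node (Tr.node (Tr.node Tr.leaf 16622 5
 Tr.leaf) 16624 6
 Tr.leaf) 16627 5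
 (Tr.node Tr.leaf 16629 6
 Tr.leaf))))) 16630 5
 (Tr.node (Tr.node (Tr.node (Tr.node (Tr.node (Tr.node Tr.leaf 16633 4
 Tr.leaf) 16634 5
 Tr.leaf) 16636 4
 (Tr.node (Tr.node Tr.leaf 16639 6
 Tr.leaf) 16643 5
 Tr.leaf)) 16645 4
 (Tr.node (Tr.node (Tr.node Tr.leaf 16646 5
 Tr.leaf) 16649 6
 Tr.leaf) 16650 4
 (Tr.node Tr.leaf 16652 4
 Tr.leaf))) 16655 4
 (Tr.node (Tr.node (Tr.node (Tr.node Tr.leaf 16657 3
 Tr.leaf) 16658 6
 Tr.leaf) 16660 4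
 (Tr.node Tr.leaf 16663 6
 Tr.leaf)) 16664 4
 (Tr.node (Tr.node (Tr.node Tr.leaf 16667 6
 Tr.leaf) 16669 6
 Tr.leaf) 16670 4
 (Tr.node Tr.leaf 16675 5
 Tr.leaf)))) 16677 4
 (Tr.node (Tr.node (Tr.node (Tr.node (Tr.node Tr.leaf 16678 4
 Tr.leaf) 16681 6
 Tr.leaf) 16682 5
 (Tr.node (Tr.node Tr.leaf 16684 5
 Tr.leaf) 16687 6
 Tr.leaf)) 16689 3
 (Tr.node (Tr.node (Tr.node Tr.leaf 16690 5
 Tr.leaf) 16692 5
 Tr.leaf) 16695 6
 (Tr.node Tr.leaf 16696 4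
 Tr.leaf))) 16699 6
 (Tr.node (Tr.node (Tr.node (Tr.node Tr.leaf 16701 6
 Tr.leaf) 16702 5
 Tr.leaf) 16705 6
 (Tr.node Tr.leaf 16706 4
 Tr.leaf)) 16708 4
 (Tr.node (Tr.node (Tr.node Tr.leaf 16711 5
 Tr.leaf) 16712 4
 Tr.leaf) 16715 5
 (Tr.node Tr.leaf 16717 5
 Tr.leaf))))))) 16718 6
 (Tr.node (Tr.node (Tr.node (Tr.node (Tr.node (Tr.node (Tr.node (Tr.node Tr.leaf 16720 5
 Tr.leaf) 16723 6
 Tr.leaf) 16725 6
 (Tr.node (Tr.node Tr.leaf 16726 5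
 Tr.leaf) 16729 6
 Tr.leaf)) 16730 5
 (Tr.node (Tr.node (Tr.node Tr.leaf 16732 6
 Tr.leaf) 16735 6
 Tr.leaf) 16737 6
 (Tr.node Tr.leaf 16738 4
 Tr.leaf))) 16740 4
 (Tr.node (Tr.node (Tr.node (Tr.node Tr.leaf 16743 6
 Tr.leaf) 16744 5
 Tr.leaf) 16747 4
 (Tr.node (Tr.node Tr.leaf 16749 5
 Tr.leaf) 16750 5
 Tr.leaf)) 16752 6
 (Tr.node (Tr.node (Tr.node Tr.leaf 16755 6
 Tr.leaf) 16757 6
 Tr.leaf) 16758 5
 (Tr.node Tr.leaf 16761 6
 Tr.leaf)))) 16762 5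
 (Tr.node (Tr.node (Tr.node (Tr.node (Tr.node Tr.leaf 16764 4
 Tr.leaf) 16767 6
 Tr.leaf) 16769 3
 (Tr.node (Tr.node Tr.leaf 16770 6
 Tr.leaf) 16772 4
 Tr.leaf)) 16775 4
 (Tr.node (Tr.node (Tr.node Tr.leaf 16776 6
 Tr.leaf) 16779 6
 Tr.leaf) 16781 5
 (Tr.node Tr.leaf 16782 4
 Tr.leaf))) 16784 4
 (Tr.node (Tr.node (Tr.node (Tr.node Tr.leaf 16787 6
 Tr.leaf) 16789 6
 Tr.leaf) 16790 6
 (Tr.node Tr.leaf 16793 6
 Tr.leaf)) 16794 4
 (Tr.node (Tr.node (Tr.node Tr.leaf 16796 6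
 Tr.leaf) 16799 5
 Tr.leaf) 16801 4
 (Tr.node Tr.leaf 16802 6
 Tr.leaf))))) 16804 4
 (Tr.node (Tr.node (Tr.node (Tr.node (Tr.node (Tr.node Tr.leaf 16807 6
 Tr.leaf) 16808 5
 Tr.leaf) 16811 6
 (Tr.node (Tr.node Tr.leaf 16813 6
 Tr.leaf) 16814 5
 Tr.leaf)) 16816 4
 (Tr.node (Tr.node (Tr.node Tr.leaf 16819 5
 Tr.leaf) 16821 6
 Tr.leaf) 16822 6
 (Tr.node Tr.leaf 16825 6
 Tr.leaf))) 16826 5
 (Tr.node (Tr.node (Tr.node (Tr.node Tr.leaf 16828 6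
 Tr.leaf) 16831 6
 Tr.leaf) 16835 5
 (Tr.node Tr.leaf 16837 6
 Tr.leaf)) 16838 5
 (Tr.node (Tr.node (Tr.node Tr.leaf 16841 6
 Tr.leaf) 16842 5
 Tr.leaf) 16844 6
 (Tr.node Tr.leaf 16847 6
 Tr.leaf)))) 16849 4
 (Tr.node (Tr.node (Tr.node (Tr.node (Tr.node Tr.leaf 16850 6
 Tr.leaf) 16852 5
 Tr.leaf) 16855 5
 (Tr.node (Tr.node Tr.leaf 16856 6
 Tr.leaf) 16859 5
 Tr.leaf)) 16861 6
 (Tr.node (Tr.node (Tr.node Tr.leaf 16862 6
 Tr.leaf) 16867 6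
 Tr.leaf) 16869 5
 (Tr.node Tr.leaf 16870 5
 Tr.leaf))) 16873 6
 (Tr.node (Tr.node (Tr.node (Tr.node Tr.leaf 16874 5
 Tr.leaf) 16876 6
 Tr.leaf) 16879 6
 (Tr.node Tr.leaf 16881 6
 Tr.leaf)) 16882 6
 (Tr.node (Tr.node (Tr.node Tr.leaf 16884 4
 Tr.leaf) 16887 5
 Tr.leaf) 16888 6
 (Tr.node Tr.leaf 16891 5
 Tr.leaf)))))) 16893 5
 (Tr.node (Tr.node (Tr.node (Tr.node (Tr.node (Tr.node (Tr.node Tr.leaf 16894 6
 Tr.leaf) 17413 4
 Tr.leaf) 17415 4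
 (Tr.node (Tr.node Tr.leaf 17417 6
 Tr.leaf) 17419 6
 Tr.leaf)) 17425 6
 (Tr.node (Tr.node (Tr.node Tr.leaf 17427 6
 Tr.leaf) 17437 6
 Tr.leaf) 17439 6
 (Tr.node Tr.leaf 17445 5
 Tr.leaf))) 17447 4
 (Tr.node (Tr.node (Tr.node (Tr.node Tr.leaf 17449 6
 Tr.leaf) 17451 6
 Tr.leaf) 17457 6
 (Tr.node (Tr.node Tr.leaf 17459 6
 Tr.leaf) 17469 6
 Tr.leaf)) 17471 6
 (Tr.node (Tr.node (Tr.node Tr.leaf 17473 5
 Tr.leaf) 17475 4
 Tr.leaf) 17485 4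
 (Tr.node Tr.leaf 17487 7
 Tr.leaf)))) 17493 6
 (Tr.node (Tr.node (Tr.node (Tr.node (Tr.node Tr.leaf 17495 6
 Tr.leaf) 17497 4
 Tr.leaf) 17499 4
 (Tr.node (Tr.node Tr.leaf 17505 4
 Tr.leaf) 17507 4
 Tr.leaf)) 17517 4
 (Tr.node (Tr.node (Tr.node Tr.leaf 17519 6
 Tr.leaf) 17525 6
 Tr.leaf) 17527 4
 (Tr.node Tr.leaf 17529 6
 Tr.leaf))) 17531 6
 (Tr.node (Tr.node (Tr.node (Tr.node Tr.leaf 17537 4
 Tr.leaf) 17539 4
 Tr.leaf) 17549 4
 (Tr.node Tr.leaf 17551 6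
 Tr.leaf)) 17557 7
 (Tr.node (Tr.node (Tr.node Tr.leaf 17559 5
 Tr.leaf) 17561 6
 Tr.leaf) 17563 6
 (Tr.node Tr.leaf 17569 5
 Tr.leaf))))) 17571 5
 (Tr.node (Tr.node (Tr.node (Tr.node (Tr.node (Tr.node Tr.leaf 17581 6
 Tr.leaf) 17583 5
 Tr.leaf) 17589 6
 (Tr.node (Tr.node Tr.leaf 17591 6
 Tr.leaf) 17593 4
 Tr.leaf)) 17595 6
 (Tr.node (Tr.node (Tr.node Tr.leaf 17605 6
 Tr.leaf) 17607 5
 Tr.leaf) 17609 5
 (Tr.node Tr.leaf 17611 6
 Tr.leaf))) 17617 4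
 (Tr.node (Tr.node (Tr.node (Tr.node Tr.leaf 17619 7
 Tr.leaf) 17629 6
 Tr.leaf) 17631 6
 (Tr.node Tr.leaf 17637 6
 Tr.leaf)) 17639 5
 (Tr.node (Tr.node (Tr.node Tr.leaf 17641 5
 Tr.leaf) 17643 5
 Tr.leaf) 17649 4
 (Tr.node Tr.leaf 17651 6
 Tr.leaf)))) 17661 6
 (Tr.node (Tr.node (Tr.node (Tr.node (Tr.node Tr.leaf 17663 6
 Tr.leaf) 17665 4
 Tr.leaf) 17667 4
 (Tr.node (Tr.node Tr.leaf 17677 6
 Tr.leaf) 17679 6
 Tr.leaf)) 17685 6
 (Tr.node (Tr.node (Tr.node Tr.leaf 17687 5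
 Tr.leaf) 17689 6
 Tr.leaf) 17691 6
 (Tr.node Tr.leaf 17697 4
 Tr.leaf))) 17699 4
 (Tr.node (Tr.node (Tr.node (Tr.node Tr.leaf 17709 3
 Tr.leaf) 17711 6
 Tr.leaf) 17717 5
 (Tr.node Tr.leaf 17719 6
 Tr.leaf)) 17721 4
 (Tr.node (Tr.node (Tr.node Tr.leaf 17723 6
 Tr.leaf) 17733 6
 Tr.leaf) 17735 6
 (Tr.node Tr.leaf 17737 7
 Tr.leaf)))))))) 17739 6
 (Tr.node (Tr.node (Tr.node (Tr.node (Tr.node (Tr.node (Tr.node (Tr.node (Tr.node Tr.leaf 17745 6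
 Tr.leaf) 17747 6
 Tr.leaf) 17757 6
 (Tr.node (Tr.node Tr.leaf 17759 5
 Tr.leaf) 17765 6
 Tr.leaf)) 17767 6
 (Tr.node (Tr.node (Tr.node Tr.leaf 17769 3
 Tr.leaf) 17771 6
 Tr.leaf) 17777 6
 (Tr.node Tr.leaf 17779 6
 Tr.leaf))) 17789 6
 (Tr.node (Tr.node (Tr.node (Tr.node Tr.leaf 17791 6
 Tr.leaf) 17797 7
 Tr.leaf) 17799 6
 (Tr.node (Tr.node Tr.leaf 17801 5
 Tr.leaf) 17803 6
 Tr.leaf)) 17809 5
 (Tr.node (Tr.node (Tr.node Tr.leaf 17811 7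
 Tr.leaf) 17821 6
 Tr.leaf) 17823 6
 (Tr.node Tr.leaf 17829 6
 Tr.leaf)))) 17831 6
 (Tr.node (Tr.node (Tr.node (Tr.node (Tr.node Tr.leaf 17833 6
 Tr.leaf) 17835 6
 Tr.leaf) 17841 3
 (Tr.node (Tr.node Tr.leaf 17843 6
 Tr.leaf) 17853 6
 Tr.leaf)) 17855 6
 (Tr.node (Tr.node (Tr.node Tr.leaf 17857 6
 Tr.leaf) 17859 5
 Tr.leaf) 17869 5
 (Tr.node Tr.leaf 17871 5
 Tr.leaf))) 17877 6
 (Tr.node (Tr.node (Tr.node (Tr.node Tr.leaf 17879 6
 Tr.leaf) 17881 7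
 Tr.leaf) 17883 6
 (Tr.node Tr.leaf 17889 6
 Tr.leaf)) 17891 6
 (Tr.node (Tr.node (Tr.node Tr.leaf 17901 6
 Tr.leaf) 17903 6
 Tr.leaf) 17909 6
 (Tr.node Tr.leaf 17911 6
 Tr.leaf))))) 17913 6
 (Tr.node (Tr.node (Tr.node (Tr.node (Tr.node (Tr.node Tr.leaf 17915 6
 Tr.leaf) 18435 5
 Tr.leaf) 18439 4
 (Tr.node (Tr.node Tr.leaf 18441 4
 Tr.leaf) 18442 6
 Tr.leaf)) 18445 4
 (Tr.node (Tr.node (Tr.node Tr.leaf 18446 6
 Tr.leaf) 18449 6
 Tr.leaf) 18450 5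
 (Tr.node Tr.leaf 18453 6
 Tr.leaf))) 18454 3
 (Tr.node (Tr.node (Tr.node (Tr.node Tr.leaf 18459 6
 Tr.leaf) 18463 6
 Tr.leaf) 18467 5
 (Tr.node (Tr.node Tr.leaf 18471 4
 Tr.leaf) 18473 4
 Tr.leaf)) 18474 6
 (Tr.node (Tr.node (Tr.node Tr.leaf 18477 4
 Tr.leaf) 18478 6
 Tr.leaf) 18481 6
 (Tr.node Tr.leaf 18482 5
 Tr.leaf)))) 18485 6
 (Tr.node (Tr.node (Tr.node (Tr.node (Tr.node Tr.leaf 18486 4
 Tr.leaf) 18491 6
 Tr.leaf) 18495 5
 (Tr.node (Tr.node Tr.leaf 18497 6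
 Tr.leaf) 18498 4
 Tr.leaf)) 18501 6
 (Tr.node (Tr.node (Tr.node Tr.leaf 18502 4
 Tr.leaf) 18507 6
 Tr.leaf) 18511 7
 (Tr.node Tr.leaf 18515 6
 Tr.leaf))) 18519 6
 (Tr.node (Tr.node (Tr.node (Tr.node Tr.leaf 18521 6
 Tr.leaf) 18522 6
 Tr.leaf) 18525 6
 (Tr.node Tr.leaf 18526 6
 Tr.leaf)) 18529 6
 (Tr.node (Tr.node (Tr.node Tr.leaf 18530 4
 Tr.leaf) 18533 6
 Tr.leaf) 18534 4
 (Tr.node Tr.leaf 18539 3
 Tr.leaf)))))) 18543 5
 (Tr.node (Tr.node (Tr.node (Tr.node (Tr.node (Tr.node (Tr.node Tr.leaf 18547 4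
 Tr.leaf) 18551 6
 Tr.leaf) 18553 4
 (Tr.node (Tr.node Tr.leaf 18554 3
 Tr.leaf) 18557 6
 Tr.leaf)) 18558 6
 (Tr.node (Tr.node (Tr.node Tr.leaf 18561 4
 Tr.leaf) 18562 7
 Tr.leaf) 18565 4
 (Tr.node Tr.leaf 18566 6
 Tr.leaf))) 18571 6
 (Tr.node (Tr.node (Tr.node (Tr.node Tr.leaf 18575 6
 Tr.leaf) 18579 5
 Tr.leaf) 18583 6
 (Tr.node (Tr.node Tr.leaf 18585 6
 Tr.leaf) 18586 6
 Tr.leaf)) 18589 6
 (Tr.node (Tr.node (Tr.node Tr.leaf 18590 6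
 Tr.leaf) 18593 5
 Tr.leaf) 18594 6
 (Tr.node Tr.leaf 18597 4
 Tr.leaf)))) 18598 7
 (Tr.node (Tr.node (Tr.node (Tr.node (Tr.node Tr.leaf 18603 6
 Tr.leaf) 18607 7
 Tr.leaf) 18611 6
 (Tr.node (Tr.node Tr.leaf 18615 4
 Tr.leaf) 18617 3
 Tr.leaf)) 18618 6
 (Tr.node (Tr.node (Tr.node Tr.leaf 18621 6
 Tr.leaf) 18622 6
 Tr.leaf) 18627 6
 (Tr.node Tr.leaf 18631 5
 Tr.leaf))) 18633 6
 (Tr.node (Tr.node (Tr.node (Tr.node Tr.leaf 18634 6
 Tr.leaf) 18637 5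
 Tr.leaf) 18638 6
 (Tr.node Tr.leaf 18641 6
 Tr.leaf)) 18642 4
 (Tr.node (Tr.node (Tr.node Tr.leaf 18645 6
 Tr.leaf) 18646 6
 Tr.leaf) 18651 6
 (Tr.node Tr.leaf 18655 6
 Tr.leaf))))) 18659 6
 (Tr.node (Tr.node (Tr.node (Tr.node (Tr.node (Tr.node Tr.leaf 18663 7
 Tr.leaf) 18665 5
 Tr.leaf) 18666 6
 (Tr.node (Tr.node Tr.leaf 18669 6
 Tr.leaf) 18670 6
 Tr.leaf)) 18673 6
 (Tr.node (Tr.node (Tr.node Tr.leaf 18674 6
 Tr.leaf) 18677 6
 Tr.leaf) 18678 6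
 (Tr.node Tr.leaf 18683 6
 Tr.leaf))) 18687 6
 (Tr.node (Tr.node (Tr.node (Tr.node Tr.leaf 18689 4
 Tr.leaf) 18690 4
 Tr.leaf) 18693 4
 (Tr.node Tr.leaf 18694 4
 Tr.leaf)) 18699 6
 (Tr.node (Tr.node (Tr.node Tr.leaf 18703 5
 Tr.leaf) 18707 5
 Tr.leaf) 18711 6
 (Tr.node Tr.leaf 18713 6
 Tr.leaf)))) 18714 6
 (Tr.node (Tr.node (Tr.node (Tr.node (Tr.node Tr.leaf 18717 6
 Tr.leaf) 18718 5
 Tr.leaf) 18721 4
 (Tr.node (Tr.node Tr.leaf 18722 4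
 Tr.leaf) 18725 5
 Tr.leaf)) 18726 5
 (Tr.node (Tr.node (Tr.node Tr.leaf 18731 6
 Tr.leaf) 18735 6
 Tr.leaf) 18739 5
 (Tr.node Tr.leaf 18743 5
 Tr.leaf))) 18745 3
 (Tr.node (Tr.node (Tr.node (Tr.node Tr.leaf 18746 6
 Tr.leaf) 18749 7
 Tr.leaf) 18750 6
 (Tr.node Tr.leaf 18755 6
 Tr.leaf)) 18759 7
 (Tr.node (Tr.node (Tr.node Tr.leaf 18761 6
 Tr.leaf) 18762 6
 Tr.leaf) 18765 6
 (Tr.node Tr.leaf 18766 6
 Tr.leaf))))))) 18769 6
 (Tr.node (Tr.node (Tr.node (Tr.node (Tr.node (Tr.node (Tr.node (Tr.node Tr.leaf 18770 3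
 Tr.leaf) 18773 4
 Tr.leaf) 18774 6
 (Tr.node (Tr.node Tr.leaf 18779 6
 Tr.leaf) 18783 6
 Tr.leaf)) 18787 4
 (Tr.node (Tr.node (Tr.node Tr.leaf 18791 4
 Tr.leaf) 18793 6
 Tr.leaf) 18794 4
 (Tr.node Tr.leaf 18797 6
 Tr.leaf))) 18798 4
 (Tr.node (Tr.node (Tr.node (Tr.node Tr.leaf 18801 6
 Tr.leaf) 18802 6
 Tr.leaf) 18805 4
 (Tr.node (Tr.node Tr.leaf 18806 3
 Tr.leaf) 18811 6
 Tr.leaf)) 18815 7
 (Tr.node (Tr.node (Tr.node Tr.leaf 18819 5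
 Tr.leaf) 18823 5
 Tr.leaf) 18825 6
 (Tr.node Tr.leaf 18826 5
 Tr.leaf)))) 18829 6
 (Tr.node (Tr.node (Tr.node (Tr.node (Tr.node Tr.leaf 18830 6
 Tr.leaf) 18833 6
 Tr.leaf) 18834 6
 (Tr.node (Tr.node Tr.leaf 18837 7
 Tr.leaf) 18838 6
 Tr.leaf)) 18843 6
 (Tr.node (Tr.node (Tr.node Tr.leaf 18847 5
 Tr.leaf) 18851 6
 Tr.leaf) 18855 6
 (Tr.node Tr.leaf 18857 6
 Tr.leaf))) 18858 6
 (Tr.node (Tr.node (Tr.node (Tr.node Tr.leaf 18861 6
 Tr.leaf) 18862 6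
 Tr.leaf) 18865 4
 (Tr.node Tr.leaf 18866 6
 Tr.leaf)) 18869 4
 (Tr.node (Tr.node (Tr.node Tr.leaf 18870 6
 Tr.leaf) 18875 6
 Tr.leaf) 18879 5
 (Tr.node Tr.leaf 18881 4
 Tr.leaf))))) 18882 6
 (Tr.node (Tr.node (Tr.node (Tr.node (Tr.node (Tr.node Tr.leaf 18885 6
 Tr.leaf) 18886 5
 Tr.leaf) 18891 6
 (Tr.node (Tr.node Tr.leaf 18895 6
 Tr.leaf) 18899 6
 Tr.leaf)) 18903 6
 (Tr.node (Tr.node (Tr.node Tr.leaf 18905 6
 Tr.leaf) 18906 6
 Tr.leaf) 18909 5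
 (Tr.node Tr.leaf 18910 5
 Tr.leaf))) 18913 6
 (Tr.node (Tr.node (Tr.node (Tr.node Tr.leaf 18914 4
 Tr.leaf) 18917 6
 Tr.leaf) 18918 6
 (Tr.node Tr.leaf 18923 6
 Tr.leaf)) 18927 6
 (Tr.node (Tr.node (Tr.node Tr.leaf 18931 6
 Tr.leaf) 18935 6
 Tr.leaf) 18937 6
 (Tr.node Tr.leaf 18938 6
 Tr.leaf)))) 18941 6
 (Tr.node (Tr.node (Tr.node (Tr.node (Tr.node Tr.leaf 18942 6
 Tr.leaf) 19457 4
 Tr.leaf) 19459 4
 (Tr.node (Tr.node Tr.leaf 19461 4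
 Tr.leaf) 19463 4
 Tr.leaf)) 19481 6
 (Tr.node (Tr.node (Tr.node Tr.leaf 19483 6
 Tr.leaf) 19485 6
 Tr.leaf) 19487 6
 (Tr.node Tr.leaf 19489 4
 Tr.leaf))) 19491 4
 (Tr.node (Tr.node (Tr.node (Tr.node Tr.leaf 19493 4
 Tr.leaf) 19495 5
 Tr.leaf) 19513 6
 (Tr.node Tr.leaf 19515 6
 Tr.leaf)) 19517 6
 (Tr.node (Tr.node (Tr.node Tr.leaf 19519 6
 Tr.leaf) 19529 6
 Tr.leaf) 19531 5
 (Tr.node Tr.leaf 19533 6
 Tr.leaf)))))) 19535 5
 (Tr.node (Tr.node (Tr.node (Tr.node (Tr.node (Tr.node (Tr.node Tr.leaf 19537 4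
 Tr.leaf) 19539 6
 Tr.leaf) 19541 6
 (Tr.node (Tr.node Tr.leaf 19543 4
 Tr.leaf) 19561 6
 Tr.leaf)) 19563 6
 (Tr.node (Tr.node (Tr.node Tr.leaf 19565 6
 Tr.leaf) 19567 6
 Tr.leaf) 19569 6
 (Tr.node Tr.leaf 19571 5
 Tr.leaf))) 19573 4
 (Tr.node (Tr.node (Tr.node (Tr.node Tr.leaf 19575 6
 Tr.leaf) 19593 5
 Tr.leaf) 19595 7
 (Tr.node (Tr.node Tr.leaf 19597 5
 Tr.leaf) 19599 6
 Tr.leaf)) 19601 6
 (Tr.node (Tr.node (Tr.node Tr.leaf 19603 6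
 Tr.leaf) 19605 5
 Tr.leaf) 19607 5
 (Tr.node Tr.leaf 19625 4
 Tr.leaf)))) 19627 4
 (Tr.node (Tr.node (Tr.node (Tr.node (Tr.node Tr.leaf 19629 6
 Tr.leaf) 19631 6
 Tr.leaf) 19633 5
 (Tr.node (Tr.node Tr.leaf 19635 6
 Tr.leaf) 19637 4
 Tr.leaf)) 19639 6
 (Tr.node (Tr.node (Tr.node Tr.leaf 19649 6
 Tr.leaf) 19651 4
 Tr.leaf) 19653 5
 (Tr.node Tr.leaf 19655 4
 Tr.leaf))) 19673 6
 (Tr.node (Tr.node (Tr.node (Tr.node Tr.leaf 19675 6
 Tr.leaf) 19677 6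
 Tr.leaf) 19679 6
 (Tr.node Tr.leaf 19681 5
 Tr.leaf)) 19683 4
 (Tr.node (Tr.node (Tr.node Tr.leaf 19685 6
 Tr.leaf) 19687 6
 Tr.leaf) 19705 5
 (Tr.node Tr.leaf 19707 6
 Tr.leaf))))) 19709 6
 (Tr.node (Tr.node (Tr.node (Tr.node (Tr.node (Tr.node Tr.leaf 19711 6
 Tr.leaf) 19721 6
 Tr.leaf) 19723 6
 (Tr.node (Tr.node Tr.leaf 19725 6
 Tr.leaf) 19727 6
 Tr.leaf)) 19729 6
 (Tr.node (Tr.node (Tr.node Tr.leaf 19731 5
 Tr.leaf) 19733 5
 Tr.leaf) 19735 4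
 (Tr.node Tr.leaf 19753 4
 Tr.leaf))) 19755 6
 (Tr.node (Tr.node (Tr.node (Tr.node Tr.leaf 19757 6
 Tr.leaf) 19759 6
 Tr.leaf) 19761 6
 (Tr.node Tr.leaf 19763 5
 Tr.leaf)) 19765 6
 (Tr.node (Tr.node (Tr.node Tr.leaf 19767 7
 Tr.leaf) 19777 6
 Tr.leaf) 19779 5
 (Tr.node Tr.leaf 19781 6
 Tr.leaf)))) 19783 4
 (Tr.node (Tr.node (Tr.node (Tr.node (Tr.node Tr.leaf 19801 6
 Tr.leaf) 19803 6
 Tr.leaf) 19805 5
 (Tr.node (Tr.node Tr.leaf 19807 6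
 Tr.leaf) 19809 5
 Tr.leaf)) 19811 6
 (Tr.node (Tr.node (Tr.node Tr.leaf 19813 6
 Tr.leaf) 19815 6
 Tr.leaf) 19833 6
 (Tr.node Tr.leaf 19835 6
 Tr.leaf))) 19837 5
 (Tr.node (Tr.node (Tr.node (Tr.node Tr.leaf 19839 5
 Tr.leaf) 19841 5
 Tr.leaf) 19843 6
 (Tr.node Tr.leaf 19845 6
 Tr.leaf)) 19847 5
 (Tr.node (Tr.node (Tr.node Tr.leaf 19865 6
 Tr.leaf) 19867 5
 Tr.leaf) 19869 6
 (Tr.node Tr.leaf 19871 6
 Tr.leaf)))))))))

/-- A subtree. -/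
def tr2_s5 : Tr := (Tr.node (Tr.node (Tr.node (Tr.node (Tr.node (Tr.node (Tr.node (Tr.node (Tr.node (Tr.node Tr.leaf 19875 7
 Tr.leaf) 19877 4
 Tr.leaf) 19879 5
 (Tr.node (Tr.node Tr.leaf 19897 6
 Tr.leaf) 19899 6
 Tr.leaf)) 19901 6
 (Tr.node (Tr.node (Tr.node Tr.leaf 19903 6
 Tr.leaf) 19913 6
 Tr.leaf) 19915 7
 (Tr.node Tr.leaf 19917 6
 Tr.leaf))) 19919 6
 (Tr.node (Tr.node (Tr.node (Tr.node Tr.leaf 19921 6
 Tr.leaf) 19923 6
 Tr.leaf) 19925 6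
 (Tr.node (Tr.node Tr.leaf 19927 5
 Tr.leaf) 19945 6
 Tr.leaf)) 19947 6
 (Tr.node (Tr.node (Tr.node Tr.leaf 19949 6
 Tr.leaf) 19951 7
 Tr.leaf) 19953 7
 (Tr.node Tr.leaf 19955 6
 Tr.leaf)))) 19957 6
 (Tr.node (Tr.node (Tr.node (Tr.node (Tr.node Tr.leaf 19959 6
 Tr.leaf) 20483 6
 Tr.leaf) 20485 4
 (Tr.node (Tr.node Tr.leaf 20486 6
 Tr.leaf) 20491 6
 Tr.leaf)) 20493 4
 (Tr.node (Tr.node (Tr.node Tr.leaf 20494 5
 Tr.leaf) 20497 4
 Tr.leaf) 20498 5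
 (Tr.node Tr.leaf 20500 4
 Tr.leaf))) 20503 6
 (Tr.node (Tr.node (Tr.node (Tr.node Tr.leaf 20505 4
 Tr.leaf) 20506 4
 Tr.leaf) 20508 5
 (Tr.node Tr.leaf 20511 6
 Tr.leaf)) 20515 6
 (Tr.node (Tr.node (Tr.node Tr.leaf 20517 4
 Tr.leaf) 20518 6
 Tr.leaf) 20523 6
 (Tr.node Tr.leaf 20525 4
 Tr.leaf))))) 20526 5
 (Tr.node (Tr.node (Tr.node (Tr.node (Tr.node (Tr.node Tr.leaf 20529 4
 Tr.leaf) 20530 4
 Tr.leaf) 20532 5
 (Tr.node (Tr.node Tr.leaf 20535 6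
 Tr.leaf) 20537 5
 Tr.leaf)) 20538 4
 (Tr.node (Tr.node (Tr.node Tr.leaf 20540 4
 Tr.leaf) 20543 6
 Tr.leaf) 20545 5
 (Tr.node Tr.leaf 20546 5
 Tr.leaf))) 20548 6
 (Tr.node (Tr.node (Tr.node (Tr.node Tr.leaf 20551 5
 Tr.leaf) 20553 4
 Tr.leaf) 20554 5
 (Tr.node (Tr.node Tr.leaf 20556 6
 Tr.leaf) 20559 3
 Tr.leaf)) 20563 4
 (Tr.node (Tr.node (Tr.node Tr.leaf 20565 6
 Tr.leaf) 20566 5
 Tr.leaf) 20571 5
 (Tr.node Tr.leaf 20573 6
 Tr.leaf)))) 20574 5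
 (Tr.node (Tr.node (Tr.node (Tr.node (Tr.node Tr.leaf 20577 5
 Tr.leaf) 20578 4
 Tr.leaf) 20580 6
 (Tr.node (Tr.node Tr.leaf 20583 6
 Tr.leaf) 20585 4
 Tr.leaf)) 20586 4
 (Tr.node (Tr.node (Tr.node Tr.leaf 20588 6
 Tr.leaf) 20591 6
 Tr.leaf) 20595 6
 (Tr.node Tr.leaf 20597 4
 Tr.leaf))) 20598 6
 (Tr.node (Tr.node (Tr.node (Tr.node Tr.leaf 20603 6
 Tr.leaf) 20605 6
 Tr.leaf) 20606 6
 (Tr.node Tr.leaf 20609 4
 Tr.leaf)) 20610 4
 (Tr.node (Tr.node (Tr.node Tr.leaf 20612 4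
 Tr.leaf) 20615 6
 Tr.leaf) 20617 4
 (Tr.node Tr.leaf 20618 5
 Tr.leaf)))))) 20620 5
 (Tr.node (Tr.node (Tr.node (Tr.node (Tr.node (Tr.node (Tr.node Tr.leaf 20623 5
 Tr.leaf) 20627 6
 Tr.leaf) 20629 6
 (Tr.node (Tr.node Tr.leaf 20630 6
 Tr.leaf) 20635 6
 Tr.leaf)) 20637 6
 (Tr.node (Tr.node (Tr.node Tr.leaf 20638 5
 Tr.leaf) 20641 5
 Tr.leaf) 20642 4
 (Tr.node Tr.leaf 20644 4
 Tr.leaf))) 20647 4
 (Tr.node (Tr.node (Tr.node (Tr.node Tr.leaf 20649 5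
 Tr.leaf) 20650 4
 Tr.leaf) 20652 5
 (Tr.node (Tr.node Tr.leaf 20655 6
 Tr.leaf) 20659 7
 Tr.leaf)) 20661 6
 (Tr.node (Tr.node (Tr.node Tr.leaf 20662 5
 Tr.leaf) 20667 5
 Tr.leaf) 20669 6
 (Tr.node Tr.leaf 20670 6
 Tr.leaf)))) 20675 7
 (Tr.node (Tr.node (Tr.node (Tr.node (Tr.node Tr.leaf 20677 7
 Tr.leaf) 20678 6
 Tr.leaf) 20683 5
 (Tr.node (Tr.node Tr.leaf 20685 6
 Tr.leaf) 20686 6
 Tr.leaf)) 20689 6
 (Tr.node (Tr.node (Tr.node Tr.leaf 20690 6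
 Tr.leaf) 20692 6
 Tr.leaf) 20695 6
 (Tr.node Tr.leaf 20697 6
 Tr.leaf))) 20698 4
 (Tr.node (Tr.node (Tr.node (Tr.node Tr.leaf 20700 6
 Tr.leaf) 20703 6
 Tr.leaf) 20707 6
 (Tr.node Tr.leaf 20709 6
 Tr.leaf)) 20710 6
 (Tr.node (Tr.node (Tr.node Tr.leaf 20715 6
 Tr.leaf) 20717 6
 Tr.leaf) 20718 6
 (Tr.node Tr.leaf 20721 5
 Tr.leaf))))) 20722 5
 (Tr.node (Tr.node (Tr.node (Tr.node (Tr.node (Tr.node Tr.leaf 20724 6
 Tr.leaf) 20727 6
 Tr.leaf) 20729 4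
 (Tr.node (Tr.node Tr.leaf 20730 6
 Tr.leaf) 20732 5
 Tr.leaf)) 20735 6
 (Tr.node (Tr.node (Tr.node Tr.leaf 20737 6
 Tr.leaf) 20738 4
 Tr.leaf) 20740 4
 (Tr.node Tr.leaf 20743 6
 Tr.leaf))) 20745 6
 (Tr.node (Tr.node (Tr.node (Tr.node Tr.leaf 20746 4
 Tr.leaf) 20748 4
 Tr.leaf) 20751 4
 (Tr.node Tr.leaf 20755 5
 Tr.leaf)) 20757 7
 (Tr.node (Tr.node (Tr.node Tr.leaf 20758 6
 Tr.leaf) 20763 6
 Tr.leaf) 20765 3
 (Tr.node Tr.leaf 20766 6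
 Tr.leaf)))) 20769 6
 (Tr.node (Tr.node (Tr.node (Tr.node (Tr.node Tr.leaf 20770 4
 Tr.leaf) 20772 5
 Tr.leaf) 20775 6
 (Tr.node (Tr.node Tr.leaf 20777 6
 Tr.leaf) 20778 4
 Tr.leaf)) 20780 5
 (Tr.node (Tr.node (Tr.node Tr.leaf 20783 6
 Tr.leaf) 20787 5
 Tr.leaf) 20789 6
 (Tr.node Tr.leaf 20790 6
 Tr.leaf))) 20795 6
 (Tr.node (Tr.node (Tr.node (Tr.node Tr.leaf 20797 6
 Tr.leaf) 20798 6
 Tr.leaf) 20803 6
 (Tr.node Tr.leaf 20805 6
 Tr.leaf)) 20806 6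
 (Tr.node (Tr.node (Tr.node Tr.leaf 20811 4
 Tr.leaf) 20813 6
 Tr.leaf) 20814 3
 (Tr.node Tr.leaf 20817 4
 Tr.leaf))))))) 20818 4
 (Tr.node (Tr.node (Tr.node (Tr.node (Tr.node (Tr.node (Tr.node (Tr.node Tr.leaf 20820 6
 Tr.leaf) 20823 7
 Tr.leaf) 20825 4
 (Tr.node (Tr.node Tr.leaf 20826 6
 Tr.leaf) 20828 6
 Tr.leaf)) 20831 6
 (Tr.node (Tr.node (Tr.node Tr.leaf 20835 6
 Tr.leaf) 20837 6
 Tr.leaf) 20838 6
 (Tr.node Tr.leaf 20843 6
 Tr.leaf))) 20845 5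
 (Tr.node (Tr.node (Tr.node (Tr.node Tr.leaf 20846 6
 Tr.leaf) 20849 6
 Tr.leaf) 20850 6
 (Tr.node (Tr.node Tr.leaf 20852 5
 Tr.leaf) 20855 6
 Tr.leaf)) 20857 5
 (Tr.node (Tr.node (Tr.node Tr.leaf 20858 3
 Tr.leaf) 20860 6
 Tr.leaf) 20863 6
 (Tr.node Tr.leaf 20867 6
 Tr.leaf)))) 20869 6
 (Tr.node (Tr.node (Tr.node (Tr.node (Tr.node Tr.leaf 20870 5
 Tr.leaf) 20875 6
 Tr.leaf) 20877 3
 (Tr.node (Tr.node Tr.leaf 20878 3
 Tr.leaf) 20881 4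
 Tr.leaf)) 20882 6
 (Tr.node (Tr.node (Tr.node Tr.leaf 20884 6
 Tr.leaf) 20887 6
 Tr.leaf) 20889 4
 (Tr.node Tr.leaf 20890 6
 Tr.leaf))) 20892 4
 (Tr.node (Tr.node (Tr.node (Tr.node Tr.leaf 20895 6
 Tr.leaf) 20899 6
 Tr.leaf) 20901 6
 (Tr.node Tr.leaf 20902 4
 Tr.leaf)) 20907 6
 (Tr.node (Tr.node (Tr.node Tr.leaf 20909 6
 Tr.leaf) 20910 4
 Tr.leaf) 20913 6
 (Tr.node Tr.leaf 20914 7
 Tr.leaf))))) 20916 6
 (Tr.node (Tr.node (Tr.node (Tr.node (Tr.node (Tr.node Tr.leaf 20919 5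
 Tr.leaf) 20921 6
 Tr.leaf) 20922 4
 (Tr.node (Tr.node Tr.leaf 20924 4
 Tr.leaf) 20927 6
 Tr.leaf)) 20929 4
 (Tr.node (Tr.node (Tr.node Tr.leaf 20930 5
 Tr.leaf) 20932 6
 Tr.leaf) 20935 6
 (Tr.node Tr.leaf 20937 6
 Tr.leaf))) 20938 6
 (Tr.node (Tr.node (Tr.node (Tr.node Tr.leaf 20940 6
 Tr.leaf) 20943 6
 Tr.leaf) 20947 6
 (Tr.node Tr.leaf 20949 6
 Tr.leaf)) 20950 5
 (Tr.node (Tr.node (Tr.node Tr.leaf 20955 6
 Tr.leaf) 20957 6
 Tr.leaf) 20958 6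
 (Tr.node Tr.leaf 20961 6
 Tr.leaf)))) 20962 6
 (Tr.node (Tr.node (Tr.node (Tr.node (Tr.node Tr.leaf 20964 6
 Tr.leaf) 20967 6
 Tr.leaf) 20969 6
 (Tr.node (Tr.node Tr.leaf 20970 4
 Tr.leaf) 20972 6
 Tr.leaf)) 20975 6
 (Tr.node (Tr.node (Tr.node Tr.leaf 20979 6
 Tr.leaf) 20981 6
 Tr.leaf) 20982 5
 (Tr.node Tr.leaf 20987 6
 Tr.leaf))) 20989 5
 (Tr.node (Tr.node (Tr.node (Tr.node Tr.leaf 20990 6
 Tr.leaf) 21505 6
 Tr.leaf) 21507 6
 (Tr.node Tr.leaf 21513 6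
 Tr.leaf)) 21515 6
 (Tr.node (Tr.node (Tr.node Tr.leaf 21525 6
 Tr.leaf) 21527 5
 Tr.leaf) 21533 6
 (Tr.node Tr.leaf 21535 6
 Tr.leaf)))))) 21537 6
 (Tr.node (Tr.node (Tr.node (Tr.node (Tr.node (Tr.node (Tr.node Tr.leaf 21539 6
 Tr.leaf) 21545 6
 Tr.leaf) 21547 5
 (Tr.node (Tr.node Tr.leaf 21557 6
 Tr.leaf) 21559 6
 Tr.leaf)) 21565 6
 (Tr.node (Tr.node (Tr.node Tr.leaf 21567 6
 Tr.leaf) 21573 6
 Tr.leaf) 21575 5
 (Tr.node Tr.leaf 21581 6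
 Tr.leaf))) 21583 6
 (Tr.node (Tr.node (Tr.node (Tr.node Tr.leaf 21585 4
 Tr.leaf) 21587 6
 Tr.leaf) 21593 6
 (Tr.node (Tr.node Tr.leaf 21595 4
 Tr.leaf) 21605 6
 Tr.leaf)) 21607 5
 (Tr.node (Tr.node (Tr.node Tr.leaf 21613 6
 Tr.leaf) 21615 6
 Tr.leaf) 21617 6
 (Tr.node Tr.leaf 21619 6
 Tr.leaf)))) 21625 6
 (Tr.node (Tr.node (Tr.node (Tr.node (Tr.node Tr.leaf 21627 6
 Tr.leaf) 21637 6
 Tr.leaf) 21639 5
 (Tr.node (Tr.node Tr.leaf 21645 5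
 Tr.leaf) 21647 6
 Tr.leaf)) 21649 4
 (Tr.node (Tr.node (Tr.node Tr.leaf 21651 5
 Tr.leaf) 21657 6
 Tr.leaf) 21659 4
 (Tr.node Tr.leaf 21669 6
 Tr.leaf))) 21671 4
 (Tr.node (Tr.node (Tr.node (Tr.node Tr.leaf 21677 6
 Tr.leaf) 21679 6
 Tr.leaf) 21681 6
 (Tr.node Tr.leaf 21683 6
 Tr.leaf)) 21689 5
 (Tr.node (Tr.node (Tr.node Tr.leaf 21691 6
 Tr.leaf) 21697 4
 Tr.leaf) 21699 6
 (Tr.node Tr.leaf 21705 5
 Tr.leaf))))) 21707 6
 (Tr.node (Tr.node (Tr.node (Tr.node (Tr.node (Tr.node Tr.leaf 21717 6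
 Tr.leaf) 21719 6
 Tr.leaf) 21725 5
 (Tr.node (Tr.node Tr.leaf 21727 6
 Tr.leaf) 21729 6
 Tr.leaf)) 21731 7
 (Tr.node (Tr.node (Tr.node Tr.leaf 21737 4
 Tr.leaf) 21739 6
 Tr.leaf) 21749 6
 (Tr.node Tr.leaf 21751 6
 Tr.leaf))) 21757 6
 (Tr.node (Tr.node (Tr.node (Tr.node Tr.leaf 21759 6
 Tr.leaf) 21765 6
 Tr.leaf) 21767 6
 (Tr.node Tr.leaf 21773 6
 Tr.leaf)) 21775 6
 (Tr.node (Tr.node (Tr.node Tr.leaf 21777 6
 Tr.leaf) 21779 6
 Tr.leaf) 21785 6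
 (Tr.node Tr.leaf 21787 4
 Tr.leaf)))) 21797 4
 (Tr.node (Tr.node (Tr.node (Tr.node (Tr.node Tr.leaf 21799 6
 Tr.leaf) 21805 6
 Tr.leaf) 21807 6
 (Tr.node (Tr.node Tr.leaf 21809 6
 Tr.leaf) 21811 6
 Tr.leaf)) 21817 6
 (Tr.node (Tr.node (Tr.node Tr.leaf 21819 6
 Tr.leaf) 21825 5
 Tr.leaf) 21827 6
 (Tr.node Tr.leaf 21833 6
 Tr.leaf))) 21835 4
 (Tr.node (Tr.node (Tr.node (Tr.node Tr.leaf 21845 6
 Tr.leaf) 21847 6
 Tr.leaf) 21853 5
 (Tr.node Tr.leaf 21855 6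
 Tr.leaf)) 21857 6
 (Tr.node (Tr.node (Tr.node Tr.leaf 21859 6
 Tr.leaf) 21865 6
 Tr.leaf) 21867 5
 (Tr.node Tr.leaf 21877 6
 Tr.leaf)))))))) 21879 5
 (Tr.node (Tr.node (Tr.node (Tr.node (Tr.node (Tr.node (Tr.node (Tr.node (Tr.node Tr.leaf 21885 5
 Tr.leaf) 21887 6
 Tr.leaf) 21889 6
 (Tr.node (Tr.node Tr.leaf 21891 6
 Tr.leaf) 21897 6
 Tr.leaf)) 21899 5
 (Tr.node (Tr.node (Tr.node Tr.leaf 21909 5
 Tr.leaf) 21911 6
 Tr.leaf) 21917 6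
 (Tr.node Tr.leaf 21919 6
 Tr.leaf))) 21921 6
 (Tr.node (Tr.node (Tr.node (Tr.node Tr.leaf 21923 6
 Tr.leaf) 21929 6
 Tr.leaf) 21931 6
 (Tr.node (Tr.node Tr.leaf 21941 6
 Tr.leaf) 21943 6
 Tr.leaf)) 21949 6
 (Tr.node (Tr.node (Tr.node Tr.leaf 21951 6
 Tr.leaf) 21957 6
 Tr.leaf) 21959 7
 (Tr.node Tr.leaf 21965 5
 Tr.leaf)))) 21967 6
 (Tr.node (Tr.node (Tr.node (Tr.node (Tr.node Tr.leaf 21969 6
 Tr.leaf) 21971 6
 Tr.leaf) 21977 6
 (Tr.node (Tr.node Tr.leaf 21979 6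
 Tr.leaf) 21989 6
 Tr.leaf)) 21991 5
 (Tr.node (Tr.node (Tr.node Tr.leaf 21997 5
 Tr.leaf) 21999 6
 Tr.leaf) 22001 6
 (Tr.node Tr.leaf 22003 6
 Tr.leaf))) 22009 6
 (Tr.node (Tr.node (Tr.node (Tr.node Tr.leaf 22011 6
 Tr.leaf) 22529 5
 Tr.leaf) 22530 5
 (Tr.node Tr.leaf 22533 4
 Tr.leaf)) 22534 6
 (Tr.node (Tr.node (Tr.node Tr.leaf 22537 4
 Tr.leaf) 22538 6
 Tr.leaf) 22541 3
 (Tr.node Tr.leaf 22542 6
 Tr.leaf))))) 22547 6
 (Tr.node (Tr.node (Tr.node (Tr.node (Tr.node (Tr.node Tr.leaf 22551 6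
 Tr.leaf) 22555 6
 Tr.leaf) 22559 6
 (Tr.node (Tr.node Tr.leaf 22561 3
 Tr.leaf) 22562 5
 Tr.leaf)) 22565 4
 (Tr.node (Tr.node (Tr.node Tr.leaf 22566 6
 Tr.leaf) 22569 4
 Tr.leaf) 22570 6
 (Tr.node Tr.leaf 22573 5
 Tr.leaf))) 22574 6
 (Tr.node (Tr.node (Tr.node (Tr.node Tr.leaf 22579 6
 Tr.leaf) 22583 6
 Tr.leaf) 22587 6
 (Tr.node Tr.leaf 22591 6
 Tr.leaf)) 22595 7
 (Tr.node (Tr.node (Tr.node Tr.leaf 22599 5
 Tr.leaf) 22603 6
 Tr.leaf) 22607 6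
 (Tr.node Tr.leaf 22609 6
 Tr.leaf)))) 22610 6
 (Tr.node (Tr.node (Tr.node (Tr.node (Tr.node Tr.leaf 22613 6
 Tr.leaf) 22614 6
 Tr.leaf) 22617 6
 (Tr.node (Tr.node Tr.leaf 22618 6
 Tr.leaf) 22621 6
 Tr.leaf)) 22622 6
 (Tr.node (Tr.node (Tr.node Tr.leaf 22627 6
 Tr.leaf) 22631 4
 Tr.leaf) 22635 6
 (Tr.node Tr.leaf 22639 6
 Tr.leaf))) 22641 6
 (Tr.node (Tr.node (Tr.node (Tr.node Tr.leaf 22642 5
 Tr.leaf) 22645 4
 Tr.leaf) 22646 6
 (Tr.node Tr.leaf 22649 4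
 Tr.leaf)) 22650 4
 (Tr.node (Tr.node (Tr.node Tr.leaf 22653 4
 Tr.leaf) 22654 6
 Tr.leaf) 22659 6
 (Tr.node Tr.leaf 22663 6
 Tr.leaf)))))) 22667 4
 (Tr.node (Tr.node (Tr.node (Tr.node (Tr.node (Tr.node (Tr.node Tr.leaf 22671 5
 Tr.leaf) 22673 5
 Tr.leaf) 22674 6
 (Tr.node (Tr.node Tr.leaf 22677 5
 Tr.leaf) 22678 6
 Tr.leaf)) 22681 5
 (Tr.node (Tr.node (Tr.node Tr.leaf 22682 3
 Tr.leaf) 22685 6
 Tr.leaf) 22686 5
 (Tr.node Tr.leaf 22691 6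
 Tr.leaf))) 22695 5
 (Tr.node (Tr.node (Tr.node (Tr.node Tr.leaf 22699 6
 Tr.leaf) 22703 5
 Tr.leaf) 22705 5
 (Tr.node (Tr.node Tr.leaf 22706 5
 Tr.leaf) 22709 6
 Tr.leaf)) 22710 3
 (Tr.node (Tr.node (Tr.node Tr.leaf 22713 6
 Tr.leaf) 22714 6
 Tr.leaf) 22717 4
 (Tr.node Tr.leaf 22718 6
 Tr.leaf)))) 22721 4
 (Tr.node (Tr.node (Tr.node (Tr.node (Tr.node Tr.leaf 22722 6
 Tr.leaf) 22725 6
 Tr.leaf) 22726 6
 (Tr.node (Tr.node Tr.leaf 22729 6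
 Tr.leaf) 22730 6
 Tr.leaf)) 22733 5
 (Tr.node (Tr.node (Tr.node Tr.leaf 22734 7
 Tr.leaf) 22739 6
 Tr.leaf) 22743 6
 (Tr.node Tr.leaf 22747 5
 Tr.leaf))) 22751 6
 (Tr.node (Tr.node (Tr.node (Tr.node Tr.leaf 22753 6
 Tr.leaf) 22754 7
 Tr.leaf) 22757 6
 (Tr.node Tr.leaf 22758 6
 Tr.leaf)) 22761 4
 (Tr.node (Tr.node (Tr.node Tr.leaf 22762 6
 Tr.leaf) 22765 6
 Tr.leaf) 22766 6
 (Tr.node Tr.leaf 22771 6
 Tr.leaf))))) 22775 6
 (Tr.node (Tr.node (Tr.node (Tr.node (Tr.node (Tr.node Tr.leaf 22779 6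
 Tr.leaf) 22783 6
 Tr.leaf) 22787 4
 (Tr.node (Tr.node Tr.leaf 22791 5
 Tr.leaf) 22795 4
 Tr.leaf)) 22799 6
 (Tr.node (Tr.node (Tr.node Tr.leaf 22801 6
 Tr.leaf) 22802 3
 Tr.leaf) 22805 4
 (Tr.node Tr.leaf 22806 6
 Tr.leaf))) 22809 6
 (Tr.node (Tr.node (Tr.node (Tr.node Tr.leaf 22810 6
 Tr.leaf) 22813 5
 Tr.leaf) 22814 4
 (Tr.node Tr.leaf 22819 6
 Tr.leaf)) 22823 6
 (Tr.node (Tr.node (Tr.node Tr.leaf 22827 6
 Tr.leaf) 22831 6
 Tr.leaf) 22833 5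
 (Tr.node Tr.leaf 22834 4
 Tr.leaf)))) 22837 4
 (Tr.node (Tr.node (Tr.node (Tr.node (Tr.node Tr.leaf 22838 6
 Tr.leaf) 22841 6
 Tr.leaf) 22842 6
 (Tr.node (Tr.node Tr.leaf 22845 6
 Tr.leaf) 22846 3
 Tr.leaf)) 22849 6
 (Tr.node (Tr.node (Tr.node Tr.leaf 22850 6
 Tr.leaf) 22853 6
 Tr.leaf) 22854 6
 (Tr.node Tr.leaf 22857 6
 Tr.leaf))) 22858 4
 (Tr.node (Tr.node (Tr.node (Tr.node Tr.leaf 22861 6
 Tr.leaf) 22862 5
 Tr.leaf) 22867 6
 (Tr.node Tr.leaf 22871 5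
 Tr.leaf)) 22875 6
 (Tr.node (Tr.node (Tr.node Tr.leaf 22879 6
 Tr.leaf) 22881 6
 Tr.leaf) 22882 6
 (Tr.node Tr.leaf 22885 6
 Tr.leaf))))))) 22886 6
 (Tr.node (Tr.node (Tr.node (Tr.node (Tr.node (Tr.node (Tr.node (Tr.node Tr.leaf 22889 6
 Tr.leaf) 22890 6
 Tr.leaf) 22893 6
 (Tr.node (Tr.node Tr.leaf 22894 6
 Tr.leaf) 22899 6
 Tr.leaf)) 22903 5
 (Tr.node (Tr.node (Tr.node Tr.leaf 22907 6
 Tr.leaf) 22911 6
 Tr.leaf) 22913 4
 (Tr.node Tr.leaf 22914 6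
 Tr.leaf))) 22917 6
 (Tr.node (Tr.node (Tr.node (Tr.node Tr.leaf 22918 6
 Tr.leaf) 22921 6
 Tr.leaf) 22922 6
 (Tr.node (Tr.node Tr.leaf 22925 5
 Tr.leaf) 22926 6
 Tr.leaf)) 22931 5
 (Tr.node (Tr.node (Tr.node Tr.leaf 22935 6
 Tr.leaf) 22939 5
 Tr.leaf) 22943 6
 (Tr.node Tr.leaf 22945 6
 Tr.leaf)))) 22946 6
 (Tr.node (Tr.node (Tr.node (Tr.node (Tr.node Tr.leaf 22949 4
 Tr.leaf) 22950 6
 Tr.leaf) 22953 4
 (Tr.node (Tr.node Tr.leaf 22954 5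
 Tr.leaf) 22957 5
 Tr.leaf)) 22958 6
 (Tr.node (Tr.node (Tr.node Tr.leaf 22963 6
 Tr.leaf) 22967 6
 Tr.leaf) 22971 6
 (Tr.node Tr.leaf 22975 6
 Tr.leaf))) 22979 6
 (Tr.node (Tr.node (Tr.node (Tr.node Tr.leaf 22983 6
 Tr.leaf) 22987 6
 Tr.leaf) 22991 6
 (Tr.node Tr.leaf 22993 6
 Tr.leaf)) 22994 6
 (Tr.node (Tr.node (Tr.node Tr.leaf 22997 6
 Tr.leaf) 22998 5
 Tr.leaf) 23001 6
 (Tr.node Tr.leaf 23002 6
 Tr.leaf))))) 23005 6
 (Tr.node (Tr.node (Tr.node (Tr.node (Tr.node (Tr.node Tr.leaf 23006 6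
 Tr.leaf) 23011 6
 Tr.leaf) 23015 6
 (Tr.node (Tr.node Tr.leaf 23019 5
 Tr.leaf) 23023 6
 Tr.leaf)) 23025 6
 (Tr.node (Tr.node (Tr.node Tr.leaf 23026 6
 Tr.leaf) 23029 6
 Tr.leaf) 23030 5
 (Tr.node Tr.leaf 23033 5
 Tr.leaf))) 23034 6
 (Tr.node (Tr.node (Tr.node (Tr.node Tr.leaf 23037 6
 Tr.leaf) 23038 6
 Tr.leaf) 23569 6
 (Tr.node Tr.leaf 23571 6
 Tr.leaf)) 23573 6
 (Tr.node (Tr.node (Tr.node Tr.leaf 23575 6
 Tr.leaf) 23577 6
 Tr.leaf) 23579 6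
 (Tr.node Tr.leaf 23581 5
 Tr.leaf)))) 23583 5
 (Tr.node (Tr.node (Tr.node (Tr.node (Tr.node Tr.leaf 23601 6
 Tr.leaf) 23603 5
 Tr.leaf) 23605 6
 (Tr.node (Tr.node Tr.leaf 23607 6
 Tr.leaf) 23609 6
 Tr.leaf)) 23611 6
 (Tr.node (Tr.node (Tr.node Tr.leaf 23613 6
 Tr.leaf) 23615 7
 Tr.leaf) 23617 4
 (Tr.node Tr.leaf 23619 6
 Tr.leaf))) 23621 6
 (Tr.node (Tr.node (Tr.node (Tr.node Tr.leaf 23623 6
 Tr.leaf) 23625 6
 Tr.leaf) 23627 4
 (Tr.node Tr.leaf 23629 6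
 Tr.leaf)) 23631 6
 (Tr.node (Tr.node (Tr.node Tr.leaf 23649 6
 Tr.leaf) 23651 6
 Tr.leaf) 23653 6
 (Tr.node Tr.leaf 23655 6
 Tr.leaf)))))) 23657 6
 (Tr.node (Tr.node (Tr.node (Tr.node (Tr.node (Tr.node (Tr.node Tr.leaf 23659 4
 Tr.leaf) 23661 4
 Tr.leaf) 23663 6
 (Tr.node (Tr.node Tr.leaf 23681 6
 Tr.leaf) 23683 5
 Tr.leaf)) 23685 4
 (Tr.node (Tr.node (Tr.node Tr.leaf 23687 4
 Tr.leaf) 23689 6
 Tr.leaf) 23691 4
 (Tr.node Tr.leaf 23693 7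
 Tr.leaf))) 23695 6
 (Tr.node (Tr.node (Tr.node (Tr.node Tr.leaf 23713 6
 Tr.leaf) 23715 6
 Tr.leaf) 23717 6
 (Tr.node (Tr.node Tr.leaf 23719 6
 Tr.leaf) 23721 5
 Tr.leaf)) 23723 6
 (Tr.node (Tr.node (Tr.node Tr.leaf 23725 4
 Tr.leaf) 23727 6
 Tr.leaf) 23761 6
 (Tr.node Tr.leaf 23763 5
 Tr.leaf)))) 23765 6
 (Tr.node (Tr.node (Tr.node (Tr.node (Tr.node Tr.leaf 23767 5
 Tr.leaf) 23769 6
 Tr.leaf) 23771 6
 (Tr.node (Tr.node Tr.leaf 23773 6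
 Tr.leaf) 23775 6
 Tr.leaf)) 23793 6
 (Tr.node (Tr.node (Tr.node Tr.leaf 23795 6
 Tr.leaf) 23797 5
 Tr.leaf) 23799 5
 (Tr.node Tr.leaf 23801 6
 Tr.leaf))) 23803 6
 (Tr.node (Tr.node (Tr.node (Tr.node Tr.leaf 23805 6
 Tr.leaf) 23807 6
 Tr.leaf) 23809 5
 (Tr.node Tr.leaf 23811 6
 Tr.leaf)) 23813 6
 (Tr.node (Tr.node (Tr.node Tr.leaf 23815 6
 Tr.leaf) 23817 6
 Tr.leaf) 23819 6
 (Tr.node Tr.leaf 23821 6
 Tr.leaf))))) 23823 5
 (Tr.node (Tr.node (Tr.node (Tr.node (Tr.node (Tr.node Tr.leaf 23841 5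
 Tr.leaf) 23843 6
 Tr.leaf) 23845 4
 (Tr.node (Tr.node Tr.leaf 23847 6
 Tr.leaf) 23849 5
 Tr.leaf)) 23851 6
 (Tr.node (Tr.node (Tr.node Tr.leaf 23853 4
 Tr.leaf) 23855 6
 Tr.leaf) 23889 6
 (Tr.node Tr.leaf 23891 6
 Tr.leaf))) 23893 6
 (Tr.node (Tr.node (Tr.node (Tr.node Tr.leaf 23895 5
 Tr.leaf) 23897 7
 Tr.leaf) 23899 6
 (Tr.node Tr.leaf 23901 6
 Tr.leaf)) 23903 6
 (Tr.node (Tr.node (Tr.node Tr.leaf 23921 6
 Tr.leaf) 23923 6
 Tr.leaf) 23925 5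
 (Tr.node Tr.leaf 23927 6
 Tr.leaf)))) 23929 5
 (Tr.node (Tr.node (Tr.node (Tr.node (Tr.node Tr.leaf 23931 6
 Tr.leaf) 23933 6
 Tr.leaf) 23935 7
 (Tr.node (Tr.node Tr.leaf 23953 5
 Tr.leaf) 23955 6
 Tr.leaf)) 23957 6
 (Tr.node (Tr.node (Tr.node Tr.leaf 23959 6
 Tr.leaf) 23961 6
 Tr.leaf) 23963 6
 (Tr.node Tr.leaf 23965 6
 Tr.leaf))) 23967 6
 (Tr.node (Tr.node (Tr.node (Tr.node Tr.leaf 23985 6
 Tr.leaf) 23987 6
 Tr.leaf) 23989 6
 (Tr.node Tr.leaf 23991 6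
 Tr.leaf)) 23993 6
 (Tr.node (Tr.node (Tr.node Tr.leaf 23995 6
 Tr.leaf) 23997 6
 Tr.leaf) 23999 6
 (Tr.node Tr.leaf 24001 6
 Tr.leaf)))))))))

/-- A subtree. -/
def tr2_s6 : Tr := (Tr.node (Tr.node (Tr.node (Tr.node (Tr.node (Tr.node (Tr.node (Tr.node (Tr.node (Tr.node Tr.leaf 24005 5
 Tr.leaf) 24007 6
 Tr.leaf) 24009 5
 (Tr.node (Tr.node Tr.leaf 24011 6
 Tr.leaf) 24013 6
 Tr.leaf)) 24015 6
 (Tr.node (Tr.node (Tr.node Tr.leaf 24033 6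
 Tr.leaf) 24035 6
 Tr.leaf) 24037 6
 (Tr.node Tr.leaf 24039 6
 Tr.leaf))) 24041 6
 (Tr.node (Tr.node (Tr.node (Tr.node Tr.leaf 24043 6
 Tr.leaf) 24045 6
 Tr.leaf) 24047 6
 (Tr.node (Tr.node Tr.leaf 24579 5
 Tr.leaf) 24581 6
 Tr.leaf)) 24582 5
 (Tr.node (Tr.node (Tr.node Tr.leaf 24585 4
 Tr.leaf) 24586 5
 Tr.leaf) 24588 4
 (Tr.node Tr.leaf 24591 5
 Tr.leaf)))) 24595 6
 (Tr.node (Tr.node (Tr.node (Tr.node (Tr.node Tr.leaf 24597 6
 Tr.leaf) 24598 4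
 Tr.leaf) 24601 4
 (Tr.node (Tr.node Tr.leaf 24602 4
 Tr.leaf) 24604 5
 Tr.leaf)) 24607 7
 (Tr.node (Tr.node (Tr.node Tr.leaf 24611 6
 Tr.leaf) 24613 6
 Tr.leaf) 24614 4
 (Tr.node Tr.leaf 24617 4
 Tr.leaf))) 24618 4
 (Tr.node (Tr.node (Tr.node (Tr.node Tr.leaf 24620 5
 Tr.leaf) 24623 6
 Tr.leaf) 24627 6
 (Tr.node Tr.leaf 24629 5
 Tr.leaf)) 24630 5
 (Tr.node (Tr.node (Tr.node Tr.leaf 24633 5
 Tr.leaf) 24634 4
 Tr.leaf) 24636 4
 (Tr.node Tr.leaf 24639 5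
 Tr.leaf))))) 24641 5
 (Tr.node (Tr.node (Tr.node (Tr.node (Tr.node (Tr.node Tr.leaf 24642 4
 Tr.leaf) 24644 5
 Tr.leaf) 24647 6
 (Tr.node (Tr.node Tr.leaf 24648 4
 Tr.leaf) 24651 6
 Tr.leaf)) 24653 5
 (Tr.node (Tr.node (Tr.node Tr.leaf 24654 6
 Tr.leaf) 24657 3
 Tr.leaf) 24658 3
 (Tr.node Tr.leaf 24660 3
 Tr.leaf))) 24663 6
 (Tr.node (Tr.node (Tr.node (Tr.node Tr.leaf 24664 4
 Tr.leaf) 24667 5
 Tr.leaf) 24669 5
 (Tr.node (Tr.node Tr.leaf 24670 6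
 Tr.leaf) 24673 3
 Tr.leaf)) 24674 4
 (Tr.node (Tr.node (Tr.node Tr.leaf 24676 5
 Tr.leaf) 24679 6
 Tr.leaf) 24680 4
 (Tr.node Tr.leaf 24683 6
 Tr.leaf)))) 24685 6
 (Tr.node (Tr.node (Tr.node (Tr.node (Tr.node Tr.leaf 24686 5
 Tr.leaf) 24689 5
 Tr.leaf) 24690 4
 (Tr.node (Tr.node Tr.leaf 24692 4
 Tr.leaf) 24695 6
 Tr.leaf)) 24696 4
 (Tr.node (Tr.node (Tr.node Tr.leaf 24699 4
 Tr.leaf) 24701 6
 Tr.leaf) 24702 6
 (Tr.node Tr.leaf 24705 3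
 Tr.leaf))) 24706 4
 (Tr.node (Tr.node (Tr.node (Tr.node Tr.leaf 24708 6
 Tr.leaf) 24711 4
 Tr.leaf) 24712 5
 (Tr.node Tr.leaf 24715 4
 Tr.leaf)) 24717 5
 (Tr.node (Tr.node (Tr.node Tr.leaf 24718 5
 Tr.leaf) 24721 3
 Tr.leaf) 24722 4
 (Tr.node Tr.leaf 24724 6
 Tr.leaf)))))) 24727 5
 (Tr.node (Tr.node (Tr.node (Tr.node (Tr.node (Tr.node (Tr.node Tr.leaf 24728 4
 Tr.leaf) 24731 4
 Tr.leaf) 24733 4
 (Tr.node (Tr.node Tr.leaf 24734 5
 Tr.leaf) 24737 4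
 Tr.leaf)) 24738 4
 (Tr.node (Tr.node (Tr.node Tr.leaf 24740 6
 Tr.leaf) 24743 4
 Tr.leaf) 24744 4
 (Tr.node Tr.leaf 24747 6
 Tr.leaf))) 24749 6
 (Tr.node (Tr.node (Tr.node (Tr.node Tr.leaf 24750 5
 Tr.leaf) 24753 4
 Tr.leaf) 24754 4
 (Tr.node (Tr.node Tr.leaf 24756 6
 Tr.leaf) 24759 5
 Tr.leaf)) 24760 4
 (Tr.node (Tr.node (Tr.node Tr.leaf 24763 6
 Tr.leaf) 24765 6
 Tr.leaf) 24766 5
 (Tr.node Tr.leaf 24771 7
 Tr.leaf)))) 24773 6
 (Tr.node (Tr.node (Tr.node (Tr.node (Tr.node Tr.leaf 24774 5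
 Tr.leaf) 24777 4
 Tr.leaf) 24778 6
 (Tr.node (Tr.node Tr.leaf 24780 5
 Tr.leaf) 24783 6
 Tr.leaf)) 24787 6
 (Tr.node (Tr.node (Tr.node Tr.leaf 24789 5
 Tr.leaf) 24790 6
 Tr.leaf) 24793 6
 (Tr.node Tr.leaf 24794 5
 Tr.leaf))) 24796 6
 (Tr.node (Tr.node (Tr.node (Tr.node Tr.leaf 24799 6
 Tr.leaf) 24803 5
 Tr.leaf) 24805 5
 (Tr.node Tr.leaf 24806 6
 Tr.leaf)) 24809 6
 (Tr.node (Tr.node (Tr.node Tr.leaf 24810 5
 Tr.leaf) 24812 6
 Tr.leaf) 24815 6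
 (Tr.node Tr.leaf 24819 5
 Tr.leaf))))) 24821 5
 (Tr.node (Tr.node (Tr.node (Tr.node (Tr.node (Tr.node Tr.leaf 24822 4
 Tr.leaf) 24825 5
 Tr.leaf) 24826 6
 (Tr.node (Tr.node Tr.leaf 24828 5
 Tr.leaf) 24831 6
 Tr.leaf)) 24833 3
 (Tr.node (Tr.node (Tr.node Tr.leaf 24834 6
 Tr.leaf) 24836 4
 Tr.leaf) 24839 5
 (Tr.node Tr.leaf 24840 4
 Tr.leaf))) 24843 6
 (Tr.node (Tr.node (Tr.node (Tr.node Tr.leaf 24845 6
 Tr.leaf) 24846 5
 Tr.leaf) 24849 4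
 (Tr.node Tr.leaf 24850 6
 Tr.leaf)) 24852 4
 (Tr.node (Tr.node (Tr.node Tr.leaf 24855 5
 Tr.leaf) 24856 5
 Tr.leaf) 24859 4
 (Tr.node Tr.leaf 24861 4
 Tr.leaf)))) 24862 5
 (Tr.node (Tr.node (Tr.node (Tr.node (Tr.node Tr.leaf 24865 3
 Tr.leaf) 24866 6
 Tr.leaf) 24868 5
 (Tr.node (Tr.node Tr.leaf 24871 4
 Tr.leaf) 24872 5
 Tr.leaf)) 24875 6
 (Tr.node (Tr.node (Tr.node Tr.leaf 24877 6
 Tr.leaf) 24878 5
 Tr.leaf) 24881 4
 (Tr.node Tr.leaf 24882 6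
 Tr.leaf))) 24884 5
 (Tr.node (Tr.node (Tr.node (Tr.node Tr.leaf 24887 4
 Tr.leaf) 24888 4
 Tr.leaf) 24891 4
 (Tr.node Tr.leaf 24893 5
 Tr.leaf)) 24894 5
 (Tr.node (Tr.node (Tr.node Tr.leaf 24899 5
 Tr.leaf) 24901 5
 Tr.leaf) 24902 5
 (Tr.node Tr.leaf 24905 5
 Tr.leaf))))))) 24906 5
 (Tr.node (Tr.node (Tr.node (Tr.node (Tr.node (Tr.node (Tr.node (Tr.node Tr.leaf 24908 6
 Tr.leaf) 24911 6
 Tr.leaf) 24915 5
 (Tr.node (Tr.node Tr.leaf 24917 6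
 Tr.leaf) 24918 6
 Tr.leaf)) 24921 6
 (Tr.node (Tr.node (Tr.node Tr.leaf 24922 6
 Tr.leaf) 24924 5
 Tr.leaf) 24927 6
 (Tr.node Tr.leaf 24931 5
 Tr.leaf))) 24933 5
 (Tr.node (Tr.node (Tr.node (Tr.node Tr.leaf 24934 6
 Tr.leaf) 24937 6
 Tr.leaf) 24938 6
 (Tr.node (Tr.node Tr.leaf 24940 5
 Tr.leaf) 24943 6
 Tr.leaf)) 24947 6
 (Tr.node (Tr.node (Tr.node Tr.leaf 24949 6
 Tr.leaf) 24950 6
 Tr.leaf) 24953 4
 (Tr.node Tr.leaf 24954 5
 Tr.leaf)))) 24956 6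
 (Tr.node (Tr.node (Tr.node (Tr.node (Tr.node Tr.leaf 24959 6
 Tr.leaf) 24963 6
 Tr.leaf) 24965 6
 (Tr.node (Tr.node Tr.leaf 24966 6
 Tr.leaf) 24969 6
 Tr.leaf)) 24970 5
 (Tr.node (Tr.node (Tr.node Tr.leaf 24972 6
 Tr.leaf) 24975 6
 Tr.leaf) 24979 4
 (Tr.node Tr.leaf 24981 4
 Tr.leaf))) 24982 5
 (Tr.node (Tr.node (Tr.node (Tr.node Tr.leaf 24985 6
 Tr.leaf) 24986 4
 Tr.leaf) 24988 4
 (Tr.node Tr.leaf 24991 5
 Tr.leaf)) 24995 6
 (Tr.node (Tr.node (Tr.node Tr.leaf 24997 6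
 Tr.leaf) 24998 5
 Tr.leaf) 25001 6
 (Tr.node Tr.leaf 25002 5
 Tr.leaf))))) 25004 5
 (Tr.node (Tr.node (Tr.node (Tr.node (Tr.node (Tr.node Tr.leaf 25007 5
 Tr.leaf) 25011 6
 Tr.leaf) 25013 6
 (Tr.node (Tr.node Tr.leaf 25014 6
 Tr.leaf) 25017 6
 Tr.leaf)) 25018 6
 (Tr.node (Tr.node (Tr.node Tr.leaf 25020 5
 Tr.leaf) 25023 6
 Tr.leaf) 25025 6
 (Tr.node Tr.leaf 25026 5
 Tr.leaf))) 25028 6
 (Tr.node (Tr.node (Tr.node (Tr.node Tr.leaf 25031 6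
 Tr.leaf) 25032 6
 Tr.leaf) 25035 6
 (Tr.node Tr.leaf 25037 6
 Tr.leaf)) 25038 6
 (Tr.node (Tr.node (Tr.node Tr.leaf 25041 6
 Tr.leaf) 25042 5
 Tr.leaf) 25044 5
 (Tr.node Tr.leaf 25047 4
 Tr.leaf)))) 25048 5
 (Tr.node (Tr.node (Tr.node (Tr.node (Tr.node Tr.leaf 25051 6
 Tr.leaf) 25053 6
 Tr.leaf) 25054 6
 (Tr.node (Tr.node Tr.leaf 25057 6
 Tr.leaf) 25058 4
 Tr.leaf)) 25060 5
 (Tr.node (Tr.node (Tr.node Tr.leaf 25063 4
 Tr.leaf) 25064 5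
 Tr.leaf) 25067 6
 (Tr.node Tr.leaf 25069 6
 Tr.leaf))) 25070 5
 (Tr.node (Tr.node (Tr.node (Tr.node Tr.leaf 25073 6
 Tr.leaf) 25074 6
 Tr.leaf) 25076 5
 (Tr.node Tr.leaf 25079 6
 Tr.leaf)) 25080 6
 (Tr.node (Tr.node (Tr.node Tr.leaf 25083 6
 Tr.leaf) 25085 6
 Tr.leaf) 25086 6
 (Tr.node Tr.leaf 25601 6
 Tr.leaf)))))) 25603 6
 (Tr.node (Tr.node (Tr.node (Tr.node (Tr.node (Tr.node (Tr.node Tr.leaf 25613 6
 Tr.leaf) 25615 6
 Tr.leaf) 25617 6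
 (Tr.node (Tr.node Tr.leaf 25619 6
 Tr.leaf) 25629 6
 Tr.leaf)) 25631 6
 (Tr.node (Tr.node (Tr.node Tr.leaf 25633 6
 Tr.leaf) 25635 6
 Tr.leaf) 25645 6
 (Tr.node Tr.leaf 25647 6
 Tr.leaf))) 25649 6
 (Tr.node (Tr.node (Tr.node (Tr.node Tr.leaf 25651 5
 Tr.leaf) 25661 5
 Tr.leaf) 25663 6
 (Tr.node (Tr.node Tr.leaf 25669 5
 Tr.leaf) 25671 6
 Tr.leaf)) 25673 6
 (Tr.node (Tr.node (Tr.node Tr.leaf 25675 6
 Tr.leaf) 25685 5
 Tr.leaf) 25687 6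
 (Tr.node Tr.leaf 25689 6
 Tr.leaf)))) 25691 6
 (Tr.node (Tr.node (Tr.node (Tr.node (Tr.node Tr.leaf 25701 6
 Tr.leaf) 25703 5
 Tr.leaf) 25705 6
 (Tr.node (Tr.node Tr.leaf 25707 6
 Tr.leaf) 25717 5
 Tr.leaf)) 25719 6
 (Tr.node (Tr.node (Tr.node Tr.leaf 25721 4
 Tr.leaf) 25723 6
 Tr.leaf) 25733 5
 (Tr.node Tr.leaf 25735 6
 Tr.leaf))) 25737 5
 (Tr.node (Tr.node (Tr.node (Tr.node Tr.leaf 25739 6
 Tr.leaf) 25749 5
 Tr.leaf) 25751 6
 (Tr.node Tr.leaf 25753 6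
 Tr.leaf)) 25755 6
 (Tr.node (Tr.node (Tr.node Tr.leaf 25765 5
 Tr.leaf) 25767 4
 Tr.leaf) 25769 6
 (Tr.node Tr.leaf 25771 6
 Tr.leaf))))) 25781 6
 (Tr.node (Tr.node (Tr.node (Tr.node (Tr.node (Tr.node Tr.leaf 25783 6
 Tr.leaf) 25785 5
 Tr.leaf) 25787 5
 (Tr.node (Tr.node Tr.leaf 25793 4
 Tr.leaf) 25795 6
 Tr.leaf)) 25805 6
 (Tr.node (Tr.node (Tr.node Tr.leaf 25807 6
 Tr.leaf) 25809 6
 Tr.leaf) 25811 6
 (Tr.node Tr.leaf 25821 6
 Tr.leaf))) 25823 5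
 (Tr.node (Tr.node (Tr.node (Tr.node Tr.leaf 25825 6
 Tr.leaf) 25827 6
 Tr.leaf) 25837 6
 (Tr.node Tr.leaf 25839 6
 Tr.leaf)) 25841 4
 (Tr.node (Tr.node (Tr.node Tr.leaf 25843 6
 Tr.leaf) 25853 6
 Tr.leaf) 25855 6
 (Tr.node Tr.leaf 25861 6
 Tr.leaf)))) 25863 6
 (Tr.node (Tr.node (Tr.node (Tr.node (Tr.node Tr.leaf 25865 6
 Tr.leaf) 25867 4
 Tr.leaf) 25877 6
 (Tr.node (Tr.node Tr.leaf 25879 4
 Tr.leaf) 25881 6
 Tr.leaf)) 25883 6
 (Tr.node (Tr.node (Tr.node Tr.leaf 25893 5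
 Tr.leaf) 25895 5
 Tr.leaf) 25897 6
 (Tr.node Tr.leaf 25899 6
 Tr.leaf))) 25909 7
 (Tr.node (Tr.node (Tr.node (Tr.node Tr.leaf 25911 6
 Tr.leaf) 25913 6
 Tr.leaf) 25915 6
 (Tr.node Tr.leaf 25921 6
 Tr.leaf)) 25923 6
 (Tr.node (Tr.node (Tr.node Tr.leaf 25933 5
 Tr.leaf) 25935 6
 Tr.leaf) 25937 6
 (Tr.node Tr.leaf 25939 6
 Tr.leaf)))))))) 25949 5
 (Tr.node (Tr.node (Tr.node (Tr.node (Tr.node (Tr.node (Tr.node (Tr.node (Tr.node Tr.leaf 25951 6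
 Tr.leaf) 25953 6
 Tr.leaf) 25955 5
 (Tr.node (Tr.node Tr.leaf 25965 6
 Tr.leaf) 25967 6
 Tr.leaf)) 25969 6
 (Tr.node (Tr.node (Tr.node Tr.leaf 25971 6
 Tr.leaf) 25981 6
 Tr.leaf) 25983 6
 (Tr.node Tr.leaf 25985 6
 Tr.leaf))) 25987 6
 (Tr.node (Tr.node (Tr.node (Tr.node Tr.leaf 25997 6
 Tr.leaf) 25999 6
 Tr.leaf) 26001 5
 (Tr.node (Tr.node Tr.leaf 26003 4
 Tr.leaf) 26013 7
 Tr.leaf)) 26015 5
 (Tr.node (Tr.node (Tr.node Tr.leaf 26017 6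
 Tr.leaf) 26019 6
 Tr.leaf) 26029 6
 (Tr.node Tr.leaf 26031 5
 Tr.leaf)))) 26033 6
 (Tr.node (Tr.node (Tr.node (Tr.node (Tr.node Tr.leaf 26035 6
 Tr.leaf) 26045 6
 Tr.leaf) 26047 6
 (Tr.node (Tr.node Tr.leaf 26053 6
 Tr.leaf) 26055 6
 Tr.leaf)) 26057 6
 (Tr.node (Tr.node (Tr.node Tr.leaf 26059 6
 Tr.leaf) 26069 6
 Tr.leaf) 26071 6
 (Tr.node Tr.leaf 26073 6
 Tr.leaf))) 26075 5
 (Tr.node (Tr.node (Tr.node (Tr.node Tr.leaf 26085 5
 Tr.leaf) 26087 6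
 Tr.leaf) 26089 5
 (Tr.node Tr.leaf 26091 5
 Tr.leaf)) 26101 6
 (Tr.node (Tr.node (Tr.node Tr.leaf 26103 6
 Tr.leaf) 26105 6
 Tr.leaf) 26107 6
 (Tr.node Tr.leaf 26625 5
 Tr.leaf))))) 26626 3
 (Tr.node (Tr.node (Tr.node (Tr.node (Tr.node (Tr.node Tr.leaf 26629 6
 Tr.leaf) 26630 5
 Tr.leaf) 26635 6
 (Tr.node (Tr.node Tr.leaf 26639 5
 Tr.leaf) 26641 6
 Tr.leaf)) 26642 5
 (Tr.node (Tr.node (Tr.node Tr.leaf 26645 6
 Tr.leaf) 26646 5
 Tr.leaf) 26651 6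
 (Tr.node Tr.leaf 26655 6
 Tr.leaf))) 26657 6
 (Tr.node (Tr.node (Tr.node (Tr.node Tr.leaf 26658 4
 Tr.leaf) 26661 6
 Tr.leaf) 26662 3
 (Tr.node Tr.leaf 26667 6
 Tr.leaf)) 26671 6
 (Tr.node (Tr.node (Tr.node Tr.leaf 26673 6
 Tr.leaf) 26674 4
 Tr.leaf) 26677 6
 (Tr.node Tr.leaf 26678 4
 Tr.leaf)))) 26683 6
 (Tr.node (Tr.node (Tr.node (Tr.node (Tr.node Tr.leaf 26687 6
 Tr.leaf) 26691 6
 Tr.leaf) 26695 4
 (Tr.node (Tr.node Tr.leaf 26697 6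
 Tr.leaf) 26698 5
 Tr.leaf)) 26701 4
 (Tr.node (Tr.node (Tr.node Tr.leaf 26702 5
 Tr.leaf) 26707 6
 Tr.leaf) 26711 5
 (Tr.node Tr.leaf 26713 6
 Tr.leaf))) 26714 4
 (Tr.node (Tr.node (Tr.node (Tr.node Tr.leaf 26717 6
 Tr.leaf) 26718 6
 Tr.leaf) 26723 5
 (Tr.node Tr.leaf 26727 6
 Tr.leaf)) 26729 6
 (Tr.node (Tr.node (Tr.node Tr.leaf 26730 6
 Tr.leaf) 26733 6
 Tr.leaf) 26734 6
 (Tr.node Tr.leaf 26739 6
 Tr.leaf)))))) 26743 4
 (Tr.node (Tr.node (Tr.node (Tr.node (Tr.node (Tr.node (Tr.node Tr.leaf 26745 6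
 Tr.leaf) 26746 5
 Tr.leaf) 26749 6
 (Tr.node (Tr.node Tr.leaf 26750 4
 Tr.leaf) 26755 6
 Tr.leaf)) 26759 6
 (Tr.node (Tr.node (Tr.node Tr.leaf 26761 6
 Tr.leaf) 26762 6
 Tr.leaf) 26765 6
 (Tr.node Tr.leaf 26766 5
 Tr.leaf))) 26771 4
 (Tr.node (Tr.node (Tr.node (Tr.node Tr.leaf 26775 5
 Tr.leaf) 26777 6
 Tr.leaf) 26778 5
 (Tr.node (Tr.node Tr.leaf 26781 6
 Tr.leaf) 26782 6
 Tr.leaf)) 26787 6
 (Tr.node (Tr.node (Tr.node Tr.leaf 26791 5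
 Tr.leaf) 26793 6
 Tr.leaf) 26794 6
 (Tr.node Tr.leaf 26797 6
 Tr.leaf)))) 26798 6
 (Tr.node (Tr.node (Tr.node (Tr.node (Tr.node Tr.leaf 26803 6
 Tr.leaf) 26807 6
 Tr.leaf) 26809 4
 (Tr.node (Tr.node Tr.leaf 26810 6
 Tr.leaf) 26813 6
 Tr.leaf)) 26814 6
 (Tr.node (Tr.node (Tr.node Tr.leaf 26817 6
 Tr.leaf) 26818 6
 Tr.leaf) 26821 6
 (Tr.node Tr.leaf 26822 6
 Tr.leaf))) 26827 6
 (Tr.node (Tr.node (Tr.node (Tr.node Tr.leaf 26831 6
 Tr.leaf) 26833 6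
 Tr.leaf) 26834 6
 (Tr.node Tr.leaf 26837 5
 Tr.leaf)) 26838 4
 (Tr.node (Tr.node (Tr.node Tr.leaf 26843 6
 Tr.leaf) 26847 6
 Tr.leaf) 26849 6
 (Tr.node Tr.leaf 26850 3
 Tr.leaf))))) 26853 6
 (Tr.node (Tr.node (Tr.node (Tr.node (Tr.node (Tr.node Tr.leaf 26854 6
 Tr.leaf) 26859 6
 Tr.leaf) 26863 6
 (Tr.node (Tr.node Tr.leaf 26865 6
 Tr.leaf) 26866 6
 Tr.leaf)) 26869 6
 (Tr.node (Tr.node (Tr.node Tr.leaf 26870 6
 Tr.leaf) 26875 6
 Tr.leaf) 26879 5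
 (Tr.node Tr.leaf 26883 6
 Tr.leaf))) 26887 6
 (Tr.node (Tr.node (Tr.node (Tr.node Tr.leaf 26889 5
 Tr.leaf) 26890 5
 Tr.leaf) 26893 4
 (Tr.node Tr.leaf 26894 6
 Tr.leaf)) 26899 7
 (Tr.node (Tr.node (Tr.node Tr.leaf 26903 6
 Tr.leaf) 26905 6
 Tr.leaf) 26906 6
 (Tr.node Tr.leaf 26909 6
 Tr.leaf)))) 26910 4
 (Tr.node (Tr.node (Tr.node (Tr.node (Tr.node Tr.leaf 26915 4
 Tr.leaf) 26919 5
 Tr.leaf) 26921 6
 (Tr.node (Tr.node Tr.leaf 26922 4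
 Tr.leaf) 26925 6
 Tr.leaf)) 26926 6
 (Tr.node (Tr.node (Tr.node Tr.leaf 26931 6
 Tr.leaf) 26935 4
 Tr.leaf) 26937 6
 (Tr.node Tr.leaf 26938 6
 Tr.leaf))) 26941 5
 (Tr.node (Tr.node (Tr.node (Tr.node Tr.leaf 26942 4
 Tr.leaf) 26945 6
 Tr.leaf) 26946 6
 (Tr.node Tr.leaf 26949 4
 Tr.leaf)) 26950 5
 (Tr.node (Tr.node (Tr.node Tr.leaf 26955 6
 Tr.leaf) 26959 6
 Tr.leaf) 26961 6
 (Tr.node Tr.leaf 26962 6
 Tr.leaf))))))) 26965 6
 (Tr.node (Tr.node (Tr.node (Tr.node (Tr.node (Tr.node (Tr.node (Tr.node Tr.leaf 26966 5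
 Tr.leaf) 26971 6
 Tr.leaf) 26975 6
 (Tr.node (Tr.node Tr.leaf 26977 6
 Tr.leaf) 26978 4
 Tr.leaf)) 26981 6
 (Tr.node (Tr.node (Tr.node Tr.leaf 26982 6
 Tr.leaf) 26987 6
 Tr.leaf) 26991 6
 (Tr.node Tr.leaf 26993 6
 Tr.leaf))) 26994 6
 (Tr.node (Tr.node (Tr.node (Tr.node Tr.leaf 26997 4
 Tr.leaf) 26998 6
 Tr.leaf) 27003 6
 (Tr.node (Tr.node Tr.leaf 27007 6
 Tr.leaf) 27009 6
 Tr.leaf)) 27010 6
 (Tr.node (Tr.node (Tr.node Tr.leaf 27013 6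
 Tr.leaf) 27014 6
 Tr.leaf) 27019 6
 (Tr.node Tr.leaf 27023 6
 Tr.leaf)))) 27025 5
 (Tr.node (Tr.node (Tr.node (Tr.node (Tr.node Tr.leaf 27026 6
 Tr.leaf) 27029 5
 Tr.leaf) 27030 6
 (Tr.node (Tr.node Tr.leaf 27035 5
 Tr.leaf) 27039 7
 Tr.leaf)) 27041 6
 (Tr.node (Tr.node (Tr.node Tr.leaf 27042 6
 Tr.leaf) 27045 6
 Tr.leaf) 27046 6
 (Tr.node Tr.leaf 27051 5
 Tr.leaf))) 27055 5
 (Tr.node (Tr.node (Tr.node (Tr.node Tr.leaf 27057 6
 Tr.leaf) 27058 6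
 Tr.leaf) 27061 6
 (Tr.node Tr.leaf 27062 6
 Tr.leaf)) 27067 6
 (Tr.node (Tr.node (Tr.node Tr.leaf 27071 6
 Tr.leaf) 27075 6
 Tr.leaf) 27079 6
 (Tr.node Tr.leaf 27081 6
 Tr.leaf))))) 27082 5
 (Tr.node (Tr.node (Tr.node (Tr.node (Tr.node (Tr.node Tr.leaf 27085 6
 Tr.leaf) 27086 5
 Tr.leaf) 27091 6
 (Tr.node (Tr.node Tr.leaf 27095 6
 Tr.leaf) 27097 5
 Tr.leaf)) 27098 6
 (Tr.node (Tr.node (Tr.node Tr.leaf 27101 6
 Tr.leaf) 27102 4
 Tr.leaf) 27107 6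
 (Tr.node Tr.leaf 27111 5
 Tr.leaf))) 27113 5
 (Tr.node (Tr.node (Tr.node (Tr.node Tr.leaf 27114 6
 Tr.leaf) 27117 5
 Tr.leaf) 27118 6
 (Tr.node Tr.leaf 27123 6
 Tr.leaf)) 27127 6
 (Tr.node (Tr.node (Tr.node Tr.leaf 27129 6
 Tr.leaf) 27130 6
 Tr.leaf) 27133 6
 (Tr.node Tr.leaf 27134 6
 Tr.leaf)))) 27657 5
 (Tr.node (Tr.node (Tr.node (Tr.node (Tr.node Tr.leaf 27659 5
 Tr.leaf) 27661 6
 Tr.leaf) 27663 6
 (Tr.node (Tr.node Tr.leaf 27673 6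
 Tr.leaf) 27675 5
 Tr.leaf)) 27677 6
 (Tr.node (Tr.node (Tr.node Tr.leaf 27679 6
 Tr.leaf) 27689 6
 Tr.leaf) 27691 6
 (Tr.node Tr.leaf 27693 5
 Tr.leaf))) 27695 6
 (Tr.node (Tr.node (Tr.node (Tr.node Tr.leaf 27705 6
 Tr.leaf) 27707 5
 Tr.leaf) 27709 6
 (Tr.node Tr.leaf 27711 6
 Tr.leaf)) 27713 6
 (Tr.node (Tr.node (Tr.node Tr.leaf 27715 4
 Tr.leaf) 27717 6
 Tr.leaf) 27719 7
 (Tr.node Tr.leaf 27729 6
 Tr.leaf)))))) 27731 5
 (Tr.node (Tr.node (Tr.node (Tr.node (Tr.node (Tr.node (Tr.node Tr.leaf 27733 6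
 Tr.leaf) 27735 6
 Tr.leaf) 27745 5
 (Tr.node (Tr.node Tr.leaf 27747 7
 Tr.leaf) 27749 5
 Tr.leaf)) 27751 5
 (Tr.node (Tr.node (Tr.node Tr.leaf 27761 6
 Tr.leaf) 27763 4
 Tr.leaf) 27765 6
 (Tr.node Tr.leaf 27767 6
 Tr.leaf))) 27777 5
 (Tr.node (Tr.node (Tr.node (Tr.node Tr.leaf 27779 6
 Tr.leaf) 27781 6
 Tr.leaf) 27783 5
 (Tr.node (Tr.node Tr.leaf 27793 6
 Tr.leaf) 27795 5
 Tr.leaf)) 27797 6
 (Tr.node (Tr.node (Tr.node Tr.leaf 27799 6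
 Tr.leaf) 27809 6
 Tr.leaf) 27811 6
 (Tr.node Tr.leaf 27813 6
 Tr.leaf)))) 27815 7
 (Tr.node (Tr.node (Tr.node (Tr.node (Tr.node Tr.leaf 27825 4
 Tr.leaf) 27827 4
 Tr.leaf) 27829 6
 (Tr.node (Tr.node Tr.leaf 27831 6
 Tr.leaf) 27849 6
 Tr.leaf)) 27851 6
 (Tr.node (Tr.node (Tr.node Tr.leaf 27853 5
 Tr.leaf) 27855 6
 Tr.leaf) 27865 6
 (Tr.node Tr.leaf 27867 6
 Tr.leaf))) 27869 6
 (Tr.node (Tr.node (Tr.node (Tr.node Tr.leaf 27871 5
 Tr.leaf) 27881 6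
 Tr.leaf) 27883 6
 (Tr.node Tr.leaf 27885 5
 Tr.leaf)) 27887 6
 (Tr.node (Tr.node (Tr.node Tr.leaf 27897 5
 Tr.leaf) 27899 6
 Tr.leaf) 27901 6
 (Tr.node Tr.leaf 27903 6
 Tr.leaf))))) 27905 5
 (Tr.node (Tr.node (Tr.node (Tr.node (Tr.node (Tr.node Tr.leaf 27907 4
 Tr.leaf) 27909 6
 Tr.leaf) 27911 4
 (Tr.node (Tr.node Tr.leaf 27921 6
 Tr.leaf) 27923 4
 Tr.leaf)) 27925 6
 (Tr.node (Tr.node (Tr.node Tr.leaf 27927 6
 Tr.leaf) 27937 6
 Tr.leaf) 27939 6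
 (Tr.node Tr.leaf 27941 5
 Tr.leaf))) 27943 6
 (Tr.node (Tr.node (Tr.node (Tr.node Tr.leaf 27953 6
 Tr.leaf) 27955 6
 Tr.leaf) 27957 6
 (Tr.node Tr.leaf 27959 5
 Tr.leaf)) 27977 6
 (Tr.node (Tr.node (Tr.node Tr.leaf 27979 6
 Tr.leaf) 27981 6
 Tr.leaf) 27983 5
 (Tr.node Tr.leaf 27993 6
 Tr.leaf)))) 27995 6
 (Tr.node (Tr.node (Tr.node (Tr.node (Tr.node Tr.leaf 27997 6
 Tr.leaf) 27999 6
 Tr.leaf) 28009 6
 (Tr.node (Tr.node Tr.leaf 28011 6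
 Tr.leaf) 28013 5
 Tr.leaf)) 28015 5
 (Tr.node (Tr.node (Tr.node Tr.leaf 28025 6
 Tr.leaf) 28027 6
 Tr.leaf) 28029 5
 (Tr.node Tr.leaf 28031 6
 Tr.leaf))) 28041 6
 (Tr.node (Tr.node (Tr.node (Tr.node Tr.leaf 28043 6
 Tr.leaf) 28045 6
 Tr.leaf) 28047 6
 (Tr.node Tr.leaf 28057 5
 Tr.leaf)) 28059 5
 (Tr.node (Tr.node (Tr.node Tr.leaf 28061 6
 Tr.leaf) 28063 5
 Tr.leaf) 28073 6
 (Tr.node Tr.leaf 28075 6
 Tr.leaf)))))))))

/-- A subtree. -/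
def tr2_s7 : Tr := (Tr.node (Tr.node (Tr.node (Tr.node (Tr.node (Tr.node (Tr.node (Tr.node (Tr.node (Tr.node Tr.leaf 28079 6
 Tr.leaf) 28089 6
 Tr.leaf) 28091 6
 (Tr.node (Tr.node Tr.leaf 28093 6
 Tr.leaf) 28095 6
 Tr.leaf)) 28097 6
 (Tr.node (Tr.node (Tr.node Tr.leaf 28099 6
 Tr.leaf) 28101 6
 Tr.leaf) 28103 6
 (Tr.node Tr.leaf 28113 6
 Tr.leaf))) 28115 6
 (Tr.node (Tr.node (Tr.node (Tr.node Tr.leaf 28117 6
 Tr.leaf) 28119 6
 Tr.leaf) 28129 6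
 (Tr.node (Tr.node Tr.leaf 28131 6
 Tr.leaf) 28133 6
 Tr.leaf)) 28135 6
 (Tr.node (Tr.node (Tr.node Tr.leaf 28145 6
 Tr.leaf) 28147 6
 Tr.leaf) 28149 6
 (Tr.node Tr.leaf 28151 6
 Tr.leaf)))) 28673 4
 (Tr.node (Tr.node (Tr.node (Tr.node (Tr.node Tr.leaf 28674 4
 Tr.leaf) 28676 4
 Tr.leaf) 28679 5
 (Tr.node (Tr.node Tr.leaf 28681 4
 Tr.leaf) 28682 3
 Tr.leaf)) 28684 4
 (Tr.node (Tr.node (Tr.node Tr.leaf 28687 6
 Tr.leaf) 28689 5
 Tr.leaf) 28690 4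
 (Tr.node Tr.leaf 28692 4
 Tr.leaf))) 28695 6
 (Tr.node (Tr.node (Tr.node (Tr.node Tr.leaf 28697 4
 Tr.leaf) 28698 4
 Tr.leaf) 28700 4
 (Tr.node Tr.leaf 28703 6
 Tr.leaf)) 28705 5
 (Tr.node (Tr.node (Tr.node Tr.leaf 28706 4
 Tr.leaf) 28708 4
 Tr.leaf) 28711 6
 (Tr.node Tr.leaf 28713 4
 Tr.leaf))))) 28714 5
 (Tr.node (Tr.node (Tr.node (Tr.node (Tr.node (Tr.node Tr.leaf 28716 4
 Tr.leaf) 28719 6
 Tr.leaf) 28721 4
 (Tr.node (Tr.node Tr.leaf 28722 5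
 Tr.leaf) 28724 3
 Tr.leaf)) 28727 6
 (Tr.node (Tr.node (Tr.node Tr.leaf 28729 4
 Tr.leaf) 28730 4
 Tr.leaf) 28732 5
 (Tr.node Tr.leaf 28735 5
 Tr.leaf))) 28739 6
 (Tr.node (Tr.node (Tr.node (Tr.node Tr.leaf 28741 6
 Tr.leaf) 28742 7
 Tr.leaf) 28747 6
 (Tr.node (Tr.node Tr.leaf 28749 4
 Tr.leaf) 28750 6
 Tr.leaf)) 28755 6
 (Tr.node (Tr.node (Tr.node Tr.leaf 28757 6
 Tr.leaf) 28758 6
 Tr.leaf) 28763 6
 (Tr.node Tr.leaf 28765 6
 Tr.leaf)))) 28766 6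
 (Tr.node (Tr.node (Tr.node (Tr.node (Tr.node Tr.leaf 28771 6
 Tr.leaf) 28773 6
 Tr.leaf) 28774 4
 (Tr.node (Tr.node Tr.leaf 28779 6
 Tr.leaf) 28781 6
 Tr.leaf)) 28782 4
 (Tr.node (Tr.node (Tr.node Tr.leaf 28787 4
 Tr.leaf) 28789 6
 Tr.leaf) 28790 6
 (Tr.node Tr.leaf 28795 6
 Tr.leaf))) 28797 6
 (Tr.node (Tr.node (Tr.node (Tr.node Tr.leaf 28798 6
 Tr.leaf) 28803 6
 Tr.leaf) 28805 6
 (Tr.node Tr.leaf 28806 6
 Tr.leaf)) 28811 6
 (Tr.node (Tr.node (Tr.node Tr.leaf 28813 6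
 Tr.leaf) 28814 3
 Tr.leaf) 28819 6
 (Tr.node Tr.leaf 28821 6
 Tr.leaf)))))) 28822 5
 (Tr.node (Tr.node (Tr.node (Tr.node (Tr.node (Tr.node (Tr.node Tr.leaf 28827 5
 Tr.leaf) 28829 6
 Tr.leaf) 28830 5
 (Tr.node (Tr.node Tr.leaf 28835 5
 Tr.leaf) 28837 4
 Tr.leaf)) 28838 4
 (Tr.node (Tr.node (Tr.node Tr.leaf 28843 5
 Tr.leaf) 28845 6
 Tr.leaf) 28846 6
 (Tr.node Tr.leaf 28851 6
 Tr.leaf))) 28853 4
 (Tr.node (Tr.node (Tr.node (Tr.node Tr.leaf 28854 4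
 Tr.leaf) 28859 6
 Tr.leaf) 28861 6
 (Tr.node (Tr.node Tr.leaf 28862 6
 Tr.leaf) 28865 4
 Tr.leaf)) 28866 6
 (Tr.node (Tr.node (Tr.node Tr.leaf 28868 5
 Tr.leaf) 28871 6
 Tr.leaf) 28873 6
 (Tr.node Tr.leaf 28874 6
 Tr.leaf)))) 28876 6
 (Tr.node (Tr.node (Tr.node (Tr.node (Tr.node Tr.leaf 28879 6
 Tr.leaf) 28881 6
 Tr.leaf) 28882 6
 (Tr.node (Tr.node Tr.leaf 28884 5
 Tr.leaf) 28887 6
 Tr.leaf)) 28889 5
 (Tr.node (Tr.node (Tr.node Tr.leaf 28890 3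
 Tr.leaf) 28892 5
 Tr.leaf) 28895 6
 (Tr.node Tr.leaf 28897 6
 Tr.leaf))) 28898 3
 (Tr.node (Tr.node (Tr.node (Tr.node Tr.leaf 28900 5
 Tr.leaf) 28903 6
 Tr.leaf) 28905 6
 (Tr.node Tr.leaf 28906 6
 Tr.leaf)) 28908 6
 (Tr.node (Tr.node (Tr.node Tr.leaf 28911 6
 Tr.leaf) 28913 6
 Tr.leaf) 28914 5
 (Tr.node Tr.leaf 28916 6
 Tr.leaf))))) 28919 6
 (Tr.node (Tr.node (Tr.node (Tr.node (Tr.node (Tr.node Tr.leaf 28921 6
 Tr.leaf) 28922 6
 Tr.leaf) 28924 4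
 (Tr.node (Tr.node Tr.leaf 28927 6
 Tr.leaf) 28931 6
 Tr.leaf)) 28933 6
 (Tr.node (Tr.node (Tr.node Tr.leaf 28934 6
 Tr.leaf) 28939 4
 Tr.leaf) 28941 6
 (Tr.node Tr.leaf 28942 3
 Tr.leaf))) 28947 6
 (Tr.node (Tr.node (Tr.node (Tr.node Tr.leaf 28949 5
 Tr.leaf) 28950 6
 Tr.leaf) 28955 6
 (Tr.node Tr.leaf 28957 6
 Tr.leaf)) 28958 5
 (Tr.node (Tr.node (Tr.node Tr.leaf 28963 7
 Tr.leaf) 28965 4
 Tr.leaf) 28966 6
 (Tr.node Tr.leaf 28971 4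
 Tr.leaf)))) 28973 5
 (Tr.node (Tr.node (Tr.node (Tr.node (Tr.node Tr.leaf 28974 5
 Tr.leaf) 28979 6
 Tr.leaf) 28981 7
 (Tr.node (Tr.node Tr.leaf 28982 3
 Tr.leaf) 28987 6
 Tr.leaf)) 28989 6
 (Tr.node (Tr.node (Tr.node Tr.leaf 28990 6
 Tr.leaf) 28993 5
 Tr.leaf) 28994 4
 (Tr.node Tr.leaf 28996 6
 Tr.leaf))) 28999 6
 (Tr.node (Tr.node (Tr.node (Tr.node Tr.leaf 29001 6
 Tr.leaf) 29002 6
 Tr.leaf) 29004 4
 (Tr.node Tr.leaf 29007 6
 Tr.leaf)) 29009 6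
 (Tr.node (Tr.node (Tr.node Tr.leaf 29010 5
 Tr.leaf) 29012 3
 Tr.leaf) 29015 6
 (Tr.node Tr.leaf 29017 6
 Tr.leaf))))))) 29018 5
 (Tr.node (Tr.node (Tr.node (Tr.node (Tr.node (Tr.node (Tr.node (Tr.node Tr.leaf 29020 6
 Tr.leaf) 29023 6
 Tr.leaf) 29025 6
 (Tr.node (Tr.node Tr.leaf 29026 6
 Tr.leaf) 29028 6
 Tr.leaf)) 29031 6
 (Tr.node (Tr.node (Tr.node Tr.leaf 29033 5
 Tr.leaf) 29034 4
 Tr.leaf) 29036 4
 (Tr.node Tr.leaf 29039 6
 Tr.leaf))) 29041 6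
 (Tr.node (Tr.node (Tr.node (Tr.node Tr.leaf 29042 6
 Tr.leaf) 29044 5
 Tr.leaf) 29047 6
 (Tr.node (Tr.node Tr.leaf 29049 4
 Tr.leaf) 29050 6
 Tr.leaf)) 29052 6
 (Tr.node (Tr.node (Tr.node Tr.leaf 29055 6
 Tr.leaf) 29057 6
 Tr.leaf) 29058 6
 (Tr.node Tr.leaf 29060 5
 Tr.leaf)))) 29063 6
 (Tr.node (Tr.node (Tr.node (Tr.node (Tr.node Tr.leaf 29065 6
 Tr.leaf) 29066 6
 Tr.leaf) 29068 6
 (Tr.node (Tr.node Tr.leaf 29071 6
 Tr.leaf) 29073 5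
 Tr.leaf)) 29074 5
 (Tr.node (Tr.node (Tr.node Tr.leaf 29076 6
 Tr.leaf) 29079 6
 Tr.leaf) 29081 5
 (Tr.node Tr.leaf 29082 6
 Tr.leaf))) 29084 5
 (Tr.node (Tr.node (Tr.node (Tr.node Tr.leaf 29087 6
 Tr.leaf) 29089 4
 Tr.leaf) 29090 6
 (Tr.node Tr.leaf 29092 4
 Tr.leaf)) 29095 6
 (Tr.node (Tr.node (Tr.node Tr.leaf 29097 5
 Tr.leaf) 29098 4
 Tr.leaf) 29100 6
 (Tr.node Tr.leaf 29103 6
 Tr.leaf))))) 29105 6
 (Tr.node (Tr.node (Tr.node (Tr.node (Tr.node (Tr.node Tr.leaf 29106 6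
 Tr.leaf) 29108 6
 Tr.leaf) 29111 6
 (Tr.node (Tr.node Tr.leaf 29113 7
 Tr.leaf) 29114 5
 Tr.leaf)) 29116 6
 (Tr.node (Tr.node (Tr.node Tr.leaf 29119 6
 Tr.leaf) 29123 7
 Tr.leaf) 29125 6
 (Tr.node Tr.leaf 29126 6
 Tr.leaf))) 29131 6
 (Tr.node (Tr.node (Tr.node (Tr.node Tr.leaf 29133 6
 Tr.leaf) 29134 6
 Tr.leaf) 29139 6
 (Tr.node Tr.leaf 29141 5
 Tr.leaf)) 29142 5
 (Tr.node (Tr.node (Tr.node Tr.leaf 29147 5
 Tr.leaf) 29149 6
 Tr.leaf) 29150 6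
 (Tr.node Tr.leaf 29155 6
 Tr.leaf)))) 29157 6
 (Tr.node (Tr.node (Tr.node (Tr.node (Tr.node Tr.leaf 29158 5
 Tr.leaf) 29163 6
 Tr.leaf) 29165 6
 (Tr.node (Tr.node Tr.leaf 29166 5
 Tr.leaf) 29171 6
 Tr.leaf)) 29173 6
 (Tr.node (Tr.node (Tr.node Tr.leaf 29174 6
 Tr.leaf) 29179 6
 Tr.leaf) 29181 6
 (Tr.node Tr.leaf 29182 6
 Tr.leaf))) 29701 6
 (Tr.node (Tr.node (Tr.node (Tr.node Tr.leaf 29703 6
 Tr.leaf) 29709 6
 Tr.leaf) 29711 6
 (Tr.node Tr.leaf 29717 6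
 Tr.leaf)) 29719 6
 (Tr.node (Tr.node (Tr.node Tr.leaf 29725 6
 Tr.leaf) 29727 6
 Tr.leaf) 29733 7
 (Tr.node Tr.leaf 29735 6
 Tr.leaf)))))) 29741 6
 (Tr.node (Tr.node (Tr.node (Tr.node (Tr.node (Tr.node (Tr.node Tr.leaf 29743 5
 Tr.leaf) 29749 6
 Tr.leaf) 29751 6
 (Tr.node (Tr.node Tr.leaf 29757 5
 Tr.leaf) 29759 6
 Tr.leaf)) 29761 6
 (Tr.node (Tr.node (Tr.node Tr.leaf 29763 5
 Tr.leaf) 29769 6
 Tr.leaf) 29771 5
 (Tr.node Tr.leaf 29777 6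
 Tr.leaf))) 29779 6
 (Tr.node (Tr.node (Tr.node (Tr.node Tr.leaf 29785 6
 Tr.leaf) 29787 6
 Tr.leaf) 29793 6
 (Tr.node (Tr.node Tr.leaf 29795 6
 Tr.leaf) 29801 6
 Tr.leaf)) 29803 6
 (Tr.node (Tr.node (Tr.node Tr.leaf 29809 5
 Tr.leaf) 29811 4
 Tr.leaf) 29817 5
 (Tr.node Tr.leaf 29819 5
 Tr.leaf)))) 29825 4
 (Tr.node (Tr.node (Tr.node (Tr.node (Tr.node Tr.leaf 29827 6
 Tr.leaf) 29833 6
 Tr.leaf) 29835 5
 (Tr.node (Tr.node Tr.leaf 29841 6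
 Tr.leaf) 29843 6
 Tr.leaf)) 29849 6
 (Tr.node (Tr.node (Tr.node Tr.leaf 29851 4
 Tr.leaf) 29857 7
 Tr.leaf) 29859 5
 (Tr.node Tr.leaf 29865 7
 Tr.leaf))) 29867 6
 (Tr.node (Tr.node (Tr.node (Tr.node Tr.leaf 29873 6
 Tr.leaf) 29875 4
 Tr.leaf) 29881 7
 (Tr.node Tr.leaf 29883 6
 Tr.leaf)) 29893 6
 (Tr.node (Tr.node (Tr.node Tr.leaf 29895 6
 Tr.leaf) 29901 6
 Tr.leaf) 29903 6
 (Tr.node Tr.leaf 29909 6
 Tr.leaf))))) 29911 6
 (Tr.node (Tr.node (Tr.node (Tr.node (Tr.node (Tr.node Tr.leaf 29917 5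
 Tr.leaf) 29919 6
 Tr.leaf) 29925 6
 (Tr.node (Tr.node Tr.leaf 29927 6
 Tr.leaf) 29933 6
 Tr.leaf)) 29935 6
 (Tr.node (Tr.node (Tr.node Tr.leaf 29941 6
 Tr.leaf) 29943 6
 Tr.leaf) 29949 6
 (Tr.node Tr.leaf 29951 6
 Tr.leaf))) 29953 6
 (Tr.node (Tr.node (Tr.node (Tr.node Tr.leaf 29955 6
 Tr.leaf) 29961 6
 Tr.leaf) 29963 6
 (Tr.node Tr.leaf 29969 6
 Tr.leaf)) 29971 4
 (Tr.node (Tr.node (Tr.node Tr.leaf 29977 6
 Tr.leaf) 29979 5
 Tr.leaf) 29985 4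
 (Tr.node Tr.leaf 29987 6
 Tr.leaf)))) 29993 7
 (Tr.node (Tr.node (Tr.node (Tr.node (Tr.node Tr.leaf 29995 5
 Tr.leaf) 30001 6
 Tr.leaf) 30003 6
 (Tr.node (Tr.node Tr.leaf 30009 4
 Tr.leaf) 30011 6
 Tr.leaf)) 30021 6
 (Tr.node (Tr.node (Tr.node Tr.leaf 30023 6
 Tr.leaf) 30029 6
 Tr.leaf) 30031 6
 (Tr.node Tr.leaf 30037 6
 Tr.leaf))) 30039 6
 (Tr.node (Tr.node (Tr.node (Tr.node Tr.leaf 30045 6
 Tr.leaf) 30047 6
 Tr.leaf) 30053 6
 (Tr.node Tr.leaf 30055 5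
 Tr.leaf)) 30061 6
 (Tr.node (Tr.node (Tr.node Tr.leaf 30063 6
 Tr.leaf) 30069 6
 Tr.leaf) 30071 6
 (Tr.node Tr.leaf 30077 7
 Tr.leaf)))))))) 30079 6
 (Tr.node (Tr.node (Tr.node (Tr.node (Tr.node (Tr.node (Tr.node (Tr.node (Tr.node Tr.leaf 30085 5
 Tr.leaf) 30087 6
 Tr.leaf) 30093 5
 (Tr.node (Tr.node Tr.leaf 30095 6
 Tr.leaf) 30101 6
 Tr.leaf)) 30103 5
 (Tr.node (Tr.node (Tr.node Tr.leaf 30109 6
 Tr.leaf) 30111 6
 Tr.leaf) 30117 5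
 (Tr.node Tr.leaf 30119 6
 Tr.leaf))) 30125 6
 (Tr.node (Tr.node (Tr.node (Tr.node Tr.leaf 30127 5
 Tr.leaf) 30133 6
 Tr.leaf) 30135 6
 (Tr.node (Tr.node Tr.leaf 30141 6
 Tr.leaf) 30143 6
 Tr.leaf)) 30145 6
 (Tr.node (Tr.node (Tr.node Tr.leaf 30147 6
 Tr.leaf) 30153 6
 Tr.leaf) 30155 6
 (Tr.node Tr.leaf 30161 5
 Tr.leaf)))) 30163 6
 (Tr.node (Tr.node (Tr.node (Tr.node (Tr.node Tr.leaf 30169 5
 Tr.leaf) 30171 6
 Tr.leaf) 30177 6
 (Tr.node (Tr.node Tr.leaf 30179 7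
 Tr.leaf) 30185 6
 Tr.leaf)) 30187 6
 (Tr.node (Tr.node (Tr.node Tr.leaf 30193 6
 Tr.leaf) 30195 6
 Tr.leaf) 30201 6
 (Tr.node Tr.leaf 30203 6
 Tr.leaf))) 30723 6
 (Tr.node (Tr.node (Tr.node (Tr.node Tr.leaf 30727 5
 Tr.leaf) 30731 6
 Tr.leaf) 30735 6
 (Tr.node Tr.leaf 30739 6
 Tr.leaf)) 30743 6
 (Tr.node (Tr.node (Tr.node Tr.leaf 30747 6
 Tr.leaf) 30751 5
 Tr.leaf) 30755 6
 (Tr.node Tr.leaf 30759 6
 Tr.leaf))))) 30763 6
 (Tr.node (Tr.node (Tr.node (Tr.node (Tr.node (Tr.node Tr.leaf 30767 7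
 Tr.leaf) 30771 6
 Tr.leaf) 30775 6
 (Tr.node (Tr.node Tr.leaf 30779 6
 Tr.leaf) 30783 6
 Tr.leaf)) 30785 4
 (Tr.node (Tr.node (Tr.node Tr.leaf 30786 6
 Tr.leaf) 30789 4
 Tr.leaf) 30790 5
 (Tr.node Tr.leaf 30793 4
 Tr.leaf))) 30794 5
 (Tr.node (Tr.node (Tr.node (Tr.node Tr.leaf 30797 5
 Tr.leaf) 30798 5
 Tr.leaf) 30801 6
 (Tr.node Tr.leaf 30802 5
 Tr.leaf)) 30805 6
 (Tr.node (Tr.node (Tr.node Tr.leaf 30806 6
 Tr.leaf) 30809 6
 Tr.leaf) 30810 4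
 (Tr.node Tr.leaf 30813 6
 Tr.leaf)))) 30814 6
 (Tr.node (Tr.node (Tr.node (Tr.node (Tr.node Tr.leaf 30817 6
 Tr.leaf) 30818 6
 Tr.leaf) 30821 6
 (Tr.node (Tr.node Tr.leaf 30822 6
 Tr.leaf) 30825 6
 Tr.leaf)) 30826 5
 (Tr.node (Tr.node (Tr.node Tr.leaf 30829 6
 Tr.leaf) 30830 6
 Tr.leaf) 30833 5
 (Tr.node Tr.leaf 30834 6
 Tr.leaf))) 30837 6
 (Tr.node (Tr.node (Tr.node (Tr.node Tr.leaf 30838 4
 Tr.leaf) 30841 5
 Tr.leaf) 30842 5
 (Tr.node Tr.leaf 30845 6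
 Tr.leaf)) 30846 5
 (Tr.node (Tr.node (Tr.node Tr.leaf 30849 6
 Tr.leaf) 30850 6
 Tr.leaf) 30853 4
 (Tr.node Tr.leaf 30854 6
 Tr.leaf)))))) 30857 6
 (Tr.node (Tr.node (Tr.node (Tr.node (Tr.node (Tr.node (Tr.node Tr.leaf 30858 6
 Tr.leaf) 30861 6
 Tr.leaf) 30862 4
 (Tr.node (Tr.node Tr.leaf 30865 5
 Tr.leaf) 30866 6
 Tr.leaf)) 30869 6
 (Tr.node (Tr.node (Tr.node Tr.leaf 30870 6
 Tr.leaf) 30873 4
 Tr.leaf) 30874 4
 (Tr.node Tr.leaf 30877 6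
 Tr.leaf))) 30878 4
 (Tr.node (Tr.node (Tr.node (Tr.node Tr.leaf 30881 5
 Tr.leaf) 30882 3
 Tr.leaf) 30885 6
 (Tr.node (Tr.node Tr.leaf 30886 5
 Tr.leaf) 30889 6
 Tr.leaf)) 30890 6
 (Tr.node (Tr.node (Tr.node Tr.leaf 30893 4
 Tr.leaf) 30894 6
 Tr.leaf) 30897 6
 (Tr.node Tr.leaf 30898 5
 Tr.leaf)))) 30901 6
 (Tr.node (Tr.node (Tr.node (Tr.node (Tr.node Tr.leaf 30902 4
 Tr.leaf) 30905 6
 Tr.leaf) 30906 6
 (Tr.node (Tr.node Tr.leaf 30909 6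
 Tr.leaf) 30910 6
 Tr.leaf)) 30915 6
 (Tr.node (Tr.node (Tr.node Tr.leaf 30919 7
 Tr.leaf) 30923 6
 Tr.leaf) 30927 6
 (Tr.node Tr.leaf 30931 6
 Tr.leaf))) 30935 6
 (Tr.node (Tr.node (Tr.node (Tr.node Tr.leaf 30939 6
 Tr.leaf) 30943 6
 Tr.leaf) 30947 6
 (Tr.node Tr.leaf 30951 6
 Tr.leaf)) 30955 5
 (Tr.node (Tr.node (Tr.node Tr.leaf 30959 6
 Tr.leaf) 30963 6
 Tr.leaf) 30967 6
 (Tr.node Tr.leaf 30971 6
 Tr.leaf))))) 30975 6
 (Tr.node (Tr.node (Tr.node (Tr.node (Tr.node (Tr.node Tr.leaf 30977 6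
 Tr.leaf) 30978 6
 Tr.leaf) 30981 6
 (Tr.node (Tr.node Tr.leaf 30982 4
 Tr.leaf) 30985 4
 Tr.leaf)) 30986 5
 (Tr.node (Tr.node (Tr.node Tr.leaf 30989 6
 Tr.leaf) 30990 6
 Tr.leaf) 30993 5
 (Tr.node Tr.leaf 30994 5
 Tr.leaf))) 30997 7
 (Tr.node (Tr.node (Tr.node (Tr.node Tr.leaf 30998 6
 Tr.leaf) 31001 6
 Tr.leaf) 31002 4
 (Tr.node Tr.leaf 31005 6
 Tr.leaf)) 31006 6
 (Tr.node (Tr.node (Tr.node Tr.leaf 31009 6
 Tr.leaf) 31010 6
 Tr.leaf) 31013 6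
 (Tr.node Tr.leaf 31014 5
 Tr.leaf)))) 31017 4
 (Tr.node (Tr.node (Tr.node (Tr.node (Tr.node Tr.leaf 31018 6
 Tr.leaf) 31021 6
 Tr.leaf) 31022 6
 (Tr.node (Tr.node Tr.leaf 31025 5
 Tr.leaf) 31026 6
 Tr.leaf)) 31029 7
 (Tr.node (Tr.node (Tr.node Tr.leaf 31030 6
 Tr.leaf) 31033 7
 Tr.leaf) 31034 5
 (Tr.node Tr.leaf 31037 5
 Tr.leaf))) 31038 5
 (Tr.node (Tr.node (Tr.node (Tr.node Tr.leaf 31043 6
 Tr.leaf) 31047 6
 Tr.leaf) 31051 6
 (Tr.node Tr.leaf 31055 6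
 Tr.leaf)) 31059 6
 (Tr.node (Tr.node (Tr.node Tr.leaf 31063 5
 Tr.leaf) 31067 6
 Tr.leaf) 31071 6
 (Tr.node Tr.leaf 31075 6
 Tr.leaf))))))) 31079 6
 (Tr.node (Tr.node (Tr.node (Tr.node (Tr.node (Tr.node (Tr.node (Tr.node Tr.leaf 31083 6
 Tr.leaf) 31087 6
 Tr.leaf) 31091 6
 (Tr.node (Tr.node Tr.leaf 31095 6
 Tr.leaf) 31099 6
 Tr.leaf)) 31103 6
 (Tr.node (Tr.node (Tr.node Tr.leaf 31107 6
 Tr.leaf) 31111 6
 Tr.leaf) 31115 6
 (Tr.node Tr.leaf 31119 6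
 Tr.leaf))) 31123 6
 (Tr.node (Tr.node (Tr.node (Tr.node Tr.leaf 31127 6
 Tr.leaf) 31131 5
 Tr.leaf) 31135 6
 (Tr.node (Tr.node Tr.leaf 31139 5
 Tr.leaf) 31143 6
 Tr.leaf)) 31147 6
 (Tr.node (Tr.node (Tr.node Tr.leaf 31151 5
 Tr.leaf) 31155 6
 Tr.leaf) 31159 5
 (Tr.node Tr.leaf 31163 6
 Tr.leaf)))) 31167 5
 (Tr.node (Tr.node (Tr.node (Tr.node (Tr.node Tr.leaf 31169 6
 Tr.leaf) 31170 6
 Tr.leaf) 31173 6
 (Tr.node (Tr.node Tr.leaf 31174 6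
 Tr.leaf) 31177 6
 Tr.leaf)) 31178 5
 (Tr.node (Tr.node (Tr.node Tr.leaf 31181 6
 Tr.leaf) 31182 6
 Tr.leaf) 31185 6
 (Tr.node Tr.leaf 31186 5
 Tr.leaf))) 31189 5
 (Tr.node (Tr.node (Tr.node (Tr.node Tr.leaf 31190 5
 Tr.leaf) 31193 6
 Tr.leaf) 31194 5
 (Tr.node Tr.leaf 31197 5
 Tr.leaf)) 31198 6
 (Tr.node (Tr.node (Tr.node Tr.leaf 31201 6
 Tr.leaf) 31202 6
 Tr.leaf) 31205 6
 (Tr.node Tr.leaf 31206 5
 Tr.leaf))))) 31209 7
 (Tr.node (Tr.node (Tr.node (Tr.node (Tr.node (Tr.node Tr.leaf 31210 5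
 Tr.leaf) 31213 6
 Tr.leaf) 31214 6
 (Tr.node (Tr.node Tr.leaf 31217 6
 Tr.leaf) 31218 6
 Tr.leaf)) 31221 6
 (Tr.node (Tr.node (Tr.node Tr.leaf 31222 6
 Tr.leaf) 31225 6
 Tr.leaf) 31226 6
 (Tr.node Tr.leaf 31229 6
 Tr.leaf))) 31230 6
 (Tr.node (Tr.node (Tr.node (Tr.node Tr.leaf 31745 5
 Tr.leaf) 31747 5
 Tr.leaf) 31749 7
 (Tr.node Tr.leaf 31751 6
 Tr.leaf)) 31753 6
 (Tr.node (Tr.node (Tr.node Tr.leaf 31755 6
 Tr.leaf) 31757 6
 Tr.leaf) 31759 5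
 (Tr.node Tr.leaf 31761 6
 Tr.leaf)))) 31763 6
 (Tr.node (Tr.node (Tr.node (Tr.node (Tr.node Tr.leaf 31765 6
 Tr.leaf) 31767 6
 Tr.leaf) 31769 6
 (Tr.node (Tr.node Tr.leaf 31771 6
 Tr.leaf) 31773 6
 Tr.leaf)) 31775 6
 (Tr.node (Tr.node (Tr.node Tr.leaf 31777 5
 Tr.leaf) 31779 6
 Tr.leaf) 31781 6
 (Tr.node Tr.leaf 31783 6
 Tr.leaf))) 31785 6
 (Tr.node (Tr.node (Tr.node (Tr.node Tr.leaf 31787 6
 Tr.leaf) 31789 6
 Tr.leaf) 31791 5
 (Tr.node Tr.leaf 31793 5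
 Tr.leaf)) 31795 6
 (Tr.node (Tr.node (Tr.node Tr.leaf 31797 6
 Tr.leaf) 31799 6
 Tr.leaf) 31801 6
 (Tr.node Tr.leaf 31803 5
 Tr.leaf)))))) 31805 7
 (Tr.node (Tr.node (Tr.node (Tr.node (Tr.node (Tr.node (Tr.node Tr.leaf 31807 5
 Tr.leaf) 31937 6
 Tr.leaf) 31939 6
 (Tr.node (Tr.node Tr.leaf 31941 5
 Tr.leaf) 31943 6
 Tr.leaf)) 31945 6
 (Tr.node (Tr.node (Tr.node Tr.leaf 31947 5
 Tr.leaf) 31949 6
 Tr.leaf) 31951 5
 (Tr.node Tr.leaf 31953 6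
 Tr.leaf))) 31955 5
 (Tr.node (Tr.node (Tr.node (Tr.node Tr.leaf 31957 5
 Tr.leaf) 31959 6
 Tr.leaf) 31961 6
 (Tr.node (Tr.node Tr.leaf 31963 5
 Tr.leaf) 31965 6
 Tr.leaf)) 31967 5
 (Tr.node (Tr.node (Tr.node Tr.leaf 31969 7
 Tr.leaf) 31971 5
 Tr.leaf) 31973 6
 (Tr.node Tr.leaf 31975 6
 Tr.leaf)))) 31977 6
 (Tr.node (Tr.node (Tr.node (Tr.node (Tr.node Tr.leaf 31979 6
 Tr.leaf) 31981 6
 Tr.leaf) 31983 6
 (Tr.node (Tr.node Tr.leaf 31985 7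
 Tr.leaf) 31987 6
 Tr.leaf)) 31989 6
 (Tr.node (Tr.node (Tr.node Tr.leaf 31991 5
 Tr.leaf) 31993 6
 Tr.leaf) 31995 6
 (Tr.node Tr.leaf 31997 6
 Tr.leaf))) 31999 6
 (Tr.node (Tr.node (Tr.node (Tr.node Tr.leaf 32065 6
 Tr.leaf) 32067 6
 Tr.leaf) 32069 6
 (Tr.node Tr.leaf 32071 6
 Tr.leaf)) 32073 5
 (Tr.node (Tr.node (Tr.node Tr.leaf 32075 6
 Tr.leaf) 32077 5
 Tr.leaf) 32079 7
 (Tr.node Tr.leaf 32081 5
 Tr.leaf))))) 32083 5
 (Tr.node (Tr.node (Tr.node (Tr.node (Tr.node (Tr.node Tr.leaf 32085 6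
 Tr.leaf) 32087 6
 Tr.leaf) 32089 6
 (Tr.node (Tr.node Tr.leaf 32091 5
 Tr.leaf) 32093 6
 Tr.leaf)) 32095 6
 (Tr.node (Tr.node (Tr.node Tr.leaf 32097 5
 Tr.leaf) 32099 5
 Tr.leaf) 32101 6
 (Tr.node Tr.leaf 32103 6
 Tr.leaf))) 32105 6
 (Tr.node (Tr.node (Tr.node (Tr.node Tr.leaf 32107 6
 Tr.leaf) 32109 6
 Tr.leaf) 32111 6
 (Tr.node Tr.leaf 32113 5
 Tr.leaf)) 32115 5
 (Tr.node (Tr.node (Tr.node Tr.leaf 32117 6
 Tr.leaf) 32119 6
 Tr.leaf) 32121 6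
 (Tr.node Tr.leaf 32123 6
 Tr.leaf)))) 32125 5
 (Tr.node (Tr.node (Tr.node (Tr.node (Tr.node Tr.leaf 32127 6
 Tr.leaf) 32129 7
 Tr.leaf) 32131 6
 (Tr.node (Tr.node Tr.leaf 32133 6
 Tr.leaf) 32135 5
 Tr.leaf)) 32137 6
 (Tr.node (Tr.node (Tr.node Tr.leaf 32139 6
 Tr.leaf) 32141 6
 Tr.leaf) 32143 6
 (Tr.node Tr.leaf 32145 5
 Tr.leaf))) 32147 6
 (Tr.node (Tr.node (Tr.node (Tr.node Tr.leaf 32149 6
 Tr.leaf) 32151 6
 Tr.leaf) 32153 6
 (Tr.node Tr.leaf 32155 7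
 Tr.leaf)) 32157 6
 (Tr.node (Tr.node (Tr.node Tr.leaf 32159 5
 Tr.leaf) 32161 5
 Tr.leaf) 32163 6
 (Tr.node Tr.leaf 32165 6
 Tr.leaf)))))))))

/-- A subtree. -/
def tr2_s8 : Tr := (Tr.node (Tr.node (Tr.node (Tr.node (Tr.node (Tr.node (Tr.node (Tr.node (Tr.node (Tr.node Tr.leaf 32169 6
 Tr.leaf) 32171 6
 Tr.leaf) 32173 5
 (Tr.node (Tr.node Tr.leaf 32175 5
 Tr.leaf) 32177 6
 Tr.leaf)) 32179 6
 (Tr.node (Tr.node (Tr.node Tr.leaf 32181 6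
 Tr.leaf) 32183 6
 Tr.leaf) 32185 5
 (Tr.node Tr.leaf 32187 6
 Tr.leaf))) 32189 6
 (Tr.node (Tr.node (Tr.node (Tr.node Tr.leaf 32191 6
 Tr.leaf) 32769 2
 Tr.leaf) 32770 3
 (Tr.node (Tr.node Tr.leaf 32772 3
 Tr.leaf) 32775 3
 Tr.leaf)) 32776 1
 (Tr.node (Tr.node (Tr.node Tr.leaf 32779 4
 Tr.leaf) 32781 4
 Tr.leaf) 32782 4
 (Tr.node Tr.leaf 32784 3
 Tr.leaf)))) 32787 6
 (Tr.node (Tr.node (Tr.node (Tr.node (Tr.node Tr.leaf 32789 4
 Tr.leaf) 32790 5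
 Tr.leaf) 32793 5
 (Tr.node (Tr.node Tr.leaf 32794 6
 Tr.leaf) 32796 4
 Tr.leaf)) 32799 6
 (Tr.node (Tr.node (Tr.node Tr.leaf 32800 2
 Tr.leaf) 32803 4
 Tr.leaf) 32805 6
 (Tr.node Tr.leaf 32806 4
 Tr.leaf))) 32809 4
 (Tr.node (Tr.node (Tr.node (Tr.node Tr.leaf 32810 4
 Tr.leaf) 32812 5
 Tr.leaf) 32815 6
 (Tr.node Tr.leaf 32817 5
 Tr.leaf)) 32818 4
 (Tr.node (Tr.node (Tr.node Tr.leaf 32820 5
 Tr.leaf) 32823 6
 Tr.leaf) 32824 4
 (Tr.node Tr.leaf 32827 5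
 Tr.leaf))))) 32829 6
 (Tr.node (Tr.node (Tr.node (Tr.node (Tr.node (Tr.node Tr.leaf 32830 6
 Tr.leaf) 32833 2
 Tr.leaf) 32834 3
 (Tr.node (Tr.node Tr.leaf 32836 3
 Tr.leaf) 32839 3
 Tr.leaf)) 32840 1
 (Tr.node (Tr.node (Tr.node Tr.leaf 32843 3
 Tr.leaf) 32845 3
 Tr.leaf) 32846 4
 (Tr.node Tr.leaf 32848 2
 Tr.leaf))) 32851 6
 (Tr.node (Tr.node (Tr.node (Tr.node Tr.leaf 32853 4
 Tr.leaf) 32854 4
 Tr.leaf) 32857 4
 (Tr.node (Tr.node Tr.leaf 32858 5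
 Tr.leaf) 32860 4
 Tr.leaf)) 32863 6
 (Tr.node (Tr.node (Tr.node Tr.leaf 32864 3
 Tr.leaf) 32867 5
 Tr.leaf) 32869 6
 (Tr.node Tr.leaf 32870 4
 Tr.leaf)))) 32873 4
 (Tr.node (Tr.node (Tr.node (Tr.node (Tr.node Tr.leaf 32874 4
 Tr.leaf) 32876 6
 Tr.leaf) 32879 6
 (Tr.node (Tr.node Tr.leaf 32881 5
 Tr.leaf) 32882 4
 Tr.leaf)) 32884 4
 (Tr.node (Tr.node (Tr.node Tr.leaf 32887 6
 Tr.leaf) 32888 4
 Tr.leaf) 32891 6
 (Tr.node Tr.leaf 32893 5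
 Tr.leaf))) 32894 6
 (Tr.node (Tr.node (Tr.node (Tr.node Tr.leaf 32899 5
 Tr.leaf) 32901 6
 Tr.leaf) 32902 6
 (Tr.node Tr.leaf 32905 4
 Tr.leaf)) 32906 6
 (Tr.node (Tr.node (Tr.node Tr.leaf 32908 4
 Tr.leaf) 32911 6
 Tr.leaf) 32913 5
 (Tr.node Tr.leaf 32914 4
 Tr.leaf)))))) 32916 4
 (Tr.node (Tr.node (Tr.node (Tr.node (Tr.node (Tr.node (Tr.node Tr.leaf 32919 6
 Tr.leaf) 32920 4
 Tr.leaf) 32923 6
 (Tr.node (Tr.node Tr.leaf 32925 5
 Tr.leaf) 32926 4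
 Tr.leaf)) 32929 4
 (Tr.node (Tr.node (Tr.node Tr.leaf 32930 4
 Tr.leaf) 32932 5
 Tr.leaf) 32935 6
 (Tr.node Tr.leaf 32936 7
 Tr.leaf))) 32939 4
 (Tr.node (Tr.node (Tr.node (Tr.node Tr.leaf 32941 6
 Tr.leaf) 32942 6
 Tr.leaf) 32944 6
 (Tr.node (Tr.node Tr.leaf 32947 4
 Tr.leaf) 32949 5
 Tr.leaf)) 32950 4
 (Tr.node (Tr.node (Tr.node Tr.leaf 32953 4
 Tr.leaf) 32954 4
 Tr.leaf) 32956 6
 (Tr.node Tr.leaf 32959 5
 Tr.leaf)))) 32963 5
 (Tr.node (Tr.node (Tr.node (Tr.node (Tr.node Tr.leaf 32965 6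
 Tr.leaf) 32966 5
 Tr.leaf) 32969 4
 (Tr.node (Tr.node Tr.leaf 32970 6
 Tr.leaf) 32972 4
 Tr.leaf)) 32975 4
 (Tr.node (Tr.node (Tr.node Tr.leaf 32977 6
 Tr.leaf) 32978 4
 Tr.leaf) 32980 4
 (Tr.node Tr.leaf 32983 6
 Tr.leaf))) 32984 3
 (Tr.node (Tr.node (Tr.node (Tr.node Tr.leaf 32987 6
 Tr.leaf) 32989 6
 Tr.leaf) 32990 5
 (Tr.node Tr.leaf 32993 4
 Tr.leaf)) 32994 5
 (Tr.node (Tr.node (Tr.node Tr.leaf 32996 4
 Tr.leaf) 32999 6
 Tr.leaf) 33000 7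
 (Tr.node Tr.leaf 33003 5
 Tr.leaf))))) 33005 6
 (Tr.node (Tr.node (Tr.node (Tr.node (Tr.node (Tr.node Tr.leaf 33006 6
 Tr.leaf) 33008 6
 Tr.leaf) 33011 6
 (Tr.node (Tr.node Tr.leaf 33013 5
 Tr.leaf) 33014 6
 Tr.leaf)) 33017 6
 (Tr.node (Tr.node (Tr.node Tr.leaf 33018 5
 Tr.leaf) 33020 6
 Tr.leaf) 33023 6
 (Tr.node Tr.leaf 33027 6
 Tr.leaf))) 33029 5
 (Tr.node (Tr.node (Tr.node (Tr.node Tr.leaf 33030 5
 Tr.leaf) 33033 4
 Tr.leaf) 33034 4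
 (Tr.node Tr.leaf 33036 6
 Tr.leaf)) 33039 5
 (Tr.node (Tr.node (Tr.node Tr.leaf 33041 4
 Tr.leaf) 33042 4
 Tr.leaf) 33044 4
 (Tr.node Tr.leaf 33047 6
 Tr.leaf)))) 33048 7
 (Tr.node (Tr.node (Tr.node (Tr.node (Tr.node Tr.leaf 33051 6
 Tr.leaf) 33053 6
 Tr.leaf) 33054 6
 (Tr.node (Tr.node Tr.leaf 33057 6
 Tr.leaf) 33058 4
 Tr.leaf)) 33060 5
 (Tr.node (Tr.node (Tr.node Tr.leaf 33063 6
 Tr.leaf) 33064 3
 Tr.leaf) 33067 6
 (Tr.node Tr.leaf 33069 6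
 Tr.leaf))) 33070 5
 (Tr.node (Tr.node (Tr.node (Tr.node Tr.leaf 33072 6
 Tr.leaf) 33075 5
 Tr.leaf) 33077 6
 (Tr.node Tr.leaf 33078 5
 Tr.leaf)) 33081 6
 (Tr.node (Tr.node (Tr.node Tr.leaf 33082 6
 Tr.leaf) 33084 5
 Tr.leaf) 33087 6
 (Tr.node Tr.leaf 33091 6
 Tr.leaf))))))) 33093 5
 (Tr.node (Tr.node (Tr.node (Tr.node (Tr.node (Tr.node (Tr.node (Tr.node Tr.leaf 33094 6
 Tr.leaf) 33097 4
 Tr.leaf) 33098 5
 (Tr.node (Tr.node Tr.leaf 33100 6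
 Tr.leaf) 33103 6
 Tr.leaf)) 33105 4
 (Tr.node (Tr.node (Tr.node Tr.leaf 33106 5
 Tr.leaf) 33108 5
 Tr.leaf) 33111 6
 (Tr.node Tr.leaf 33112 7
 Tr.leaf))) 33115 6
 (Tr.node (Tr.node (Tr.node (Tr.node Tr.leaf 33117 4
 Tr.leaf) 33118 6
 Tr.leaf) 33121 5
 (Tr.node (Tr.node Tr.leaf 33122 4
 Tr.leaf) 33124 4
 Tr.leaf)) 33127 6
 (Tr.node (Tr.node (Tr.node Tr.leaf 33128 4
 Tr.leaf) 33131 5
 Tr.leaf) 33133 6
 (Tr.node Tr.leaf 33134 4
 Tr.leaf)))) 33136 6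
 (Tr.node (Tr.node (Tr.node (Tr.node (Tr.node Tr.leaf 33139 5
 Tr.leaf) 33141 4
 Tr.leaf) 33142 4
 (Tr.node (Tr.node Tr.leaf 33145 4
 Tr.leaf) 33146 6
 Tr.leaf)) 33148 4
 (Tr.node (Tr.node (Tr.node Tr.leaf 33151 5
 Tr.leaf) 33153 4
 Tr.leaf) 33154 4
 (Tr.node Tr.leaf 33156 4
 Tr.leaf))) 33159 6
 (Tr.node (Tr.node (Tr.node (Tr.node Tr.leaf 33160 4
 Tr.leaf) 33163 5
 Tr.leaf) 33165 6
 (Tr.node Tr.leaf 33166 6
 Tr.leaf)) 33168 4
 (Tr.node (Tr.node (Tr.node Tr.leaf 33171 5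
 Tr.leaf) 33173 6
 Tr.leaf) 33174 5
 (Tr.node Tr.leaf 33177 5
 Tr.leaf))))) 33178 5
 (Tr.node (Tr.node (Tr.node (Tr.node (Tr.node (Tr.node Tr.leaf 33180 5
 Tr.leaf) 33183 5
 Tr.leaf) 33184 3
 (Tr.node (Tr.node Tr.leaf 33187 5
 Tr.leaf) 33189 4
 Tr.leaf)) 33190 5
 (Tr.node (Tr.node (Tr.node Tr.leaf 33193 6
 Tr.leaf) 33194 5
 Tr.leaf) 33196 5
 (Tr.node Tr.leaf 33199 5
 Tr.leaf))) 33201 5
 (Tr.node (Tr.node (Tr.node (Tr.node Tr.leaf 33202 6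
 Tr.leaf) 33204 5
 Tr.leaf) 33207 6
 (Tr.node Tr.leaf 33208 5
 Tr.leaf)) 33211 6
 (Tr.node (Tr.node (Tr.node Tr.leaf 33213 6
 Tr.leaf) 33214 6
 Tr.leaf) 33217 4
 (Tr.node Tr.leaf 33218 4
 Tr.leaf)))) 33220 4
 (Tr.node (Tr.node (Tr.node (Tr.node (Tr.node Tr.leaf 33223 6
 Tr.leaf) 33224 4
 Tr.leaf) 33227 6
 (Tr.node (Tr.node Tr.leaf 33229 5
 Tr.leaf) 33230 6
 Tr.leaf)) 33232 3
 (Tr.node (Tr.node (Tr.node Tr.leaf 33235 4
 Tr.leaf) 33237 5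
 Tr.leaf) 33238 5
 (Tr.node Tr.leaf 33241 6
 Tr.leaf))) 33242 5
 (Tr.node (Tr.node (Tr.node (Tr.node Tr.leaf 33244 5
 Tr.leaf) 33247 5
 Tr.leaf) 33248 4
 (Tr.node Tr.leaf 33251 6
 Tr.leaf)) 33253 5
 (Tr.node (Tr.node (Tr.node Tr.leaf 33254 5
 Tr.leaf) 33257 5
 Tr.leaf) 33258 5
 (Tr.node Tr.leaf 33260 5
 Tr.leaf)))))) 33263 5
 (Tr.node (Tr.node (Tr.node (Tr.node (Tr.node (Tr.node (Tr.node Tr.leaf 33265 5
 Tr.leaf) 33266 5
 Tr.leaf) 33268 6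
 (Tr.node (Tr.node Tr.leaf 33271 6
 Tr.leaf) 33272 5
 Tr.leaf)) 33275 6
 (Tr.node (Tr.node (Tr.node Tr.leaf 33277 6
 Tr.leaf) 33278 6
 Tr.leaf) 33797 4
 (Tr.node Tr.leaf 33799 3
 Tr.leaf))) 33801 4
 (Tr.node (Tr.node (Tr.node (Tr.node Tr.leaf 33803 4
 Tr.leaf) 33809 5
 Tr.leaf) 33811 6
 (Tr.node (Tr.node Tr.leaf 33821 6
 Tr.leaf) 33823 6
 Tr.leaf)) 33825 5
 (Tr.node (Tr.node (Tr.node Tr.leaf 33827 4
 Tr.leaf) 33837 6
 Tr.leaf) 33839 6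
 (Tr.node Tr.leaf 33845 5
 Tr.leaf)))) 33847 6
 (Tr.node (Tr.node (Tr.node (Tr.node (Tr.node Tr.leaf 33849 6
 Tr.leaf) 33851 6
 Tr.leaf) 33861 4
 (Tr.node (Tr.node Tr.leaf 33863 3
 Tr.leaf) 33865 3
 Tr.leaf)) 33867 3
 (Tr.node (Tr.node (Tr.node Tr.leaf 33873 6
 Tr.leaf) 33875 6
 Tr.leaf) 33885 4
 (Tr.node Tr.leaf 33887 6
 Tr.leaf))) 33889 4
 (Tr.node (Tr.node (Tr.node (Tr.node Tr.leaf 33891 4
 Tr.leaf) 33901 6
 Tr.leaf) 33903 6
 (Tr.node Tr.leaf 33909 4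
 Tr.leaf)) 33911 6
 (Tr.node (Tr.node (Tr.node Tr.leaf 33913 4
 Tr.leaf) 33915 5
 Tr.leaf) 33921 5
 (Tr.node Tr.leaf 33923 3
 Tr.leaf))))) 33933 6
 (Tr.node (Tr.node (Tr.node (Tr.node (Tr.node (Tr.node Tr.leaf 33935 6
 Tr.leaf) 33941 6
 Tr.leaf) 33943 5
 (Tr.node (Tr.node Tr.leaf 33945 5
 Tr.leaf) 33947 5
 Tr.leaf)) 33957 4
 (Tr.node (Tr.node (Tr.node Tr.leaf 33959 6
 Tr.leaf) 33961 5
 Tr.leaf) 33963 6
 (Tr.node Tr.leaf 33969 6
 Tr.leaf))) 33971 6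
 (Tr.node (Tr.node (Tr.node (Tr.node Tr.leaf 33981 6
 Tr.leaf) 33983 6
 Tr.leaf) 33985 3
 (Tr.node Tr.leaf 33987 5
 Tr.leaf)) 33997 6
 (Tr.node (Tr.node (Tr.node Tr.leaf 33999 6
 Tr.leaf) 34005 6
 Tr.leaf) 34007 5
 (Tr.node Tr.leaf 34009 5
 Tr.leaf)))) 34011 6
 (Tr.node (Tr.node (Tr.node (Tr.node (Tr.node Tr.leaf 34021 6
 Tr.leaf) 34023 5
 Tr.leaf) 34025 6
 (Tr.node (Tr.node Tr.leaf 34027 4
 Tr.leaf) 34033 5
 Tr.leaf)) 34035 5
 (Tr.node (Tr.node (Tr.node Tr.leaf 34045 6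
 Tr.leaf) 34047 6
 Tr.leaf) 34049 6
 (Tr.node Tr.leaf 34051 6
 Tr.leaf))) 34061 6
 (Tr.node (Tr.node (Tr.node (Tr.node Tr.leaf 34063 6
 Tr.leaf) 34069 4
 Tr.leaf) 34071 4
 (Tr.node Tr.leaf 34073 5
 Tr.leaf)) 34075 4
 (Tr.node (Tr.node (Tr.node Tr.leaf 34085 4
 Tr.leaf) 34087 6
 Tr.leaf) 34089 6
 (Tr.node Tr.leaf 34091 6
 Tr.leaf)))))))) 34097 5
 (Tr.node (Tr.node (Tr.node (Tr.node (Tr.node (Tr.node (Tr.node (Tr.node (Tr.node Tr.leaf 34099 6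
 Tr.leaf) 34109 6
 Tr.leaf) 34111 5
 (Tr.node (Tr.node Tr.leaf 34113 6
 Tr.leaf) 34115 5
 Tr.leaf)) 34125 4
 (Tr.node (Tr.node (Tr.node Tr.leaf 34127 6
 Tr.leaf) 34133 5
 Tr.leaf) 34135 5
 (Tr.node Tr.leaf 34137 5
 Tr.leaf))) 34139 4
 (Tr.node (Tr.node (Tr.node (Tr.node Tr.leaf 34149 4
 Tr.leaf) 34151 6
 Tr.leaf) 34153 4
 (Tr.node (Tr.node Tr.leaf 34155 4
 Tr.leaf) 34161 7
 Tr.leaf)) 34163 5
 (Tr.node (Tr.node (Tr.node Tr.leaf 34173 5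
 Tr.leaf) 34175 6
 Tr.leaf) 34181 6
 (Tr.node Tr.leaf 34183 5
 Tr.leaf)))) 34185 5
 (Tr.node (Tr.node (Tr.node (Tr.node (Tr.node Tr.leaf 34187 5
 Tr.leaf) 34193 6
 Tr.leaf) 34195 6
 (Tr.node (Tr.node Tr.leaf 34205 6
 Tr.leaf) 34207 4
 Tr.leaf)) 34209 4
 (Tr.node (Tr.node (Tr.node Tr.leaf 34211 6
 Tr.leaf) 34221 6
 Tr.leaf) 34223 6
 (Tr.node Tr.leaf 34229 6
 Tr.leaf))) 34231 6
 (Tr.node (Tr.node (Tr.node (Tr.node Tr.leaf 34233 6
 Tr.leaf) 34235 6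
 Tr.leaf) 34245 5
 (Tr.node Tr.leaf 34247 5
 Tr.leaf)) 34249 6
 (Tr.node (Tr.node (Tr.node Tr.leaf 34251 7
 Tr.leaf) 34257 6
 Tr.leaf) 34259 6
 (Tr.node Tr.leaf 34269 4
 Tr.leaf))))) 34271 6
 (Tr.node (Tr.node (Tr.node (Tr.node (Tr.node (Tr.node Tr.leaf 34273 5
 Tr.leaf) 34275 6
 Tr.leaf) 34285 6
 (Tr.node (Tr.node Tr.leaf 34287 6
 Tr.leaf) 34293 6
 Tr.leaf)) 34295 6
 (Tr.node (Tr.node (Tr.node Tr.leaf 34297 6
 Tr.leaf) 34299 6
 Tr.leaf) 34819 4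
 (Tr.node Tr.leaf 34823 3
 Tr.leaf))) 34825 4
 (Tr.node (Tr.node (Tr.node (Tr.node Tr.leaf 34826 3
 Tr.leaf) 34829 4
 Tr.leaf) 34830 3
 (Tr.node (Tr.node Tr.leaf 34833 5
 Tr.leaf) 34834 4
 Tr.leaf)) 34837 4
 (Tr.node (Tr.node (Tr.node Tr.leaf 34838 4
 Tr.leaf) 34843 6
 Tr.leaf) 34847 6
 (Tr.node Tr.leaf 34849 6
 Tr.leaf)))) 34850 4
 (Tr.node (Tr.node (Tr.node (Tr.node (Tr.node Tr.leaf 34853 6
 Tr.leaf) 34854 4
 Tr.leaf) 34859 6
 (Tr.node (Tr.node Tr.leaf 34863 4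
 Tr.leaf) 34867 6
 Tr.leaf)) 34871 4
 (Tr.node (Tr.node (Tr.node Tr.leaf 34873 4
 Tr.leaf) 34874 6
 Tr.leaf) 34877 4
 (Tr.node Tr.leaf 34878 4
 Tr.leaf))) 34883 4
 (Tr.node (Tr.node (Tr.node (Tr.node Tr.leaf 34887 3
 Tr.leaf) 34889 3
 Tr.leaf) 34890 3
 (Tr.node Tr.leaf 34893 3
 Tr.leaf)) 34894 3
 (Tr.node (Tr.node (Tr.node Tr.leaf 34897 4
 Tr.leaf) 34898 4
 Tr.leaf) 34901 4
 (Tr.node Tr.leaf 34902 5
 Tr.leaf)))))) 34907 6
 (Tr.node (Tr.node (Tr.node (Tr.node (Tr.node (Tr.node (Tr.node Tr.leaf 34911 6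
 Tr.leaf) 34913 6
 Tr.leaf) 34914 4
 (Tr.node (Tr.node Tr.leaf 34917 5
 Tr.leaf) 34918 4
 Tr.leaf)) 34923 6
 (Tr.node (Tr.node (Tr.node Tr.leaf 34927 6
 Tr.leaf) 34931 6
 Tr.leaf) 34935 4
 (Tr.node Tr.leaf 34937 6
 Tr.leaf))) 34938 5
 (Tr.node (Tr.node (Tr.node (Tr.node Tr.leaf 34941 6
 Tr.leaf) 34942 5
 Tr.leaf) 34945 5
 (Tr.node (Tr.node Tr.leaf 34946 6
 Tr.leaf) 34949 6
 Tr.leaf)) 34950 6
 (Tr.node (Tr.node (Tr.node Tr.leaf 34955 6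
 Tr.leaf) 34959 4
 Tr.leaf) 34963 6
 (Tr.node Tr.leaf 34967 4
 Tr.leaf)))) 34969 5
 (Tr.node (Tr.node (Tr.node (Tr.node (Tr.node Tr.leaf 34970 5
 Tr.leaf) 34973 4
 Tr.leaf) 34974 4
 (Tr.node (Tr.node Tr.leaf 34979 5
 Tr.leaf) 34983 5
 Tr.leaf)) 34985 4
 (Tr.node (Tr.node (Tr.node Tr.leaf 34986 6
 Tr.leaf) 34989 5
 Tr.leaf) 34990 5
 (Tr.node Tr.leaf 34993 5
 Tr.leaf))) 34994 5
 (Tr.node (Tr.node (Tr.node (Tr.node Tr.leaf 34997 7
 Tr.leaf) 34998 5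
 Tr.leaf) 35003 6
 (Tr.node Tr.leaf 35007 5
 Tr.leaf)) 35009 6
 (Tr.node (Tr.node (Tr.node Tr.leaf 35010 6
 Tr.leaf) 35013 6
 Tr.leaf) 35014 6
 (Tr.node Tr.leaf 35019 6
 Tr.leaf))))) 35023 6
 (Tr.node (Tr.node (Tr.node (Tr.node (Tr.node (Tr.node Tr.leaf 35027 6
 Tr.leaf) 35031 5
 Tr.leaf) 35033 6
 (Tr.node (Tr.node Tr.leaf 35034 5
 Tr.leaf) 35037 6
 Tr.leaf)) 35038 6
 (Tr.node (Tr.node (Tr.node Tr.leaf 35043 4
 Tr.leaf) 35047 4
 Tr.leaf) 35049 4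
 (Tr.node Tr.leaf 35050 5
 Tr.leaf))) 35053 5
 (Tr.node (Tr.node (Tr.node (Tr.node Tr.leaf 35054 6
 Tr.leaf) 35057 6
 Tr.leaf) 35058 5
 (Tr.node Tr.leaf 35061 5
 Tr.leaf)) 35062 5
 (Tr.node (Tr.node (Tr.node Tr.leaf 35067 5
 Tr.leaf) 35071 6
 Tr.leaf) 35073 5
 (Tr.node Tr.leaf 35074 6
 Tr.leaf)))) 35077 3
 (Tr.node (Tr.node (Tr.node (Tr.node (Tr.node Tr.leaf 35078 6
 Tr.leaf) 35083 6
 Tr.leaf) 35087 6
 (Tr.node (Tr.node Tr.leaf 35091 5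
 Tr.leaf) 35095 6
 Tr.leaf)) 35097 4
 (Tr.node (Tr.node (Tr.node Tr.leaf 35098 6
 Tr.leaf) 35101 6
 Tr.leaf) 35102 5
 (Tr.node Tr.leaf 35107 5
 Tr.leaf))) 35111 6
 (Tr.node (Tr.node (Tr.node (Tr.node Tr.leaf 35113 6
 Tr.leaf) 35114 6
 Tr.leaf) 35117 5
 (Tr.node Tr.leaf 35118 5
 Tr.leaf)) 35121 4
 (Tr.node (Tr.node (Tr.node Tr.leaf 35122 6
 Tr.leaf) 35125 5
 Tr.leaf) 35126 5
 (Tr.node Tr.leaf 35131 6
 Tr.leaf))))))) 35135 6
 (Tr.node (Tr.node (Tr.node (Tr.node (Tr.node (Tr.node (Tr.node (Tr.node Tr.leaf 35137 3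
 Tr.leaf) 35138 6
 Tr.leaf) 35141 5
 (Tr.node (Tr.node Tr.leaf 35142 5
 Tr.leaf) 35147 6
 Tr.leaf)) 35151 6
 (Tr.node (Tr.node (Tr.node Tr.leaf 35155 6
 Tr.leaf) 35159 4
 Tr.leaf) 35161 6
 (Tr.node Tr.leaf 35162 5
 Tr.leaf))) 35165 5
 (Tr.node (Tr.node (Tr.node (Tr.node Tr.leaf 35166 6
 Tr.leaf) 35171 5
 Tr.leaf) 35175 7
 (Tr.node (Tr.node Tr.leaf 35177 5
 Tr.leaf) 35178 4
 Tr.leaf)) 35181 5
 (Tr.node (Tr.node (Tr.node Tr.leaf 35182 5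
 Tr.leaf) 35185 6
 Tr.leaf) 35186 5
 (Tr.node Tr.leaf 35189 6
 Tr.leaf)))) 35190 6
 (Tr.node (Tr.node (Tr.node (Tr.node (Tr.node Tr.leaf 35195 6
 Tr.leaf) 35199 6
 Tr.leaf) 35203 5
 (Tr.node (Tr.node Tr.leaf 35207 5
 Tr.leaf) 35209 6
 Tr.leaf)) 35210 5
 (Tr.node (Tr.node (Tr.node Tr.leaf 35213 6
 Tr.leaf) 35214 5
 Tr.leaf) 35217 6
 (Tr.node Tr.leaf 35218 5
 Tr.leaf))) 35221 5
 (Tr.node (Tr.node (Tr.node (Tr.node Tr.leaf 35222 6
 Tr.leaf) 35227 6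
 Tr.leaf) 35231 6
 (Tr.node Tr.leaf 35233 6
 Tr.leaf)) 35234 4
 (Tr.node (Tr.node (Tr.node Tr.leaf 35237 6
 Tr.leaf) 35238 6
 Tr.leaf) 35243 6
 (Tr.node Tr.leaf 35247 4
 Tr.leaf))))) 35251 6
 (Tr.node (Tr.node (Tr.node (Tr.node (Tr.node (Tr.node Tr.leaf 35255 6
 Tr.leaf) 35257 6
 Tr.leaf) 35258 6
 (Tr.node (Tr.node Tr.leaf 35261 6
 Tr.leaf) 35262 6
 Tr.leaf)) 35267 5
 (Tr.node (Tr.node (Tr.node Tr.leaf 35271 6
 Tr.leaf) 35273 5
 Tr.leaf) 35274 5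
 (Tr.node Tr.leaf 35277 5
 Tr.leaf))) 35278 6
 (Tr.node (Tr.node (Tr.node (Tr.node Tr.leaf 35281 6
 Tr.leaf) 35282 6
 Tr.leaf) 35285 5
 (Tr.node Tr.leaf 35286 5
 Tr.leaf)) 35291 6
 (Tr.node (Tr.node (Tr.node Tr.leaf 35295 6
 Tr.leaf) 35297 6
 Tr.leaf) 35298 6
 (Tr.node Tr.leaf 35301 6
 Tr.leaf)))) 35302 5
 (Tr.node (Tr.node (Tr.node (Tr.node (Tr.node Tr.leaf 35307 4
 Tr.leaf) 35311 6
 Tr.leaf) 35315 6
 (Tr.node (Tr.node Tr.leaf 35319 6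
 Tr.leaf) 35321 6
 Tr.leaf)) 35322 5
 (Tr.node (Tr.node (Tr.node Tr.leaf 35325 6
 Tr.leaf) 35326 6
 Tr.leaf) 35841 3
 (Tr.node Tr.leaf 35843 3
 Tr.leaf))) 35845 3
 (Tr.node (Tr.node (Tr.node (Tr.node Tr.leaf 35847 4
 Tr.leaf) 35865 6
 Tr.leaf) 35867 4
 (Tr.node Tr.leaf 35869 4
 Tr.leaf)) 35871 6
 (Tr.node (Tr.node (Tr.node Tr.leaf 35881 4
 Tr.leaf) 35883 6
 Tr.leaf) 35885 6
 (Tr.node Tr.leaf 35887 6
 Tr.leaf)))))) 35889 6
 (Tr.node (Tr.node (Tr.node (Tr.node (Tr.node (Tr.node (Tr.node Tr.leaf 35891 4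
 Tr.leaf) 35893 6
 Tr.leaf) 35895 6
 (Tr.node (Tr.node Tr.leaf 35905 3
 Tr.leaf) 35907 3
 Tr.leaf)) 35909 3
 (Tr.node (Tr.node (Tr.node Tr.leaf 35911 3
 Tr.leaf) 35929 6
 Tr.leaf) 35931 7
 (Tr.node Tr.leaf 35933 6
 Tr.leaf))) 35935 4
 (Tr.node (Tr.node (Tr.node (Tr.node Tr.leaf 35945 6
 Tr.leaf) 35947 4
 Tr.leaf) 35949 4
 (Tr.node (Tr.node Tr.leaf 35951 6
 Tr.leaf) 35953 6
 Tr.leaf)) 35955 4
 (Tr.node (Tr.node (Tr.node Tr.leaf 35957 6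
 Tr.leaf) 35959 6
 Tr.leaf) 35977 5
 (Tr.node Tr.leaf 35979 6
 Tr.leaf)))) 35981 6
 (Tr.node (Tr.node (Tr.node (Tr.node (Tr.node Tr.leaf 35983 5
 Tr.leaf) 35985 6
 Tr.leaf) 35987 6
 (Tr.node (Tr.node Tr.leaf 35989 4
 Tr.leaf) 35991 6
 Tr.leaf)) 36001 5
 (Tr.node (Tr.node (Tr.node Tr.leaf 36003 5
 Tr.leaf) 36005 6
 Tr.leaf) 36007 7
 (Tr.node Tr.leaf 36025 6
 Tr.leaf))) 36027 6
 (Tr.node (Tr.node (Tr.node (Tr.node Tr.leaf 36029 6
 Tr.leaf) 36031 5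
 Tr.leaf) 36041 6
 (Tr.node Tr.leaf 36043 4
 Tr.leaf)) 36045 5
 (Tr.node (Tr.node (Tr.node Tr.leaf 36047 6
 Tr.leaf) 36049 5
 Tr.leaf) 36051 6
 (Tr.node Tr.leaf 36053 5
 Tr.leaf))))) 36055 4
 (Tr.node (Tr.node (Tr.node (Tr.node (Tr.node (Tr.node Tr.leaf 36065 6
 Tr.leaf) 36067 6
 Tr.leaf) 36069 5
 (Tr.node (Tr.node Tr.leaf 36071 5
 Tr.leaf) 36089 5
 Tr.leaf)) 36091 6
 (Tr.node (Tr.node (Tr.node Tr.leaf 36093 6
 Tr.leaf) 36095 5
 Tr.leaf) 36105 6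
 (Tr.node Tr.leaf 36107 4
 Tr.leaf))) 36109 5
 (Tr.node (Tr.node (Tr.node (Tr.node Tr.leaf 36111 6
 Tr.leaf) 36113 5
 Tr.leaf) 36115 6
 (Tr.node Tr.leaf 36117 5
 Tr.leaf)) 36119 7
 (Tr.node (Tr.node (Tr.node Tr.leaf 36129 4
 Tr.leaf) 36131 6
 Tr.leaf) 36133 5
 (Tr.node Tr.leaf 36135 5
 Tr.leaf)))) 36153 5
 (Tr.node (Tr.node (Tr.node (Tr.node (Tr.node Tr.leaf 36155 6
 Tr.leaf) 36157 6
 Tr.leaf) 36159 5
 (Tr.node (Tr.node Tr.leaf 36169 5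
 Tr.leaf) 36171 6
 Tr.leaf)) 36173 6
 (Tr.node (Tr.node (Tr.node Tr.leaf 36175 4
 Tr.leaf) 36177 7
 Tr.leaf) 36179 5
 (Tr.node Tr.leaf 36181 6
 Tr.leaf))) 36183 4
 (Tr.node (Tr.node (Tr.node (Tr.node Tr.leaf 36193 6
 Tr.leaf) 36195 6
 Tr.leaf) 36197 5
 (Tr.node Tr.leaf 36199 6
 Tr.leaf)) 36217 5
 (Tr.node (Tr.node (Tr.node Tr.leaf 36219 6
 Tr.leaf) 36221 6
 Tr.leaf) 36223 6
 (Tr.node Tr.leaf 36225 5
 Tr.leaf)))))))))

/-- A subtree. -/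
def tr2_s9 : Tr := (Tr.node (Tr.node (Tr.node (Tr.node (Tr.node (Tr.node (Tr.node (Tr.node (Tr.node (Tr.node Tr.leaf 36229 6
 Tr.leaf) 36231 6
 Tr.leaf) 36249 6
 (Tr.node (Tr.node Tr.leaf 36251 6
 Tr.leaf) 36253 5
 Tr.leaf)) 36255 5
 (Tr.node (Tr.node (Tr.node Tr.leaf 36265 6
 Tr.leaf) 36267 5
 Tr.leaf) 36269 5
 (Tr.node Tr.leaf 36271 5
 Tr.leaf))) 36273 6
 (Tr.node (Tr.node (Tr.node (Tr.node Tr.leaf 36275 6
 Tr.leaf) 36277 6
 Tr.leaf) 36279 6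
 (Tr.node (Tr.node Tr.leaf 36289 5
 Tr.leaf) 36291 6
 Tr.leaf)) 36293 6
 (Tr.node (Tr.node (Tr.node Tr.leaf 36295 5
 Tr.leaf) 36313 5
 Tr.leaf) 36315 5
 (Tr.node Tr.leaf 36317 5
 Tr.leaf)))) 36319 6
 (Tr.node (Tr.node (Tr.node (Tr.node (Tr.node Tr.leaf 36329 5
 Tr.leaf) 36331 6
 Tr.leaf) 36333 5
 (Tr.node (Tr.node Tr.leaf 36335 6
 Tr.leaf) 36337 6
 Tr.leaf)) 36339 6
 (Tr.node (Tr.node (Tr.node Tr.leaf 36341 6
 Tr.leaf) 36343 6
 Tr.leaf) 36867 3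
 (Tr.node Tr.leaf 36869 3
 Tr.leaf))) 36870 4
 (Tr.node (Tr.node (Tr.node (Tr.node Tr.leaf 36875 3
 Tr.leaf) 36877 3
 Tr.leaf) 36878 2
 (Tr.node Tr.leaf 36881 4
 Tr.leaf)) 36882 5
 (Tr.node (Tr.node (Tr.node Tr.leaf 36884 4
 Tr.leaf) 36887 6
 Tr.leaf) 36889 4
 (Tr.node Tr.leaf 36890 6
 Tr.leaf))))) 36892 4
 (Tr.node (Tr.node (Tr.node (Tr.node (Tr.node (Tr.node Tr.leaf 36895 6
 Tr.leaf) 36897 4
 Tr.leaf) 36898 4
 (Tr.node (Tr.node Tr.leaf 36900 6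
 Tr.leaf) 36903 4
 Tr.leaf)) 36905 4
 (Tr.node (Tr.node (Tr.node Tr.leaf 36906 5
 Tr.leaf) 36908 6
 Tr.leaf) 36911 6
 (Tr.node Tr.leaf 36915 6
 Tr.leaf))) 36917 3
 (Tr.node (Tr.node (Tr.node (Tr.node Tr.leaf 36918 6
 Tr.leaf) 36923 5
 Tr.leaf) 36925 5
 (Tr.node (Tr.node Tr.leaf 36926 5
 Tr.leaf) 36931 3
 Tr.leaf)) 36933 3
 (Tr.node (Tr.node (Tr.node Tr.leaf 36934 2
 Tr.leaf) 36939 4
 Tr.leaf) 36941 4
 (Tr.node Tr.leaf 36942 4
 Tr.leaf)))) 36945 4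
 (Tr.node (Tr.node (Tr.node (Tr.node (Tr.node Tr.leaf 36946 6
 Tr.leaf) 36948 4
 Tr.leaf) 36951 6
 (Tr.node (Tr.node Tr.leaf 36953 5
 Tr.leaf) 36954 6
 Tr.leaf)) 36956 4
 (Tr.node (Tr.node (Tr.node Tr.leaf 36959 4
 Tr.leaf) 36961 4
 Tr.leaf) 36962 4
 (Tr.node Tr.leaf 36964 6
 Tr.leaf))) 36967 6
 (Tr.node (Tr.node (Tr.node (Tr.node Tr.leaf 36969 5
 Tr.leaf) 36970 4
 Tr.leaf) 36972 5
 (Tr.node Tr.leaf 36975 6
 Tr.leaf)) 36979 4
 (Tr.node (Tr.node (Tr.node Tr.leaf 36981 5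
 Tr.leaf) 36982 5
 Tr.leaf) 36987 3
 (Tr.node Tr.leaf 36989 6
 Tr.leaf)))))) 36990 6
 (Tr.node (Tr.node (Tr.node (Tr.node (Tr.node (Tr.node (Tr.node Tr.leaf 36993 4
 Tr.leaf) 36994 6
 Tr.leaf) 36996 4
 (Tr.node (Tr.node Tr.leaf 36999 4
 Tr.leaf) 37001 4
 Tr.leaf)) 37002 6
 (Tr.node (Tr.node (Tr.node Tr.leaf 37004 4
 Tr.leaf) 37007 6
 Tr.leaf) 37011 6
 (Tr.node Tr.leaf 37013 5
 Tr.leaf))) 37014 7
 (Tr.node (Tr.node (Tr.node (Tr.node Tr.leaf 37019 7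
 Tr.leaf) 37021 7
 Tr.leaf) 37022 6
 (Tr.node (Tr.node Tr.leaf 37027 3
 Tr.leaf) 37029 3
 Tr.leaf)) 37030 6
 (Tr.node (Tr.node (Tr.node Tr.leaf 37035 6
 Tr.leaf) 37037 6
 Tr.leaf) 37038 6
 (Tr.node Tr.leaf 37041 4
 Tr.leaf)))) 37042 5
 (Tr.node (Tr.node (Tr.node (Tr.node (Tr.node Tr.leaf 37044 4
 Tr.leaf) 37047 5
 Tr.leaf) 37049 6
 (Tr.node (Tr.node Tr.leaf 37050 6
 Tr.leaf) 37052 5
 Tr.leaf)) 37055 5
 (Tr.node (Tr.node (Tr.node Tr.leaf 37057 4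
 Tr.leaf) 37058 6
 Tr.leaf) 37060 5
 (Tr.node Tr.leaf 37063 6
 Tr.leaf))) 37065 5
 (Tr.node (Tr.node (Tr.node (Tr.node Tr.leaf 37066 5
 Tr.leaf) 37068 4
 Tr.leaf) 37071 6
 (Tr.node Tr.leaf 37075 6
 Tr.leaf)) 37077 6
 (Tr.node (Tr.node (Tr.node Tr.leaf 37078 5
 Tr.leaf) 37083 6
 Tr.leaf) 37085 5
 (Tr.node Tr.leaf 37086 6
 Tr.leaf))))) 37091 6
 (Tr.node (Tr.node (Tr.node (Tr.node (Tr.node (Tr.node Tr.leaf 37093 6
 Tr.leaf) 37094 6
 Tr.leaf) 37099 6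
 (Tr.node (Tr.node Tr.leaf 37101 6
 Tr.leaf) 37102 6
 Tr.leaf)) 37105 6
 (Tr.node (Tr.node (Tr.node Tr.leaf 37106 6
 Tr.leaf) 37108 5
 Tr.leaf) 37111 5
 (Tr.node Tr.leaf 37113 5
 Tr.leaf))) 37114 5
 (Tr.node (Tr.node (Tr.node (Tr.node Tr.leaf 37116 6
 Tr.leaf) 37119 6
 Tr.leaf) 37121 4
 (Tr.node Tr.leaf 37122 4
 Tr.leaf)) 37124 5
 (Tr.node (Tr.node (Tr.node Tr.leaf 37127 6
 Tr.leaf) 37129 4
 Tr.leaf) 37130 4
 (Tr.node Tr.leaf 37132 6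
 Tr.leaf)))) 37135 6
 (Tr.node (Tr.node (Tr.node (Tr.node (Tr.node Tr.leaf 37139 6
 Tr.leaf) 37141 6
 Tr.leaf) 37142 6
 (Tr.node (Tr.node Tr.leaf 37147 6
 Tr.leaf) 37149 6
 Tr.leaf)) 37150 6
 (Tr.node (Tr.node (Tr.node Tr.leaf 37155 5
 Tr.leaf) 37157 6
 Tr.leaf) 37158 7
 (Tr.node Tr.leaf 37163 6
 Tr.leaf))) 37165 6
 (Tr.node (Tr.node (Tr.node (Tr.node Tr.leaf 37166 5
 Tr.leaf) 37169 5
 Tr.leaf) 37170 5
 (Tr.node Tr.leaf 37172 5
 Tr.leaf)) 37175 6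
 (Tr.node (Tr.node (Tr.node Tr.leaf 37177 6
 Tr.leaf) 37178 5
 Tr.leaf) 37180 6
 (Tr.node Tr.leaf 37183 5
 Tr.leaf))))))) 37185 4
 (Tr.node (Tr.node (Tr.node (Tr.node (Tr.node (Tr.node (Tr.node (Tr.node Tr.leaf 37186 4
 Tr.leaf) 37188 6
 Tr.leaf) 37191 6
 (Tr.node (Tr.node Tr.leaf 37193 5
 Tr.leaf) 37194 4
 Tr.leaf)) 37196 6
 (Tr.node (Tr.node (Tr.node Tr.leaf 37199 4
 Tr.leaf) 37203 6
 Tr.leaf) 37205 6
 (Tr.node Tr.leaf 37206 6
 Tr.leaf))) 37211 3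
 (Tr.node (Tr.node (Tr.node (Tr.node Tr.leaf 37213 3
 Tr.leaf) 37214 6
 Tr.leaf) 37219 7
 (Tr.node (Tr.node Tr.leaf 37221 7
 Tr.leaf) 37222 6
 Tr.leaf)) 37227 5
 (Tr.node (Tr.node (Tr.node Tr.leaf 37229 6
 Tr.leaf) 37230 6
 Tr.leaf) 37233 6
 (Tr.node Tr.leaf 37234 5
 Tr.leaf)))) 37236 6
 (Tr.node (Tr.node (Tr.node (Tr.node (Tr.node Tr.leaf 37239 5
 Tr.leaf) 37241 4
 Tr.leaf) 37242 4
 (Tr.node (Tr.node Tr.leaf 37244 5
 Tr.leaf) 37247 5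
 Tr.leaf)) 37251 3
 (Tr.node (Tr.node (Tr.node Tr.leaf 37253 6
 Tr.leaf) 37254 6
 Tr.leaf) 37259 5
 (Tr.node Tr.leaf 37261 4
 Tr.leaf))) 37262 5
 (Tr.node (Tr.node (Tr.node (Tr.node Tr.leaf 37265 5
 Tr.leaf) 37266 5
 Tr.leaf) 37268 5
 (Tr.node Tr.leaf 37271 6
 Tr.leaf)) 37273 6
 (Tr.node (Tr.node (Tr.node Tr.leaf 37274 6
 Tr.leaf) 37276 5
 Tr.leaf) 37279 5
 (Tr.node Tr.leaf 37281 4
 Tr.leaf))))) 37282 4
 (Tr.node (Tr.node (Tr.node (Tr.node (Tr.node (Tr.node Tr.leaf 37284 5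
 Tr.leaf) 37287 5
 Tr.leaf) 37289 6
 (Tr.node (Tr.node Tr.leaf 37290 5
 Tr.leaf) 37292 6
 Tr.leaf)) 37295 5
 (Tr.node (Tr.node (Tr.node Tr.leaf 37299 6
 Tr.leaf) 37301 6
 Tr.leaf) 37302 6
 (Tr.node Tr.leaf 37307 6
 Tr.leaf))) 37309 6
 (Tr.node (Tr.node (Tr.node (Tr.node Tr.leaf 37310 6
 Tr.leaf) 37315 5
 Tr.leaf) 37317 5
 (Tr.node Tr.leaf 37318 5
 Tr.leaf)) 37323 6
 (Tr.node (Tr.node (Tr.node Tr.leaf 37325 3
 Tr.leaf) 37326 6
 Tr.leaf) 37329 6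
 (Tr.node Tr.leaf 37330 6
 Tr.leaf)))) 37332 5
 (Tr.node (Tr.node (Tr.node (Tr.node (Tr.node Tr.leaf 37335 5
 Tr.leaf) 37337 4
 Tr.leaf) 37338 5
 (Tr.node (Tr.node Tr.leaf 37340 4
 Tr.leaf) 37343 5
 Tr.leaf)) 37345 6
 (Tr.node (Tr.node (Tr.node Tr.leaf 37346 5
 Tr.leaf) 37348 6
 Tr.leaf) 37351 5
 (Tr.node Tr.leaf 37353 5
 Tr.leaf))) 37354 6
 (Tr.node (Tr.node (Tr.node (Tr.node Tr.leaf 37356 5
 Tr.leaf) 37359 6
 Tr.leaf) 37363 6
 (Tr.node Tr.leaf 37365 6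
 Tr.leaf)) 37366 6
 (Tr.node (Tr.node (Tr.node Tr.leaf 37371 6
 Tr.leaf) 37373 6
 Tr.leaf) 37374 6
 (Tr.node Tr.leaf 37889 3
 Tr.leaf)))))) 37891 3
 (Tr.node (Tr.node (Tr.node (Tr.node (Tr.node (Tr.node (Tr.node Tr.leaf 37897 3
 Tr.leaf) 37899 3
 Tr.leaf) 37909 5
 (Tr.node (Tr.node Tr.leaf 37911 6
 Tr.leaf) 37917 6
 Tr.leaf)) 37919 4
 (Tr.node (Tr.node (Tr.node Tr.leaf 37925 6
 Tr.leaf) 37927 6
 Tr.leaf) 37933 4
 (Tr.node Tr.leaf 37935 7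
 Tr.leaf))) 37937 6
 (Tr.node (Tr.node (Tr.node (Tr.node Tr.leaf 37939 5
 Tr.leaf) 37945 6
 Tr.leaf) 37947 6
 (Tr.node (Tr.node Tr.leaf 37953 3
 Tr.leaf) 37955 3
 Tr.leaf)) 37961 4
 (Tr.node (Tr.node (Tr.node Tr.leaf 37963 3
 Tr.leaf) 37973 6
 Tr.leaf) 37975 5
 (Tr.node Tr.leaf 37981 5
 Tr.leaf)))) 37983 6
 (Tr.node (Tr.node (Tr.node (Tr.node (Tr.node Tr.leaf 37989 4
 Tr.leaf) 37991 6
 Tr.leaf) 37997 6
 (Tr.node (Tr.node Tr.leaf 37999 4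
 Tr.leaf) 38001 4
 Tr.leaf)) 38003 5
 (Tr.node (Tr.node (Tr.node Tr.leaf 38009 6
 Tr.leaf) 38011 4
 Tr.leaf) 38021 6
 (Tr.node Tr.leaf 38023 5
 Tr.leaf))) 38029 4
 (Tr.node (Tr.node (Tr.node (Tr.node Tr.leaf 38031 6
 Tr.leaf) 38033 5
 Tr.leaf) 38035 5
 (Tr.node Tr.leaf 38041 6
 Tr.leaf)) 38043 6
 (Tr.node (Tr.node (Tr.node Tr.leaf 38049 5
 Tr.leaf) 38051 7
 Tr.leaf) 38057 6
 (Tr.node Tr.leaf 38059 5
 Tr.leaf))))) 38069 6
 (Tr.node (Tr.node (Tr.node (Tr.node (Tr.node (Tr.node Tr.leaf 38071 5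
 Tr.leaf) 38077 6
 Tr.leaf) 38079 5
 (Tr.node (Tr.node Tr.leaf 38085 5
 Tr.leaf) 38087 6
 Tr.leaf)) 38093 6
 (Tr.node (Tr.node (Tr.node Tr.leaf 38095 4
 Tr.leaf) 38097 6
 Tr.leaf) 38099 6
 (Tr.node Tr.leaf 38105 6
 Tr.leaf))) 38107 5
 (Tr.node (Tr.node (Tr.node (Tr.node Tr.leaf 38113 5
 Tr.leaf) 38115 6
 Tr.leaf) 38121 7
 (Tr.node Tr.leaf 38123 4
 Tr.leaf)) 38133 5
 (Tr.node (Tr.node (Tr.node Tr.leaf 38135 5
 Tr.leaf) 38141 5
 Tr.leaf) 38143 6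
 (Tr.node Tr.leaf 38149 4
 Tr.leaf)))) 38151 6
 (Tr.node (Tr.node (Tr.node (Tr.node (Tr.node Tr.leaf 38157 6
 Tr.leaf) 38159 4
 Tr.leaf) 38161 5
 (Tr.node (Tr.node Tr.leaf 38163 6
 Tr.leaf) 38169 5
 Tr.leaf)) 38171 6
 (Tr.node (Tr.node (Tr.node Tr.leaf 38177 6
 Tr.leaf) 38179 6
 Tr.leaf) 38185 4
 (Tr.node Tr.leaf 38187 4
 Tr.leaf))) 38197 6
 (Tr.node (Tr.node (Tr.node (Tr.node Tr.leaf 38199 5
 Tr.leaf) 38205 6
 Tr.leaf) 38207 6
 (Tr.node Tr.leaf 38213 6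
 Tr.leaf)) 38215 4
 (Tr.node (Tr.node (Tr.node Tr.leaf 38221 6
 Tr.leaf) 38223 6
 Tr.leaf) 38225 6
 (Tr.node Tr.leaf 38227 5
 Tr.leaf)))))))) 38233 7
 (Tr.node (Tr.node (Tr.node (Tr.node (Tr.node (Tr.node (Tr.node (Tr.node (Tr.node Tr.leaf 38235 5
 Tr.leaf) 38241 6
 Tr.leaf) 38243 6
 (Tr.node (Tr.node Tr.leaf 38249 6
 Tr.leaf) 38251 6
 Tr.leaf)) 38261 6
 (Tr.node (Tr.node (Tr.node Tr.leaf 38263 6
 Tr.leaf) 38269 5
 Tr.leaf) 38271 5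
 (Tr.node Tr.leaf 38273 4
 Tr.leaf))) 38275 6
 (Tr.node (Tr.node (Tr.node (Tr.node Tr.leaf 38281 6
 Tr.leaf) 38283 6
 Tr.leaf) 38293 6
 (Tr.node (Tr.node Tr.leaf 38295 5
 Tr.leaf) 38301 5
 Tr.leaf)) 38303 6
 (Tr.node (Tr.node (Tr.node Tr.leaf 38309 5
 Tr.leaf) 38311 5
 Tr.leaf) 38317 6
 (Tr.node Tr.leaf 38319 6
 Tr.leaf)))) 38321 6
 (Tr.node (Tr.node (Tr.node (Tr.node (Tr.node Tr.leaf 38323 6
 Tr.leaf) 38329 6
 Tr.leaf) 38331 6
 (Tr.node (Tr.node Tr.leaf 38337 5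
 Tr.leaf) 38339 5
 Tr.leaf)) 38345 5
 (Tr.node (Tr.node (Tr.node Tr.leaf 38347 6
 Tr.leaf) 38357 5
 Tr.leaf) 38359 5
 (Tr.node Tr.leaf 38365 5
 Tr.leaf))) 38367 6
 (Tr.node (Tr.node (Tr.node (Tr.node Tr.leaf 38373 6
 Tr.leaf) 38375 6
 Tr.leaf) 38381 5
 (Tr.node Tr.leaf 38383 6
 Tr.leaf)) 38385 6
 (Tr.node (Tr.node (Tr.node Tr.leaf 38387 6
 Tr.leaf) 38393 6
 Tr.leaf) 38395 6
 (Tr.node Tr.leaf 38913 3
 Tr.leaf))))) 38914 4
 (Tr.node (Tr.node (Tr.node (Tr.node (Tr.node (Tr.node Tr.leaf 38917 3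
 Tr.leaf) 38918 2
 Tr.leaf) 38921 3
 (Tr.node (Tr.node Tr.leaf 38922 3
 Tr.leaf) 38925 3
 Tr.leaf)) 38926 3
 (Tr.node (Tr.node (Tr.node Tr.leaf 38931 4
 Tr.leaf) 38935 6
 Tr.leaf) 38939 6
 (Tr.node Tr.leaf 38943 4
 Tr.leaf))) 38947 6
 (Tr.node (Tr.node (Tr.node (Tr.node Tr.leaf 38951 5
 Tr.leaf) 38955 5
 Tr.leaf) 38959 6
 (Tr.node Tr.leaf 38961 4
 Tr.leaf)) 38962 5
 (Tr.node (Tr.node (Tr.node Tr.leaf 38965 6
 Tr.leaf) 38966 4
 Tr.leaf) 38969 5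
 (Tr.node Tr.leaf 38970 5
 Tr.leaf)))) 38973 5
 (Tr.node (Tr.node (Tr.node (Tr.node (Tr.node Tr.leaf 38974 5
 Tr.leaf) 38977 3
 Tr.leaf) 38978 3
 (Tr.node (Tr.node Tr.leaf 38981 3
 Tr.leaf) 38982 3
 Tr.leaf)) 38985 4
 (Tr.node (Tr.node (Tr.node Tr.leaf 38986 2
 Tr.leaf) 38989 3
 Tr.leaf) 38990 4
 (Tr.node Tr.leaf 38995 6
 Tr.leaf))) 38999 4
 (Tr.node (Tr.node (Tr.node (Tr.node Tr.leaf 39003 6
 Tr.leaf) 39007 6
 Tr.leaf) 39011 4
 (Tr.node Tr.leaf 39015 6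
 Tr.leaf)) 39019 6
 (Tr.node (Tr.node (Tr.node Tr.leaf 39023 4
 Tr.leaf) 39025 6
 Tr.leaf) 39026 5
 (Tr.node Tr.leaf 39029 6
 Tr.leaf)))))) 39030 4
 (Tr.node (Tr.node (Tr.node (Tr.node (Tr.node (Tr.node (Tr.node Tr.leaf 39033 5
 Tr.leaf) 39034 5
 Tr.leaf) 39037 6
 (Tr.node (Tr.node Tr.leaf 39038 4
 Tr.leaf) 39043 6
 Tr.leaf)) 39047 6
 (Tr.node (Tr.node (Tr.node Tr.leaf 39051 4
 Tr.leaf) 39055 6
 Tr.leaf) 39057 6
 (Tr.node Tr.leaf 39058 6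
 Tr.leaf))) 39061 6
 (Tr.node (Tr.node (Tr.node (Tr.node Tr.leaf 39062 5
 Tr.leaf) 39065 6
 Tr.leaf) 39066 5
 (Tr.node (Tr.node Tr.leaf 39069 6
 Tr.leaf) 39070 5
 Tr.leaf)) 39073 5
 (Tr.node (Tr.node (Tr.node Tr.leaf 39074 6
 Tr.leaf) 39077 7
 Tr.leaf) 39078 6
 (Tr.node Tr.leaf 39081 5
 Tr.leaf)))) 39082 5
 (Tr.node (Tr.node (Tr.node (Tr.node (Tr.node Tr.leaf 39085 6
 Tr.leaf) 39086 5
 Tr.leaf) 39091 5
 (Tr.node (Tr.node Tr.leaf 39095 5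
 Tr.leaf) 39099 6
 Tr.leaf)) 39103 6
 (Tr.node (Tr.node (Tr.node Tr.leaf 39107 4
 Tr.leaf) 39111 7
 Tr.leaf) 39115 6
 (Tr.node Tr.leaf 39119 4
 Tr.leaf))) 39121 4
 (Tr.node (Tr.node (Tr.node (Tr.node Tr.leaf 39122 4
 Tr.leaf) 39125 4
 Tr.leaf) 39126 5
 (Tr.node Tr.leaf 39129 6
 Tr.leaf)) 39130 5
 (Tr.node (Tr.node (Tr.node Tr.leaf 39133 6
 Tr.leaf) 39134 7
 Tr.leaf) 39137 6
 (Tr.node Tr.leaf 39138 5
 Tr.leaf))))) 39141 5
 (Tr.node (Tr.node (Tr.node (Tr.node (Tr.node (Tr.node Tr.leaf 39142 6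
 Tr.leaf) 39145 7
 Tr.leaf) 39146 6
 (Tr.node (Tr.node Tr.leaf 39149 4
 Tr.leaf) 39150 6
 Tr.leaf)) 39155 6
 (Tr.node (Tr.node (Tr.node Tr.leaf 39159 6
 Tr.leaf) 39163 5
 Tr.leaf) 39167 6
 (Tr.node Tr.leaf 39171 5
 Tr.leaf))) 39175 6
 (Tr.node (Tr.node (Tr.node (Tr.node Tr.leaf 39179 6
 Tr.leaf) 39183 5
 Tr.leaf) 39185 5
 (Tr.node Tr.leaf 39186 6
 Tr.leaf)) 39189 6
 (Tr.node (Tr.node (Tr.node Tr.leaf 39190 6
 Tr.leaf) 39193 6
 Tr.leaf) 39194 5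
 (Tr.node Tr.leaf 39197 5
 Tr.leaf)))) 39198 5
 (Tr.node (Tr.node (Tr.node (Tr.node (Tr.node Tr.leaf 39201 5
 Tr.leaf) 39202 6
 Tr.leaf) 39205 5
 (Tr.node (Tr.node Tr.leaf 39206 5
 Tr.leaf) 39209 6
 Tr.leaf)) 39210 4
 (Tr.node (Tr.node (Tr.node Tr.leaf 39213 6
 Tr.leaf) 39214 4
 Tr.leaf) 39219 6
 (Tr.node Tr.leaf 39223 5
 Tr.leaf))) 39227 5
 (Tr.node (Tr.node (Tr.node (Tr.node Tr.leaf 39231 5
 Tr.leaf) 39235 6
 Tr.leaf) 39239 4
 (Tr.node Tr.leaf 39243 5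
 Tr.leaf)) 39247 6
 (Tr.node (Tr.node (Tr.node Tr.leaf 39249 5
 Tr.leaf) 39250 6
 Tr.leaf) 39253 6
 (Tr.node Tr.leaf 39254 5
 Tr.leaf))))))) 39257 7
 (Tr.node (Tr.node (Tr.node (Tr.node (Tr.node (Tr.node (Tr.node (Tr.node Tr.leaf 39258 6
 Tr.leaf) 39261 5
 Tr.leaf) 39262 6
 (Tr.node (Tr.node Tr.leaf 39265 6
 Tr.leaf) 39266 5
 Tr.leaf)) 39269 6
 (Tr.node (Tr.node (Tr.node Tr.leaf 39270 5
 Tr.leaf) 39273 6
 Tr.leaf) 39274 5
 (Tr.node Tr.leaf 39277 5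
 Tr.leaf))) 39278 6
 (Tr.node (Tr.node (Tr.node (Tr.node Tr.leaf 39283 5
 Tr.leaf) 39287 6
 Tr.leaf) 39291 5
 (Tr.node (Tr.node Tr.leaf 39295 6
 Tr.leaf) 39297 6
 Tr.leaf)) 39298 4
 (Tr.node (Tr.node (Tr.node Tr.leaf 39301 5
 Tr.leaf) 39302 5
 Tr.leaf) 39305 4
 (Tr.node Tr.leaf 39306 4
 Tr.leaf)))) 39309 5
 (Tr.node (Tr.node (Tr.node (Tr.node (Tr.node Tr.leaf 39310 5
 Tr.leaf) 39315 6
 Tr.leaf) 39319 5
 (Tr.node (Tr.node Tr.leaf 39323 6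
 Tr.leaf) 39327 6
 Tr.leaf)) 39331 6
 (Tr.node (Tr.node (Tr.node Tr.leaf 39335 5
 Tr.leaf) 39339 5
 Tr.leaf) 39343 5
 (Tr.node Tr.leaf 39345 6
 Tr.leaf))) 39346 6
 (Tr.node (Tr.node (Tr.node (Tr.node Tr.leaf 39349 6
 Tr.leaf) 39350 6
 Tr.leaf) 39353 6
 (Tr.node Tr.leaf 39354 6
 Tr.leaf)) 39357 6
 (Tr.node (Tr.node (Tr.node Tr.leaf 39358 6
 Tr.leaf) 39361 6
 Tr.leaf) 39362 4
 (Tr.node Tr.leaf 39365 6
 Tr.leaf))))) 39366 5
 (Tr.node (Tr.node (Tr.node (Tr.node (Tr.node (Tr.node Tr.leaf 39369 6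
 Tr.leaf) 39370 4
 Tr.leaf) 39373 4
 (Tr.node (Tr.node Tr.leaf 39374 5
 Tr.leaf) 39379 6
 Tr.leaf)) 39383 6
 (Tr.node (Tr.node (Tr.node Tr.leaf 39387 5
 Tr.leaf) 39391 5
 Tr.leaf) 39395 6
 (Tr.node Tr.leaf 39399 5
 Tr.leaf))) 39403 5
 (Tr.node (Tr.node (Tr.node (Tr.node Tr.leaf 39407 6
 Tr.leaf) 39409 6
 Tr.leaf) 39410 5
 (Tr.node Tr.leaf 39413 6
 Tr.leaf)) 39414 5
 (Tr.node (Tr.node (Tr.node Tr.leaf 39417 6
 Tr.leaf) 39418 6
 Tr.leaf) 39421 6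
 (Tr.node Tr.leaf 39422 6
 Tr.leaf)))) 39953 6
 (Tr.node (Tr.node (Tr.node (Tr.node (Tr.node Tr.leaf 39955 6
 Tr.leaf) 39957 6
 Tr.leaf) 39959 6
 (Tr.node (Tr.node Tr.leaf 39961 6
 Tr.leaf) 39963 6
 Tr.leaf)) 39965 6
 (Tr.node (Tr.node (Tr.node Tr.leaf 39967 6
 Tr.leaf) 39969 6
 Tr.leaf) 39971 4
 (Tr.node Tr.leaf 39973 6
 Tr.leaf))) 39975 6
 (Tr.node (Tr.node (Tr.node (Tr.node Tr.leaf 39977 6
 Tr.leaf) 39979 6
 Tr.leaf) 39981 6
 (Tr.node Tr.leaf 39983 5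
 Tr.leaf)) 40017 4
 (Tr.node (Tr.node (Tr.node Tr.leaf 40019 6
 Tr.leaf) 40021 6
 Tr.leaf) 40023 6
 (Tr.node Tr.leaf 40025 6
 Tr.leaf)))))) 40027 5
 (Tr.node (Tr.node (Tr.node (Tr.node (Tr.node (Tr.node (Tr.node Tr.leaf 40029 6
 Tr.leaf) 40031 6
 Tr.leaf) 40033 6
 (Tr.node (Tr.node Tr.leaf 40035 6
 Tr.leaf) 40037 6
 Tr.leaf)) 40039 6
 (Tr.node (Tr.node (Tr.node Tr.leaf 40041 6
 Tr.leaf) 40043 6
 Tr.leaf) 40045 6
 (Tr.node Tr.leaf 40047 6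
 Tr.leaf))) 40065 6
 (Tr.node (Tr.node (Tr.node (Tr.node Tr.leaf 40067 6
 Tr.leaf) 40069 4
 Tr.leaf) 40071 6
 (Tr.node (Tr.node Tr.leaf 40073 6
 Tr.leaf) 40075 6
 Tr.leaf)) 40077 6
 (Tr.node (Tr.node (Tr.node Tr.leaf 40079 6
 Tr.leaf) 40113 7
 Tr.leaf) 40115 6
 (Tr.node Tr.leaf 40117 6
 Tr.leaf)))) 40119 6
 (Tr.node (Tr.node (Tr.node (Tr.node (Tr.node Tr.leaf 40121 6
 Tr.leaf) 40123 6
 Tr.leaf) 40125 6
 (Tr.node (Tr.node Tr.leaf 40127 6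
 Tr.leaf) 40129 6
 Tr.leaf)) 40131 6
 (Tr.node (Tr.node (Tr.node Tr.leaf 40133 6
 Tr.leaf) 40135 5
 Tr.leaf) 40137 6
 (Tr.node Tr.leaf 40139 6
 Tr.leaf))) 40141 6
 (Tr.node (Tr.node (Tr.node (Tr.node Tr.leaf 40143 6
 Tr.leaf) 40177 5
 Tr.leaf) 40179 6
 (Tr.node Tr.leaf 40181 6
 Tr.leaf)) 40183 6
 (Tr.node (Tr.node (Tr.node Tr.leaf 40185 6
 Tr.leaf) 40187 5
 Tr.leaf) 40189 6
 (Tr.node Tr.leaf 40191 6
 Tr.leaf))))) 40193 6
 (Tr.node (Tr.node (Tr.node (Tr.node (Tr.node (Tr.node Tr.leaf 40195 6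
 Tr.leaf) 40197 6
 Tr.leaf) 40199 6
 (Tr.node (Tr.node Tr.leaf 40201 4
 Tr.leaf) 40203 6
 Tr.leaf)) 40205 6
 (Tr.node (Tr.node (Tr.node Tr.leaf 40207 6
 Tr.leaf) 40241 7
 Tr.leaf) 40243 5
 (Tr.node Tr.leaf 40245 6
 Tr.leaf))) 40247 6
 (Tr.node (Tr.node (Tr.node (Tr.node Tr.leaf 40249 6
 Tr.leaf) 40251 6
 Tr.leaf) 40253 6
 (Tr.node Tr.leaf 40255 5
 Tr.leaf)) 40257 6
 (Tr.node (Tr.node (Tr.node Tr.leaf 40259 6
 Tr.leaf) 40261 6
 Tr.leaf) 40263 6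
 (Tr.node Tr.leaf 40265 6
 Tr.leaf)))) 40267 6
 (Tr.node (Tr.node (Tr.node (Tr.node (Tr.node Tr.leaf 40269 5
 Tr.leaf) 40271 6
 Tr.leaf) 40305 6
 (Tr.node (Tr.node Tr.leaf 40307 6
 Tr.leaf) 40309 6
 Tr.leaf)) 40311 6
 (Tr.node (Tr.node (Tr.node Tr.leaf 40313 6
 Tr.leaf) 40315 6
 Tr.leaf) 40317 6
 (Tr.node Tr.leaf 40319 6
 Tr.leaf))) 40337 7
 (Tr.node (Tr.node (Tr.node (Tr.node Tr.leaf 40339 6
 Tr.leaf) 40341 5
 Tr.leaf) 40343 6
 (Tr.node Tr.leaf 40345 6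
 Tr.leaf)) 40347 6
 (Tr.node (Tr.node (Tr.node Tr.leaf 40349 6
 Tr.leaf) 40351 6
 Tr.leaf) 40353 7
 (Tr.node Tr.leaf 40355 6
 Tr.leaf)))))))))

/-- A subtree. -/
def tr2_s10 : Tr := (Tr.node (Tr.node (Tr.node (Tr.node (Tr.node (Tr.node (Tr.node (Tr.node (Tr.node (Tr.node Tr.leaf 40359 6
 Tr.leaf) 40361 5
 Tr.leaf) 40363 6
 (Tr.node (Tr.node Tr.leaf 40365 6
 Tr.leaf) 40367 6
 Tr.leaf)) 40401 6
 (Tr.node (Tr.node (Tr.node Tr.leaf 40403 6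
 Tr.leaf) 40405 6
 Tr.leaf) 40407 5
 (Tr.node Tr.leaf 40409 6
 Tr.leaf))) 40411 6
 (Tr.node (Tr.node (Tr.node (Tr.node Tr.leaf 40413 6
 Tr.leaf) 40415 6
 Tr.leaf) 40417 6
 (Tr.node (Tr.node Tr.leaf 40419 6
 Tr.leaf) 40421 6
 Tr.leaf)) 40423 6
 (Tr.node (Tr.node (Tr.node Tr.leaf 40425 6
 Tr.leaf) 40427 6
 Tr.leaf) 40429 5
 (Tr.node Tr.leaf 40431 6
 Tr.leaf)))) 40963 6
 (Tr.node (Tr.node (Tr.node (Tr.node (Tr.node Tr.leaf 40965 5
 Tr.leaf) 40966 4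
 Tr.leaf) 40969 4
 (Tr.node (Tr.node Tr.leaf 40970 6
 Tr.leaf) 40972 4
 Tr.leaf)) 40975 4
 (Tr.node (Tr.node (Tr.node Tr.leaf 40979 6
 Tr.leaf) 40981 4
 Tr.leaf) 40982 4
 (Tr.node Tr.leaf 40985 5
 Tr.leaf))) 40986 6
 (Tr.node (Tr.node (Tr.node (Tr.node Tr.leaf 40988 5
 Tr.leaf) 40991 4
 Tr.leaf) 40993 4
 (Tr.node Tr.leaf 40994 4
 Tr.leaf)) 40996 4
 (Tr.node (Tr.node (Tr.node Tr.leaf 40999 7
 Tr.leaf) 41000 4
 Tr.leaf) 41003 6
 (Tr.node Tr.leaf 41005 6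
 Tr.leaf))))) 41006 6
 (Tr.node (Tr.node (Tr.node (Tr.node (Tr.node (Tr.node Tr.leaf 41009 4
 Tr.leaf) 41010 4
 Tr.leaf) 41012 4
 (Tr.node (Tr.node Tr.leaf 41015 3
 Tr.leaf) 41016 4
 Tr.leaf)) 41019 3
 (Tr.node (Tr.node (Tr.node Tr.leaf 41021 6
 Tr.leaf) 41022 4
 Tr.leaf) 41027 6
 (Tr.node Tr.leaf 41029 4
 Tr.leaf))) 41030 4
 (Tr.node (Tr.node (Tr.node (Tr.node Tr.leaf 41033 4
 Tr.leaf) 41034 5
 Tr.leaf) 41036 5
 (Tr.node (Tr.node Tr.leaf 41039 7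
 Tr.leaf) 41043 6
 Tr.leaf)) 41045 4
 (Tr.node (Tr.node (Tr.node Tr.leaf 41046 4
 Tr.leaf) 41049 4
 Tr.leaf) 41050 5
 (Tr.node Tr.leaf 41052 4
 Tr.leaf)))) 41055 6
 (Tr.node (Tr.node (Tr.node (Tr.node (Tr.node Tr.leaf 41057 4
 Tr.leaf) 41058 4
 Tr.leaf) 41060 4
 (Tr.node (Tr.node Tr.leaf 41063 6
 Tr.leaf) 41064 5
 Tr.leaf)) 41067 6
 (Tr.node (Tr.node (Tr.node Tr.leaf 41069 6
 Tr.leaf) 41070 6
 Tr.leaf) 41073 4
 (Tr.node Tr.leaf 41074 4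
 Tr.leaf))) 41076 5
 (Tr.node (Tr.node (Tr.node (Tr.node Tr.leaf 41079 6
 Tr.leaf) 41080 4
 Tr.leaf) 41083 6
 (Tr.node Tr.leaf 41085 6
 Tr.leaf)) 41086 4
 (Tr.node (Tr.node (Tr.node Tr.leaf 41089 6
 Tr.leaf) 41090 4
 Tr.leaf) 41092 4
 (Tr.node Tr.leaf 41095 4
 Tr.leaf)))))) 41096 4
 (Tr.node (Tr.node (Tr.node (Tr.node (Tr.node (Tr.node (Tr.node Tr.leaf 41099 6
 Tr.leaf) 41101 6
 Tr.leaf) 41102 6
 (Tr.node (Tr.node Tr.leaf 41105 6
 Tr.leaf) 41106 4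
 Tr.leaf)) 41108 4
 (Tr.node (Tr.node (Tr.node Tr.leaf 41111 6
 Tr.leaf) 41112 5
 Tr.leaf) 41115 6
 (Tr.node Tr.leaf 41117 6
 Tr.leaf))) 41118 6
 (Tr.node (Tr.node (Tr.node (Tr.node Tr.leaf 41123 6
 Tr.leaf) 41125 6
 Tr.leaf) 41126 6
 (Tr.node (Tr.node Tr.leaf 41129 6
 Tr.leaf) 41130 5
 Tr.leaf)) 41132 6
 (Tr.node (Tr.node (Tr.node Tr.leaf 41135 6
 Tr.leaf) 41139 4
 Tr.leaf) 41141 6
 (Tr.node Tr.leaf 41142 6
 Tr.leaf)))) 41145 5
 (Tr.node (Tr.node (Tr.node (Tr.node (Tr.node Tr.leaf 41146 3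
 Tr.leaf) 41148 4
 Tr.leaf) 41151 6
 (Tr.node (Tr.node Tr.leaf 41153 6
 Tr.leaf) 41154 4
 Tr.leaf)) 41156 5
 (Tr.node (Tr.node (Tr.node Tr.leaf 41159 4
 Tr.leaf) 41160 4
 Tr.leaf) 41163 6
 (Tr.node Tr.leaf 41165 6
 Tr.leaf))) 41166 6
 (Tr.node (Tr.node (Tr.node (Tr.node Tr.leaf 41169 6
 Tr.leaf) 41170 5
 Tr.leaf) 41172 4
 (Tr.node Tr.leaf 41175 6
 Tr.leaf)) 41176 4
 (Tr.node (Tr.node (Tr.node Tr.leaf 41179 6
 Tr.leaf) 41181 4
 Tr.leaf) 41182 4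
 (Tr.node Tr.leaf 41187 6
 Tr.leaf))))) 41189 6
 (Tr.node (Tr.node (Tr.node (Tr.node (Tr.node (Tr.node Tr.leaf 41190 6
 Tr.leaf) 41193 5
 Tr.leaf) 41194 3
 (Tr.node (Tr.node Tr.leaf 41196 5
 Tr.leaf) 41199 5
 Tr.leaf)) 41203 6
 (Tr.node (Tr.node (Tr.node Tr.leaf 41205 6
 Tr.leaf) 41206 6
 Tr.leaf) 41209 6
 (Tr.node Tr.leaf 41210 4
 Tr.leaf))) 41212 6
 (Tr.node (Tr.node (Tr.node (Tr.node Tr.leaf 41215 6
 Tr.leaf) 41217 4
 Tr.leaf) 41218 4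
 (Tr.node Tr.leaf 41220 5
 Tr.leaf)) 41223 5
 (Tr.node (Tr.node (Tr.node Tr.leaf 41224 7
 Tr.leaf) 41227 4
 Tr.leaf) 41229 6
 (Tr.node Tr.leaf 41230 6
 Tr.leaf)))) 41233 5
 (Tr.node (Tr.node (Tr.node (Tr.node (Tr.node Tr.leaf 41234 5
 Tr.leaf) 41236 4
 Tr.leaf) 41239 5
 (Tr.node (Tr.node Tr.leaf 41240 6
 Tr.leaf) 41243 6
 Tr.leaf)) 41245 6
 (Tr.node (Tr.node (Tr.node Tr.leaf 41246 6
 Tr.leaf) 41251 5
 Tr.leaf) 41253 6
 (Tr.node Tr.leaf 41254 6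
 Tr.leaf))) 41257 7
 (Tr.node (Tr.node (Tr.node (Tr.node Tr.leaf 41258 6
 Tr.leaf) 41260 6
 Tr.leaf) 41263 5
 (Tr.node Tr.leaf 41267 6
 Tr.leaf)) 41269 6
 (Tr.node (Tr.node (Tr.node Tr.leaf 41270 6
 Tr.leaf) 41273 6
 Tr.leaf) 41274 6
 (Tr.node Tr.leaf 41276 6
 Tr.leaf))))))) 41279 6
 (Tr.node (Tr.node (Tr.node (Tr.node (Tr.node (Tr.node (Tr.node (Tr.node Tr.leaf 41281 4
 Tr.leaf) 41282 3
 Tr.leaf) 41284 4
 (Tr.node (Tr.node Tr.leaf 41287 6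
 Tr.leaf) 41288 6
 Tr.leaf)) 41291 6
 (Tr.node (Tr.node (Tr.node Tr.leaf 41293 5
 Tr.leaf) 41294 6
 Tr.leaf) 41297 5
 (Tr.node Tr.leaf 41298 5
 Tr.leaf))) 41300 4
 (Tr.node (Tr.node (Tr.node (Tr.node Tr.leaf 41303 5
 Tr.leaf) 41304 7
 Tr.leaf) 41307 5
 (Tr.node (Tr.node Tr.leaf 41309 5
 Tr.leaf) 41310 6
 Tr.leaf)) 41315 6
 (Tr.node (Tr.node (Tr.node Tr.leaf 41317 5
 Tr.leaf) 41318 5
 Tr.leaf) 41321 6
 (Tr.node Tr.leaf 41322 6
 Tr.leaf)))) 41324 6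
 (Tr.node (Tr.node (Tr.node (Tr.node (Tr.node Tr.leaf 41327 5
 Tr.leaf) 41331 6
 Tr.leaf) 41333 6
 (Tr.node (Tr.node Tr.leaf 41334 6
 Tr.leaf) 41337 6
 Tr.leaf)) 41338 6
 (Tr.node (Tr.node (Tr.node Tr.leaf 41340 5
 Tr.leaf) 41343 6
 Tr.leaf) 41347 6
 (Tr.node Tr.leaf 41349 4
 Tr.leaf))) 41350 3
 (Tr.node (Tr.node (Tr.node (Tr.node Tr.leaf 41353 7
 Tr.leaf) 41354 6
 Tr.leaf) 41356 6
 (Tr.node Tr.leaf 41359 6
 Tr.leaf)) 41363 4
 (Tr.node (Tr.node (Tr.node Tr.leaf 41365 4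
 Tr.leaf) 41366 6
 Tr.leaf) 41369 6
 (Tr.node Tr.leaf 41370 6
 Tr.leaf))))) 41372 4
 (Tr.node (Tr.node (Tr.node (Tr.node (Tr.node (Tr.node Tr.leaf 41375 6
 Tr.leaf) 41377 5
 Tr.leaf) 41378 6
 (Tr.node (Tr.node Tr.leaf 41380 4
 Tr.leaf) 41383 7
 Tr.leaf)) 41384 6
 (Tr.node (Tr.node (Tr.node Tr.leaf 41387 6
 Tr.leaf) 41389 6
 Tr.leaf) 41390 6
 (Tr.node Tr.leaf 41393 3
 Tr.leaf))) 41394 3
 (Tr.node (Tr.node (Tr.node (Tr.node Tr.leaf 41396 4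
 Tr.leaf) 41399 6
 Tr.leaf) 41400 6
 (Tr.node Tr.leaf 41403 6
 Tr.leaf)) 41405 6
 (Tr.node (Tr.node (Tr.node Tr.leaf 41406 6
 Tr.leaf) 41411 6
 Tr.leaf) 41413 7
 (Tr.node Tr.leaf 41414 6
 Tr.leaf)))) 41417 5
 (Tr.node (Tr.node (Tr.node (Tr.node (Tr.node Tr.leaf 41418 6
 Tr.leaf) 41420 5
 Tr.leaf) 41423 6
 (Tr.node (Tr.node Tr.leaf 41427 6
 Tr.leaf) 41429 6
 Tr.leaf)) 41430 3
 (Tr.node (Tr.node (Tr.node Tr.leaf 41433 6
 Tr.leaf) 41434 4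
 Tr.leaf) 41436 6
 (Tr.node Tr.leaf 41439 6
 Tr.leaf))) 41441 7
 (Tr.node (Tr.node (Tr.node (Tr.node Tr.leaf 41442 6
 Tr.leaf) 41444 6
 Tr.leaf) 41447 6
 (Tr.node Tr.leaf 41448 6
 Tr.leaf)) 41451 6
 (Tr.node (Tr.node (Tr.node Tr.leaf 41453 6
 Tr.leaf) 41454 5
 Tr.leaf) 41457 6
 (Tr.node Tr.leaf 41458 6
 Tr.leaf)))))) 41460 6
 (Tr.node (Tr.node (Tr.node (Tr.node (Tr.node (Tr.node (Tr.node Tr.leaf 41463 6
 Tr.leaf) 41464 6
 Tr.leaf) 41467 6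
 (Tr.node (Tr.node Tr.leaf 41469 6
 Tr.leaf) 41470 6
 Tr.leaf)) 41985 6
 (Tr.node (Tr.node (Tr.node Tr.leaf 41987 6
 Tr.leaf) 41997 6
 Tr.leaf) 41999 6
 (Tr.node Tr.leaf 42001 6
 Tr.leaf))) 42003 6
 (Tr.node (Tr.node (Tr.node (Tr.node Tr.leaf 42013 6
 Tr.leaf) 42015 6
 Tr.leaf) 42021 5
 (Tr.node (Tr.node Tr.leaf 42023 6
 Tr.leaf) 42025 6
 Tr.leaf)) 42027 6
 (Tr.node (Tr.node (Tr.node Tr.leaf 42037 6
 Tr.leaf) 42039 6
 Tr.leaf) 42041 4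
 (Tr.node Tr.leaf 42043 6
 Tr.leaf)))) 42049 6
 (Tr.node (Tr.node (Tr.node (Tr.node (Tr.node Tr.leaf 42051 6
 Tr.leaf) 42061 5
 Tr.leaf) 42063 6
 (Tr.node (Tr.node Tr.leaf 42065 6
 Tr.leaf) 42067 5
 Tr.leaf)) 42077 5
 (Tr.node (Tr.node (Tr.node Tr.leaf 42079 6
 Tr.leaf) 42085 6
 Tr.leaf) 42087 4
 (Tr.node Tr.leaf 42089 6
 Tr.leaf))) 42091 6
 (Tr.node (Tr.node (Tr.node (Tr.node Tr.leaf 42101 6
 Tr.leaf) 42103 5
 Tr.leaf) 42105 6
 (Tr.node Tr.leaf 42107 6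
 Tr.leaf)) 42117 4
 (Tr.node (Tr.node (Tr.node Tr.leaf 42119 6
 Tr.leaf) 42121 6
 Tr.leaf) 42123 6
 (Tr.node Tr.leaf 42133 6
 Tr.leaf))))) 42135 6
 (Tr.node (Tr.node (Tr.node (Tr.node (Tr.node (Tr.node Tr.leaf 42137 6
 Tr.leaf) 42139 6
 Tr.leaf) 42145 6
 (Tr.node (Tr.node Tr.leaf 42147 6
 Tr.leaf) 42157 6
 Tr.leaf)) 42159 5
 (Tr.node (Tr.node (Tr.node Tr.leaf 42161 6
 Tr.leaf) 42163 6
 Tr.leaf) 42173 6
 (Tr.node Tr.leaf 42175 5
 Tr.leaf))) 42181 6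
 (Tr.node (Tr.node (Tr.node (Tr.node Tr.leaf 42183 4
 Tr.leaf) 42185 5
 Tr.leaf) 42187 6
 (Tr.node Tr.leaf 42197 6
 Tr.leaf)) 42199 6
 (Tr.node (Tr.node (Tr.node Tr.leaf 42201 6
 Tr.leaf) 42203 6
 Tr.leaf) 42209 6
 (Tr.node Tr.leaf 42211 4
 Tr.leaf)))) 42221 6
 (Tr.node (Tr.node (Tr.node (Tr.node (Tr.node Tr.leaf 42223 6
 Tr.leaf) 42225 6
 Tr.leaf) 42227 6
 (Tr.node (Tr.node Tr.leaf 42237 5
 Tr.leaf) 42239 6
 Tr.leaf)) 42245 4
 (Tr.node (Tr.node (Tr.node Tr.leaf 42247 5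
 Tr.leaf) 42249 6
 Tr.leaf) 42251 5
 (Tr.node Tr.leaf 42261 6
 Tr.leaf))) 42263 4
 (Tr.node (Tr.node (Tr.node (Tr.node Tr.leaf 42265 6
 Tr.leaf) 42267 6
 Tr.leaf) 42273 6
 (Tr.node Tr.leaf 42275 6
 Tr.leaf)) 42285 6
 (Tr.node (Tr.node (Tr.node Tr.leaf 42287 5
 Tr.leaf) 42289 6
 Tr.leaf) 42291 6
 (Tr.node Tr.leaf 42301 6
 Tr.leaf)))))))) 42303 5
 (Tr.node (Tr.node (Tr.node (Tr.node (Tr.node (Tr.node (Tr.node (Tr.node (Tr.node Tr.leaf 42309 6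
 Tr.leaf) 42311 6
 Tr.leaf) 42313 5
 (Tr.node (Tr.node Tr.leaf 42315 6
 Tr.leaf) 42325 7
 Tr.leaf)) 42327 6
 (Tr.node (Tr.node (Tr.node Tr.leaf 42329 4
 Tr.leaf) 42331 6
 Tr.leaf) 42337 6
 (Tr.node Tr.leaf 42339 5
 Tr.leaf))) 42349 7
 (Tr.node (Tr.node (Tr.node (Tr.node Tr.leaf 42351 6
 Tr.leaf) 42353 6
 Tr.leaf) 42355 6
 (Tr.node (Tr.node Tr.leaf 42365 5
 Tr.leaf) 42367 6
 Tr.leaf)) 42369 4
 (Tr.node (Tr.node (Tr.node Tr.leaf 42371 6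
 Tr.leaf) 42381 6
 Tr.leaf) 42383 5
 (Tr.node Tr.leaf 42385 6
 Tr.leaf)))) 42387 5
 (Tr.node (Tr.node (Tr.node (Tr.node (Tr.node Tr.leaf 42397 6
 Tr.leaf) 42399 6
 Tr.leaf) 42405 6
 (Tr.node (Tr.node Tr.leaf 42407 6
 Tr.leaf) 42409 5
 Tr.leaf)) 42411 6
 (Tr.node (Tr.node (Tr.node Tr.leaf 42421 6
 Tr.leaf) 42423 6
 Tr.leaf) 42425 6
 (Tr.node Tr.leaf 42427 6
 Tr.leaf))) 42433 5
 (Tr.node (Tr.node (Tr.node (Tr.node Tr.leaf 42435 4
 Tr.leaf) 42445 6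
 Tr.leaf) 42447 6
 (Tr.node Tr.leaf 42449 6
 Tr.leaf)) 42451 6
 (Tr.node (Tr.node (Tr.node Tr.leaf 42461 6
 Tr.leaf) 42463 6
 Tr.leaf) 42469 6
 (Tr.node Tr.leaf 42471 6
 Tr.leaf))))) 42473 6
 (Tr.node (Tr.node (Tr.node (Tr.node (Tr.node (Tr.node Tr.leaf 42475 6
 Tr.leaf) 42485 6
 Tr.leaf) 42487 6
 (Tr.node (Tr.node Tr.leaf 42489 6
 Tr.leaf) 42491 6
 Tr.leaf)) 43009 4
 (Tr.node (Tr.node (Tr.node Tr.leaf 43010 4
 Tr.leaf) 43013 4
 Tr.leaf) 43014 5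
 (Tr.node Tr.leaf 43019 7
 Tr.leaf))) 43023 5
 (Tr.node (Tr.node (Tr.node (Tr.node Tr.leaf 43025 4
 Tr.leaf) 43026 5
 Tr.leaf) 43029 5
 (Tr.node (Tr.node Tr.leaf 43030 4
 Tr.leaf) 43035 6
 Tr.leaf)) 43039 5
 (Tr.node (Tr.node (Tr.node Tr.leaf 43043 6
 Tr.leaf) 43047 5
 Tr.leaf) 43049 6
 (Tr.node Tr.leaf 43050 5
 Tr.leaf)))) 43053 6
 (Tr.node (Tr.node (Tr.node (Tr.node (Tr.node Tr.leaf 43054 6
 Tr.leaf) 43059 6
 Tr.leaf) 43063 6
 (Tr.node (Tr.node Tr.leaf 43065 6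
 Tr.leaf) 43066 6
 Tr.leaf)) 43069 6
 (Tr.node (Tr.node (Tr.node Tr.leaf 43070 5
 Tr.leaf) 43073 4
 Tr.leaf) 43074 5
 (Tr.node Tr.leaf 43077 4
 Tr.leaf))) 43078 4
 (Tr.node (Tr.node (Tr.node (Tr.node Tr.leaf 43083 5
 Tr.leaf) 43087 6
 Tr.leaf) 43089 5
 (Tr.node Tr.leaf 43090 4
 Tr.leaf)) 43093 4
 (Tr.node (Tr.node (Tr.node Tr.leaf 43094 4
 Tr.leaf) 43099 4
 Tr.leaf) 43103 6
 (Tr.node Tr.leaf 43107 5
 Tr.leaf)))))) 43111 6
 (Tr.node (Tr.node (Tr.node (Tr.node (Tr.node (Tr.node (Tr.node Tr.leaf 43113 4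
 Tr.leaf) 43114 4
 Tr.leaf) 43117 4
 (Tr.node (Tr.node Tr.leaf 43118 6
 Tr.leaf) 43123 5
 Tr.leaf)) 43127 6
 (Tr.node (Tr.node (Tr.node Tr.leaf 43129 7
 Tr.leaf) 43130 6
 Tr.leaf) 43133 6
 (Tr.node Tr.leaf 43134 6
 Tr.leaf))) 43139 6
 (Tr.node (Tr.node (Tr.node (Tr.node Tr.leaf 43143 6
 Tr.leaf) 43145 6
 Tr.leaf) 43146 6
 (Tr.node (Tr.node Tr.leaf 43149 6
 Tr.leaf) 43150 5
 Tr.leaf)) 43155 4
 (Tr.node (Tr.node (Tr.node Tr.leaf 43159 6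
 Tr.leaf) 43161 7
 Tr.leaf) 43162 6
 (Tr.node Tr.leaf 43165 5
 Tr.leaf)))) 43166 6
 (Tr.node (Tr.node (Tr.node (Tr.node (Tr.node Tr.leaf 43169 5
 Tr.leaf) 43170 6
 Tr.leaf) 43173 6
 (Tr.node (Tr.node Tr.leaf 43174 5
 Tr.leaf) 43179 6
 Tr.leaf)) 43183 6
 (Tr.node (Tr.node (Tr.node Tr.leaf 43185 6
 Tr.leaf) 43186 4
 Tr.leaf) 43189 6
 (Tr.node Tr.leaf 43190 5
 Tr.leaf))) 43195 6
 (Tr.node (Tr.node (Tr.node (Tr.node Tr.leaf 43199 6
 Tr.leaf) 43203 6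
 Tr.leaf) 43207 6
 (Tr.node Tr.leaf 43209 5
 Tr.leaf)) 43210 6
 (Tr.node (Tr.node (Tr.node Tr.leaf 43213 6
 Tr.leaf) 43214 6
 Tr.leaf) 43219 4
 (Tr.node Tr.leaf 43223 6
 Tr.leaf))))) 43225 4
 (Tr.node (Tr.node (Tr.node (Tr.node (Tr.node (Tr.node Tr.leaf 43226 4
 Tr.leaf) 43229 6
 Tr.leaf) 43230 5
 (Tr.node (Tr.node Tr.leaf 43233 6
 Tr.leaf) 43234 6
 Tr.leaf)) 43237 6
 (Tr.node (Tr.node (Tr.node Tr.leaf 43238 3
 Tr.leaf) 43243 6
 Tr.leaf) 43247 6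
 (Tr.node Tr.leaf 43249 6
 Tr.leaf))) 43250 4
 (Tr.node (Tr.node (Tr.node (Tr.node Tr.leaf 43253 5
 Tr.leaf) 43254 6
 Tr.leaf) 43259 6
 (Tr.node Tr.leaf 43263 6
 Tr.leaf)) 43267 6
 (Tr.node (Tr.node (Tr.node Tr.leaf 43271 5
 Tr.leaf) 43273 4
 Tr.leaf) 43274 6
 (Tr.node Tr.leaf 43277 6
 Tr.leaf)))) 43278 6
 (Tr.node (Tr.node (Tr.node (Tr.node (Tr.node Tr.leaf 43283 6
 Tr.leaf) 43287 6
 Tr.leaf) 43289 6
 (Tr.node (Tr.node Tr.leaf 43290 6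
 Tr.leaf) 43293 6
 Tr.leaf)) 43294 6
 (Tr.node (Tr.node (Tr.node Tr.leaf 43297 6
 Tr.leaf) 43298 6
 Tr.leaf) 43301 6
 (Tr.node Tr.leaf 43302 3
 Tr.leaf))) 43307 6
 (Tr.node (Tr.node (Tr.node (Tr.node Tr.leaf 43311 5
 Tr.leaf) 43313 4
 Tr.leaf) 43314 5
 (Tr.node Tr.leaf 43317 6
 Tr.leaf)) 43318 6
 (Tr.node (Tr.node (Tr.node Tr.leaf 43323 6
 Tr.leaf) 43327 6
 Tr.leaf) 43331 6
 (Tr.node Tr.leaf 43335 6
 Tr.leaf))))))) 43337 5
 (Tr.node (Tr.node (Tr.node (Tr.node (Tr.node (Tr.node (Tr.node (Tr.node Tr.leaf 43338 6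
 Tr.leaf) 43341 6
 Tr.leaf) 43342 6
 (Tr.node (Tr.node Tr.leaf 43347 6
 Tr.leaf) 43351 4
 Tr.leaf)) 43353 6
 (Tr.node (Tr.node (Tr.node Tr.leaf 43354 6
 Tr.leaf) 43357 5
 Tr.leaf) 43358 6
 (Tr.node Tr.leaf 43361 6
 Tr.leaf))) 43362 6
 (Tr.node (Tr.node (Tr.node (Tr.node Tr.leaf 43365 6
 Tr.leaf) 43366 6
 Tr.leaf) 43371 6
 (Tr.node (Tr.node Tr.leaf 43375 6
 Tr.leaf) 43377 6
 Tr.leaf)) 43378 3
 (Tr.node (Tr.node (Tr.node Tr.leaf 43381 6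
 Tr.leaf) 43382 6
 Tr.leaf) 43387 6
 (Tr.node Tr.leaf 43391 7
 Tr.leaf)))) 43393 6
 (Tr.node (Tr.node (Tr.node (Tr.node (Tr.node Tr.leaf 43394 4
 Tr.leaf) 43397 6
 Tr.leaf) 43398 5
 (Tr.node (Tr.node Tr.leaf 43403 6
 Tr.leaf) 43407 6
 Tr.leaf)) 43409 6
 (Tr.node (Tr.node (Tr.node Tr.leaf 43410 6
 Tr.leaf) 43413 6
 Tr.leaf) 43414 5
 (Tr.node Tr.leaf 43419 6
 Tr.leaf))) 43423 5
 (Tr.node (Tr.node (Tr.node (Tr.node Tr.leaf 43427 6
 Tr.leaf) 43431 6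
 Tr.leaf) 43433 6
 (Tr.node Tr.leaf 43434 6
 Tr.leaf)) 43437 6
 (Tr.node (Tr.node (Tr.node Tr.leaf 43438 6
 Tr.leaf) 43443 6
 Tr.leaf) 43447 6
 (Tr.node Tr.leaf 43449 6
 Tr.leaf))))) 43450 6
 (Tr.node (Tr.node (Tr.node (Tr.node (Tr.node (Tr.node Tr.leaf 43453 6
 Tr.leaf) 43454 5
 Tr.leaf) 43457 6
 (Tr.node (Tr.node Tr.leaf 43458 6
 Tr.leaf) 43461 4
 Tr.leaf)) 43462 6
 (Tr.node (Tr.node (Tr.node Tr.leaf 43467 6
 Tr.leaf) 43471 6
 Tr.leaf) 43473 6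
 (Tr.node Tr.leaf 43474 5
 Tr.leaf))) 43477 6
 (Tr.node (Tr.node (Tr.node (Tr.node Tr.leaf 43478 5
 Tr.leaf) 43483 6
 Tr.leaf) 43487 6
 (Tr.node Tr.leaf 43491 6
 Tr.leaf)) 43495 6
 (Tr.node (Tr.node (Tr.node Tr.leaf 43497 6
 Tr.leaf) 43498 5
 Tr.leaf) 43501 6
 (Tr.node Tr.leaf 43502 6
 Tr.leaf)))) 43507 6
 (Tr.node (Tr.node (Tr.node (Tr.node (Tr.node Tr.leaf 43511 6
 Tr.leaf) 43513 6
 Tr.leaf) 43514 5
 (Tr.node (Tr.node Tr.leaf 43517 6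
 Tr.leaf) 43518 6
 Tr.leaf)) 44041 6
 (Tr.node (Tr.node (Tr.node Tr.leaf 44043 5
 Tr.leaf) 44045 5
 Tr.leaf) 44047 6
 (Tr.node Tr.leaf 44057 6
 Tr.leaf))) 44059 6
 (Tr.node (Tr.node (Tr.node (Tr.node Tr.leaf 44061 4
 Tr.leaf) 44063 5
 Tr.leaf) 44065 6
 (Tr.node Tr.leaf 44067 5
 Tr.leaf)) 44069 6
 (Tr.node (Tr.node (Tr.node Tr.leaf 44071 6
 Tr.leaf) 44081 4
 Tr.leaf) 44083 6
 (Tr.node Tr.leaf 44085 6
 Tr.leaf)))))) 44087 5
 (Tr.node (Tr.node (Tr.node (Tr.node (Tr.node (Tr.node (Tr.node Tr.leaf 44105 6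
 Tr.leaf) 44107 6
 Tr.leaf) 44109 6
 (Tr.node (Tr.node Tr.leaf 44111 4
 Tr.leaf) 44121 6
 Tr.leaf)) 44123 6
 (Tr.node (Tr.node (Tr.node Tr.leaf 44125 6
 Tr.leaf) 44127 5
 Tr.leaf) 44129 6
 (Tr.node Tr.leaf 44131 6
 Tr.leaf))) 44133 4
 (Tr.node (Tr.node (Tr.node (Tr.node Tr.leaf 44135 6
 Tr.leaf) 44145 6
 Tr.leaf) 44147 6
 (Tr.node (Tr.node Tr.leaf 44149 5
 Tr.leaf) 44151 5
 Tr.leaf)) 44161 6
 (Tr.node (Tr.node (Tr.node Tr.leaf 44163 6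
 Tr.leaf) 44165 6
 Tr.leaf) 44167 5
 (Tr.node Tr.leaf 44177 5
 Tr.leaf)))) 44179 6
 (Tr.node (Tr.node (Tr.node (Tr.node (Tr.node Tr.leaf 44181 6
 Tr.leaf) 44183 6
 Tr.leaf) 44201 5
 (Tr.node (Tr.node Tr.leaf 44203 5
 Tr.leaf) 44205 5
 Tr.leaf)) 44207 6
 (Tr.node (Tr.node (Tr.node Tr.leaf 44217 6
 Tr.leaf) 44219 6
 Tr.leaf) 44221 6
 (Tr.node Tr.leaf 44223 6
 Tr.leaf))) 44225 6
 (Tr.node (Tr.node (Tr.node (Tr.node Tr.leaf 44227 6
 Tr.leaf) 44229 6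
 Tr.leaf) 44231 6
 (Tr.node Tr.leaf 44241 6
 Tr.leaf)) 44243 4
 (Tr.node (Tr.node (Tr.node Tr.leaf 44245 6
 Tr.leaf) 44247 5
 Tr.leaf) 44265 6
 (Tr.node Tr.leaf 44267 6
 Tr.leaf))))) 44269 6
 (Tr.node (Tr.node (Tr.node (Tr.node (Tr.node (Tr.node Tr.leaf 44271 6
 Tr.leaf) 44281 6
 Tr.leaf) 44283 6
 (Tr.node (Tr.node Tr.leaf 44285 6
 Tr.leaf) 44287 5
 Tr.leaf)) 44289 6
 (Tr.node (Tr.node (Tr.node Tr.leaf 44291 6
 Tr.leaf) 44293 6
 Tr.leaf) 44295 6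
 (Tr.node Tr.leaf 44305 6
 Tr.leaf))) 44307 5
 (Tr.node (Tr.node (Tr.node (Tr.node Tr.leaf 44309 6
 Tr.leaf) 44311 6
 Tr.leaf) 44329 6
 (Tr.node Tr.leaf 44331 6
 Tr.leaf)) 44333 5
 (Tr.node (Tr.node (Tr.node Tr.leaf 44335 5
 Tr.leaf) 44345 6
 Tr.leaf) 44347 6
 (Tr.node Tr.leaf 44349 5
 Tr.leaf)))) 44351 6
 (Tr.node (Tr.node (Tr.node (Tr.node (Tr.node Tr.leaf 44353 5
 Tr.leaf) 44355 6
 Tr.leaf) 44357 5
 (Tr.node (Tr.node Tr.leaf 44359 4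
 Tr.leaf) 44369 6
 Tr.leaf)) 44371 7
 (Tr.node (Tr.node (Tr.node Tr.leaf 44373 5
 Tr.leaf) 44375 6
 Tr.leaf) 44393 6
 (Tr.node Tr.leaf 44395 6
 Tr.leaf))) 44397 6
 (Tr.node (Tr.node (Tr.node (Tr.node Tr.leaf 44399 6
 Tr.leaf) 44409 6
 Tr.leaf) 44411 6
 (Tr.node Tr.leaf 44413 6
 Tr.leaf)) 44415 6
 (Tr.node (Tr.node (Tr.node Tr.leaf 44425 5
 Tr.leaf) 44427 5
 Tr.leaf) 44429 6
 (Tr.node Tr.leaf 44431 5
 Tr.leaf)))))))))

/-- A subtree. -/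
def tr2_s11 : Tr := (Tr.node (Tr.node (Tr.node (Tr.node (Tr.node (Tr.node (Tr.node (Tr.node (Tr.node (Tr.node Tr.leaf 44443 6
 Tr.leaf) 44445 7
 Tr.leaf) 44447 6
 (Tr.node (Tr.node Tr.leaf 44449 7
 Tr.leaf) 44451 6
 Tr.leaf)) 44453 6
 (Tr.node (Tr.node (Tr.node Tr.leaf 44455 6
 Tr.leaf) 44465 5
 Tr.leaf) 44467 6
 (Tr.node Tr.leaf 44469 6
 Tr.leaf))) 44471 5
 (Tr.node (Tr.node (Tr.node (Tr.node Tr.leaf 44489 5
 Tr.leaf) 44491 6
 Tr.leaf) 44493 5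
 (Tr.node (Tr.node Tr.leaf 44495 6
 Tr.leaf) 44505 6
 Tr.leaf)) 44507 6
 (Tr.node (Tr.node (Tr.node Tr.leaf 44509 6
 Tr.leaf) 44511 7
 Tr.leaf) 44513 6
 (Tr.node Tr.leaf 44515 6
 Tr.leaf)))) 44517 6
 (Tr.node (Tr.node (Tr.node (Tr.node (Tr.node Tr.leaf 44519 6
 Tr.leaf) 44529 5
 Tr.leaf) 44531 5
 (Tr.node (Tr.node Tr.leaf 44533 6
 Tr.leaf) 44535 6
 Tr.leaf)) 45057 4
 (Tr.node (Tr.node (Tr.node Tr.leaf 45058 5
 Tr.leaf) 45060 4
 Tr.leaf) 45063 6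
 (Tr.node Tr.leaf 45065 4
 Tr.leaf))) 45066 6
 (Tr.node (Tr.node (Tr.node (Tr.node Tr.leaf 45068 4
 Tr.leaf) 45071 6
 Tr.leaf) 45073 4
 (Tr.node Tr.leaf 45074 5
 Tr.leaf)) 45076 4
 (Tr.node (Tr.node (Tr.node Tr.leaf 45079 6
 Tr.leaf) 45081 4
 Tr.leaf) 45082 6
 (Tr.node Tr.leaf 45084 5
 Tr.leaf))))) 45087 6
 (Tr.node (Tr.node (Tr.node (Tr.node (Tr.node (Tr.node Tr.leaf 45091 6
 Tr.leaf) 45093 6
 Tr.leaf) 45094 6
 (Tr.node (Tr.node Tr.leaf 45099 6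
 Tr.leaf) 45101 6
 Tr.leaf)) 45102 6
 (Tr.node (Tr.node (Tr.node Tr.leaf 45107 4
 Tr.leaf) 45109 5
 Tr.leaf) 45110 5
 (Tr.node Tr.leaf 45115 6
 Tr.leaf))) 45117 6
 (Tr.node (Tr.node (Tr.node (Tr.node Tr.leaf 45118 5
 Tr.leaf) 45121 4
 Tr.leaf) 45122 6
 (Tr.node (Tr.node Tr.leaf 45124 5
 Tr.leaf) 45127 5
 Tr.leaf)) 45129 4
 (Tr.node (Tr.node (Tr.node Tr.leaf 45130 6
 Tr.leaf) 45132 5
 Tr.leaf) 45135 5
 (Tr.node Tr.leaf 45137 4
 Tr.leaf)))) 45138 6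
 (Tr.node (Tr.node (Tr.node (Tr.node (Tr.node Tr.leaf 45140 4
 Tr.leaf) 45143 6
 Tr.leaf) 45145 5
 (Tr.node (Tr.node Tr.leaf 45146 6
 Tr.leaf) 45148 4
 Tr.leaf)) 45151 6
 (Tr.node (Tr.node (Tr.node Tr.leaf 45155 6
 Tr.leaf) 45157 5
 Tr.leaf) 45158 6
 (Tr.node Tr.leaf 45163 6
 Tr.leaf))) 45165 4
 (Tr.node (Tr.node (Tr.node (Tr.node Tr.leaf 45166 6
 Tr.leaf) 45171 6
 Tr.leaf) 45173 6
 (Tr.node Tr.leaf 45174 5
 Tr.leaf)) 45179 6
 (Tr.node (Tr.node (Tr.node Tr.leaf 45181 6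
 Tr.leaf) 45182 4
 Tr.leaf) 45187 6
 (Tr.node Tr.leaf 45189 4
 Tr.leaf)))))) 45190 4
 (Tr.node (Tr.node (Tr.node (Tr.node (Tr.node (Tr.node (Tr.node Tr.leaf 45195 6
 Tr.leaf) 45197 6
 Tr.leaf) 45198 6
 (Tr.node (Tr.node Tr.leaf 45203 6
 Tr.leaf) 45205 6
 Tr.leaf)) 45206 6
 (Tr.node (Tr.node (Tr.node Tr.leaf 45211 6
 Tr.leaf) 45213 4
 Tr.leaf) 45214 5
 (Tr.node Tr.leaf 45217 6
 Tr.leaf))) 45218 6
 (Tr.node (Tr.node (Tr.node (Tr.node Tr.leaf 45220 6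
 Tr.leaf) 45223 6
 Tr.leaf) 45225 5
 (Tr.node (Tr.node Tr.leaf 45226 6
 Tr.leaf) 45228 4
 Tr.leaf)) 45231 5
 (Tr.node (Tr.node (Tr.node Tr.leaf 45233 6
 Tr.leaf) 45234 6
 Tr.leaf) 45236 6
 (Tr.node Tr.leaf 45239 6
 Tr.leaf)))) 45241 6
 (Tr.node (Tr.node (Tr.node (Tr.node (Tr.node Tr.leaf 45242 6
 Tr.leaf) 45244 6
 Tr.leaf) 45247 5
 (Tr.node (Tr.node Tr.leaf 45251 6
 Tr.leaf) 45253 6
 Tr.leaf)) 45254 6
 (Tr.node (Tr.node (Tr.node Tr.leaf 45259 6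
 Tr.leaf) 45261 4
 Tr.leaf) 45262 4
 (Tr.node Tr.leaf 45267 6
 Tr.leaf))) 45269 5
 (Tr.node (Tr.node (Tr.node (Tr.node Tr.leaf 45270 6
 Tr.leaf) 45275 6
 Tr.leaf) 45277 6
 (Tr.node Tr.leaf 45278 6
 Tr.leaf)) 45281 5
 (Tr.node (Tr.node (Tr.node Tr.leaf 45282 6
 Tr.leaf) 45284 5
 Tr.leaf) 45287 6
 (Tr.node Tr.leaf 45289 4
 Tr.leaf))))) 45290 6
 (Tr.node (Tr.node (Tr.node (Tr.node (Tr.node (Tr.node Tr.leaf 45292 6
 Tr.leaf) 45295 6
 Tr.leaf) 45297 5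
 (Tr.node (Tr.node Tr.leaf 45298 6
 Tr.leaf) 45300 5
 Tr.leaf)) 45303 6
 (Tr.node (Tr.node (Tr.node Tr.leaf 45305 7
 Tr.leaf) 45306 6
 Tr.leaf) 45308 6
 (Tr.node Tr.leaf 45311 5
 Tr.leaf))) 45315 5
 (Tr.node (Tr.node (Tr.node (Tr.node Tr.leaf 45317 6
 Tr.leaf) 45318 6
 Tr.leaf) 45323 5
 (Tr.node Tr.leaf 45325 5
 Tr.leaf)) 45326 6
 (Tr.node (Tr.node (Tr.node Tr.leaf 45331 4
 Tr.leaf) 45333 5
 Tr.leaf) 45334 6
 (Tr.node Tr.leaf 45339 6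
 Tr.leaf)))) 45341 6
 (Tr.node (Tr.node (Tr.node (Tr.node (Tr.node Tr.leaf 45342 6
 Tr.leaf) 45345 5
 Tr.leaf) 45346 4
 (Tr.node (Tr.node Tr.leaf 45348 6
 Tr.leaf) 45351 6
 Tr.leaf)) 45353 6
 (Tr.node (Tr.node (Tr.node Tr.leaf 45354 6
 Tr.leaf) 45356 5
 Tr.leaf) 45359 6
 (Tr.node Tr.leaf 45361 3
 Tr.leaf))) 45362 3
 (Tr.node (Tr.node (Tr.node (Tr.node Tr.leaf 45364 3
 Tr.leaf) 45367 6
 Tr.leaf) 45369 4
 (Tr.node Tr.leaf 45370 5
 Tr.leaf)) 45372 6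
 (Tr.node (Tr.node (Tr.node Tr.leaf 45375 6
 Tr.leaf) 45379 7
 Tr.leaf) 45381 4
 (Tr.node Tr.leaf 45382 6
 Tr.leaf))))))) 45387 6
 (Tr.node (Tr.node (Tr.node (Tr.node (Tr.node (Tr.node (Tr.node (Tr.node Tr.leaf 45389 4
 Tr.leaf) 45390 6
 Tr.leaf) 45395 4
 (Tr.node (Tr.node Tr.leaf 45397 4
 Tr.leaf) 45398 6
 Tr.leaf)) 45403 6
 (Tr.node (Tr.node (Tr.node Tr.leaf 45405 6
 Tr.leaf) 45406 6
 Tr.leaf) 45409 6
 (Tr.node Tr.leaf 45410 6
 Tr.leaf))) 45412 6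
 (Tr.node (Tr.node (Tr.node (Tr.node Tr.leaf 45415 7
 Tr.leaf) 45417 5
 Tr.leaf) 45418 5
 (Tr.node (Tr.node Tr.leaf 45420 3
 Tr.leaf) 45423 6
 Tr.leaf)) 45425 7
 (Tr.node (Tr.node (Tr.node Tr.leaf 45426 6
 Tr.leaf) 45428 5
 Tr.leaf) 45431 6
 (Tr.node Tr.leaf 45433 5
 Tr.leaf)))) 45434 3
 (Tr.node (Tr.node (Tr.node (Tr.node (Tr.node Tr.leaf 45436 6
 Tr.leaf) 45439 7
 Tr.leaf) 45441 6
 (Tr.node (Tr.node Tr.leaf 45442 4
 Tr.leaf) 45444 6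
 Tr.leaf)) 45447 6
 (Tr.node (Tr.node (Tr.node Tr.leaf 45449 5
 Tr.leaf) 45450 3
 Tr.leaf) 45452 3
 (Tr.node Tr.leaf 45455 6
 Tr.leaf))) 45457 5
 (Tr.node (Tr.node (Tr.node (Tr.node Tr.leaf 45458 6
 Tr.leaf) 45460 6
 Tr.leaf) 45463 5
 (Tr.node Tr.leaf 45465 4
 Tr.leaf)) 45466 6
 (Tr.node (Tr.node (Tr.node Tr.leaf 45468 6
 Tr.leaf) 45471 6
 Tr.leaf) 45475 6
 (Tr.node Tr.leaf 45477 6
 Tr.leaf))))) 45478 6
 (Tr.node (Tr.node (Tr.node (Tr.node (Tr.node (Tr.node Tr.leaf 45483 6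
 Tr.leaf) 45485 6
 Tr.leaf) 45486 6
 (Tr.node (Tr.node Tr.leaf 45491 6
 Tr.leaf) 45493 7
 Tr.leaf)) 45494 6
 (Tr.node (Tr.node (Tr.node Tr.leaf 45499 6
 Tr.leaf) 45501 6
 Tr.leaf) 45502 5
 (Tr.node Tr.leaf 45505 6
 Tr.leaf))) 45506 6
 (Tr.node (Tr.node (Tr.node (Tr.node Tr.leaf 45508 6
 Tr.leaf) 45511 6
 Tr.leaf) 45513 5
 (Tr.node Tr.leaf 45514 6
 Tr.leaf)) 45516 6
 (Tr.node (Tr.node (Tr.node Tr.leaf 45519 6
 Tr.leaf) 45521 6
 Tr.leaf) 45522 4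
 (Tr.node Tr.leaf 45524 4
 Tr.leaf)))) 45527 6
 (Tr.node (Tr.node (Tr.node (Tr.node (Tr.node Tr.leaf 45529 6
 Tr.leaf) 45530 5
 Tr.leaf) 45532 5
 (Tr.node (Tr.node Tr.leaf 45535 6
 Tr.leaf) 45539 5
 Tr.leaf)) 45541 6
 (Tr.node (Tr.node (Tr.node Tr.leaf 45542 6
 Tr.leaf) 45547 6
 Tr.leaf) 45549 5
 (Tr.node Tr.leaf 45550 6
 Tr.leaf))) 45555 6
 (Tr.node (Tr.node (Tr.node (Tr.node Tr.leaf 45557 6
 Tr.leaf) 45558 6
 Tr.leaf) 45563 6
 (Tr.node Tr.leaf 45565 6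
 Tr.leaf)) 45566 6
 (Tr.node (Tr.node (Tr.node Tr.leaf 46085 4
 Tr.leaf) 46087 6
 Tr.leaf) 46093 6
 (Tr.node Tr.leaf 46095 6
 Tr.leaf)))))) 46101 6
 (Tr.node (Tr.node (Tr.node (Tr.node (Tr.node (Tr.node (Tr.node Tr.leaf 46103 6
 Tr.leaf) 46109 6
 Tr.leaf) 46111 4
 (Tr.node (Tr.node Tr.leaf 46113 5
 Tr.leaf) 46115 6
 Tr.leaf)) 46121 6
 (Tr.node (Tr.node (Tr.node Tr.leaf 46123 6
 Tr.leaf) 46129 5
 Tr.leaf) 46131 5
 (Tr.node Tr.leaf 46137 4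
 Tr.leaf))) 46139 4
 (Tr.node (Tr.node (Tr.node (Tr.node Tr.leaf 46149 6
 Tr.leaf) 46151 4
 Tr.leaf) 46157 6
 (Tr.node (Tr.node Tr.leaf 46159 6
 Tr.leaf) 46165 6
 Tr.leaf)) 46167 4
 (Tr.node (Tr.node (Tr.node Tr.leaf 46173 6
 Tr.leaf) 46175 6
 Tr.leaf) 46177 6
 (Tr.node Tr.leaf 46179 6
 Tr.leaf)))) 46185 6
 (Tr.node (Tr.node (Tr.node (Tr.node (Tr.node Tr.leaf 46187 5
 Tr.leaf) 46193 6
 Tr.leaf) 46195 6
 (Tr.node (Tr.node Tr.leaf 46201 6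
 Tr.leaf) 46203 6
 Tr.leaf)) 46209 6
 (Tr.node (Tr.node (Tr.node Tr.leaf 46211 6
 Tr.leaf) 46217 6
 Tr.leaf) 46219 5
 (Tr.node Tr.leaf 46225 6
 Tr.leaf))) 46227 6
 (Tr.node (Tr.node (Tr.node (Tr.node Tr.leaf 46233 6
 Tr.leaf) 46235 6
 Tr.leaf) 46245 6
 (Tr.node Tr.leaf 46247 7
 Tr.leaf)) 46253 6
 (Tr.node (Tr.node (Tr.node Tr.leaf 46255 6
 Tr.leaf) 46261 6
 Tr.leaf) 46263 5
 (Tr.node Tr.leaf 46269 5
 Tr.leaf))))) 46271 6
 (Tr.node (Tr.node (Tr.node (Tr.node (Tr.node (Tr.node Tr.leaf 46273 6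
 Tr.leaf) 46275 6
 Tr.leaf) 46281 6
 (Tr.node (Tr.node Tr.leaf 46283 5
 Tr.leaf) 46289 5
 Tr.leaf)) 46291 6
 (Tr.node (Tr.node (Tr.node Tr.leaf 46297 6
 Tr.leaf) 46299 7
 Tr.leaf) 46309 6
 (Tr.node Tr.leaf 46311 6
 Tr.leaf))) 46317 5
 (Tr.node (Tr.node (Tr.node (Tr.node Tr.leaf 46319 6
 Tr.leaf) 46325 6
 Tr.leaf) 46327 6
 (Tr.node Tr.leaf 46333 6
 Tr.leaf)) 46335 7
 (Tr.node (Tr.node (Tr.node Tr.leaf 46337 6
 Tr.leaf) 46339 6
 Tr.leaf) 46345 4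
 (Tr.node Tr.leaf 46347 7
 Tr.leaf)))) 46353 6
 (Tr.node (Tr.node (Tr.node (Tr.node (Tr.node Tr.leaf 46355 5
 Tr.leaf) 46361 6
 Tr.leaf) 46363 4
 (Tr.node (Tr.node Tr.leaf 46373 6
 Tr.leaf) 46375 5
 Tr.leaf)) 46381 5
 (Tr.node (Tr.node (Tr.node Tr.leaf 46383 6
 Tr.leaf) 46389 6
 Tr.leaf) 46391 6
 (Tr.node Tr.leaf 46397 6
 Tr.leaf))) 46399 6
 (Tr.node (Tr.node (Tr.node (Tr.node Tr.leaf 46401 5
 Tr.leaf) 46403 4
 Tr.leaf) 46409 4
 (Tr.node Tr.leaf 46411 6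
 Tr.leaf)) 46417 6
 (Tr.node (Tr.node (Tr.node Tr.leaf 46419 6
 Tr.leaf) 46425 6
 Tr.leaf) 46427 6
 (Tr.node Tr.leaf 46437 5
 Tr.leaf)))))))) 46439 6
 (Tr.node (Tr.node (Tr.node (Tr.node (Tr.node (Tr.node (Tr.node (Tr.node (Tr.node Tr.leaf 46445 6
 Tr.leaf) 46447 6
 Tr.leaf) 46453 6
 (Tr.node (Tr.node Tr.leaf 46455 6
 Tr.leaf) 46461 6
 Tr.leaf)) 46463 6
 (Tr.node (Tr.node (Tr.node Tr.leaf 46469 6
 Tr.leaf) 46471 6
 Tr.leaf) 46477 6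
 (Tr.node Tr.leaf 46479 6
 Tr.leaf))) 46485 6
 (Tr.node (Tr.node (Tr.node (Tr.node Tr.leaf 46487 6
 Tr.leaf) 46493 5
 Tr.leaf) 46495 6
 (Tr.node (Tr.node Tr.leaf 46497 5
 Tr.leaf) 46499 6
 Tr.leaf)) 46505 6
 (Tr.node (Tr.node (Tr.node Tr.leaf 46507 6
 Tr.leaf) 46513 6
 Tr.leaf) 46515 6
 (Tr.node Tr.leaf 46521 6
 Tr.leaf)))) 46523 6
 (Tr.node (Tr.node (Tr.node (Tr.node (Tr.node Tr.leaf 46533 5
 Tr.leaf) 46535 6
 Tr.leaf) 46541 5
 (Tr.node (Tr.node Tr.leaf 46543 6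
 Tr.leaf) 46549 6
 Tr.leaf)) 46551 6
 (Tr.node (Tr.node (Tr.node Tr.leaf 46557 5
 Tr.leaf) 46559 6
 Tr.leaf) 46561 6
 (Tr.node Tr.leaf 46563 6
 Tr.leaf))) 46569 6
 (Tr.node (Tr.node (Tr.node (Tr.node Tr.leaf 46571 6
 Tr.leaf) 46577 6
 Tr.leaf) 46579 6
 (Tr.node Tr.leaf 46585 6
 Tr.leaf)) 46587 6
 (Tr.node (Tr.node (Tr.node Tr.leaf 47107 5
 Tr.leaf) 47111 5
 Tr.leaf) 47115 6
 (Tr.node Tr.leaf 47119 4
 Tr.leaf))))) 47123 5
 (Tr.node (Tr.node (Tr.node (Tr.node (Tr.node (Tr.node Tr.leaf 47127 6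
 Tr.leaf) 47131 6
 Tr.leaf) 47135 5
 (Tr.node (Tr.node Tr.leaf 47137 5
 Tr.leaf) 47138 4
 Tr.leaf)) 47141 6
 (Tr.node (Tr.node (Tr.node Tr.leaf 47142 6
 Tr.leaf) 47145 6
 Tr.leaf) 47146 5
 (Tr.node Tr.leaf 47149 6
 Tr.leaf))) 47150 7
 (Tr.node (Tr.node (Tr.node (Tr.node Tr.leaf 47153 6
 Tr.leaf) 47154 6
 Tr.leaf) 47157 5
 (Tr.node Tr.leaf 47158 6
 Tr.leaf)) 47161 6
 (Tr.node (Tr.node (Tr.node Tr.leaf 47162 5
 Tr.leaf) 47165 6
 Tr.leaf) 47166 5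
 (Tr.node Tr.leaf 47171 6
 Tr.leaf)))) 47175 6
 (Tr.node (Tr.node (Tr.node (Tr.node (Tr.node Tr.leaf 47179 7
 Tr.leaf) 47183 6
 Tr.leaf) 47187 6
 (Tr.node (Tr.node Tr.leaf 47191 4
 Tr.leaf) 47195 6
 Tr.leaf)) 47199 6
 (Tr.node (Tr.node (Tr.node Tr.leaf 47201 5
 Tr.leaf) 47202 4
 Tr.leaf) 47205 6
 (Tr.node Tr.leaf 47206 6
 Tr.leaf))) 47209 6
 (Tr.node (Tr.node (Tr.node (Tr.node Tr.leaf 47210 5
 Tr.leaf) 47213 4
 Tr.leaf) 47214 6
 (Tr.node Tr.leaf 47217 6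
 Tr.leaf)) 47218 6
 (Tr.node (Tr.node (Tr.node Tr.leaf 47221 6
 Tr.leaf) 47222 6
 Tr.leaf) 47225 6
 (Tr.node Tr.leaf 47226 6
 Tr.leaf)))))) 47229 6
 (Tr.node (Tr.node (Tr.node (Tr.node (Tr.node (Tr.node (Tr.node Tr.leaf 47230 6
 Tr.leaf) 47233 5
 Tr.leaf) 47234 4
 (Tr.node (Tr.node Tr.leaf 47237 4
 Tr.leaf) 47238 5
 Tr.leaf)) 47241 5
 (Tr.node (Tr.node (Tr.node Tr.leaf 47242 6
 Tr.leaf) 47245 6
 Tr.leaf) 47246 5
 (Tr.node Tr.leaf 47249 6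
 Tr.leaf))) 47250 6
 (Tr.node (Tr.node (Tr.node (Tr.node Tr.leaf 47253 6
 Tr.leaf) 47254 6
 Tr.leaf) 47257 4
 (Tr.node (Tr.node Tr.leaf 47258 4
 Tr.leaf) 47261 6
 Tr.leaf)) 47262 4
 (Tr.node (Tr.node (Tr.node Tr.leaf 47267 5
 Tr.leaf) 47271 6
 Tr.leaf) 47275 6
 (Tr.node Tr.leaf 47279 6
 Tr.leaf)))) 47283 5
 (Tr.node (Tr.node (Tr.node (Tr.node (Tr.node Tr.leaf 47287 6
 Tr.leaf) 47291 6
 Tr.leaf) 47295 5
 (Tr.node (Tr.node Tr.leaf 47297 6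
 Tr.leaf) 47298 6
 Tr.leaf)) 47301 6
 (Tr.node (Tr.node (Tr.node Tr.leaf 47302 6
 Tr.leaf) 47305 6
 Tr.leaf) 47306 5
 (Tr.node Tr.leaf 47309 5
 Tr.leaf))) 47310 4
 (Tr.node (Tr.node (Tr.node (Tr.node Tr.leaf 47313 6
 Tr.leaf) 47314 6
 Tr.leaf) 47317 5
 (Tr.node Tr.leaf 47318 7
 Tr.leaf)) 47321 6
 (Tr.node (Tr.node (Tr.node Tr.leaf 47322 6
 Tr.leaf) 47325 6
 Tr.leaf) 47326 6
 (Tr.node Tr.leaf 47331 6
 Tr.leaf))))) 47335 6
 (Tr.node (Tr.node (Tr.node (Tr.node (Tr.node (Tr.node Tr.leaf 47339 6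
 Tr.leaf) 47343 6
 Tr.leaf) 47347 6
 (Tr.node (Tr.node Tr.leaf 47351 5
 Tr.leaf) 47355 6
 Tr.leaf)) 47359 5
 (Tr.node (Tr.node (Tr.node Tr.leaf 47361 6
 Tr.leaf) 47362 6
 Tr.leaf) 47365 5
 (Tr.node Tr.leaf 47366 6
 Tr.leaf))) 47369 4
 (Tr.node (Tr.node (Tr.node (Tr.node Tr.leaf 47370 6
 Tr.leaf) 47373 6
 Tr.leaf) 47374 6
 (Tr.node Tr.leaf 47377 5
 Tr.leaf)) 47378 6
 (Tr.node (Tr.node (Tr.node Tr.leaf 47381 6
 Tr.leaf) 47382 6
 Tr.leaf) 47385 4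
 (Tr.node Tr.leaf 47386 6
 Tr.leaf)))) 47389 6
 (Tr.node (Tr.node (Tr.node (Tr.node (Tr.node Tr.leaf 47390 6
 Tr.leaf) 47395 6
 Tr.leaf) 47399 6
 (Tr.node (Tr.node Tr.leaf 47403 5
 Tr.leaf) 47407 6
 Tr.leaf)) 47411 6
 (Tr.node (Tr.node (Tr.node Tr.leaf 47415 5
 Tr.leaf) 47419 5
 Tr.leaf) 47423 6
 (Tr.node Tr.leaf 47425 7
 Tr.leaf))) 47426 6
 (Tr.node (Tr.node (Tr.node (Tr.node Tr.leaf 47429 5
 Tr.leaf) 47430 6
 Tr.leaf) 47433 6
 (Tr.node Tr.leaf 47434 6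
 Tr.leaf)) 47437 6
 (Tr.node (Tr.node (Tr.node Tr.leaf 47438 6
 Tr.leaf) 47441 6
 Tr.leaf) 47442 6
 (Tr.node Tr.leaf 47445 6
 Tr.leaf))))))) 47446 6
 (Tr.node (Tr.node (Tr.node (Tr.node (Tr.node (Tr.node (Tr.node (Tr.node Tr.leaf 47449 6
 Tr.leaf) 47450 6
 Tr.leaf) 47453 6
 (Tr.node (Tr.node Tr.leaf 47454 6
 Tr.leaf) 47459 6
 Tr.leaf)) 47463 6
 (Tr.node (Tr.node (Tr.node Tr.leaf 47467 6
 Tr.leaf) 47471 6
 Tr.leaf) 47475 5
 (Tr.node Tr.leaf 47479 6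
 Tr.leaf))) 47483 5
 (Tr.node (Tr.node (Tr.node (Tr.node Tr.leaf 47487 5
 Tr.leaf) 47491 6
 Tr.leaf) 47495 6
 (Tr.node (Tr.node Tr.leaf 47499 6
 Tr.leaf) 47503 5
 Tr.leaf)) 47507 6
 (Tr.node (Tr.node (Tr.node Tr.leaf 47511 5
 Tr.leaf) 47515 6
 Tr.leaf) 47519 5
 (Tr.node Tr.leaf 47521 6
 Tr.leaf)))) 47522 6
 (Tr.node (Tr.node (Tr.node (Tr.node (Tr.node Tr.leaf 47525 5
 Tr.leaf) 47526 6
 Tr.leaf) 47529 6
 (Tr.node (Tr.node Tr.leaf 47530 5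
 Tr.leaf) 47533 6
 Tr.leaf)) 47534 5
 (Tr.node (Tr.node (Tr.node Tr.leaf 47537 6
 Tr.leaf) 47538 6
 Tr.leaf) 47541 5
 (Tr.node Tr.leaf 47542 6
 Tr.leaf))) 47545 6
 (Tr.node (Tr.node (Tr.node (Tr.node Tr.leaf 47546 6
 Tr.leaf) 47549 6
 Tr.leaf) 47550 5
 (Tr.node Tr.leaf 47555 6
 Tr.leaf)) 47559 6
 (Tr.node (Tr.node (Tr.node Tr.leaf 47563 6
 Tr.leaf) 47567 6
 Tr.leaf) 47571 6
 (Tr.node Tr.leaf 47575 6
 Tr.leaf))))) 47579 6
 (Tr.node (Tr.node (Tr.node (Tr.node (Tr.node (Tr.node Tr.leaf 47583 6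
 Tr.leaf) 47585 5
 Tr.leaf) 47586 6
 (Tr.node (Tr.node Tr.leaf 47589 6
 Tr.leaf) 47590 5
 Tr.leaf)) 47593 6
 (Tr.node (Tr.node (Tr.node Tr.leaf 47594 5
 Tr.leaf) 47597 5
 Tr.leaf) 47598 6
 (Tr.node Tr.leaf 47601 6
 Tr.leaf))) 47602 6
 (Tr.node (Tr.node (Tr.node (Tr.node Tr.leaf 47605 6
 Tr.leaf) 47606 5
 Tr.leaf) 47609 6
 (Tr.node Tr.leaf 47610 6
 Tr.leaf)) 47613 7
 (Tr.node (Tr.node (Tr.node Tr.leaf 47614 5
 Tr.leaf) 48129 6
 Tr.leaf) 48131 7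
 (Tr.node Tr.leaf 48133 6
 Tr.leaf)))) 48135 5
 (Tr.node (Tr.node (Tr.node (Tr.node (Tr.node Tr.leaf 48137 4
 Tr.leaf) 48139 6
 Tr.leaf) 48141 6
 (Tr.node (Tr.node Tr.leaf 48143 6
 Tr.leaf) 48145 6
 Tr.leaf)) 48147 7
 (Tr.node (Tr.node (Tr.node Tr.leaf 48149 6
 Tr.leaf) 48151 4
 Tr.leaf) 48153 4
 (Tr.node Tr.leaf 48155 6
 Tr.leaf))) 48157 6
 (Tr.node (Tr.node (Tr.node (Tr.node Tr.leaf 48159 6
 Tr.leaf) 48193 4
 Tr.leaf) 48195 6
 (Tr.node Tr.leaf 48197 6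
 Tr.leaf)) 48199 6
 (Tr.node (Tr.node (Tr.node Tr.leaf 48201 6
 Tr.leaf) 48203 6
 Tr.leaf) 48205 4
 (Tr.node Tr.leaf 48207 6
 Tr.leaf)))))) 48209 6
 (Tr.node (Tr.node (Tr.node (Tr.node (Tr.node (Tr.node (Tr.node Tr.leaf 48211 6
 Tr.leaf) 48213 6
 Tr.leaf) 48215 6
 (Tr.node (Tr.node Tr.leaf 48217 6
 Tr.leaf) 48219 4
 Tr.leaf)) 48221 4
 (Tr.node (Tr.node (Tr.node Tr.leaf 48223 6
 Tr.leaf) 48289 6
 Tr.leaf) 48291 6
 (Tr.node Tr.leaf 48293 6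
 Tr.leaf))) 48295 6
 (Tr.node (Tr.node (Tr.node (Tr.node Tr.leaf 48297 6
 Tr.leaf) 48299 6
 Tr.leaf) 48301 6
 (Tr.node (Tr.node Tr.leaf 48303 6
 Tr.leaf) 48305 6
 Tr.leaf)) 48307 6
 (Tr.node (Tr.node (Tr.node Tr.leaf 48309 6
 Tr.leaf) 48311 6
 Tr.leaf) 48313 5
 (Tr.node Tr.leaf 48315 7
 Tr.leaf)))) 48317 6
 (Tr.node (Tr.node (Tr.node (Tr.node (Tr.node Tr.leaf 48319 6
 Tr.leaf) 48353 6
 Tr.leaf) 48355 6
 (Tr.node (Tr.node Tr.leaf 48357 6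
 Tr.leaf) 48359 6
 Tr.leaf)) 48361 6
 (Tr.node (Tr.node (Tr.node Tr.leaf 48363 6
 Tr.leaf) 48365 5
 Tr.leaf) 48367 6
 (Tr.node Tr.leaf 48369 6
 Tr.leaf))) 48371 6
 (Tr.node (Tr.node (Tr.node (Tr.node Tr.leaf 48373 6
 Tr.leaf) 48375 6
 Tr.leaf) 48377 6
 (Tr.node Tr.leaf 48379 6
 Tr.leaf)) 48381 5
 (Tr.node (Tr.node (Tr.node Tr.leaf 48383 6
 Tr.leaf) 48417 6
 Tr.leaf) 48419 6
 (Tr.node Tr.leaf 48421 6
 Tr.leaf))))) 48423 6
 (Tr.node (Tr.node (Tr.node (Tr.node (Tr.node (Tr.node Tr.leaf 48425 6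
 Tr.leaf) 48427 6
 Tr.leaf) 48429 6
 (Tr.node (Tr.node Tr.leaf 48431 6
 Tr.leaf) 48433 6
 Tr.leaf)) 48435 5
 (Tr.node (Tr.node (Tr.node Tr.leaf 48437 6
 Tr.leaf) 48439 6
 Tr.leaf) 48441 6
 (Tr.node Tr.leaf 48443 6
 Tr.leaf))) 48445 6
 (Tr.node (Tr.node (Tr.node (Tr.node Tr.leaf 48447 6
 Tr.leaf) 48481 6
 Tr.leaf) 48483 6
 (Tr.node Tr.leaf 48485 6
 Tr.leaf)) 48487 6
 (Tr.node (Tr.node (Tr.node Tr.leaf 48489 6
 Tr.leaf) 48491 6
 Tr.leaf) 48493 7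
 (Tr.node Tr.leaf 48495 6
 Tr.leaf)))) 48497 6
 (Tr.node (Tr.node (Tr.node (Tr.node (Tr.node Tr.leaf 48499 6
 Tr.leaf) 48501 6
 Tr.leaf) 48503 6
 (Tr.node (Tr.node Tr.leaf 48505 6
 Tr.leaf) 48507 6
 Tr.leaf)) 48509 6
 (Tr.node (Tr.node (Tr.node Tr.leaf 48511 6
 Tr.leaf) 48513 6
 Tr.leaf) 48515 5
 (Tr.node Tr.leaf 48517 6
 Tr.leaf))) 48519 6
 (Tr.node (Tr.node (Tr.node (Tr.node Tr.leaf 48521 6
 Tr.leaf) 48523 6
 Tr.leaf) 48525 6
 (Tr.node Tr.leaf 48527 6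
 Tr.leaf)) 48529 6
 (Tr.node (Tr.node (Tr.node Tr.leaf 48531 6
 Tr.leaf) 48533 6
 Tr.leaf) 48535 6
 (Tr.node Tr.leaf 48537 6
 Tr.leaf)))))))))

/-- A subtree. -/
def tr2_s12 : Tr := (Tr.node (Tr.node (Tr.node (Tr.node (Tr.node (Tr.node (Tr.node (Tr.node (Tr.node (Tr.node Tr.leaf 48541 6
 Tr.leaf) 48543 6
 Tr.leaf) 48577 6
 (Tr.node (Tr.node Tr.leaf 48579 6
 Tr.leaf) 48581 6
 Tr.leaf)) 48583 5
 (Tr.node (Tr.node (Tr.node Tr.leaf 48585 6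
 Tr.leaf) 48587 6
 Tr.leaf) 48589 6
 (Tr.node Tr.leaf 48591 6
 Tr.leaf))) 48593 6
 (Tr.node (Tr.node (Tr.node (Tr.node Tr.leaf 48595 6
 Tr.leaf) 48597 6
 Tr.leaf) 48599 6
 (Tr.node (Tr.node Tr.leaf 48601 6
 Tr.leaf) 48603 6
 Tr.leaf)) 48605 6
 (Tr.node (Tr.node (Tr.node Tr.leaf 48607 6
 Tr.leaf) 49155 5
 Tr.leaf) 49157 6
 (Tr.node Tr.leaf 49158 4
 Tr.leaf)))) 49161 5
 (Tr.node (Tr.node (Tr.node (Tr.node (Tr.node Tr.leaf 49162 4
 Tr.leaf) 49164 5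
 Tr.leaf) 49167 6
 (Tr.node (Tr.node Tr.leaf 49169 4
 Tr.leaf) 49170 4
 Tr.leaf)) 49172 5
 (Tr.node (Tr.node (Tr.node Tr.leaf 49175 6
 Tr.leaf) 49176 5
 Tr.leaf) 49179 6
 (Tr.node Tr.leaf 49181 6
 Tr.leaf))) 49182 4
 (Tr.node (Tr.node (Tr.node (Tr.node Tr.leaf 49187 4
 Tr.leaf) 49189 6
 Tr.leaf) 49190 5
 (Tr.node Tr.leaf 49193 5
 Tr.leaf)) 49194 4
 (Tr.node (Tr.node (Tr.node Tr.leaf 49196 5
 Tr.leaf) 49199 6
 Tr.leaf) 49201 4
 (Tr.node Tr.leaf 49202 5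
 Tr.leaf))))) 49204 5
 (Tr.node (Tr.node (Tr.node (Tr.node (Tr.node (Tr.node Tr.leaf 49207 6
 Tr.leaf) 49208 4
 Tr.leaf) 49211 6
 (Tr.node (Tr.node Tr.leaf 49213 6
 Tr.leaf) 49214 6
 Tr.leaf)) 49219 4
 (Tr.node (Tr.node (Tr.node Tr.leaf 49221 6
 Tr.leaf) 49222 4
 Tr.leaf) 49225 4
 (Tr.node Tr.leaf 49226 4
 Tr.leaf))) 49228 6
 (Tr.node (Tr.node (Tr.node (Tr.node Tr.leaf 49231 4
 Tr.leaf) 49233 4
 Tr.leaf) 49234 5
 (Tr.node (Tr.node Tr.leaf 49236 4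
 Tr.leaf) 49239 3
 Tr.leaf)) 49240 5
 (Tr.node (Tr.node (Tr.node Tr.leaf 49243 6
 Tr.leaf) 49245 3
 Tr.leaf) 49246 4
 (Tr.node Tr.leaf 49251 4
 Tr.leaf)))) 49253 6
 (Tr.node (Tr.node (Tr.node (Tr.node (Tr.node Tr.leaf 49254 4
 Tr.leaf) 49257 4
 Tr.leaf) 49258 5
 (Tr.node (Tr.node Tr.leaf 49260 6
 Tr.leaf) 49263 4
 Tr.leaf)) 49265 4
 (Tr.node (Tr.node (Tr.node Tr.leaf 49266 4
 Tr.leaf) 49268 4
 Tr.leaf) 49271 7
 (Tr.node Tr.leaf 49272 4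
 Tr.leaf))) 49275 6
 (Tr.node (Tr.node (Tr.node (Tr.node Tr.leaf 49277 6
 Tr.leaf) 49278 6
 Tr.leaf) 49281 4
 (Tr.node Tr.leaf 49282 4
 Tr.leaf)) 49284 5
 (Tr.node (Tr.node (Tr.node Tr.leaf 49287 5
 Tr.leaf) 49288 7
 Tr.leaf) 49291 4
 (Tr.node Tr.leaf 49293 6
 Tr.leaf)))))) 49294 6
 (Tr.node (Tr.node (Tr.node (Tr.node (Tr.node (Tr.node (Tr.node Tr.leaf 49296 6
 Tr.leaf) 49299 6
 Tr.leaf) 49301 5
 (Tr.node (Tr.node Tr.leaf 49302 6
 Tr.leaf) 49305 6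
 Tr.leaf)) 49306 5
 (Tr.node (Tr.node (Tr.node Tr.leaf 49308 6
 Tr.leaf) 49311 5
 Tr.leaf) 49313 5
 (Tr.node Tr.leaf 49314 4
 Tr.leaf))) 49316 3
 (Tr.node (Tr.node (Tr.node (Tr.node Tr.leaf 49319 6
 Tr.leaf) 49320 6
 Tr.leaf) 49323 5
 (Tr.node (Tr.node Tr.leaf 49325 6
 Tr.leaf) 49326 6
 Tr.leaf)) 49328 6
 (Tr.node (Tr.node (Tr.node Tr.leaf 49331 4
 Tr.leaf) 49333 6
 Tr.leaf) 49334 5
 (Tr.node Tr.leaf 49337 6
 Tr.leaf)))) 49338 6
 (Tr.node (Tr.node (Tr.node (Tr.node (Tr.node Tr.leaf 49340 6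
 Tr.leaf) 49343 6
 Tr.leaf) 49345 4
 (Tr.node (Tr.node Tr.leaf 49346 4
 Tr.leaf) 49348 5
 Tr.leaf)) 49351 4
 (Tr.node (Tr.node (Tr.node Tr.leaf 49352 6
 Tr.leaf) 49355 6
 Tr.leaf) 49357 6
 (Tr.node Tr.leaf 49358 6
 Tr.leaf))) 49360 6
 (Tr.node (Tr.node (Tr.node (Tr.node Tr.leaf 49363 6
 Tr.leaf) 49365 6
 Tr.leaf) 49366 6
 (Tr.node Tr.leaf 49369 6
 Tr.leaf)) 49370 6
 (Tr.node (Tr.node (Tr.node Tr.leaf 49372 6
 Tr.leaf) 49375 6
 Tr.leaf) 49377 5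
 (Tr.node Tr.leaf 49378 4
 Tr.leaf))))) 49380 4
 (Tr.node (Tr.node (Tr.node (Tr.node (Tr.node (Tr.node Tr.leaf 49383 4
 Tr.leaf) 49384 7
 Tr.leaf) 49387 6
 (Tr.node (Tr.node Tr.leaf 49389 4
 Tr.leaf) 49390 6
 Tr.leaf)) 49392 6
 (Tr.node (Tr.node (Tr.node Tr.leaf 49395 6
 Tr.leaf) 49397 6
 Tr.leaf) 49398 6
 (Tr.node Tr.leaf 49401 7
 Tr.leaf))) 49402 6
 (Tr.node (Tr.node (Tr.node (Tr.node Tr.leaf 49404 6
 Tr.leaf) 49407 6
 Tr.leaf) 49409 6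
 (Tr.node Tr.leaf 49410 4
 Tr.leaf)) 49412 4
 (Tr.node (Tr.node (Tr.node Tr.leaf 49415 6
 Tr.leaf) 49416 4
 Tr.leaf) 49419 5
 (Tr.node Tr.leaf 49421 6
 Tr.leaf)))) 49422 4
 (Tr.node (Tr.node (Tr.node (Tr.node (Tr.node Tr.leaf 49424 5
 Tr.leaf) 49427 6
 Tr.leaf) 49429 6
 (Tr.node (Tr.node Tr.leaf 49430 6
 Tr.leaf) 49433 6
 Tr.leaf)) 49434 6
 (Tr.node (Tr.node (Tr.node Tr.leaf 49436 4
 Tr.leaf) 49439 6
 Tr.leaf) 49441 6
 (Tr.node Tr.leaf 49442 4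
 Tr.leaf))) 49444 4
 (Tr.node (Tr.node (Tr.node (Tr.node Tr.leaf 49447 5
 Tr.leaf) 49448 4
 Tr.leaf) 49451 7
 (Tr.node Tr.leaf 49453 6
 Tr.leaf)) 49454 7
 (Tr.node (Tr.node (Tr.node Tr.leaf 49456 6
 Tr.leaf) 49459 6
 Tr.leaf) 49461 6
 (Tr.node Tr.leaf 49462 6
 Tr.leaf))))))) 49465 4
 (Tr.node (Tr.node (Tr.node (Tr.node (Tr.node (Tr.node (Tr.node (Tr.node Tr.leaf 49466 5
 Tr.leaf) 49468 4
 Tr.leaf) 49471 5
 (Tr.node (Tr.node Tr.leaf 49473 6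
 Tr.leaf) 49474 4
 Tr.leaf)) 49476 4
 (Tr.node (Tr.node (Tr.node Tr.leaf 49479 6
 Tr.leaf) 49480 5
 Tr.leaf) 49483 6
 (Tr.node Tr.leaf 49485 6
 Tr.leaf))) 49486 6
 (Tr.node (Tr.node (Tr.node (Tr.node Tr.leaf 49488 5
 Tr.leaf) 49491 6
 Tr.leaf) 49493 4
 (Tr.node (Tr.node Tr.leaf 49494 6
 Tr.leaf) 49497 5
 Tr.leaf)) 49498 5
 (Tr.node (Tr.node (Tr.node Tr.leaf 49500 3
 Tr.leaf) 49503 6
 Tr.leaf) 49505 6
 (Tr.node Tr.leaf 49506 5
 Tr.leaf)))) 49508 4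
 (Tr.node (Tr.node (Tr.node (Tr.node (Tr.node Tr.leaf 49511 5
 Tr.leaf) 49512 4
 Tr.leaf) 49515 6
 (Tr.node (Tr.node Tr.leaf 49517 6
 Tr.leaf) 49518 6
 Tr.leaf)) 49520 6
 (Tr.node (Tr.node (Tr.node Tr.leaf 49523 6
 Tr.leaf) 49525 6
 Tr.leaf) 49526 6
 (Tr.node Tr.leaf 49529 6
 Tr.leaf))) 49530 6
 (Tr.node (Tr.node (Tr.node (Tr.node Tr.leaf 49532 5
 Tr.leaf) 49535 6
 Tr.leaf) 49539 6
 (Tr.node Tr.leaf 49541 6
 Tr.leaf)) 49542 3
 (Tr.node (Tr.node (Tr.node Tr.leaf 49545 6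
 Tr.leaf) 49546 6
 Tr.leaf) 49548 4
 (Tr.node Tr.leaf 49551 6
 Tr.leaf))))) 49553 6
 (Tr.node (Tr.node (Tr.node (Tr.node (Tr.node (Tr.node Tr.leaf 49554 6
 Tr.leaf) 49556 6
 Tr.leaf) 49559 6
 (Tr.node (Tr.node Tr.leaf 49560 6
 Tr.leaf) 49563 6
 Tr.leaf)) 49565 6
 (Tr.node (Tr.node (Tr.node Tr.leaf 49566 6
 Tr.leaf) 49571 6
 Tr.leaf) 49573 6
 (Tr.node Tr.leaf 49574 6
 Tr.leaf))) 49577 6
 (Tr.node (Tr.node (Tr.node (Tr.node Tr.leaf 49578 5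
 Tr.leaf) 49580 6
 Tr.leaf) 49583 6
 (Tr.node Tr.leaf 49585 6
 Tr.leaf)) 49586 6
 (Tr.node (Tr.node (Tr.node Tr.leaf 49588 6
 Tr.leaf) 49591 6
 Tr.leaf) 49592 6
 (Tr.node Tr.leaf 49595 6
 Tr.leaf)))) 49597 6
 (Tr.node (Tr.node (Tr.node (Tr.node (Tr.node Tr.leaf 49598 5
 Tr.leaf) 49603 5
 Tr.leaf) 49605 4
 (Tr.node (Tr.node Tr.leaf 49606 6
 Tr.leaf) 49609 5
 Tr.leaf)) 49610 4
 (Tr.node (Tr.node (Tr.node Tr.leaf 49612 6
 Tr.leaf) 49615 6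
 Tr.leaf) 49617 3
 (Tr.node Tr.leaf 49618 5
 Tr.leaf))) 49620 3
 (Tr.node (Tr.node (Tr.node (Tr.node Tr.leaf 49623 6
 Tr.leaf) 49624 6
 Tr.leaf) 49627 6
 (Tr.node Tr.leaf 49629 6
 Tr.leaf)) 49630 6
 (Tr.node (Tr.node (Tr.node Tr.leaf 49635 4
 Tr.leaf) 49637 6
 Tr.leaf) 49638 4
 (Tr.node Tr.leaf 49641 7
 Tr.leaf)))))) 49642 6
 (Tr.node (Tr.node (Tr.node (Tr.node (Tr.node (Tr.node (Tr.node Tr.leaf 49644 5
 Tr.leaf) 49647 6
 Tr.leaf) 49649 5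
 (Tr.node (Tr.node Tr.leaf 49650 5
 Tr.leaf) 49652 6
 Tr.leaf)) 49655 7
 (Tr.node (Tr.node (Tr.node Tr.leaf 49656 6
 Tr.leaf) 49659 6
 Tr.leaf) 49661 6
 (Tr.node Tr.leaf 49662 5
 Tr.leaf))) 50177 4
 (Tr.node (Tr.node (Tr.node (Tr.node Tr.leaf 50179 4
 Tr.leaf) 50189 7
 Tr.leaf) 50191 5
 (Tr.node (Tr.node Tr.leaf 50197 6
 Tr.leaf) 50199 5
 Tr.leaf)) 50201 6
 (Tr.node (Tr.node (Tr.node Tr.leaf 50203 6
 Tr.leaf) 50209 4
 Tr.leaf) 50211 5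
 (Tr.node Tr.leaf 50221 6
 Tr.leaf)))) 50223 4
 (Tr.node (Tr.node (Tr.node (Tr.node (Tr.node Tr.leaf 50229 7
 Tr.leaf) 50231 4
 Tr.leaf) 50233 4
 (Tr.node (Tr.node Tr.leaf 50235 4
 Tr.leaf) 50241 4
 Tr.leaf)) 50243 4
 (Tr.node (Tr.node (Tr.node Tr.leaf 50253 5
 Tr.leaf) 50255 6
 Tr.leaf) 50261 6
 (Tr.node Tr.leaf 50263 6
 Tr.leaf))) 50265 6
 (Tr.node (Tr.node (Tr.node (Tr.node Tr.leaf 50267 6
 Tr.leaf) 50273 5
 Tr.leaf) 50275 4
 (Tr.node Tr.leaf 50285 5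
 Tr.leaf)) 50287 6
 (Tr.node (Tr.node (Tr.node Tr.leaf 50293 5
 Tr.leaf) 50295 6
 Tr.leaf) 50297 6
 (Tr.node Tr.leaf 50299 6
 Tr.leaf))))) 50309 4
 (Tr.node (Tr.node (Tr.node (Tr.node (Tr.node (Tr.node Tr.leaf 50311 5
 Tr.leaf) 50313 6
 Tr.leaf) 50315 6
 (Tr.node (Tr.node Tr.leaf 50321 6
 Tr.leaf) 50323 6
 Tr.leaf)) 50333 6
 (Tr.node (Tr.node (Tr.node Tr.leaf 50335 6
 Tr.leaf) 50341 6
 Tr.leaf) 50343 6
 (Tr.node Tr.leaf 50345 6
 Tr.leaf))) 50347 6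
 (Tr.node (Tr.node (Tr.node (Tr.node Tr.leaf 50353 6
 Tr.leaf) 50355 6
 Tr.leaf) 50365 6
 (Tr.node Tr.leaf 50367 6
 Tr.leaf)) 50373 6
 (Tr.node (Tr.node (Tr.node Tr.leaf 50375 6
 Tr.leaf) 50377 5
 Tr.leaf) 50379 6
 (Tr.node Tr.leaf 50385 6
 Tr.leaf)))) 50387 4
 (Tr.node (Tr.node (Tr.node (Tr.node (Tr.node Tr.leaf 50397 6
 Tr.leaf) 50399 6
 Tr.leaf) 50405 6
 (Tr.node (Tr.node Tr.leaf 50407 5
 Tr.leaf) 50409 6
 Tr.leaf)) 50411 4
 (Tr.node (Tr.node (Tr.node Tr.leaf 50417 6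
 Tr.leaf) 50419 6
 Tr.leaf) 50429 5
 (Tr.node Tr.leaf 50431 6
 Tr.leaf))) 50437 6
 (Tr.node (Tr.node (Tr.node (Tr.node Tr.leaf 50439 4
 Tr.leaf) 50441 6
 Tr.leaf) 50443 5
 (Tr.node Tr.leaf 50449 5
 Tr.leaf)) 50451 6
 (Tr.node (Tr.node (Tr.node Tr.leaf 50461 6
 Tr.leaf) 50463 6
 Tr.leaf) 50469 6
 (Tr.node Tr.leaf 50471 7
 Tr.leaf)))))))) 50473 6
 (Tr.node (Tr.node (Tr.node (Tr.node (Tr.node (Tr.node (Tr.node (Tr.node (Tr.node Tr.leaf 50475 5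
 Tr.leaf) 50481 6
 Tr.leaf) 50483 6
 (Tr.node (Tr.node Tr.leaf 50493 6
 Tr.leaf) 50495 6
 Tr.leaf)) 50501 6
 (Tr.node (Tr.node (Tr.node Tr.leaf 50503 4
 Tr.leaf) 50505 5
 Tr.leaf) 50507 6
 (Tr.node Tr.leaf 50513 6
 Tr.leaf))) 50515 6
 (Tr.node (Tr.node (Tr.node (Tr.node Tr.leaf 50525 6
 Tr.leaf) 50527 6
 Tr.leaf) 50533 6
 (Tr.node (Tr.node Tr.leaf 50535 6
 Tr.leaf) 50537 6
 Tr.leaf)) 50539 6
 (Tr.node (Tr.node (Tr.node Tr.leaf 50545 6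
 Tr.leaf) 50547 5
 Tr.leaf) 50557 6
 (Tr.node Tr.leaf 50559 6
 Tr.leaf)))) 50561 6
 (Tr.node (Tr.node (Tr.node (Tr.node (Tr.node Tr.leaf 50563 6
 Tr.leaf) 50573 6
 Tr.leaf) 50575 6
 (Tr.node (Tr.node Tr.leaf 50581 6
 Tr.leaf) 50583 6
 Tr.leaf)) 50585 6
 (Tr.node (Tr.node (Tr.node Tr.leaf 50587 6
 Tr.leaf) 50593 4
 Tr.leaf) 50595 6
 (Tr.node Tr.leaf 50605 6
 Tr.leaf))) 50607 6
 (Tr.node (Tr.node (Tr.node (Tr.node Tr.leaf 50613 6
 Tr.leaf) 50615 6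
 Tr.leaf) 50617 6
 (Tr.node Tr.leaf 50619 6
 Tr.leaf)) 50625 6
 (Tr.node (Tr.node (Tr.node Tr.leaf 50627 6
 Tr.leaf) 50637 5
 Tr.leaf) 50639 6
 (Tr.node Tr.leaf 50645 6
 Tr.leaf))))) 50647 6
 (Tr.node (Tr.node (Tr.node (Tr.node (Tr.node (Tr.node Tr.leaf 50649 6
 Tr.leaf) 50651 6
 Tr.leaf) 50657 6
 (Tr.node (Tr.node Tr.leaf 50659 6
 Tr.leaf) 50669 6
 Tr.leaf)) 50671 7
 (Tr.node (Tr.node (Tr.node Tr.leaf 50677 6
 Tr.leaf) 50679 6
 Tr.leaf) 50681 6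
 (Tr.node Tr.leaf 50683 6
 Tr.leaf))) 51201 5
 (Tr.node (Tr.node (Tr.node (Tr.node Tr.leaf 51202 4
 Tr.leaf) 51205 6
 Tr.leaf) 51206 4
 (Tr.node (Tr.node Tr.leaf 51211 6
 Tr.leaf) 51215 4
 Tr.leaf)) 51219 5
 (Tr.node (Tr.node (Tr.node Tr.leaf 51223 6
 Tr.leaf) 51225 6
 Tr.leaf) 51226 6
 (Tr.node Tr.leaf 51229 6
 Tr.leaf)))) 51230 5
 (Tr.node (Tr.node (Tr.node (Tr.node (Tr.node Tr.leaf 51233 6
 Tr.leaf) 51234 5
 Tr.leaf) 51237 6
 (Tr.node (Tr.node Tr.leaf 51238 5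
 Tr.leaf) 51243 6
 Tr.leaf)) 51247 5
 (Tr.node (Tr.node (Tr.node Tr.leaf 51251 5
 Tr.leaf) 51255 6
 Tr.leaf) 51257 6
 (Tr.node Tr.leaf 51258 5
 Tr.leaf))) 51261 6
 (Tr.node (Tr.node (Tr.node (Tr.node Tr.leaf 51262 6
 Tr.leaf) 51265 6
 Tr.leaf) 51266 5
 (Tr.node Tr.leaf 51269 6
 Tr.leaf)) 51270 5
 (Tr.node (Tr.node (Tr.node Tr.leaf 51275 6
 Tr.leaf) 51279 6
 Tr.leaf) 51283 6
 (Tr.node Tr.leaf 51287 6
 Tr.leaf)))))) 51289 6
 (Tr.node (Tr.node (Tr.node (Tr.node (Tr.node (Tr.node (Tr.node Tr.leaf 51290 6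
 Tr.leaf) 51293 4
 Tr.leaf) 51294 6
 (Tr.node (Tr.node Tr.leaf 51297 6
 Tr.leaf) 51298 4
 Tr.leaf)) 51301 6
 (Tr.node (Tr.node (Tr.node Tr.leaf 51302 4
 Tr.leaf) 51307 6
 Tr.leaf) 51311 6
 (Tr.node Tr.leaf 51315 6
 Tr.leaf))) 51319 5
 (Tr.node (Tr.node (Tr.node (Tr.node Tr.leaf 51321 6
 Tr.leaf) 51322 5
 Tr.leaf) 51325 6
 (Tr.node (Tr.node Tr.leaf 51326 6
 Tr.leaf) 51331 6
 Tr.leaf)) 51335 6
 (Tr.node (Tr.node (Tr.node Tr.leaf 51337 6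
 Tr.leaf) 51338 6
 Tr.leaf) 51341 4
 (Tr.node Tr.leaf 51342 6
 Tr.leaf)))) 51345 6
 (Tr.node (Tr.node (Tr.node (Tr.node (Tr.node Tr.leaf 51346 6
 Tr.leaf) 51349 6
 Tr.leaf) 51350 6
 (Tr.node (Tr.node Tr.leaf 51355 6
 Tr.leaf) 51359 5
 Tr.leaf)) 51363 6
 (Tr.node (Tr.node (Tr.node Tr.leaf 51367 5
 Tr.leaf) 51369 7
 Tr.leaf) 51370 6
 (Tr.node Tr.leaf 51373 6
 Tr.leaf))) 51374 6
 (Tr.node (Tr.node (Tr.node (Tr.node Tr.leaf 51377 5
 Tr.leaf) 51378 6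
 Tr.leaf) 51381 6
 (Tr.node Tr.leaf 51382 3
 Tr.leaf)) 51387 6
 (Tr.node (Tr.node (Tr.node Tr.leaf 51391 7
 Tr.leaf) 51395 4
 Tr.leaf) 51399 6
 (Tr.node Tr.leaf 51401 5
 Tr.leaf))))) 51402 6
 (Tr.node (Tr.node (Tr.node (Tr.node (Tr.node (Tr.node Tr.leaf 51405 6
 Tr.leaf) 51406 6
 Tr.leaf) 51409 6
 (Tr.node (Tr.node Tr.leaf 51410 3
 Tr.leaf) 51413 6
 Tr.leaf)) 51414 6
 (Tr.node (Tr.node (Tr.node Tr.leaf 51419 5
 Tr.leaf) 51423 6
 Tr.leaf) 51427 5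
 (Tr.node Tr.leaf 51431 5
 Tr.leaf))) 51433 5
 (Tr.node (Tr.node (Tr.node (Tr.node Tr.leaf 51434 6
 Tr.leaf) 51437 6
 Tr.leaf) 51438 6
 (Tr.node Tr.leaf 51441 6
 Tr.leaf)) 51442 6
 (Tr.node (Tr.node (Tr.node Tr.leaf 51445 6
 Tr.leaf) 51446 4
 Tr.leaf) 51451 6
 (Tr.node Tr.leaf 51455 6
 Tr.leaf)))) 51459 6
 (Tr.node (Tr.node (Tr.node (Tr.node (Tr.node Tr.leaf 51463 6
 Tr.leaf) 51465 6
 Tr.leaf) 51466 5
 (Tr.node (Tr.node Tr.leaf 51469 6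
 Tr.leaf) 51470 4
 Tr.leaf)) 51473 6
 (Tr.node (Tr.node (Tr.node Tr.leaf 51474 6
 Tr.leaf) 51477 6
 Tr.leaf) 51478 5
 (Tr.node Tr.leaf 51483 6
 Tr.leaf))) 51487 5
 (Tr.node (Tr.node (Tr.node (Tr.node Tr.leaf 51491 4
 Tr.leaf) 51495 6
 Tr.leaf) 51497 6
 (Tr.node Tr.leaf 51498 6
 Tr.leaf)) 51501 6
 (Tr.node (Tr.node (Tr.node Tr.leaf 51502 6
 Tr.leaf) 51505 4
 Tr.leaf) 51506 6
 (Tr.node Tr.leaf 51509 6
 Tr.leaf))))))) 51510 5
 (Tr.node (Tr.node (Tr.node (Tr.node (Tr.node (Tr.node (Tr.node (Tr.node Tr.leaf 51515 6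
 Tr.leaf) 51519 6
 Tr.leaf) 51523 6
 (Tr.node (Tr.node Tr.leaf 51527 6
 Tr.leaf) 51529 5
 Tr.leaf)) 51530 7
 (Tr.node (Tr.node (Tr.node Tr.leaf 51533 6
 Tr.leaf) 51534 6
 Tr.leaf) 51537 6
 (Tr.node Tr.leaf 51538 4
 Tr.leaf))) 51541 6
 (Tr.node (Tr.node (Tr.node (Tr.node Tr.leaf 51542 6
 Tr.leaf) 51547 5
 Tr.leaf) 51551 6
 (Tr.node (Tr.node Tr.leaf 51555 6
 Tr.leaf) 51559 4
 Tr.leaf)) 51561 6
 (Tr.node (Tr.node (Tr.node Tr.leaf 51562 6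
 Tr.leaf) 51565 6
 Tr.leaf) 51566 6
 (Tr.node Tr.leaf 51569 6
 Tr.leaf)))) 51570 6
 (Tr.node (Tr.node (Tr.node (Tr.node (Tr.node Tr.leaf 51573 6
 Tr.leaf) 51574 5
 Tr.leaf) 51579 5
 (Tr.node (Tr.node Tr.leaf 51583 6
 Tr.leaf) 51585 6
 Tr.leaf)) 51586 6
 (Tr.node (Tr.node (Tr.node Tr.leaf 51589 6
 Tr.leaf) 51590 6
 Tr.leaf) 51595 6
 (Tr.node Tr.leaf 51599 6
 Tr.leaf))) 51603 6
 (Tr.node (Tr.node (Tr.node (Tr.node Tr.leaf 51607 5
 Tr.leaf) 51609 6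
 Tr.leaf) 51610 5
 (Tr.node Tr.leaf 51613 6
 Tr.leaf)) 51614 6
 (Tr.node (Tr.node (Tr.node Tr.leaf 51617 5
 Tr.leaf) 51618 5
 Tr.leaf) 51621 5
 (Tr.node Tr.leaf 51622 6
 Tr.leaf))))) 51627 6
 (Tr.node (Tr.node (Tr.node (Tr.node (Tr.node (Tr.node Tr.leaf 51631 6
 Tr.leaf) 51635 6
 Tr.leaf) 51639 6
 (Tr.node (Tr.node Tr.leaf 51641 6
 Tr.leaf) 51642 5
 Tr.leaf)) 51645 5
 (Tr.node (Tr.node (Tr.node Tr.leaf 51646 4
 Tr.leaf) 51649 5
 Tr.leaf) 51650 4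
 (Tr.node Tr.leaf 51653 6
 Tr.leaf))) 51654 6
 (Tr.node (Tr.node (Tr.node (Tr.node Tr.leaf 51659 6
 Tr.leaf) 51663 6
 Tr.leaf) 51667 6
 (Tr.node Tr.leaf 51671 6
 Tr.leaf)) 51673 6
 (Tr.node (Tr.node (Tr.node Tr.leaf 51674 6
 Tr.leaf) 51677 6
 Tr.leaf) 51678 6
 (Tr.node Tr.leaf 51681 6
 Tr.leaf)))) 51682 6
 (Tr.node (Tr.node (Tr.node (Tr.node (Tr.node Tr.leaf 51685 5
 Tr.leaf) 51686 6
 Tr.leaf) 51691 5
 (Tr.node (Tr.node Tr.leaf 51695 6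
 Tr.leaf) 51699 6
 Tr.leaf)) 51703 6
 (Tr.node (Tr.node (Tr.node Tr.leaf 51705 6
 Tr.leaf) 51706 6
 Tr.leaf) 51709 5
 (Tr.node Tr.leaf 51710 6
 Tr.leaf))) 52233 5
 (Tr.node (Tr.node (Tr.node (Tr.node Tr.leaf 52235 6
 Tr.leaf) 52237 6
 Tr.leaf) 52239 7
 (Tr.node Tr.leaf 52241 5
 Tr.leaf)) 52243 6
 (Tr.node (Tr.node (Tr.node Tr.leaf 52245 5
 Tr.leaf) 52247 6
 Tr.leaf) 52265 5
 (Tr.node Tr.leaf 52267 6
 Tr.leaf)))))) 52269 6
 (Tr.node (Tr.node (Tr.node (Tr.node (Tr.node (Tr.node (Tr.node Tr.leaf 52271 6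
 Tr.leaf) 52273 6
 Tr.leaf) 52275 6
 (Tr.node (Tr.node Tr.leaf 52277 4
 Tr.leaf) 52279 6
 Tr.leaf)) 52297 5
 (Tr.node (Tr.node (Tr.node Tr.leaf 52299 6
 Tr.leaf) 52301 4
 Tr.leaf) 52303 6
 (Tr.node Tr.leaf 52305 4
 Tr.leaf))) 52307 6
 (Tr.node (Tr.node (Tr.node (Tr.node Tr.leaf 52309 6
 Tr.leaf) 52311 5
 Tr.leaf) 52329 6
 (Tr.node (Tr.node Tr.leaf 52331 4
 Tr.leaf) 52333 5
 Tr.leaf)) 52335 6
 (Tr.node (Tr.node (Tr.node Tr.leaf 52337 6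
 Tr.leaf) 52339 5
 Tr.leaf) 52341 6
 (Tr.node Tr.leaf 52343 6
 Tr.leaf)))) 52353 6
 (Tr.node (Tr.node (Tr.node (Tr.node (Tr.node Tr.leaf 52355 7
 Tr.leaf) 52357 4
 Tr.leaf) 52359 6
 (Tr.node (Tr.node Tr.leaf 52377 6
 Tr.leaf) 52379 6
 Tr.leaf)) 52381 6
 (Tr.node (Tr.node (Tr.node Tr.leaf 52383 6
 Tr.leaf) 52385 5
 Tr.leaf) 52387 6
 (Tr.node Tr.leaf 52389 4
 Tr.leaf))) 52391 6
 (Tr.node (Tr.node (Tr.node (Tr.node Tr.leaf 52409 6
 Tr.leaf) 52411 6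
 Tr.leaf) 52413 6
 (Tr.node Tr.leaf 52415 6
 Tr.leaf)) 52417 5
 (Tr.node (Tr.node (Tr.node Tr.leaf 52419 5
 Tr.leaf) 52421 6
 Tr.leaf) 52423 6
 (Tr.node Tr.leaf 52441 6
 Tr.leaf))))) 52443 6
 (Tr.node (Tr.node (Tr.node (Tr.node (Tr.node (Tr.node Tr.leaf 52445 5
 Tr.leaf) 52447 6
 Tr.leaf) 52449 6
 (Tr.node (Tr.node Tr.leaf 52451 6
 Tr.leaf) 52453 6
 Tr.leaf)) 52455 6
 (Tr.node (Tr.node (Tr.node Tr.leaf 52473 5
 Tr.leaf) 52475 6
 Tr.leaf) 52477 5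
 (Tr.node Tr.leaf 52479 6
 Tr.leaf))) 52481 5
 (Tr.node (Tr.node (Tr.node (Tr.node Tr.leaf 52483 5
 Tr.leaf) 52485 6
 Tr.leaf) 52487 6
 (Tr.node Tr.leaf 52505 5
 Tr.leaf)) 52507 6
 (Tr.node (Tr.node (Tr.node Tr.leaf 52509 6
 Tr.leaf) 52511 6
 Tr.leaf) 52513 6
 (Tr.node Tr.leaf 52515 6
 Tr.leaf)))) 52517 6
 (Tr.node (Tr.node (Tr.node (Tr.node (Tr.node Tr.leaf 52519 6
 Tr.leaf) 52537 5
 Tr.leaf) 52539 6
 (Tr.node (Tr.node Tr.leaf 52541 6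
 Tr.leaf) 52543 6
 Tr.leaf)) 52545 6
 (Tr.node (Tr.node (Tr.node Tr.leaf 52547 6
 Tr.leaf) 52549 6
 Tr.leaf) 52551 4
 (Tr.node Tr.leaf 52569 6
 Tr.leaf))) 52571 6
 (Tr.node (Tr.node (Tr.node (Tr.node Tr.leaf 52573 6
 Tr.leaf) 52575 6
 Tr.leaf) 52577 5
 (Tr.node Tr.leaf 52579 6
 Tr.leaf)) 52581 6
 (Tr.node (Tr.node (Tr.node Tr.leaf 52583 6
 Tr.leaf) 52601 6
 Tr.leaf) 52603 5
 (Tr.node Tr.leaf 52605 5
 Tr.leaf)))))))))

/-- A subtree. -/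
def tr2_s13 : Tr := (Tr.node (Tr.node (Tr.node (Tr.node (Tr.node (Tr.node (Tr.node (Tr.node (Tr.node (Tr.node Tr.leaf 52617 6
 Tr.leaf) 52619 6
 Tr.leaf) 52621 5
 (Tr.node (Tr.node Tr.leaf 52623 6
 Tr.leaf) 52625 6
 Tr.leaf)) 52627 5
 (Tr.node (Tr.node (Tr.node Tr.leaf 52629 6
 Tr.leaf) 52631 6
 Tr.leaf) 52649 6
 (Tr.node Tr.leaf 52651 5
 Tr.leaf))) 52653 5
 (Tr.node (Tr.node (Tr.node (Tr.node Tr.leaf 52655 5
 Tr.leaf) 52657 6
 Tr.leaf) 52659 6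
 (Tr.node (Tr.node Tr.leaf 52661 6
 Tr.leaf) 52663 6
 Tr.leaf)) 52681 6
 (Tr.node (Tr.node (Tr.node Tr.leaf 52683 6
 Tr.leaf) 52685 6
 Tr.leaf) 52687 6
 (Tr.node Tr.leaf 52689 5
 Tr.leaf)))) 52691 6
 (Tr.node (Tr.node (Tr.node (Tr.node (Tr.node Tr.leaf 52693 6
 Tr.leaf) 52695 5
 Tr.leaf) 52713 5
 (Tr.node (Tr.node Tr.leaf 52715 6
 Tr.leaf) 52717 6
 Tr.leaf)) 52719 5
 (Tr.node (Tr.node (Tr.node Tr.leaf 52721 5
 Tr.leaf) 52723 6
 Tr.leaf) 52725 6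
 (Tr.node Tr.leaf 52727 7
 Tr.leaf))) 53249 4
 (Tr.node (Tr.node (Tr.node (Tr.node Tr.leaf 53250 4
 Tr.leaf) 53252 6
 Tr.leaf) 53255 6
 (Tr.node Tr.leaf 53257 4
 Tr.leaf)) 53258 4
 (Tr.node (Tr.node (Tr.node Tr.leaf 53260 6
 Tr.leaf) 53263 6
 Tr.leaf) 53267 6
 (Tr.node Tr.leaf 53269 6
 Tr.leaf))))) 53270 4
 (Tr.node (Tr.node (Tr.node (Tr.node (Tr.node (Tr.node Tr.leaf 53275 6
 Tr.leaf) 53277 6
 Tr.leaf) 53278 5
 (Tr.node (Tr.node Tr.leaf 53281 4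
 Tr.leaf) 53282 4
 Tr.leaf)) 53284 6
 (Tr.node (Tr.node (Tr.node Tr.leaf 53287 4
 Tr.leaf) 53289 4
 Tr.leaf) 53290 4
 (Tr.node Tr.leaf 53292 6
 Tr.leaf))) 53295 5
 (Tr.node (Tr.node (Tr.node (Tr.node Tr.leaf 53299 5
 Tr.leaf) 53301 7
 Tr.leaf) 53302 6
 (Tr.node (Tr.node Tr.leaf 53307 4
 Tr.leaf) 53309 6
 Tr.leaf)) 53310 6
 (Tr.node (Tr.node (Tr.node Tr.leaf 53313 4
 Tr.leaf) 53314 4
 Tr.leaf) 53316 6
 (Tr.node Tr.leaf 53319 6
 Tr.leaf)))) 53321 4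
 (Tr.node (Tr.node (Tr.node (Tr.node (Tr.node Tr.leaf 53322 4
 Tr.leaf) 53324 5
 Tr.leaf) 53327 6
 (Tr.node (Tr.node Tr.leaf 53331 6
 Tr.leaf) 53333 6
 Tr.leaf)) 53334 5
 (Tr.node (Tr.node (Tr.node Tr.leaf 53339 5
 Tr.leaf) 53341 4
 Tr.leaf) 53342 4
 (Tr.node Tr.leaf 53345 4
 Tr.leaf))) 53346 5
 (Tr.node (Tr.node (Tr.node (Tr.node Tr.leaf 53348 6
 Tr.leaf) 53351 6
 Tr.leaf) 53353 5
 (Tr.node Tr.leaf 53354 5
 Tr.leaf)) 53356 5
 (Tr.node (Tr.node (Tr.node Tr.leaf 53359 6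
 Tr.leaf) 53363 6
 Tr.leaf) 53365 6
 (Tr.node Tr.leaf 53366 6
 Tr.leaf)))))) 53371 6
 (Tr.node (Tr.node (Tr.node (Tr.node (Tr.node (Tr.node (Tr.node Tr.leaf 53373 6
 Tr.leaf) 53374 6
 Tr.leaf) 53379 6
 (Tr.node (Tr.node Tr.leaf 53381 5
 Tr.leaf) 53382 6
 Tr.leaf)) 53387 4
 (Tr.node (Tr.node (Tr.node Tr.leaf 53389 5
 Tr.leaf) 53390 6
 Tr.leaf) 53393 5
 (Tr.node Tr.leaf 53394 6
 Tr.leaf))) 53396 3
 (Tr.node (Tr.node (Tr.node (Tr.node Tr.leaf 53399 6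
 Tr.leaf) 53401 7
 Tr.leaf) 53402 5
 (Tr.node (Tr.node Tr.leaf 53404 6
 Tr.leaf) 53407 6
 Tr.leaf)) 53411 4
 (Tr.node (Tr.node (Tr.node Tr.leaf 53413 6
 Tr.leaf) 53414 6
 Tr.leaf) 53419 5
 (Tr.node Tr.leaf 53421 7
 Tr.leaf)))) 53422 6
 (Tr.node (Tr.node (Tr.node (Tr.node (Tr.node Tr.leaf 53425 5
 Tr.leaf) 53426 4
 Tr.leaf) 53428 5
 (Tr.node (Tr.node Tr.leaf 53431 6
 Tr.leaf) 53433 6
 Tr.leaf)) 53434 6
 (Tr.node (Tr.node (Tr.node Tr.leaf 53436 6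
 Tr.leaf) 53439 6
 Tr.leaf) 53443 6
 (Tr.node Tr.leaf 53445 6
 Tr.leaf))) 53446 6
 (Tr.node (Tr.node (Tr.node (Tr.node Tr.leaf 53451 6
 Tr.leaf) 53453 4
 Tr.leaf) 53454 6
 (Tr.node Tr.leaf 53457 4
 Tr.leaf)) 53458 6
 (Tr.node (Tr.node (Tr.node Tr.leaf 53460 5
 Tr.leaf) 53463 7
 Tr.leaf) 53465 3
 (Tr.node Tr.leaf 53466 4
 Tr.leaf))))) 53468 3
 (Tr.node (Tr.node (Tr.node (Tr.node (Tr.node (Tr.node Tr.leaf 53471 6
 Tr.leaf) 53475 5
 Tr.leaf) 53477 5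
 (Tr.node (Tr.node Tr.leaf 53478 6
 Tr.leaf) 53483 6
 Tr.leaf)) 53485 6
 (Tr.node (Tr.node (Tr.node Tr.leaf 53486 6
 Tr.leaf) 53489 6
 Tr.leaf) 53490 4
 (Tr.node Tr.leaf 53492 6
 Tr.leaf))) 53495 6
 (Tr.node (Tr.node (Tr.node (Tr.node Tr.leaf 53497 6
 Tr.leaf) 53498 6
 Tr.leaf) 53500 3
 (Tr.node Tr.leaf 53503 5
 Tr.leaf)) 53507 6
 (Tr.node (Tr.node (Tr.node Tr.leaf 53509 6
 Tr.leaf) 53510 6
 Tr.leaf) 53515 5
 (Tr.node Tr.leaf 53517 6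
 Tr.leaf)))) 53518 6
 (Tr.node (Tr.node (Tr.node (Tr.node (Tr.node Tr.leaf 53521 7
 Tr.leaf) 53522 6
 Tr.leaf) 53524 6
 (Tr.node (Tr.node Tr.leaf 53527 5
 Tr.leaf) 53529 5
 Tr.leaf)) 53530 6
 (Tr.node (Tr.node (Tr.node Tr.leaf 53532 6
 Tr.leaf) 53535 6
 Tr.leaf) 53539 4
 (Tr.node Tr.leaf 53541 6
 Tr.leaf))) 53542 5
 (Tr.node (Tr.node (Tr.node (Tr.node Tr.leaf 53547 6
 Tr.leaf) 53549 6
 Tr.leaf) 53550 6
 (Tr.node Tr.leaf 53553 4
 Tr.leaf)) 53554 6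
 (Tr.node (Tr.node (Tr.node Tr.leaf 53556 6
 Tr.leaf) 53559 6
 Tr.leaf) 53561 5
 (Tr.node Tr.leaf 53562 5
 Tr.leaf))))))) 53564 6
 (Tr.node (Tr.node (Tr.node (Tr.node (Tr.node (Tr.node (Tr.node (Tr.node Tr.leaf 53567 6
 Tr.leaf) 53571 4
 Tr.leaf) 53573 6
 (Tr.node (Tr.node Tr.leaf 53574 5
 Tr.leaf) 53579 6
 Tr.leaf)) 53581 6
 (Tr.node (Tr.node (Tr.node Tr.leaf 53582 6
 Tr.leaf) 53585 6
 Tr.leaf) 53586 6
 (Tr.node Tr.leaf 53588 6
 Tr.leaf))) 53591 5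
 (Tr.node (Tr.node (Tr.node (Tr.node Tr.leaf 53593 6
 Tr.leaf) 53594 6
 Tr.leaf) 53596 6
 (Tr.node (Tr.node Tr.leaf 53599 6
 Tr.leaf) 53603 6
 Tr.leaf)) 53605 6
 (Tr.node (Tr.node (Tr.node Tr.leaf 53606 6
 Tr.leaf) 53611 5
 Tr.leaf) 53613 6
 (Tr.node Tr.leaf 53614 4
 Tr.leaf)))) 53617 5
 (Tr.node (Tr.node (Tr.node (Tr.node (Tr.node Tr.leaf 53618 4
 Tr.leaf) 53620 6
 Tr.leaf) 53623 5
 (Tr.node (Tr.node Tr.leaf 53625 6
 Tr.leaf) 53626 6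
 Tr.leaf)) 53628 6
 (Tr.node (Tr.node (Tr.node Tr.leaf 53631 6
 Tr.leaf) 53633 6
 Tr.leaf) 53634 5
 (Tr.node Tr.leaf 53636 6
 Tr.leaf))) 53639 6
 (Tr.node (Tr.node (Tr.node (Tr.node Tr.leaf 53641 5
 Tr.leaf) 53642 3
 Tr.leaf) 53644 3
 (Tr.node Tr.leaf 53647 6
 Tr.leaf)) 53651 6
 (Tr.node (Tr.node (Tr.node Tr.leaf 53653 6
 Tr.leaf) 53654 5
 Tr.leaf) 53659 6
 (Tr.node Tr.leaf 53661 6
 Tr.leaf))))) 53662 6
 (Tr.node (Tr.node (Tr.node (Tr.node (Tr.node (Tr.node Tr.leaf 53665 4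
 Tr.leaf) 53666 6
 Tr.leaf) 53668 6
 (Tr.node (Tr.node Tr.leaf 53671 6
 Tr.leaf) 53673 6
 Tr.leaf)) 53674 6
 (Tr.node (Tr.node (Tr.node Tr.leaf 53676 6
 Tr.leaf) 53679 6
 Tr.leaf) 53683 5
 (Tr.node Tr.leaf 53685 6
 Tr.leaf))) 53686 5
 (Tr.node (Tr.node (Tr.node (Tr.node Tr.leaf 53691 6
 Tr.leaf) 53693 5
 Tr.leaf) 53694 6
 (Tr.node Tr.leaf 53697 4
 Tr.leaf)) 53698 6
 (Tr.node (Tr.node (Tr.node Tr.leaf 53700 6
 Tr.leaf) 53703 6
 Tr.leaf) 53705 5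
 (Tr.node Tr.leaf 53706 6
 Tr.leaf)))) 53708 6
 (Tr.node (Tr.node (Tr.node (Tr.node (Tr.node Tr.leaf 53711 6
 Tr.leaf) 53715 6
 Tr.leaf) 53717 6
 (Tr.node (Tr.node Tr.leaf 53718 5
 Tr.leaf) 53723 6
 Tr.leaf)) 53725 6
 (Tr.node (Tr.node (Tr.node Tr.leaf 53726 6
 Tr.leaf) 53729 4
 Tr.leaf) 53730 3
 (Tr.node Tr.leaf 53732 3
 Tr.leaf))) 53735 6
 (Tr.node (Tr.node (Tr.node (Tr.node Tr.leaf 53737 6
 Tr.leaf) 53738 6
 Tr.leaf) 53740 5
 (Tr.node Tr.leaf 53743 6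
 Tr.leaf)) 53747 6
 (Tr.node (Tr.node (Tr.node Tr.leaf 53749 6
 Tr.leaf) 53750 6
 Tr.leaf) 53755 6
 (Tr.node Tr.leaf 53757 6
 Tr.leaf)))))) 53758 6
 (Tr.node (Tr.node (Tr.node (Tr.node (Tr.node (Tr.node (Tr.node Tr.leaf 54277 6
 Tr.leaf) 54279 6
 Tr.leaf) 54285 5
 (Tr.node (Tr.node Tr.leaf 54287 6
 Tr.leaf) 54289 6
 Tr.leaf)) 54291 6
 (Tr.node (Tr.node (Tr.node Tr.leaf 54297 6
 Tr.leaf) 54299 6
 Tr.leaf) 54309 6
 (Tr.node Tr.leaf 54311 6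
 Tr.leaf))) 54317 6
 (Tr.node (Tr.node (Tr.node (Tr.node Tr.leaf 54319 6
 Tr.leaf) 54321 5
 Tr.leaf) 54323 6
 (Tr.node (Tr.node Tr.leaf 54329 6
 Tr.leaf) 54331 4
 Tr.leaf)) 54341 5
 (Tr.node (Tr.node (Tr.node Tr.leaf 54343 6
 Tr.leaf) 54349 6
 Tr.leaf) 54351 4
 (Tr.node Tr.leaf 54353 6
 Tr.leaf)))) 54355 6
 (Tr.node (Tr.node (Tr.node (Tr.node (Tr.node Tr.leaf 54361 5
 Tr.leaf) 54363 6
 Tr.leaf) 54373 4
 (Tr.node (Tr.node Tr.leaf 54375 6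
 Tr.leaf) 54381 5
 Tr.leaf)) 54383 5
 (Tr.node (Tr.node (Tr.node Tr.leaf 54385 6
 Tr.leaf) 54387 6
 Tr.leaf) 54393 6
 (Tr.node Tr.leaf 54395 5
 Tr.leaf))) 54401 6
 (Tr.node (Tr.node (Tr.node (Tr.node Tr.leaf 54403 5
 Tr.leaf) 54409 6
 Tr.leaf) 54411 6
 (Tr.node Tr.leaf 54421 5
 Tr.leaf)) 54423 5
 (Tr.node (Tr.node (Tr.node Tr.leaf 54429 5
 Tr.leaf) 54431 6
 Tr.leaf) 54433 6
 (Tr.node Tr.leaf 54435 6
 Tr.leaf))))) 54441 5
 (Tr.node (Tr.node (Tr.node (Tr.node (Tr.node (Tr.node Tr.leaf 54443 7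
 Tr.leaf) 54453 6
 Tr.leaf) 54455 6
 (Tr.node (Tr.node Tr.leaf 54461 6
 Tr.leaf) 54463 6
 Tr.leaf)) 54465 6
 (Tr.node (Tr.node (Tr.node Tr.leaf 54467 5
 Tr.leaf) 54473 6
 Tr.leaf) 54475 4
 (Tr.node Tr.leaf 54485 6
 Tr.leaf))) 54487 5
 (Tr.node (Tr.node (Tr.node (Tr.node Tr.leaf 54493 5
 Tr.leaf) 54495 6
 Tr.leaf) 54497 6
 (Tr.node Tr.leaf 54499 5
 Tr.leaf)) 54505 6
 (Tr.node (Tr.node (Tr.node Tr.leaf 54507 6
 Tr.leaf) 54517 7
 Tr.leaf) 54519 6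
 (Tr.node Tr.leaf 54525 6
 Tr.leaf)))) 54527 7
 (Tr.node (Tr.node (Tr.node (Tr.node (Tr.node Tr.leaf 54529 6
 Tr.leaf) 54531 6
 Tr.leaf) 54537 5
 (Tr.node (Tr.node Tr.leaf 54539 6
 Tr.leaf) 54549 5
 Tr.leaf)) 54551 6
 (Tr.node (Tr.node (Tr.node Tr.leaf 54557 5
 Tr.leaf) 54559 6
 Tr.leaf) 54561 4
 (Tr.node Tr.leaf 54563 6
 Tr.leaf))) 54569 6
 (Tr.node (Tr.node (Tr.node (Tr.node Tr.leaf 54571 6
 Tr.leaf) 54581 6
 Tr.leaf) 54583 6
 (Tr.node Tr.leaf 54589 6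
 Tr.leaf)) 54591 6
 (Tr.node (Tr.node (Tr.node Tr.leaf 54593 6
 Tr.leaf) 54595 4
 Tr.leaf) 54601 6
 (Tr.node Tr.leaf 54603 6
 Tr.leaf)))))))) 54613 5
 (Tr.node (Tr.node (Tr.node (Tr.node (Tr.node (Tr.node (Tr.node (Tr.node (Tr.node Tr.leaf 54615 6
 Tr.leaf) 54621 6
 Tr.leaf) 54623 6
 (Tr.node (Tr.node Tr.leaf 54625 6
 Tr.leaf) 54627 5
 Tr.leaf)) 54633 5
 (Tr.node (Tr.node (Tr.node Tr.leaf 54635 5
 Tr.leaf) 54645 6
 Tr.leaf) 54647 6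
 (Tr.node Tr.leaf 54653 6
 Tr.leaf))) 54655 5
 (Tr.node (Tr.node (Tr.node (Tr.node Tr.leaf 54661 6
 Tr.leaf) 54663 6
 Tr.leaf) 54669 6
 (Tr.node (Tr.node Tr.leaf 54671 6
 Tr.leaf) 54673 7
 Tr.leaf)) 54675 6
 (Tr.node (Tr.node (Tr.node Tr.leaf 54681 6
 Tr.leaf) 54683 6
 Tr.leaf) 54693 6
 (Tr.node Tr.leaf 54695 6
 Tr.leaf)))) 54701 6
 (Tr.node (Tr.node (Tr.node (Tr.node (Tr.node Tr.leaf 54703 6
 Tr.leaf) 54705 5
 Tr.leaf) 54707 5
 (Tr.node (Tr.node Tr.leaf 54713 6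
 Tr.leaf) 54715 5
 Tr.leaf)) 54725 5
 (Tr.node (Tr.node (Tr.node Tr.leaf 54727 6
 Tr.leaf) 54733 5
 Tr.leaf) 54735 6
 (Tr.node Tr.leaf 54737 6
 Tr.leaf))) 54739 6
 (Tr.node (Tr.node (Tr.node (Tr.node Tr.leaf 54745 6
 Tr.leaf) 54747 6
 Tr.leaf) 54757 5
 (Tr.node Tr.leaf 54759 6
 Tr.leaf)) 54765 6
 (Tr.node (Tr.node (Tr.node Tr.leaf 54767 6
 Tr.leaf) 54769 6
 Tr.leaf) 54771 6
 (Tr.node Tr.leaf 54777 5
 Tr.leaf))))) 54779 6
 (Tr.node (Tr.node (Tr.node (Tr.node (Tr.node (Tr.node Tr.leaf 55299 6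
 Tr.leaf) 55303 6
 Tr.leaf) 55307 4
 (Tr.node (Tr.node Tr.leaf 55311 6
 Tr.leaf) 55313 7
 Tr.leaf)) 55314 6
 (Tr.node (Tr.node (Tr.node Tr.leaf 55317 6
 Tr.leaf) 55318 6
 Tr.leaf) 55321 6
 (Tr.node Tr.leaf 55322 6
 Tr.leaf))) 55325 6
 (Tr.node (Tr.node (Tr.node (Tr.node Tr.leaf 55326 5
 Tr.leaf) 55331 6
 Tr.leaf) 55335 6
 (Tr.node Tr.leaf 55339 5
 Tr.leaf)) 55343 6
 (Tr.node (Tr.node (Tr.node Tr.leaf 55345 5
 Tr.leaf) 55346 4
 Tr.leaf) 55349 6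
 (Tr.node Tr.leaf 55350 6
 Tr.leaf)))) 55353 6
 (Tr.node (Tr.node (Tr.node (Tr.node (Tr.node Tr.leaf 55354 4
 Tr.leaf) 55357 6
 Tr.leaf) 55358 6
 (Tr.node (Tr.node Tr.leaf 55363 5
 Tr.leaf) 55367 7
 Tr.leaf)) 55371 6
 (Tr.node (Tr.node (Tr.node Tr.leaf 55375 6
 Tr.leaf) 55377 4
 Tr.leaf) 55378 7
 (Tr.node Tr.leaf 55381 5
 Tr.leaf))) 55382 6
 (Tr.node (Tr.node (Tr.node (Tr.node Tr.leaf 55385 4
 Tr.leaf) 55386 6
 Tr.leaf) 55389 5
 (Tr.node Tr.leaf 55390 6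
 Tr.leaf)) 55395 6
 (Tr.node (Tr.node (Tr.node Tr.leaf 55399 6
 Tr.leaf) 55403 6
 Tr.leaf) 55407 4
 (Tr.node Tr.leaf 55409 6
 Tr.leaf)))))) 55410 5
 (Tr.node (Tr.node (Tr.node (Tr.node (Tr.node (Tr.node (Tr.node Tr.leaf 55413 6
 Tr.leaf) 55414 6
 Tr.leaf) 55417 6
 (Tr.node (Tr.node Tr.leaf 55418 5
 Tr.leaf) 55421 5
 Tr.leaf)) 55422 6
 (Tr.node (Tr.node (Tr.node Tr.leaf 55425 6
 Tr.leaf) 55426 6
 Tr.leaf) 55429 6
 (Tr.node Tr.leaf 55430 6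
 Tr.leaf))) 55433 6
 (Tr.node (Tr.node (Tr.node (Tr.node Tr.leaf 55434 6
 Tr.leaf) 55437 6
 Tr.leaf) 55438 6
 (Tr.node (Tr.node Tr.leaf 55443 6
 Tr.leaf) 55447 6
 Tr.leaf)) 55451 6
 (Tr.node (Tr.node (Tr.node Tr.leaf 55455 6
 Tr.leaf) 55457 6
 Tr.leaf) 55458 6
 (Tr.node Tr.leaf 55461 4
 Tr.leaf)))) 55462 6
 (Tr.node (Tr.node (Tr.node (Tr.node (Tr.node Tr.leaf 55465 5
 Tr.leaf) 55466 6
 Tr.leaf) 55469 5
 (Tr.node (Tr.node Tr.leaf 55470 6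
 Tr.leaf) 55475 6
 Tr.leaf)) 55479 6
 (Tr.node (Tr.node (Tr.node Tr.leaf 55483 6
 Tr.leaf) 55487 5
 Tr.leaf) 55489 5
 (Tr.node Tr.leaf 55490 6
 Tr.leaf))) 55493 6
 (Tr.node (Tr.node (Tr.node (Tr.node Tr.leaf 55494 6
 Tr.leaf) 55497 6
 Tr.leaf) 55498 6
 (Tr.node Tr.leaf 55501 6
 Tr.leaf)) 55502 6
 (Tr.node (Tr.node (Tr.node Tr.leaf 55507 6
 Tr.leaf) 55511 6
 Tr.leaf) 55515 6
 (Tr.node Tr.leaf 55519 6
 Tr.leaf))))) 55521 7
 (Tr.node (Tr.node (Tr.node (Tr.node (Tr.node (Tr.node Tr.leaf 55522 6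
 Tr.leaf) 55525 5
 Tr.leaf) 55526 6
 (Tr.node (Tr.node Tr.leaf 55529 6
 Tr.leaf) 55530 6
 Tr.leaf)) 55533 7
 (Tr.node (Tr.node (Tr.node Tr.leaf 55534 6
 Tr.leaf) 55539 6
 Tr.leaf) 55543 5
 (Tr.node Tr.leaf 55547 5
 Tr.leaf))) 55551 6
 (Tr.node (Tr.node (Tr.node (Tr.node Tr.leaf 55553 7
 Tr.leaf) 55554 6
 Tr.leaf) 55557 6
 (Tr.node Tr.leaf 55558 6
 Tr.leaf)) 55561 6
 (Tr.node (Tr.node (Tr.node Tr.leaf 55562 6
 Tr.leaf) 55565 5
 Tr.leaf) 55566 6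
 (Tr.node Tr.leaf 55571 7
 Tr.leaf)))) 55575 6
 (Tr.node (Tr.node (Tr.node (Tr.node (Tr.node Tr.leaf 55579 6
 Tr.leaf) 55583 6
 Tr.leaf) 55585 5
 (Tr.node (Tr.node Tr.leaf 55586 5
 Tr.leaf) 55589 6
 Tr.leaf)) 55590 5
 (Tr.node (Tr.node (Tr.node Tr.leaf 55593 6
 Tr.leaf) 55594 5
 Tr.leaf) 55597 6
 (Tr.node Tr.leaf 55598 5
 Tr.leaf))) 55603 6
 (Tr.node (Tr.node (Tr.node (Tr.node Tr.leaf 55607 5
 Tr.leaf) 55611 6
 Tr.leaf) 55615 6
 (Tr.node Tr.leaf 55617 6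
 Tr.leaf)) 55618 5
 (Tr.node (Tr.node (Tr.node Tr.leaf 55621 6
 Tr.leaf) 55622 5
 Tr.leaf) 55625 6
 (Tr.node Tr.leaf 55626 6
 Tr.leaf))))))) 55629 6
 (Tr.node (Tr.node (Tr.node (Tr.node (Tr.node (Tr.node (Tr.node (Tr.node Tr.leaf 55630 6
 Tr.leaf) 55635 6
 Tr.leaf) 55639 5
 (Tr.node (Tr.node Tr.leaf 55643 5
 Tr.leaf) 55647 6
 Tr.leaf)) 55649 5
 (Tr.node (Tr.node (Tr.node Tr.leaf 55650 7
 Tr.leaf) 55653 6
 Tr.leaf) 55654 6
 (Tr.node Tr.leaf 55657 6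
 Tr.leaf))) 55658 5
 (Tr.node (Tr.node (Tr.node (Tr.node Tr.leaf 55661 6
 Tr.leaf) 55662 4
 Tr.leaf) 55667 6
 (Tr.node (Tr.node Tr.leaf 55671 6
 Tr.leaf) 55675 6
 Tr.leaf)) 55679 6
 (Tr.node (Tr.node (Tr.node Tr.leaf 55683 6
 Tr.leaf) 55687 5
 Tr.leaf) 55691 6
 (Tr.node Tr.leaf 55695 6
 Tr.leaf)))) 55697 6
 (Tr.node (Tr.node (Tr.node (Tr.node (Tr.node Tr.leaf 55698 6
 Tr.leaf) 55701 6
 Tr.leaf) 55702 6
 (Tr.node (Tr.node Tr.leaf 55705 6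
 Tr.leaf) 55706 5
 Tr.leaf)) 55709 6
 (Tr.node (Tr.node (Tr.node Tr.leaf 55710 5
 Tr.leaf) 55715 6
 Tr.leaf) 55719 5
 (Tr.node Tr.leaf 55723 6
 Tr.leaf))) 55727 5
 (Tr.node (Tr.node (Tr.node (Tr.node Tr.leaf 55729 6
 Tr.leaf) 55730 6
 Tr.leaf) 55733 6
 (Tr.node Tr.leaf 55734 6
 Tr.leaf)) 55737 6
 (Tr.node (Tr.node (Tr.node Tr.leaf 55738 6
 Tr.leaf) 55741 6
 Tr.leaf) 55742 6
 (Tr.node Tr.leaf 55747 6
 Tr.leaf))))) 55751 5
 (Tr.node (Tr.node (Tr.node (Tr.node (Tr.node (Tr.node Tr.leaf 55755 6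
 Tr.leaf) 55759 6
 Tr.leaf) 55761 6
 (Tr.node (Tr.node Tr.leaf 55762 5
 Tr.leaf) 55765 6
 Tr.leaf)) 55766 6
 (Tr.node (Tr.node (Tr.node Tr.leaf 55769 6
 Tr.leaf) 55770 6
 Tr.leaf) 55773 6
 (Tr.node Tr.leaf 55774 5
 Tr.leaf))) 55779 6
 (Tr.node (Tr.node (Tr.node (Tr.node Tr.leaf 55783 5
 Tr.leaf) 55787 6
 Tr.leaf) 55791 6
 (Tr.node Tr.leaf 55793 5
 Tr.leaf)) 55794 5
 (Tr.node (Tr.node (Tr.node Tr.leaf 55797 6
 Tr.leaf) 55798 6
 Tr.leaf) 55801 6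
 (Tr.node Tr.leaf 55802 5
 Tr.leaf)))) 55805 5
 (Tr.node (Tr.node (Tr.node (Tr.node (Tr.node Tr.leaf 55806 6
 Tr.leaf) 56321 6
 Tr.leaf) 56323 4
 (Tr.node (Tr.node Tr.leaf 56325 4
 Tr.leaf) 56327 6
 Tr.leaf)) 56329 7
 (Tr.node (Tr.node (Tr.node Tr.leaf 56331 6
 Tr.leaf) 56333 6
 Tr.leaf) 56335 6
 (Tr.node Tr.leaf 56353 6
 Tr.leaf))) 56355 6
 (Tr.node (Tr.node (Tr.node (Tr.node Tr.leaf 56357 4
 Tr.leaf) 56359 6
 Tr.leaf) 56361 7
 (Tr.node Tr.leaf 56363 6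
 Tr.leaf)) 56365 6
 (Tr.node (Tr.node (Tr.node Tr.leaf 56367 4
 Tr.leaf) 56385 6
 Tr.leaf) 56387 6
 (Tr.node Tr.leaf 56389 6
 Tr.leaf)))))) 56391 4
 (Tr.node (Tr.node (Tr.node (Tr.node (Tr.node (Tr.node (Tr.node Tr.leaf 56393 5
 Tr.leaf) 56395 6
 Tr.leaf) 56397 6
 (Tr.node (Tr.node Tr.leaf 56399 6
 Tr.leaf) 56417 6
 Tr.leaf)) 56419 6
 (Tr.node (Tr.node (Tr.node Tr.leaf 56421 6
 Tr.leaf) 56423 4
 Tr.leaf) 56425 4
 (Tr.node Tr.leaf 56427 6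
 Tr.leaf))) 56429 6
 (Tr.node (Tr.node (Tr.node (Tr.node Tr.leaf 56431 6
 Tr.leaf) 56465 6
 Tr.leaf) 56467 6
 (Tr.node (Tr.node Tr.leaf 56469 6
 Tr.leaf) 56471 6
 Tr.leaf)) 56473 5
 (Tr.node (Tr.node (Tr.node Tr.leaf 56475 6
 Tr.leaf) 56477 6
 Tr.leaf) 56479 6
 (Tr.node Tr.leaf 56497 6
 Tr.leaf)))) 56499 6
 (Tr.node (Tr.node (Tr.node (Tr.node (Tr.node Tr.leaf 56501 6
 Tr.leaf) 56503 6
 Tr.leaf) 56505 6
 (Tr.node (Tr.node Tr.leaf 56507 6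
 Tr.leaf) 56509 6
 Tr.leaf)) 56511 6
 (Tr.node (Tr.node (Tr.node Tr.leaf 56529 6
 Tr.leaf) 56531 6
 Tr.leaf) 56533 6
 (Tr.node Tr.leaf 56535 6
 Tr.leaf))) 56537 6
 (Tr.node (Tr.node (Tr.node (Tr.node Tr.leaf 56539 5
 Tr.leaf) 56541 6
 Tr.leaf) 56543 6
 (Tr.node Tr.leaf 56561 6
 Tr.leaf)) 56563 6
 (Tr.node (Tr.node (Tr.node Tr.leaf 56565 6
 Tr.leaf) 56567 6
 Tr.leaf) 56569 6
 (Tr.node Tr.leaf 56571 6
 Tr.leaf))))) 56573 6
 (Tr.node (Tr.node (Tr.node (Tr.node (Tr.node (Tr.node Tr.leaf 56575 6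
 Tr.leaf) 56593 6
 Tr.leaf) 56595 6
 (Tr.node (Tr.node Tr.leaf 56597 6
 Tr.leaf) 56599 6
 Tr.leaf)) 56601 6
 (Tr.node (Tr.node (Tr.node Tr.leaf 56603 6
 Tr.leaf) 56605 6
 Tr.leaf) 56607 6
 (Tr.node Tr.leaf 56625 6
 Tr.leaf))) 56627 6
 (Tr.node (Tr.node (Tr.node (Tr.node Tr.leaf 56629 5
 Tr.leaf) 56631 6
 Tr.leaf) 56633 6
 (Tr.node Tr.leaf 56635 6
 Tr.leaf)) 56637 7
 (Tr.node (Tr.node (Tr.node Tr.leaf 56639 6
 Tr.leaf) 56657 6
 Tr.leaf) 56659 6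
 (Tr.node Tr.leaf 56661 6
 Tr.leaf)))) 56663 5
 (Tr.node (Tr.node (Tr.node (Tr.node (Tr.node Tr.leaf 56665 6
 Tr.leaf) 56667 6
 Tr.leaf) 56669 6
 (Tr.node (Tr.node Tr.leaf 56671 6
 Tr.leaf) 56689 6
 Tr.leaf)) 56691 6
 (Tr.node (Tr.node (Tr.node Tr.leaf 56693 6
 Tr.leaf) 56695 5
 Tr.leaf) 56697 6
 (Tr.node Tr.leaf 56699 6
 Tr.leaf))) 56701 6
 (Tr.node (Tr.node (Tr.node (Tr.node Tr.leaf 56703 6
 Tr.leaf) 56705 6
 Tr.leaf) 56707 6
 (Tr.node Tr.leaf 56709 6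
 Tr.leaf)) 56711 6
 (Tr.node (Tr.node (Tr.node Tr.leaf 56713 6
 Tr.leaf) 56715 6
 Tr.leaf) 56717 6
 (Tr.node Tr.leaf 56719 6
 Tr.leaf)))))))))

/-- A subtree. -/
def tr2_s14 : Tr := (Tr.node (Tr.node (Tr.node (Tr.node (Tr.node (Tr.node (Tr.node (Tr.node (Tr.node (Tr.node Tr.leaf 56739 6
 Tr.leaf) 56741 6
 Tr.leaf) 56743 6
 (Tr.node (Tr.node Tr.leaf 56745 5
 Tr.leaf) 56747 6
 Tr.leaf)) 56749 6
 (Tr.node (Tr.node (Tr.node Tr.leaf 56751 6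
 Tr.leaf) 56769 6
 Tr.leaf) 56771 6
 (Tr.node Tr.leaf 56773 6
 Tr.leaf))) 56775 7
 (Tr.node (Tr.node (Tr.node (Tr.node Tr.leaf 56777 6
 Tr.leaf) 56779 6
 Tr.leaf) 56781 6
 (Tr.node (Tr.node Tr.leaf 56783 6
 Tr.leaf) 56801 6
 Tr.leaf)) 56803 6
 (Tr.node (Tr.node (Tr.node Tr.leaf 56805 6
 Tr.leaf) 56807 6
 Tr.leaf) 56809 6
 (Tr.node Tr.leaf 56811 6
 Tr.leaf)))) 56813 6
 (Tr.node (Tr.node (Tr.node (Tr.node (Tr.node Tr.leaf 56815 6
 Tr.leaf) 57345 5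
 Tr.leaf) 57346 4
 (Tr.node (Tr.node Tr.leaf 57348 4
 Tr.leaf) 57351 6
 Tr.leaf)) 57352 4
 (Tr.node (Tr.node (Tr.node Tr.leaf 57355 4
 Tr.leaf) 57357 5
 Tr.leaf) 57358 6
 (Tr.node Tr.leaf 57361 4
 Tr.leaf))) 57362 4
 (Tr.node (Tr.node (Tr.node (Tr.node Tr.leaf 57364 4
 Tr.leaf) 57367 6
 Tr.leaf) 57368 4
 (Tr.node Tr.leaf 57371 6
 Tr.leaf)) 57373 4
 (Tr.node (Tr.node (Tr.node Tr.leaf 57374 6
 Tr.leaf) 57377 4
 Tr.leaf) 57378 5
 (Tr.node Tr.leaf 57380 4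
 Tr.leaf))))) 57383 4
 (Tr.node (Tr.node (Tr.node (Tr.node (Tr.node (Tr.node Tr.leaf 57384 4
 Tr.leaf) 57387 6
 Tr.leaf) 57389 4
 (Tr.node (Tr.node Tr.leaf 57390 4
 Tr.leaf) 57393 3
 Tr.leaf)) 57394 5
 (Tr.node (Tr.node (Tr.node Tr.leaf 57396 4
 Tr.leaf) 57399 5
 Tr.leaf) 57400 5
 (Tr.node Tr.leaf 57403 5
 Tr.leaf))) 57405 6
 (Tr.node (Tr.node (Tr.node (Tr.node Tr.leaf 57406 6
 Tr.leaf) 57409 3
 Tr.leaf) 57410 5
 (Tr.node (Tr.node Tr.leaf 57412 4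
 Tr.leaf) 57415 5
 Tr.leaf)) 57416 4
 (Tr.node (Tr.node (Tr.node Tr.leaf 57419 6
 Tr.leaf) 57421 5
 Tr.leaf) 57422 6
 (Tr.node Tr.leaf 57425 4
 Tr.leaf)))) 57426 4
 (Tr.node (Tr.node (Tr.node (Tr.node (Tr.node Tr.leaf 57428 4
 Tr.leaf) 57431 6
 Tr.leaf) 57432 4
 (Tr.node (Tr.node Tr.leaf 57435 5
 Tr.leaf) 57437 6
 Tr.leaf)) 57438 6
 (Tr.node (Tr.node (Tr.node Tr.leaf 57441 4
 Tr.leaf) 57442 4
 Tr.leaf) 57444 4
 (Tr.node Tr.leaf 57447 4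
 Tr.leaf))) 57448 4
 (Tr.node (Tr.node (Tr.node (Tr.node Tr.leaf 57451 5
 Tr.leaf) 57453 6
 Tr.leaf) 57454 5
 (Tr.node Tr.leaf 57457 5
 Tr.leaf)) 57458 4
 (Tr.node (Tr.node (Tr.node Tr.leaf 57460 4
 Tr.leaf) 57463 6
 Tr.leaf) 57464 4
 (Tr.node Tr.leaf 57467 5
 Tr.leaf)))))) 57469 4
 (Tr.node (Tr.node (Tr.node (Tr.node (Tr.node (Tr.node (Tr.node Tr.leaf 57470 6
 Tr.leaf) 57475 4
 Tr.leaf) 57477 6
 (Tr.node (Tr.node Tr.leaf 57478 3
 Tr.leaf) 57481 6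
 Tr.leaf)) 57482 6
 (Tr.node (Tr.node (Tr.node Tr.leaf 57484 6
 Tr.leaf) 57487 6
 Tr.leaf) 57491 4
 (Tr.node Tr.leaf 57493 6
 Tr.leaf))) 57494 6
 (Tr.node (Tr.node (Tr.node (Tr.node Tr.leaf 57497 4
 Tr.leaf) 57498 6
 Tr.leaf) 57500 4
 (Tr.node (Tr.node Tr.leaf 57503 5
 Tr.leaf) 57507 4
 Tr.leaf)) 57509 6
 (Tr.node (Tr.node (Tr.node Tr.leaf 57510 6
 Tr.leaf) 57513 6
 Tr.leaf) 57514 6
 (Tr.node Tr.leaf 57516 6
 Tr.leaf)))) 57519 6
 (Tr.node (Tr.node (Tr.node (Tr.node (Tr.node Tr.leaf 57523 6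
 Tr.leaf) 57525 6
 Tr.leaf) 57526 4
 (Tr.node (Tr.node Tr.leaf 57529 6
 Tr.leaf) 57530 6
 Tr.leaf)) 57532 5
 (Tr.node (Tr.node (Tr.node Tr.leaf 57535 6
 Tr.leaf) 57539 6
 Tr.leaf) 57541 6
 (Tr.node Tr.leaf 57542 4
 Tr.leaf))) 57545 5
 (Tr.node (Tr.node (Tr.node (Tr.node Tr.leaf 57546 6
 Tr.leaf) 57548 4
 Tr.leaf) 57551 6
 (Tr.node Tr.leaf 57555 6
 Tr.leaf)) 57557 6
 (Tr.node (Tr.node (Tr.node Tr.leaf 57558 6
 Tr.leaf) 57561 6
 Tr.leaf) 57562 5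
 (Tr.node Tr.leaf 57564 6
 Tr.leaf))))) 57567 6
 (Tr.node (Tr.node (Tr.node (Tr.node (Tr.node (Tr.node Tr.leaf 57571 6
 Tr.leaf) 57573 6
 Tr.leaf) 57574 6
 (Tr.node (Tr.node Tr.leaf 57577 6
 Tr.leaf) 57578 6
 Tr.leaf)) 57580 4
 (Tr.node (Tr.node (Tr.node Tr.leaf 57583 6
 Tr.leaf) 57587 6
 Tr.leaf) 57589 6
 (Tr.node Tr.leaf 57590 4
 Tr.leaf))) 57593 4
 (Tr.node (Tr.node (Tr.node (Tr.node Tr.leaf 57594 6
 Tr.leaf) 57596 6
 Tr.leaf) 57599 6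
 (Tr.node Tr.leaf 57603 6
 Tr.leaf)) 57605 6
 (Tr.node (Tr.node (Tr.node Tr.leaf 57606 3
 Tr.leaf) 57609 5
 Tr.leaf) 57610 6
 (Tr.node Tr.leaf 57612 6
 Tr.leaf)))) 57615 6
 (Tr.node (Tr.node (Tr.node (Tr.node (Tr.node Tr.leaf 57619 6
 Tr.leaf) 57621 6
 Tr.leaf) 57622 6
 (Tr.node (Tr.node Tr.leaf 57625 6
 Tr.leaf) 57626 6
 Tr.leaf)) 57628 5
 (Tr.node (Tr.node (Tr.node Tr.leaf 57631 6
 Tr.leaf) 57635 6
 Tr.leaf) 57637 6
 (Tr.node Tr.leaf 57638 6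
 Tr.leaf))) 57641 5
 (Tr.node (Tr.node (Tr.node (Tr.node Tr.leaf 57642 3
 Tr.leaf) 57644 6
 Tr.leaf) 57647 6
 (Tr.node Tr.leaf 57651 6
 Tr.leaf)) 57653 6
 (Tr.node (Tr.node (Tr.node Tr.leaf 57654 4
 Tr.leaf) 57657 6
 Tr.leaf) 57658 5
 (Tr.node Tr.leaf 57660 6
 Tr.leaf))))))) 57663 6
 (Tr.node (Tr.node (Tr.node (Tr.node (Tr.node (Tr.node (Tr.node (Tr.node Tr.leaf 57667 6
 Tr.leaf) 57669 6
 Tr.leaf) 57670 4
 (Tr.node (Tr.node Tr.leaf 57673 5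
 Tr.leaf) 57674 5
 Tr.leaf)) 57676 6
 (Tr.node (Tr.node (Tr.node Tr.leaf 57679 6
 Tr.leaf) 57683 6
 Tr.leaf) 57685 4
 (Tr.node Tr.leaf 57686 6
 Tr.leaf))) 57689 4
 (Tr.node (Tr.node (Tr.node (Tr.node Tr.leaf 57690 3
 Tr.leaf) 57692 6
 Tr.leaf) 57695 5
 (Tr.node (Tr.node Tr.leaf 57699 6
 Tr.leaf) 57701 5
 Tr.leaf)) 57702 6
 (Tr.node (Tr.node (Tr.node Tr.leaf 57705 6
 Tr.leaf) 57706 6
 Tr.leaf) 57708 6
 (Tr.node Tr.leaf 57711 6
 Tr.leaf)))) 57715 6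
 (Tr.node (Tr.node (Tr.node (Tr.node (Tr.node Tr.leaf 57717 4
 Tr.leaf) 57718 3
 Tr.leaf) 57721 6
 (Tr.node (Tr.node Tr.leaf 57722 6
 Tr.leaf) 57724 6
 Tr.leaf)) 57727 5
 (Tr.node (Tr.node (Tr.node Tr.leaf 57729 6
 Tr.leaf) 57730 6
 Tr.leaf) 57732 6
 (Tr.node Tr.leaf 57735 6
 Tr.leaf))) 57736 6
 (Tr.node (Tr.node (Tr.node (Tr.node Tr.leaf 57739 6
 Tr.leaf) 57741 6
 Tr.leaf) 57742 6
 (Tr.node Tr.leaf 57745 6
 Tr.leaf)) 57746 4
 (Tr.node (Tr.node (Tr.node Tr.leaf 57748 6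
 Tr.leaf) 57751 6
 Tr.leaf) 57752 6
 (Tr.node Tr.leaf 57755 6
 Tr.leaf))))) 57757 5
 (Tr.node (Tr.node (Tr.node (Tr.node (Tr.node (Tr.node Tr.leaf 57758 6
 Tr.leaf) 57761 4
 Tr.leaf) 57762 6
 (Tr.node (Tr.node Tr.leaf 57764 6
 Tr.leaf) 57767 5
 Tr.leaf)) 57768 6
 (Tr.node (Tr.node (Tr.node Tr.leaf 57771 6
 Tr.leaf) 57773 6
 Tr.leaf) 57774 5
 (Tr.node Tr.leaf 57777 6
 Tr.leaf))) 57778 5
 (Tr.node (Tr.node (Tr.node (Tr.node Tr.leaf 57780 6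
 Tr.leaf) 57783 6
 Tr.leaf) 57784 7
 (Tr.node Tr.leaf 57787 6
 Tr.leaf)) 57789 6
 (Tr.node (Tr.node (Tr.node Tr.leaf 57790 6
 Tr.leaf) 57793 6
 Tr.leaf) 57794 6
 (Tr.node Tr.leaf 57796 5
 Tr.leaf)))) 57799 6
 (Tr.node (Tr.node (Tr.node (Tr.node (Tr.node Tr.leaf 57800 7
 Tr.leaf) 57803 6
 Tr.leaf) 57805 6
 (Tr.node (Tr.node Tr.leaf 57806 6
 Tr.leaf) 57809 6
 Tr.leaf)) 57810 6
 (Tr.node (Tr.node (Tr.node Tr.leaf 57812 4
 Tr.leaf) 57815 6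
 Tr.leaf) 57816 6
 (Tr.node Tr.leaf 57819 5
 Tr.leaf))) 57821 6
 (Tr.node (Tr.node (Tr.node (Tr.node Tr.leaf 57822 6
 Tr.leaf) 57825 5
 Tr.leaf) 57826 6
 (Tr.node Tr.leaf 57828 6
 Tr.leaf)) 57831 5
 (Tr.node (Tr.node (Tr.node Tr.leaf 57832 6
 Tr.leaf) 57835 6
 Tr.leaf) 57837 6
 (Tr.node Tr.leaf 57838 5
 Tr.leaf)))))) 57841 7
 (Tr.node (Tr.node (Tr.node (Tr.node (Tr.node (Tr.node (Tr.node Tr.leaf 57842 6
 Tr.leaf) 57844 6
 Tr.leaf) 57847 6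
 (Tr.node (Tr.node Tr.leaf 57848 6
 Tr.leaf) 57851 6
 Tr.leaf)) 57853 6
 (Tr.node (Tr.node (Tr.node Tr.leaf 57854 6
 Tr.leaf) 58373 5
 Tr.leaf) 58375 6
 (Tr.node Tr.leaf 58377 6
 Tr.leaf))) 58379 4
 (Tr.node (Tr.node (Tr.node (Tr.node Tr.leaf 58389 7
 Tr.leaf) 58391 4
 Tr.leaf) 58393 6
 (Tr.node (Tr.node Tr.leaf 58395 6
 Tr.leaf) 58405 7
 Tr.leaf)) 58407 6
 (Tr.node (Tr.node (Tr.node Tr.leaf 58409 6
 Tr.leaf) 58411 6
 Tr.leaf) 58421 5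
 (Tr.node Tr.leaf 58423 6
 Tr.leaf)))) 58425 6
 (Tr.node (Tr.node (Tr.node (Tr.node (Tr.node Tr.leaf 58427 5
 Tr.leaf) 58437 6
 Tr.leaf) 58439 6
 (Tr.node (Tr.node Tr.leaf 58441 6
 Tr.leaf) 58443 6
 Tr.leaf)) 58453 6
 (Tr.node (Tr.node (Tr.node Tr.leaf 58455 4
 Tr.leaf) 58457 4
 Tr.leaf) 58459 6
 (Tr.node Tr.leaf 58469 7
 Tr.leaf))) 58471 6
 (Tr.node (Tr.node (Tr.node (Tr.node Tr.leaf 58473 6
 Tr.leaf) 58475 4
 Tr.leaf) 58485 5
 (Tr.node Tr.leaf 58487 6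
 Tr.leaf)) 58489 5
 (Tr.node (Tr.node (Tr.node Tr.leaf 58491 6
 Tr.leaf) 58497 6
 Tr.leaf) 58499 6
 (Tr.node Tr.leaf 58509 6
 Tr.leaf))))) 58511 6
 (Tr.node (Tr.node (Tr.node (Tr.node (Tr.node (Tr.node Tr.leaf 58513 5
 Tr.leaf) 58515 6
 Tr.leaf) 58525 6
 (Tr.node (Tr.node Tr.leaf 58527 7
 Tr.leaf) 58529 6
 Tr.leaf)) 58531 6
 (Tr.node (Tr.node (Tr.node Tr.leaf 58541 6
 Tr.leaf) 58543 6
 Tr.leaf) 58545 5
 (Tr.node Tr.leaf 58547 6
 Tr.leaf))) 58557 6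
 (Tr.node (Tr.node (Tr.node (Tr.node Tr.leaf 58559 6
 Tr.leaf) 58561 6
 Tr.leaf) 58563 5
 (Tr.node Tr.leaf 58573 5
 Tr.leaf)) 58575 6
 (Tr.node (Tr.node (Tr.node Tr.leaf 58577 6
 Tr.leaf) 58579 4
 Tr.leaf) 58589 6
 (Tr.node Tr.leaf 58591 6
 Tr.leaf)))) 58593 6
 (Tr.node (Tr.node (Tr.node (Tr.node (Tr.node Tr.leaf 58595 4
 Tr.leaf) 58605 5
 Tr.leaf) 58607 6
 (Tr.node (Tr.node Tr.leaf 58609 6
 Tr.leaf) 58611 4
 Tr.leaf)) 58621 6
 (Tr.node (Tr.node (Tr.node Tr.leaf 58623 6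
 Tr.leaf) 58625 6
 Tr.leaf) 58627 7
 (Tr.node Tr.leaf 58637 5
 Tr.leaf))) 58639 5
 (Tr.node (Tr.node (Tr.node (Tr.node Tr.leaf 58641 6
 Tr.leaf) 58643 6
 Tr.leaf) 58653 6
 (Tr.node Tr.leaf 58655 6
 Tr.leaf)) 58657 6
 (Tr.node (Tr.node (Tr.node Tr.leaf 58659 6
 Tr.leaf) 58669 5
 Tr.leaf) 58671 6
 (Tr.node Tr.leaf 58673 6
 Tr.leaf)))))))) 58675 6
 (Tr.node (Tr.node (Tr.node (Tr.node (Tr.node (Tr.node (Tr.node (Tr.node (Tr.node Tr.leaf 58685 6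
 Tr.leaf) 58687 5
 Tr.leaf) 58689 5
 (Tr.node (Tr.node Tr.leaf 58691 6
 Tr.leaf) 58701 6
 Tr.leaf)) 58703 6
 (Tr.node (Tr.node (Tr.node Tr.leaf 58705 6
 Tr.leaf) 58707 6
 Tr.leaf) 58717 5
 (Tr.node Tr.leaf 58719 6
 Tr.leaf))) 58721 6
 (Tr.node (Tr.node (Tr.node (Tr.node Tr.leaf 58723 5
 Tr.leaf) 58733 6
 Tr.leaf) 58735 6
 (Tr.node (Tr.node Tr.leaf 58737 6
 Tr.leaf) 58739 6
 Tr.leaf)) 58749 6
 (Tr.node (Tr.node (Tr.node Tr.leaf 58751 6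
 Tr.leaf) 58757 6
 Tr.leaf) 58759 6
 (Tr.node Tr.leaf 58761 6
 Tr.leaf)))) 58763 6
 (Tr.node (Tr.node (Tr.node (Tr.node (Tr.node Tr.leaf 58773 6
 Tr.leaf) 58775 6
 Tr.leaf) 58777 6
 (Tr.node (Tr.node Tr.leaf 58779 5
 Tr.leaf) 58789 6
 Tr.leaf)) 58791 6
 (Tr.node (Tr.node (Tr.node Tr.leaf 58793 6
 Tr.leaf) 58795 6
 Tr.leaf) 58805 6
 (Tr.node Tr.leaf 58807 6
 Tr.leaf))) 58809 6
 (Tr.node (Tr.node (Tr.node (Tr.node Tr.leaf 58811 6
 Tr.leaf) 58821 6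
 Tr.leaf) 58823 6
 (Tr.node Tr.leaf 58825 6
 Tr.leaf)) 58827 6
 (Tr.node (Tr.node (Tr.node Tr.leaf 58837 6
 Tr.leaf) 58839 6
 Tr.leaf) 58841 6
 (Tr.node Tr.leaf 58843 6
 Tr.leaf))))) 58853 5
 (Tr.node (Tr.node (Tr.node (Tr.node (Tr.node (Tr.node Tr.leaf 58855 6
 Tr.leaf) 58857 6
 Tr.leaf) 58859 7
 (Tr.node (Tr.node Tr.leaf 58869 6
 Tr.leaf) 58871 6
 Tr.leaf)) 58873 6
 (Tr.node (Tr.node (Tr.node Tr.leaf 58875 6
 Tr.leaf) 59395 6
 Tr.leaf) 59399 4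
 (Tr.node Tr.leaf 59401 6
 Tr.leaf))) 59402 6
 (Tr.node (Tr.node (Tr.node (Tr.node Tr.leaf 59405 5
 Tr.leaf) 59406 4
 Tr.leaf) 59411 4
 (Tr.node Tr.leaf 59415 6
 Tr.leaf)) 59417 6
 (Tr.node (Tr.node (Tr.node Tr.leaf 59418 5
 Tr.leaf) 59421 4
 Tr.leaf) 59422 6
 (Tr.node Tr.leaf 59427 7
 Tr.leaf)))) 59431 6
 (Tr.node (Tr.node (Tr.node (Tr.node (Tr.node Tr.leaf 59433 4
 Tr.leaf) 59434 6
 Tr.leaf) 59437 6
 (Tr.node (Tr.node Tr.leaf 59438 5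
 Tr.leaf) 59443 6
 Tr.leaf)) 59447 6
 (Tr.node (Tr.node (Tr.node Tr.leaf 59449 6
 Tr.leaf) 59450 6
 Tr.leaf) 59453 6
 (Tr.node Tr.leaf 59454 4
 Tr.leaf))) 59459 6
 (Tr.node (Tr.node (Tr.node (Tr.node Tr.leaf 59463 5
 Tr.leaf) 59465 5
 Tr.leaf) 59466 5
 (Tr.node Tr.leaf 59469 6
 Tr.leaf)) 59470 5
 (Tr.node (Tr.node (Tr.node Tr.leaf 59475 5
 Tr.leaf) 59479 6
 Tr.leaf) 59481 6
 (Tr.node Tr.leaf 59482 4
 Tr.leaf)))))) 59485 6
 (Tr.node (Tr.node (Tr.node (Tr.node (Tr.node (Tr.node (Tr.node Tr.leaf 59486 6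
 Tr.leaf) 59491 7
 Tr.leaf) 59495 6
 (Tr.node (Tr.node Tr.leaf 59497 7
 Tr.leaf) 59498 7
 Tr.leaf)) 59501 6
 (Tr.node (Tr.node (Tr.node Tr.leaf 59502 6
 Tr.leaf) 59507 7
 Tr.leaf) 59511 4
 (Tr.node Tr.leaf 59513 4
 Tr.leaf))) 59514 5
 (Tr.node (Tr.node (Tr.node (Tr.node Tr.leaf 59517 6
 Tr.leaf) 59518 5
 Tr.leaf) 59521 6
 (Tr.node (Tr.node Tr.leaf 59522 6
 Tr.leaf) 59525 6
 Tr.leaf)) 59526 5
 (Tr.node (Tr.node (Tr.node Tr.leaf 59531 6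
 Tr.leaf) 59535 6
 Tr.leaf) 59537 6
 (Tr.node Tr.leaf 59538 5
 Tr.leaf)))) 59541 6
 (Tr.node (Tr.node (Tr.node (Tr.node (Tr.node Tr.leaf 59542 4
 Tr.leaf) 59547 6
 Tr.leaf) 59551 5
 (Tr.node (Tr.node Tr.leaf 59553 5
 Tr.leaf) 59554 5
 Tr.leaf)) 59557 6
 (Tr.node (Tr.node (Tr.node Tr.leaf 59558 6
 Tr.leaf) 59563 6
 Tr.leaf) 59567 6
 (Tr.node Tr.leaf 59569 6
 Tr.leaf))) 59570 6
 (Tr.node (Tr.node (Tr.node (Tr.node Tr.leaf 59573 6
 Tr.leaf) 59574 6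
 Tr.leaf) 59579 6
 (Tr.node Tr.leaf 59583 6
 Tr.leaf)) 59585 5
 (Tr.node (Tr.node (Tr.node Tr.leaf 59586 6
 Tr.leaf) 59589 6
 Tr.leaf) 59590 6
 (Tr.node Tr.leaf 59595 5
 Tr.leaf))))) 59599 6
 (Tr.node (Tr.node (Tr.node (Tr.node (Tr.node (Tr.node Tr.leaf 59601 6
 Tr.leaf) 59602 6
 Tr.leaf) 59605 6
 (Tr.node (Tr.node Tr.leaf 59606 5
 Tr.leaf) 59611 6
 Tr.leaf)) 59615 6
 (Tr.node (Tr.node (Tr.node Tr.leaf 59617 6
 Tr.leaf) 59618 5
 Tr.leaf) 59621 6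
 (Tr.node Tr.leaf 59622 6
 Tr.leaf))) 59627 6
 (Tr.node (Tr.node (Tr.node (Tr.node Tr.leaf 59631 5
 Tr.leaf) 59633 7
 Tr.leaf) 59634 6
 (Tr.node Tr.leaf 59637 6
 Tr.leaf)) 59638 5
 (Tr.node (Tr.node (Tr.node Tr.leaf 59643 5
 Tr.leaf) 59647 5
 Tr.leaf) 59649 5
 (Tr.node Tr.leaf 59650 6
 Tr.leaf)))) 59653 6
 (Tr.node (Tr.node (Tr.node (Tr.node (Tr.node Tr.leaf 59654 6
 Tr.leaf) 59659 6
 Tr.leaf) 59663 6
 (Tr.node (Tr.node Tr.leaf 59665 4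
 Tr.leaf) 59666 6
 Tr.leaf)) 59669 6
 (Tr.node (Tr.node (Tr.node Tr.leaf 59670 4
 Tr.leaf) 59675 6
 Tr.leaf) 59679 6
 (Tr.node Tr.leaf 59681 5
 Tr.leaf))) 59682 4
 (Tr.node (Tr.node (Tr.node (Tr.node Tr.leaf 59685 6
 Tr.leaf) 59686 6
 Tr.leaf) 59691 6
 (Tr.node Tr.leaf 59695 5
 Tr.leaf)) 59697 5
 (Tr.node (Tr.node (Tr.node Tr.leaf 59698 6
 Tr.leaf) 59701 6
 Tr.leaf) 59702 5
 (Tr.node Tr.leaf 59707 6
 Tr.leaf))))))) 59711 5
 (Tr.node (Tr.node (Tr.node (Tr.node (Tr.node (Tr.node (Tr.node (Tr.node Tr.leaf 59713 6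
 Tr.leaf) 59714 6
 Tr.leaf) 59717 5
 (Tr.node (Tr.node Tr.leaf 59718 6
 Tr.leaf) 59723 6
 Tr.leaf)) 59727 6
 (Tr.node (Tr.node (Tr.node Tr.leaf 59729 6
 Tr.leaf) 59730 6
 Tr.leaf) 59733 5
 (Tr.node Tr.leaf 59734 4
 Tr.leaf))) 59739 7
 (Tr.node (Tr.node (Tr.node (Tr.node Tr.leaf 59743 6
 Tr.leaf) 59745 6
 Tr.leaf) 59746 5
 (Tr.node (Tr.node Tr.leaf 59749 6
 Tr.leaf) 59750 6
 Tr.leaf)) 59755 6
 (Tr.node (Tr.node (Tr.node Tr.leaf 59759 6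
 Tr.leaf) 59761 6
 Tr.leaf) 59762 6
 (Tr.node Tr.leaf 59765 6
 Tr.leaf)))) 59766 6
 (Tr.node (Tr.node (Tr.node (Tr.node (Tr.node Tr.leaf 59771 6
 Tr.leaf) 59775 6
 Tr.leaf) 59779 6
 (Tr.node (Tr.node Tr.leaf 59783 6
 Tr.leaf) 59785 6
 Tr.leaf)) 59786 6
 (Tr.node (Tr.node (Tr.node Tr.leaf 59789 6
 Tr.leaf) 59790 5
 Tr.leaf) 59795 6
 (Tr.node Tr.leaf 59799 6
 Tr.leaf))) 59801 6
 (Tr.node (Tr.node (Tr.node (Tr.node Tr.leaf 59802 5
 Tr.leaf) 59805 6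
 Tr.leaf) 59806 5
 (Tr.node Tr.leaf 59811 6
 Tr.leaf)) 59815 5
 (Tr.node (Tr.node (Tr.node Tr.leaf 59817 7
 Tr.leaf) 59818 6
 Tr.leaf) 59821 6
 (Tr.node Tr.leaf 59822 5
 Tr.leaf))))) 59827 6
 (Tr.node (Tr.node (Tr.node (Tr.node (Tr.node (Tr.node Tr.leaf 59831 6
 Tr.leaf) 59833 6
 Tr.leaf) 59834 6
 (Tr.node (Tr.node Tr.leaf 59837 6
 Tr.leaf) 59838 6
 Tr.leaf)) 59843 6
 (Tr.node (Tr.node (Tr.node Tr.leaf 59847 6
 Tr.leaf) 59849 6
 Tr.leaf) 59850 6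
 (Tr.node Tr.leaf 59853 6
 Tr.leaf))) 59854 6
 (Tr.node (Tr.node (Tr.node (Tr.node Tr.leaf 59859 6
 Tr.leaf) 59863 6
 Tr.leaf) 59865 5
 (Tr.node Tr.leaf 59866 5
 Tr.leaf)) 59869 6
 (Tr.node (Tr.node (Tr.node Tr.leaf 59870 6
 Tr.leaf) 59875 6
 Tr.leaf) 59879 6
 (Tr.node Tr.leaf 59881 6
 Tr.leaf)))) 59882 5
 (Tr.node (Tr.node (Tr.node (Tr.node (Tr.node Tr.leaf 59885 6
 Tr.leaf) 59886 6
 Tr.leaf) 59891 6
 (Tr.node (Tr.node Tr.leaf 59895 6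
 Tr.leaf) 59897 6
 Tr.leaf)) 59898 6
 (Tr.node (Tr.node (Tr.node Tr.leaf 59901 6
 Tr.leaf) 59902 6
 Tr.leaf) 60417 6
 (Tr.node Tr.leaf 60419 4
 Tr.leaf))) 60421 6
 (Tr.node (Tr.node (Tr.node (Tr.node Tr.leaf 60423 7
 Tr.leaf) 60433 6
 Tr.leaf) 60435 6
 (Tr.node Tr.leaf 60437 4
 Tr.leaf)) 60439 6
 (Tr.node (Tr.node (Tr.node Tr.leaf 60449 4
 Tr.leaf) 60451 6
 Tr.leaf) 60453 6
 (Tr.node Tr.leaf 60455 4
 Tr.leaf)))))) 60465 4
 (Tr.node (Tr.node (Tr.node (Tr.node (Tr.node (Tr.node (Tr.node Tr.leaf 60467 5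
 Tr.leaf) 60469 6
 Tr.leaf) 60471 5
 (Tr.node (Tr.node Tr.leaf 60481 5
 Tr.leaf) 60483 5
 Tr.leaf)) 60485 6
 (Tr.node (Tr.node (Tr.node Tr.leaf 60487 4
 Tr.leaf) 60497 6
 Tr.leaf) 60499 6
 (Tr.node Tr.leaf 60501 4
 Tr.leaf))) 60503 6
 (Tr.node (Tr.node (Tr.node (Tr.node Tr.leaf 60513 4
 Tr.leaf) 60515 6
 Tr.leaf) 60517 6
 (Tr.node (Tr.node Tr.leaf 60519 4
 Tr.leaf) 60529 6
 Tr.leaf)) 60531 4
 (Tr.node (Tr.node (Tr.node Tr.leaf 60533 6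
 Tr.leaf) 60535 6
 Tr.leaf) 60553 6
 (Tr.node Tr.leaf 60555 6
 Tr.leaf)))) 60557 6
 (Tr.node (Tr.node (Tr.node (Tr.node (Tr.node Tr.leaf 60559 5
 Tr.leaf) 60569 6
 Tr.leaf) 60571 6
 (Tr.node (Tr.node Tr.leaf 60573 5
 Tr.leaf) 60575 6
 Tr.leaf)) 60585 6
 (Tr.node (Tr.node (Tr.node Tr.leaf 60587 6
 Tr.leaf) 60589 5
 Tr.leaf) 60591 5
 (Tr.node Tr.leaf 60601 6
 Tr.leaf))) 60603 6
 (Tr.node (Tr.node (Tr.node (Tr.node Tr.leaf 60605 5
 Tr.leaf) 60607 6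
 Tr.leaf) 60617 5
 (Tr.node Tr.leaf 60619 6
 Tr.leaf)) 60621 5
 (Tr.node (Tr.node (Tr.node Tr.leaf 60623 6
 Tr.leaf) 60633 6
 Tr.leaf) 60635 6
 (Tr.node Tr.leaf 60637 6
 Tr.leaf))))) 60639 5
 (Tr.node (Tr.node (Tr.node (Tr.node (Tr.node (Tr.node Tr.leaf 60649 5
 Tr.leaf) 60651 6
 Tr.leaf) 60653 6
 (Tr.node (Tr.node Tr.leaf 60655 6
 Tr.leaf) 60665 6
 Tr.leaf)) 60667 6
 (Tr.node (Tr.node (Tr.node Tr.leaf 60669 5
 Tr.leaf) 60671 6
 Tr.leaf) 60681 6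
 (Tr.node Tr.leaf 60683 6
 Tr.leaf))) 60685 5
 (Tr.node (Tr.node (Tr.node (Tr.node Tr.leaf 60687 6
 Tr.leaf) 60697 6
 Tr.leaf) 60699 6
 (Tr.node Tr.leaf 60701 6
 Tr.leaf)) 60703 6
 (Tr.node (Tr.node (Tr.node Tr.leaf 60713 6
 Tr.leaf) 60715 6
 Tr.leaf) 60717 6
 (Tr.node Tr.leaf 60719 5
 Tr.leaf)))) 60729 6
 (Tr.node (Tr.node (Tr.node (Tr.node (Tr.node Tr.leaf 60731 6
 Tr.leaf) 60733 5
 Tr.leaf) 60735 5
 (Tr.node (Tr.node Tr.leaf 60745 6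
 Tr.leaf) 60747 6
 Tr.leaf)) 60749 6
 (Tr.node (Tr.node (Tr.node Tr.leaf 60751 6
 Tr.leaf) 60761 6
 Tr.leaf) 60763 6
 (Tr.node Tr.leaf 60765 5
 Tr.leaf))) 60767 6
 (Tr.node (Tr.node (Tr.node (Tr.node Tr.leaf 60777 5
 Tr.leaf) 60779 6
 Tr.leaf) 60781 5
 (Tr.node Tr.leaf 60783 6
 Tr.leaf)) 60793 5
 (Tr.node (Tr.node (Tr.node Tr.leaf 60795 6
 Tr.leaf) 60797 6
 Tr.leaf) 60799 6
 (Tr.node Tr.leaf 60801 6
 Tr.leaf)))))))))

/-- A subtree. -/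
def tr2_s15 : Tr := (Tr.node (Tr.node (Tr.node (Tr.node (Tr.node (Tr.node (Tr.node (Tr.node (Tr.node (Tr.node Tr.leaf 60805 6
 Tr.leaf) 60807 6
 Tr.leaf) 60817 5
 (Tr.node (Tr.node Tr.leaf 60819 6
 Tr.leaf) 60821 5
 Tr.leaf)) 60823 7
 (Tr.node (Tr.node (Tr.node Tr.leaf 60833 5
 Tr.leaf) 60835 6
 Tr.leaf) 60837 5
 (Tr.node Tr.leaf 60839 5
 Tr.leaf))) 60849 6
 (Tr.node (Tr.node (Tr.node (Tr.node Tr.leaf 60851 6
 Tr.leaf) 60853 6
 Tr.leaf) 60855 6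
 (Tr.node (Tr.node Tr.leaf 60865 6
 Tr.leaf) 60867 6
 Tr.leaf)) 60869 6
 (Tr.node (Tr.node (Tr.node Tr.leaf 60871 6
 Tr.leaf) 60881 6
 Tr.leaf) 60883 6
 (Tr.node Tr.leaf 60885 5
 Tr.leaf)))) 60887 5
 (Tr.node (Tr.node (Tr.node (Tr.node (Tr.node Tr.leaf 60897 5
 Tr.leaf) 60899 6
 Tr.leaf) 60901 5
 (Tr.node (Tr.node Tr.leaf 60903 5
 Tr.leaf) 60913 6
 Tr.leaf)) 60915 6
 (Tr.node (Tr.node (Tr.node Tr.leaf 60917 6
 Tr.leaf) 60919 6
 Tr.leaf) 61443 6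
 (Tr.node Tr.leaf 61445 6
 Tr.leaf))) 61446 6
 (Tr.node (Tr.node (Tr.node (Tr.node Tr.leaf 61451 4
 Tr.leaf) 61453 6
 Tr.leaf) 61454 5
 (Tr.node Tr.leaf 61459 6
 Tr.leaf)) 61461 6
 (Tr.node (Tr.node (Tr.node Tr.leaf 61462 6
 Tr.leaf) 61467 6
 Tr.leaf) 61469 5
 (Tr.node Tr.leaf 61470 6
 Tr.leaf))))) 61475 6
 (Tr.node (Tr.node (Tr.node (Tr.node (Tr.node (Tr.node Tr.leaf 61477 4
 Tr.leaf) 61478 4
 Tr.leaf) 61483 7
 (Tr.node (Tr.node Tr.leaf 61485 6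
 Tr.leaf) 61486 5
 Tr.leaf)) 61491 6
 (Tr.node (Tr.node (Tr.node Tr.leaf 61493 6
 Tr.leaf) 61494 7
 Tr.leaf) 61499 6
 (Tr.node Tr.leaf 61501 5
 Tr.leaf))) 61502 5
 (Tr.node (Tr.node (Tr.node (Tr.node Tr.leaf 61507 5
 Tr.leaf) 61509 6
 Tr.leaf) 61510 5
 (Tr.node (Tr.node Tr.leaf 61515 6
 Tr.leaf) 61517 6
 Tr.leaf)) 61518 6
 (Tr.node (Tr.node (Tr.node Tr.leaf 61523 4
 Tr.leaf) 61525 6
 Tr.leaf) 61526 6
 (Tr.node Tr.leaf 61531 6
 Tr.leaf)))) 61533 6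
 (Tr.node (Tr.node (Tr.node (Tr.node (Tr.node Tr.leaf 61534 6
 Tr.leaf) 61539 6
 Tr.leaf) 61541 6
 (Tr.node (Tr.node Tr.leaf 61542 5
 Tr.leaf) 61547 4
 Tr.leaf)) 61549 6
 (Tr.node (Tr.node (Tr.node Tr.leaf 61550 5
 Tr.leaf) 61555 6
 Tr.leaf) 61557 5
 (Tr.node Tr.leaf 61558 5
 Tr.leaf))) 61563 6
 (Tr.node (Tr.node (Tr.node (Tr.node Tr.leaf 61565 6
 Tr.leaf) 61566 7
 Tr.leaf) 61569 6
 (Tr.node Tr.leaf 61570 6
 Tr.leaf)) 61572 6
 (Tr.node (Tr.node (Tr.node Tr.leaf 61575 7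
 Tr.leaf) 61577 5
 Tr.leaf) 61578 3
 (Tr.node Tr.leaf 61580 3
 Tr.leaf)))))) 61583 6
 (Tr.node (Tr.node (Tr.node (Tr.node (Tr.node (Tr.node (Tr.node Tr.leaf 61585 6
 Tr.leaf) 61586 5
 Tr.leaf) 61588 6
 (Tr.node (Tr.node Tr.leaf 61591 6
 Tr.leaf) 61593 4
 Tr.leaf)) 61594 4
 (Tr.node (Tr.node (Tr.node Tr.leaf 61596 6
 Tr.leaf) 61599 6
 Tr.leaf) 61601 4
 (Tr.node Tr.leaf 61602 4
 Tr.leaf))) 61604 6
 (Tr.node (Tr.node (Tr.node (Tr.node Tr.leaf 61607 6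
 Tr.leaf) 61609 4
 Tr.leaf) 61610 6
 (Tr.node (Tr.node Tr.leaf 61612 5
 Tr.leaf) 61615 6
 Tr.leaf)) 61617 6
 (Tr.node (Tr.node (Tr.node Tr.leaf 61618 5
 Tr.leaf) 61620 5
 Tr.leaf) 61623 6
 (Tr.node Tr.leaf 61625 7
 Tr.leaf)))) 61626 6
 (Tr.node (Tr.node (Tr.node (Tr.node (Tr.node Tr.leaf 61628 6
 Tr.leaf) 61631 6
 Tr.leaf) 61633 6
 (Tr.node (Tr.node Tr.leaf 61634 6
 Tr.leaf) 61636 6
 Tr.leaf)) 61639 5
 (Tr.node (Tr.node (Tr.node Tr.leaf 61641 6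
 Tr.leaf) 61642 4
 Tr.leaf) 61644 6
 (Tr.node Tr.leaf 61647 6
 Tr.leaf))) 61649 5
 (Tr.node (Tr.node (Tr.node (Tr.node Tr.leaf 61650 6
 Tr.leaf) 61652 4
 Tr.leaf) 61655 5
 (Tr.node Tr.leaf 61657 5
 Tr.leaf)) 61658 5
 (Tr.node (Tr.node (Tr.node Tr.leaf 61660 6
 Tr.leaf) 61663 6
 Tr.leaf) 61665 6
 (Tr.node Tr.leaf 61666 5
 Tr.leaf))))) 61668 6
 (Tr.node (Tr.node (Tr.node (Tr.node (Tr.node (Tr.node Tr.leaf 61671 5
 Tr.leaf) 61673 7
 Tr.leaf) 61674 6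
 (Tr.node (Tr.node Tr.leaf 61676 6
 Tr.leaf) 61679 6
 Tr.leaf)) 61681 4
 (Tr.node (Tr.node (Tr.node Tr.leaf 61682 3
 Tr.leaf) 61684 3
 Tr.leaf) 61687 6
 (Tr.node Tr.leaf 61689 6
 Tr.leaf))) 61690 6
 (Tr.node (Tr.node (Tr.node (Tr.node Tr.leaf 61692 6
 Tr.leaf) 61695 6
 Tr.leaf) 61697 6
 (Tr.node Tr.leaf 61698 6
 Tr.leaf)) 61700 6
 (Tr.node (Tr.node (Tr.node Tr.leaf 61703 6
 Tr.leaf) 61705 4
 Tr.leaf) 61706 3
 (Tr.node Tr.leaf 61708 3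
 Tr.leaf)))) 61711 6
 (Tr.node (Tr.node (Tr.node (Tr.node (Tr.node Tr.leaf 61713 5
 Tr.leaf) 61714 6
 Tr.leaf) 61716 6
 (Tr.node (Tr.node Tr.leaf 61719 6
 Tr.leaf) 61721 6
 Tr.leaf)) 61722 4
 (Tr.node (Tr.node (Tr.node Tr.leaf 61724 6
 Tr.leaf) 61727 5
 Tr.leaf) 61729 6
 (Tr.node Tr.leaf 61730 6
 Tr.leaf))) 61732 6
 (Tr.node (Tr.node (Tr.node (Tr.node Tr.leaf 61735 6
 Tr.leaf) 61737 6
 Tr.leaf) 61738 6
 (Tr.node Tr.leaf 61740 5
 Tr.leaf)) 61743 5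
 (Tr.node (Tr.node (Tr.node Tr.leaf 61745 6
 Tr.leaf) 61746 6
 Tr.leaf) 61748 4
 (Tr.node Tr.leaf 61751 6
 Tr.leaf))))))) 61753 6
 (Tr.node (Tr.node (Tr.node (Tr.node (Tr.node (Tr.node (Tr.node (Tr.node Tr.leaf 61754 6
 Tr.leaf) 61756 6
 Tr.leaf) 61759 5
 (Tr.node (Tr.node Tr.leaf 61761 6
 Tr.leaf) 61762 6
 Tr.leaf)) 61764 6
 (Tr.node (Tr.node (Tr.node Tr.leaf 61767 6
 Tr.leaf) 61769 6
 Tr.leaf) 61770 5
 (Tr.node Tr.leaf 61772 6
 Tr.leaf))) 61775 6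
 (Tr.node (Tr.node (Tr.node (Tr.node Tr.leaf 61777 4
 Tr.leaf) 61778 6
 Tr.leaf) 61780 4
 (Tr.node (Tr.node Tr.leaf 61783 6
 Tr.leaf) 61785 6
 Tr.leaf)) 61786 6
 (Tr.node (Tr.node (Tr.node Tr.leaf 61788 5
 Tr.leaf) 61791 6
 Tr.leaf) 61793 5
 (Tr.node Tr.leaf 61794 5
 Tr.leaf)))) 61796 6
 (Tr.node (Tr.node (Tr.node (Tr.node (Tr.node Tr.leaf 61799 6
 Tr.leaf) 61801 5
 Tr.leaf) 61802 6
 (Tr.node (Tr.node Tr.leaf 61804 4
 Tr.leaf) 61807 6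
 Tr.leaf)) 61809 6
 (Tr.node (Tr.node (Tr.node Tr.leaf 61810 4
 Tr.leaf) 61812 4
 Tr.leaf) 61815 6
 (Tr.node Tr.leaf 61817 7
 Tr.leaf))) 61818 6
 (Tr.node (Tr.node (Tr.node (Tr.node Tr.leaf 61820 6
 Tr.leaf) 61823 7
 Tr.leaf) 61827 6
 (Tr.node Tr.leaf 61829 6
 Tr.leaf)) 61830 6
 (Tr.node (Tr.node (Tr.node Tr.leaf 61835 6
 Tr.leaf) 61837 6
 Tr.leaf) 61838 6
 (Tr.node Tr.leaf 61843 6
 Tr.leaf))))) 61845 6
 (Tr.node (Tr.node (Tr.node (Tr.node (Tr.node (Tr.node Tr.leaf 61846 6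
 Tr.leaf) 61851 5
 Tr.leaf) 61853 6
 (Tr.node (Tr.node Tr.leaf 61854 5
 Tr.leaf) 61859 6
 Tr.leaf)) 61861 5
 (Tr.node (Tr.node (Tr.node Tr.leaf 61862 5
 Tr.leaf) 61867 6
 Tr.leaf) 61869 6
 (Tr.node Tr.leaf 61870 5
 Tr.leaf))) 61875 6
 (Tr.node (Tr.node (Tr.node (Tr.node Tr.leaf 61877 6
 Tr.leaf) 61878 6
 Tr.leaf) 61883 6
 (Tr.node Tr.leaf 61885 6
 Tr.leaf)) 61886 5
 (Tr.node (Tr.node (Tr.node Tr.leaf 61891 6
 Tr.leaf) 61893 7
 Tr.leaf) 61894 5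
 (Tr.node Tr.leaf 61899 6
 Tr.leaf)))) 61901 6
 (Tr.node (Tr.node (Tr.node (Tr.node (Tr.node Tr.leaf 61902 6
 Tr.leaf) 61907 5
 Tr.leaf) 61909 5
 (Tr.node (Tr.node Tr.leaf 61910 5
 Tr.leaf) 61915 6
 Tr.leaf)) 61917 6
 (Tr.node (Tr.node (Tr.node Tr.leaf 61918 5
 Tr.leaf) 61923 6
 Tr.leaf) 61925 6
 (Tr.node Tr.leaf 61926 5
 Tr.leaf))) 61931 5
 (Tr.node (Tr.node (Tr.node (Tr.node Tr.leaf 61933 6
 Tr.leaf) 61934 5
 Tr.leaf) 61939 6
 (Tr.node Tr.leaf 61941 6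
 Tr.leaf)) 61942 6
 (Tr.node (Tr.node (Tr.node Tr.leaf 61947 6
 Tr.leaf) 61949 6
 Tr.leaf) 61950 6
 (Tr.node Tr.leaf 62465 5
 Tr.leaf)))))) 62467 4
 (Tr.node (Tr.node (Tr.node (Tr.node (Tr.node (Tr.node (Tr.node Tr.leaf 62473 4
 Tr.leaf) 62475 6
 Tr.leaf) 62481 5
 (Tr.node (Tr.node Tr.leaf 62483 6
 Tr.leaf) 62489 7
 Tr.leaf)) 62491 6
 (Tr.node (Tr.node (Tr.node Tr.leaf 62497 6
 Tr.leaf) 62499 6
 Tr.leaf) 62505 6
 (Tr.node Tr.leaf 62507 6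
 Tr.leaf))) 62513 6
 (Tr.node (Tr.node (Tr.node (Tr.node Tr.leaf 62515 6
 Tr.leaf) 62521 6
 Tr.leaf) 62523 7
 (Tr.node (Tr.node Tr.leaf 62529 5
 Tr.leaf) 62531 6
 Tr.leaf)) 62537 6
 (Tr.node (Tr.node (Tr.node Tr.leaf 62539 6
 Tr.leaf) 62545 6
 Tr.leaf) 62547 4
 (Tr.node Tr.leaf 62553 4
 Tr.leaf)))) 62555 4
 (Tr.node (Tr.node (Tr.node (Tr.node (Tr.node Tr.leaf 62561 4
 Tr.leaf) 62563 4
 Tr.leaf) 62569 4
 (Tr.node (Tr.node Tr.leaf 62571 6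
 Tr.leaf) 62577 5
 Tr.leaf)) 62579 7
 (Tr.node (Tr.node (Tr.node Tr.leaf 62585 6
 Tr.leaf) 62587 6
 Tr.leaf) 62597 6
 (Tr.node Tr.leaf 62599 6
 Tr.leaf))) 62605 6
 (Tr.node (Tr.node (Tr.node (Tr.node Tr.leaf 62607 5
 Tr.leaf) 62613 6
 Tr.leaf) 62615 6
 (Tr.node Tr.leaf 62621 6
 Tr.leaf)) 62623 6
 (Tr.node (Tr.node (Tr.node Tr.leaf 62629 6
 Tr.leaf) 62631 6
 Tr.leaf) 62637 6
 (Tr.node Tr.leaf 62639 5
 Tr.leaf))))) 62645 6
 (Tr.node (Tr.node (Tr.node (Tr.node (Tr.node (Tr.node Tr.leaf 62647 6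
 Tr.leaf) 62653 6
 Tr.leaf) 62655 6
 (Tr.node (Tr.node Tr.leaf 62661 6
 Tr.leaf) 62663 5
 Tr.leaf)) 62669 6
 (Tr.node (Tr.node (Tr.node Tr.leaf 62671 6
 Tr.leaf) 62677 6
 Tr.leaf) 62679 6
 (Tr.node Tr.leaf 62685 5
 Tr.leaf))) 62687 6
 (Tr.node (Tr.node (Tr.node (Tr.node Tr.leaf 62693 6
 Tr.leaf) 62695 5
 Tr.leaf) 62701 6
 (Tr.node Tr.leaf 62703 6
 Tr.leaf)) 62709 6
 (Tr.node (Tr.node (Tr.node Tr.leaf 62711 5
 Tr.leaf) 62717 6
 Tr.leaf) 62719 6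
 (Tr.node Tr.leaf 62725 6
 Tr.leaf)))) 62727 5
 (Tr.node (Tr.node (Tr.node (Tr.node (Tr.node Tr.leaf 62733 5
 Tr.leaf) 62735 6
 Tr.leaf) 62741 6
 (Tr.node (Tr.node Tr.leaf 62743 6
 Tr.leaf) 62749 6
 Tr.leaf)) 62751 6
 (Tr.node (Tr.node (Tr.node Tr.leaf 62757 6
 Tr.leaf) 62759 5
 Tr.leaf) 62765 6
 (Tr.node Tr.leaf 62767 6
 Tr.leaf))) 62773 6
 (Tr.node (Tr.node (Tr.node (Tr.node Tr.leaf 62775 6
 Tr.leaf) 62781 5
 Tr.leaf) 62783 6
 (Tr.node Tr.leaf 62789 5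
 Tr.leaf)) 62791 6
 (Tr.node (Tr.node (Tr.node Tr.leaf 62797 6
 Tr.leaf) 62799 6
 Tr.leaf) 62805 6
 (Tr.node Tr.leaf 62807 6
 Tr.leaf)))))))) 62813 6
 (Tr.node (Tr.node (Tr.node (Tr.node (Tr.node (Tr.node (Tr.node (Tr.node (Tr.node Tr.leaf 62815 6
 Tr.leaf) 62821 6
 Tr.leaf) 62823 6
 (Tr.node (Tr.node Tr.leaf 62829 5
 Tr.leaf) 62831 6
 Tr.leaf)) 62837 5
 (Tr.node (Tr.node (Tr.node Tr.leaf 62839 6
 Tr.leaf) 62845 6
 Tr.leaf) 62847 6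
 (Tr.node Tr.leaf 62849 6
 Tr.leaf))) 62851 6
 (Tr.node (Tr.node (Tr.node (Tr.node Tr.leaf 62857 6
 Tr.leaf) 62859 6
 Tr.leaf) 62865 5
 (Tr.node (Tr.node Tr.leaf 62867 6
 Tr.leaf) 62873 6
 Tr.leaf)) 62875 6
 (Tr.node (Tr.node (Tr.node Tr.leaf 62881 6
 Tr.leaf) 62883 6
 Tr.leaf) 62889 6
 (Tr.node Tr.leaf 62891 5
 Tr.leaf)))) 62897 6
 (Tr.node (Tr.node (Tr.node (Tr.node (Tr.node Tr.leaf 62899 6
 Tr.leaf) 62905 6
 Tr.leaf) 62907 6
 (Tr.node (Tr.node Tr.leaf 62913 6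
 Tr.leaf) 62915 6
 Tr.leaf)) 62921 6
 (Tr.node (Tr.node (Tr.node Tr.leaf 62923 6
 Tr.leaf) 62929 5
 Tr.leaf) 62931 6
 (Tr.node Tr.leaf 62937 6
 Tr.leaf))) 62939 6
 (Tr.node (Tr.node (Tr.node (Tr.node Tr.leaf 62945 6
 Tr.leaf) 62947 6
 Tr.leaf) 62953 5
 (Tr.node Tr.leaf 62955 6
 Tr.leaf)) 62961 6
 (Tr.node (Tr.node (Tr.node Tr.leaf 62963 6
 Tr.leaf) 62969 6
 Tr.leaf) 62971 6
 (Tr.node Tr.leaf 63489 6
 Tr.leaf))))) 63490 5
 (Tr.node (Tr.node (Tr.node (Tr.node (Tr.node (Tr.node Tr.leaf 63493 7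
 Tr.leaf) 63494 5
 Tr.leaf) 63497 6
 (Tr.node (Tr.node Tr.leaf 63498 5
 Tr.leaf) 63501 5
 Tr.leaf)) 63502 4
 (Tr.node (Tr.node (Tr.node Tr.leaf 63505 4
 Tr.leaf) 63506 3
 Tr.leaf) 63509 4
 (Tr.node Tr.leaf 63510 6
 Tr.leaf))) 63513 4
 (Tr.node (Tr.node (Tr.node (Tr.node Tr.leaf 63514 4
 Tr.leaf) 63517 6
 Tr.leaf) 63518 6
 (Tr.node Tr.leaf 63521 6
 Tr.leaf)) 63522 6
 (Tr.node (Tr.node (Tr.node Tr.leaf 63525 4
 Tr.leaf) 63526 6
 Tr.leaf) 63529 5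
 (Tr.node Tr.leaf 63530 6
 Tr.leaf)))) 63533 4
 (Tr.node (Tr.node (Tr.node (Tr.node (Tr.node Tr.leaf 63534 5
 Tr.leaf) 63537 6
 Tr.leaf) 63538 5
 (Tr.node (Tr.node Tr.leaf 63541 6
 Tr.leaf) 63542 4
 Tr.leaf)) 63545 6
 (Tr.node (Tr.node (Tr.node Tr.leaf 63546 5
 Tr.leaf) 63549 5
 Tr.leaf) 63550 4
 (Tr.node Tr.leaf 63553 6
 Tr.leaf))) 63554 5
 (Tr.node (Tr.node (Tr.node (Tr.node Tr.leaf 63557 6
 Tr.leaf) 63558 4
 Tr.leaf) 63561 6
 (Tr.node Tr.leaf 63562 5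
 Tr.leaf)) 63565 6
 (Tr.node (Tr.node (Tr.node Tr.leaf 63566 4
 Tr.leaf) 63569 6
 Tr.leaf) 63570 4
 (Tr.node Tr.leaf 63573 6
 Tr.leaf)))))) 63574 6
 (Tr.node (Tr.node (Tr.node (Tr.node (Tr.node (Tr.node (Tr.node Tr.leaf 63577 6
 Tr.leaf) 63578 5
 Tr.leaf) 63581 5
 (Tr.node (Tr.node Tr.leaf 63582 6
 Tr.leaf) 63585 6
 Tr.leaf)) 63586 6
 (Tr.node (Tr.node (Tr.node Tr.leaf 63589 6
 Tr.leaf) 63590 6
 Tr.leaf) 63593 6
 (Tr.node Tr.leaf 63594 6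
 Tr.leaf))) 63597 6
 (Tr.node (Tr.node (Tr.node (Tr.node Tr.leaf 63598 6
 Tr.leaf) 63601 6
 Tr.leaf) 63602 5
 (Tr.node (Tr.node Tr.leaf 63605 5
 Tr.leaf) 63606 5
 Tr.leaf)) 63609 4
 (Tr.node (Tr.node (Tr.node Tr.leaf 63610 6
 Tr.leaf) 63613 4
 Tr.leaf) 63614 4
 (Tr.node Tr.leaf 63619 5
 Tr.leaf)))) 63623 6
 (Tr.node (Tr.node (Tr.node (Tr.node (Tr.node Tr.leaf 63627 6
 Tr.leaf) 63631 5
 Tr.leaf) 63635 6
 (Tr.node (Tr.node Tr.leaf 63639 6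
 Tr.leaf) 63643 6
 Tr.leaf)) 63647 6
 (Tr.node (Tr.node (Tr.node Tr.leaf 63651 6
 Tr.leaf) 63655 5
 Tr.leaf) 63659 6
 (Tr.node Tr.leaf 63663 5
 Tr.leaf))) 63667 6
 (Tr.node (Tr.node (Tr.node (Tr.node Tr.leaf 63671 6
 Tr.leaf) 63675 6
 Tr.leaf) 63679 6
 (Tr.node Tr.leaf 63683 5
 Tr.leaf)) 63687 5
 (Tr.node (Tr.node (Tr.node Tr.leaf 63691 6
 Tr.leaf) 63695 6
 Tr.leaf) 63699 6
 (Tr.node Tr.leaf 63703 6
 Tr.leaf))))) 63707 6
 (Tr.node (Tr.node (Tr.node (Tr.node (Tr.node (Tr.node Tr.leaf 63711 6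
 Tr.leaf) 63715 6
 Tr.leaf) 63719 6
 (Tr.node (Tr.node Tr.leaf 63723 5
 Tr.leaf) 63727 6
 Tr.leaf)) 63731 6
 (Tr.node (Tr.node (Tr.node Tr.leaf 63735 5
 Tr.leaf) 63739 5
 Tr.leaf) 63743 6
 (Tr.node Tr.leaf 63747 6
 Tr.leaf))) 63751 6
 (Tr.node (Tr.node (Tr.node (Tr.node Tr.leaf 63755 6
 Tr.leaf) 63759 6
 Tr.leaf) 63763 6
 (Tr.node Tr.leaf 63767 5
 Tr.leaf)) 63771 6
 (Tr.node (Tr.node (Tr.node Tr.leaf 63775 6
 Tr.leaf) 63779 6
 Tr.leaf) 63783 6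
 (Tr.node Tr.leaf 63787 5
 Tr.leaf)))) 63791 6
 (Tr.node (Tr.node (Tr.node (Tr.node (Tr.node Tr.leaf 63795 6
 Tr.leaf) 63799 6
 Tr.leaf) 63803 5
 (Tr.node (Tr.node Tr.leaf 63807 6
 Tr.leaf) 63811 6
 Tr.leaf)) 63815 6
 (Tr.node (Tr.node (Tr.node Tr.leaf 63819 6
 Tr.leaf) 63823 5
 Tr.leaf) 63827 6
 (Tr.node Tr.leaf 63831 6
 Tr.leaf))) 63835 6
 (Tr.node (Tr.node (Tr.node (Tr.node Tr.leaf 63839 6
 Tr.leaf) 63843 5
 Tr.leaf) 63847 6
 (Tr.node Tr.leaf 63851 6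
 Tr.leaf)) 63855 6
 (Tr.node (Tr.node (Tr.node Tr.leaf 63859 5
 Tr.leaf) 63863 6
 Tr.leaf) 63867 6
 (Tr.node Tr.leaf 63871 6
 Tr.leaf))))))) 63873 6
 (Tr.node (Tr.node (Tr.node (Tr.node (Tr.node (Tr.node (Tr.node (Tr.node Tr.leaf 63874 6
 Tr.leaf) 63877 6
 Tr.leaf) 63878 6
 (Tr.node (Tr.node Tr.leaf 63881 6
 Tr.leaf) 63882 6
 Tr.leaf)) 63885 6
 (Tr.node (Tr.node (Tr.node Tr.leaf 63886 6
 Tr.leaf) 63889 6
 Tr.leaf) 63890 5
 (Tr.node Tr.leaf 63893 5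
 Tr.leaf))) 63894 6
 (Tr.node (Tr.node (Tr.node (Tr.node Tr.leaf 63897 5
 Tr.leaf) 63898 5
 Tr.leaf) 63901 5
 (Tr.node (Tr.node Tr.leaf 63902 5
 Tr.leaf) 63905 6
 Tr.leaf)) 63906 6
 (Tr.node (Tr.node (Tr.node Tr.leaf 63909 5
 Tr.leaf) 63910 5
 Tr.leaf) 63913 6
 (Tr.node Tr.leaf 63914 5
 Tr.leaf)))) 63917 6
 (Tr.node (Tr.node (Tr.node (Tr.node (Tr.node Tr.leaf 63918 5
 Tr.leaf) 63921 6
 Tr.leaf) 63922 5
 (Tr.node (Tr.node Tr.leaf 63925 6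
 Tr.leaf) 63926 6
 Tr.leaf)) 63929 6
 (Tr.node (Tr.node (Tr.node Tr.leaf 63930 5
 Tr.leaf) 63933 6
 Tr.leaf) 63934 5
 (Tr.node Tr.leaf 63937 6
 Tr.leaf))) 63938 6
 (Tr.node (Tr.node (Tr.node (Tr.node Tr.leaf 63941 6
 Tr.leaf) 63942 6
 Tr.leaf) 63945 6
 (Tr.node Tr.leaf 63946 6
 Tr.leaf)) 63949 6
 (Tr.node (Tr.node (Tr.node Tr.leaf 63950 7
 Tr.leaf) 63953 6
 Tr.leaf) 63954 5
 (Tr.node Tr.leaf 63957 6
 Tr.leaf))))) 63958 5
 (Tr.node (Tr.node (Tr.node (Tr.node (Tr.node (Tr.node Tr.leaf 63961 6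
 Tr.leaf) 63962 6
 Tr.leaf) 63965 6
 (Tr.node (Tr.node Tr.leaf 63966 5
 Tr.leaf) 63969 5
 Tr.leaf)) 63970 5
 (Tr.node (Tr.node (Tr.node Tr.leaf 63973 6
 Tr.leaf) 63974 5
 Tr.leaf) 63977 6
 (Tr.node Tr.leaf 63978 4
 Tr.leaf))) 63981 6
 (Tr.node (Tr.node (Tr.node (Tr.node Tr.leaf 63982 6
 Tr.leaf) 63985 6
 Tr.leaf) 63986 6
 (Tr.node Tr.leaf 63989 6
 Tr.leaf)) 63990 6
 (Tr.node (Tr.node (Tr.node Tr.leaf 63993 6
 Tr.leaf) 63994 6
 Tr.leaf) 63997 6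
 (Tr.node Tr.leaf 63998 5
 Tr.leaf)))) 64641 6
 (Tr.node (Tr.node (Tr.node (Tr.node (Tr.node Tr.leaf 64643 6
 Tr.leaf) 64645 6
 Tr.leaf) 64647 6
 (Tr.node (Tr.node Tr.leaf 64649 5
 Tr.leaf) 64651 6
 Tr.leaf)) 64653 6
 (Tr.node (Tr.node (Tr.node Tr.leaf 64655 6
 Tr.leaf) 64657 6
 Tr.leaf) 64659 6
 (Tr.node Tr.leaf 64661 6
 Tr.leaf))) 64663 6
 (Tr.node (Tr.node (Tr.node (Tr.node Tr.leaf 64665 6
 Tr.leaf) 64667 6
 Tr.leaf) 64669 6
 (Tr.node Tr.leaf 64671 6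
 Tr.leaf)) 64673 6
 (Tr.node (Tr.node (Tr.node Tr.leaf 64675 6
 Tr.leaf) 64677 6
 Tr.leaf) 64679 6
 (Tr.node Tr.leaf 64681 6
 Tr.leaf)))))) 64683 6
 (Tr.node (Tr.node (Tr.node (Tr.node (Tr.node (Tr.node (Tr.node Tr.leaf 64685 6
 Tr.leaf) 64687 6
 Tr.leaf) 64689 6
 (Tr.node (Tr.node Tr.leaf 64691 6
 Tr.leaf) 64693 6
 Tr.leaf)) 64695 5
 (Tr.node (Tr.node (Tr.node Tr.leaf 64697 6
 Tr.leaf) 64699 6
 Tr.leaf) 64701 6
 (Tr.node Tr.leaf 64703 6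
 Tr.leaf))) 64705 6
 (Tr.node (Tr.node (Tr.node (Tr.node Tr.leaf 64707 6
 Tr.leaf) 64709 6
 Tr.leaf) 64711 6
 (Tr.node (Tr.node Tr.leaf 64713 6
 Tr.leaf) 64715 5
 Tr.leaf)) 64717 6
 (Tr.node (Tr.node (Tr.node Tr.leaf 64719 6
 Tr.leaf) 64721 6
 Tr.leaf) 64723 6
 (Tr.node Tr.leaf 64725 6
 Tr.leaf)))) 64727 7
 (Tr.node (Tr.node (Tr.node (Tr.node (Tr.node Tr.leaf 64729 6
 Tr.leaf) 64731 6
 Tr.leaf) 64733 6
 (Tr.node (Tr.node Tr.leaf 64735 6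
 Tr.leaf) 64737 6
 Tr.leaf)) 64739 6
 (Tr.node (Tr.node (Tr.node Tr.leaf 64741 6
 Tr.leaf) 64743 6
 Tr.leaf) 64745 6
 (Tr.node Tr.leaf 64747 6
 Tr.leaf))) 64749 6
 (Tr.node (Tr.node (Tr.node (Tr.node Tr.leaf 64751 5
 Tr.leaf) 64753 6
 Tr.leaf) 64755 6
 (Tr.node Tr.leaf 64757 6
 Tr.leaf)) 64759 6
 (Tr.node (Tr.node (Tr.node Tr.leaf 64761 6
 Tr.leaf) 64763 6
 Tr.leaf) 64765 6
 (Tr.node Tr.leaf 64767 6
 Tr.leaf))))) 64769 6
 (Tr.node (Tr.node (Tr.node (Tr.node (Tr.node (Tr.node Tr.leaf 64771 6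
 Tr.leaf) 64773 6
 Tr.leaf) 64775 6
 (Tr.node (Tr.node Tr.leaf 64777 6
 Tr.leaf) 64779 6
 Tr.leaf)) 64781 6
 (Tr.node (Tr.node (Tr.node Tr.leaf 64783 6
 Tr.leaf) 64785 6
 Tr.leaf) 64787 5
 (Tr.node Tr.leaf 64789 6
 Tr.leaf))) 64791 6
 (Tr.node (Tr.node (Tr.node (Tr.node Tr.leaf 64793 7
 Tr.leaf) 64795 6
 Tr.leaf) 64797 6
 (Tr.node Tr.leaf 64799 6
 Tr.leaf)) 64801 5
 (Tr.node (Tr.node (Tr.node Tr.leaf 64803 5
 Tr.leaf) 64805 6
 Tr.leaf) 64807 6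
 (Tr.node Tr.leaf 64809 6
 Tr.leaf)))) 64811 7
 (Tr.node (Tr.node (Tr.node (Tr.node (Tr.node Tr.leaf 64813 6
 Tr.leaf) 64815 6
 Tr.leaf) 64817 6
 (Tr.node (Tr.node Tr.leaf 64819 6
 Tr.leaf) 64821 6
 Tr.leaf)) 64823 6
 (Tr.node (Tr.node (Tr.node Tr.leaf 64825 6
 Tr.leaf) 64827 6
 Tr.leaf) 64829 6
 (Tr.node Tr.leaf 64831 5
 Tr.leaf))) 64833 6
 (Tr.node (Tr.node (Tr.node (Tr.node Tr.leaf 64835 6
 Tr.leaf) 64837 6
 Tr.leaf) 64839 6
 (Tr.node Tr.leaf 64841 5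
 Tr.leaf)) 64843 6
 (Tr.node (Tr.node (Tr.node Tr.leaf 64845 5
 Tr.leaf) 64847 6
 Tr.leaf) 64849 6
 (Tr.node Tr.leaf 64851 6
 Tr.leaf)))))))))

/-- A subtree. -/
def tr2_s16 : Tr := (Tr.node (Tr.node (Tr.node (Tr.node (Tr.node (Tr.node (Tr.node (Tr.node (Tr.node (Tr.node Tr.leaf 64855 6
 Tr.leaf) 64857 6
 Tr.leaf) 64859 6
 (Tr.node (Tr.node Tr.leaf 64861 6
 Tr.leaf) 64863 6
 Tr.leaf)) 64865 6
 (Tr.node (Tr.node (Tr.node Tr.leaf 64867 6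
 Tr.leaf) 64869 6
 Tr.leaf) 64871 6
 (Tr.node Tr.leaf 64873 6
 Tr.leaf))) 64875 6
 (Tr.node (Tr.node (Tr.node (Tr.node Tr.leaf 64877 6
 Tr.leaf) 64879 6
 Tr.leaf) 64881 6
 (Tr.node (Tr.node Tr.leaf 64883 6
 Tr.leaf) 64885 6
 Tr.leaf)) 64887 5
 (Tr.node (Tr.node (Tr.node Tr.leaf 64889 6
 Tr.leaf) 64891 6
 Tr.leaf) 64893 6
 (Tr.node Tr.leaf 64895 6
 Tr.leaf)))) 65537 3
 (Tr.node (Tr.node (Tr.node (Tr.node (Tr.node Tr.leaf 65538 1
 Tr.leaf) 65540 2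
 Tr.leaf) 65543 4
 (Tr.node (Tr.node Tr.leaf 65544 3
 Tr.leaf) 65547 6
 Tr.leaf)) 65549 4
 (Tr.node (Tr.node (Tr.node Tr.leaf 65550 3
 Tr.leaf) 65552 2
 Tr.leaf) 65555 4
 (Tr.node Tr.leaf 65557 5
 Tr.leaf))) 65558 5
 (Tr.node (Tr.node (Tr.node (Tr.node Tr.leaf 65561 6
 Tr.leaf) 65562 4
 Tr.leaf) 65564 4
 (Tr.node Tr.leaf 65567 5
 Tr.leaf)) 65568 2
 (Tr.node (Tr.node (Tr.node Tr.leaf 65571 4
 Tr.leaf) 65573 4
 Tr.leaf) 65574 7
 (Tr.node Tr.leaf 65577 4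
 Tr.leaf))))) 65578 3
 (Tr.node (Tr.node (Tr.node (Tr.node (Tr.node (Tr.node Tr.leaf 65580 4
 Tr.leaf) 65583 6
 Tr.leaf) 65585 3
 (Tr.node (Tr.node Tr.leaf 65586 4
 Tr.leaf) 65588 6
 Tr.leaf)) 65591 4
 (Tr.node (Tr.node (Tr.node Tr.leaf 65592 4
 Tr.leaf) 65595 6
 Tr.leaf) 65597 5
 (Tr.node Tr.leaf 65598 5
 Tr.leaf))) 65600 3
 (Tr.node (Tr.node (Tr.node (Tr.node Tr.leaf 65603 5
 Tr.leaf) 65605 5
 Tr.leaf) 65606 6
 (Tr.node (Tr.node Tr.leaf 65609 4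
 Tr.leaf) 65610 6
 Tr.leaf)) 65612 4
 (Tr.node (Tr.node (Tr.node Tr.leaf 65615 5
 Tr.leaf) 65617 6
 Tr.leaf) 65618 4
 (Tr.node Tr.leaf 65620 4
 Tr.leaf)))) 65623 4
 (Tr.node (Tr.node (Tr.node (Tr.node (Tr.node Tr.leaf 65624 4
 Tr.leaf) 65627 5
 Tr.leaf) 65629 5
 (Tr.node (Tr.node Tr.leaf 65630 6
 Tr.leaf) 65633 4
 Tr.leaf)) 65634 4
 (Tr.node (Tr.node (Tr.node Tr.leaf 65636 4
 Tr.leaf) 65639 4
 Tr.leaf) 65640 7
 (Tr.node Tr.leaf 65643 6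
 Tr.leaf))) 65645 5
 (Tr.node (Tr.node (Tr.node (Tr.node Tr.leaf 65646 5
 Tr.leaf) 65648 6
 Tr.leaf) 65651 5
 (Tr.node Tr.leaf 65653 6
 Tr.leaf)) 65654 4
 (Tr.node (Tr.node (Tr.node Tr.leaf 65657 6
 Tr.leaf) 65658 6
 Tr.leaf) 65660 5
 (Tr.node Tr.leaf 65663 6
 Tr.leaf)))))) 65665 3
 (Tr.node (Tr.node (Tr.node (Tr.node (Tr.node (Tr.node (Tr.node Tr.leaf 65666 2
 Tr.leaf) 65668 3
 Tr.leaf) 65671 4
 (Tr.node (Tr.node Tr.leaf 65672 2
 Tr.leaf) 65675 5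
 Tr.leaf)) 65677 4
 (Tr.node (Tr.node (Tr.node Tr.leaf 65678 4
 Tr.leaf) 65680 2
 Tr.leaf) 65683 4
 (Tr.node Tr.leaf 65685 5
 Tr.leaf))) 65686 4
 (Tr.node (Tr.node (Tr.node (Tr.node Tr.leaf 65689 6
 Tr.leaf) 65690 4
 Tr.leaf) 65692 4
 (Tr.node (Tr.node Tr.leaf 65695 6
 Tr.leaf) 65696 2
 Tr.leaf)) 65699 5
 (Tr.node (Tr.node (Tr.node Tr.leaf 65701 4
 Tr.leaf) 65702 7
 Tr.leaf) 65705 4
 (Tr.node Tr.leaf 65706 4
 Tr.leaf)))) 65708 4
 (Tr.node (Tr.node (Tr.node (Tr.node (Tr.node Tr.leaf 65711 5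
 Tr.leaf) 65713 4
 Tr.leaf) 65714 4
 (Tr.node (Tr.node Tr.leaf 65716 6
 Tr.leaf) 65719 6
 Tr.leaf)) 65720 4
 (Tr.node (Tr.node (Tr.node Tr.leaf 65723 5
 Tr.leaf) 65725 6
 Tr.leaf) 65726 5
 (Tr.node Tr.leaf 65728 2
 Tr.leaf))) 65731 5
 (Tr.node (Tr.node (Tr.node (Tr.node Tr.leaf 65733 6
 Tr.leaf) 65734 6
 Tr.leaf) 65737 4
 (Tr.node Tr.leaf 65738 6
 Tr.leaf)) 65740 3
 (Tr.node (Tr.node (Tr.node Tr.leaf 65743 5
 Tr.leaf) 65745 6
 Tr.leaf) 65746 5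
 (Tr.node Tr.leaf 65748 5
 Tr.leaf))))) 65751 6
 (Tr.node (Tr.node (Tr.node (Tr.node (Tr.node (Tr.node Tr.leaf 65752 5
 Tr.leaf) 65755 5
 Tr.leaf) 65757 4
 (Tr.node (Tr.node Tr.leaf 65758 5
 Tr.leaf) 65761 4
 Tr.leaf)) 65762 4
 (Tr.node (Tr.node (Tr.node Tr.leaf 65764 3
 Tr.leaf) 65767 6
 Tr.leaf) 65768 7
 (Tr.node Tr.leaf 65771 4
 Tr.leaf))) 65773 6
 (Tr.node (Tr.node (Tr.node (Tr.node Tr.leaf 65774 5
 Tr.leaf) 65776 5
 Tr.leaf) 65779 6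
 (Tr.node Tr.leaf 65781 6
 Tr.leaf)) 65782 5
 (Tr.node (Tr.node (Tr.node Tr.leaf 65785 6
 Tr.leaf) 65786 6
 Tr.leaf) 65788 5
 (Tr.node Tr.leaf 65791 6
 Tr.leaf)))) 65795 6
 (Tr.node (Tr.node (Tr.node (Tr.node (Tr.node Tr.leaf 65797 6
 Tr.leaf) 65798 5
 Tr.leaf) 65801 5
 (Tr.node (Tr.node Tr.leaf 65802 4
 Tr.leaf) 65804 4
 Tr.leaf)) 65807 4
 (Tr.node (Tr.node (Tr.node Tr.leaf 65809 3
 Tr.leaf) 65810 4
 Tr.leaf) 65812 6
 (Tr.node Tr.leaf 65815 6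
 Tr.leaf))) 65816 5
 (Tr.node (Tr.node (Tr.node (Tr.node Tr.leaf 65819 6
 Tr.leaf) 65821 6
 Tr.leaf) 65822 5
 (Tr.node Tr.leaf 65825 3
 Tr.leaf)) 65826 5
 (Tr.node (Tr.node (Tr.node Tr.leaf 65828 5
 Tr.leaf) 65831 6
 Tr.leaf) 65832 6
 (Tr.node Tr.leaf 65835 6
 Tr.leaf))))))) 65837 6
 (Tr.node (Tr.node (Tr.node (Tr.node (Tr.node (Tr.node (Tr.node (Tr.node Tr.leaf 65838 5
 Tr.leaf) 65840 4
 Tr.leaf) 65843 6
 (Tr.node (Tr.node Tr.leaf 65845 6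
 Tr.leaf) 65846 6
 Tr.leaf)) 65849 4
 (Tr.node (Tr.node (Tr.node Tr.leaf 65850 5
 Tr.leaf) 65852 6
 Tr.leaf) 65855 5
 (Tr.node Tr.leaf 65857 5
 Tr.leaf))) 65858 4
 (Tr.node (Tr.node (Tr.node (Tr.node Tr.leaf 65860 4
 Tr.leaf) 65863 5
 Tr.leaf) 65864 5
 (Tr.node (Tr.node Tr.leaf 65867 6
 Tr.leaf) 65869 6
 Tr.leaf)) 65870 5
 (Tr.node (Tr.node (Tr.node Tr.leaf 65872 4
 Tr.leaf) 65875 6
 Tr.leaf) 65877 6
 (Tr.node Tr.leaf 65878 4
 Tr.leaf)))) 65881 6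
 (Tr.node (Tr.node (Tr.node (Tr.node (Tr.node Tr.leaf 65882 6
 Tr.leaf) 65884 5
 Tr.leaf) 65887 6
 (Tr.node (Tr.node Tr.leaf 65888 4
 Tr.leaf) 65891 6
 Tr.leaf)) 65893 5
 (Tr.node (Tr.node (Tr.node Tr.leaf 65894 6
 Tr.leaf) 65897 5
 Tr.leaf) 65898 5
 (Tr.node Tr.leaf 65900 5
 Tr.leaf))) 65903 6
 (Tr.node (Tr.node (Tr.node (Tr.node Tr.leaf 65905 6
 Tr.leaf) 65906 6
 Tr.leaf) 65908 4
 (Tr.node Tr.leaf 65911 5
 Tr.leaf)) 65912 6
 (Tr.node (Tr.node (Tr.node Tr.leaf 65915 6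
 Tr.leaf) 65917 5
 Tr.leaf) 65918 6
 (Tr.node Tr.leaf 65923 6
 Tr.leaf))))) 65925 6
 (Tr.node (Tr.node (Tr.node (Tr.node (Tr.node (Tr.node Tr.leaf 65926 4
 Tr.leaf) 65929 5
 Tr.leaf) 65930 4
 (Tr.node (Tr.node Tr.leaf 65932 4
 Tr.leaf) 65935 5
 Tr.leaf)) 65937 3
 (Tr.node (Tr.node (Tr.node Tr.leaf 65938 5
 Tr.leaf) 65940 5
 Tr.leaf) 65943 6
 (Tr.node Tr.leaf 65944 6
 Tr.leaf))) 65947 6
 (Tr.node (Tr.node (Tr.node (Tr.node Tr.leaf 65949 6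
 Tr.leaf) 65950 5
 Tr.leaf) 65953 4
 (Tr.node Tr.leaf 65954 6
 Tr.leaf)) 65956 4
 (Tr.node (Tr.node (Tr.node Tr.leaf 65959 6
 Tr.leaf) 65960 6
 Tr.leaf) 65963 6
 (Tr.node Tr.leaf 65965 5
 Tr.leaf)))) 65966 5
 (Tr.node (Tr.node (Tr.node (Tr.node (Tr.node Tr.leaf 65968 4
 Tr.leaf) 65971 6
 Tr.leaf) 65973 5
 (Tr.node (Tr.node Tr.leaf 65974 6
 Tr.leaf) 65977 6
 Tr.leaf)) 65978 4
 (Tr.node (Tr.node (Tr.node Tr.leaf 65980 6
 Tr.leaf) 65983 5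
 Tr.leaf) 65985 4
 (Tr.node Tr.leaf 65986 4
 Tr.leaf))) 65988 4
 (Tr.node (Tr.node (Tr.node (Tr.node Tr.leaf 65991 5
 Tr.leaf) 65992 4
 Tr.leaf) 65995 4
 (Tr.node Tr.leaf 65997 5
 Tr.leaf)) 65998 6
 (Tr.node (Tr.node (Tr.node Tr.leaf 66000 4
 Tr.leaf) 66003 6
 Tr.leaf) 66005 6
 (Tr.node Tr.leaf 66006 5
 Tr.leaf)))))) 66009 6
 (Tr.node (Tr.node (Tr.node (Tr.node (Tr.node (Tr.node (Tr.node Tr.leaf 66010 4
 Tr.leaf) 66012 5
 Tr.leaf) 66015 6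
 (Tr.node (Tr.node Tr.leaf 66016 4
 Tr.leaf) 66019 5
 Tr.leaf)) 66021 6
 (Tr.node (Tr.node (Tr.node Tr.leaf 66022 6
 Tr.leaf) 66025 4
 Tr.leaf) 66026 4
 (Tr.node Tr.leaf 66028 5
 Tr.leaf))) 66031 6
 (Tr.node (Tr.node (Tr.node (Tr.node Tr.leaf 66033 6
 Tr.leaf) 66034 6
 Tr.leaf) 66036 5
 (Tr.node (Tr.node Tr.leaf 66039 6
 Tr.leaf) 66040 6
 Tr.leaf)) 66043 5
 (Tr.node (Tr.node (Tr.node Tr.leaf 66045 5
 Tr.leaf) 66046 6
 Tr.leaf) 66565 5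
 (Tr.node Tr.leaf 66567 4
 Tr.leaf)))) 66569 6
 (Tr.node (Tr.node (Tr.node (Tr.node (Tr.node Tr.leaf 66571 6
 Tr.leaf) 66577 4
 Tr.leaf) 66579 4
 (Tr.node (Tr.node Tr.leaf 66589 6
 Tr.leaf) 66591 7
 Tr.leaf)) 66593 4
 (Tr.node (Tr.node (Tr.node Tr.leaf 66595 4
 Tr.leaf) 66605 6
 Tr.leaf) 66607 5
 (Tr.node Tr.leaf 66613 5
 Tr.leaf))) 66615 5
 (Tr.node (Tr.node (Tr.node (Tr.node Tr.leaf 66617 4
 Tr.leaf) 66619 6
 Tr.leaf) 66625 4
 (Tr.node Tr.leaf 66627 4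
 Tr.leaf)) 66637 6
 (Tr.node (Tr.node (Tr.node Tr.leaf 66639 7
 Tr.leaf) 66645 6
 Tr.leaf) 66647 5
 (Tr.node Tr.leaf 66649 6
 Tr.leaf))))) 66651 6
 (Tr.node (Tr.node (Tr.node (Tr.node (Tr.node (Tr.node Tr.leaf 66661 6
 Tr.leaf) 66663 6
 Tr.leaf) 66665 6
 (Tr.node (Tr.node Tr.leaf 66667 5
 Tr.leaf) 66673 6
 Tr.leaf)) 66675 6
 (Tr.node (Tr.node (Tr.node Tr.leaf 66685 6
 Tr.leaf) 66687 6
 Tr.leaf) 66693 5
 (Tr.node Tr.leaf 66695 4
 Tr.leaf))) 66697 6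
 (Tr.node (Tr.node (Tr.node (Tr.node Tr.leaf 66699 6
 Tr.leaf) 66705 4
 Tr.leaf) 66707 5
 (Tr.node Tr.leaf 66717 4
 Tr.leaf)) 66719 4
 (Tr.node (Tr.node (Tr.node Tr.leaf 66721 5
 Tr.leaf) 66723 4
 Tr.leaf) 66733 6
 (Tr.node Tr.leaf 66735 7
 Tr.leaf)))) 66741 6
 (Tr.node (Tr.node (Tr.node (Tr.node (Tr.node Tr.leaf 66743 6
 Tr.leaf) 66745 6
 Tr.leaf) 66747 6
 (Tr.node (Tr.node Tr.leaf 66753 4
 Tr.leaf) 66755 4
 Tr.leaf)) 66765 3
 (Tr.node (Tr.node (Tr.node Tr.leaf 66767 5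
 Tr.leaf) 66773 6
 Tr.leaf) 66775 6
 (Tr.node Tr.leaf 66777 6
 Tr.leaf))) 66779 6
 (Tr.node (Tr.node (Tr.node (Tr.node Tr.leaf 66789 6
 Tr.leaf) 66791 7
 Tr.leaf) 66793 5
 (Tr.node Tr.leaf 66795 6
 Tr.leaf)) 66801 6
 (Tr.node (Tr.node (Tr.node Tr.leaf 66803 6
 Tr.leaf) 66813 6
 Tr.leaf) 66815 6
 (Tr.node Tr.leaf 66817 6
 Tr.leaf)))))))) 66819 6
 (Tr.node (Tr.node (Tr.node (Tr.node (Tr.node (Tr.node (Tr.node (Tr.node (Tr.node Tr.leaf 66829 6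
 Tr.leaf) 66831 6
 Tr.leaf) 66837 5
 (Tr.node (Tr.node Tr.leaf 66839 6
 Tr.leaf) 66841 6
 Tr.leaf)) 66843 4
 (Tr.node (Tr.node (Tr.node Tr.leaf 66853 5
 Tr.leaf) 66855 6
 Tr.leaf) 66857 6
 (Tr.node Tr.leaf 66859 6
 Tr.leaf))) 66865 6
 (Tr.node (Tr.node (Tr.node (Tr.node Tr.leaf 66867 7
 Tr.leaf) 66877 6
 Tr.leaf) 66879 6
 (Tr.node (Tr.node Tr.leaf 66885 6
 Tr.leaf) 66887 6
 Tr.leaf)) 66889 6
 (Tr.node (Tr.node (Tr.node Tr.leaf 66891 6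
 Tr.leaf) 66897 6
 Tr.leaf) 66899 6
 (Tr.node Tr.leaf 66909 6
 Tr.leaf)))) 66911 6
 (Tr.node (Tr.node (Tr.node (Tr.node (Tr.node Tr.leaf 66913 6
 Tr.leaf) 66915 6
 Tr.leaf) 66925 6
 (Tr.node (Tr.node Tr.leaf 66927 6
 Tr.leaf) 66933 6
 Tr.leaf)) 66935 5
 (Tr.node (Tr.node (Tr.node Tr.leaf 66937 6
 Tr.leaf) 66939 5
 Tr.leaf) 66945 6
 (Tr.node Tr.leaf 66947 6
 Tr.leaf))) 66957 4
 (Tr.node (Tr.node (Tr.node (Tr.node Tr.leaf 66959 6
 Tr.leaf) 66965 5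
 Tr.leaf) 66967 5
 (Tr.node Tr.leaf 66969 6
 Tr.leaf)) 66971 4
 (Tr.node (Tr.node (Tr.node Tr.leaf 66981 6
 Tr.leaf) 66983 4
 Tr.leaf) 66985 6
 (Tr.node Tr.leaf 66987 6
 Tr.leaf))))) 66993 4
 (Tr.node (Tr.node (Tr.node (Tr.node (Tr.node (Tr.node Tr.leaf 66995 4
 Tr.leaf) 67005 6
 Tr.leaf) 67007 6
 (Tr.node (Tr.node Tr.leaf 67013 6
 Tr.leaf) 67015 5
 Tr.leaf)) 67017 4
 (Tr.node (Tr.node (Tr.node Tr.leaf 67019 6
 Tr.leaf) 67025 3
 Tr.leaf) 67027 7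
 (Tr.node Tr.leaf 67037 6
 Tr.leaf))) 67039 7
 (Tr.node (Tr.node (Tr.node (Tr.node Tr.leaf 67041 3
 Tr.leaf) 67043 6
 Tr.leaf) 67053 6
 (Tr.node (Tr.node Tr.leaf 67055 6
 Tr.leaf) 67061 6
 Tr.leaf)) 67063 5
 (Tr.node (Tr.node (Tr.node Tr.leaf 67065 6
 Tr.leaf) 67067 6
 Tr.leaf) 67587 4
 (Tr.node Tr.leaf 67591 4
 Tr.leaf)))) 67593 5
 (Tr.node (Tr.node (Tr.node (Tr.node (Tr.node Tr.leaf 67594 4
 Tr.leaf) 67597 4
 Tr.leaf) 67598 5
 (Tr.node (Tr.node Tr.leaf 67601 4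
 Tr.leaf) 67602 4
 Tr.leaf)) 67605 4
 (Tr.node (Tr.node (Tr.node Tr.leaf 67606 5
 Tr.leaf) 67611 6
 Tr.leaf) 67615 6
 (Tr.node Tr.leaf 67617 4
 Tr.leaf))) 67618 7
 (Tr.node (Tr.node (Tr.node (Tr.node Tr.leaf 67621 4
 Tr.leaf) 67622 6
 Tr.leaf) 67627 6
 (Tr.node Tr.leaf 67631 5
 Tr.leaf)) 67635 7
 (Tr.node (Tr.node (Tr.node Tr.leaf 67639 6
 Tr.leaf) 67641 6
 Tr.leaf) 67642 6
 (Tr.node Tr.leaf 67645 5
 Tr.leaf)))))) 67646 6
 (Tr.node (Tr.node (Tr.node (Tr.node (Tr.node (Tr.node (Tr.node Tr.leaf 67649 6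
 Tr.leaf) 67650 6
 Tr.leaf) 67653 6
 (Tr.node (Tr.node Tr.leaf 67654 5
 Tr.leaf) 67659 4
 Tr.leaf)) 67663 7
 (Tr.node (Tr.node (Tr.node Tr.leaf 67667 6
 Tr.leaf) 67671 6
 Tr.leaf) 67673 7
 (Tr.node Tr.leaf 67674 6
 Tr.leaf))) 67677 6
 (Tr.node (Tr.node (Tr.node (Tr.node Tr.leaf 67678 6
 Tr.leaf) 67683 4
 Tr.leaf) 67687 6
 (Tr.node (Tr.node Tr.leaf 67689 5
 Tr.leaf) 67690 6
 Tr.leaf)) 67693 6
 (Tr.node (Tr.node (Tr.node Tr.leaf 67694 6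
 Tr.leaf) 67697 5
 Tr.leaf) 67698 6
 (Tr.node Tr.leaf 67701 6
 Tr.leaf)))) 67702 6
 (Tr.node (Tr.node (Tr.node (Tr.node (Tr.node Tr.leaf 67707 5
 Tr.leaf) 67711 5
 Tr.leaf) 67715 5
 (Tr.node (Tr.node Tr.leaf 67719 4
 Tr.leaf) 67721 4
 Tr.leaf)) 67722 5
 (Tr.node (Tr.node (Tr.node Tr.leaf 67725 4
 Tr.leaf) 67726 4
 Tr.leaf) 67729 4
 (Tr.node Tr.leaf 67730 4
 Tr.leaf))) 67733 4
 (Tr.node (Tr.node (Tr.node (Tr.node Tr.leaf 67734 4
 Tr.leaf) 67739 6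
 Tr.leaf) 67743 6
 (Tr.node Tr.leaf 67745 5
 Tr.leaf)) 67746 6
 (Tr.node (Tr.node (Tr.node Tr.leaf 67749 5
 Tr.leaf) 67750 7
 Tr.leaf) 67755 6
 (Tr.node Tr.leaf 67759 5
 Tr.leaf))))) 67763 6
 (Tr.node (Tr.node (Tr.node (Tr.node (Tr.node (Tr.node Tr.leaf 67767 6
 Tr.leaf) 67769 6
 Tr.leaf) 67770 6
 (Tr.node (Tr.node Tr.leaf 67773 6
 Tr.leaf) 67774 5
 Tr.leaf)) 67777 6
 (Tr.node (Tr.node (Tr.node Tr.leaf 67778 6
 Tr.leaf) 67781 6
 Tr.leaf) 67782 5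
 (Tr.node Tr.leaf 67787 4
 Tr.leaf))) 67791 6
 (Tr.node (Tr.node (Tr.node (Tr.node Tr.leaf 67795 3
 Tr.leaf) 67799 6
 Tr.leaf) 67801 3
 (Tr.node Tr.leaf 67802 4
 Tr.leaf)) 67805 6
 (Tr.node (Tr.node (Tr.node Tr.leaf 67806 4
 Tr.leaf) 67811 6
 Tr.leaf) 67815 5
 (Tr.node Tr.leaf 67817 5
 Tr.leaf)))) 67818 6
 (Tr.node (Tr.node (Tr.node (Tr.node (Tr.node Tr.leaf 67821 5
 Tr.leaf) 67822 6
 Tr.leaf) 67825 6
 (Tr.node (Tr.node Tr.leaf 67826 6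
 Tr.leaf) 67829 6
 Tr.leaf)) 67830 6
 (Tr.node (Tr.node (Tr.node Tr.leaf 67835 6
 Tr.leaf) 67839 6
 Tr.leaf) 67841 6
 (Tr.node Tr.leaf 67842 4
 Tr.leaf))) 67845 6
 (Tr.node (Tr.node (Tr.node (Tr.node Tr.leaf 67846 4
 Tr.leaf) 67851 6
 Tr.leaf) 67855 6
 (Tr.node Tr.leaf 67859 6
 Tr.leaf)) 67863 5
 (Tr.node (Tr.node (Tr.node Tr.leaf 67865 6
 Tr.leaf) 67866 6
 Tr.leaf) 67869 6
 (Tr.node Tr.leaf 67870 5
 Tr.leaf))))))) 67875 7
 (Tr.node (Tr.node (Tr.node (Tr.node (Tr.node (Tr.node (Tr.node (Tr.node Tr.leaf 67879 5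
 Tr.leaf) 67881 4
 Tr.leaf) 67882 6
 (Tr.node (Tr.node Tr.leaf 67885 7
 Tr.leaf) 67886 5
 Tr.leaf)) 67889 5
 (Tr.node (Tr.node (Tr.node Tr.leaf 67890 6
 Tr.leaf) 67893 7
 Tr.leaf) 67894 6
 (Tr.node Tr.leaf 67899 6
 Tr.leaf))) 67903 6
 (Tr.node (Tr.node (Tr.node (Tr.node Tr.leaf 67907 6
 Tr.leaf) 67911 6
 Tr.leaf) 67913 4
 (Tr.node (Tr.node Tr.leaf 67914 6
 Tr.leaf) 67917 4
 Tr.leaf)) 67918 6
 (Tr.node (Tr.node (Tr.node Tr.leaf 67921 6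
 Tr.leaf) 67922 5
 Tr.leaf) 67925 6
 (Tr.node Tr.leaf 67926 3
 Tr.leaf)))) 67931 6
 (Tr.node (Tr.node (Tr.node (Tr.node (Tr.node Tr.leaf 67935 5
 Tr.leaf) 67937 6
 Tr.leaf) 67938 6
 (Tr.node (Tr.node Tr.leaf 67941 6
 Tr.leaf) 67942 6
 Tr.leaf)) 67947 6
 (Tr.node (Tr.node (Tr.node Tr.leaf 67951 6
 Tr.leaf) 67955 6
 Tr.leaf) 67959 6
 (Tr.node Tr.leaf 67961 7
 Tr.leaf))) 67962 6
 (Tr.node (Tr.node (Tr.node (Tr.node Tr.leaf 67965 6
 Tr.leaf) 67966 5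
 Tr.leaf) 67969 6
 (Tr.node Tr.leaf 67970 5
 Tr.leaf)) 67973 6
 (Tr.node (Tr.node (Tr.node Tr.leaf 67974 4
 Tr.leaf) 67979 6
 Tr.leaf) 67983 4
 (Tr.node Tr.leaf 67987 5
 Tr.leaf))))) 67991 6
 (Tr.node (Tr.node (Tr.node (Tr.node (Tr.node (Tr.node Tr.leaf 67993 6
 Tr.leaf) 67994 4
 Tr.leaf) 67997 6
 (Tr.node (Tr.node Tr.leaf 67998 6
 Tr.leaf) 68003 6
 Tr.leaf)) 68007 6
 (Tr.node (Tr.node (Tr.node Tr.leaf 68009 4
 Tr.leaf) 68010 4
 Tr.leaf) 68013 6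
 (Tr.node Tr.leaf 68014 6
 Tr.leaf))) 68017 3
 (Tr.node (Tr.node (Tr.node (Tr.node Tr.leaf 68018 6
 Tr.leaf) 68021 6
 Tr.leaf) 68022 6
 (Tr.node Tr.leaf 68027 6
 Tr.leaf)) 68031 6
 (Tr.node (Tr.node (Tr.node Tr.leaf 68035 6
 Tr.leaf) 68039 6
 Tr.leaf) 68041 6
 (Tr.node Tr.leaf 68042 6
 Tr.leaf)))) 68045 6
 (Tr.node (Tr.node (Tr.node (Tr.node (Tr.node Tr.leaf 68046 4
 Tr.leaf) 68049 4
 Tr.leaf) 68050 3
 (Tr.node (Tr.node Tr.leaf 68053 6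
 Tr.leaf) 68054 4
 Tr.leaf)) 68059 6
 (Tr.node (Tr.node (Tr.node Tr.leaf 68063 6
 Tr.leaf) 68065 4
 Tr.leaf) 68066 6
 (Tr.node Tr.leaf 68069 6
 Tr.leaf))) 68070 4
 (Tr.node (Tr.node (Tr.node (Tr.node Tr.leaf 68075 6
 Tr.leaf) 68079 6
 Tr.leaf) 68083 6
 (Tr.node Tr.leaf 68087 6
 Tr.leaf)) 68089 6
 (Tr.node (Tr.node (Tr.node Tr.leaf 68090 6
 Tr.leaf) 68093 6
 Tr.leaf) 68094 6
 (Tr.node Tr.leaf 68609 4
 Tr.leaf)))))) 68611 4
 (Tr.node (Tr.node (Tr.node (Tr.node (Tr.node (Tr.node (Tr.node Tr.leaf 68613 4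
 Tr.leaf) 68615 4
 Tr.leaf) 68633 6
 (Tr.node (Tr.node Tr.leaf 68635 6
 Tr.leaf) 68637 5
 Tr.leaf)) 68639 4
 (Tr.node (Tr.node (Tr.node Tr.leaf 68649 6
 Tr.leaf) 68651 5
 Tr.leaf) 68653 4
 (Tr.node Tr.leaf 68655 4
 Tr.leaf))) 68657 5
 (Tr.node (Tr.node (Tr.node (Tr.node Tr.leaf 68659 6
 Tr.leaf) 68661 6
 Tr.leaf) 68663 5
 (Tr.node (Tr.node Tr.leaf 68681 6
 Tr.leaf) 68683 6
 Tr.leaf)) 68685 5
 (Tr.node (Tr.node (Tr.node Tr.leaf 68687 5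
 Tr.leaf) 68689 6
 Tr.leaf) 68691 6
 (Tr.node Tr.leaf 68693 6
 Tr.leaf)))) 68695 6
 (Tr.node (Tr.node (Tr.node (Tr.node (Tr.node Tr.leaf 68705 5
 Tr.leaf) 68707 5
 Tr.leaf) 68709 7
 (Tr.node (Tr.node Tr.leaf 68711 6
 Tr.leaf) 68729 6
 Tr.leaf)) 68731 6
 (Tr.node (Tr.node (Tr.node Tr.leaf 68733 7
 Tr.leaf) 68735 6
 Tr.leaf) 68737 4
 (Tr.node Tr.leaf 68739 4
 Tr.leaf))) 68741 4
 (Tr.node (Tr.node (Tr.node (Tr.node Tr.leaf 68743 5
 Tr.leaf) 68761 5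
 Tr.leaf) 68763 6
 (Tr.node Tr.leaf 68765 6
 Tr.leaf)) 68767 6
 (Tr.node (Tr.node (Tr.node Tr.leaf 68777 5
 Tr.leaf) 68779 6
 Tr.leaf) 68781 4
 (Tr.node Tr.leaf 68783 6
 Tr.leaf))))) 68785 3
 (Tr.node (Tr.node (Tr.node (Tr.node (Tr.node (Tr.node Tr.leaf 68787 4
 Tr.leaf) 68789 7
 Tr.leaf) 68791 5
 (Tr.node (Tr.node Tr.leaf 68809 6
 Tr.leaf) 68811 6
 Tr.leaf)) 68813 6
 (Tr.node (Tr.node (Tr.node Tr.leaf 68815 6
 Tr.leaf) 68817 4
 Tr.leaf) 68819 6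
 (Tr.node Tr.leaf 68821 6
 Tr.leaf))) 68823 6
 (Tr.node (Tr.node (Tr.node (Tr.node Tr.leaf 68833 4
 Tr.leaf) 68835 6
 Tr.leaf) 68837 4
 (Tr.node Tr.leaf 68839 6
 Tr.leaf)) 68857 6
 (Tr.node (Tr.node (Tr.node Tr.leaf 68859 6
 Tr.leaf) 68861 6
 Tr.leaf) 68863 7
 (Tr.node Tr.leaf 68873 4
 Tr.leaf)))) 68875 6
 (Tr.node (Tr.node (Tr.node (Tr.node (Tr.node Tr.leaf 68877 6
 Tr.leaf) 68879 4
 Tr.leaf) 68881 6
 (Tr.node (Tr.node Tr.leaf 68883 5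
 Tr.leaf) 68885 5
 Tr.leaf)) 68887 4
 (Tr.node (Tr.node (Tr.node Tr.leaf 68897 6
 Tr.leaf) 68899 5
 Tr.leaf) 68901 6
 (Tr.node Tr.leaf 68903 5
 Tr.leaf))) 68921 6
 (Tr.node (Tr.node (Tr.node (Tr.node Tr.leaf 68923 6
 Tr.leaf) 68925 6
 Tr.leaf) 68927 5
 (Tr.node Tr.leaf 68929 6
 Tr.leaf)) 68931 6
 (Tr.node (Tr.node (Tr.node Tr.leaf 68933 6
 Tr.leaf) 68935 6
 Tr.leaf) 68953 6
 (Tr.node Tr.leaf 68955 5
 Tr.leaf)))))))))

/-- A subtree. -/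
def tr2_s17 : Tr := (Tr.node (Tr.node (Tr.node (Tr.node (Tr.node (Tr.node (Tr.node (Tr.node (Tr.node (Tr.node Tr.leaf 68959 6
 Tr.leaf) 68969 6
 Tr.leaf) 68971 6
 (Tr.node (Tr.node Tr.leaf 68973 6
 Tr.leaf) 68975 6
 Tr.leaf)) 68977 6
 (Tr.node (Tr.node (Tr.node Tr.leaf 68979 6
 Tr.leaf) 68981 5
 Tr.leaf) 68983 6
 (Tr.node Tr.leaf 69001 6
 Tr.leaf))) 69003 4
 (Tr.node (Tr.node (Tr.node (Tr.node Tr.leaf 69005 5
 Tr.leaf) 69007 6
 Tr.leaf) 69009 6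
 (Tr.node (Tr.node Tr.leaf 69011 6
 Tr.leaf) 69013 5
 Tr.leaf)) 69015 7
 (Tr.node (Tr.node (Tr.node Tr.leaf 69025 5
 Tr.leaf) 69027 4
 Tr.leaf) 69029 6
 (Tr.node Tr.leaf 69031 6
 Tr.leaf)))) 69049 7
 (Tr.node (Tr.node (Tr.node (Tr.node (Tr.node Tr.leaf 69051 6
 Tr.leaf) 69053 6
 Tr.leaf) 69055 6
 (Tr.node (Tr.node Tr.leaf 69057 6
 Tr.leaf) 69059 6
 Tr.leaf)) 69061 6
 (Tr.node (Tr.node (Tr.node Tr.leaf 69063 6
 Tr.leaf) 69081 6
 Tr.leaf) 69083 5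
 (Tr.node Tr.leaf 69085 6
 Tr.leaf))) 69087 5
 (Tr.node (Tr.node (Tr.node (Tr.node Tr.leaf 69097 5
 Tr.leaf) 69099 6
 Tr.leaf) 69101 6
 (Tr.node Tr.leaf 69103 6
 Tr.leaf)) 69105 6
 (Tr.node (Tr.node (Tr.node Tr.leaf 69107 6
 Tr.leaf) 69109 6
 Tr.leaf) 69111 6
 (Tr.node Tr.leaf 69635 6
 Tr.leaf))))) 69637 5
 (Tr.node (Tr.node (Tr.node (Tr.node (Tr.node (Tr.node Tr.leaf 69638 4
 Tr.leaf) 69643 6
 Tr.leaf) 69645 4
 (Tr.node (Tr.node Tr.leaf 69646 4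
 Tr.leaf) 69649 6
 Tr.leaf)) 69650 4
 (Tr.node (Tr.node (Tr.node Tr.leaf 69652 4
 Tr.leaf) 69655 6
 Tr.leaf) 69657 6
 (Tr.node Tr.leaf 69658 4
 Tr.leaf))) 69660 4
 (Tr.node (Tr.node (Tr.node (Tr.node Tr.leaf 69663 6
 Tr.leaf) 69665 4
 Tr.leaf) 69666 5
 (Tr.node (Tr.node Tr.leaf 69668 4
 Tr.leaf) 69671 5
 Tr.leaf)) 69673 4
 (Tr.node (Tr.node (Tr.node Tr.leaf 69674 5
 Tr.leaf) 69676 4
 Tr.leaf) 69679 4
 (Tr.node Tr.leaf 69683 6
 Tr.leaf)))) 69685 6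
 (Tr.node (Tr.node (Tr.node (Tr.node (Tr.node Tr.leaf 69686 3
 Tr.leaf) 69691 4
 Tr.leaf) 69693 5
 (Tr.node (Tr.node Tr.leaf 69694 6
 Tr.leaf) 69697 5
 Tr.leaf)) 69698 5
 (Tr.node (Tr.node (Tr.node Tr.leaf 69700 4
 Tr.leaf) 69703 6
 Tr.leaf) 69705 4
 (Tr.node Tr.leaf 69706 6
 Tr.leaf))) 69708 4
 (Tr.node (Tr.node (Tr.node (Tr.node Tr.leaf 69711 4
 Tr.leaf) 69715 6
 Tr.leaf) 69717 5
 (Tr.node Tr.leaf 69718 4
 Tr.leaf)) 69723 6
 (Tr.node (Tr.node (Tr.node Tr.leaf 69725 6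
 Tr.leaf) 69726 6
 Tr.leaf) 69731 6
 (Tr.node Tr.leaf 69733 4
 Tr.leaf)))))) 69734 6
 (Tr.node (Tr.node (Tr.node (Tr.node (Tr.node (Tr.node (Tr.node Tr.leaf 69739 6
 Tr.leaf) 69741 6
 Tr.leaf) 69742 6
 (Tr.node (Tr.node Tr.leaf 69745 6
 Tr.leaf) 69746 4
 Tr.leaf)) 69748 6
 (Tr.node (Tr.node (Tr.node Tr.leaf 69751 6
 Tr.leaf) 69753 5
 Tr.leaf) 69754 6
 (Tr.node Tr.leaf 69756 4
 Tr.leaf))) 69759 6
 (Tr.node (Tr.node (Tr.node (Tr.node Tr.leaf 69763 6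
 Tr.leaf) 69765 4
 Tr.leaf) 69766 5
 (Tr.node (Tr.node Tr.leaf 69771 6
 Tr.leaf) 69773 4
 Tr.leaf)) 69774 4
 (Tr.node (Tr.node (Tr.node Tr.leaf 69777 6
 Tr.leaf) 69778 4
 Tr.leaf) 69780 4
 (Tr.node Tr.leaf 69783 5
 Tr.leaf)))) 69785 6
 (Tr.node (Tr.node (Tr.node (Tr.node (Tr.node Tr.leaf 69786 4
 Tr.leaf) 69788 5
 Tr.leaf) 69791 5
 (Tr.node (Tr.node Tr.leaf 69793 5
 Tr.leaf) 69794 3
 Tr.leaf)) 69796 4
 (Tr.node (Tr.node (Tr.node Tr.leaf 69799 6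
 Tr.leaf) 69801 5
 Tr.leaf) 69802 4
 (Tr.node Tr.leaf 69804 4
 Tr.leaf))) 69807 4
 (Tr.node (Tr.node (Tr.node (Tr.node Tr.leaf 69811 6
 Tr.leaf) 69813 6
 Tr.leaf) 69814 6
 (Tr.node Tr.leaf 69819 6
 Tr.leaf)) 69821 4
 (Tr.node (Tr.node (Tr.node Tr.leaf 69822 4
 Tr.leaf) 69825 5
 Tr.leaf) 69826 5
 (Tr.node Tr.leaf 69828 4
 Tr.leaf))))) 69831 6
 (Tr.node (Tr.node (Tr.node (Tr.node (Tr.node (Tr.node Tr.leaf 69833 4
 Tr.leaf) 69834 6
 Tr.leaf) 69836 5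
 (Tr.node (Tr.node Tr.leaf 69839 4
 Tr.leaf) 69843 6
 Tr.leaf)) 69845 7
 (Tr.node (Tr.node (Tr.node Tr.leaf 69846 7
 Tr.leaf) 69851 6
 Tr.leaf) 69853 6
 (Tr.node Tr.leaf 69854 6
 Tr.leaf))) 69859 6
 (Tr.node (Tr.node (Tr.node (Tr.node Tr.leaf 69861 5
 Tr.leaf) 69862 6
 Tr.leaf) 69867 4
 (Tr.node Tr.leaf 69869 6
 Tr.leaf)) 69870 6
 (Tr.node (Tr.node (Tr.node Tr.leaf 69873 6
 Tr.leaf) 69874 6
 Tr.leaf) 69876 5
 (Tr.node Tr.leaf 69879 6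
 Tr.leaf)))) 69881 7
 (Tr.node (Tr.node (Tr.node (Tr.node (Tr.node Tr.leaf 69882 5
 Tr.leaf) 69884 6
 Tr.leaf) 69887 6
 (Tr.node (Tr.node Tr.leaf 69889 4
 Tr.leaf) 69890 5
 Tr.leaf)) 69892 4
 (Tr.node (Tr.node (Tr.node Tr.leaf 69895 6
 Tr.leaf) 69897 4
 Tr.leaf) 69898 4
 (Tr.node Tr.leaf 69900 5
 Tr.leaf))) 69903 3
 (Tr.node (Tr.node (Tr.node (Tr.node Tr.leaf 69907 6
 Tr.leaf) 69909 6
 Tr.leaf) 69910 6
 (Tr.node Tr.leaf 69915 4
 Tr.leaf)) 69917 6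
 (Tr.node (Tr.node (Tr.node Tr.leaf 69918 6
 Tr.leaf) 69923 5
 Tr.leaf) 69925 6
 (Tr.node Tr.leaf 69926 6
 Tr.leaf))))))) 69931 6
 (Tr.node (Tr.node (Tr.node (Tr.node (Tr.node (Tr.node (Tr.node (Tr.node Tr.leaf 69933 6
 Tr.leaf) 69934 6
 Tr.leaf) 69937 6
 (Tr.node (Tr.node Tr.leaf 69938 6
 Tr.leaf) 69940 6
 Tr.leaf)) 69943 6
 (Tr.node (Tr.node (Tr.node Tr.leaf 69945 3
 Tr.leaf) 69946 3
 Tr.leaf) 69948 5
 (Tr.node Tr.leaf 69951 6
 Tr.leaf))) 69955 6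
 (Tr.node (Tr.node (Tr.node (Tr.node Tr.leaf 69957 6
 Tr.leaf) 69958 4
 Tr.leaf) 69963 3
 (Tr.node (Tr.node Tr.leaf 69965 6
 Tr.leaf) 69966 4
 Tr.leaf)) 69969 6
 (Tr.node (Tr.node (Tr.node Tr.leaf 69970 4
 Tr.leaf) 69972 6
 Tr.leaf) 69975 6
 (Tr.node Tr.leaf 69977 5
 Tr.leaf)))) 69978 3
 (Tr.node (Tr.node (Tr.node (Tr.node (Tr.node Tr.leaf 69980 5
 Tr.leaf) 69983 6
 Tr.leaf) 69985 6
 (Tr.node (Tr.node Tr.leaf 69986 6
 Tr.leaf) 69988 5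
 Tr.leaf)) 69991 5
 (Tr.node (Tr.node (Tr.node Tr.leaf 69993 6
 Tr.leaf) 69994 6
 Tr.leaf) 69996 6
 (Tr.node Tr.leaf 69999 6
 Tr.leaf))) 70003 6
 (Tr.node (Tr.node (Tr.node (Tr.node Tr.leaf 70005 6
 Tr.leaf) 70006 6
 Tr.leaf) 70011 6
 (Tr.node Tr.leaf 70013 6
 Tr.leaf)) 70014 6
 (Tr.node (Tr.node (Tr.node Tr.leaf 70017 4
 Tr.leaf) 70018 5
 Tr.leaf) 70020 5
 (Tr.node Tr.leaf 70023 6
 Tr.leaf))))) 70025 4
 (Tr.node (Tr.node (Tr.node (Tr.node (Tr.node (Tr.node Tr.leaf 70026 4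
 Tr.leaf) 70028 4
 Tr.leaf) 70031 7
 (Tr.node (Tr.node Tr.leaf 70035 6
 Tr.leaf) 70037 6
 Tr.leaf)) 70038 6
 (Tr.node (Tr.node (Tr.node Tr.leaf 70043 6
 Tr.leaf) 70045 6
 Tr.leaf) 70046 6
 (Tr.node Tr.leaf 70051 6
 Tr.leaf))) 70053 4
 (Tr.node (Tr.node (Tr.node (Tr.node Tr.leaf 70054 5
 Tr.leaf) 70059 6
 Tr.leaf) 70061 6
 (Tr.node Tr.leaf 70062 6
 Tr.leaf)) 70065 6
 (Tr.node (Tr.node (Tr.node Tr.leaf 70066 6
 Tr.leaf) 70068 6
 Tr.leaf) 70071 6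
 (Tr.node Tr.leaf 70073 5
 Tr.leaf)))) 70074 6
 (Tr.node (Tr.node (Tr.node (Tr.node (Tr.node Tr.leaf 70076 5
 Tr.leaf) 70079 7
 Tr.leaf) 70083 6
 (Tr.node (Tr.node Tr.leaf 70085 6
 Tr.leaf) 70086 6
 Tr.leaf)) 70091 6
 (Tr.node (Tr.node (Tr.node Tr.leaf 70093 6
 Tr.leaf) 70094 6
 Tr.leaf) 70097 4
 (Tr.node Tr.leaf 70098 4
 Tr.leaf))) 70100 5
 (Tr.node (Tr.node (Tr.node (Tr.node Tr.leaf 70103 5
 Tr.leaf) 70105 6
 Tr.leaf) 70106 5
 (Tr.node Tr.leaf 70108 6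
 Tr.leaf)) 70111 6
 (Tr.node (Tr.node (Tr.node Tr.leaf 70113 6
 Tr.leaf) 70114 6
 Tr.leaf) 70116 6
 (Tr.node Tr.leaf 70119 6
 Tr.leaf)))))) 70121 7
 (Tr.node (Tr.node (Tr.node (Tr.node (Tr.node (Tr.node (Tr.node Tr.leaf 70122 6
 Tr.leaf) 70124 6
 Tr.leaf) 70127 6
 (Tr.node (Tr.node Tr.leaf 70131 6
 Tr.leaf) 70133 6
 Tr.leaf)) 70134 5
 (Tr.node (Tr.node (Tr.node Tr.leaf 70139 6
 Tr.leaf) 70141 6
 Tr.leaf) 70142 5
 (Tr.node Tr.leaf 70657 5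
 Tr.leaf))) 70659 6
 (Tr.node (Tr.node (Tr.node (Tr.node Tr.leaf 70665 6
 Tr.leaf) 70667 6
 Tr.leaf) 70677 6
 (Tr.node (Tr.node Tr.leaf 70679 6
 Tr.leaf) 70685 6
 Tr.leaf)) 70687 6
 (Tr.node (Tr.node (Tr.node Tr.leaf 70693 6
 Tr.leaf) 70695 6
 Tr.leaf) 70701 4
 (Tr.node Tr.leaf 70703 6
 Tr.leaf)))) 70705 6
 (Tr.node (Tr.node (Tr.node (Tr.node (Tr.node Tr.leaf 70707 6
 Tr.leaf) 70713 5
 Tr.leaf) 70715 6
 (Tr.node (Tr.node Tr.leaf 70725 6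
 Tr.leaf) 70727 4
 Tr.leaf)) 70733 6
 (Tr.node (Tr.node (Tr.node Tr.leaf 70735 6
 Tr.leaf) 70737 6
 Tr.leaf) 70739 6
 (Tr.node Tr.leaf 70745 5
 Tr.leaf))) 70747 6
 (Tr.node (Tr.node (Tr.node (Tr.node Tr.leaf 70753 6
 Tr.leaf) 70755 4
 Tr.leaf) 70761 5
 (Tr.node Tr.leaf 70763 6
 Tr.leaf)) 70773 6
 (Tr.node (Tr.node (Tr.node Tr.leaf 70775 6
 Tr.leaf) 70781 6
 Tr.leaf) 70783 6
 (Tr.node Tr.leaf 70785 6
 Tr.leaf))))) 70787 6
 (Tr.node (Tr.node (Tr.node (Tr.node (Tr.node (Tr.node Tr.leaf 70793 6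
 Tr.leaf) 70795 6
 Tr.leaf) 70805 4
 (Tr.node (Tr.node Tr.leaf 70807 6
 Tr.leaf) 70813 6
 Tr.leaf)) 70815 4
 (Tr.node (Tr.node (Tr.node Tr.leaf 70821 6
 Tr.leaf) 70823 5
 Tr.leaf) 70829 5
 (Tr.node Tr.leaf 70831 5
 Tr.leaf))) 70833 5
 (Tr.node (Tr.node (Tr.node (Tr.node Tr.leaf 70835 5
 Tr.leaf) 70841 6
 Tr.leaf) 70843 5
 (Tr.node Tr.leaf 70853 6
 Tr.leaf)) 70855 5
 (Tr.node (Tr.node (Tr.node Tr.leaf 70861 6
 Tr.leaf) 70863 6
 Tr.leaf) 70865 6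
 (Tr.node Tr.leaf 70867 6
 Tr.leaf)))) 70873 6
 (Tr.node (Tr.node (Tr.node (Tr.node (Tr.node Tr.leaf 70875 6
 Tr.leaf) 70881 7
 Tr.leaf) 70883 6
 (Tr.node (Tr.node Tr.leaf 70889 5
 Tr.leaf) 70891 6
 Tr.leaf)) 70901 6
 (Tr.node (Tr.node (Tr.node Tr.leaf 70903 6
 Tr.leaf) 70909 5
 Tr.leaf) 70911 6
 (Tr.node Tr.leaf 70917 5
 Tr.leaf))) 70919 6
 (Tr.node (Tr.node (Tr.node (Tr.node Tr.leaf 70925 6
 Tr.leaf) 70927 6
 Tr.leaf) 70929 6
 (Tr.node Tr.leaf 70931 6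
 Tr.leaf)) 70937 6
 (Tr.node (Tr.node (Tr.node Tr.leaf 70939 6
 Tr.leaf) 70945 6
 Tr.leaf) 70947 6
 (Tr.node Tr.leaf 70953 6
 Tr.leaf)))))))) 70955 6
 (Tr.node (Tr.node (Tr.node (Tr.node (Tr.node (Tr.node (Tr.node (Tr.node (Tr.node Tr.leaf 70965 6
 Tr.leaf) 70967 5
 Tr.leaf) 70973 6
 (Tr.node (Tr.node Tr.leaf 70975 6
 Tr.leaf) 70977 6
 Tr.leaf)) 70979 6
 (Tr.node (Tr.node (Tr.node Tr.leaf 70985 6
 Tr.leaf) 70987 4
 Tr.leaf) 70997 6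
 (Tr.node Tr.leaf 70999 5
 Tr.leaf))) 71005 5
 (Tr.node (Tr.node (Tr.node (Tr.node Tr.leaf 71007 6
 Tr.leaf) 71013 6
 Tr.leaf) 71015 5
 (Tr.node (Tr.node Tr.leaf 71021 5
 Tr.leaf) 71023 6
 Tr.leaf)) 71025 6
 (Tr.node (Tr.node (Tr.node Tr.leaf 71027 6
 Tr.leaf) 71033 6
 Tr.leaf) 71035 6
 (Tr.node Tr.leaf 71045 5
 Tr.leaf)))) 71047 6
 (Tr.node (Tr.node (Tr.node (Tr.node (Tr.node Tr.leaf 71053 6
 Tr.leaf) 71055 5
 Tr.leaf) 71057 4
 (Tr.node (Tr.node Tr.leaf 71059 6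
 Tr.leaf) 71065 6
 Tr.leaf)) 71067 6
 (Tr.node (Tr.node (Tr.node Tr.leaf 71073 5
 Tr.leaf) 71075 6
 Tr.leaf) 71081 6
 (Tr.node Tr.leaf 71083 6
 Tr.leaf))) 71093 6
 (Tr.node (Tr.node (Tr.node (Tr.node Tr.leaf 71095 6
 Tr.leaf) 71101 6
 Tr.leaf) 71103 6
 (Tr.node Tr.leaf 71105 6
 Tr.leaf)) 71107 6
 (Tr.node (Tr.node (Tr.node Tr.leaf 71113 6
 Tr.leaf) 71115 6
 Tr.leaf) 71125 6
 (Tr.node Tr.leaf 71127 6
 Tr.leaf))))) 71133 5
 (Tr.node (Tr.node (Tr.node (Tr.node (Tr.node (Tr.node Tr.leaf 71135 6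
 Tr.leaf) 71141 6
 Tr.leaf) 71143 7
 (Tr.node (Tr.node Tr.leaf 71149 6
 Tr.leaf) 71151 6
 Tr.leaf)) 71153 6
 (Tr.node (Tr.node (Tr.node Tr.leaf 71155 5
 Tr.leaf) 71161 6
 Tr.leaf) 71163 5
 (Tr.node Tr.leaf 71681 4
 Tr.leaf))) 71682 5
 (Tr.node (Tr.node (Tr.node (Tr.node Tr.leaf 71685 4
 Tr.leaf) 71686 4
 Tr.leaf) 71689 4
 (Tr.node Tr.leaf 71690 4
 Tr.leaf)) 71693 4
 (Tr.node (Tr.node (Tr.node Tr.leaf 71694 4
 Tr.leaf) 71699 6
 Tr.leaf) 71703 4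
 (Tr.node Tr.leaf 71707 6
 Tr.leaf)))) 71711 4
 (Tr.node (Tr.node (Tr.node (Tr.node (Tr.node Tr.leaf 71715 4
 Tr.leaf) 71719 5
 Tr.leaf) 71723 6
 (Tr.node (Tr.node Tr.leaf 71727 6
 Tr.leaf) 71729 6
 Tr.leaf)) 71730 6
 (Tr.node (Tr.node (Tr.node Tr.leaf 71733 6
 Tr.leaf) 71734 4
 Tr.leaf) 71737 6
 (Tr.node Tr.leaf 71738 5
 Tr.leaf))) 71741 6
 (Tr.node (Tr.node (Tr.node (Tr.node Tr.leaf 71742 6
 Tr.leaf) 71747 7
 Tr.leaf) 71751 5
 (Tr.node Tr.leaf 71755 5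
 Tr.leaf)) 71759 6
 (Tr.node (Tr.node (Tr.node Tr.leaf 71761 6
 Tr.leaf) 71762 5
 Tr.leaf) 71765 5
 (Tr.node Tr.leaf 71766 4
 Tr.leaf)))))) 71769 5
 (Tr.node (Tr.node (Tr.node (Tr.node (Tr.node (Tr.node (Tr.node Tr.leaf 71770 6
 Tr.leaf) 71773 6
 Tr.leaf) 71774 6
 (Tr.node (Tr.node Tr.leaf 71777 6
 Tr.leaf) 71778 6
 Tr.leaf)) 71781 6
 (Tr.node (Tr.node (Tr.node Tr.leaf 71782 6
 Tr.leaf) 71785 5
 Tr.leaf) 71786 6
 (Tr.node Tr.leaf 71789 6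
 Tr.leaf))) 71790 6
 (Tr.node (Tr.node (Tr.node (Tr.node Tr.leaf 71795 6
 Tr.leaf) 71799 6
 Tr.leaf) 71803 5
 (Tr.node (Tr.node Tr.leaf 71807 6
 Tr.leaf) 71809 4
 Tr.leaf)) 71810 4
 (Tr.node (Tr.node (Tr.node Tr.leaf 71813 5
 Tr.leaf) 71814 4
 Tr.leaf) 71817 5
 (Tr.node Tr.leaf 71818 4
 Tr.leaf)))) 71821 4
 (Tr.node (Tr.node (Tr.node (Tr.node (Tr.node Tr.leaf 71822 4
 Tr.leaf) 71827 6
 Tr.leaf) 71831 7
 (Tr.node (Tr.node Tr.leaf 71835 6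
 Tr.leaf) 71839 6
 Tr.leaf)) 71843 6
 (Tr.node (Tr.node (Tr.node Tr.leaf 71847 6
 Tr.leaf) 71851 6
 Tr.leaf) 71855 5
 (Tr.node Tr.leaf 71857 4
 Tr.leaf))) 71858 6
 (Tr.node (Tr.node (Tr.node (Tr.node Tr.leaf 71861 6
 Tr.leaf) 71862 6
 Tr.leaf) 71865 6
 (Tr.node Tr.leaf 71866 5
 Tr.leaf)) 71869 6
 (Tr.node (Tr.node (Tr.node Tr.leaf 71870 4
 Tr.leaf) 71875 6
 Tr.leaf) 71879 4
 (Tr.node Tr.leaf 71883 5
 Tr.leaf))))) 71887 6
 (Tr.node (Tr.node (Tr.node (Tr.node (Tr.node (Tr.node Tr.leaf 71889 6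
 Tr.leaf) 71890 6
 Tr.leaf) 71893 5
 (Tr.node (Tr.node Tr.leaf 71894 6
 Tr.leaf) 71897 6
 Tr.leaf)) 71898 5
 (Tr.node (Tr.node (Tr.node Tr.leaf 71901 6
 Tr.leaf) 71902 6
 Tr.leaf) 71905 6
 (Tr.node Tr.leaf 71906 6
 Tr.leaf))) 71909 6
 (Tr.node (Tr.node (Tr.node (Tr.node Tr.leaf 71910 6
 Tr.leaf) 71913 6
 Tr.leaf) 71914 6
 (Tr.node Tr.leaf 71917 4
 Tr.leaf)) 71918 6
 (Tr.node (Tr.node (Tr.node Tr.leaf 71923 6
 Tr.leaf) 71927 6
 Tr.leaf) 71931 6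
 (Tr.node Tr.leaf 71935 7
 Tr.leaf)))) 71939 6
 (Tr.node (Tr.node (Tr.node (Tr.node (Tr.node Tr.leaf 71943 5
 Tr.leaf) 71947 6
 Tr.leaf) 71951 6
 (Tr.node (Tr.node Tr.leaf 71953 5
 Tr.leaf) 71954 6
 Tr.leaf)) 71957 6
 (Tr.node (Tr.node (Tr.node Tr.leaf 71958 5
 Tr.leaf) 71961 6
 Tr.leaf) 71962 5
 (Tr.node Tr.leaf 71965 6
 Tr.leaf))) 71966 3
 (Tr.node (Tr.node (Tr.node (Tr.node Tr.leaf 71969 6
 Tr.leaf) 71970 6
 Tr.leaf) 71973 6
 (Tr.node Tr.leaf 71974 4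
 Tr.leaf)) 71977 6
 (Tr.node (Tr.node (Tr.node Tr.leaf 71978 6
 Tr.leaf) 71981 4
 Tr.leaf) 71982 4
 (Tr.node Tr.leaf 71987 6
 Tr.leaf))))))) 71991 6
 (Tr.node (Tr.node (Tr.node (Tr.node (Tr.node (Tr.node (Tr.node (Tr.node Tr.leaf 71995 6
 Tr.leaf) 71999 6
 Tr.leaf) 72001 6
 (Tr.node (Tr.node Tr.leaf 72002 6
 Tr.leaf) 72005 6
 Tr.leaf)) 72006 6
 (Tr.node (Tr.node (Tr.node Tr.leaf 72009 6
 Tr.leaf) 72010 5
 Tr.leaf) 72013 6
 (Tr.node Tr.leaf 72014 6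
 Tr.leaf))) 72019 6
 (Tr.node (Tr.node (Tr.node (Tr.node Tr.leaf 72023 6
 Tr.leaf) 72027 6
 Tr.leaf) 72031 6
 (Tr.node (Tr.node Tr.leaf 72035 6
 Tr.leaf) 72039 6
 Tr.leaf)) 72043 6
 (Tr.node (Tr.node (Tr.node Tr.leaf 72047 6
 Tr.leaf) 72049 6
 Tr.leaf) 72050 6
 (Tr.node Tr.leaf 72053 6
 Tr.leaf)))) 72054 5
 (Tr.node (Tr.node (Tr.node (Tr.node (Tr.node Tr.leaf 72057 6
 Tr.leaf) 72058 6
 Tr.leaf) 72061 6
 (Tr.node (Tr.node Tr.leaf 72062 6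
 Tr.leaf) 72067 7
 Tr.leaf)) 72071 4
 (Tr.node (Tr.node (Tr.node Tr.leaf 72075 5
 Tr.leaf) 72079 6
 Tr.leaf) 72081 6
 (Tr.node Tr.leaf 72082 3
 Tr.leaf))) 72085 6
 (Tr.node (Tr.node (Tr.node (Tr.node Tr.leaf 72086 6
 Tr.leaf) 72089 6
 Tr.leaf) 72090 6
 (Tr.node Tr.leaf 72093 5
 Tr.leaf)) 72094 6
 (Tr.node (Tr.node (Tr.node Tr.leaf 72097 6
 Tr.leaf) 72098 5
 Tr.leaf) 72101 6
 (Tr.node Tr.leaf 72102 6
 Tr.leaf))))) 72105 6
 (Tr.node (Tr.node (Tr.node (Tr.node (Tr.node (Tr.node Tr.leaf 72106 3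
 Tr.leaf) 72109 6
 Tr.leaf) 72110 6
 (Tr.node (Tr.node Tr.leaf 72115 6
 Tr.leaf) 72119 6
 Tr.leaf)) 72123 6
 (Tr.node (Tr.node (Tr.node Tr.leaf 72127 6
 Tr.leaf) 72129 4
 Tr.leaf) 72130 6
 (Tr.node Tr.leaf 72133 4
 Tr.leaf))) 72134 4
 (Tr.node (Tr.node (Tr.node (Tr.node Tr.leaf 72137 6
 Tr.leaf) 72138 6
 Tr.leaf) 72141 6
 (Tr.node Tr.leaf 72142 5
 Tr.leaf)) 72147 6
 (Tr.node (Tr.node (Tr.node Tr.leaf 72151 6
 Tr.leaf) 72155 6
 Tr.leaf) 72159 6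
 (Tr.node Tr.leaf 72163 6
 Tr.leaf)))) 72167 6
 (Tr.node (Tr.node (Tr.node (Tr.node (Tr.node Tr.leaf 72171 5
 Tr.leaf) 72175 6
 Tr.leaf) 72177 6
 (Tr.node (Tr.node Tr.leaf 72178 6
 Tr.leaf) 72181 6
 Tr.leaf)) 72182 5
 (Tr.node (Tr.node (Tr.node Tr.leaf 72185 6
 Tr.leaf) 72186 5
 Tr.leaf) 72189 6
 (Tr.node Tr.leaf 72190 6
 Tr.leaf))) 72721 5
 (Tr.node (Tr.node (Tr.node (Tr.node Tr.leaf 72723 6
 Tr.leaf) 72725 5
 Tr.leaf) 72727 6
 (Tr.node Tr.leaf 72729 6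
 Tr.leaf)) 72731 6
 (Tr.node (Tr.node (Tr.node Tr.leaf 72733 6
 Tr.leaf) 72735 4
 Tr.leaf) 72737 6
 (Tr.node Tr.leaf 72739 4
 Tr.leaf)))))) 72741 7
 (Tr.node (Tr.node (Tr.node (Tr.node (Tr.node (Tr.node (Tr.node Tr.leaf 72743 6
 Tr.leaf) 72745 5
 Tr.leaf) 72747 6
 (Tr.node (Tr.node Tr.leaf 72749 5
 Tr.leaf) 72751 6
 Tr.leaf)) 72769 5
 (Tr.node (Tr.node (Tr.node Tr.leaf 72771 6
 Tr.leaf) 72773 6
 Tr.leaf) 72775 7
 (Tr.node Tr.leaf 72777 5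
 Tr.leaf))) 72779 4
 (Tr.node (Tr.node (Tr.node (Tr.node Tr.leaf 72781 6
 Tr.leaf) 72783 6
 Tr.leaf) 72817 6
 (Tr.node (Tr.node Tr.leaf 72819 5
 Tr.leaf) 72821 6
 Tr.leaf)) 72823 6
 (Tr.node (Tr.node (Tr.node Tr.leaf 72825 6
 Tr.leaf) 72827 6
 Tr.leaf) 72829 6
 (Tr.node Tr.leaf 72831 6
 Tr.leaf)))) 72849 6
 (Tr.node (Tr.node (Tr.node (Tr.node (Tr.node Tr.leaf 72851 6
 Tr.leaf) 72853 6
 Tr.leaf) 72855 6
 (Tr.node (Tr.node Tr.leaf 72857 5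
 Tr.leaf) 72859 6
 Tr.leaf)) 72861 6
 (Tr.node (Tr.node (Tr.node Tr.leaf 72863 6
 Tr.leaf) 72865 5
 Tr.leaf) 72867 4
 (Tr.node Tr.leaf 72869 6
 Tr.leaf))) 72871 6
 (Tr.node (Tr.node (Tr.node (Tr.node Tr.leaf 72873 6
 Tr.leaf) 72875 6
 Tr.leaf) 72877 6
 (Tr.node Tr.leaf 72879 6
 Tr.leaf)) 72897 5
 (Tr.node (Tr.node (Tr.node Tr.leaf 72899 6
 Tr.leaf) 72901 6
 Tr.leaf) 72903 6
 (Tr.node Tr.leaf 72905 6
 Tr.leaf))))) 72907 5
 (Tr.node (Tr.node (Tr.node (Tr.node (Tr.node (Tr.node Tr.leaf 72909 4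
 Tr.leaf) 72911 6
 Tr.leaf) 72945 6
 (Tr.node (Tr.node Tr.leaf 72947 5
 Tr.leaf) 72949 5
 Tr.leaf)) 72951 5
 (Tr.node (Tr.node (Tr.node Tr.leaf 72953 5
 Tr.leaf) 72955 6
 Tr.leaf) 72957 6
 (Tr.node Tr.leaf 72959 5
 Tr.leaf))) 72961 5
 (Tr.node (Tr.node (Tr.node (Tr.node Tr.leaf 72963 5
 Tr.leaf) 72965 6
 Tr.leaf) 72967 6
 (Tr.node Tr.leaf 72969 4
 Tr.leaf)) 72971 6
 (Tr.node (Tr.node (Tr.node Tr.leaf 72973 6
 Tr.leaf) 72975 5
 Tr.leaf) 73009 6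
 (Tr.node Tr.leaf 73011 6
 Tr.leaf)))) 73013 5
 (Tr.node (Tr.node (Tr.node (Tr.node (Tr.node Tr.leaf 73015 6
 Tr.leaf) 73017 5
 Tr.leaf) 73019 6
 (Tr.node (Tr.node Tr.leaf 73021 6
 Tr.leaf) 73023 5
 Tr.leaf)) 73041 5
 (Tr.node (Tr.node (Tr.node Tr.leaf 73043 6
 Tr.leaf) 73045 6
 Tr.leaf) 73047 6
 (Tr.node Tr.leaf 73049 6
 Tr.leaf))) 73051 6
 (Tr.node (Tr.node (Tr.node (Tr.node Tr.leaf 73053 6
 Tr.leaf) 73055 6
 Tr.leaf) 73057 6
 (Tr.node Tr.leaf 73059 6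
 Tr.leaf)) 73061 6
 (Tr.node (Tr.node (Tr.node Tr.leaf 73063 6
 Tr.leaf) 73065 6
 Tr.leaf) 73067 5
 (Tr.node Tr.leaf 73069 6
 Tr.leaf)))))))))

/-- A subtree. -/
def tr2_s18 : Tr := (Tr.node (Tr.node (Tr.node (Tr.node (Tr.node (Tr.node (Tr.node (Tr.node (Tr.node (Tr.node Tr.leaf 73089 6
 Tr.leaf) 73091 4
 Tr.leaf) 73093 6
 (Tr.node (Tr.node Tr.leaf 73095 6
 Tr.leaf) 73097 6
 Tr.leaf)) 73099 6
 (Tr.node (Tr.node (Tr.node Tr.leaf 73101 5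
 Tr.leaf) 73103 6
 Tr.leaf) 73137 6
 (Tr.node Tr.leaf 73139 6
 Tr.leaf))) 73141 6
 (Tr.node (Tr.node (Tr.node (Tr.node Tr.leaf 73143 6
 Tr.leaf) 73145 5
 Tr.leaf) 73147 6
 (Tr.node (Tr.node Tr.leaf 73149 6
 Tr.leaf) 73151 7
 Tr.leaf)) 73169 5
 (Tr.node (Tr.node (Tr.node Tr.leaf 73171 6
 Tr.leaf) 73173 6
 Tr.leaf) 73175 6
 (Tr.node Tr.leaf 73177 6
 Tr.leaf)))) 73179 5
 (Tr.node (Tr.node (Tr.node (Tr.node (Tr.node Tr.leaf 73181 5
 Tr.leaf) 73183 5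
 Tr.leaf) 73185 6
 (Tr.node (Tr.node Tr.leaf 73187 6
 Tr.leaf) 73189 6
 Tr.leaf)) 73191 6
 (Tr.node (Tr.node (Tr.node Tr.leaf 73193 5
 Tr.leaf) 73195 5
 Tr.leaf) 73197 6
 (Tr.node Tr.leaf 73199 6
 Tr.leaf))) 73731 4
 (Tr.node (Tr.node (Tr.node (Tr.node Tr.leaf 73733 5
 Tr.leaf) 73734 4
 Tr.leaf) 73737 6
 (Tr.node Tr.leaf 73738 4
 Tr.leaf)) 73740 5
 (Tr.node (Tr.node (Tr.node Tr.leaf 73743 5
 Tr.leaf) 73747 4
 Tr.leaf) 73749 3
 (Tr.node Tr.leaf 73750 4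
 Tr.leaf))))) 73753 6
 (Tr.node (Tr.node (Tr.node (Tr.node (Tr.node (Tr.node Tr.leaf 73754 5
 Tr.leaf) 73756 5
 Tr.leaf) 73759 6
 (Tr.node (Tr.node Tr.leaf 73761 3
 Tr.leaf) 73762 4
 Tr.leaf)) 73764 6
 (Tr.node (Tr.node (Tr.node Tr.leaf 73767 5
 Tr.leaf) 73768 4
 Tr.leaf) 73771 6
 (Tr.node Tr.leaf 73773 5
 Tr.leaf))) 73774 6
 (Tr.node (Tr.node (Tr.node (Tr.node Tr.leaf 73777 3
 Tr.leaf) 73778 5
 Tr.leaf) 73780 6
 (Tr.node (Tr.node Tr.leaf 73783 6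
 Tr.leaf) 73784 5
 Tr.leaf)) 73787 6
 (Tr.node (Tr.node (Tr.node Tr.leaf 73789 5
 Tr.leaf) 73790 5
 Tr.leaf) 73793 5
 (Tr.node Tr.leaf 73794 5
 Tr.leaf)))) 73796 4
 (Tr.node (Tr.node (Tr.node (Tr.node (Tr.node Tr.leaf 73799 6
 Tr.leaf) 73800 5
 Tr.leaf) 73803 5
 (Tr.node (Tr.node Tr.leaf 73805 6
 Tr.leaf) 73806 6
 Tr.leaf)) 73809 6
 (Tr.node (Tr.node (Tr.node Tr.leaf 73810 4
 Tr.leaf) 73812 4
 Tr.leaf) 73815 6
 (Tr.node Tr.leaf 73816 4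
 Tr.leaf))) 73819 6
 (Tr.node (Tr.node (Tr.node (Tr.node Tr.leaf 73821 6
 Tr.leaf) 73822 5
 Tr.leaf) 73827 6
 (Tr.node Tr.leaf 73829 5
 Tr.leaf)) 73830 5
 (Tr.node (Tr.node (Tr.node Tr.leaf 73833 5
 Tr.leaf) 73834 5
 Tr.leaf) 73836 5
 (Tr.node Tr.leaf 73839 6
 Tr.leaf)))))) 73843 6
 (Tr.node (Tr.node (Tr.node (Tr.node (Tr.node (Tr.node (Tr.node Tr.leaf 73845 5
 Tr.leaf) 73846 6
 Tr.leaf) 73849 4
 (Tr.node (Tr.node Tr.leaf 73850 5
 Tr.leaf) 73852 6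
 Tr.leaf)) 73855 6
 (Tr.node (Tr.node (Tr.node Tr.leaf 73859 4
 Tr.leaf) 73861 3
 Tr.leaf) 73862 4
 (Tr.node Tr.leaf 73865 6
 Tr.leaf))) 73866 5
 (Tr.node (Tr.node (Tr.node (Tr.node Tr.leaf 73868 3
 Tr.leaf) 73871 5
 Tr.leaf) 73875 5
 (Tr.node (Tr.node Tr.leaf 73877 5
 Tr.leaf) 73878 4
 Tr.leaf)) 73881 5
 (Tr.node (Tr.node (Tr.node Tr.leaf 73882 4
 Tr.leaf) 73884 4
 Tr.leaf) 73887 6
 (Tr.node Tr.leaf 73889 4
 Tr.leaf)))) 73890 5
 (Tr.node (Tr.node (Tr.node (Tr.node (Tr.node Tr.leaf 73892 6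
 Tr.leaf) 73895 6
 Tr.leaf) 73896 4
 (Tr.node (Tr.node Tr.leaf 73899 4
 Tr.leaf) 73901 6
 Tr.leaf)) 73902 5
 (Tr.node (Tr.node (Tr.node Tr.leaf 73905 4
 Tr.leaf) 73906 4
 Tr.leaf) 73908 5
 (Tr.node Tr.leaf 73911 4
 Tr.leaf))) 73912 5
 (Tr.node (Tr.node (Tr.node (Tr.node Tr.leaf 73915 5
 Tr.leaf) 73917 6
 Tr.leaf) 73918 6
 (Tr.node Tr.leaf 73921 6
 Tr.leaf)) 73922 4
 (Tr.node (Tr.node (Tr.node Tr.leaf 73924 3
 Tr.leaf) 73927 5
 Tr.leaf) 73928 4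
 (Tr.node Tr.leaf 73931 7
 Tr.leaf))))) 73933 6
 (Tr.node (Tr.node (Tr.node (Tr.node (Tr.node (Tr.node Tr.leaf 73934 6
 Tr.leaf) 73937 6
 Tr.leaf) 73938 4
 (Tr.node (Tr.node Tr.leaf 73940 4
 Tr.leaf) 73943 4
 Tr.leaf)) 73944 5
 (Tr.node (Tr.node (Tr.node Tr.leaf 73947 5
 Tr.leaf) 73949 6
 Tr.leaf) 73950 6
 (Tr.node Tr.leaf 73955 4
 Tr.leaf))) 73957 5
 (Tr.node (Tr.node (Tr.node (Tr.node Tr.leaf 73958 6
 Tr.leaf) 73961 5
 Tr.leaf) 73962 5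
 (Tr.node Tr.leaf 73964 6
 Tr.leaf)) 73967 6
 (Tr.node (Tr.node (Tr.node Tr.leaf 73971 4
 Tr.leaf) 73973 6
 Tr.leaf) 73974 5
 (Tr.node Tr.leaf 73977 4
 Tr.leaf)))) 73978 5
 (Tr.node (Tr.node (Tr.node (Tr.node (Tr.node Tr.leaf 73980 6
 Tr.leaf) 73983 6
 Tr.leaf) 73985 3
 (Tr.node (Tr.node Tr.leaf 73986 5
 Tr.leaf) 73988 5
 Tr.leaf)) 73991 4
 (Tr.node (Tr.node (Tr.node Tr.leaf 73992 6
 Tr.leaf) 73995 5
 Tr.leaf) 73997 6
 (Tr.node Tr.leaf 73998 5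
 Tr.leaf))) 74001 4
 (Tr.node (Tr.node (Tr.node (Tr.node Tr.leaf 74002 4
 Tr.leaf) 74004 6
 Tr.leaf) 74007 6
 (Tr.node Tr.leaf 74008 6
 Tr.leaf)) 74011 6
 (Tr.node (Tr.node (Tr.node Tr.leaf 74013 5
 Tr.leaf) 74014 6
 Tr.leaf) 74019 6
 (Tr.node Tr.leaf 74021 6
 Tr.leaf))))))) 74022 6
 (Tr.node (Tr.node (Tr.node (Tr.node (Tr.node (Tr.node (Tr.node (Tr.node Tr.leaf 74025 6
 Tr.leaf) 74026 6
 Tr.leaf) 74028 6
 (Tr.node (Tr.node Tr.leaf 74031 6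
 Tr.leaf) 74035 6
 Tr.leaf)) 74037 6
 (Tr.node (Tr.node (Tr.node Tr.leaf 74038 5
 Tr.leaf) 74041 6
 Tr.leaf) 74042 5
 (Tr.node Tr.leaf 74044 5
 Tr.leaf))) 74047 6
 (Tr.node (Tr.node (Tr.node (Tr.node Tr.leaf 74051 4
 Tr.leaf) 74053 7
 Tr.leaf) 74054 6
 (Tr.node (Tr.node Tr.leaf 74057 4
 Tr.leaf) 74058 5
 Tr.leaf)) 74060 5
 (Tr.node (Tr.node (Tr.node Tr.leaf 74063 6
 Tr.leaf) 74067 6
 Tr.leaf) 74069 5
 (Tr.node Tr.leaf 74070 5
 Tr.leaf)))) 74073 4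
 (Tr.node (Tr.node (Tr.node (Tr.node (Tr.node Tr.leaf 74074 5
 Tr.leaf) 74076 6
 Tr.leaf) 74079 6
 (Tr.node (Tr.node Tr.leaf 74081 6
 Tr.leaf) 74082 5
 Tr.leaf)) 74084 5
 (Tr.node (Tr.node (Tr.node Tr.leaf 74087 6
 Tr.leaf) 74088 6
 Tr.leaf) 74091 6
 (Tr.node Tr.leaf 74093 6
 Tr.leaf))) 74094 6
 (Tr.node (Tr.node (Tr.node (Tr.node Tr.leaf 74097 6
 Tr.leaf) 74098 5
 Tr.leaf) 74100 4
 (Tr.node Tr.leaf 74103 6
 Tr.leaf)) 74104 5
 (Tr.node (Tr.node (Tr.node Tr.leaf 74107 5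
 Tr.leaf) 74109 4
 Tr.leaf) 74110 5
 (Tr.node Tr.leaf 74113 3
 Tr.leaf))))) 74114 4
 (Tr.node (Tr.node (Tr.node (Tr.node (Tr.node (Tr.node Tr.leaf 74116 6
 Tr.leaf) 74119 6
 Tr.leaf) 74120 6
 (Tr.node (Tr.node Tr.leaf 74123 4
 Tr.leaf) 74125 5
 Tr.leaf)) 74126 6
 (Tr.node (Tr.node (Tr.node Tr.leaf 74129 4
 Tr.leaf) 74130 4
 Tr.leaf) 74132 6
 (Tr.node Tr.leaf 74135 5
 Tr.leaf))) 74136 6
 (Tr.node (Tr.node (Tr.node (Tr.node Tr.leaf 74139 6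
 Tr.leaf) 74141 5
 Tr.leaf) 74142 5
 (Tr.node Tr.leaf 74147 6
 Tr.leaf)) 74149 6
 (Tr.node (Tr.node (Tr.node Tr.leaf 74150 5
 Tr.leaf) 74153 4
 Tr.leaf) 74154 4
 (Tr.node Tr.leaf 74156 5
 Tr.leaf)))) 74159 6
 (Tr.node (Tr.node (Tr.node (Tr.node (Tr.node Tr.leaf 74163 6
 Tr.leaf) 74165 6
 Tr.leaf) 74166 6
 (Tr.node (Tr.node Tr.leaf 74169 6
 Tr.leaf) 74170 5
 Tr.leaf)) 74172 5
 (Tr.node (Tr.node (Tr.node Tr.leaf 74175 6
 Tr.leaf) 74179 4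
 Tr.leaf) 74181 6
 (Tr.node Tr.leaf 74182 5
 Tr.leaf))) 74185 5
 (Tr.node (Tr.node (Tr.node (Tr.node Tr.leaf 74186 5
 Tr.leaf) 74188 6
 Tr.leaf) 74191 6
 (Tr.node Tr.leaf 74195 6
 Tr.leaf)) 74197 5
 (Tr.node (Tr.node (Tr.node Tr.leaf 74198 6
 Tr.leaf) 74201 5
 Tr.leaf) 74202 5
 (Tr.node Tr.leaf 74204 4
 Tr.leaf)))))) 74207 6
 (Tr.node (Tr.node (Tr.node (Tr.node (Tr.node (Tr.node (Tr.node Tr.leaf 74209 4
 Tr.leaf) 74210 4
 Tr.leaf) 74212 5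
 (Tr.node (Tr.node Tr.leaf 74215 6
 Tr.leaf) 74216 5
 Tr.leaf)) 74219 5
 (Tr.node (Tr.node (Tr.node Tr.leaf 74221 4
 Tr.leaf) 74222 6
 Tr.leaf) 74225 6
 (Tr.node Tr.leaf 74226 6
 Tr.leaf))) 74228 6
 (Tr.node (Tr.node (Tr.node (Tr.node Tr.leaf 74231 6
 Tr.leaf) 74232 6
 Tr.leaf) 74235 6
 (Tr.node (Tr.node Tr.leaf 74237 6
 Tr.leaf) 74238 6
 Tr.leaf)) 74753 4
 (Tr.node (Tr.node (Tr.node Tr.leaf 74755 4
 Tr.leaf) 74765 6
 Tr.leaf) 74767 4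
 (Tr.node Tr.leaf 74769 5
 Tr.leaf)))) 74771 4
 (Tr.node (Tr.node (Tr.node (Tr.node (Tr.node Tr.leaf 74781 6
 Tr.leaf) 74783 6
 Tr.leaf) 74789 5
 (Tr.node (Tr.node Tr.leaf 74791 6
 Tr.leaf) 74793 6
 Tr.leaf)) 74795 6
 (Tr.node (Tr.node (Tr.node Tr.leaf 74805 6
 Tr.leaf) 74807 5
 Tr.leaf) 74809 4
 (Tr.node Tr.leaf 74811 5
 Tr.leaf))) 74821 6
 (Tr.node (Tr.node (Tr.node (Tr.node Tr.leaf 74823 6
 Tr.leaf) 74825 5
 Tr.leaf) 74827 6
 (Tr.node Tr.leaf 74837 6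
 Tr.leaf)) 74839 6
 (Tr.node (Tr.node (Tr.node Tr.leaf 74841 6
 Tr.leaf) 74843 6
 Tr.leaf) 74849 6
 (Tr.node Tr.leaf 74851 4
 Tr.leaf))))) 74861 6
 (Tr.node (Tr.node (Tr.node (Tr.node (Tr.node (Tr.node Tr.leaf 74863 6
 Tr.leaf) 74865 7
 Tr.leaf) 74867 4
 (Tr.node (Tr.node Tr.leaf 74877 6
 Tr.leaf) 74879 6
 Tr.leaf)) 74881 5
 (Tr.node (Tr.node (Tr.node Tr.leaf 74883 4
 Tr.leaf) 74893 6
 Tr.leaf) 74895 6
 (Tr.node Tr.leaf 74897 4
 Tr.leaf))) 74899 4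
 (Tr.node (Tr.node (Tr.node (Tr.node Tr.leaf 74909 6
 Tr.leaf) 74911 6
 Tr.leaf) 74917 6
 (Tr.node Tr.leaf 74919 6
 Tr.leaf)) 74921 5
 (Tr.node (Tr.node (Tr.node Tr.leaf 74923 6
 Tr.leaf) 74933 6
 Tr.leaf) 74935 4
 (Tr.node Tr.leaf 74937 7
 Tr.leaf)))) 74939 6
 (Tr.node (Tr.node (Tr.node (Tr.node (Tr.node Tr.leaf 74949 6
 Tr.leaf) 74951 6
 Tr.leaf) 74953 6
 (Tr.node (Tr.node Tr.leaf 74955 6
 Tr.leaf) 74965 4
 Tr.leaf)) 74967 6
 (Tr.node (Tr.node (Tr.node Tr.leaf 74969 6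
 Tr.leaf) 74971 5
 Tr.leaf) 74977 6
 (Tr.node Tr.leaf 74979 6
 Tr.leaf))) 74989 6
 (Tr.node (Tr.node (Tr.node (Tr.node Tr.leaf 74991 6
 Tr.leaf) 74993 6
 Tr.leaf) 74995 6
 (Tr.node Tr.leaf 75005 6
 Tr.leaf)) 75007 6
 (Tr.node (Tr.node (Tr.node Tr.leaf 75013 4
 Tr.leaf) 75015 6
 Tr.leaf) 75017 6
 (Tr.node Tr.leaf 75019 6
 Tr.leaf)))))))) 75029 6
 (Tr.node (Tr.node (Tr.node (Tr.node (Tr.node (Tr.node (Tr.node (Tr.node (Tr.node Tr.leaf 75031 6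
 Tr.leaf) 75033 4
 Tr.leaf) 75035 6
 (Tr.node (Tr.node Tr.leaf 75041 6
 Tr.leaf) 75043 6
 Tr.leaf)) 75053 6
 (Tr.node (Tr.node (Tr.node Tr.leaf 75055 6
 Tr.leaf) 75057 4
 Tr.leaf) 75059 5
 (Tr.node Tr.leaf 75069 6
 Tr.leaf))) 75071 6
 (Tr.node (Tr.node (Tr.node (Tr.node Tr.leaf 75073 6
 Tr.leaf) 75075 6
 Tr.leaf) 75085 6
 (Tr.node (Tr.node Tr.leaf 75087 6
 Tr.leaf) 75089 5
 Tr.leaf)) 75091 5
 (Tr.node (Tr.node (Tr.node Tr.leaf 75101 6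
 Tr.leaf) 75103 6
 Tr.leaf) 75109 7
 (Tr.node Tr.leaf 75111 6
 Tr.leaf)))) 75113 6
 (Tr.node (Tr.node (Tr.node (Tr.node (Tr.node Tr.leaf 75115 6
 Tr.leaf) 75125 6
 Tr.leaf) 75127 6
 (Tr.node (Tr.node Tr.leaf 75129 6
 Tr.leaf) 75131 6
 Tr.leaf)) 75141 6
 (Tr.node (Tr.node (Tr.node Tr.leaf 75143 5
 Tr.leaf) 75145 6
 Tr.leaf) 75147 6
 (Tr.node Tr.leaf 75157 6
 Tr.leaf))) 75159 6
 (Tr.node (Tr.node (Tr.node (Tr.node Tr.leaf 75161 4
 Tr.leaf) 75163 6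
 Tr.leaf) 75169 5
 (Tr.node Tr.leaf 75171 5
 Tr.leaf)) 75181 5
 (Tr.node (Tr.node (Tr.node Tr.leaf 75183 6
 Tr.leaf) 75185 6
 Tr.leaf) 75187 7
 (Tr.node Tr.leaf 75197 6
 Tr.leaf))))) 75199 6
 (Tr.node (Tr.node (Tr.node (Tr.node (Tr.node (Tr.node Tr.leaf 75201 6
 Tr.leaf) 75203 5
 Tr.leaf) 75213 6
 (Tr.node (Tr.node Tr.leaf 75215 6
 Tr.leaf) 75217 6
 Tr.leaf)) 75219 6
 (Tr.node (Tr.node (Tr.node Tr.leaf 75229 6
 Tr.leaf) 75231 6
 Tr.leaf) 75237 6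
 (Tr.node Tr.leaf 75239 5
 Tr.leaf))) 75241 6
 (Tr.node (Tr.node (Tr.node (Tr.node Tr.leaf 75243 6
 Tr.leaf) 75253 6
 Tr.leaf) 75255 6
 (Tr.node (Tr.node Tr.leaf 75257 6
 Tr.leaf) 75259 6
 Tr.leaf)) 75777 5
 (Tr.node (Tr.node (Tr.node Tr.leaf 75778 4
 Tr.leaf) 75781 3
 Tr.leaf) 75782 4
 (Tr.node Tr.leaf 75787 5
 Tr.leaf)))) 75791 5
 (Tr.node (Tr.node (Tr.node (Tr.node (Tr.node Tr.leaf 75793 4
 Tr.leaf) 75794 4
 Tr.leaf) 75797 4
 (Tr.node (Tr.node Tr.leaf 75798 4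
 Tr.leaf) 75803 4
 Tr.leaf)) 75807 6
 (Tr.node (Tr.node (Tr.node Tr.leaf 75811 5
 Tr.leaf) 75815 5
 Tr.leaf) 75817 6
 (Tr.node Tr.leaf 75818 6
 Tr.leaf))) 75821 6
 (Tr.node (Tr.node (Tr.node (Tr.node Tr.leaf 75822 6
 Tr.leaf) 75827 5
 Tr.leaf) 75831 6
 (Tr.node Tr.leaf 75833 6
 Tr.leaf)) 75834 6
 (Tr.node (Tr.node (Tr.node Tr.leaf 75837 5
 Tr.leaf) 75838 6
 Tr.leaf) 75843 4
 (Tr.node Tr.leaf 75847 6
 Tr.leaf)))))) 75849 6
 (Tr.node (Tr.node (Tr.node (Tr.node (Tr.node (Tr.node (Tr.node Tr.leaf 75850 6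
 Tr.leaf) 75853 5
 Tr.leaf) 75854 6
 (Tr.node (Tr.node Tr.leaf 75859 6
 Tr.leaf) 75863 5
 Tr.leaf)) 75865 4
 (Tr.node (Tr.node (Tr.node Tr.leaf 75866 4
 Tr.leaf) 75869 4
 Tr.leaf) 75870 5
 (Tr.node Tr.leaf 75873 6
 Tr.leaf))) 75874 6
 (Tr.node (Tr.node (Tr.node (Tr.node Tr.leaf 75877 6
 Tr.leaf) 75878 5
 Tr.leaf) 75883 6
 (Tr.node (Tr.node Tr.leaf 75887 6
 Tr.leaf) 75889 6
 Tr.leaf)) 75890 3
 (Tr.node (Tr.node (Tr.node Tr.leaf 75893 6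
 Tr.leaf) 75894 6
 Tr.leaf) 75899 6
 (Tr.node Tr.leaf 75903 6
 Tr.leaf)))) 75905 4
 (Tr.node (Tr.node (Tr.node (Tr.node (Tr.node Tr.leaf 75906 4
 Tr.leaf) 75909 4
 Tr.leaf) 75910 4
 (Tr.node (Tr.node Tr.leaf 75915 4
 Tr.leaf) 75919 6
 Tr.leaf)) 75921 3
 (Tr.node (Tr.node (Tr.node Tr.leaf 75922 5
 Tr.leaf) 75925 5
 Tr.leaf) 75926 4
 (Tr.node Tr.leaf 75931 6
 Tr.leaf))) 75935 4
 (Tr.node (Tr.node (Tr.node (Tr.node Tr.leaf 75939 6
 Tr.leaf) 75943 4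
 Tr.leaf) 75945 6
 (Tr.node Tr.leaf 75946 5
 Tr.leaf)) 75949 4
 (Tr.node (Tr.node (Tr.node Tr.leaf 75950 6
 Tr.leaf) 75955 6
 Tr.leaf) 75959 6
 (Tr.node Tr.leaf 75961 6
 Tr.leaf))))) 75962 6
 (Tr.node (Tr.node (Tr.node (Tr.node (Tr.node (Tr.node Tr.leaf 75965 4
 Tr.leaf) 75966 6
 Tr.leaf) 75971 6
 (Tr.node (Tr.node Tr.leaf 75975 5
 Tr.leaf) 75977 6
 Tr.leaf)) 75978 6
 (Tr.node (Tr.node (Tr.node Tr.leaf 75981 6
 Tr.leaf) 75982 6
 Tr.leaf) 75987 5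
 (Tr.node Tr.leaf 75991 5
 Tr.leaf))) 75993 5
 (Tr.node (Tr.node (Tr.node (Tr.node Tr.leaf 75994 6
 Tr.leaf) 75997 6
 Tr.leaf) 75998 6
 (Tr.node Tr.leaf 76001 6
 Tr.leaf)) 76002 6
 (Tr.node (Tr.node (Tr.node Tr.leaf 76005 6
 Tr.leaf) 76006 3
 Tr.leaf) 76011 6
 (Tr.node Tr.leaf 76015 5
 Tr.leaf)))) 76017 6
 (Tr.node (Tr.node (Tr.node (Tr.node (Tr.node Tr.leaf 76018 5
 Tr.leaf) 76021 6
 Tr.leaf) 76022 6
 (Tr.node (Tr.node Tr.leaf 76027 6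
 Tr.leaf) 76031 5
 Tr.leaf)) 76035 6
 (Tr.node (Tr.node (Tr.node Tr.leaf 76039 5
 Tr.leaf) 76041 6
 Tr.leaf) 76042 6
 (Tr.node Tr.leaf 76045 6
 Tr.leaf))) 76046 4
 (Tr.node (Tr.node (Tr.node (Tr.node Tr.leaf 76051 6
 Tr.leaf) 76055 6
 Tr.leaf) 76057 6
 (Tr.node Tr.leaf 76058 6
 Tr.leaf)) 76061 6
 (Tr.node (Tr.node (Tr.node Tr.leaf 76062 4
 Tr.leaf) 76065 6
 Tr.leaf) 76066 6
 (Tr.node Tr.leaf 76069 6
 Tr.leaf))))))) 76070 7
 (Tr.node (Tr.node (Tr.node (Tr.node (Tr.node (Tr.node (Tr.node (Tr.node Tr.leaf 76075 6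
 Tr.leaf) 76079 6
 Tr.leaf) 76081 4
 (Tr.node (Tr.node Tr.leaf 76082 6
 Tr.leaf) 76085 5
 Tr.leaf)) 76086 6
 (Tr.node (Tr.node (Tr.node Tr.leaf 76091 6
 Tr.leaf) 76095 6
 Tr.leaf) 76097 4
 (Tr.node Tr.leaf 76098 6
 Tr.leaf))) 76101 6
 (Tr.node (Tr.node (Tr.node (Tr.node Tr.leaf 76102 6
 Tr.leaf) 76107 6
 Tr.leaf) 76111 6
 (Tr.node (Tr.node Tr.leaf 76113 4
 Tr.leaf) 76114 6
 Tr.leaf)) 76117 6
 (Tr.node (Tr.node (Tr.node Tr.leaf 76118 6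
 Tr.leaf) 76123 6
 Tr.leaf) 76127 6
 (Tr.node Tr.leaf 76131 6
 Tr.leaf)))) 76135 6
 (Tr.node (Tr.node (Tr.node (Tr.node (Tr.node Tr.leaf 76137 6
 Tr.leaf) 76138 6
 Tr.leaf) 76141 6
 (Tr.node (Tr.node Tr.leaf 76142 6
 Tr.leaf) 76147 6
 Tr.leaf)) 76151 6
 (Tr.node (Tr.node (Tr.node Tr.leaf 76153 5
 Tr.leaf) 76154 5
 Tr.leaf) 76157 5
 (Tr.node Tr.leaf 76158 5
 Tr.leaf))) 76163 4
 (Tr.node (Tr.node (Tr.node (Tr.node Tr.leaf 76167 6
 Tr.leaf) 76169 6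
 Tr.leaf) 76170 4
 (Tr.node Tr.leaf 76173 6
 Tr.leaf)) 76174 6
 (Tr.node (Tr.node (Tr.node Tr.leaf 76179 6
 Tr.leaf) 76183 4
 Tr.leaf) 76185 6
 (Tr.node Tr.leaf 76186 5
 Tr.leaf))))) 76189 6
 (Tr.node (Tr.node (Tr.node (Tr.node (Tr.node (Tr.node Tr.leaf 76190 6
 Tr.leaf) 76193 6
 Tr.leaf) 76194 6
 (Tr.node (Tr.node Tr.leaf 76197 6
 Tr.leaf) 76198 6
 Tr.leaf)) 76203 5
 (Tr.node (Tr.node (Tr.node Tr.leaf 76207 6
 Tr.leaf) 76209 6
 Tr.leaf) 76210 7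
 (Tr.node Tr.leaf 76213 7
 Tr.leaf))) 76214 6
 (Tr.node (Tr.node (Tr.node (Tr.node Tr.leaf 76219 6
 Tr.leaf) 76223 6
 Tr.leaf) 76225 4
 (Tr.node Tr.leaf 76226 6
 Tr.leaf)) 76229 6
 (Tr.node (Tr.node (Tr.node Tr.leaf 76230 5
 Tr.leaf) 76235 5
 Tr.leaf) 76239 6
 (Tr.node Tr.leaf 76241 6
 Tr.leaf)))) 76242 6
 (Tr.node (Tr.node (Tr.node (Tr.node (Tr.node Tr.leaf 76245 6
 Tr.leaf) 76246 6
 Tr.leaf) 76251 6
 (Tr.node (Tr.node Tr.leaf 76255 6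
 Tr.leaf) 76259 6
 Tr.leaf)) 76263 5
 (Tr.node (Tr.node (Tr.node Tr.leaf 76265 6
 Tr.leaf) 76266 6
 Tr.leaf) 76269 6
 (Tr.node Tr.leaf 76270 6
 Tr.leaf))) 76275 6
 (Tr.node (Tr.node (Tr.node (Tr.node Tr.leaf 76279 6
 Tr.leaf) 76281 6
 Tr.leaf) 76282 6
 (Tr.node Tr.leaf 76285 6
 Tr.leaf)) 76286 6
 (Tr.node (Tr.node (Tr.node Tr.leaf 76809 6
 Tr.leaf) 76811 6
 Tr.leaf) 76813 6
 (Tr.node Tr.leaf 76815 6
 Tr.leaf)))))) 76825 4
 (Tr.node (Tr.node (Tr.node (Tr.node (Tr.node (Tr.node (Tr.node Tr.leaf 76827 6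
 Tr.leaf) 76829 6
 Tr.leaf) 76831 6
 (Tr.node (Tr.node Tr.leaf 76833 6
 Tr.leaf) 76835 4
 Tr.leaf)) 76837 6
 (Tr.node (Tr.node (Tr.node Tr.leaf 76839 6
 Tr.leaf) 76849 6
 Tr.leaf) 76851 6
 (Tr.node Tr.leaf 76853 5
 Tr.leaf))) 76855 5
 (Tr.node (Tr.node (Tr.node (Tr.node Tr.leaf 76865 6
 Tr.leaf) 76867 4
 Tr.leaf) 76869 5
 (Tr.node (Tr.node Tr.leaf 76871 6
 Tr.leaf) 76881 6
 Tr.leaf)) 76883 7
 (Tr.node (Tr.node (Tr.node Tr.leaf 76885 6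
 Tr.leaf) 76887 4
 Tr.leaf) 76905 6
 (Tr.node Tr.leaf 76907 6
 Tr.leaf)))) 76909 6
 (Tr.node (Tr.node (Tr.node (Tr.node (Tr.node Tr.leaf 76911 6
 Tr.leaf) 76921 6
 Tr.leaf) 76923 5
 (Tr.node (Tr.node Tr.leaf 76925 6
 Tr.leaf) 76927 6
 Tr.leaf)) 76937 6
 (Tr.node (Tr.node (Tr.node Tr.leaf 76939 5
 Tr.leaf) 76941 6
 Tr.leaf) 76943 6
 (Tr.node Tr.leaf 76953 6
 Tr.leaf))) 76955 5
 (Tr.node (Tr.node (Tr.node (Tr.node Tr.leaf 76957 5
 Tr.leaf) 76959 6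
 Tr.leaf) 76961 5
 (Tr.node Tr.leaf 76963 6
 Tr.leaf)) 76965 4
 (Tr.node (Tr.node (Tr.node Tr.leaf 76967 6
 Tr.leaf) 76977 6
 Tr.leaf) 76979 6
 (Tr.node Tr.leaf 76981 6
 Tr.leaf))))) 76983 7
 (Tr.node (Tr.node (Tr.node (Tr.node (Tr.node (Tr.node Tr.leaf 76993 6
 Tr.leaf) 76995 6
 Tr.leaf) 76997 4
 (Tr.node (Tr.node Tr.leaf 76999 6
 Tr.leaf) 77009 6
 Tr.leaf)) 77011 6
 (Tr.node (Tr.node (Tr.node Tr.leaf 77013 6
 Tr.leaf) 77015 6
 Tr.leaf) 77033 6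
 (Tr.node Tr.leaf 77035 5
 Tr.leaf))) 77037 6
 (Tr.node (Tr.node (Tr.node (Tr.node Tr.leaf 77039 6
 Tr.leaf) 77049 6
 Tr.leaf) 77051 5
 (Tr.node Tr.leaf 77053 6
 Tr.leaf)) 77055 7
 (Tr.node (Tr.node (Tr.node Tr.leaf 77057 6
 Tr.leaf) 77059 5
 Tr.leaf) 77061 6
 (Tr.node Tr.leaf 77063 6
 Tr.leaf)))) 77073 4
 (Tr.node (Tr.node (Tr.node (Tr.node (Tr.node Tr.leaf 77075 4
 Tr.leaf) 77077 6
 Tr.leaf) 77079 7
 (Tr.node (Tr.node Tr.leaf 77097 6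
 Tr.leaf) 77099 6
 Tr.leaf)) 77101 7
 (Tr.node (Tr.node (Tr.node Tr.leaf 77103 6
 Tr.leaf) 77113 5
 Tr.leaf) 77115 6
 (Tr.node Tr.leaf 77117 6
 Tr.leaf))) 77119 6
 (Tr.node (Tr.node (Tr.node (Tr.node Tr.leaf 77129 7
 Tr.leaf) 77131 6
 Tr.leaf) 77133 5
 (Tr.node Tr.leaf 77135 6
 Tr.leaf)) 77145 6
 (Tr.node (Tr.node (Tr.node Tr.leaf 77147 6
 Tr.leaf) 77149 5
 Tr.leaf) 77151 6
 (Tr.node Tr.leaf 77153 6
 Tr.leaf)))))))))

/-- A subtree. -/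
def tr2_s19 : Tr := (Tr.node (Tr.node (Tr.node (Tr.node (Tr.node (Tr.node (Tr.node (Tr.node (Tr.node (Tr.node Tr.leaf 77157 6
 Tr.leaf) 77159 6
 Tr.leaf) 77169 6
 (Tr.node (Tr.node Tr.leaf 77171 6
 Tr.leaf) 77173 6
 Tr.leaf)) 77175 5
 (Tr.node (Tr.node (Tr.node Tr.leaf 77185 6
 Tr.leaf) 77187 4
 Tr.leaf) 77189 5
 (Tr.node Tr.leaf 77191 5
 Tr.leaf))) 77201 6
 (Tr.node (Tr.node (Tr.node (Tr.node Tr.leaf 77203 7
 Tr.leaf) 77205 4
 Tr.leaf) 77207 6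
 (Tr.node (Tr.node Tr.leaf 77225 6
 Tr.leaf) 77227 6
 Tr.leaf)) 77229 5
 (Tr.node (Tr.node (Tr.node Tr.leaf 77231 6
 Tr.leaf) 77241 6
 Tr.leaf) 77243 6
 (Tr.node Tr.leaf 77245 6
 Tr.leaf)))) 77247 6
 (Tr.node (Tr.node (Tr.node (Tr.node (Tr.node Tr.leaf 77257 6
 Tr.leaf) 77259 6
 Tr.leaf) 77261 5
 (Tr.node (Tr.node Tr.leaf 77263 6
 Tr.leaf) 77273 6
 Tr.leaf)) 77275 6
 (Tr.node (Tr.node (Tr.node Tr.leaf 77277 6
 Tr.leaf) 77279 6
 Tr.leaf) 77281 6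
 (Tr.node Tr.leaf 77283 5
 Tr.leaf))) 77285 5
 (Tr.node (Tr.node (Tr.node (Tr.node Tr.leaf 77287 6
 Tr.leaf) 77297 6
 Tr.leaf) 77299 6
 (Tr.node Tr.leaf 77301 6
 Tr.leaf)) 77303 6
 (Tr.node (Tr.node (Tr.node Tr.leaf 77825 5
 Tr.leaf) 77826 4
 Tr.leaf) 77828 4
 (Tr.node Tr.leaf 77831 6
 Tr.leaf))))) 77833 6
 (Tr.node (Tr.node (Tr.node (Tr.node (Tr.node (Tr.node Tr.leaf 77834 3
 Tr.leaf) 77836 4
 Tr.leaf) 77839 4
 (Tr.node (Tr.node Tr.leaf 77841 6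
 Tr.leaf) 77842 5
 Tr.leaf)) 77844 4
 (Tr.node (Tr.node (Tr.node Tr.leaf 77847 6
 Tr.leaf) 77849 6
 Tr.leaf) 77850 4
 (Tr.node Tr.leaf 77852 4
 Tr.leaf))) 77855 6
 (Tr.node (Tr.node (Tr.node (Tr.node Tr.leaf 77859 5
 Tr.leaf) 77861 6
 Tr.leaf) 77862 5
 (Tr.node (Tr.node Tr.leaf 77867 4
 Tr.leaf) 77869 4
 Tr.leaf)) 77870 6
 (Tr.node (Tr.node (Tr.node Tr.leaf 77875 6
 Tr.leaf) 77877 6
 Tr.leaf) 77878 5
 (Tr.node Tr.leaf 77883 6
 Tr.leaf)))) 77885 6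
 (Tr.node (Tr.node (Tr.node (Tr.node (Tr.node Tr.leaf 77886 6
 Tr.leaf) 77891 6
 Tr.leaf) 77893 6
 (Tr.node (Tr.node Tr.leaf 77894 5
 Tr.leaf) 77899 5
 Tr.leaf)) 77901 4
 (Tr.node (Tr.node (Tr.node Tr.leaf 77902 5
 Tr.leaf) 77907 6
 Tr.leaf) 77909 5
 (Tr.node Tr.leaf 77910 6
 Tr.leaf))) 77915 6
 (Tr.node (Tr.node (Tr.node (Tr.node Tr.leaf 77917 6
 Tr.leaf) 77918 6
 Tr.leaf) 77921 6
 (Tr.node Tr.leaf 77922 5
 Tr.leaf)) 77924 6
 (Tr.node (Tr.node (Tr.node Tr.leaf 77927 6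
 Tr.leaf) 77929 6
 Tr.leaf) 77930 6
 (Tr.node Tr.leaf 77932 5
 Tr.leaf)))))) 77935 6
 (Tr.node (Tr.node (Tr.node (Tr.node (Tr.node (Tr.node (Tr.node Tr.leaf 77937 4
 Tr.leaf) 77938 4
 Tr.leaf) 77940 4
 (Tr.node (Tr.node Tr.leaf 77943 6
 Tr.leaf) 77945 5
 Tr.leaf)) 77946 6
 (Tr.node (Tr.node (Tr.node Tr.leaf 77948 6
 Tr.leaf) 77951 6
 Tr.leaf) 77953 6
 (Tr.node Tr.leaf 77954 5
 Tr.leaf))) 77956 4
 (Tr.node (Tr.node (Tr.node (Tr.node Tr.leaf 77959 6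
 Tr.leaf) 77961 6
 Tr.leaf) 77962 5
 (Tr.node (Tr.node Tr.leaf 77964 5
 Tr.leaf) 77967 6
 Tr.leaf)) 77969 6
 (Tr.node (Tr.node (Tr.node Tr.leaf 77970 4
 Tr.leaf) 77972 4
 Tr.leaf) 77975 6
 (Tr.node Tr.leaf 77977 6
 Tr.leaf)))) 77978 4
 (Tr.node (Tr.node (Tr.node (Tr.node (Tr.node Tr.leaf 77980 5
 Tr.leaf) 77983 6
 Tr.leaf) 77987 6
 (Tr.node (Tr.node Tr.leaf 77989 6
 Tr.leaf) 77990 5
 Tr.leaf)) 77995 6
 (Tr.node (Tr.node (Tr.node Tr.leaf 77997 6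
 Tr.leaf) 77998 5
 Tr.leaf) 78003 6
 (Tr.node Tr.leaf 78005 6
 Tr.leaf))) 78006 6
 (Tr.node (Tr.node (Tr.node (Tr.node Tr.leaf 78011 5
 Tr.leaf) 78013 4
 Tr.leaf) 78014 4
 (Tr.node Tr.leaf 78019 6
 Tr.leaf)) 78021 6
 (Tr.node (Tr.node (Tr.node Tr.leaf 78022 4
 Tr.leaf) 78027 6
 Tr.leaf) 78029 5
 (Tr.node Tr.leaf 78030 6
 Tr.leaf))))) 78035 6
 (Tr.node (Tr.node (Tr.node (Tr.node (Tr.node (Tr.node Tr.leaf 78037 6
 Tr.leaf) 78038 5
 Tr.leaf) 78043 6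
 (Tr.node (Tr.node Tr.leaf 78045 4
 Tr.leaf) 78046 4
 Tr.leaf)) 78049 7
 (Tr.node (Tr.node (Tr.node Tr.leaf 78050 6
 Tr.leaf) 78052 6
 Tr.leaf) 78055 6
 (Tr.node Tr.leaf 78057 6
 Tr.leaf))) 78058 4
 (Tr.node (Tr.node (Tr.node (Tr.node Tr.leaf 78060 5
 Tr.leaf) 78063 6
 Tr.leaf) 78065 6
 (Tr.node Tr.leaf 78066 6
 Tr.leaf)) 78068 6
 (Tr.node (Tr.node (Tr.node Tr.leaf 78071 6
 Tr.leaf) 78073 4
 Tr.leaf) 78074 4
 (Tr.node Tr.leaf 78076 6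
 Tr.leaf)))) 78079 6
 (Tr.node (Tr.node (Tr.node (Tr.node (Tr.node Tr.leaf 78083 6
 Tr.leaf) 78085 6
 Tr.leaf) 78086 6
 (Tr.node (Tr.node Tr.leaf 78091 6
 Tr.leaf) 78093 6
 Tr.leaf)) 78094 6
 (Tr.node (Tr.node (Tr.node Tr.leaf 78099 6
 Tr.leaf) 78101 6
 Tr.leaf) 78102 6
 (Tr.node Tr.leaf 78107 6
 Tr.leaf))) 78109 6
 (Tr.node (Tr.node (Tr.node (Tr.node Tr.leaf 78110 5
 Tr.leaf) 78113 6
 Tr.leaf) 78114 6
 (Tr.node Tr.leaf 78116 5
 Tr.leaf)) 78119 6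
 (Tr.node (Tr.node (Tr.node Tr.leaf 78121 6
 Tr.leaf) 78122 5
 Tr.leaf) 78124 6
 (Tr.node Tr.leaf 78127 6
 Tr.leaf))))))) 78129 6
 (Tr.node (Tr.node (Tr.node (Tr.node (Tr.node (Tr.node (Tr.node (Tr.node Tr.leaf 78130 7
 Tr.leaf) 78132 6
 Tr.leaf) 78135 5
 (Tr.node (Tr.node Tr.leaf 78137 6
 Tr.leaf) 78138 4
 Tr.leaf)) 78140 6
 (Tr.node (Tr.node (Tr.node Tr.leaf 78143 5
 Tr.leaf) 78145 6
 Tr.leaf) 78146 6
 (Tr.node Tr.leaf 78148 6
 Tr.leaf))) 78151 6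
 (Tr.node (Tr.node (Tr.node (Tr.node Tr.leaf 78153 6
 Tr.leaf) 78154 5
 Tr.leaf) 78156 6
 (Tr.node (Tr.node Tr.leaf 78159 6
 Tr.leaf) 78161 6
 Tr.leaf)) 78162 6
 (Tr.node (Tr.node (Tr.node Tr.leaf 78164 3
 Tr.leaf) 78167 6
 Tr.leaf) 78169 5
 (Tr.node Tr.leaf 78170 6
 Tr.leaf)))) 78172 6
 (Tr.node (Tr.node (Tr.node (Tr.node (Tr.node Tr.leaf 78175 6
 Tr.leaf) 78179 6
 Tr.leaf) 78181 6
 (Tr.node (Tr.node Tr.leaf 78182 5
 Tr.leaf) 78187 6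
 Tr.leaf)) 78189 6
 (Tr.node (Tr.node (Tr.node Tr.leaf 78190 5
 Tr.leaf) 78195 5
 Tr.leaf) 78197 6
 (Tr.node Tr.leaf 78198 6
 Tr.leaf))) 78203 5
 (Tr.node (Tr.node (Tr.node (Tr.node Tr.leaf 78205 5
 Tr.leaf) 78206 6
 Tr.leaf) 78211 6
 (Tr.node Tr.leaf 78213 6
 Tr.leaf)) 78214 6
 (Tr.node (Tr.node (Tr.node Tr.leaf 78219 6
 Tr.leaf) 78221 5
 Tr.leaf) 78222 6
 (Tr.node Tr.leaf 78227 4
 Tr.leaf))))) 78229 6
 (Tr.node (Tr.node (Tr.node (Tr.node (Tr.node (Tr.node Tr.leaf 78230 6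
 Tr.leaf) 78235 6
 Tr.leaf) 78237 6
 (Tr.node (Tr.node Tr.leaf 78238 5
 Tr.leaf) 78241 5
 Tr.leaf)) 78242 5
 (Tr.node (Tr.node (Tr.node Tr.leaf 78244 5
 Tr.leaf) 78247 5
 Tr.leaf) 78249 5
 (Tr.node Tr.leaf 78250 6
 Tr.leaf))) 78252 6
 (Tr.node (Tr.node (Tr.node (Tr.node Tr.leaf 78255 6
 Tr.leaf) 78257 6
 Tr.leaf) 78258 6
 (Tr.node Tr.leaf 78260 6
 Tr.leaf)) 78263 6
 (Tr.node (Tr.node (Tr.node Tr.leaf 78265 6
 Tr.leaf) 78266 6
 Tr.leaf) 78268 6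
 (Tr.node Tr.leaf 78271 6
 Tr.leaf)))) 78273 4
 (Tr.node (Tr.node (Tr.node (Tr.node (Tr.node Tr.leaf 78274 5
 Tr.leaf) 78276 6
 Tr.leaf) 78279 6
 (Tr.node (Tr.node Tr.leaf 78281 5
 Tr.leaf) 78282 6
 Tr.leaf)) 78284 4
 (Tr.node (Tr.node (Tr.node Tr.leaf 78287 6
 Tr.leaf) 78289 6
 Tr.leaf) 78290 6
 (Tr.node Tr.leaf 78292 6
 Tr.leaf))) 78295 6
 (Tr.node (Tr.node (Tr.node (Tr.node Tr.leaf 78297 6
 Tr.leaf) 78298 6
 Tr.leaf) 78300 6
 (Tr.node Tr.leaf 78303 5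
 Tr.leaf)) 78307 5
 (Tr.node (Tr.node (Tr.node Tr.leaf 78309 6
 Tr.leaf) 78310 6
 Tr.leaf) 78315 7
 (Tr.node Tr.leaf 78317 6
 Tr.leaf)))))) 78318 4
 (Tr.node (Tr.node (Tr.node (Tr.node (Tr.node (Tr.node (Tr.node Tr.leaf 78323 6
 Tr.leaf) 78325 6
 Tr.leaf) 78326 6
 (Tr.node (Tr.node Tr.leaf 78331 6
 Tr.leaf) 78333 6
 Tr.leaf)) 78334 6
 (Tr.node (Tr.node (Tr.node Tr.leaf 78853 4
 Tr.leaf) 78855 4
 Tr.leaf) 78861 4
 (Tr.node Tr.leaf 78863 5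
 Tr.leaf))) 78869 6
 (Tr.node (Tr.node (Tr.node (Tr.node Tr.leaf 78871 6
 Tr.leaf) 78877 6
 Tr.leaf) 78879 6
 (Tr.node (Tr.node Tr.leaf 78881 6
 Tr.leaf) 78883 4
 Tr.leaf)) 78889 6
 (Tr.node (Tr.node (Tr.node Tr.leaf 78891 6
 Tr.leaf) 78897 6
 Tr.leaf) 78899 4
 (Tr.node Tr.leaf 78905 6
 Tr.leaf)))) 78907 6
 (Tr.node (Tr.node (Tr.node (Tr.node (Tr.node Tr.leaf 78913 6
 Tr.leaf) 78915 6
 Tr.leaf) 78921 5
 (Tr.node (Tr.node Tr.leaf 78923 6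
 Tr.leaf) 78929 6
 Tr.leaf)) 78931 6
 (Tr.node (Tr.node (Tr.node Tr.leaf 78937 6
 Tr.leaf) 78939 7
 Tr.leaf) 78949 6
 (Tr.node Tr.leaf 78951 6
 Tr.leaf))) 78957 6
 (Tr.node (Tr.node (Tr.node (Tr.node Tr.leaf 78959 6
 Tr.leaf) 78965 6
 Tr.leaf) 78967 6
 (Tr.node Tr.leaf 78973 6
 Tr.leaf)) 78975 6
 (Tr.node (Tr.node (Tr.node Tr.leaf 78981 6
 Tr.leaf) 78983 6
 Tr.leaf) 78989 6
 (Tr.node Tr.leaf 78991 6
 Tr.leaf))))) 78997 5
 (Tr.node (Tr.node (Tr.node (Tr.node (Tr.node (Tr.node Tr.leaf 78999 5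
 Tr.leaf) 79005 6
 Tr.leaf) 79007 6
 (Tr.node (Tr.node Tr.leaf 79009 5
 Tr.leaf) 79011 6
 Tr.leaf)) 79017 7
 (Tr.node (Tr.node (Tr.node Tr.leaf 79019 6
 Tr.leaf) 79025 5
 Tr.leaf) 79027 7
 (Tr.node Tr.leaf 79033 7
 Tr.leaf))) 79035 5
 (Tr.node (Tr.node (Tr.node (Tr.node Tr.leaf 79041 6
 Tr.leaf) 79043 6
 Tr.leaf) 79049 6
 (Tr.node Tr.leaf 79051 5
 Tr.leaf)) 79057 6
 (Tr.node (Tr.node (Tr.node Tr.leaf 79059 6
 Tr.leaf) 79065 6
 Tr.leaf) 79067 6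
 (Tr.node Tr.leaf 79077 6
 Tr.leaf)))) 79079 6
 (Tr.node (Tr.node (Tr.node (Tr.node (Tr.node Tr.leaf 79085 5
 Tr.leaf) 79087 6
 Tr.leaf) 79093 6
 (Tr.node (Tr.node Tr.leaf 79095 6
 Tr.leaf) 79101 6
 Tr.leaf)) 79103 6
 (Tr.node (Tr.node (Tr.node Tr.leaf 79105 6
 Tr.leaf) 79107 6
 Tr.leaf) 79113 4
 (Tr.node Tr.leaf 79115 6
 Tr.leaf))) 79121 5
 (Tr.node (Tr.node (Tr.node (Tr.node Tr.leaf 79123 6
 Tr.leaf) 79129 6
 Tr.leaf) 79131 4
 (Tr.node Tr.leaf 79141 6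
 Tr.leaf)) 79143 6
 (Tr.node (Tr.node (Tr.node Tr.leaf 79149 6
 Tr.leaf) 79151 6
 Tr.leaf) 79157 6
 (Tr.node Tr.leaf 79159 7
 Tr.leaf)))))))) 79165 6
 (Tr.node (Tr.node (Tr.node (Tr.node (Tr.node (Tr.node (Tr.node (Tr.node (Tr.node Tr.leaf 79167 6
 Tr.leaf) 79173 6
 Tr.leaf) 79175 6
 (Tr.node (Tr.node Tr.leaf 79181 7
 Tr.leaf) 79183 6
 Tr.leaf)) 79189 6
 (Tr.node (Tr.node (Tr.node Tr.leaf 79191 5
 Tr.leaf) 79197 6
 Tr.leaf) 79199 6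
 (Tr.node Tr.leaf 79201 6
 Tr.leaf))) 79203 6
 (Tr.node (Tr.node (Tr.node (Tr.node Tr.leaf 79209 6
 Tr.leaf) 79211 6
 Tr.leaf) 79217 5
 (Tr.node (Tr.node Tr.leaf 79219 6
 Tr.leaf) 79225 6
 Tr.leaf)) 79227 5
 (Tr.node (Tr.node (Tr.node Tr.leaf 79233 5
 Tr.leaf) 79235 4
 Tr.leaf) 79241 6
 (Tr.node Tr.leaf 79243 6
 Tr.leaf)))) 79249 6
 (Tr.node (Tr.node (Tr.node (Tr.node (Tr.node Tr.leaf 79251 6
 Tr.leaf) 79257 6
 Tr.leaf) 79259 6
 (Tr.node (Tr.node Tr.leaf 79269 6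
 Tr.leaf) 79271 6
 Tr.leaf)) 79277 5
 (Tr.node (Tr.node (Tr.node Tr.leaf 79279 5
 Tr.leaf) 79285 6
 Tr.leaf) 79287 6
 (Tr.node Tr.leaf 79293 6
 Tr.leaf))) 79295 6
 (Tr.node (Tr.node (Tr.node (Tr.node Tr.leaf 79301 6
 Tr.leaf) 79303 6
 Tr.leaf) 79309 6
 (Tr.node Tr.leaf 79311 6
 Tr.leaf)) 79317 6
 (Tr.node (Tr.node (Tr.node Tr.leaf 79319 6
 Tr.leaf) 79325 6
 Tr.leaf) 79327 6
 (Tr.node Tr.leaf 79329 6
 Tr.leaf))))) 79331 5
 (Tr.node (Tr.node (Tr.node (Tr.node (Tr.node (Tr.node Tr.leaf 79337 6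
 Tr.leaf) 79339 6
 Tr.leaf) 79345 6
 (Tr.node (Tr.node Tr.leaf 79347 6
 Tr.leaf) 79353 5
 Tr.leaf)) 79355 5
 (Tr.node (Tr.node (Tr.node Tr.leaf 79875 6
 Tr.leaf) 79879 5
 Tr.leaf) 79883 5
 (Tr.node Tr.leaf 79887 6
 Tr.leaf))) 79891 4
 (Tr.node (Tr.node (Tr.node (Tr.node Tr.leaf 79895 7
 Tr.leaf) 79899 6
 Tr.leaf) 79903 6
 (Tr.node Tr.leaf 79905 5
 Tr.leaf)) 79906 4
 (Tr.node (Tr.node (Tr.node Tr.leaf 79909 6
 Tr.leaf) 79910 4
 Tr.leaf) 79913 6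
 (Tr.node Tr.leaf 79914 6
 Tr.leaf)))) 79917 5
 (Tr.node (Tr.node (Tr.node (Tr.node (Tr.node Tr.leaf 79918 6
 Tr.leaf) 79921 5
 Tr.leaf) 79922 3
 (Tr.node (Tr.node Tr.leaf 79925 6
 Tr.leaf) 79926 5
 Tr.leaf)) 79929 6
 (Tr.node (Tr.node (Tr.node Tr.leaf 79930 6
 Tr.leaf) 79933 6
 Tr.leaf) 79934 6
 (Tr.node Tr.leaf 79937 6
 Tr.leaf))) 79938 6
 (Tr.node (Tr.node (Tr.node (Tr.node Tr.leaf 79941 6
 Tr.leaf) 79942 5
 Tr.leaf) 79945 4
 (Tr.node Tr.leaf 79946 4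
 Tr.leaf)) 79949 5
 (Tr.node (Tr.node (Tr.node Tr.leaf 79950 5
 Tr.leaf) 79953 7
 Tr.leaf) 79954 6
 (Tr.node Tr.leaf 79957 7
 Tr.leaf)))))) 79958 7
 (Tr.node (Tr.node (Tr.node (Tr.node (Tr.node (Tr.node (Tr.node Tr.leaf 79961 6
 Tr.leaf) 79962 5
 Tr.leaf) 79965 6
 (Tr.node (Tr.node Tr.leaf 79966 6
 Tr.leaf) 79971 6
 Tr.leaf)) 79975 6
 (Tr.node (Tr.node (Tr.node Tr.leaf 79979 6
 Tr.leaf) 79983 6
 Tr.leaf) 79987 6
 (Tr.node Tr.leaf 79991 6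
 Tr.leaf))) 79995 5
 (Tr.node (Tr.node (Tr.node (Tr.node Tr.leaf 79999 6
 Tr.leaf) 80003 6
 Tr.leaf) 80007 6
 (Tr.node (Tr.node Tr.leaf 80011 4
 Tr.leaf) 80015 6
 Tr.leaf)) 80019 6
 (Tr.node (Tr.node (Tr.node Tr.leaf 80023 4
 Tr.leaf) 80027 6
 Tr.leaf) 80031 6
 (Tr.node Tr.leaf 80033 4
 Tr.leaf)))) 80034 6
 (Tr.node (Tr.node (Tr.node (Tr.node (Tr.node Tr.leaf 80037 6
 Tr.leaf) 80038 6
 Tr.leaf) 80041 6
 (Tr.node (Tr.node Tr.leaf 80042 5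
 Tr.leaf) 80045 5
 Tr.leaf)) 80046 3
 (Tr.node (Tr.node (Tr.node Tr.leaf 80049 5
 Tr.leaf) 80050 6
 Tr.leaf) 80053 6
 (Tr.node Tr.leaf 80054 6
 Tr.leaf))) 80057 6
 (Tr.node (Tr.node (Tr.node (Tr.node Tr.leaf 80058 3
 Tr.leaf) 80061 6
 Tr.leaf) 80062 6
 (Tr.node Tr.leaf 80065 4
 Tr.leaf)) 80066 5
 (Tr.node (Tr.node (Tr.node Tr.leaf 80069 5
 Tr.leaf) 80070 4
 Tr.leaf) 80073 6
 (Tr.node Tr.leaf 80074 6
 Tr.leaf))))) 80077 6
 (Tr.node (Tr.node (Tr.node (Tr.node (Tr.node (Tr.node Tr.leaf 80078 6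
 Tr.leaf) 80081 6
 Tr.leaf) 80082 6
 (Tr.node (Tr.node Tr.leaf 80085 7
 Tr.leaf) 80086 5
 Tr.leaf)) 80089 6
 (Tr.node (Tr.node (Tr.node Tr.leaf 80090 4
 Tr.leaf) 80093 4
 Tr.leaf) 80094 5
 (Tr.node Tr.leaf 80099 6
 Tr.leaf))) 80103 7
 (Tr.node (Tr.node (Tr.node (Tr.node Tr.leaf 80107 6
 Tr.leaf) 80111 6
 Tr.leaf) 80115 6
 (Tr.node Tr.leaf 80119 6
 Tr.leaf)) 80123 5
 (Tr.node (Tr.node (Tr.node Tr.leaf 80127 6
 Tr.leaf) 80129 6
 Tr.leaf) 80130 6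
 (Tr.node Tr.leaf 80133 5
 Tr.leaf)))) 80134 3
 (Tr.node (Tr.node (Tr.node (Tr.node (Tr.node Tr.leaf 80137 6
 Tr.leaf) 80138 6
 Tr.leaf) 80141 6
 (Tr.node (Tr.node Tr.leaf 80142 6
 Tr.leaf) 80145 5
 Tr.leaf)) 80146 6
 (Tr.node (Tr.node (Tr.node Tr.leaf 80149 6
 Tr.leaf) 80150 5
 Tr.leaf) 80153 6
 (Tr.node Tr.leaf 80154 6
 Tr.leaf))) 80157 6
 (Tr.node (Tr.node (Tr.node (Tr.node Tr.leaf 80158 4
 Tr.leaf) 80163 6
 Tr.leaf) 80167 6
 (Tr.node Tr.leaf 80171 6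
 Tr.leaf)) 80175 6
 (Tr.node (Tr.node (Tr.node Tr.leaf 80179 7
 Tr.leaf) 80183 6
 Tr.leaf) 80187 6
 (Tr.node Tr.leaf 80191 6
 Tr.leaf))))))) 80195 6
 (Tr.node (Tr.node (Tr.node (Tr.node (Tr.node (Tr.node (Tr.node (Tr.node Tr.leaf 80199 5
 Tr.leaf) 80203 6
 Tr.leaf) 80207 6
 (Tr.node (Tr.node Tr.leaf 80211 6
 Tr.leaf) 80215 6
 Tr.leaf)) 80219 6
 (Tr.node (Tr.node (Tr.node Tr.leaf 80223 5
 Tr.leaf) 80225 6
 Tr.leaf) 80226 6
 (Tr.node Tr.leaf 80229 6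
 Tr.leaf))) 80230 6
 (Tr.node (Tr.node (Tr.node (Tr.node Tr.leaf 80233 6
 Tr.leaf) 80234 5
 Tr.leaf) 80237 6
 (Tr.node (Tr.node Tr.leaf 80238 6
 Tr.leaf) 80241 6
 Tr.leaf)) 80242 6
 (Tr.node (Tr.node (Tr.node Tr.leaf 80245 6
 Tr.leaf) 80246 5
 Tr.leaf) 80249 5
 (Tr.node Tr.leaf 80250 5
 Tr.leaf)))) 80253 6
 (Tr.node (Tr.node (Tr.node (Tr.node (Tr.node Tr.leaf 80254 6
 Tr.leaf) 80257 6
 Tr.leaf) 80258 5
 (Tr.node (Tr.node Tr.leaf 80261 6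
 Tr.leaf) 80262 6
 Tr.leaf)) 80265 6
 (Tr.node (Tr.node (Tr.node Tr.leaf 80266 4
 Tr.leaf) 80269 6
 Tr.leaf) 80270 6
 (Tr.node Tr.leaf 80273 6
 Tr.leaf))) 80274 5
 (Tr.node (Tr.node (Tr.node (Tr.node Tr.leaf 80277 7
 Tr.leaf) 80278 6
 Tr.leaf) 80281 6
 (Tr.node Tr.leaf 80282 3
 Tr.leaf)) 80285 6
 (Tr.node (Tr.node (Tr.node Tr.leaf 80286 6
 Tr.leaf) 80291 6
 Tr.leaf) 80295 5
 (Tr.node Tr.leaf 80299 6
 Tr.leaf))))) 80303 6
 (Tr.node (Tr.node (Tr.node (Tr.node (Tr.node (Tr.node Tr.leaf 80307 6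
 Tr.leaf) 80311 6
 Tr.leaf) 80315 6
 (Tr.node (Tr.node Tr.leaf 80319 6
 Tr.leaf) 80323 6
 Tr.leaf)) 80327 6
 (Tr.node (Tr.node (Tr.node Tr.leaf 80331 5
 Tr.leaf) 80335 6
 Tr.leaf) 80339 6
 (Tr.node Tr.leaf 80343 5
 Tr.leaf))) 80347 6
 (Tr.node (Tr.node (Tr.node (Tr.node Tr.leaf 80351 5
 Tr.leaf) 80353 6
 Tr.leaf) 80354 5
 (Tr.node Tr.leaf 80357 6
 Tr.leaf)) 80358 5
 (Tr.node (Tr.node (Tr.node Tr.leaf 80361 6
 Tr.leaf) 80362 5
 Tr.leaf) 80365 6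
 (Tr.node Tr.leaf 80366 6
 Tr.leaf)))) 80369 6
 (Tr.node (Tr.node (Tr.node (Tr.node (Tr.node Tr.leaf 80370 6
 Tr.leaf) 80373 6
 Tr.leaf) 80374 6
 (Tr.node (Tr.node Tr.leaf 80377 6
 Tr.leaf) 80378 6
 Tr.leaf)) 80381 6
 (Tr.node (Tr.node (Tr.node Tr.leaf 80382 6
 Tr.leaf) 80897 6
 Tr.leaf) 80899 6
 (Tr.node Tr.leaf 80901 6
 Tr.leaf))) 80903 6
 (Tr.node (Tr.node (Tr.node (Tr.node Tr.leaf 80905 7
 Tr.leaf) 80907 5
 Tr.leaf) 80909 6
 (Tr.node Tr.leaf 80911 6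
 Tr.leaf)) 80913 6
 (Tr.node (Tr.node (Tr.node Tr.leaf 80915 5
 Tr.leaf) 80917 6
 Tr.leaf) 80919 6
 (Tr.node Tr.leaf 80921 4
 Tr.leaf)))))) 80923 4
 (Tr.node (Tr.node (Tr.node (Tr.node (Tr.node (Tr.node (Tr.node Tr.leaf 80925 6
 Tr.leaf) 80927 6
 Tr.leaf) 80993 6
 (Tr.node (Tr.node Tr.leaf 80995 6
 Tr.leaf) 80997 6
 Tr.leaf)) 80999 6
 (Tr.node (Tr.node (Tr.node Tr.leaf 81001 6
 Tr.leaf) 81003 6
 Tr.leaf) 81005 6
 (Tr.node Tr.leaf 81007 5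
 Tr.leaf))) 81009 6
 (Tr.node (Tr.node (Tr.node (Tr.node Tr.leaf 81011 5
 Tr.leaf) 81013 5
 Tr.leaf) 81015 6
 (Tr.node (Tr.node Tr.leaf 81017 6
 Tr.leaf) 81019 6
 Tr.leaf)) 81021 6
 (Tr.node (Tr.node (Tr.node Tr.leaf 81023 6
 Tr.leaf) 81025 4
 Tr.leaf) 81027 4
 (Tr.node Tr.leaf 81029 6
 Tr.leaf)))) 81031 6
 (Tr.node (Tr.node (Tr.node (Tr.node (Tr.node Tr.leaf 81033 4
 Tr.leaf) 81035 6
 Tr.leaf) 81037 6
 (Tr.node (Tr.node Tr.leaf 81039 5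
 Tr.leaf) 81041 6
 Tr.leaf)) 81043 6
 (Tr.node (Tr.node (Tr.node Tr.leaf 81045 6
 Tr.leaf) 81047 4
 Tr.leaf) 81049 6
 (Tr.node Tr.leaf 81051 5
 Tr.leaf))) 81053 5
 (Tr.node (Tr.node (Tr.node (Tr.node Tr.leaf 81055 4
 Tr.leaf) 81121 6
 Tr.leaf) 81123 6
 (Tr.node Tr.leaf 81125 6
 Tr.leaf)) 81127 6
 (Tr.node (Tr.node (Tr.node Tr.leaf 81129 5
 Tr.leaf) 81131 6
 Tr.leaf) 81133 6
 (Tr.node Tr.leaf 81135 6
 Tr.leaf))))) 81137 6
 (Tr.node (Tr.node (Tr.node (Tr.node (Tr.node (Tr.node Tr.leaf 81139 5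
 Tr.leaf) 81141 5
 Tr.leaf) 81143 6
 (Tr.node (Tr.node Tr.leaf 81145 6
 Tr.leaf) 81147 6
 Tr.leaf)) 81149 6
 (Tr.node (Tr.node (Tr.node Tr.leaf 81151 6
 Tr.leaf) 81185 6
 Tr.leaf) 81187 6
 (Tr.node Tr.leaf 81189 6
 Tr.leaf))) 81191 6
 (Tr.node (Tr.node (Tr.node (Tr.node Tr.leaf 81193 6
 Tr.leaf) 81195 6
 Tr.leaf) 81197 6
 (Tr.node Tr.leaf 81199 6
 Tr.leaf)) 81201 6
 (Tr.node (Tr.node (Tr.node Tr.leaf 81203 6
 Tr.leaf) 81205 5
 Tr.leaf) 81207 6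
 (Tr.node Tr.leaf 81209 5
 Tr.leaf)))) 81211 6
 (Tr.node (Tr.node (Tr.node (Tr.node (Tr.node Tr.leaf 81213 6
 Tr.leaf) 81215 6
 Tr.leaf) 81217 5
 (Tr.node (Tr.node Tr.leaf 81219 6
 Tr.leaf) 81221 5
 Tr.leaf)) 81223 6
 (Tr.node (Tr.node (Tr.node Tr.leaf 81225 6
 Tr.leaf) 81227 5
 Tr.leaf) 81229 5
 (Tr.node Tr.leaf 81231 6
 Tr.leaf))) 81233 6
 (Tr.node (Tr.node (Tr.node (Tr.node Tr.leaf 81235 6
 Tr.leaf) 81237 6
 Tr.leaf) 81239 5
 (Tr.node Tr.leaf 81241 5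
 Tr.leaf)) 81243 5
 (Tr.node (Tr.node (Tr.node Tr.leaf 81245 6
 Tr.leaf) 81247 6
 Tr.leaf) 81313 6
 (Tr.node Tr.leaf 81315 5
 Tr.leaf)))))))))

/-- A subtree. -/
def tr2_s20 : Tr := (Tr.node (Tr.node (Tr.node (Tr.node (Tr.node (Tr.node (Tr.node (Tr.node (Tr.node (Tr.node Tr.leaf 81319 6
 Tr.leaf) 81321 5
 Tr.leaf) 81323 5
 (Tr.node (Tr.node Tr.leaf 81325 6
 Tr.leaf) 81327 6
 Tr.leaf)) 81329 6
 (Tr.node (Tr.node (Tr.node Tr.leaf 81331 6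
 Tr.leaf) 81333 6
 Tr.leaf) 81335 6
 (Tr.node Tr.leaf 81337 6
 Tr.leaf))) 81339 6
 (Tr.node (Tr.node (Tr.node (Tr.node Tr.leaf 81341 6
 Tr.leaf) 81343 6
 Tr.leaf) 81345 6
 (Tr.node (Tr.node Tr.leaf 81347 6
 Tr.leaf) 81349 6
 Tr.leaf)) 81351 6
 (Tr.node (Tr.node (Tr.node Tr.leaf 81353 6
 Tr.leaf) 81355 6
 Tr.leaf) 81357 6
 (Tr.node Tr.leaf 81359 6
 Tr.leaf)))) 81361 6
 (Tr.node (Tr.node (Tr.node (Tr.node (Tr.node Tr.leaf 81363 6
 Tr.leaf) 81365 6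
 Tr.leaf) 81367 5
 (Tr.node (Tr.node Tr.leaf 81369 6
 Tr.leaf) 81371 6
 Tr.leaf)) 81373 5
 (Tr.node (Tr.node (Tr.node Tr.leaf 81375 6
 Tr.leaf) 81923 5
 Tr.leaf) 81925 5
 (Tr.node Tr.leaf 81926 7
 Tr.leaf))) 81929 5
 (Tr.node (Tr.node (Tr.node (Tr.node Tr.leaf 81930 5
 Tr.leaf) 81932 4
 Tr.leaf) 81935 4
 (Tr.node Tr.leaf 81937 4
 Tr.leaf)) 81938 4
 (Tr.node (Tr.node (Tr.node Tr.leaf 81940 6
 Tr.leaf) 81943 3
 Tr.leaf) 81944 4
 (Tr.node Tr.leaf 81947 5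
 Tr.leaf))))) 81949 3
 (Tr.node (Tr.node (Tr.node (Tr.node (Tr.node (Tr.node Tr.leaf 81950 4
 Tr.leaf) 81955 4
 Tr.leaf) 81957 4
 (Tr.node (Tr.node Tr.leaf 81958 6
 Tr.leaf) 81961 4
 Tr.leaf)) 81962 5
 (Tr.node (Tr.node (Tr.node Tr.leaf 81964 4
 Tr.leaf) 81967 6
 Tr.leaf) 81969 3
 (Tr.node Tr.leaf 81970 4
 Tr.leaf))) 81972 6
 (Tr.node (Tr.node (Tr.node (Tr.node Tr.leaf 81975 6
 Tr.leaf) 81976 5
 Tr.leaf) 81979 6
 (Tr.node (Tr.node Tr.leaf 81981 5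
 Tr.leaf) 81982 5
 Tr.leaf)) 81985 5
 (Tr.node (Tr.node (Tr.node Tr.leaf 81986 4
 Tr.leaf) 81988 5
 Tr.leaf) 81991 4
 (Tr.node Tr.leaf 81992 7
 Tr.leaf)))) 81995 5
 (Tr.node (Tr.node (Tr.node (Tr.node (Tr.node Tr.leaf 81997 5
 Tr.leaf) 81998 6
 Tr.leaf) 82000 5
 (Tr.node (Tr.node Tr.leaf 82003 6
 Tr.leaf) 82005 6
 Tr.leaf)) 82006 5
 (Tr.node (Tr.node (Tr.node Tr.leaf 82009 6
 Tr.leaf) 82010 6
 Tr.leaf) 82012 5
 (Tr.node Tr.leaf 82015 6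
 Tr.leaf))) 82017 4
 (Tr.node (Tr.node (Tr.node (Tr.node Tr.leaf 82018 5
 Tr.leaf) 82020 4
 Tr.leaf) 82023 6
 (Tr.node Tr.leaf 82024 6
 Tr.leaf)) 82027 6
 (Tr.node (Tr.node (Tr.node Tr.leaf 82029 6
 Tr.leaf) 82030 6
 Tr.leaf) 82032 6
 (Tr.node Tr.leaf 82035 5
 Tr.leaf)))))) 82037 7
 (Tr.node (Tr.node (Tr.node (Tr.node (Tr.node (Tr.node (Tr.node Tr.leaf 82038 6
 Tr.leaf) 82041 6
 Tr.leaf) 82042 5
 (Tr.node (Tr.node Tr.leaf 82044 6
 Tr.leaf) 82047 6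
 Tr.leaf)) 82051 4
 (Tr.node (Tr.node (Tr.node Tr.leaf 82053 4
 Tr.leaf) 82054 6
 Tr.leaf) 82057 4
 (Tr.node Tr.leaf 82058 4
 Tr.leaf))) 82060 5
 (Tr.node (Tr.node (Tr.node (Tr.node Tr.leaf 82063 6
 Tr.leaf) 82065 3
 Tr.leaf) 82066 4
 (Tr.node (Tr.node Tr.leaf 82068 6
 Tr.leaf) 82071 6
 Tr.leaf)) 82072 4
 (Tr.node (Tr.node (Tr.node Tr.leaf 82075 7
 Tr.leaf) 82077 4
 Tr.leaf) 82078 5
 (Tr.node Tr.leaf 82083 4
 Tr.leaf)))) 82085 4
 (Tr.node (Tr.node (Tr.node (Tr.node (Tr.node Tr.leaf 82086 7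
 Tr.leaf) 82089 4
 Tr.leaf) 82090 5
 (Tr.node (Tr.node Tr.leaf 82092 4
 Tr.leaf) 82095 5
 Tr.leaf)) 82097 3
 (Tr.node (Tr.node (Tr.node Tr.leaf 82098 4
 Tr.leaf) 82100 5
 Tr.leaf) 82103 6
 (Tr.node Tr.leaf 82104 4
 Tr.leaf))) 82107 5
 (Tr.node (Tr.node (Tr.node (Tr.node Tr.leaf 82109 6
 Tr.leaf) 82110 5
 Tr.leaf) 82113 4
 (Tr.node Tr.leaf 82114 4
 Tr.leaf)) 82116 5
 (Tr.node (Tr.node (Tr.node Tr.leaf 82119 6
 Tr.leaf) 82120 6
 Tr.leaf) 82123 6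
 (Tr.node Tr.leaf 82125 6
 Tr.leaf))))) 82126 6
 (Tr.node (Tr.node (Tr.node (Tr.node (Tr.node (Tr.node Tr.leaf 82128 6
 Tr.leaf) 82131 5
 Tr.leaf) 82133 6
 (Tr.node (Tr.node Tr.leaf 82134 6
 Tr.leaf) 82137 6
 Tr.leaf)) 82138 5
 (Tr.node (Tr.node (Tr.node Tr.leaf 82140 6
 Tr.leaf) 82143 6
 Tr.leaf) 82145 4
 (Tr.node Tr.leaf 82146 4
 Tr.leaf))) 82148 5
 (Tr.node (Tr.node (Tr.node (Tr.node Tr.leaf 82151 5
 Tr.leaf) 82152 7
 Tr.leaf) 82155 4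
 (Tr.node Tr.leaf 82157 4
 Tr.leaf)) 82158 6
 (Tr.node (Tr.node (Tr.node Tr.leaf 82160 6
 Tr.leaf) 82163 3
 Tr.leaf) 82165 6
 (Tr.node Tr.leaf 82166 5
 Tr.leaf)))) 82169 3
 (Tr.node (Tr.node (Tr.node (Tr.node (Tr.node Tr.leaf 82170 4
 Tr.leaf) 82172 5
 Tr.leaf) 82175 6
 (Tr.node (Tr.node Tr.leaf 82177 4
 Tr.leaf) 82178 6
 Tr.leaf)) 82180 4
 (Tr.node (Tr.node (Tr.node Tr.leaf 82183 3
 Tr.leaf) 82184 5
 Tr.leaf) 82187 6
 (Tr.node Tr.leaf 82189 6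
 Tr.leaf))) 82190 5
 (Tr.node (Tr.node (Tr.node (Tr.node Tr.leaf 82192 4
 Tr.leaf) 82195 4
 Tr.leaf) 82197 4
 (Tr.node Tr.leaf 82198 6
 Tr.leaf)) 82201 6
 (Tr.node (Tr.node (Tr.node Tr.leaf 82202 6
 Tr.leaf) 82204 6
 Tr.leaf) 82207 5
 (Tr.node Tr.leaf 82209 3
 Tr.leaf))))))) 82210 6
 (Tr.node (Tr.node (Tr.node (Tr.node (Tr.node (Tr.node (Tr.node (Tr.node Tr.leaf 82212 4
 Tr.leaf) 82215 6
 Tr.leaf) 82216 6
 (Tr.node (Tr.node Tr.leaf 82219 6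
 Tr.leaf) 82221 5
 Tr.leaf)) 82222 6
 (Tr.node (Tr.node (Tr.node Tr.leaf 82224 2
 Tr.leaf) 82227 6
 Tr.leaf) 82229 6
 (Tr.node Tr.leaf 82230 6
 Tr.leaf))) 82233 6
 (Tr.node (Tr.node (Tr.node (Tr.node Tr.leaf 82234 5
 Tr.leaf) 82236 5
 Tr.leaf) 82239 5
 (Tr.node (Tr.node Tr.leaf 82243 3
 Tr.leaf) 82245 5
 Tr.leaf)) 82246 4
 (Tr.node (Tr.node (Tr.node Tr.leaf 82249 6
 Tr.leaf) 82250 5
 Tr.leaf) 82252 6
 (Tr.node Tr.leaf 82255 6
 Tr.leaf)))) 82257 6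
 (Tr.node (Tr.node (Tr.node (Tr.node (Tr.node Tr.leaf 82258 6
 Tr.leaf) 82260 6
 Tr.leaf) 82263 5
 (Tr.node (Tr.node Tr.leaf 82264 6
 Tr.leaf) 82267 6
 Tr.leaf)) 82269 6
 (Tr.node (Tr.node (Tr.node Tr.leaf 82270 6
 Tr.leaf) 82275 4
 Tr.leaf) 82277 7
 (Tr.node Tr.leaf 82278 5
 Tr.leaf))) 82281 6
 (Tr.node (Tr.node (Tr.node (Tr.node Tr.leaf 82282 6
 Tr.leaf) 82284 5
 Tr.leaf) 82287 6
 (Tr.node Tr.leaf 82289 6
 Tr.leaf)) 82290 5
 (Tr.node (Tr.node (Tr.node Tr.leaf 82292 6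
 Tr.leaf) 82295 5
 Tr.leaf) 82296 6
 (Tr.node Tr.leaf 82299 5
 Tr.leaf))))) 82301 5
 (Tr.node (Tr.node (Tr.node (Tr.node (Tr.node (Tr.node Tr.leaf 82302 6
 Tr.leaf) 82305 3
 Tr.leaf) 82306 6
 (Tr.node (Tr.node Tr.leaf 82308 4
 Tr.leaf) 82311 6
 Tr.leaf)) 82312 6
 (Tr.node (Tr.node (Tr.node Tr.leaf 82315 7
 Tr.leaf) 82317 5
 Tr.leaf) 82318 6
 (Tr.node Tr.leaf 82320 2
 Tr.leaf))) 82323 6
 (Tr.node (Tr.node (Tr.node (Tr.node Tr.leaf 82325 6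
 Tr.leaf) 82326 6
 Tr.leaf) 82329 6
 (Tr.node Tr.leaf 82330 6
 Tr.leaf)) 82332 5
 (Tr.node (Tr.node (Tr.node Tr.leaf 82335 5
 Tr.leaf) 82337 3
 Tr.leaf) 82338 5
 (Tr.node Tr.leaf 82340 4
 Tr.leaf)))) 82343 6
 (Tr.node (Tr.node (Tr.node (Tr.node (Tr.node Tr.leaf 82344 6
 Tr.leaf) 82347 6
 Tr.leaf) 82349 3
 (Tr.node (Tr.node Tr.leaf 82350 5
 Tr.leaf) 82352 4
 Tr.leaf)) 82355 6
 (Tr.node (Tr.node (Tr.node Tr.leaf 82357 6
 Tr.leaf) 82358 6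
 Tr.leaf) 82361 4
 (Tr.node Tr.leaf 82362 7
 Tr.leaf))) 82364 6
 (Tr.node (Tr.node (Tr.node (Tr.node Tr.leaf 82367 6
 Tr.leaf) 82371 5
 Tr.leaf) 82373 6
 (Tr.node Tr.leaf 82374 5
 Tr.leaf)) 82377 6
 (Tr.node (Tr.node (Tr.node Tr.leaf 82378 6
 Tr.leaf) 82380 5
 Tr.leaf) 82383 6
 (Tr.node Tr.leaf 82385 6
 Tr.leaf)))))) 82386 5
 (Tr.node (Tr.node (Tr.node (Tr.node (Tr.node (Tr.node (Tr.node Tr.leaf 82388 5
 Tr.leaf) 82391 5
 Tr.leaf) 82392 6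
 (Tr.node (Tr.node Tr.leaf 82395 5
 Tr.leaf) 82397 5
 Tr.leaf)) 82398 6
 (Tr.node (Tr.node (Tr.node Tr.leaf 82403 6
 Tr.leaf) 82405 5
 Tr.leaf) 82406 5
 (Tr.node Tr.leaf 82409 3
 Tr.leaf))) 82410 5
 (Tr.node (Tr.node (Tr.node (Tr.node Tr.leaf 82412 4
 Tr.leaf) 82415 6
 Tr.leaf) 82417 4
 (Tr.node (Tr.node Tr.leaf 82418 6
 Tr.leaf) 82420 7
 Tr.leaf)) 82423 6
 (Tr.node (Tr.node (Tr.node Tr.leaf 82424 6
 Tr.leaf) 82427 5
 Tr.leaf) 82429 5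
 (Tr.node Tr.leaf 82430 6
 Tr.leaf)))) 82945 5
 (Tr.node (Tr.node (Tr.node (Tr.node (Tr.node Tr.leaf 82947 4
 Tr.leaf) 82957 6
 Tr.leaf) 82959 5
 (Tr.node (Tr.node Tr.leaf 82965 6
 Tr.leaf) 82967 4
 Tr.leaf)) 82969 6
 (Tr.node (Tr.node (Tr.node Tr.leaf 82971 4
 Tr.leaf) 82977 4
 Tr.leaf) 82979 4
 (Tr.node Tr.leaf 82989 6
 Tr.leaf))) 82991 6
 (Tr.node (Tr.node (Tr.node (Tr.node Tr.leaf 82997 4
 Tr.leaf) 82999 4
 Tr.leaf) 83001 5
 (Tr.node Tr.leaf 83003 6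
 Tr.leaf)) 83013 5
 (Tr.node (Tr.node (Tr.node Tr.leaf 83015 5
 Tr.leaf) 83017 7
 Tr.leaf) 83019 4
 (Tr.node Tr.leaf 83025 6
 Tr.leaf))))) 83027 4
 (Tr.node (Tr.node (Tr.node (Tr.node (Tr.node (Tr.node Tr.leaf 83037 6
 Tr.leaf) 83039 5
 Tr.leaf) 83045 7
 (Tr.node (Tr.node Tr.leaf 83047 6
 Tr.leaf) 83049 5
 Tr.leaf)) 83051 5
 (Tr.node (Tr.node (Tr.node Tr.leaf 83057 6
 Tr.leaf) 83059 5
 Tr.leaf) 83069 6
 (Tr.node Tr.leaf 83071 6
 Tr.leaf))) 83073 4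
 (Tr.node (Tr.node (Tr.node (Tr.node Tr.leaf 83075 4
 Tr.leaf) 83085 4
 Tr.leaf) 83087 5
 (Tr.node Tr.leaf 83093 6
 Tr.leaf)) 83095 5
 (Tr.node (Tr.node (Tr.node Tr.leaf 83097 4
 Tr.leaf) 83099 6
 Tr.leaf) 83105 4
 (Tr.node Tr.leaf 83107 4
 Tr.leaf)))) 83117 5
 (Tr.node (Tr.node (Tr.node (Tr.node (Tr.node Tr.leaf 83119 6
 Tr.leaf) 83125 5
 Tr.leaf) 83127 6
 (Tr.node (Tr.node Tr.leaf 83129 6
 Tr.leaf) 83131 4
 Tr.leaf)) 83141 4
 (Tr.node (Tr.node (Tr.node Tr.leaf 83143 6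
 Tr.leaf) 83145 6
 Tr.leaf) 83147 5
 (Tr.node Tr.leaf 83153 6
 Tr.leaf))) 83155 6
 (Tr.node (Tr.node (Tr.node (Tr.node Tr.leaf 83165 6
 Tr.leaf) 83167 6
 Tr.leaf) 83173 3
 (Tr.node Tr.leaf 83175 5
 Tr.leaf)) 83177 6
 (Tr.node (Tr.node (Tr.node Tr.leaf 83179 6
 Tr.leaf) 83185 5
 Tr.leaf) 83187 6
 (Tr.node Tr.leaf 83197 7
 Tr.leaf)))))))) 83199 6
 (Tr.node (Tr.node (Tr.node (Tr.node (Tr.node (Tr.node (Tr.node (Tr.node (Tr.node Tr.leaf 83205 6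
 Tr.leaf) 83207 6
 Tr.leaf) 83209 6
 (Tr.node (Tr.node Tr.leaf 83211 6
 Tr.leaf) 83217 6
 Tr.leaf)) 83219 5
 (Tr.node (Tr.node (Tr.node Tr.leaf 83229 6
 Tr.leaf) 83231 6
 Tr.leaf) 83237 4
 (Tr.node Tr.leaf 83239 7
 Tr.leaf))) 83241 6
 (Tr.node (Tr.node (Tr.node (Tr.node Tr.leaf 83243 6
 Tr.leaf) 83249 6
 Tr.leaf) 83251 5
 (Tr.node (Tr.node Tr.leaf 83261 6
 Tr.leaf) 83263 6
 Tr.leaf)) 83265 6
 (Tr.node (Tr.node (Tr.node Tr.leaf 83267 6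
 Tr.leaf) 83277 6
 Tr.leaf) 83279 6
 (Tr.node Tr.leaf 83285 7
 Tr.leaf)))) 83287 6
 (Tr.node (Tr.node (Tr.node (Tr.node (Tr.node Tr.leaf 83289 5
 Tr.leaf) 83291 6
 Tr.leaf) 83297 6
 (Tr.node (Tr.node Tr.leaf 83299 6
 Tr.leaf) 83309 6
 Tr.leaf)) 83311 5
 (Tr.node (Tr.node (Tr.node Tr.leaf 83317 6
 Tr.leaf) 83319 7
 Tr.leaf) 83321 6
 (Tr.node Tr.leaf 83323 6
 Tr.leaf))) 83333 6
 (Tr.node (Tr.node (Tr.node (Tr.node Tr.leaf 83335 5
 Tr.leaf) 83337 6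
 Tr.leaf) 83339 6
 (Tr.node Tr.leaf 83345 6
 Tr.leaf)) 83347 6
 (Tr.node (Tr.node (Tr.node Tr.leaf 83357 6
 Tr.leaf) 83359 6
 Tr.leaf) 83365 4
 (Tr.node Tr.leaf 83367 5
 Tr.leaf))))) 83369 6
 (Tr.node (Tr.node (Tr.node (Tr.node (Tr.node (Tr.node Tr.leaf 83371 6
 Tr.leaf) 83377 6
 Tr.leaf) 83379 6
 (Tr.node (Tr.node Tr.leaf 83389 5
 Tr.leaf) 83391 6
 Tr.leaf)) 83393 6
 (Tr.node (Tr.node (Tr.node Tr.leaf 83395 6
 Tr.leaf) 83405 6
 Tr.leaf) 83407 6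
 (Tr.node Tr.leaf 83413 6
 Tr.leaf))) 83415 6
 (Tr.node (Tr.node (Tr.node (Tr.node Tr.leaf 83417 5
 Tr.leaf) 83419 5
 Tr.leaf) 83425 4
 (Tr.node (Tr.node Tr.leaf 83427 6
 Tr.leaf) 83437 6
 Tr.leaf)) 83439 6
 (Tr.node (Tr.node (Tr.node Tr.leaf 83445 6
 Tr.leaf) 83447 6
 Tr.leaf) 83449 6
 (Tr.node Tr.leaf 83451 6
 Tr.leaf)))) 83969 5
 (Tr.node (Tr.node (Tr.node (Tr.node (Tr.node Tr.leaf 83970 7
 Tr.leaf) 83973 4
 Tr.leaf) 83974 6
 (Tr.node (Tr.node Tr.leaf 83979 5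
 Tr.leaf) 83983 5
 Tr.leaf)) 83987 6
 (Tr.node (Tr.node (Tr.node Tr.leaf 83991 6
 Tr.leaf) 83993 6
 Tr.leaf) 83994 3
 (Tr.node Tr.leaf 83997 6
 Tr.leaf))) 83998 5
 (Tr.node (Tr.node (Tr.node (Tr.node Tr.leaf 84001 4
 Tr.leaf) 84002 6
 Tr.leaf) 84005 4
 (Tr.node Tr.leaf 84006 6
 Tr.leaf)) 84011 4
 (Tr.node (Tr.node (Tr.node Tr.leaf 84015 6
 Tr.leaf) 84019 6
 Tr.leaf) 84023 5
 (Tr.node Tr.leaf 84025 6
 Tr.leaf)))))) 84026 5
 (Tr.node (Tr.node (Tr.node (Tr.node (Tr.node (Tr.node (Tr.node Tr.leaf 84029 6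
 Tr.leaf) 84030 6
 Tr.leaf) 84035 6
 (Tr.node (Tr.node Tr.leaf 84039 5
 Tr.leaf) 84041 7
 Tr.leaf)) 84042 6
 (Tr.node (Tr.node (Tr.node Tr.leaf 84045 4
 Tr.leaf) 84046 7
 Tr.leaf) 84049 6
 (Tr.node Tr.leaf 84050 5
 Tr.leaf))) 84053 6
 (Tr.node (Tr.node (Tr.node (Tr.node Tr.leaf 84054 6
 Tr.leaf) 84059 6
 Tr.leaf) 84063 6
 (Tr.node (Tr.node Tr.leaf 84067 4
 Tr.leaf) 84071 5
 Tr.leaf)) 84073 6
 (Tr.node (Tr.node (Tr.node Tr.leaf 84074 6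
 Tr.leaf) 84077 5
 Tr.leaf) 84078 6
 (Tr.node Tr.leaf 84081 6
 Tr.leaf)))) 84082 6
 (Tr.node (Tr.node (Tr.node (Tr.node (Tr.node Tr.leaf 84085 6
 Tr.leaf) 84086 3
 Tr.leaf) 84091 6
 (Tr.node (Tr.node Tr.leaf 84095 6
 Tr.leaf) 84097 4
 Tr.leaf)) 84098 6
 (Tr.node (Tr.node (Tr.node Tr.leaf 84101 4
 Tr.leaf) 84102 6
 Tr.leaf) 84107 7
 (Tr.node Tr.leaf 84111 6
 Tr.leaf))) 84115 4
 (Tr.node (Tr.node (Tr.node (Tr.node Tr.leaf 84119 7
 Tr.leaf) 84121 6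
 Tr.leaf) 84122 6
 (Tr.node Tr.leaf 84125 6
 Tr.leaf)) 84126 6
 (Tr.node (Tr.node (Tr.node Tr.leaf 84129 4
 Tr.leaf) 84130 6
 Tr.leaf) 84133 4
 (Tr.node Tr.leaf 84134 7
 Tr.leaf))))) 84139 3
 (Tr.node (Tr.node (Tr.node (Tr.node (Tr.node (Tr.node Tr.leaf 84143 5
 Tr.leaf) 84147 4
 Tr.leaf) 84151 5
 (Tr.node (Tr.node Tr.leaf 84153 4
 Tr.leaf) 84154 3
 Tr.leaf)) 84157 6
 (Tr.node (Tr.node (Tr.node Tr.leaf 84158 4
 Tr.leaf) 84163 6
 Tr.leaf) 84167 6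
 (Tr.node Tr.leaf 84169 5
 Tr.leaf))) 84170 6
 (Tr.node (Tr.node (Tr.node (Tr.node Tr.leaf 84173 5
 Tr.leaf) 84174 6
 Tr.leaf) 84177 6
 (Tr.node Tr.leaf 84178 4
 Tr.leaf)) 84181 6
 (Tr.node (Tr.node (Tr.node Tr.leaf 84182 6
 Tr.leaf) 84187 6
 Tr.leaf) 84191 5
 (Tr.node Tr.leaf 84195 5
 Tr.leaf)))) 84199 6
 (Tr.node (Tr.node (Tr.node (Tr.node (Tr.node Tr.leaf 84201 6
 Tr.leaf) 84202 6
 Tr.leaf) 84205 6
 (Tr.node (Tr.node Tr.leaf 84206 6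
 Tr.leaf) 84209 6
 Tr.leaf)) 84210 6
 (Tr.node (Tr.node (Tr.node Tr.leaf 84213 6
 Tr.leaf) 84214 4
 Tr.leaf) 84219 6
 (Tr.node Tr.leaf 84223 6
 Tr.leaf))) 84227 6
 (Tr.node (Tr.node (Tr.node (Tr.node Tr.leaf 84231 4
 Tr.leaf) 84233 6
 Tr.leaf) 84234 6
 (Tr.node Tr.leaf 84237 4
 Tr.leaf)) 84238 3
 (Tr.node (Tr.node (Tr.node Tr.leaf 84241 6
 Tr.leaf) 84242 6
 Tr.leaf) 84245 5
 (Tr.node Tr.leaf 84246 6
 Tr.leaf))))))) 84251 7
 (Tr.node (Tr.node (Tr.node (Tr.node (Tr.node (Tr.node (Tr.node (Tr.node Tr.leaf 84255 6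
 Tr.leaf) 84259 6
 Tr.leaf) 84263 5
 (Tr.node (Tr.node Tr.leaf 84265 6
 Tr.leaf) 84266 6
 Tr.leaf)) 84269 6
 (Tr.node (Tr.node (Tr.node Tr.leaf 84270 5
 Tr.leaf) 84273 6
 Tr.leaf) 84274 6
 (Tr.node Tr.leaf 84277 6
 Tr.leaf))) 84278 6
 (Tr.node (Tr.node (Tr.node (Tr.node Tr.leaf 84283 6
 Tr.leaf) 84287 6
 Tr.leaf) 84289 6
 (Tr.node (Tr.node Tr.leaf 84290 5
 Tr.leaf) 84293 4
 Tr.leaf)) 84294 6
 (Tr.node (Tr.node (Tr.node Tr.leaf 84299 6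
 Tr.leaf) 84303 5
 Tr.leaf) 84307 6
 (Tr.node Tr.leaf 84311 6
 Tr.leaf)))) 84313 5
 (Tr.node (Tr.node (Tr.node (Tr.node (Tr.node Tr.leaf 84314 6
 Tr.leaf) 84317 6
 Tr.leaf) 84318 6
 (Tr.node (Tr.node Tr.leaf 84321 4
 Tr.leaf) 84322 6
 Tr.leaf)) 84325 6
 (Tr.node (Tr.node (Tr.node Tr.leaf 84326 3
 Tr.leaf) 84331 6
 Tr.leaf) 84335 6
 (Tr.node Tr.leaf 84339 6
 Tr.leaf))) 84343 6
 (Tr.node (Tr.node (Tr.node (Tr.node Tr.leaf 84345 5
 Tr.leaf) 84346 5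
 Tr.leaf) 84349 5
 (Tr.node Tr.leaf 84350 6
 Tr.leaf)) 84355 4
 (Tr.node (Tr.node (Tr.node Tr.leaf 84359 4
 Tr.leaf) 84361 6
 Tr.leaf) 84362 5
 (Tr.node Tr.leaf 84365 5
 Tr.leaf))))) 84366 6
 (Tr.node (Tr.node (Tr.node (Tr.node (Tr.node (Tr.node Tr.leaf 84369 6
 Tr.leaf) 84370 6
 Tr.leaf) 84373 5
 (Tr.node (Tr.node Tr.leaf 84374 6
 Tr.leaf) 84379 6
 Tr.leaf)) 84383 7
 (Tr.node (Tr.node (Tr.node Tr.leaf 84387 5
 Tr.leaf) 84391 6
 Tr.leaf) 84393 5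
 (Tr.node Tr.leaf 84394 3
 Tr.leaf))) 84397 6
 (Tr.node (Tr.node (Tr.node (Tr.node Tr.leaf 84398 6
 Tr.leaf) 84401 6
 Tr.leaf) 84402 6
 (Tr.node Tr.leaf 84405 6
 Tr.leaf)) 84406 6
 (Tr.node (Tr.node (Tr.node Tr.leaf 84411 6
 Tr.leaf) 84415 6
 Tr.leaf) 84417 5
 (Tr.node Tr.leaf 84418 4
 Tr.leaf)))) 84421 6
 (Tr.node (Tr.node (Tr.node (Tr.node (Tr.node Tr.leaf 84422 6
 Tr.leaf) 84427 6
 Tr.leaf) 84431 6
 (Tr.node (Tr.node Tr.leaf 84435 6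
 Tr.leaf) 84439 6
 Tr.leaf)) 84441 6
 (Tr.node (Tr.node (Tr.node Tr.leaf 84442 6
 Tr.leaf) 84445 6
 Tr.leaf) 84446 6
 (Tr.node Tr.leaf 84449 6
 Tr.leaf))) 84450 6
 (Tr.node (Tr.node (Tr.node (Tr.node Tr.leaf 84453 4
 Tr.leaf) 84454 6
 Tr.leaf) 84459 7
 (Tr.node Tr.leaf 84463 6
 Tr.leaf)) 84467 5
 (Tr.node (Tr.node (Tr.node Tr.leaf 84471 6
 Tr.leaf) 84473 6
 Tr.leaf) 84474 6
 (Tr.node Tr.leaf 84477 6
 Tr.leaf)))))) 84478 6
 (Tr.node (Tr.node (Tr.node (Tr.node (Tr.node (Tr.node (Tr.node Tr.leaf 85001 6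
 Tr.leaf) 85003 6
 Tr.leaf) 85005 5
 (Tr.node (Tr.node Tr.leaf 85007 6
 Tr.leaf) 85009 7
 Tr.leaf)) 85011 6
 (Tr.node (Tr.node (Tr.node Tr.leaf 85013 6
 Tr.leaf) 85015 6
 Tr.leaf) 85033 5
 (Tr.node Tr.leaf 85035 5
 Tr.leaf))) 85037 5
 (Tr.node (Tr.node (Tr.node (Tr.node Tr.leaf 85039 6
 Tr.leaf) 85041 7
 Tr.leaf) 85043 5
 (Tr.node (Tr.node Tr.leaf 85045 6
 Tr.leaf) 85047 5
 Tr.leaf)) 85057 6
 (Tr.node (Tr.node (Tr.node Tr.leaf 85059 5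
 Tr.leaf) 85061 6
 Tr.leaf) 85063 6
 (Tr.node Tr.leaf 85081 6
 Tr.leaf)))) 85083 6
 (Tr.node (Tr.node (Tr.node (Tr.node (Tr.node Tr.leaf 85085 6
 Tr.leaf) 85087 6
 Tr.leaf) 85089 6
 (Tr.node (Tr.node Tr.leaf 85091 6
 Tr.leaf) 85093 5
 Tr.leaf)) 85095 6
 (Tr.node (Tr.node (Tr.node Tr.leaf 85113 6
 Tr.leaf) 85115 6
 Tr.leaf) 85117 6
 (Tr.node Tr.leaf 85119 6
 Tr.leaf))) 85129 6
 (Tr.node (Tr.node (Tr.node (Tr.node Tr.leaf 85131 5
 Tr.leaf) 85133 6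
 Tr.leaf) 85135 6
 (Tr.node Tr.leaf 85137 4
 Tr.leaf)) 85139 5
 (Tr.node (Tr.node (Tr.node Tr.leaf 85141 5
 Tr.leaf) 85143 6
 Tr.leaf) 85161 6
 (Tr.node Tr.leaf 85163 4
 Tr.leaf))))) 85165 7
 (Tr.node (Tr.node (Tr.node (Tr.node (Tr.node (Tr.node Tr.leaf 85167 7
 Tr.leaf) 85169 6
 Tr.leaf) 85171 5
 (Tr.node (Tr.node Tr.leaf 85173 6
 Tr.leaf) 85175 6
 Tr.leaf)) 85185 5
 (Tr.node (Tr.node (Tr.node Tr.leaf 85187 5
 Tr.leaf) 85189 5
 Tr.leaf) 85191 6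
 (Tr.node Tr.leaf 85209 6
 Tr.leaf))) 85211 6
 (Tr.node (Tr.node (Tr.node (Tr.node Tr.leaf 85213 6
 Tr.leaf) 85215 6
 Tr.leaf) 85217 6
 (Tr.node Tr.leaf 85219 7
 Tr.leaf)) 85221 4
 (Tr.node (Tr.node (Tr.node Tr.leaf 85223 7
 Tr.leaf) 85241 6
 Tr.leaf) 85243 5
 (Tr.node Tr.leaf 85245 7
 Tr.leaf)))) 85247 6
 (Tr.node (Tr.node (Tr.node (Tr.node (Tr.node Tr.leaf 85249 7
 Tr.leaf) 85251 6
 Tr.leaf) 85253 6
 (Tr.node (Tr.node Tr.leaf 85255 6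
 Tr.leaf) 85273 6
 Tr.leaf)) 85275 6
 (Tr.node (Tr.node (Tr.node Tr.leaf 85277 6
 Tr.leaf) 85279 6
 Tr.leaf) 85281 4
 (Tr.node Tr.leaf 85283 5
 Tr.leaf))) 85285 5
 (Tr.node (Tr.node (Tr.node (Tr.node Tr.leaf 85287 6
 Tr.leaf) 85305 5
 Tr.leaf) 85307 6
 (Tr.node Tr.leaf 85309 6
 Tr.leaf)) 85311 6
 (Tr.node (Tr.node (Tr.node Tr.leaf 85321 6
 Tr.leaf) 85323 6
 Tr.leaf) 85325 6
 (Tr.node Tr.leaf 85327 6
 Tr.leaf)))))))))

/-- A subtree. -/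
def tr2_s21 : Tr := (Tr.node (Tr.node (Tr.node (Tr.node (Tr.node (Tr.node (Tr.node (Tr.node (Tr.node (Tr.node Tr.leaf 85331 6
 Tr.leaf) 85333 6
 Tr.leaf) 85335 6
 (Tr.node (Tr.node Tr.leaf 85353 6
 Tr.leaf) 85355 6
 Tr.leaf)) 85357 6
 (Tr.node (Tr.node (Tr.node Tr.leaf 85359 6
 Tr.leaf) 85361 7
 Tr.leaf) 85363 6
 (Tr.node Tr.leaf 85365 6
 Tr.leaf))) 85367 6
 (Tr.node (Tr.node (Tr.node (Tr.node Tr.leaf 85377 7
 Tr.leaf) 85379 6
 Tr.leaf) 85381 5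
 (Tr.node (Tr.node Tr.leaf 85383 5
 Tr.leaf) 85401 7
 Tr.leaf)) 85403 6
 (Tr.node (Tr.node (Tr.node Tr.leaf 85405 6
 Tr.leaf) 85407 6
 Tr.leaf) 85409 6
 (Tr.node Tr.leaf 85411 6
 Tr.leaf)))) 85413 5
 (Tr.node (Tr.node (Tr.node (Tr.node (Tr.node Tr.leaf 85415 6
 Tr.leaf) 85433 6
 Tr.leaf) 85435 6
 (Tr.node (Tr.node Tr.leaf 85437 6
 Tr.leaf) 85439 6
 Tr.leaf)) 85449 6
 (Tr.node (Tr.node (Tr.node Tr.leaf 85451 6
 Tr.leaf) 85453 6
 Tr.leaf) 85455 6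
 (Tr.node Tr.leaf 85457 5
 Tr.leaf))) 85459 6
 (Tr.node (Tr.node (Tr.node (Tr.node Tr.leaf 85461 6
 Tr.leaf) 85463 6
 Tr.leaf) 85481 6
 (Tr.node Tr.leaf 85483 7
 Tr.leaf)) 85485 5
 (Tr.node (Tr.node (Tr.node Tr.leaf 85487 6
 Tr.leaf) 85489 6
 Tr.leaf) 85491 6
 (Tr.node Tr.leaf 85493 6
 Tr.leaf))))) 85495 6
 (Tr.node (Tr.node (Tr.node (Tr.node (Tr.node (Tr.node Tr.leaf 86017 5
 Tr.leaf) 86018 5
 Tr.leaf) 86020 5
 (Tr.node (Tr.node Tr.leaf 86023 6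
 Tr.leaf) 86025 4
 Tr.leaf)) 86026 4
 (Tr.node (Tr.node (Tr.node Tr.leaf 86028 4
 Tr.leaf) 86031 6
 Tr.leaf) 86035 5
 (Tr.node Tr.leaf 86037 6
 Tr.leaf))) 86038 6
 (Tr.node (Tr.node (Tr.node (Tr.node Tr.leaf 86043 6
 Tr.leaf) 86045 5
 Tr.leaf) 86046 6
 (Tr.node (Tr.node Tr.leaf 86049 4
 Tr.leaf) 86050 3
 Tr.leaf)) 86052 5
 (Tr.node (Tr.node (Tr.node Tr.leaf 86055 5
 Tr.leaf) 86057 4
 Tr.leaf) 86058 5
 (Tr.node Tr.leaf 86060 4
 Tr.leaf)))) 86063 5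
 (Tr.node (Tr.node (Tr.node (Tr.node (Tr.node Tr.leaf 86067 6
 Tr.leaf) 86069 4
 Tr.leaf) 86070 5
 (Tr.node (Tr.node Tr.leaf 86075 5
 Tr.leaf) 86077 6
 Tr.leaf)) 86078 6
 (Tr.node (Tr.node (Tr.node Tr.leaf 86083 6
 Tr.leaf) 86085 6
 Tr.leaf) 86086 6
 (Tr.node Tr.leaf 86091 5
 Tr.leaf))) 86093 3
 (Tr.node (Tr.node (Tr.node (Tr.node Tr.leaf 86094 6
 Tr.leaf) 86097 6
 Tr.leaf) 86098 6
 (Tr.node Tr.leaf 86100 6
 Tr.leaf)) 86103 6
 (Tr.node (Tr.node (Tr.node Tr.leaf 86105 6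
 Tr.leaf) 86106 6
 Tr.leaf) 86108 4
 (Tr.node Tr.leaf 86111 6
 Tr.leaf)))))) 86115 6
 (Tr.node (Tr.node (Tr.node (Tr.node (Tr.node (Tr.node (Tr.node Tr.leaf 86117 6
 Tr.leaf) 86118 6
 Tr.leaf) 86123 5
 (Tr.node (Tr.node Tr.leaf 86125 7
 Tr.leaf) 86126 6
 Tr.leaf)) 86129 5
 (Tr.node (Tr.node (Tr.node Tr.leaf 86130 6
 Tr.leaf) 86132 6
 Tr.leaf) 86135 6
 (Tr.node Tr.leaf 86137 4
 Tr.leaf))) 86138 3
 (Tr.node (Tr.node (Tr.node (Tr.node Tr.leaf 86140 5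
 Tr.leaf) 86143 6
 Tr.leaf) 86145 4
 (Tr.node (Tr.node Tr.leaf 86146 4
 Tr.leaf) 86148 4
 Tr.leaf)) 86151 5
 (Tr.node (Tr.node (Tr.node Tr.leaf 86153 4
 Tr.leaf) 86154 5
 Tr.leaf) 86156 4
 (Tr.node Tr.leaf 86159 6
 Tr.leaf)))) 86163 6
 (Tr.node (Tr.node (Tr.node (Tr.node (Tr.node Tr.leaf 86165 6
 Tr.leaf) 86166 4
 Tr.leaf) 86171 4
 (Tr.node (Tr.node Tr.leaf 86173 6
 Tr.leaf) 86174 6
 Tr.leaf)) 86177 4
 (Tr.node (Tr.node (Tr.node Tr.leaf 86178 4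
 Tr.leaf) 86180 4
 Tr.leaf) 86183 4
 (Tr.node Tr.leaf 86185 4
 Tr.leaf))) 86186 4
 (Tr.node (Tr.node (Tr.node (Tr.node Tr.leaf 86188 4
 Tr.leaf) 86191 7
 Tr.leaf) 86195 4
 (Tr.node Tr.leaf 86197 5
 Tr.leaf)) 86198 6
 (Tr.node (Tr.node (Tr.node Tr.leaf 86203 6
 Tr.leaf) 86205 6
 Tr.leaf) 86206 6
 (Tr.node Tr.leaf 86211 4
 Tr.leaf))))) 86213 6
 (Tr.node (Tr.node (Tr.node (Tr.node (Tr.node (Tr.node Tr.leaf 86214 6
 Tr.leaf) 86219 4
 Tr.leaf) 86221 4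
 (Tr.node (Tr.node Tr.leaf 86222 6
 Tr.leaf) 86225 5
 Tr.leaf)) 86226 3
 (Tr.node (Tr.node (Tr.node Tr.leaf 86228 4
 Tr.leaf) 86231 6
 Tr.leaf) 86233 6
 (Tr.node Tr.leaf 86234 6
 Tr.leaf))) 86236 6
 (Tr.node (Tr.node (Tr.node (Tr.node Tr.leaf 86239 6
 Tr.leaf) 86243 4
 Tr.leaf) 86245 5
 (Tr.node Tr.leaf 86246 6
 Tr.leaf)) 86251 6
 (Tr.node (Tr.node (Tr.node Tr.leaf 86253 5
 Tr.leaf) 86254 6
 Tr.leaf) 86257 4
 (Tr.node Tr.leaf 86258 6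
 Tr.leaf)))) 86260 4
 (Tr.node (Tr.node (Tr.node (Tr.node (Tr.node Tr.leaf 86263 5
 Tr.leaf) 86265 6
 Tr.leaf) 86266 5
 (Tr.node (Tr.node Tr.leaf 86268 6
 Tr.leaf) 86271 6
 Tr.leaf)) 86275 6
 (Tr.node (Tr.node (Tr.node Tr.leaf 86277 6
 Tr.leaf) 86278 6
 Tr.leaf) 86283 6
 (Tr.node Tr.leaf 86285 4
 Tr.leaf))) 86286 6
 (Tr.node (Tr.node (Tr.node (Tr.node Tr.leaf 86289 6
 Tr.leaf) 86290 4
 Tr.leaf) 86292 6
 (Tr.node Tr.leaf 86295 6
 Tr.leaf)) 86297 6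
 (Tr.node (Tr.node (Tr.node Tr.leaf 86298 6
 Tr.leaf) 86300 4
 Tr.leaf) 86303 6
 (Tr.node Tr.leaf 86307 6
 Tr.leaf))))))) 86309 6
 (Tr.node (Tr.node (Tr.node (Tr.node (Tr.node (Tr.node (Tr.node (Tr.node Tr.leaf 86310 6
 Tr.leaf) 86315 6
 Tr.leaf) 86317 6
 (Tr.node (Tr.node Tr.leaf 86318 6
 Tr.leaf) 86321 5
 Tr.leaf)) 86322 6
 (Tr.node (Tr.node (Tr.node Tr.leaf 86324 6
 Tr.leaf) 86327 6
 Tr.leaf) 86329 6
 (Tr.node Tr.leaf 86330 6
 Tr.leaf))) 86332 5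
 (Tr.node (Tr.node (Tr.node (Tr.node Tr.leaf 86335 6
 Tr.leaf) 86337 6
 Tr.leaf) 86338 5
 (Tr.node (Tr.node Tr.leaf 86340 3
 Tr.leaf) 86343 6
 Tr.leaf)) 86345 4
 (Tr.node (Tr.node (Tr.node Tr.leaf 86346 6
 Tr.leaf) 86348 3
 Tr.leaf) 86351 6
 (Tr.node Tr.leaf 86355 6
 Tr.leaf)))) 86357 5
 (Tr.node (Tr.node (Tr.node (Tr.node (Tr.node Tr.leaf 86358 6
 Tr.leaf) 86363 6
 Tr.leaf) 86365 6
 (Tr.node (Tr.node Tr.leaf 86366 6
 Tr.leaf) 86369 7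
 Tr.leaf)) 86370 6
 (Tr.node (Tr.node (Tr.node Tr.leaf 86372 6
 Tr.leaf) 86375 5
 Tr.leaf) 86377 5
 (Tr.node Tr.leaf 86378 3
 Tr.leaf))) 86380 6
 (Tr.node (Tr.node (Tr.node (Tr.node Tr.leaf 86383 6
 Tr.leaf) 86387 6
 Tr.leaf) 86389 6
 (Tr.node Tr.leaf 86390 6
 Tr.leaf)) 86395 6
 (Tr.node (Tr.node (Tr.node Tr.leaf 86397 6
 Tr.leaf) 86398 6
 Tr.leaf) 86403 6
 (Tr.node Tr.leaf 86405 6
 Tr.leaf))))) 86406 6
 (Tr.node (Tr.node (Tr.node (Tr.node (Tr.node (Tr.node Tr.leaf 86411 6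
 Tr.leaf) 86413 6
 Tr.leaf) 86414 6
 (Tr.node (Tr.node Tr.leaf 86417 6
 Tr.leaf) 86418 6
 Tr.leaf)) 86420 6
 (Tr.node (Tr.node (Tr.node Tr.leaf 86423 5
 Tr.leaf) 86425 6
 Tr.leaf) 86426 5
 (Tr.node Tr.leaf 86428 5
 Tr.leaf))) 86431 5
 (Tr.node (Tr.node (Tr.node (Tr.node Tr.leaf 86435 6
 Tr.leaf) 86437 7
 Tr.leaf) 86438 6
 (Tr.node Tr.leaf 86443 6
 Tr.leaf)) 86445 6
 (Tr.node (Tr.node (Tr.node Tr.leaf 86446 6
 Tr.leaf) 86449 4
 Tr.leaf) 86450 5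
 (Tr.node Tr.leaf 86452 6
 Tr.leaf)))) 86455 6
 (Tr.node (Tr.node (Tr.node (Tr.node (Tr.node Tr.leaf 86457 6
 Tr.leaf) 86458 6
 Tr.leaf) 86460 4
 (Tr.node (Tr.node Tr.leaf 86463 5
 Tr.leaf) 86465 5
 Tr.leaf)) 86466 3
 (Tr.node (Tr.node (Tr.node Tr.leaf 86468 6
 Tr.leaf) 86471 6
 Tr.leaf) 86473 6
 (Tr.node Tr.leaf 86474 6
 Tr.leaf))) 86476 5
 (Tr.node (Tr.node (Tr.node (Tr.node Tr.leaf 86479 6
 Tr.leaf) 86483 6
 Tr.leaf) 86485 6
 (Tr.node Tr.leaf 86486 6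
 Tr.leaf)) 86491 6
 (Tr.node (Tr.node (Tr.node Tr.leaf 86493 7
 Tr.leaf) 86494 5
 Tr.leaf) 86497 6
 (Tr.node Tr.leaf 86498 6
 Tr.leaf)))))) 86500 5
 (Tr.node (Tr.node (Tr.node (Tr.node (Tr.node (Tr.node (Tr.node Tr.leaf 86503 6
 Tr.leaf) 86505 5
 Tr.leaf) 86506 6
 (Tr.node (Tr.node Tr.leaf 86508 3
 Tr.leaf) 86511 6
 Tr.leaf)) 86515 6
 (Tr.node (Tr.node (Tr.node Tr.leaf 86517 6
 Tr.leaf) 86518 5
 Tr.leaf) 86523 6
 (Tr.node Tr.leaf 86525 6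
 Tr.leaf))) 86526 5
 (Tr.node (Tr.node (Tr.node (Tr.node Tr.leaf 87045 6
 Tr.leaf) 87047 6
 Tr.leaf) 87053 7
 (Tr.node (Tr.node Tr.leaf 87055 5
 Tr.leaf) 87057 6
 Tr.leaf)) 87059 6
 (Tr.node (Tr.node (Tr.node Tr.leaf 87065 5
 Tr.leaf) 87067 7
 Tr.leaf) 87077 4
 (Tr.node Tr.leaf 87079 5
 Tr.leaf)))) 87085 6
 (Tr.node (Tr.node (Tr.node (Tr.node (Tr.node Tr.leaf 87087 6
 Tr.leaf) 87089 4
 Tr.leaf) 87091 5
 (Tr.node (Tr.node Tr.leaf 87097 7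
 Tr.leaf) 87099 4
 Tr.leaf)) 87105 5
 (Tr.node (Tr.node (Tr.node Tr.leaf 87107 6
 Tr.leaf) 87113 6
 Tr.leaf) 87115 4
 (Tr.node Tr.leaf 87125 6
 Tr.leaf))) 87127 6
 (Tr.node (Tr.node (Tr.node (Tr.node Tr.leaf 87133 6
 Tr.leaf) 87135 6
 Tr.leaf) 87137 6
 (Tr.node Tr.leaf 87139 4
 Tr.leaf)) 87145 6
 (Tr.node (Tr.node (Tr.node Tr.leaf 87147 4
 Tr.leaf) 87157 6
 Tr.leaf) 87159 6
 (Tr.node Tr.leaf 87165 6
 Tr.leaf))))) 87167 6
 (Tr.node (Tr.node (Tr.node (Tr.node (Tr.node (Tr.node Tr.leaf 87173 6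
 Tr.leaf) 87175 6
 Tr.leaf) 87181 6
 (Tr.node (Tr.node Tr.leaf 87183 6
 Tr.leaf) 87185 6
 Tr.leaf)) 87187 6
 (Tr.node (Tr.node (Tr.node Tr.leaf 87193 5
 Tr.leaf) 87195 6
 Tr.leaf) 87205 4
 (Tr.node Tr.leaf 87207 6
 Tr.leaf))) 87213 6
 (Tr.node (Tr.node (Tr.node (Tr.node Tr.leaf 87215 5
 Tr.leaf) 87217 6
 Tr.leaf) 87219 6
 (Tr.node Tr.leaf 87225 5
 Tr.leaf)) 87227 6
 (Tr.node (Tr.node (Tr.node Tr.leaf 87233 6
 Tr.leaf) 87235 6
 Tr.leaf) 87241 5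
 (Tr.node Tr.leaf 87243 6
 Tr.leaf)))) 87253 6
 (Tr.node (Tr.node (Tr.node (Tr.node (Tr.node Tr.leaf 87255 6
 Tr.leaf) 87261 6
 Tr.leaf) 87263 6
 (Tr.node (Tr.node Tr.leaf 87265 6
 Tr.leaf) 87267 6
 Tr.leaf)) 87273 6
 (Tr.node (Tr.node (Tr.node Tr.leaf 87275 5
 Tr.leaf) 87285 6
 Tr.leaf) 87287 6
 (Tr.node Tr.leaf 87293 6
 Tr.leaf))) 87295 6
 (Tr.node (Tr.node (Tr.node (Tr.node Tr.leaf 87297 6
 Tr.leaf) 87299 6
 Tr.leaf) 87305 6
 (Tr.node Tr.leaf 87307 6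
 Tr.leaf)) 87317 6
 (Tr.node (Tr.node (Tr.node Tr.leaf 87319 5
 Tr.leaf) 87325 6
 Tr.leaf) 87327 6
 (Tr.node Tr.leaf 87329 5
 Tr.leaf)))))))) 87331 5
 (Tr.node (Tr.node (Tr.node (Tr.node (Tr.node (Tr.node (Tr.node (Tr.node (Tr.node Tr.leaf 87337 6
 Tr.leaf) 87339 5
 Tr.leaf) 87349 6
 (Tr.node (Tr.node Tr.leaf 87351 6
 Tr.leaf) 87357 6
 Tr.leaf)) 87359 6
 (Tr.node (Tr.node (Tr.node Tr.leaf 87365 6
 Tr.leaf) 87367 5
 Tr.leaf) 87373 6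
 (Tr.node Tr.leaf 87375 6
 Tr.leaf))) 87377 6
 (Tr.node (Tr.node (Tr.node (Tr.node Tr.leaf 87379 6
 Tr.leaf) 87385 5
 Tr.leaf) 87387 5
 (Tr.node (Tr.node Tr.leaf 87397 6
 Tr.leaf) 87399 5
 Tr.leaf)) 87405 6
 (Tr.node (Tr.node (Tr.node Tr.leaf 87407 6
 Tr.leaf) 87409 6
 Tr.leaf) 87411 6
 (Tr.node Tr.leaf 87417 6
 Tr.leaf)))) 87419 6
 (Tr.node (Tr.node (Tr.node (Tr.node (Tr.node Tr.leaf 87425 6
 Tr.leaf) 87427 6
 Tr.leaf) 87433 5
 (Tr.node (Tr.node Tr.leaf 87435 6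
 Tr.leaf) 87445 6
 Tr.leaf)) 87447 6
 (Tr.node (Tr.node (Tr.node Tr.leaf 87453 5
 Tr.leaf) 87455 5
 Tr.leaf) 87457 6
 (Tr.node Tr.leaf 87459 6
 Tr.leaf))) 87465 6
 (Tr.node (Tr.node (Tr.node (Tr.node Tr.leaf 87467 5
 Tr.leaf) 87477 5
 Tr.leaf) 87479 6
 (Tr.node Tr.leaf 87485 6
 Tr.leaf)) 87487 6
 (Tr.node (Tr.node (Tr.node Tr.leaf 87493 6
 Tr.leaf) 87495 6
 Tr.leaf) 87501 5
 (Tr.node Tr.leaf 87503 6
 Tr.leaf))))) 87505 5
 (Tr.node (Tr.node (Tr.node (Tr.node (Tr.node (Tr.node Tr.leaf 87507 6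
 Tr.leaf) 87513 5
 Tr.leaf) 87515 6
 (Tr.node (Tr.node Tr.leaf 87525 6
 Tr.leaf) 87527 5
 Tr.leaf)) 87533 6
 (Tr.node (Tr.node (Tr.node Tr.leaf 87535 6
 Tr.leaf) 87537 6
 Tr.leaf) 87539 6
 (Tr.node Tr.leaf 87545 6
 Tr.leaf))) 87547 6
 (Tr.node (Tr.node (Tr.node (Tr.node Tr.leaf 88067 7
 Tr.leaf) 88071 5
 Tr.leaf) 88075 6
 (Tr.node Tr.leaf 88079 6
 Tr.leaf)) 88081 6
 (Tr.node (Tr.node (Tr.node Tr.leaf 88082 6
 Tr.leaf) 88085 4
 Tr.leaf) 88086 6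
 (Tr.node Tr.leaf 88089 6
 Tr.leaf)))) 88090 6
 (Tr.node (Tr.node (Tr.node (Tr.node (Tr.node Tr.leaf 88093 6
 Tr.leaf) 88094 5
 Tr.leaf) 88099 6
 (Tr.node (Tr.node Tr.leaf 88103 6
 Tr.leaf) 88107 6
 Tr.leaf)) 88111 4
 (Tr.node (Tr.node (Tr.node Tr.leaf 88113 6
 Tr.leaf) 88114 6
 Tr.leaf) 88117 7
 (Tr.node Tr.leaf 88118 6
 Tr.leaf))) 88121 6
 (Tr.node (Tr.node (Tr.node (Tr.node Tr.leaf 88122 4
 Tr.leaf) 88125 4
 Tr.leaf) 88126 3
 (Tr.node Tr.leaf 88129 6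
 Tr.leaf)) 88130 6
 (Tr.node (Tr.node (Tr.node Tr.leaf 88133 7
 Tr.leaf) 88134 5
 Tr.leaf) 88137 5
 (Tr.node Tr.leaf 88138 5
 Tr.leaf)))))) 88141 6
 (Tr.node (Tr.node (Tr.node (Tr.node (Tr.node (Tr.node (Tr.node Tr.leaf 88142 6
 Tr.leaf) 88147 6
 Tr.leaf) 88151 5
 (Tr.node (Tr.node Tr.leaf 88155 6
 Tr.leaf) 88159 6
 Tr.leaf)) 88161 7
 (Tr.node (Tr.node (Tr.node Tr.leaf 88162 6
 Tr.leaf) 88165 4
 Tr.leaf) 88166 6
 (Tr.node Tr.leaf 88169 4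
 Tr.leaf))) 88170 6
 (Tr.node (Tr.node (Tr.node (Tr.node Tr.leaf 88173 5
 Tr.leaf) 88174 7
 Tr.leaf) 88179 6
 (Tr.node (Tr.node Tr.leaf 88183 6
 Tr.leaf) 88187 5
 Tr.leaf)) 88191 6
 (Tr.node (Tr.node (Tr.node Tr.leaf 88195 6
 Tr.leaf) 88199 5
 Tr.leaf) 88203 4
 (Tr.node Tr.leaf 88207 6
 Tr.leaf)))) 88209 6
 (Tr.node (Tr.node (Tr.node (Tr.node (Tr.node Tr.leaf 88210 4
 Tr.leaf) 88213 6
 Tr.leaf) 88214 5
 (Tr.node (Tr.node Tr.leaf 88217 4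
 Tr.leaf) 88218 6
 Tr.leaf)) 88221 5
 (Tr.node (Tr.node (Tr.node Tr.leaf 88222 6
 Tr.leaf) 88227 6
 Tr.leaf) 88231 6
 (Tr.node Tr.leaf 88235 5
 Tr.leaf))) 88239 6
 (Tr.node (Tr.node (Tr.node (Tr.node Tr.leaf 88241 6
 Tr.leaf) 88242 6
 Tr.leaf) 88245 6
 (Tr.node Tr.leaf 88246 6
 Tr.leaf)) 88249 6
 (Tr.node (Tr.node (Tr.node Tr.leaf 88250 6
 Tr.leaf) 88253 6
 Tr.leaf) 88254 6
 (Tr.node Tr.leaf 88257 4
 Tr.leaf))))) 88258 7
 (Tr.node (Tr.node (Tr.node (Tr.node (Tr.node (Tr.node Tr.leaf 88261 6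
 Tr.leaf) 88262 6
 Tr.leaf) 88265 5
 (Tr.node (Tr.node Tr.leaf 88266 6
 Tr.leaf) 88269 6
 Tr.leaf)) 88270 6
 (Tr.node (Tr.node (Tr.node Tr.leaf 88275 6
 Tr.leaf) 88279 6
 Tr.leaf) 88283 5
 (Tr.node Tr.leaf 88287 6
 Tr.leaf))) 88289 6
 (Tr.node (Tr.node (Tr.node (Tr.node Tr.leaf 88290 6
 Tr.leaf) 88293 4
 Tr.leaf) 88294 5
 (Tr.node Tr.leaf 88297 6
 Tr.leaf)) 88298 5
 (Tr.node (Tr.node (Tr.node Tr.leaf 88301 6
 Tr.leaf) 88302 6
 Tr.leaf) 88307 6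
 (Tr.node Tr.leaf 88311 6
 Tr.leaf)))) 88315 6
 (Tr.node (Tr.node (Tr.node (Tr.node (Tr.node Tr.leaf 88319 6
 Tr.leaf) 88321 6
 Tr.leaf) 88322 6
 (Tr.node (Tr.node Tr.leaf 88325 6
 Tr.leaf) 88326 4
 Tr.leaf)) 88329 6
 (Tr.node (Tr.node (Tr.node Tr.leaf 88330 5
 Tr.leaf) 88333 6
 Tr.leaf) 88334 6
 (Tr.node Tr.leaf 88339 7
 Tr.leaf))) 88343 6
 (Tr.node (Tr.node (Tr.node (Tr.node Tr.leaf 88347 6
 Tr.leaf) 88351 6
 Tr.leaf) 88353 5
 (Tr.node Tr.leaf 88354 6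
 Tr.leaf)) 88357 6
 (Tr.node (Tr.node (Tr.node Tr.leaf 88358 5
 Tr.leaf) 88361 5
 Tr.leaf) 88362 6
 (Tr.node Tr.leaf 88365 6
 Tr.leaf))))))) 88366 3
 (Tr.node (Tr.node (Tr.node (Tr.node (Tr.node (Tr.node (Tr.node (Tr.node Tr.leaf 88371 5
 Tr.leaf) 88375 5
 Tr.leaf) 88379 5
 (Tr.node (Tr.node Tr.leaf 88383 6
 Tr.leaf) 88387 6
 Tr.leaf)) 88391 6
 (Tr.node (Tr.node (Tr.node Tr.leaf 88395 6
 Tr.leaf) 88399 6
 Tr.leaf) 88401 6
 (Tr.node Tr.leaf 88402 6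
 Tr.leaf))) 88405 6
 (Tr.node (Tr.node (Tr.node (Tr.node Tr.leaf 88406 5
 Tr.leaf) 88409 6
 Tr.leaf) 88410 5
 (Tr.node (Tr.node Tr.leaf 88413 6
 Tr.leaf) 88414 6
 Tr.leaf)) 88419 6
 (Tr.node (Tr.node (Tr.node Tr.leaf 88423 6
 Tr.leaf) 88427 6
 Tr.leaf) 88431 6
 (Tr.node Tr.leaf 88433 6
 Tr.leaf)))) 88434 5
 (Tr.node (Tr.node (Tr.node (Tr.node (Tr.node Tr.leaf 88437 6
 Tr.leaf) 88438 5
 Tr.leaf) 88441 6
 (Tr.node (Tr.node Tr.leaf 88442 5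
 Tr.leaf) 88445 6
 Tr.leaf)) 88446 6
 (Tr.node (Tr.node (Tr.node Tr.leaf 88449 5
 Tr.leaf) 88450 4
 Tr.leaf) 88453 6
 (Tr.node Tr.leaf 88454 6
 Tr.leaf))) 88457 6
 (Tr.node (Tr.node (Tr.node (Tr.node Tr.leaf 88458 4
 Tr.leaf) 88461 6
 Tr.leaf) 88462 6
 (Tr.node Tr.leaf 88467 6
 Tr.leaf)) 88471 6
 (Tr.node (Tr.node (Tr.node Tr.leaf 88475 6
 Tr.leaf) 88479 6
 Tr.leaf) 88481 6
 (Tr.node Tr.leaf 88482 4
 Tr.leaf))))) 88485 4
 (Tr.node (Tr.node (Tr.node (Tr.node (Tr.node (Tr.node Tr.leaf 88486 6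
 Tr.leaf) 88489 6
 Tr.leaf) 88490 6
 (Tr.node (Tr.node Tr.leaf 88493 6
 Tr.leaf) 88494 6
 Tr.leaf)) 88499 6
 (Tr.node (Tr.node (Tr.node Tr.leaf 88503 6
 Tr.leaf) 88507 6
 Tr.leaf) 88511 6
 (Tr.node Tr.leaf 88515 6
 Tr.leaf))) 88519 6
 (Tr.node (Tr.node (Tr.node (Tr.node Tr.leaf 88523 5
 Tr.leaf) 88527 7
 Tr.leaf) 88529 6
 (Tr.node Tr.leaf 88530 6
 Tr.leaf)) 88533 5
 (Tr.node (Tr.node (Tr.node Tr.leaf 88534 5
 Tr.leaf) 88537 5
 Tr.leaf) 88538 5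
 (Tr.node Tr.leaf 88541 5
 Tr.leaf)))) 88542 5
 (Tr.node (Tr.node (Tr.node (Tr.node (Tr.node Tr.leaf 88547 6
 Tr.leaf) 88551 5
 Tr.leaf) 88555 6
 (Tr.node (Tr.node Tr.leaf 88559 6
 Tr.leaf) 88561 6
 Tr.leaf)) 88562 6
 (Tr.node (Tr.node (Tr.node Tr.leaf 88565 6
 Tr.leaf) 88566 5
 Tr.leaf) 88569 6
 (Tr.node Tr.leaf 88570 6
 Tr.leaf))) 88573 7
 (Tr.node (Tr.node (Tr.node (Tr.node Tr.leaf 88574 6
 Tr.leaf) 89089 5
 Tr.leaf) 89091 5
 (Tr.node Tr.leaf 89093 4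
 Tr.leaf)) 89095 6
 (Tr.node (Tr.node (Tr.node Tr.leaf 89097 4
 Tr.leaf) 89099 4
 Tr.leaf) 89101 6
 (Tr.node Tr.leaf 89103 5
 Tr.leaf)))))) 89121 6
 (Tr.node (Tr.node (Tr.node (Tr.node (Tr.node (Tr.node (Tr.node Tr.leaf 89123 5
 Tr.leaf) 89125 6
 Tr.leaf) 89127 6
 (Tr.node (Tr.node Tr.leaf 89129 6
 Tr.leaf) 89131 5
 Tr.leaf)) 89133 6
 (Tr.node (Tr.node (Tr.node Tr.leaf 89135 4
 Tr.leaf) 89169 6
 Tr.leaf) 89171 6
 (Tr.node Tr.leaf 89173 6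
 Tr.leaf))) 89175 5
 (Tr.node (Tr.node (Tr.node (Tr.node Tr.leaf 89177 6
 Tr.leaf) 89179 7
 Tr.leaf) 89181 5
 (Tr.node (Tr.node Tr.leaf 89183 6
 Tr.leaf) 89201 6
 Tr.leaf)) 89203 6
 (Tr.node (Tr.node (Tr.node Tr.leaf 89205 6
 Tr.leaf) 89207 6
 Tr.leaf) 89209 6
 (Tr.node Tr.leaf 89211 5
 Tr.leaf)))) 89213 6
 (Tr.node (Tr.node (Tr.node (Tr.node (Tr.node Tr.leaf 89215 6
 Tr.leaf) 89217 6
 Tr.leaf) 89219 6
 (Tr.node (Tr.node Tr.leaf 89221 6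
 Tr.leaf) 89223 4
 Tr.leaf)) 89225 5
 (Tr.node (Tr.node (Tr.node Tr.leaf 89227 6
 Tr.leaf) 89229 5
 Tr.leaf) 89231 6
 (Tr.node Tr.leaf 89249 5
 Tr.leaf))) 89251 6
 (Tr.node (Tr.node (Tr.node (Tr.node Tr.leaf 89253 5
 Tr.leaf) 89255 6
 Tr.leaf) 89257 6
 (Tr.node Tr.leaf 89259 4
 Tr.leaf)) 89261 4
 (Tr.node (Tr.node (Tr.node Tr.leaf 89263 4
 Tr.leaf) 89297 6
 Tr.leaf) 89299 5
 (Tr.node Tr.leaf 89301 6
 Tr.leaf))))) 89303 5
 (Tr.node (Tr.node (Tr.node (Tr.node (Tr.node (Tr.node Tr.leaf 89305 5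
 Tr.leaf) 89307 6
 Tr.leaf) 89309 6
 (Tr.node (Tr.node Tr.leaf 89311 6
 Tr.leaf) 89329 6
 Tr.leaf)) 89331 6
 (Tr.node (Tr.node (Tr.node Tr.leaf 89333 6
 Tr.leaf) 89335 6
 Tr.leaf) 89337 6
 (Tr.node Tr.leaf 89339 6
 Tr.leaf))) 89341 6
 (Tr.node (Tr.node (Tr.node (Tr.node Tr.leaf 89343 6
 Tr.leaf) 89361 6
 Tr.leaf) 89363 6
 (Tr.node Tr.leaf 89365 7
 Tr.leaf)) 89367 6
 (Tr.node (Tr.node (Tr.node Tr.leaf 89369 6
 Tr.leaf) 89371 6
 Tr.leaf) 89373 6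
 (Tr.node Tr.leaf 89375 5
 Tr.leaf)))) 89393 5
 (Tr.node (Tr.node (Tr.node (Tr.node (Tr.node Tr.leaf 89395 6
 Tr.leaf) 89397 6
 Tr.leaf) 89399 5
 (Tr.node (Tr.node Tr.leaf 89401 6
 Tr.leaf) 89403 6
 Tr.leaf)) 89405 6
 (Tr.node (Tr.node (Tr.node Tr.leaf 89407 5
 Tr.leaf) 89409 6
 Tr.leaf) 89411 6
 (Tr.node Tr.leaf 89413 5
 Tr.leaf))) 89415 6
 (Tr.node (Tr.node (Tr.node (Tr.node Tr.leaf 89417 6
 Tr.leaf) 89419 5
 Tr.leaf) 89421 6
 (Tr.node Tr.leaf 89423 6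
 Tr.leaf)) 89441 6
 (Tr.node (Tr.node (Tr.node Tr.leaf 89443 5
 Tr.leaf) 89445 6
 Tr.leaf) 89447 5
 (Tr.node Tr.leaf 89449 6
 Tr.leaf)))))))))

/-- A subtree. -/
def tr2_s22 : Tr := (Tr.node (Tr.node (Tr.node (Tr.node (Tr.node (Tr.node (Tr.node (Tr.node (Tr.node (Tr.node Tr.leaf 89453 6
 Tr.leaf) 89455 6
 Tr.leaf) 89489 5
 (Tr.node (Tr.node Tr.leaf 89491 5
 Tr.leaf) 89493 6
 Tr.leaf)) 89495 6
 (Tr.node (Tr.node (Tr.node Tr.leaf 89497 6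
 Tr.leaf) 89499 5
 Tr.leaf) 89501 5
 (Tr.node Tr.leaf 89503 5
 Tr.leaf))) 89521 6
 (Tr.node (Tr.node (Tr.node (Tr.node Tr.leaf 89523 6
 Tr.leaf) 89525 6
 Tr.leaf) 89527 6
 (Tr.node (Tr.node Tr.leaf 89529 5
 Tr.leaf) 89531 6
 Tr.leaf)) 89533 6
 (Tr.node (Tr.node (Tr.node Tr.leaf 89535 6
 Tr.leaf) 89537 6
 Tr.leaf) 89539 6
 (Tr.node Tr.leaf 89541 6
 Tr.leaf)))) 89543 5
 (Tr.node (Tr.node (Tr.node (Tr.node (Tr.node Tr.leaf 89545 6
 Tr.leaf) 89547 6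
 Tr.leaf) 89549 6
 (Tr.node (Tr.node Tr.leaf 89551 6
 Tr.leaf) 89569 6
 Tr.leaf)) 89571 5
 (Tr.node (Tr.node (Tr.node Tr.leaf 89573 5
 Tr.leaf) 89575 6
 Tr.leaf) 89577 5
 (Tr.node Tr.leaf 89579 6
 Tr.leaf))) 89581 6
 (Tr.node (Tr.node (Tr.node (Tr.node Tr.leaf 89583 5
 Tr.leaf) 90113 3
 Tr.leaf) 90114 3
 (Tr.node Tr.leaf 90116 6
 Tr.leaf)) 90119 5
 (Tr.node (Tr.node (Tr.node Tr.leaf 90120 4
 Tr.leaf) 90123 6
 Tr.leaf) 90125 4
 (Tr.node Tr.leaf 90126 3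
 Tr.leaf))))) 90129 4
 (Tr.node (Tr.node (Tr.node (Tr.node (Tr.node (Tr.node Tr.leaf 90130 4
 Tr.leaf) 90132 5
 Tr.leaf) 90135 7
 (Tr.node (Tr.node Tr.leaf 90136 4
 Tr.leaf) 90139 6
 Tr.leaf)) 90141 6
 (Tr.node (Tr.node (Tr.node Tr.leaf 90142 5
 Tr.leaf) 90145 3
 Tr.leaf) 90146 4
 (Tr.node Tr.leaf 90148 5
 Tr.leaf))) 90151 6
 (Tr.node (Tr.node (Tr.node (Tr.node Tr.leaf 90152 4
 Tr.leaf) 90155 4
 Tr.leaf) 90157 6
 (Tr.node (Tr.node Tr.leaf 90158 6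
 Tr.leaf) 90161 3
 Tr.leaf)) 90162 5
 (Tr.node (Tr.node (Tr.node Tr.leaf 90164 6
 Tr.leaf) 90167 5
 Tr.leaf) 90168 4
 (Tr.node Tr.leaf 90171 4
 Tr.leaf)))) 90173 6
 (Tr.node (Tr.node (Tr.node (Tr.node (Tr.node Tr.leaf 90174 5
 Tr.leaf) 90179 6
 Tr.leaf) 90181 5
 (Tr.node (Tr.node Tr.leaf 90182 3
 Tr.leaf) 90185 4
 Tr.leaf)) 90186 2
 (Tr.node (Tr.node (Tr.node Tr.leaf 90188 2
 Tr.leaf) 90191 6
 Tr.leaf) 90195 5
 (Tr.node Tr.leaf 90197 6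
 Tr.leaf))) 90198 5
 (Tr.node (Tr.node (Tr.node (Tr.node Tr.leaf 90201 7
 Tr.leaf) 90202 4
 Tr.leaf) 90204 5
 (Tr.node Tr.leaf 90207 6
 Tr.leaf)) 90211 6
 (Tr.node (Tr.node (Tr.node Tr.leaf 90213 6
 Tr.leaf) 90214 5
 Tr.leaf) 90217 5
 (Tr.node Tr.leaf 90218 5
 Tr.leaf)))))) 90220 5
 (Tr.node (Tr.node (Tr.node (Tr.node (Tr.node (Tr.node (Tr.node Tr.leaf 90223 6
 Tr.leaf) 90227 6
 Tr.leaf) 90229 6
 (Tr.node (Tr.node Tr.leaf 90230 6
 Tr.leaf) 90233 6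
 Tr.leaf)) 90234 6
 (Tr.node (Tr.node (Tr.node Tr.leaf 90236 5
 Tr.leaf) 90239 6
 Tr.leaf) 90241 3
 (Tr.node Tr.leaf 90242 5
 Tr.leaf))) 90244 6
 (Tr.node (Tr.node (Tr.node (Tr.node Tr.leaf 90247 5
 Tr.leaf) 90248 5
 Tr.leaf) 90251 6
 (Tr.node (Tr.node Tr.leaf 90253 5
 Tr.leaf) 90254 5
 Tr.leaf)) 90257 3
 (Tr.node (Tr.node (Tr.node Tr.leaf 90258 4
 Tr.leaf) 90260 6
 Tr.leaf) 90263 6
 (Tr.node Tr.leaf 90264 4
 Tr.leaf)))) 90267 6
 (Tr.node (Tr.node (Tr.node (Tr.node (Tr.node Tr.leaf 90269 4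
 Tr.leaf) 90270 6
 Tr.leaf) 90273 3
 (Tr.node (Tr.node Tr.leaf 90274 5
 Tr.leaf) 90276 6
 Tr.leaf)) 90279 6
 (Tr.node (Tr.node (Tr.node Tr.leaf 90280 4
 Tr.leaf) 90283 6
 Tr.leaf) 90285 5
 (Tr.node Tr.leaf 90286 5
 Tr.leaf))) 90289 3
 (Tr.node (Tr.node (Tr.node (Tr.node Tr.leaf 90290 4
 Tr.leaf) 90292 6
 Tr.leaf) 90295 5
 (Tr.node Tr.leaf 90296 3
 Tr.leaf)) 90299 6
 (Tr.node (Tr.node (Tr.node Tr.leaf 90301 6
 Tr.leaf) 90302 2
 Tr.leaf) 90307 5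
 (Tr.node Tr.leaf 90309 6
 Tr.leaf))))) 90310 4
 (Tr.node (Tr.node (Tr.node (Tr.node (Tr.node (Tr.node Tr.leaf 90313 6
 Tr.leaf) 90314 6
 Tr.leaf) 90316 5
 (Tr.node (Tr.node Tr.leaf 90319 6
 Tr.leaf) 90323 5
 Tr.leaf)) 90325 6
 (Tr.node (Tr.node (Tr.node Tr.leaf 90326 5
 Tr.leaf) 90329 5
 Tr.leaf) 90330 5
 (Tr.node Tr.leaf 90332 4
 Tr.leaf))) 90335 6
 (Tr.node (Tr.node (Tr.node (Tr.node Tr.leaf 90339 6
 Tr.leaf) 90341 5
 Tr.leaf) 90342 5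
 (Tr.node Tr.leaf 90345 7
 Tr.leaf)) 90346 5
 (Tr.node (Tr.node (Tr.node Tr.leaf 90348 5
 Tr.leaf) 90351 6
 Tr.leaf) 90355 4
 (Tr.node Tr.leaf 90357 5
 Tr.leaf)))) 90358 2
 (Tr.node (Tr.node (Tr.node (Tr.node (Tr.node Tr.leaf 90361 5
 Tr.leaf) 90362 3
 Tr.leaf) 90364 3
 (Tr.node (Tr.node Tr.leaf 90367 6
 Tr.leaf) 90371 6
 Tr.leaf)) 90373 6
 (Tr.node (Tr.node (Tr.node Tr.leaf 90374 6
 Tr.leaf) 90377 4
 Tr.leaf) 90378 7
 (Tr.node Tr.leaf 90380 5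
 Tr.leaf))) 90383 5
 (Tr.node (Tr.node (Tr.node (Tr.node Tr.leaf 90387 6
 Tr.leaf) 90389 5
 Tr.leaf) 90390 6
 (Tr.node Tr.leaf 90393 6
 Tr.leaf)) 90394 5
 (Tr.node (Tr.node (Tr.node Tr.leaf 90396 4
 Tr.leaf) 90399 5
 Tr.leaf) 90403 4
 (Tr.node Tr.leaf 90405 4
 Tr.leaf))))))) 90406 5
 (Tr.node (Tr.node (Tr.node (Tr.node (Tr.node (Tr.node (Tr.node (Tr.node Tr.leaf 90409 7
 Tr.leaf) 90410 5
 Tr.leaf) 90412 5
 (Tr.node (Tr.node Tr.leaf 90415 6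
 Tr.leaf) 90419 6
 Tr.leaf)) 90421 6
 (Tr.node (Tr.node (Tr.node Tr.leaf 90422 6
 Tr.leaf) 90425 4
 Tr.leaf) 90426 4
 (Tr.node Tr.leaf 90428 4
 Tr.leaf))) 90431 6
 (Tr.node (Tr.node (Tr.node (Tr.node Tr.leaf 90433 4
 Tr.leaf) 90434 4
 Tr.leaf) 90436 6
 (Tr.node (Tr.node Tr.leaf 90439 6
 Tr.leaf) 90440 6
 Tr.leaf)) 90443 6
 (Tr.node (Tr.node (Tr.node Tr.leaf 90445 6
 Tr.leaf) 90446 6
 Tr.leaf) 90449 6
 (Tr.node Tr.leaf 90450 5
 Tr.leaf)))) 90452 5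
 (Tr.node (Tr.node (Tr.node (Tr.node (Tr.node Tr.leaf 90455 5
 Tr.leaf) 90456 6
 Tr.leaf) 90459 5
 (Tr.node (Tr.node Tr.leaf 90461 5
 Tr.leaf) 90462 6
 Tr.leaf)) 90465 6
 (Tr.node (Tr.node (Tr.node Tr.leaf 90466 4
 Tr.leaf) 90468 5
 Tr.leaf) 90471 6
 (Tr.node Tr.leaf 90472 6
 Tr.leaf))) 90475 6
 (Tr.node (Tr.node (Tr.node (Tr.node Tr.leaf 90477 5
 Tr.leaf) 90478 5
 Tr.leaf) 90481 4
 (Tr.node Tr.leaf 90482 5
 Tr.leaf)) 90484 5
 (Tr.node (Tr.node (Tr.node Tr.leaf 90487 5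
 Tr.leaf) 90488 5
 Tr.leaf) 90491 6
 (Tr.node Tr.leaf 90493 6
 Tr.leaf))))) 90494 5
 (Tr.node (Tr.node (Tr.node (Tr.node (Tr.node (Tr.node Tr.leaf 90499 4
 Tr.leaf) 90501 5
 Tr.leaf) 90502 5
 (Tr.node (Tr.node Tr.leaf 90505 6
 Tr.leaf) 90506 5
 Tr.leaf)) 90508 5
 (Tr.node (Tr.node (Tr.node Tr.leaf 90511 6
 Tr.leaf) 90515 6
 Tr.leaf) 90517 6
 (Tr.node Tr.leaf 90518 5
 Tr.leaf))) 90521 4
 (Tr.node (Tr.node (Tr.node (Tr.node Tr.leaf 90522 5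
 Tr.leaf) 90524 4
 Tr.leaf) 90527 6
 (Tr.node Tr.leaf 90531 6
 Tr.leaf)) 90533 6
 (Tr.node (Tr.node (Tr.node Tr.leaf 90534 6
 Tr.leaf) 90537 6
 Tr.leaf) 90538 5
 (Tr.node Tr.leaf 90540 5
 Tr.leaf)))) 90543 5
 (Tr.node (Tr.node (Tr.node (Tr.node (Tr.node Tr.leaf 90547 4
 Tr.leaf) 90549 5
 Tr.leaf) 90550 6
 (Tr.node (Tr.node Tr.leaf 90553 6
 Tr.leaf) 90554 6
 Tr.leaf)) 90556 4
 (Tr.node (Tr.node (Tr.node Tr.leaf 90559 6
 Tr.leaf) 90561 6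
 Tr.leaf) 90562 5
 (Tr.node Tr.leaf 90564 4
 Tr.leaf))) 90567 5
 (Tr.node (Tr.node (Tr.node (Tr.node Tr.leaf 90568 5
 Tr.leaf) 90571 6
 Tr.leaf) 90573 5
 (Tr.node Tr.leaf 90574 6
 Tr.leaf)) 90577 5
 (Tr.node (Tr.node (Tr.node Tr.leaf 90578 5
 Tr.leaf) 90580 4
 Tr.leaf) 90583 5
 (Tr.node Tr.leaf 90584 5
 Tr.leaf)))))) 90587 6
 (Tr.node (Tr.node (Tr.node (Tr.node (Tr.node (Tr.node (Tr.node Tr.leaf 90589 5
 Tr.leaf) 90590 6
 Tr.leaf) 90593 5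
 (Tr.node (Tr.node Tr.leaf 90594 4
 Tr.leaf) 90596 5
 Tr.leaf)) 90599 5
 (Tr.node (Tr.node (Tr.node Tr.leaf 90600 6
 Tr.leaf) 90603 5
 Tr.leaf) 90605 5
 (Tr.node Tr.leaf 90606 6
 Tr.leaf))) 90609 6
 (Tr.node (Tr.node (Tr.node (Tr.node Tr.leaf 90610 5
 Tr.leaf) 90612 6
 Tr.leaf) 90615 6
 (Tr.node (Tr.node Tr.leaf 90616 6
 Tr.leaf) 90619 5
 Tr.leaf)) 90621 6
 (Tr.node (Tr.node (Tr.node Tr.leaf 90622 6
 Tr.leaf) 91141 6
 Tr.leaf) 91143 6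
 (Tr.node Tr.leaf 91145 6
 Tr.leaf)))) 91147 5
 (Tr.node (Tr.node (Tr.node (Tr.node (Tr.node Tr.leaf 91157 6
 Tr.leaf) 91159 6
 Tr.leaf) 91161 6
 (Tr.node (Tr.node Tr.leaf 91163 6
 Tr.leaf) 91173 6
 Tr.leaf)) 91175 5
 (Tr.node (Tr.node (Tr.node Tr.leaf 91177 5
 Tr.leaf) 91179 6
 Tr.leaf) 91189 6
 (Tr.node Tr.leaf 91191 7
 Tr.leaf))) 91193 6
 (Tr.node (Tr.node (Tr.node (Tr.node Tr.leaf 91195 6
 Tr.leaf) 91201 6
 Tr.leaf) 91203 4
 (Tr.node Tr.leaf 91213 7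
 Tr.leaf)) 91215 5
 (Tr.node (Tr.node (Tr.node Tr.leaf 91217 6
 Tr.leaf) 91219 6
 Tr.leaf) 91229 6
 (Tr.node Tr.leaf 91231 6
 Tr.leaf))))) 91233 6
 (Tr.node (Tr.node (Tr.node (Tr.node (Tr.node (Tr.node Tr.leaf 91235 6
 Tr.leaf) 91245 6
 Tr.leaf) 91247 6
 (Tr.node (Tr.node Tr.leaf 91249 6
 Tr.leaf) 91251 5
 Tr.leaf)) 91261 6
 (Tr.node (Tr.node (Tr.node Tr.leaf 91263 5
 Tr.leaf) 91269 6
 Tr.leaf) 91271 6
 (Tr.node Tr.leaf 91273 6
 Tr.leaf))) 91275 6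
 (Tr.node (Tr.node (Tr.node (Tr.node Tr.leaf 91285 4
 Tr.leaf) 91287 4
 Tr.leaf) 91289 4
 (Tr.node Tr.leaf 91291 5
 Tr.leaf)) 91301 6
 (Tr.node (Tr.node (Tr.node Tr.leaf 91303 5
 Tr.leaf) 91305 6
 Tr.leaf) 91307 4
 (Tr.node Tr.leaf 91317 5
 Tr.leaf)))) 91319 6
 (Tr.node (Tr.node (Tr.node (Tr.node (Tr.node Tr.leaf 91321 6
 Tr.leaf) 91323 5
 Tr.leaf) 91329 6
 (Tr.node (Tr.node Tr.leaf 91331 6
 Tr.leaf) 91341 6
 Tr.leaf)) 91343 6
 (Tr.node (Tr.node (Tr.node Tr.leaf 91345 6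
 Tr.leaf) 91347 6
 Tr.leaf) 91357 6
 (Tr.node Tr.leaf 91359 6
 Tr.leaf))) 91361 5
 (Tr.node (Tr.node (Tr.node (Tr.node Tr.leaf 91363 6
 Tr.leaf) 91373 5
 Tr.leaf) 91375 5
 (Tr.node Tr.leaf 91377 6
 Tr.leaf)) 91379 5
 (Tr.node (Tr.node (Tr.node Tr.leaf 91389 6
 Tr.leaf) 91391 6
 Tr.leaf) 91393 6
 (Tr.node Tr.leaf 91395 6
 Tr.leaf)))))))) 91405 6
 (Tr.node (Tr.node (Tr.node (Tr.node (Tr.node (Tr.node (Tr.node (Tr.node (Tr.node Tr.leaf 91407 6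
 Tr.leaf) 91409 6
 Tr.leaf) 91411 7
 (Tr.node (Tr.node Tr.leaf 91421 6
 Tr.leaf) 91423 6
 Tr.leaf)) 91425 4
 (Tr.node (Tr.node (Tr.node Tr.leaf 91427 6
 Tr.leaf) 91437 6
 Tr.leaf) 91439 6
 (Tr.node Tr.leaf 91441 6
 Tr.leaf))) 91443 6
 (Tr.node (Tr.node (Tr.node (Tr.node Tr.leaf 91453 6
 Tr.leaf) 91455 6
 Tr.leaf) 91461 5
 (Tr.node (Tr.node Tr.leaf 91463 6
 Tr.leaf) 91465 5
 Tr.leaf)) 91467 6
 (Tr.node (Tr.node (Tr.node Tr.leaf 91477 5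
 Tr.leaf) 91479 6
 Tr.leaf) 91481 6
 (Tr.node Tr.leaf 91483 6
 Tr.leaf)))) 91493 6
 (Tr.node (Tr.node (Tr.node (Tr.node (Tr.node Tr.leaf 91495 6
 Tr.leaf) 91497 5
 Tr.leaf) 91499 6
 (Tr.node (Tr.node Tr.leaf 91509 5
 Tr.leaf) 91511 6
 Tr.leaf)) 91513 6
 (Tr.node (Tr.node (Tr.node Tr.leaf 91515 6
 Tr.leaf) 91521 5
 Tr.leaf) 91523 4
 (Tr.node Tr.leaf 91533 5
 Tr.leaf))) 91535 5
 (Tr.node (Tr.node (Tr.node (Tr.node Tr.leaf 91537 6
 Tr.leaf) 91539 6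
 Tr.leaf) 91549 6
 (Tr.node Tr.leaf 91551 6
 Tr.leaf)) 91553 6
 (Tr.node (Tr.node (Tr.node Tr.leaf 91555 5
 Tr.leaf) 91565 5
 Tr.leaf) 91567 6
 (Tr.node Tr.leaf 91569 5
 Tr.leaf))))) 91571 5
 (Tr.node (Tr.node (Tr.node (Tr.node (Tr.node (Tr.node Tr.leaf 91581 6
 Tr.leaf) 91583 6
 Tr.leaf) 91589 6
 (Tr.node (Tr.node Tr.leaf 91591 6
 Tr.leaf) 91593 5
 Tr.leaf)) 91595 6
 (Tr.node (Tr.node (Tr.node Tr.leaf 91605 5
 Tr.leaf) 91607 5
 Tr.leaf) 91609 6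
 (Tr.node Tr.leaf 91611 6
 Tr.leaf))) 91621 5
 (Tr.node (Tr.node (Tr.node (Tr.node Tr.leaf 91623 6
 Tr.leaf) 91625 6
 Tr.leaf) 91627 6
 (Tr.node Tr.leaf 91637 6
 Tr.leaf)) 91639 6
 (Tr.node (Tr.node (Tr.node Tr.leaf 91641 5
 Tr.leaf) 91643 5
 Tr.leaf) 92163 6
 (Tr.node Tr.leaf 92167 6
 Tr.leaf)))) 92169 6
 (Tr.node (Tr.node (Tr.node (Tr.node (Tr.node Tr.leaf 92170 5
 Tr.leaf) 92173 5
 Tr.leaf) 92174 4
 (Tr.node (Tr.node Tr.leaf 92179 6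
 Tr.leaf) 92183 4
 Tr.leaf)) 92185 6
 (Tr.node (Tr.node (Tr.node Tr.leaf 92186 4
 Tr.leaf) 92189 6
 Tr.leaf) 92190 3
 (Tr.node Tr.leaf 92195 4
 Tr.leaf))) 92199 7
 (Tr.node (Tr.node (Tr.node (Tr.node Tr.leaf 92201 4
 Tr.leaf) 92202 6
 Tr.leaf) 92205 6
 (Tr.node Tr.leaf 92206 6
 Tr.leaf)) 92211 6
 (Tr.node (Tr.node (Tr.node Tr.leaf 92215 4
 Tr.leaf) 92217 4
 Tr.leaf) 92218 6
 (Tr.node Tr.leaf 92221 6
 Tr.leaf)))))) 92222 5
 (Tr.node (Tr.node (Tr.node (Tr.node (Tr.node (Tr.node (Tr.node Tr.leaf 92225 7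
 Tr.leaf) 92226 6
 Tr.leaf) 92229 5
 (Tr.node (Tr.node Tr.leaf 92230 6
 Tr.leaf) 92235 6
 Tr.leaf)) 92239 6
 (Tr.node (Tr.node (Tr.node Tr.leaf 92241 6
 Tr.leaf) 92242 6
 Tr.leaf) 92245 6
 (Tr.node Tr.leaf 92246 4
 Tr.leaf))) 92251 6
 (Tr.node (Tr.node (Tr.node (Tr.node Tr.leaf 92255 6
 Tr.leaf) 92257 6
 Tr.leaf) 92258 4
 (Tr.node (Tr.node Tr.leaf 92261 5
 Tr.leaf) 92262 6
 Tr.leaf)) 92267 6
 (Tr.node (Tr.node (Tr.node Tr.leaf 92271 6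
 Tr.leaf) 92273 6
 Tr.leaf) 92274 6
 (Tr.node Tr.leaf 92277 6
 Tr.leaf)))) 92278 6
 (Tr.node (Tr.node (Tr.node (Tr.node (Tr.node Tr.leaf 92283 6
 Tr.leaf) 92287 6
 Tr.leaf) 92291 6
 (Tr.node (Tr.node Tr.leaf 92295 4
 Tr.leaf) 92297 6
 Tr.leaf)) 92298 6
 (Tr.node (Tr.node (Tr.node Tr.leaf 92301 6
 Tr.leaf) 92302 6
 Tr.leaf) 92307 6
 (Tr.node Tr.leaf 92311 5
 Tr.leaf))) 92313 6
 (Tr.node (Tr.node (Tr.node (Tr.node Tr.leaf 92314 6
 Tr.leaf) 92317 6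
 Tr.leaf) 92318 6
 (Tr.node Tr.leaf 92323 5
 Tr.leaf)) 92327 6
 (Tr.node (Tr.node (Tr.node Tr.leaf 92329 5
 Tr.leaf) 92330 3
 Tr.leaf) 92333 6
 (Tr.node Tr.leaf 92334 4
 Tr.leaf))))) 92339 6
 (Tr.node (Tr.node (Tr.node (Tr.node (Tr.node (Tr.node Tr.leaf 92343 6
 Tr.leaf) 92345 5
 Tr.leaf) 92346 6
 (Tr.node (Tr.node Tr.leaf 92349 5
 Tr.leaf) 92350 4
 Tr.leaf)) 92353 6
 (Tr.node (Tr.node (Tr.node Tr.leaf 92354 6
 Tr.leaf) 92357 6
 Tr.leaf) 92358 6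
 (Tr.node Tr.leaf 92363 6
 Tr.leaf))) 92367 6
 (Tr.node (Tr.node (Tr.node (Tr.node Tr.leaf 92369 5
 Tr.leaf) 92370 6
 Tr.leaf) 92373 6
 (Tr.node Tr.leaf 92374 5
 Tr.leaf)) 92379 6
 (Tr.node (Tr.node (Tr.node Tr.leaf 92383 6
 Tr.leaf) 92385 6
 Tr.leaf) 92386 6
 (Tr.node Tr.leaf 92389 6
 Tr.leaf)))) 92390 6
 (Tr.node (Tr.node (Tr.node (Tr.node (Tr.node Tr.leaf 92395 6
 Tr.leaf) 92399 6
 Tr.leaf) 92401 6
 (Tr.node (Tr.node Tr.leaf 92402 6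
 Tr.leaf) 92405 6
 Tr.leaf)) 92406 6
 (Tr.node (Tr.node (Tr.node Tr.leaf 92411 6
 Tr.leaf) 92415 5
 Tr.leaf) 92417 6
 (Tr.node Tr.leaf 92418 6
 Tr.leaf))) 92421 6
 (Tr.node (Tr.node (Tr.node (Tr.node Tr.leaf 92422 6
 Tr.leaf) 92427 6
 Tr.leaf) 92431 6
 (Tr.node Tr.leaf 92433 6
 Tr.leaf)) 92434 6
 (Tr.node (Tr.node (Tr.node Tr.leaf 92437 6
 Tr.leaf) 92438 6
 Tr.leaf) 92443 6
 (Tr.node Tr.leaf 92447 6
 Tr.leaf))))))) 92449 4
 (Tr.node (Tr.node (Tr.node (Tr.node (Tr.node (Tr.node (Tr.node (Tr.node Tr.leaf 92450 6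
 Tr.leaf) 92453 6
 Tr.leaf) 92454 6
 (Tr.node (Tr.node Tr.leaf 92459 6
 Tr.leaf) 92463 6
 Tr.leaf)) 92465 6
 (Tr.node (Tr.node (Tr.node Tr.leaf 92466 6
 Tr.leaf) 92469 6
 Tr.leaf) 92470 6
 (Tr.node Tr.leaf 92475 6
 Tr.leaf))) 92479 5
 (Tr.node (Tr.node (Tr.node (Tr.node Tr.leaf 92483 6
 Tr.leaf) 92487 6
 Tr.leaf) 92489 7
 (Tr.node (Tr.node Tr.leaf 92490 5
 Tr.leaf) 92493 6
 Tr.leaf)) 92494 6
 (Tr.node (Tr.node (Tr.node Tr.leaf 92499 5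
 Tr.leaf) 92503 5
 Tr.leaf) 92505 6
 (Tr.node Tr.leaf 92506 6
 Tr.leaf)))) 92509 5
 (Tr.node (Tr.node (Tr.node (Tr.node (Tr.node Tr.leaf 92510 6
 Tr.leaf) 92515 6
 Tr.leaf) 92519 6
 (Tr.node (Tr.node Tr.leaf 92521 6
 Tr.leaf) 92522 5
 Tr.leaf)) 92525 6
 (Tr.node (Tr.node (Tr.node Tr.leaf 92526 5
 Tr.leaf) 92531 5
 Tr.leaf) 92535 6
 (Tr.node Tr.leaf 92537 5
 Tr.leaf))) 92538 6
 (Tr.node (Tr.node (Tr.node (Tr.node Tr.leaf 92541 6
 Tr.leaf) 92542 6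
 Tr.leaf) 92545 4
 (Tr.node Tr.leaf 92546 6
 Tr.leaf)) 92549 4
 (Tr.node (Tr.node (Tr.node Tr.leaf 92550 6
 Tr.leaf) 92555 6
 Tr.leaf) 92559 6
 (Tr.node Tr.leaf 92561 6
 Tr.leaf))))) 92562 6
 (Tr.node (Tr.node (Tr.node (Tr.node (Tr.node (Tr.node Tr.leaf 92565 6
 Tr.leaf) 92566 6
 Tr.leaf) 92571 6
 (Tr.node (Tr.node Tr.leaf 92575 5
 Tr.leaf) 92577 6
 Tr.leaf)) 92578 6
 (Tr.node (Tr.node (Tr.node Tr.leaf 92581 6
 Tr.leaf) 92582 6
 Tr.leaf) 92587 6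
 (Tr.node Tr.leaf 92591 5
 Tr.leaf))) 92593 6
 (Tr.node (Tr.node (Tr.node (Tr.node Tr.leaf 92594 6
 Tr.leaf) 92597 4
 Tr.leaf) 92598 6
 (Tr.node Tr.leaf 92603 6
 Tr.leaf)) 92607 6
 (Tr.node (Tr.node (Tr.node Tr.leaf 92611 6
 Tr.leaf) 92615 6
 Tr.leaf) 92617 6
 (Tr.node Tr.leaf 92618 5
 Tr.leaf)))) 92621 6
 (Tr.node (Tr.node (Tr.node (Tr.node (Tr.node Tr.leaf 92622 6
 Tr.leaf) 92627 6
 Tr.leaf) 92631 5
 (Tr.node (Tr.node Tr.leaf 92633 6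
 Tr.leaf) 92634 5
 Tr.leaf)) 92637 6
 (Tr.node (Tr.node (Tr.node Tr.leaf 92638 5
 Tr.leaf) 92643 6
 Tr.leaf) 92647 6
 (Tr.node Tr.leaf 92649 5
 Tr.leaf))) 92650 6
 (Tr.node (Tr.node (Tr.node (Tr.node Tr.leaf 92653 7
 Tr.leaf) 92654 5
 Tr.leaf) 92659 6
 (Tr.node Tr.leaf 92663 6
 Tr.leaf)) 92665 6
 (Tr.node (Tr.node (Tr.node Tr.leaf 92666 5
 Tr.leaf) 92669 6
 Tr.leaf) 92670 6
 (Tr.node Tr.leaf 93185 4
 Tr.leaf)))))) 93187 4
 (Tr.node (Tr.node (Tr.node (Tr.node (Tr.node (Tr.node (Tr.node Tr.leaf 93189 6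
 Tr.leaf) 93191 5
 Tr.leaf) 93201 6
 (Tr.node (Tr.node Tr.leaf 93203 6
 Tr.leaf) 93205 4
 Tr.leaf)) 93207 6
 (Tr.node (Tr.node (Tr.node Tr.leaf 93217 4
 Tr.leaf) 93219 6
 Tr.leaf) 93221 5
 (Tr.node Tr.leaf 93223 6
 Tr.leaf))) 93233 5
 (Tr.node (Tr.node (Tr.node (Tr.node Tr.leaf 93235 6
 Tr.leaf) 93237 6
 Tr.leaf) 93239 4
 (Tr.node (Tr.node Tr.leaf 93257 6
 Tr.leaf) 93259 5
 Tr.leaf)) 93261 5
 (Tr.node (Tr.node (Tr.node Tr.leaf 93263 5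
 Tr.leaf) 93273 6
 Tr.leaf) 93275 5
 (Tr.node Tr.leaf 93277 6
 Tr.leaf)))) 93279 6
 (Tr.node (Tr.node (Tr.node (Tr.node (Tr.node Tr.leaf 93289 6
 Tr.leaf) 93291 6
 Tr.leaf) 93293 5
 (Tr.node (Tr.node Tr.leaf 93295 6
 Tr.leaf) 93305 6
 Tr.leaf)) 93307 6
 (Tr.node (Tr.node (Tr.node Tr.leaf 93309 6
 Tr.leaf) 93311 7
 Tr.leaf) 93313 4
 (Tr.node Tr.leaf 93315 5
 Tr.leaf))) 93317 6
 (Tr.node (Tr.node (Tr.node (Tr.node Tr.leaf 93319 4
 Tr.leaf) 93329 6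
 Tr.leaf) 93331 5
 (Tr.node Tr.leaf 93333 6
 Tr.leaf)) 93335 5
 (Tr.node (Tr.node (Tr.node Tr.leaf 93345 6
 Tr.leaf) 93347 6
 Tr.leaf) 93349 5
 (Tr.node Tr.leaf 93351 4
 Tr.leaf))))) 93361 5
 (Tr.node (Tr.node (Tr.node (Tr.node (Tr.node (Tr.node Tr.leaf 93363 6
 Tr.leaf) 93365 6
 Tr.leaf) 93367 5
 (Tr.node (Tr.node Tr.leaf 93385 6
 Tr.leaf) 93387 6
 Tr.leaf)) 93389 5
 (Tr.node (Tr.node (Tr.node Tr.leaf 93391 6
 Tr.leaf) 93401 6
 Tr.leaf) 93403 6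
 (Tr.node Tr.leaf 93405 5
 Tr.leaf))) 93407 6
 (Tr.node (Tr.node (Tr.node (Tr.node Tr.leaf 93417 5
 Tr.leaf) 93419 6
 Tr.leaf) 93421 6
 (Tr.node Tr.leaf 93423 6
 Tr.leaf)) 93433 6
 (Tr.node (Tr.node (Tr.node Tr.leaf 93435 5
 Tr.leaf) 93437 5
 Tr.leaf) 93439 6
 (Tr.node Tr.leaf 93449 5
 Tr.leaf)))) 93451 6
 (Tr.node (Tr.node (Tr.node (Tr.node (Tr.node Tr.leaf 93453 6
 Tr.leaf) 93455 6
 Tr.leaf) 93465 6
 (Tr.node (Tr.node Tr.leaf 93467 5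
 Tr.leaf) 93469 5
 Tr.leaf)) 93471 6
 (Tr.node (Tr.node (Tr.node Tr.leaf 93481 6
 Tr.leaf) 93483 6
 Tr.leaf) 93485 6
 (Tr.node Tr.leaf 93487 6
 Tr.leaf))) 93497 5
 (Tr.node (Tr.node (Tr.node (Tr.node Tr.leaf 93499 6
 Tr.leaf) 93501 6
 Tr.leaf) 93503 5
 (Tr.node Tr.leaf 93505 6
 Tr.leaf)) 93507 6
 (Tr.node (Tr.node (Tr.node Tr.leaf 93509 6
 Tr.leaf) 93511 6
 Tr.leaf) 93521 6
 (Tr.node Tr.leaf 93523 6
 Tr.leaf)))))))))

/-- A subtree. -/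
def tr2_s23 : Tr := (Tr.node (Tr.node (Tr.node (Tr.node (Tr.node (Tr.node (Tr.node (Tr.node (Tr.node (Tr.node Tr.leaf 93527 5
 Tr.leaf) 93537 6
 Tr.leaf) 93539 6
 (Tr.node (Tr.node Tr.leaf 93541 6
 Tr.leaf) 93543 5
 Tr.leaf)) 93553 6
 (Tr.node (Tr.node (Tr.node Tr.leaf 93555 6
 Tr.leaf) 93557 6
 Tr.leaf) 93559 6
 (Tr.node Tr.leaf 93577 6
 Tr.leaf))) 93579 6
 (Tr.node (Tr.node (Tr.node (Tr.node Tr.leaf 93581 6
 Tr.leaf) 93583 5
 Tr.leaf) 93593 5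
 (Tr.node (Tr.node Tr.leaf 93595 5
 Tr.leaf) 93597 6
 Tr.leaf)) 93599 6
 (Tr.node (Tr.node (Tr.node Tr.leaf 93609 5
 Tr.leaf) 93611 6
 Tr.leaf) 93613 6
 (Tr.node Tr.leaf 93615 6
 Tr.leaf)))) 93625 6
 (Tr.node (Tr.node (Tr.node (Tr.node (Tr.node Tr.leaf 93627 6
 Tr.leaf) 93629 6
 Tr.leaf) 93631 6
 (Tr.node (Tr.node Tr.leaf 93633 6
 Tr.leaf) 93635 5
 Tr.leaf)) 93637 6
 (Tr.node (Tr.node (Tr.node Tr.leaf 93639 7
 Tr.leaf) 93649 6
 Tr.leaf) 93651 6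
 (Tr.node Tr.leaf 93653 5
 Tr.leaf))) 93655 6
 (Tr.node (Tr.node (Tr.node (Tr.node Tr.leaf 93665 6
 Tr.leaf) 93667 6
 Tr.leaf) 93669 5
 (Tr.node Tr.leaf 93671 6
 Tr.leaf)) 93681 6
 (Tr.node (Tr.node (Tr.node Tr.leaf 93683 6
 Tr.leaf) 93685 6
 Tr.leaf) 93687 6
 (Tr.node Tr.leaf 94211 5
 Tr.leaf))))) 94213 5
 (Tr.node (Tr.node (Tr.node (Tr.node (Tr.node (Tr.node Tr.leaf 94214 5
 Tr.leaf) 94219 6
 Tr.leaf) 94221 6
 (Tr.node (Tr.node Tr.leaf 94222 5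
 Tr.leaf) 94227 5
 Tr.leaf)) 94229 6
 (Tr.node (Tr.node (Tr.node Tr.leaf 94230 6
 Tr.leaf) 94235 6
 Tr.leaf) 94237 5
 (Tr.node Tr.leaf 94238 6
 Tr.leaf))) 94243 6
 (Tr.node (Tr.node (Tr.node (Tr.node Tr.leaf 94245 4
 Tr.leaf) 94246 6
 Tr.leaf) 94251 6
 (Tr.node (Tr.node Tr.leaf 94253 6
 Tr.leaf) 94254 4
 Tr.leaf)) 94259 6
 (Tr.node (Tr.node (Tr.node Tr.leaf 94261 6
 Tr.leaf) 94262 6
 Tr.leaf) 94267 5
 (Tr.node Tr.leaf 94269 6
 Tr.leaf)))) 94270 3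
 (Tr.node (Tr.node (Tr.node (Tr.node (Tr.node Tr.leaf 94273 6
 Tr.leaf) 94274 5
 Tr.leaf) 94276 5
 (Tr.node (Tr.node Tr.leaf 94279 6
 Tr.leaf) 94281 4
 Tr.leaf)) 94282 5
 (Tr.node (Tr.node (Tr.node Tr.leaf 94284 5
 Tr.leaf) 94287 6
 Tr.leaf) 94289 6
 (Tr.node Tr.leaf 94290 6
 Tr.leaf))) 94292 3
 (Tr.node (Tr.node (Tr.node (Tr.node Tr.leaf 94295 5
 Tr.leaf) 94297 6
 Tr.leaf) 94298 5
 (Tr.node Tr.leaf 94300 6
 Tr.leaf)) 94303 6
 (Tr.node (Tr.node (Tr.node Tr.leaf 94305 7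
 Tr.leaf) 94306 6
 Tr.leaf) 94308 6
 (Tr.node Tr.leaf 94311 5
 Tr.leaf)))))) 94313 6
 (Tr.node (Tr.node (Tr.node (Tr.node (Tr.node (Tr.node (Tr.node Tr.leaf 94314 5
 Tr.leaf) 94316 6
 Tr.leaf) 94319 6
 (Tr.node (Tr.node Tr.leaf 94321 5
 Tr.leaf) 94322 6
 Tr.leaf)) 94324 6
 (Tr.node (Tr.node (Tr.node Tr.leaf 94327 6
 Tr.leaf) 94329 6
 Tr.leaf) 94330 5
 (Tr.node Tr.leaf 94332 6
 Tr.leaf))) 94335 6
 (Tr.node (Tr.node (Tr.node (Tr.node Tr.leaf 94339 5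
 Tr.leaf) 94341 6
 Tr.leaf) 94342 3
 (Tr.node (Tr.node Tr.leaf 94347 4
 Tr.leaf) 94349 6
 Tr.leaf)) 94350 6
 (Tr.node (Tr.node (Tr.node Tr.leaf 94355 6
 Tr.leaf) 94357 6
 Tr.leaf) 94358 6
 (Tr.node Tr.leaf 94363 6
 Tr.leaf)))) 94365 6
 (Tr.node (Tr.node (Tr.node (Tr.node (Tr.node Tr.leaf 94366 6
 Tr.leaf) 94371 6
 Tr.leaf) 94373 6
 (Tr.node (Tr.node Tr.leaf 94374 6
 Tr.leaf) 94379 6
 Tr.leaf)) 94381 6
 (Tr.node (Tr.node (Tr.node Tr.leaf 94382 6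
 Tr.leaf) 94387 4
 Tr.leaf) 94389 5
 (Tr.node Tr.leaf 94390 5
 Tr.leaf))) 94395 6
 (Tr.node (Tr.node (Tr.node (Tr.node Tr.leaf 94397 6
 Tr.leaf) 94398 5
 Tr.leaf) 94401 5
 (Tr.node Tr.leaf 94402 4
 Tr.leaf)) 94404 6
 (Tr.node (Tr.node (Tr.node Tr.leaf 94407 6
 Tr.leaf) 94409 5
 Tr.leaf) 94410 6
 (Tr.node Tr.leaf 94412 5
 Tr.leaf))))) 94415 6
 (Tr.node (Tr.node (Tr.node (Tr.node (Tr.node (Tr.node Tr.leaf 94417 6
 Tr.leaf) 94418 6
 Tr.leaf) 94420 6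
 (Tr.node (Tr.node Tr.leaf 94423 6
 Tr.leaf) 94425 6
 Tr.leaf)) 94426 6
 (Tr.node (Tr.node (Tr.node Tr.leaf 94428 5
 Tr.leaf) 94431 6
 Tr.leaf) 94433 6
 (Tr.node Tr.leaf 94434 6
 Tr.leaf))) 94436 6
 (Tr.node (Tr.node (Tr.node (Tr.node Tr.leaf 94439 5
 Tr.leaf) 94441 5
 Tr.leaf) 94442 6
 (Tr.node Tr.leaf 94444 3
 Tr.leaf)) 94447 6
 (Tr.node (Tr.node (Tr.node Tr.leaf 94449 6
 Tr.leaf) 94450 5
 Tr.leaf) 94452 5
 (Tr.node Tr.leaf 94455 5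
 Tr.leaf)))) 94457 6
 (Tr.node (Tr.node (Tr.node (Tr.node (Tr.node Tr.leaf 94458 5
 Tr.leaf) 94460 5
 Tr.leaf) 94463 7
 (Tr.node (Tr.node Tr.leaf 94465 5
 Tr.leaf) 94466 5
 Tr.leaf)) 94468 4
 (Tr.node (Tr.node (Tr.node Tr.leaf 94471 5
 Tr.leaf) 94473 4
 Tr.leaf) 94474 6
 (Tr.node Tr.leaf 94476 6
 Tr.leaf))) 94479 6
 (Tr.node (Tr.node (Tr.node (Tr.node Tr.leaf 94481 5
 Tr.leaf) 94482 5
 Tr.leaf) 94484 6
 (Tr.node Tr.leaf 94487 6
 Tr.leaf)) 94489 6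
 (Tr.node (Tr.node (Tr.node Tr.leaf 94490 6
 Tr.leaf) 94492 6
 Tr.leaf) 94495 6
 (Tr.node Tr.leaf 94497 6
 Tr.leaf))))))) 94498 6
 (Tr.node (Tr.node (Tr.node (Tr.node (Tr.node (Tr.node (Tr.node (Tr.node Tr.leaf 94500 4
 Tr.leaf) 94503 6
 Tr.leaf) 94505 6
 (Tr.node (Tr.node Tr.leaf 94506 6
 Tr.leaf) 94508 7
 Tr.leaf)) 94511 6
 (Tr.node (Tr.node (Tr.node Tr.leaf 94513 6
 Tr.leaf) 94514 6
 Tr.leaf) 94516 6
 (Tr.node Tr.leaf 94519 6
 Tr.leaf))) 94521 5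
 (Tr.node (Tr.node (Tr.node (Tr.node Tr.leaf 94522 6
 Tr.leaf) 94524 6
 Tr.leaf) 94527 5
 (Tr.node (Tr.node Tr.leaf 94531 6
 Tr.leaf) 94533 7
 Tr.leaf)) 94534 6
 (Tr.node (Tr.node (Tr.node Tr.leaf 94539 6
 Tr.leaf) 94541 6
 Tr.leaf) 94542 6
 (Tr.node Tr.leaf 94547 6
 Tr.leaf)))) 94549 6
 (Tr.node (Tr.node (Tr.node (Tr.node (Tr.node Tr.leaf 94550 6
 Tr.leaf) 94555 5
 Tr.leaf) 94557 5
 (Tr.node (Tr.node Tr.leaf 94558 6
 Tr.leaf) 94563 6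
 Tr.leaf)) 94565 6
 (Tr.node (Tr.node (Tr.node Tr.leaf 94566 6
 Tr.leaf) 94571 6
 Tr.leaf) 94573 6
 (Tr.node Tr.leaf 94574 6
 Tr.leaf))) 94579 6
 (Tr.node (Tr.node (Tr.node (Tr.node Tr.leaf 94581 6
 Tr.leaf) 94582 5
 Tr.leaf) 94587 6
 (Tr.node Tr.leaf 94589 5
 Tr.leaf)) 94590 5
 (Tr.node (Tr.node (Tr.node Tr.leaf 94593 6
 Tr.leaf) 94594 6
 Tr.leaf) 94596 4
 (Tr.node Tr.leaf 94599 6
 Tr.leaf))))) 94601 6
 (Tr.node (Tr.node (Tr.node (Tr.node (Tr.node (Tr.node Tr.leaf 94602 4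
 Tr.leaf) 94604 5
 Tr.leaf) 94607 6
 (Tr.node (Tr.node Tr.leaf 94609 4
 Tr.leaf) 94610 5
 Tr.leaf)) 94612 6
 (Tr.node (Tr.node (Tr.node Tr.leaf 94615 6
 Tr.leaf) 94617 5
 Tr.leaf) 94618 4
 (Tr.node Tr.leaf 94620 5
 Tr.leaf))) 94623 5
 (Tr.node (Tr.node (Tr.node (Tr.node Tr.leaf 94625 6
 Tr.leaf) 94626 5
 Tr.leaf) 94628 5
 (Tr.node Tr.leaf 94631 6
 Tr.leaf)) 94633 6
 (Tr.node (Tr.node (Tr.node Tr.leaf 94634 6
 Tr.leaf) 94636 6
 Tr.leaf) 94639 6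
 (Tr.node Tr.leaf 94641 6
 Tr.leaf)))) 94642 4
 (Tr.node (Tr.node (Tr.node (Tr.node (Tr.node Tr.leaf 94644 6
 Tr.leaf) 94647 6
 Tr.leaf) 94649 6
 (Tr.node (Tr.node Tr.leaf 94650 6
 Tr.leaf) 94652 6
 Tr.leaf)) 94655 5
 (Tr.node (Tr.node (Tr.node Tr.leaf 94659 6
 Tr.leaf) 94661 6
 Tr.leaf) 94662 5
 (Tr.node Tr.leaf 94667 6
 Tr.leaf))) 94669 5
 (Tr.node (Tr.node (Tr.node (Tr.node Tr.leaf 94670 6
 Tr.leaf) 94675 5
 Tr.leaf) 94677 7
 (Tr.node Tr.leaf 94678 5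
 Tr.leaf)) 94683 5
 (Tr.node (Tr.node (Tr.node Tr.leaf 94685 6
 Tr.leaf) 94686 5
 Tr.leaf) 94691 6
 (Tr.node Tr.leaf 94693 6
 Tr.leaf)))))) 94694 5
 (Tr.node (Tr.node (Tr.node (Tr.node (Tr.node (Tr.node (Tr.node Tr.leaf 94699 6
 Tr.leaf) 94701 5
 Tr.leaf) 94702 6
 (Tr.node (Tr.node Tr.leaf 94707 6
 Tr.leaf) 94709 6
 Tr.leaf)) 94710 5
 (Tr.node (Tr.node (Tr.node Tr.leaf 94715 6
 Tr.leaf) 94717 5
 Tr.leaf) 94718 6
 (Tr.node Tr.leaf 95233 6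
 Tr.leaf))) 95235 6
 (Tr.node (Tr.node (Tr.node (Tr.node Tr.leaf 95241 4
 Tr.leaf) 95243 4
 Tr.leaf) 95249 5
 (Tr.node (Tr.node Tr.leaf 95251 6
 Tr.leaf) 95257 4
 Tr.leaf)) 95259 7
 (Tr.node (Tr.node (Tr.node Tr.leaf 95265 4
 Tr.leaf) 95267 6
 Tr.leaf) 95273 6
 (Tr.node Tr.leaf 95275 5
 Tr.leaf)))) 95281 5
 (Tr.node (Tr.node (Tr.node (Tr.node (Tr.node Tr.leaf 95283 6
 Tr.leaf) 95289 6
 Tr.leaf) 95291 4
 (Tr.node (Tr.node Tr.leaf 95301 6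
 Tr.leaf) 95303 5
 Tr.leaf)) 95309 5
 (Tr.node (Tr.node (Tr.node Tr.leaf 95311 6
 Tr.leaf) 95317 6
 Tr.leaf) 95319 7
 (Tr.node Tr.leaf 95325 5
 Tr.leaf))) 95327 6
 (Tr.node (Tr.node (Tr.node (Tr.node Tr.leaf 95333 6
 Tr.leaf) 95335 6
 Tr.leaf) 95341 6
 (Tr.node Tr.leaf 95343 6
 Tr.leaf)) 95349 6
 (Tr.node (Tr.node (Tr.node Tr.leaf 95351 6
 Tr.leaf) 95357 6
 Tr.leaf) 95359 7
 (Tr.node Tr.leaf 95361 6
 Tr.leaf))))) 95363 4
 (Tr.node (Tr.node (Tr.node (Tr.node (Tr.node (Tr.node Tr.leaf 95369 6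
 Tr.leaf) 95371 6
 Tr.leaf) 95377 6
 (Tr.node (Tr.node Tr.leaf 95379 4
 Tr.leaf) 95385 6
 Tr.leaf)) 95387 6
 (Tr.node (Tr.node (Tr.node Tr.leaf 95393 6
 Tr.leaf) 95395 6
 Tr.leaf) 95401 4
 (Tr.node Tr.leaf 95403 5
 Tr.leaf))) 95409 4
 (Tr.node (Tr.node (Tr.node (Tr.node Tr.leaf 95411 6
 Tr.leaf) 95417 4
 Tr.leaf) 95419 6
 (Tr.node Tr.leaf 95429 6
 Tr.leaf)) 95431 5
 (Tr.node (Tr.node (Tr.node Tr.leaf 95437 5
 Tr.leaf) 95439 6
 Tr.leaf) 95445 6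
 (Tr.node Tr.leaf 95447 5
 Tr.leaf)))) 95453 5
 (Tr.node (Tr.node (Tr.node (Tr.node (Tr.node Tr.leaf 95455 6
 Tr.leaf) 95461 6
 Tr.leaf) 95463 6
 (Tr.node (Tr.node Tr.leaf 95469 5
 Tr.leaf) 95471 6
 Tr.leaf)) 95477 6
 (Tr.node (Tr.node (Tr.node Tr.leaf 95479 5
 Tr.leaf) 95485 5
 Tr.leaf) 95487 6
 (Tr.node Tr.leaf 95493 6
 Tr.leaf))) 95495 5
 (Tr.node (Tr.node (Tr.node (Tr.node Tr.leaf 95501 6
 Tr.leaf) 95503 6
 Tr.leaf) 95509 6
 (Tr.node Tr.leaf 95511 6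
 Tr.leaf)) 95517 5
 (Tr.node (Tr.node (Tr.node Tr.leaf 95519 5
 Tr.leaf) 95525 6
 Tr.leaf) 95527 6
 (Tr.node Tr.leaf 95533 6
 Tr.leaf)))))))) 95535 6
 (Tr.node (Tr.node (Tr.node (Tr.node (Tr.node (Tr.node (Tr.node (Tr.node (Tr.node Tr.leaf 95541 6
 Tr.leaf) 95543 6
 Tr.leaf) 95549 6
 (Tr.node (Tr.node Tr.leaf 95551 6
 Tr.leaf) 95553 6
 Tr.leaf)) 95555 6
 (Tr.node (Tr.node (Tr.node Tr.leaf 95561 6
 Tr.leaf) 95563 6
 Tr.leaf) 95569 5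
 (Tr.node Tr.leaf 95571 6
 Tr.leaf))) 95577 5
 (Tr.node (Tr.node (Tr.node (Tr.node Tr.leaf 95579 6
 Tr.leaf) 95585 6
 Tr.leaf) 95587 6
 (Tr.node (Tr.node Tr.leaf 95593 6
 Tr.leaf) 95595 6
 Tr.leaf)) 95601 6
 (Tr.node (Tr.node (Tr.node Tr.leaf 95603 6
 Tr.leaf) 95609 6
 Tr.leaf) 95611 6
 (Tr.node Tr.leaf 95621 5
 Tr.leaf)))) 95623 6
 (Tr.node (Tr.node (Tr.node (Tr.node (Tr.node Tr.leaf 95629 6
 Tr.leaf) 95631 5
 Tr.leaf) 95637 5
 (Tr.node (Tr.node Tr.leaf 95639 5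
 Tr.leaf) 95645 5
 Tr.leaf)) 95647 6
 (Tr.node (Tr.node (Tr.node Tr.leaf 95653 6
 Tr.leaf) 95655 6
 Tr.leaf) 95661 5
 (Tr.node Tr.leaf 95663 5
 Tr.leaf))) 95669 6
 (Tr.node (Tr.node (Tr.node (Tr.node Tr.leaf 95671 6
 Tr.leaf) 95677 6
 Tr.leaf) 95679 6
 (Tr.node Tr.leaf 95681 6
 Tr.leaf)) 95683 5
 (Tr.node (Tr.node (Tr.node Tr.leaf 95689 5
 Tr.leaf) 95691 6
 Tr.leaf) 95697 5
 (Tr.node Tr.leaf 95699 6
 Tr.leaf))))) 95705 6
 (Tr.node (Tr.node (Tr.node (Tr.node (Tr.node (Tr.node Tr.leaf 95707 5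
 Tr.leaf) 95713 5
 Tr.leaf) 95715 6
 (Tr.node (Tr.node Tr.leaf 95721 5
 Tr.leaf) 95723 6
 Tr.leaf)) 95729 6
 (Tr.node (Tr.node (Tr.node Tr.leaf 95731 6
 Tr.leaf) 95737 6
 Tr.leaf) 95739 6
 (Tr.node Tr.leaf 96257 6
 Tr.leaf))) 96258 5
 (Tr.node (Tr.node (Tr.node (Tr.node Tr.leaf 96261 6
 Tr.leaf) 96262 6
 Tr.leaf) 96265 4
 (Tr.node Tr.leaf 96266 6
 Tr.leaf)) 96269 6
 (Tr.node (Tr.node (Tr.node Tr.leaf 96270 5
 Tr.leaf) 96273 6
 Tr.leaf) 96274 6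
 (Tr.node Tr.leaf 96277 4
 Tr.leaf)))) 96278 6
 (Tr.node (Tr.node (Tr.node (Tr.node (Tr.node Tr.leaf 96281 4
 Tr.leaf) 96282 6
 Tr.leaf) 96285 6
 (Tr.node (Tr.node Tr.leaf 96286 6
 Tr.leaf) 96289 7
 Tr.leaf)) 96290 6
 (Tr.node (Tr.node (Tr.node Tr.leaf 96293 6
 Tr.leaf) 96294 6
 Tr.leaf) 96297 6
 (Tr.node Tr.leaf 96298 4
 Tr.leaf))) 96301 6
 (Tr.node (Tr.node (Tr.node (Tr.node Tr.leaf 96302 5
 Tr.leaf) 96305 6
 Tr.leaf) 96306 6
 (Tr.node Tr.leaf 96309 6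
 Tr.leaf)) 96310 6
 (Tr.node (Tr.node (Tr.node Tr.leaf 96313 7
 Tr.leaf) 96314 5
 Tr.leaf) 96317 4
 (Tr.node Tr.leaf 96318 4
 Tr.leaf)))))) 96323 6
 (Tr.node (Tr.node (Tr.node (Tr.node (Tr.node (Tr.node (Tr.node Tr.leaf 96327 6
 Tr.leaf) 96331 6
 Tr.leaf) 96335 6
 (Tr.node (Tr.node Tr.leaf 96339 6
 Tr.leaf) 96343 5
 Tr.leaf)) 96347 6
 (Tr.node (Tr.node (Tr.node Tr.leaf 96351 6
 Tr.leaf) 96355 6
 Tr.leaf) 96359 5
 (Tr.node Tr.leaf 96363 6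
 Tr.leaf))) 96367 6
 (Tr.node (Tr.node (Tr.node (Tr.node Tr.leaf 96371 6
 Tr.leaf) 96375 6
 Tr.leaf) 96379 6
 (Tr.node (Tr.node Tr.leaf 96383 6
 Tr.leaf) 96385 7
 Tr.leaf)) 96386 5
 (Tr.node (Tr.node (Tr.node Tr.leaf 96389 4
 Tr.leaf) 96390 5
 Tr.leaf) 96393 4
 (Tr.node Tr.leaf 96394 6
 Tr.leaf)))) 96397 6
 (Tr.node (Tr.node (Tr.node (Tr.node (Tr.node Tr.leaf 96398 6
 Tr.leaf) 96401 5
 Tr.leaf) 96402 4
 (Tr.node (Tr.node Tr.leaf 96405 4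
 Tr.leaf) 96406 3
 Tr.leaf)) 96409 6
 (Tr.node (Tr.node (Tr.node Tr.leaf 96410 6
 Tr.leaf) 96413 5
 Tr.leaf) 96414 6
 (Tr.node Tr.leaf 96417 6
 Tr.leaf))) 96418 6
 (Tr.node (Tr.node (Tr.node (Tr.node Tr.leaf 96421 6
 Tr.leaf) 96422 6
 Tr.leaf) 96425 6
 (Tr.node Tr.leaf 96426 6
 Tr.leaf)) 96429 4
 (Tr.node (Tr.node (Tr.node Tr.leaf 96430 5
 Tr.leaf) 96433 6
 Tr.leaf) 96434 5
 (Tr.node Tr.leaf 96437 6
 Tr.leaf))))) 96438 6
 (Tr.node (Tr.node (Tr.node (Tr.node (Tr.node (Tr.node Tr.leaf 96441 5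
 Tr.leaf) 96442 6
 Tr.leaf) 96445 5
 (Tr.node (Tr.node Tr.leaf 96446 5
 Tr.leaf) 96451 6
 Tr.leaf)) 96455 6
 (Tr.node (Tr.node (Tr.node Tr.leaf 96459 6
 Tr.leaf) 96463 6
 Tr.leaf) 96467 6
 (Tr.node Tr.leaf 96471 6
 Tr.leaf))) 96475 5
 (Tr.node (Tr.node (Tr.node (Tr.node Tr.leaf 96479 6
 Tr.leaf) 96483 6
 Tr.leaf) 96487 6
 (Tr.node Tr.leaf 96491 6
 Tr.leaf)) 96495 6
 (Tr.node (Tr.node (Tr.node Tr.leaf 96499 6
 Tr.leaf) 96503 6
 Tr.leaf) 96507 5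
 (Tr.node Tr.leaf 96511 6
 Tr.leaf)))) 96515 6
 (Tr.node (Tr.node (Tr.node (Tr.node (Tr.node Tr.leaf 96519 6
 Tr.leaf) 96523 6
 Tr.leaf) 96527 6
 (Tr.node (Tr.node Tr.leaf 96531 6
 Tr.leaf) 96535 5
 Tr.leaf)) 96539 6
 (Tr.node (Tr.node (Tr.node Tr.leaf 96543 6
 Tr.leaf) 96547 6
 Tr.leaf) 96551 6
 (Tr.node Tr.leaf 96555 6
 Tr.leaf))) 96559 6
 (Tr.node (Tr.node (Tr.node (Tr.node Tr.leaf 96563 5
 Tr.leaf) 96567 6
 Tr.leaf) 96571 6
 (Tr.node Tr.leaf 96575 5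
 Tr.leaf)) 96577 6
 (Tr.node (Tr.node (Tr.node Tr.leaf 96578 6
 Tr.leaf) 96581 6
 Tr.leaf) 96582 6
 (Tr.node Tr.leaf 96585 6
 Tr.leaf))))))) 96586 5
 (Tr.node (Tr.node (Tr.node (Tr.node (Tr.node (Tr.node (Tr.node (Tr.node Tr.leaf 96589 6
 Tr.leaf) 96590 5
 Tr.leaf) 96593 6
 (Tr.node (Tr.node Tr.leaf 96594 6
 Tr.leaf) 96597 6
 Tr.leaf)) 96598 5
 (Tr.node (Tr.node (Tr.node Tr.leaf 96601 5
 Tr.leaf) 96602 6
 Tr.leaf) 96605 6
 (Tr.node Tr.leaf 96606 6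
 Tr.leaf))) 96609 6
 (Tr.node (Tr.node (Tr.node (Tr.node Tr.leaf 96610 6
 Tr.leaf) 96613 5
 Tr.leaf) 96614 5
 (Tr.node (Tr.node Tr.leaf 96617 6
 Tr.leaf) 96618 5
 Tr.leaf)) 96621 5
 (Tr.node (Tr.node (Tr.node Tr.leaf 96622 6
 Tr.leaf) 96625 6
 Tr.leaf) 96626 6
 (Tr.node Tr.leaf 96629 6
 Tr.leaf)))) 96630 5
 (Tr.node (Tr.node (Tr.node (Tr.node (Tr.node Tr.leaf 96633 6
 Tr.leaf) 96634 5
 Tr.leaf) 96637 6
 (Tr.node (Tr.node Tr.leaf 96638 6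
 Tr.leaf) 96643 6
 Tr.leaf)) 96647 6
 (Tr.node (Tr.node (Tr.node Tr.leaf 96651 6
 Tr.leaf) 96655 6
 Tr.leaf) 96659 5
 (Tr.node Tr.leaf 96663 6
 Tr.leaf))) 96667 6
 (Tr.node (Tr.node (Tr.node (Tr.node Tr.leaf 96671 5
 Tr.leaf) 96675 6
 Tr.leaf) 96679 5
 (Tr.node Tr.leaf 96683 6
 Tr.leaf)) 96687 5
 (Tr.node (Tr.node (Tr.node Tr.leaf 96691 6
 Tr.leaf) 96695 6
 Tr.leaf) 96699 6
 (Tr.node Tr.leaf 96703 6
 Tr.leaf))))) 96705 5
 (Tr.node (Tr.node (Tr.node (Tr.node (Tr.node (Tr.node Tr.leaf 96706 6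
 Tr.leaf) 96709 5
 Tr.leaf) 96710 5
 (Tr.node (Tr.node Tr.leaf 96713 6
 Tr.leaf) 96714 5
 Tr.leaf)) 96717 5
 (Tr.node (Tr.node (Tr.node Tr.leaf 96718 5
 Tr.leaf) 96721 6
 Tr.leaf) 96722 6
 (Tr.node Tr.leaf 96725 6
 Tr.leaf))) 96726 5
 (Tr.node (Tr.node (Tr.node (Tr.node Tr.leaf 96729 6
 Tr.leaf) 96730 5
 Tr.leaf) 96733 6
 (Tr.node Tr.leaf 96734 5
 Tr.leaf)) 96737 6
 (Tr.node (Tr.node (Tr.node Tr.leaf 96738 6
 Tr.leaf) 96741 6
 Tr.leaf) 96742 4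
 (Tr.node Tr.leaf 96745 6
 Tr.leaf)))) 96746 6
 (Tr.node (Tr.node (Tr.node (Tr.node (Tr.node Tr.leaf 96749 6
 Tr.leaf) 96750 6
 Tr.leaf) 96753 6
 (Tr.node (Tr.node Tr.leaf 96754 6
 Tr.leaf) 96757 6
 Tr.leaf)) 96758 6
 (Tr.node (Tr.node (Tr.node Tr.leaf 96761 6
 Tr.leaf) 96762 5
 Tr.leaf) 96765 6
 (Tr.node Tr.leaf 96766 5
 Tr.leaf))) 97345 6
 (Tr.node (Tr.node (Tr.node (Tr.node Tr.leaf 97347 6
 Tr.leaf) 97349 5
 Tr.leaf) 97351 5
 (Tr.node Tr.leaf 97353 5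
 Tr.leaf)) 97355 5
 (Tr.node (Tr.node (Tr.node Tr.leaf 97357 6
 Tr.leaf) 97359 5
 Tr.leaf) 97361 6
 (Tr.node Tr.leaf 97363 6
 Tr.leaf)))))) 97365 6
 (Tr.node (Tr.node (Tr.node (Tr.node (Tr.node (Tr.node (Tr.node Tr.leaf 97367 5
 Tr.leaf) 97369 6
 Tr.leaf) 97371 6
 (Tr.node (Tr.node Tr.leaf 97373 6
 Tr.leaf) 97375 6
 Tr.leaf)) 97377 6
 (Tr.node (Tr.node (Tr.node Tr.leaf 97379 6
 Tr.leaf) 97381 5
 Tr.leaf) 97383 6
 (Tr.node Tr.leaf 97385 6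
 Tr.leaf))) 97387 5
 (Tr.node (Tr.node (Tr.node (Tr.node Tr.leaf 97389 6
 Tr.leaf) 97391 5
 Tr.leaf) 97393 6
 (Tr.node (Tr.node Tr.leaf 97395 5
 Tr.leaf) 97397 5
 Tr.leaf)) 97399 6
 (Tr.node (Tr.node (Tr.node Tr.leaf 97401 6
 Tr.leaf) 97403 6
 Tr.leaf) 97405 6
 (Tr.node Tr.leaf 97407 5
 Tr.leaf)))) 97473 6
 (Tr.node (Tr.node (Tr.node (Tr.node (Tr.node Tr.leaf 97475 6
 Tr.leaf) 97477 5
 Tr.leaf) 97479 6
 (Tr.node (Tr.node Tr.leaf 97481 6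
 Tr.leaf) 97483 6
 Tr.leaf)) 97485 6
 (Tr.node (Tr.node (Tr.node Tr.leaf 97487 6
 Tr.leaf) 97489 5
 Tr.leaf) 97491 5
 (Tr.node Tr.leaf 97493 5
 Tr.leaf))) 97495 6
 (Tr.node (Tr.node (Tr.node (Tr.node Tr.leaf 97497 6
 Tr.leaf) 97499 6
 Tr.leaf) 97501 6
 (Tr.node Tr.leaf 97503 6
 Tr.leaf)) 97505 6
 (Tr.node (Tr.node (Tr.node Tr.leaf 97507 5
 Tr.leaf) 97509 6
 Tr.leaf) 97511 6
 (Tr.node Tr.leaf 97513 6
 Tr.leaf))))) 97515 6
 (Tr.node (Tr.node (Tr.node (Tr.node (Tr.node (Tr.node Tr.leaf 97517 6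
 Tr.leaf) 97519 6
 Tr.leaf) 97521 6
 (Tr.node (Tr.node Tr.leaf 97523 6
 Tr.leaf) 97525 5
 Tr.leaf)) 97527 5
 (Tr.node (Tr.node (Tr.node Tr.leaf 97529 5
 Tr.leaf) 97531 5
 Tr.leaf) 97533 6
 (Tr.node Tr.leaf 97535 5
 Tr.leaf))) 97537 6
 (Tr.node (Tr.node (Tr.node (Tr.node Tr.leaf 97539 6
 Tr.leaf) 97541 6
 Tr.leaf) 97543 6
 (Tr.node Tr.leaf 97545 6
 Tr.leaf)) 97547 5
 (Tr.node (Tr.node (Tr.node Tr.leaf 97549 6
 Tr.leaf) 97551 4
 Tr.leaf) 97553 5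
 (Tr.node Tr.leaf 97555 6
 Tr.leaf)))) 97557 5
 (Tr.node (Tr.node (Tr.node (Tr.node (Tr.node Tr.leaf 97559 6
 Tr.leaf) 97561 5
 Tr.leaf) 97563 6
 (Tr.node (Tr.node Tr.leaf 97565 6
 Tr.leaf) 97567 5
 Tr.leaf)) 97569 6
 (Tr.node (Tr.node (Tr.node Tr.leaf 97571 6
 Tr.leaf) 97573 6
 Tr.leaf) 97575 5
 (Tr.node Tr.leaf 97577 5
 Tr.leaf))) 97579 6
 (Tr.node (Tr.node (Tr.node (Tr.node Tr.leaf 97581 6
 Tr.leaf) 97583 6
 Tr.leaf) 97585 5
 (Tr.node Tr.leaf 97587 6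
 Tr.leaf)) 97589 4
 (Tr.node (Tr.node (Tr.node Tr.leaf 97591 6
 Tr.leaf) 97593 4
 Tr.leaf) 97595 6
 (Tr.node Tr.leaf 97597 6
 Tr.leaf)))))))))

/-- A subtree. -/
def tr2_s24 : Tr := (Tr.node (Tr.node (Tr.node (Tr.node (Tr.node (Tr.node (Tr.node (Tr.node (Tr.node (Tr.node Tr.leaf 97665 5
 Tr.leaf) 97667 6
 Tr.leaf) 97669 6
 (Tr.node (Tr.node Tr.leaf 97671 6
 Tr.leaf) 97673 6
 Tr.leaf)) 97675 6
 (Tr.node (Tr.node (Tr.node Tr.leaf 97677 6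
 Tr.leaf) 97679 5
 Tr.leaf) 97681 6
 (Tr.node Tr.leaf 97683 6
 Tr.leaf))) 97685 6
 (Tr.node (Tr.node (Tr.node (Tr.node Tr.leaf 97687 6
 Tr.leaf) 97689 6
 Tr.leaf) 97691 6
 (Tr.node (Tr.node Tr.leaf 97693 5
 Tr.leaf) 97695 6
 Tr.leaf)) 97697 5
 (Tr.node (Tr.node (Tr.node Tr.leaf 97699 6
 Tr.leaf) 97701 6
 Tr.leaf) 97703 6
 (Tr.node Tr.leaf 97705 5
 Tr.leaf)))) 97707 6
 (Tr.node (Tr.node (Tr.node (Tr.node (Tr.node Tr.leaf 97709 5
 Tr.leaf) 97711 5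
 Tr.leaf) 97713 6
 (Tr.node (Tr.node Tr.leaf 97715 6
 Tr.leaf) 97717 6
 Tr.leaf)) 97719 6
 (Tr.node (Tr.node (Tr.node Tr.leaf 97721 6
 Tr.leaf) 97723 6
 Tr.leaf) 97725 6
 (Tr.node Tr.leaf 97727 6
 Tr.leaf))) 98307 4
 (Tr.node (Tr.node (Tr.node (Tr.node Tr.leaf 98309 6
 Tr.leaf) 98310 6
 Tr.leaf) 98313 5
 (Tr.node Tr.leaf 98314 6
 Tr.leaf)) 98316 5
 (Tr.node (Tr.node (Tr.node Tr.leaf 98319 5
 Tr.leaf) 98321 6
 Tr.leaf) 98322 4
 (Tr.node Tr.leaf 98324 4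
 Tr.leaf))))) 98327 6
 (Tr.node (Tr.node (Tr.node (Tr.node (Tr.node (Tr.node Tr.leaf 98328 4
 Tr.leaf) 98331 6
 Tr.leaf) 98333 6
 (Tr.node (Tr.node Tr.leaf 98334 6
 Tr.leaf) 98337 4
 Tr.leaf)) 98338 4
 (Tr.node (Tr.node (Tr.node Tr.leaf 98340 4
 Tr.leaf) 98343 6
 Tr.leaf) 98344 7
 (Tr.node Tr.leaf 98347 7
 Tr.leaf))) 98349 7
 (Tr.node (Tr.node (Tr.node (Tr.node Tr.leaf 98350 6
 Tr.leaf) 98352 6
 Tr.leaf) 98355 6
 (Tr.node (Tr.node Tr.leaf 98357 6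
 Tr.leaf) 98358 5
 Tr.leaf)) 98361 4
 (Tr.node (Tr.node (Tr.node Tr.leaf 98362 6
 Tr.leaf) 98364 5
 Tr.leaf) 98367 6
 (Tr.node Tr.leaf 98371 4
 Tr.leaf)))) 98373 6
 (Tr.node (Tr.node (Tr.node (Tr.node (Tr.node Tr.leaf 98374 5
 Tr.leaf) 98377 4
 Tr.leaf) 98378 6
 (Tr.node (Tr.node Tr.leaf 98380 5
 Tr.leaf) 98383 3
 Tr.leaf)) 98385 6
 (Tr.node (Tr.node (Tr.node Tr.leaf 98386 4
 Tr.leaf) 98388 4
 Tr.leaf) 98391 4
 (Tr.node Tr.leaf 98392 5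
 Tr.leaf))) 98395 6
 (Tr.node (Tr.node (Tr.node (Tr.node Tr.leaf 98397 4
 Tr.leaf) 98398 3
 Tr.leaf) 98401 4
 (Tr.node Tr.leaf 98402 5
 Tr.leaf)) 98404 5
 (Tr.node (Tr.node (Tr.node Tr.leaf 98407 5
 Tr.leaf) 98408 6
 Tr.leaf) 98411 6
 (Tr.node Tr.leaf 98413 5
 Tr.leaf)))))) 98414 6
 (Tr.node (Tr.node (Tr.node (Tr.node (Tr.node (Tr.node (Tr.node Tr.leaf 98416 6
 Tr.leaf) 98419 3
 Tr.leaf) 98421 6
 (Tr.node (Tr.node Tr.leaf 98422 3
 Tr.leaf) 98425 6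
 Tr.leaf)) 98426 6
 (Tr.node (Tr.node (Tr.node Tr.leaf 98428 6
 Tr.leaf) 98431 6
 Tr.leaf) 98435 4
 (Tr.node Tr.leaf 98437 6
 Tr.leaf))) 98438 6
 (Tr.node (Tr.node (Tr.node (Tr.node Tr.leaf 98441 5
 Tr.leaf) 98442 6
 Tr.leaf) 98444 4
 (Tr.node (Tr.node Tr.leaf 98447 6
 Tr.leaf) 98449 6
 Tr.leaf)) 98450 5
 (Tr.node (Tr.node (Tr.node Tr.leaf 98452 4
 Tr.leaf) 98455 6
 Tr.leaf) 98456 3
 (Tr.node Tr.leaf 98459 6
 Tr.leaf)))) 98461 6
 (Tr.node (Tr.node (Tr.node (Tr.node (Tr.node Tr.leaf 98462 6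
 Tr.leaf) 98465 5
 Tr.leaf) 98466 4
 (Tr.node (Tr.node Tr.leaf 98468 4
 Tr.leaf) 98471 4
 Tr.leaf)) 98472 6
 (Tr.node (Tr.node (Tr.node Tr.leaf 98475 6
 Tr.leaf) 98477 6
 Tr.leaf) 98478 6
 (Tr.node Tr.leaf 98480 5
 Tr.leaf))) 98483 6
 (Tr.node (Tr.node (Tr.node (Tr.node Tr.leaf 98485 6
 Tr.leaf) 98486 4
 Tr.leaf) 98489 6
 (Tr.node Tr.leaf 98490 6
 Tr.leaf)) 98492 6
 (Tr.node (Tr.node (Tr.node Tr.leaf 98495 6
 Tr.leaf) 98499 4
 Tr.leaf) 98501 6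
 (Tr.node Tr.leaf 98502 5
 Tr.leaf))))) 98505 4
 (Tr.node (Tr.node (Tr.node (Tr.node (Tr.node (Tr.node Tr.leaf 98506 6
 Tr.leaf) 98508 4
 Tr.leaf) 98511 6
 (Tr.node (Tr.node Tr.leaf 98513 6
 Tr.leaf) 98514 5
 Tr.leaf)) 98516 4
 (Tr.node (Tr.node (Tr.node Tr.leaf 98519 6
 Tr.leaf) 98520 5
 Tr.leaf) 98523 5
 (Tr.node Tr.leaf 98525 6
 Tr.leaf))) 98526 6
 (Tr.node (Tr.node (Tr.node (Tr.node Tr.leaf 98529 5
 Tr.leaf) 98530 5
 Tr.leaf) 98532 4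
 (Tr.node Tr.leaf 98535 6
 Tr.leaf)) 98536 7
 (Tr.node (Tr.node (Tr.node Tr.leaf 98539 6
 Tr.leaf) 98541 6
 Tr.leaf) 98542 6
 (Tr.node Tr.leaf 98544 5
 Tr.leaf)))) 98547 6
 (Tr.node (Tr.node (Tr.node (Tr.node (Tr.node Tr.leaf 98549 6
 Tr.leaf) 98550 4
 Tr.leaf) 98553 6
 (Tr.node (Tr.node Tr.leaf 98554 6
 Tr.leaf) 98556 4
 Tr.leaf)) 98559 6
 (Tr.node (Tr.node (Tr.node Tr.leaf 98561 4
 Tr.leaf) 98562 4
 Tr.leaf) 98564 5
 (Tr.node Tr.leaf 98567 6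
 Tr.leaf))) 98568 4
 (Tr.node (Tr.node (Tr.node (Tr.node Tr.leaf 98571 6
 Tr.leaf) 98573 4
 Tr.leaf) 98574 5
 (Tr.node Tr.leaf 98576 4
 Tr.leaf)) 98579 7
 (Tr.node (Tr.node (Tr.node Tr.leaf 98581 5
 Tr.leaf) 98582 6
 Tr.leaf) 98585 4
 (Tr.node Tr.leaf 98586 6
 Tr.leaf))))))) 98588 4
 (Tr.node (Tr.node (Tr.node (Tr.node (Tr.node (Tr.node (Tr.node (Tr.node Tr.leaf 98591 7
 Tr.leaf) 98592 5
 Tr.leaf) 98595 6
 (Tr.node (Tr.node Tr.leaf 98597 6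
 Tr.leaf) 98598 6
 Tr.leaf)) 98601 6
 (Tr.node (Tr.node (Tr.node Tr.leaf 98602 6
 Tr.leaf) 98604 6
 Tr.leaf) 98607 6
 (Tr.node Tr.leaf 98609 4
 Tr.leaf))) 98610 6
 (Tr.node (Tr.node (Tr.node (Tr.node Tr.leaf 98612 6
 Tr.leaf) 98615 6
 Tr.leaf) 98616 6
 (Tr.node (Tr.node Tr.leaf 98619 6
 Tr.leaf) 98621 6
 Tr.leaf)) 98622 5
 (Tr.node (Tr.node (Tr.node Tr.leaf 98625 4
 Tr.leaf) 98626 5
 Tr.leaf) 98628 4
 (Tr.node Tr.leaf 98631 6
 Tr.leaf)))) 98632 4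
 (Tr.node (Tr.node (Tr.node (Tr.node (Tr.node Tr.leaf 98635 6
 Tr.leaf) 98637 5
 Tr.leaf) 98638 5
 (Tr.node (Tr.node Tr.leaf 98640 4
 Tr.leaf) 98643 3
 Tr.leaf)) 98645 6
 (Tr.node (Tr.node (Tr.node Tr.leaf 98646 6
 Tr.leaf) 98649 4
 Tr.leaf) 98650 6
 (Tr.node Tr.leaf 98652 6
 Tr.leaf))) 98655 6
 (Tr.node (Tr.node (Tr.node (Tr.node Tr.leaf 98656 4
 Tr.leaf) 98659 6
 Tr.leaf) 98661 6
 (Tr.node Tr.leaf 98662 5
 Tr.leaf)) 98665 6
 (Tr.node (Tr.node (Tr.node Tr.leaf 98666 6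
 Tr.leaf) 98668 4
 Tr.leaf) 98671 6
 (Tr.node Tr.leaf 98673 4
 Tr.leaf))))) 98674 4
 (Tr.node (Tr.node (Tr.node (Tr.node (Tr.node (Tr.node Tr.leaf 98676 6
 Tr.leaf) 98679 6
 Tr.leaf) 98680 6
 (Tr.node (Tr.node Tr.leaf 98683 6
 Tr.leaf) 98685 6
 Tr.leaf)) 98686 6
 (Tr.node (Tr.node (Tr.node Tr.leaf 98689 4
 Tr.leaf) 98690 5
 Tr.leaf) 98692 4
 (Tr.node Tr.leaf 98695 6
 Tr.leaf))) 98696 4
 (Tr.node (Tr.node (Tr.node (Tr.node Tr.leaf 98699 4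
 Tr.leaf) 98701 6
 Tr.leaf) 98702 6
 (Tr.node Tr.leaf 98704 5
 Tr.leaf)) 98707 6
 (Tr.node (Tr.node (Tr.node Tr.leaf 98709 5
 Tr.leaf) 98710 6
 Tr.leaf) 98713 6
 (Tr.node Tr.leaf 98714 5
 Tr.leaf)))) 98716 6
 (Tr.node (Tr.node (Tr.node (Tr.node (Tr.node Tr.leaf 98719 6
 Tr.leaf) 98720 4
 Tr.leaf) 98723 6
 (Tr.node (Tr.node Tr.leaf 98725 7
 Tr.leaf) 98726 5
 Tr.leaf)) 98729 5
 (Tr.node (Tr.node (Tr.node Tr.leaf 98730 6
 Tr.leaf) 98732 5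
 Tr.leaf) 98735 6
 (Tr.node Tr.leaf 98737 6
 Tr.leaf))) 98738 6
 (Tr.node (Tr.node (Tr.node (Tr.node Tr.leaf 98740 7
 Tr.leaf) 98743 5
 Tr.leaf) 98744 6
 (Tr.node Tr.leaf 98747 6
 Tr.leaf)) 98749 6
 (Tr.node (Tr.node (Tr.node Tr.leaf 98750 5
 Tr.leaf) 98753 5
 Tr.leaf) 98754 4
 (Tr.node Tr.leaf 98756 4
 Tr.leaf)))))) 98759 6
 (Tr.node (Tr.node (Tr.node (Tr.node (Tr.node (Tr.node (Tr.node Tr.leaf 98760 4
 Tr.leaf) 98763 6
 Tr.leaf) 98765 6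
 (Tr.node (Tr.node Tr.leaf 98766 6
 Tr.leaf) 98768 4
 Tr.leaf)) 98771 6
 (Tr.node (Tr.node (Tr.node Tr.leaf 98773 6
 Tr.leaf) 98774 6
 Tr.leaf) 98777 5
 (Tr.node Tr.leaf 98778 6
 Tr.leaf))) 98780 3
 (Tr.node (Tr.node (Tr.node (Tr.node Tr.leaf 98783 6
 Tr.leaf) 98784 4
 Tr.leaf) 98787 6
 (Tr.node (Tr.node Tr.leaf 98789 5
 Tr.leaf) 98790 6
 Tr.leaf)) 98793 4
 (Tr.node (Tr.node (Tr.node Tr.leaf 98794 5
 Tr.leaf) 98796 6
 Tr.leaf) 98799 6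
 (Tr.node Tr.leaf 98801 6
 Tr.leaf)))) 98802 4
 (Tr.node (Tr.node (Tr.node (Tr.node (Tr.node Tr.leaf 98804 4
 Tr.leaf) 98807 6
 Tr.leaf) 98808 6
 (Tr.node (Tr.node Tr.leaf 98811 5
 Tr.leaf) 98813 6
 Tr.leaf)) 98814 6
 (Tr.node (Tr.node (Tr.node Tr.leaf 99329 5
 Tr.leaf) 99331 4
 Tr.leaf) 99341 7
 (Tr.node Tr.leaf 99343 5
 Tr.leaf))) 99349 4
 (Tr.node (Tr.node (Tr.node (Tr.node Tr.leaf 99351 5
 Tr.leaf) 99353 6
 Tr.leaf) 99355 6
 (Tr.node Tr.leaf 99365 6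
 Tr.leaf)) 99367 6
 (Tr.node (Tr.node (Tr.node Tr.leaf 99369 4
 Tr.leaf) 99371 6
 Tr.leaf) 99377 4
 (Tr.node Tr.leaf 99379 6
 Tr.leaf))))) 99389 6
 (Tr.node (Tr.node (Tr.node (Tr.node (Tr.node (Tr.node Tr.leaf 99391 6
 Tr.leaf) 99393 4
 Tr.leaf) 99395 3
 (Tr.node (Tr.node Tr.leaf 99405 6
 Tr.leaf) 99407 6
 Tr.leaf)) 99413 4
 (Tr.node (Tr.node (Tr.node Tr.leaf 99415 6
 Tr.leaf) 99417 6
 Tr.leaf) 99419 6
 (Tr.node Tr.leaf 99429 4
 Tr.leaf))) 99431 5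
 (Tr.node (Tr.node (Tr.node (Tr.node Tr.leaf 99433 6
 Tr.leaf) 99435 5
 Tr.leaf) 99441 6
 (Tr.node Tr.leaf 99443 5
 Tr.leaf)) 99453 6
 (Tr.node (Tr.node (Tr.node Tr.leaf 99455 6
 Tr.leaf) 99457 3
 Tr.leaf) 99459 4
 (Tr.node Tr.leaf 99469 6
 Tr.leaf)))) 99471 4
 (Tr.node (Tr.node (Tr.node (Tr.node (Tr.node Tr.leaf 99477 6
 Tr.leaf) 99479 6
 Tr.leaf) 99481 6
 (Tr.node (Tr.node Tr.leaf 99483 6
 Tr.leaf) 99493 6
 Tr.leaf)) 99495 5
 (Tr.node (Tr.node (Tr.node Tr.leaf 99497 6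
 Tr.leaf) 99499 6
 Tr.leaf) 99505 6
 (Tr.node Tr.leaf 99507 4
 Tr.leaf))) 99517 6
 (Tr.node (Tr.node (Tr.node (Tr.node Tr.leaf 99519 6
 Tr.leaf) 99521 4
 Tr.leaf) 99523 5
 (Tr.node Tr.leaf 99533 6
 Tr.leaf)) 99535 6
 (Tr.node (Tr.node (Tr.node Tr.leaf 99541 6
 Tr.leaf) 99543 6
 Tr.leaf) 99545 6
 (Tr.node Tr.leaf 99547 6
 Tr.leaf)))))))) 99557 6
 (Tr.node (Tr.node (Tr.node (Tr.node (Tr.node (Tr.node (Tr.node (Tr.node (Tr.node Tr.leaf 99559 5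
 Tr.leaf) 99561 4
 Tr.leaf) 99563 6
 (Tr.node (Tr.node Tr.leaf 99569 4
 Tr.leaf) 99571 5
 Tr.leaf)) 99581 5
 (Tr.node (Tr.node (Tr.node Tr.leaf 99583 6
 Tr.leaf) 99589 6
 Tr.leaf) 99591 6
 (Tr.node Tr.leaf 99593 6
 Tr.leaf))) 99595 6
 (Tr.node (Tr.node (Tr.node (Tr.node Tr.leaf 99601 6
 Tr.leaf) 99603 4
 Tr.leaf) 99613 6
 (Tr.node (Tr.node Tr.leaf 99615 5
 Tr.leaf) 99617 5
 Tr.leaf)) 99619 5
 (Tr.node (Tr.node (Tr.node Tr.leaf 99629 6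
 Tr.leaf) 99631 6
 Tr.leaf) 99637 5
 (Tr.node Tr.leaf 99639 6
 Tr.leaf)))) 99641 6
 (Tr.node (Tr.node (Tr.node (Tr.node (Tr.node Tr.leaf 99643 6
 Tr.leaf) 99653 6
 Tr.leaf) 99655 6
 (Tr.node (Tr.node Tr.leaf 99657 6
 Tr.leaf) 99659 6
 Tr.leaf)) 99665 6
 (Tr.node (Tr.node (Tr.node Tr.leaf 99667 5
 Tr.leaf) 99677 6
 Tr.leaf) 99679 6
 (Tr.node Tr.leaf 99681 5
 Tr.leaf))) 99683 6
 (Tr.node (Tr.node (Tr.node (Tr.node Tr.leaf 99693 5
 Tr.leaf) 99695 6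
 Tr.leaf) 99701 5
 (Tr.node Tr.leaf 99703 6
 Tr.leaf)) 99705 6
 (Tr.node (Tr.node (Tr.node Tr.leaf 99707 6
 Tr.leaf) 99717 6
 Tr.leaf) 99719 6
 (Tr.node Tr.leaf 99721 6
 Tr.leaf))))) 99723 4
 (Tr.node (Tr.node (Tr.node (Tr.node (Tr.node (Tr.node Tr.leaf 99729 5
 Tr.leaf) 99731 4
 Tr.leaf) 99741 6
 (Tr.node (Tr.node Tr.leaf 99743 5
 Tr.leaf) 99745 5
 Tr.leaf)) 99747 6
 (Tr.node (Tr.node (Tr.node Tr.leaf 99757 6
 Tr.leaf) 99759 6
 Tr.leaf) 99765 6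
 (Tr.node Tr.leaf 99767 6
 Tr.leaf))) 99769 6
 (Tr.node (Tr.node (Tr.node (Tr.node Tr.leaf 99771 6
 Tr.leaf) 99781 6
 Tr.leaf) 99783 6
 (Tr.node (Tr.node Tr.leaf 99785 4
 Tr.leaf) 99787 4
 Tr.leaf)) 99793 6
 (Tr.node (Tr.node (Tr.node Tr.leaf 99795 6
 Tr.leaf) 99805 6
 Tr.leaf) 99807 6
 (Tr.node Tr.leaf 99809 6
 Tr.leaf)))) 99811 4
 (Tr.node (Tr.node (Tr.node (Tr.node (Tr.node Tr.leaf 99821 6
 Tr.leaf) 99823 6
 Tr.leaf) 99829 6
 (Tr.node (Tr.node Tr.leaf 99831 6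
 Tr.leaf) 99833 5
 Tr.leaf)) 99835 6
 (Tr.node (Tr.node (Tr.node Tr.leaf 100353 6
 Tr.leaf) 100354 6
 Tr.leaf) 100357 6
 (Tr.node Tr.leaf 100358 6
 Tr.leaf))) 100363 6
 (Tr.node (Tr.node (Tr.node (Tr.node Tr.leaf 100367 5
 Tr.leaf) 100371 6
 Tr.leaf) 100375 6
 (Tr.node Tr.leaf 100377 5
 Tr.leaf)) 100378 6
 (Tr.node (Tr.node (Tr.node Tr.leaf 100381 6
 Tr.leaf) 100382 6
 Tr.leaf) 100387 6
 (Tr.node Tr.leaf 100391 5
 Tr.leaf)))))) 100393 4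
 (Tr.node (Tr.node (Tr.node (Tr.node (Tr.node (Tr.node (Tr.node Tr.leaf 100394 6
 Tr.leaf) 100397 6
 Tr.leaf) 100398 6
 (Tr.node (Tr.node Tr.leaf 100401 6
 Tr.leaf) 100402 6
 Tr.leaf)) 100405 6
 (Tr.node (Tr.node (Tr.node Tr.leaf 100406 6
 Tr.leaf) 100411 6
 Tr.leaf) 100415 7
 (Tr.node Tr.leaf 100417 6
 Tr.leaf))) 100418 6
 (Tr.node (Tr.node (Tr.node (Tr.node Tr.leaf 100421 6
 Tr.leaf) 100422 6
 Tr.leaf) 100427 6
 (Tr.node (Tr.node Tr.leaf 100431 6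
 Tr.leaf) 100435 6
 Tr.leaf)) 100439 6
 (Tr.node (Tr.node (Tr.node Tr.leaf 100441 6
 Tr.leaf) 100442 4
 Tr.leaf) 100445 4
 (Tr.node Tr.leaf 100446 5
 Tr.leaf)))) 100451 5
 (Tr.node (Tr.node (Tr.node (Tr.node (Tr.node Tr.leaf 100455 6
 Tr.leaf) 100457 5
 Tr.leaf) 100458 6
 (Tr.node (Tr.node Tr.leaf 100461 6
 Tr.leaf) 100462 6
 Tr.leaf)) 100465 6
 (Tr.node (Tr.node (Tr.node Tr.leaf 100466 6
 Tr.leaf) 100469 5
 Tr.leaf) 100470 5
 (Tr.node Tr.leaf 100475 5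
 Tr.leaf))) 100479 6
 (Tr.node (Tr.node (Tr.node (Tr.node Tr.leaf 100481 6
 Tr.leaf) 100482 6
 Tr.leaf) 100485 6
 (Tr.node Tr.leaf 100486 6
 Tr.leaf)) 100491 6
 (Tr.node (Tr.node (Tr.node Tr.leaf 100495 5
 Tr.leaf) 100499 4
 Tr.leaf) 100503 6
 (Tr.node Tr.leaf 100505 6
 Tr.leaf))))) 100506 6
 (Tr.node (Tr.node (Tr.node (Tr.node (Tr.node (Tr.node Tr.leaf 100509 6
 Tr.leaf) 100510 5
 Tr.leaf) 100515 6
 (Tr.node (Tr.node Tr.leaf 100519 4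
 Tr.leaf) 100521 6
 Tr.leaf)) 100522 6
 (Tr.node (Tr.node (Tr.node Tr.leaf 100525 7
 Tr.leaf) 100526 6
 Tr.leaf) 100529 6
 (Tr.node Tr.leaf 100530 6
 Tr.leaf))) 100533 6
 (Tr.node (Tr.node (Tr.node (Tr.node Tr.leaf 100534 5
 Tr.leaf) 100539 6
 Tr.leaf) 100543 5
 (Tr.node Tr.leaf 100545 6
 Tr.leaf)) 100546 6
 (Tr.node (Tr.node (Tr.node Tr.leaf 100549 5
 Tr.leaf) 100550 6
 Tr.leaf) 100555 6
 (Tr.node Tr.leaf 100559 6
 Tr.leaf)))) 100563 6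
 (Tr.node (Tr.node (Tr.node (Tr.node (Tr.node Tr.leaf 100567 6
 Tr.leaf) 100569 6
 Tr.leaf) 100570 7
 (Tr.node (Tr.node Tr.leaf 100573 5
 Tr.leaf) 100574 6
 Tr.leaf)) 100579 6
 (Tr.node (Tr.node (Tr.node Tr.leaf 100583 6
 Tr.leaf) 100585 4
 Tr.leaf) 100586 6
 (Tr.node Tr.leaf 100589 6
 Tr.leaf))) 100590 6
 (Tr.node (Tr.node (Tr.node (Tr.node Tr.leaf 100593 6
 Tr.leaf) 100594 6
 Tr.leaf) 100597 6
 (Tr.node Tr.leaf 100598 6
 Tr.leaf)) 100603 5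
 (Tr.node (Tr.node (Tr.node Tr.leaf 100607 6
 Tr.leaf) 100611 6
 Tr.leaf) 100615 5
 (Tr.node Tr.leaf 100617 4
 Tr.leaf))))))) 100618 6
 (Tr.node (Tr.node (Tr.node (Tr.node (Tr.node (Tr.node (Tr.node (Tr.node Tr.leaf 100621 6
 Tr.leaf) 100622 6
 Tr.leaf) 100625 6
 (Tr.node (Tr.node Tr.leaf 100626 5
 Tr.leaf) 100629 6
 Tr.leaf)) 100630 6
 (Tr.node (Tr.node (Tr.node Tr.leaf 100635 6
 Tr.leaf) 100639 6
 Tr.leaf) 100641 4
 (Tr.node Tr.leaf 100642 6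
 Tr.leaf))) 100645 5
 (Tr.node (Tr.node (Tr.node (Tr.node Tr.leaf 100646 4
 Tr.leaf) 100651 6
 Tr.leaf) 100655 6
 (Tr.node (Tr.node Tr.leaf 100659 5
 Tr.leaf) 100663 6
 Tr.leaf)) 100665 6
 (Tr.node (Tr.node (Tr.node Tr.leaf 100666 6
 Tr.leaf) 100669 6
 Tr.leaf) 100670 4
 (Tr.node Tr.leaf 100675 6
 Tr.leaf)))) 100679 6
 (Tr.node (Tr.node (Tr.node (Tr.node (Tr.node Tr.leaf 100681 6
 Tr.leaf) 100682 6
 Tr.leaf) 100685 4
 (Tr.node (Tr.node Tr.leaf 100686 6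
 Tr.leaf) 100689 6
 Tr.leaf)) 100690 5
 (Tr.node (Tr.node (Tr.node Tr.leaf 100693 4
 Tr.leaf) 100694 6
 Tr.leaf) 100699 5
 (Tr.node Tr.leaf 100703 6
 Tr.leaf))) 100705 6
 (Tr.node (Tr.node (Tr.node (Tr.node Tr.leaf 100706 6
 Tr.leaf) 100709 4
 Tr.leaf) 100710 6
 (Tr.node Tr.leaf 100715 5
 Tr.leaf)) 100719 6
 (Tr.node (Tr.node (Tr.node Tr.leaf 100723 6
 Tr.leaf) 100727 6
 Tr.leaf) 100729 6
 (Tr.node Tr.leaf 100730 6
 Tr.leaf))))) 100733 6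
 (Tr.node (Tr.node (Tr.node (Tr.node (Tr.node (Tr.node Tr.leaf 100734 5
 Tr.leaf) 100739 6
 Tr.leaf) 100743 6
 (Tr.node (Tr.node Tr.leaf 100745 6
 Tr.leaf) 100746 6
 Tr.leaf)) 100749 6
 (Tr.node (Tr.node (Tr.node Tr.leaf 100750 5
 Tr.leaf) 100753 6
 Tr.leaf) 100754 6
 (Tr.node Tr.leaf 100757 6
 Tr.leaf))) 100758 6
 (Tr.node (Tr.node (Tr.node (Tr.node Tr.leaf 100763 6
 Tr.leaf) 100767 5
 Tr.leaf) 100769 6
 (Tr.node Tr.leaf 100770 6
 Tr.leaf)) 100773 6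
 (Tr.node (Tr.node (Tr.node Tr.leaf 100774 6
 Tr.leaf) 100779 6
 Tr.leaf) 100783 6
 (Tr.node Tr.leaf 100787 6
 Tr.leaf)))) 100791 6
 (Tr.node (Tr.node (Tr.node (Tr.node (Tr.node Tr.leaf 100793 6
 Tr.leaf) 100794 6
 Tr.leaf) 100797 6
 (Tr.node (Tr.node Tr.leaf 100798 6
 Tr.leaf) 100803 6
 Tr.leaf)) 100807 6
 (Tr.node (Tr.node (Tr.node Tr.leaf 100809 6
 Tr.leaf) 100810 6
 Tr.leaf) 100813 6
 (Tr.node Tr.leaf 100814 5
 Tr.leaf))) 100817 6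
 (Tr.node (Tr.node (Tr.node (Tr.node Tr.leaf 100818 6
 Tr.leaf) 100821 6
 Tr.leaf) 100822 6
 (Tr.node Tr.leaf 100827 5
 Tr.leaf)) 100831 6
 (Tr.node (Tr.node (Tr.node Tr.leaf 100833 5
 Tr.leaf) 100834 3
 Tr.leaf) 100837 6
 (Tr.node Tr.leaf 100838 6
 Tr.leaf)))))) 100843 6
 (Tr.node (Tr.node (Tr.node (Tr.node (Tr.node (Tr.node (Tr.node Tr.leaf 100847 6
 Tr.leaf) 100851 6
 Tr.leaf) 100855 6
 (Tr.node (Tr.node Tr.leaf 100857 6
 Tr.leaf) 100858 6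
 Tr.leaf)) 100861 6
 (Tr.node (Tr.node (Tr.node Tr.leaf 100862 5
 Tr.leaf) 101385 4
 Tr.leaf) 101387 6
 (Tr.node Tr.leaf 101389 6
 Tr.leaf))) 101391 6
 (Tr.node (Tr.node (Tr.node (Tr.node Tr.leaf 101393 5
 Tr.leaf) 101395 6
 Tr.leaf) 101397 6
 (Tr.node (Tr.node Tr.leaf 101399 6
 Tr.leaf) 101409 6
 Tr.leaf)) 101411 4
 (Tr.node (Tr.node (Tr.node Tr.leaf 101413 5
 Tr.leaf) 101415 4
 Tr.leaf) 101433 6
 (Tr.node Tr.leaf 101435 5
 Tr.leaf)))) 101437 5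
 (Tr.node (Tr.node (Tr.node (Tr.node (Tr.node Tr.leaf 101439 6
 Tr.leaf) 101449 6
 Tr.leaf) 101451 6
 (Tr.node (Tr.node Tr.leaf 101453 4
 Tr.leaf) 101455 6
 Tr.leaf)) 101457 6
 (Tr.node (Tr.node (Tr.node Tr.leaf 101459 6
 Tr.leaf) 101461 6
 Tr.leaf) 101463 5
 (Tr.node Tr.leaf 101473 6
 Tr.leaf))) 101475 7
 (Tr.node (Tr.node (Tr.node (Tr.node Tr.leaf 101477 4
 Tr.leaf) 101479 6
 Tr.leaf) 101497 5
 (Tr.node Tr.leaf 101499 6
 Tr.leaf)) 101501 6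
 (Tr.node (Tr.node (Tr.node Tr.leaf 101503 6
 Tr.leaf) 101513 6
 Tr.leaf) 101515 6
 (Tr.node Tr.leaf 101517 6
 Tr.leaf))))) 101519 6
 (Tr.node (Tr.node (Tr.node (Tr.node (Tr.node (Tr.node Tr.leaf 101521 5
 Tr.leaf) 101523 4
 Tr.leaf) 101525 6
 (Tr.node (Tr.node Tr.leaf 101527 6
 Tr.leaf) 101537 6
 Tr.leaf)) 101539 6
 (Tr.node (Tr.node (Tr.node Tr.leaf 101541 6
 Tr.leaf) 101543 6
 Tr.leaf) 101561 6
 (Tr.node Tr.leaf 101563 6
 Tr.leaf))) 101565 6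
 (Tr.node (Tr.node (Tr.node (Tr.node Tr.leaf 101567 6
 Tr.leaf) 101577 6
 Tr.leaf) 101579 4
 (Tr.node Tr.leaf 101581 4
 Tr.leaf)) 101583 6
 (Tr.node (Tr.node (Tr.node Tr.leaf 101585 5
 Tr.leaf) 101587 4
 Tr.leaf) 101589 6
 (Tr.node Tr.leaf 101591 6
 Tr.leaf)))) 101601 5
 (Tr.node (Tr.node (Tr.node (Tr.node (Tr.node Tr.leaf 101603 4
 Tr.leaf) 101605 6
 Tr.leaf) 101607 6
 (Tr.node (Tr.node Tr.leaf 101625 6
 Tr.leaf) 101627 6
 Tr.leaf)) 101629 6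
 (Tr.node (Tr.node (Tr.node Tr.leaf 101631 6
 Tr.leaf) 101633 6
 Tr.leaf) 101635 6
 (Tr.node Tr.leaf 101637 6
 Tr.leaf))) 101639 6
 (Tr.node (Tr.node (Tr.node (Tr.node Tr.leaf 101657 6
 Tr.leaf) 101659 6
 Tr.leaf) 101661 6
 (Tr.node Tr.leaf 101663 5
 Tr.leaf)) 101673 6
 (Tr.node (Tr.node (Tr.node Tr.leaf 101675 6
 Tr.leaf) 101677 5
 Tr.leaf) 101679 5
 (Tr.node Tr.leaf 101681 5
 Tr.leaf)))))))))

/-- A subtree. -/
def tr2_s25 : Tr := (Tr.node (Tr.node (Tr.node (Tr.node (Tr.node (Tr.node (Tr.node (Tr.node (Tr.node (Tr.node Tr.leaf 101685 6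
 Tr.leaf) 101687 6
 Tr.leaf) 101697 6
 (Tr.node (Tr.node Tr.leaf 101699 5
 Tr.leaf) 101701 6
 Tr.leaf)) 101703 5
 (Tr.node (Tr.node (Tr.node Tr.leaf 101721 7
 Tr.leaf) 101723 6
 Tr.leaf) 101725 6
 (Tr.node Tr.leaf 101727 6
 Tr.leaf))) 101737 6
 (Tr.node (Tr.node (Tr.node (Tr.node Tr.leaf 101739 6
 Tr.leaf) 101741 6
 Tr.leaf) 101743 6
 (Tr.node (Tr.node Tr.leaf 101745 6
 Tr.leaf) 101747 6
 Tr.leaf)) 101749 6
 (Tr.node (Tr.node (Tr.node Tr.leaf 101751 6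
 Tr.leaf) 101761 6
 Tr.leaf) 101763 6
 (Tr.node Tr.leaf 101765 5
 Tr.leaf)))) 101767 6
 (Tr.node (Tr.node (Tr.node (Tr.node (Tr.node Tr.leaf 101785 6
 Tr.leaf) 101787 5
 Tr.leaf) 101789 6
 (Tr.node (Tr.node Tr.leaf 101791 6
 Tr.leaf) 101801 6
 Tr.leaf)) 101803 5
 (Tr.node (Tr.node (Tr.node Tr.leaf 101805 6
 Tr.leaf) 101807 5
 Tr.leaf) 101809 6
 (Tr.node Tr.leaf 101811 6
 Tr.leaf))) 101813 6
 (Tr.node (Tr.node (Tr.node (Tr.node Tr.leaf 101815 6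
 Tr.leaf) 101825 6
 Tr.leaf) 101827 6
 (Tr.node Tr.leaf 101829 6
 Tr.leaf)) 101831 7
 (Tr.node (Tr.node (Tr.node Tr.leaf 101849 5
 Tr.leaf) 101851 6
 Tr.leaf) 101853 6
 (Tr.node Tr.leaf 101855 7
 Tr.leaf))))) 101865 6
 (Tr.node (Tr.node (Tr.node (Tr.node (Tr.node (Tr.node Tr.leaf 101867 6
 Tr.leaf) 101869 6
 Tr.leaf) 101871 6
 (Tr.node (Tr.node Tr.leaf 101873 6
 Tr.leaf) 101875 6
 Tr.leaf)) 101877 6
 (Tr.node (Tr.node (Tr.node Tr.leaf 101879 6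
 Tr.leaf) 102401 4
 Tr.leaf) 102402 6
 (Tr.node Tr.leaf 102404 4
 Tr.leaf))) 102407 6
 (Tr.node (Tr.node (Tr.node (Tr.node Tr.leaf 102409 4
 Tr.leaf) 102410 6
 Tr.leaf) 102412 4
 (Tr.node (Tr.node Tr.leaf 102415 6
 Tr.leaf) 102419 6
 Tr.leaf)) 102421 6
 (Tr.node (Tr.node (Tr.node Tr.leaf 102422 6
 Tr.leaf) 102427 6
 Tr.leaf) 102429 4
 (Tr.node Tr.leaf 102430 5
 Tr.leaf)))) 102435 5
 (Tr.node (Tr.node (Tr.node (Tr.node (Tr.node Tr.leaf 102437 6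
 Tr.leaf) 102438 6
 Tr.leaf) 102443 6
 (Tr.node (Tr.node Tr.leaf 102445 6
 Tr.leaf) 102446 6
 Tr.leaf)) 102449 6
 (Tr.node (Tr.node (Tr.node Tr.leaf 102450 6
 Tr.leaf) 102452 5
 Tr.leaf) 102455 6
 (Tr.node Tr.leaf 102457 4
 Tr.leaf))) 102458 6
 (Tr.node (Tr.node (Tr.node (Tr.node Tr.leaf 102460 6
 Tr.leaf) 102463 6
 Tr.leaf) 102465 4
 (Tr.node Tr.leaf 102466 6
 Tr.leaf)) 102468 4
 (Tr.node (Tr.node (Tr.node Tr.leaf 102471 6
 Tr.leaf) 102473 4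
 Tr.leaf) 102474 5
 (Tr.node Tr.leaf 102476 4
 Tr.leaf)))))) 102479 6
 (Tr.node (Tr.node (Tr.node (Tr.node (Tr.node (Tr.node (Tr.node Tr.leaf 102483 6
 Tr.leaf) 102485 5
 Tr.leaf) 102486 6
 (Tr.node (Tr.node Tr.leaf 102491 6
 Tr.leaf) 102493 6
 Tr.leaf)) 102494 6
 (Tr.node (Tr.node (Tr.node Tr.leaf 102499 5
 Tr.leaf) 102501 4
 Tr.leaf) 102502 6
 (Tr.node Tr.leaf 102507 4
 Tr.leaf))) 102509 6
 (Tr.node (Tr.node (Tr.node (Tr.node Tr.leaf 102510 6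
 Tr.leaf) 102513 5
 Tr.leaf) 102514 3
 (Tr.node (Tr.node Tr.leaf 102516 3
 Tr.leaf) 102519 6
 Tr.leaf)) 102521 5
 (Tr.node (Tr.node (Tr.node Tr.leaf 102522 6
 Tr.leaf) 102524 6
 Tr.leaf) 102527 6
 (Tr.node Tr.leaf 102529 4
 Tr.leaf)))) 102530 6
 (Tr.node (Tr.node (Tr.node (Tr.node (Tr.node Tr.leaf 102532 4
 Tr.leaf) 102535 4
 Tr.leaf) 102537 4
 (Tr.node (Tr.node Tr.leaf 102538 6
 Tr.leaf) 102540 5
 Tr.leaf)) 102543 6
 (Tr.node (Tr.node (Tr.node Tr.leaf 102547 6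
 Tr.leaf) 102549 4
 Tr.leaf) 102550 5
 (Tr.node Tr.leaf 102555 6
 Tr.leaf))) 102557 6
 (Tr.node (Tr.node (Tr.node (Tr.node Tr.leaf 102558 6
 Tr.leaf) 102563 6
 Tr.leaf) 102565 4
 (Tr.node Tr.leaf 102566 6
 Tr.leaf)) 102571 5
 (Tr.node (Tr.node (Tr.node Tr.leaf 102573 5
 Tr.leaf) 102574 6
 Tr.leaf) 102577 4
 (Tr.node Tr.leaf 102578 6
 Tr.leaf))))) 102580 6
 (Tr.node (Tr.node (Tr.node (Tr.node (Tr.node (Tr.node Tr.leaf 102583 6
 Tr.leaf) 102585 4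
 Tr.leaf) 102586 3
 (Tr.node (Tr.node Tr.leaf 102588 3
 Tr.leaf) 102591 6
 Tr.leaf)) 102593 4
 (Tr.node (Tr.node (Tr.node Tr.leaf 102594 6
 Tr.leaf) 102596 4
 Tr.leaf) 102599 5
 (Tr.node Tr.leaf 102601 5
 Tr.leaf))) 102602 5
 (Tr.node (Tr.node (Tr.node (Tr.node Tr.leaf 102604 5
 Tr.leaf) 102607 6
 Tr.leaf) 102611 6
 (Tr.node Tr.leaf 102613 6
 Tr.leaf)) 102614 6
 (Tr.node (Tr.node (Tr.node Tr.leaf 102619 6
 Tr.leaf) 102621 5
 Tr.leaf) 102622 4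
 (Tr.node Tr.leaf 102627 7
 Tr.leaf)))) 102629 5
 (Tr.node (Tr.node (Tr.node (Tr.node (Tr.node Tr.leaf 102630 6
 Tr.leaf) 102635 6
 Tr.leaf) 102637 6
 (Tr.node (Tr.node Tr.leaf 102638 6
 Tr.leaf) 102641 6
 Tr.leaf)) 102642 6
 (Tr.node (Tr.node (Tr.node Tr.leaf 102644 6
 Tr.leaf) 102647 6
 Tr.leaf) 102649 6
 (Tr.node Tr.leaf 102650 5
 Tr.leaf))) 102652 6
 (Tr.node (Tr.node (Tr.node (Tr.node Tr.leaf 102655 6
 Tr.leaf) 102659 6
 Tr.leaf) 102661 6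
 (Tr.node Tr.leaf 102662 4
 Tr.leaf)) 102667 6
 (Tr.node (Tr.node (Tr.node Tr.leaf 102669 6
 Tr.leaf) 102670 5
 Tr.leaf) 102673 7
 (Tr.node Tr.leaf 102674 6
 Tr.leaf))))))) 102676 6
 (Tr.node (Tr.node (Tr.node (Tr.node (Tr.node (Tr.node (Tr.node (Tr.node Tr.leaf 102679 5
 Tr.leaf) 102681 6
 Tr.leaf) 102682 6
 (Tr.node (Tr.node Tr.leaf 102684 6
 Tr.leaf) 102687 5
 Tr.leaf)) 102689 5
 (Tr.node (Tr.node (Tr.node Tr.leaf 102690 3
 Tr.leaf) 102692 6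
 Tr.leaf) 102695 6
 (Tr.node Tr.leaf 102697 4
 Tr.leaf))) 102698 5
 (Tr.node (Tr.node (Tr.node (Tr.node Tr.leaf 102700 6
 Tr.leaf) 102703 7
 Tr.leaf) 102707 6
 (Tr.node (Tr.node Tr.leaf 102709 6
 Tr.leaf) 102710 5
 Tr.leaf)) 102715 6
 (Tr.node (Tr.node (Tr.node Tr.leaf 102717 6
 Tr.leaf) 102718 5
 Tr.leaf) 102723 6
 (Tr.node Tr.leaf 102725 6
 Tr.leaf)))) 102726 5
 (Tr.node (Tr.node (Tr.node (Tr.node (Tr.node Tr.leaf 102731 4
 Tr.leaf) 102733 5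
 Tr.leaf) 102734 4
 (Tr.node (Tr.node Tr.leaf 102737 5
 Tr.leaf) 102738 6
 Tr.leaf)) 102740 6
 (Tr.node (Tr.node (Tr.node Tr.leaf 102743 6
 Tr.leaf) 102745 6
 Tr.leaf) 102746 6
 (Tr.node Tr.leaf 102748 6
 Tr.leaf))) 102751 6
 (Tr.node (Tr.node (Tr.node (Tr.node Tr.leaf 102753 7
 Tr.leaf) 102754 6
 Tr.leaf) 102756 5
 (Tr.node Tr.leaf 102759 6
 Tr.leaf)) 102761 3
 (Tr.node (Tr.node (Tr.node Tr.leaf 102762 3
 Tr.leaf) 102764 4
 Tr.leaf) 102767 6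
 (Tr.node Tr.leaf 102771 6
 Tr.leaf))))) 102773 6
 (Tr.node (Tr.node (Tr.node (Tr.node (Tr.node (Tr.node Tr.leaf 102774 6
 Tr.leaf) 102779 6
 Tr.leaf) 102781 6
 (Tr.node (Tr.node Tr.leaf 102782 6
 Tr.leaf) 102787 7
 Tr.leaf)) 102789 5
 (Tr.node (Tr.node (Tr.node Tr.leaf 102790 6
 Tr.leaf) 102795 6
 Tr.leaf) 102797 6
 (Tr.node Tr.leaf 102798 6
 Tr.leaf))) 102801 4
 (Tr.node (Tr.node (Tr.node (Tr.node Tr.leaf 102802 6
 Tr.leaf) 102804 6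
 Tr.leaf) 102807 6
 (Tr.node Tr.leaf 102809 5
 Tr.leaf)) 102810 6
 (Tr.node (Tr.node (Tr.node Tr.leaf 102812 4
 Tr.leaf) 102815 5
 Tr.leaf) 102817 5
 (Tr.node Tr.leaf 102818 5
 Tr.leaf)))) 102820 4
 (Tr.node (Tr.node (Tr.node (Tr.node (Tr.node Tr.leaf 102823 6
 Tr.leaf) 102825 6
 Tr.leaf) 102826 6
 (Tr.node (Tr.node Tr.leaf 102828 4
 Tr.leaf) 102831 6
 Tr.leaf)) 102835 6
 (Tr.node (Tr.node (Tr.node Tr.leaf 102837 5
 Tr.leaf) 102838 5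
 Tr.leaf) 102843 6
 (Tr.node Tr.leaf 102845 6
 Tr.leaf))) 102846 6
 (Tr.node (Tr.node (Tr.node (Tr.node Tr.leaf 102851 6
 Tr.leaf) 102853 4
 Tr.leaf) 102854 6
 (Tr.node Tr.leaf 102859 6
 Tr.leaf)) 102861 6
 (Tr.node (Tr.node (Tr.node Tr.leaf 102862 6
 Tr.leaf) 102865 5
 Tr.leaf) 102866 6
 (Tr.node Tr.leaf 102868 5
 Tr.leaf)))))) 102871 6
 (Tr.node (Tr.node (Tr.node (Tr.node (Tr.node (Tr.node (Tr.node Tr.leaf 102873 6
 Tr.leaf) 102874 6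
 Tr.leaf) 102876 6
 (Tr.node (Tr.node Tr.leaf 102879 6
 Tr.leaf) 102881 6
 Tr.leaf)) 102882 6
 (Tr.node (Tr.node (Tr.node Tr.leaf 102884 6
 Tr.leaf) 102887 6
 Tr.leaf) 102889 6
 (Tr.node Tr.leaf 102890 3
 Tr.leaf))) 102892 6
 (Tr.node (Tr.node (Tr.node (Tr.node Tr.leaf 102895 5
 Tr.leaf) 102899 5
 Tr.leaf) 102901 6
 (Tr.node (Tr.node Tr.leaf 102902 6
 Tr.leaf) 102907 6
 Tr.leaf)) 102909 6
 (Tr.node (Tr.node (Tr.node Tr.leaf 102910 6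
 Tr.leaf) 103429 6
 Tr.leaf) 103431 6
 (Tr.node Tr.leaf 103437 5
 Tr.leaf)))) 103439 7
 (Tr.node (Tr.node (Tr.node (Tr.node (Tr.node Tr.leaf 103441 7
 Tr.leaf) 103443 6
 Tr.leaf) 103449 6
 (Tr.node (Tr.node Tr.leaf 103451 6
 Tr.leaf) 103457 6
 Tr.leaf)) 103459 6
 (Tr.node (Tr.node (Tr.node Tr.leaf 103465 5
 Tr.leaf) 103467 6
 Tr.leaf) 103477 6
 (Tr.node Tr.leaf 103479 5
 Tr.leaf))) 103485 6
 (Tr.node (Tr.node (Tr.node (Tr.node Tr.leaf 103487 5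
 Tr.leaf) 103493 4
 Tr.leaf) 103495 6
 (Tr.node Tr.leaf 103501 6
 Tr.leaf)) 103503 6
 (Tr.node (Tr.node (Tr.node Tr.leaf 103505 6
 Tr.leaf) 103507 5
 Tr.leaf) 103513 6
 (Tr.node Tr.leaf 103515 6
 Tr.leaf))))) 103521 6
 (Tr.node (Tr.node (Tr.node (Tr.node (Tr.node (Tr.node Tr.leaf 103523 6
 Tr.leaf) 103529 6
 Tr.leaf) 103531 6
 (Tr.node (Tr.node Tr.leaf 103541 6
 Tr.leaf) 103543 6
 Tr.leaf)) 103549 6
 (Tr.node (Tr.node (Tr.node Tr.leaf 103551 6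
 Tr.leaf) 103557 6
 Tr.leaf) 103559 6
 (Tr.node Tr.leaf 103565 6
 Tr.leaf))) 103567 6
 (Tr.node (Tr.node (Tr.node (Tr.node Tr.leaf 103569 5
 Tr.leaf) 103571 6
 Tr.leaf) 103577 5
 (Tr.node Tr.leaf 103579 6
 Tr.leaf)) 103585 6
 (Tr.node (Tr.node (Tr.node Tr.leaf 103587 4
 Tr.leaf) 103593 7
 Tr.leaf) 103595 5
 (Tr.node Tr.leaf 103605 6
 Tr.leaf)))) 103607 5
 (Tr.node (Tr.node (Tr.node (Tr.node (Tr.node Tr.leaf 103613 6
 Tr.leaf) 103615 5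
 Tr.leaf) 103621 5
 (Tr.node (Tr.node Tr.leaf 103623 6
 Tr.leaf) 103629 6
 Tr.leaf)) 103631 4
 (Tr.node (Tr.node (Tr.node Tr.leaf 103633 6
 Tr.leaf) 103635 6
 Tr.leaf) 103641 6
 (Tr.node Tr.leaf 103643 6
 Tr.leaf))) 103649 5
 (Tr.node (Tr.node (Tr.node (Tr.node Tr.leaf 103651 5
 Tr.leaf) 103657 6
 Tr.leaf) 103659 7
 (Tr.node Tr.leaf 103669 6
 Tr.leaf)) 103671 5
 (Tr.node (Tr.node (Tr.node Tr.leaf 103677 6
 Tr.leaf) 103679 6
 Tr.leaf) 103681 7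
 (Tr.node Tr.leaf 103683 6
 Tr.leaf)))))))) 103689 4
 (Tr.node (Tr.node (Tr.node (Tr.node (Tr.node (Tr.node (Tr.node (Tr.node (Tr.node Tr.leaf 103691 5
 Tr.leaf) 103701 7
 Tr.leaf) 103703 6
 (Tr.node (Tr.node Tr.leaf 103709 6
 Tr.leaf) 103711 5
 Tr.leaf)) 103717 6
 (Tr.node (Tr.node (Tr.node Tr.leaf 103719 6
 Tr.leaf) 103725 6
 Tr.leaf) 103727 6
 (Tr.node Tr.leaf 103729 6
 Tr.leaf))) 103731 6
 (Tr.node (Tr.node (Tr.node (Tr.node Tr.leaf 103737 6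
 Tr.leaf) 103739 6
 Tr.leaf) 103745 6
 (Tr.node (Tr.node Tr.leaf 103747 6
 Tr.leaf) 103753 4
 Tr.leaf)) 103755 5
 (Tr.node (Tr.node (Tr.node Tr.leaf 103765 6
 Tr.leaf) 103767 6
 Tr.leaf) 103773 5
 (Tr.node Tr.leaf 103775 6
 Tr.leaf)))) 103781 6
 (Tr.node (Tr.node (Tr.node (Tr.node (Tr.node Tr.leaf 103783 6
 Tr.leaf) 103789 6
 Tr.leaf) 103791 6
 (Tr.node (Tr.node Tr.leaf 103793 6
 Tr.leaf) 103795 6
 Tr.leaf)) 103801 6
 (Tr.node (Tr.node (Tr.node Tr.leaf 103803 6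
 Tr.leaf) 103809 5
 Tr.leaf) 103811 6
 (Tr.node Tr.leaf 103817 6
 Tr.leaf))) 103819 6
 (Tr.node (Tr.node (Tr.node (Tr.node Tr.leaf 103829 6
 Tr.leaf) 103831 5
 Tr.leaf) 103837 6
 (Tr.node Tr.leaf 103839 6
 Tr.leaf)) 103845 6
 (Tr.node (Tr.node (Tr.node Tr.leaf 103847 6
 Tr.leaf) 103853 6
 Tr.leaf) 103855 5
 (Tr.node Tr.leaf 103857 6
 Tr.leaf))))) 103859 6
 (Tr.node (Tr.node (Tr.node (Tr.node (Tr.node (Tr.node Tr.leaf 103865 5
 Tr.leaf) 103867 6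
 Tr.leaf) 103873 6
 (Tr.node (Tr.node Tr.leaf 103875 6
 Tr.leaf) 103881 6
 Tr.leaf)) 103883 5
 (Tr.node (Tr.node (Tr.node Tr.leaf 103893 6
 Tr.leaf) 103895 6
 Tr.leaf) 103901 6
 (Tr.node Tr.leaf 103903 6
 Tr.leaf))) 103909 6
 (Tr.node (Tr.node (Tr.node (Tr.node Tr.leaf 103911 5
 Tr.leaf) 103917 5
 Tr.leaf) 103919 6
 (Tr.node Tr.leaf 103921 6
 Tr.leaf)) 103923 6
 (Tr.node (Tr.node (Tr.node Tr.leaf 103929 6
 Tr.leaf) 103931 5
 Tr.leaf) 104451 6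
 (Tr.node Tr.leaf 104455 6
 Tr.leaf)))) 104459 5
 (Tr.node (Tr.node (Tr.node (Tr.node (Tr.node Tr.leaf 104463 6
 Tr.leaf) 104465 6
 Tr.leaf) 104466 6
 (Tr.node (Tr.node Tr.leaf 104469 6
 Tr.leaf) 104470 6
 Tr.leaf)) 104473 6
 (Tr.node (Tr.node (Tr.node Tr.leaf 104474 4
 Tr.leaf) 104477 4
 Tr.leaf) 104478 4
 (Tr.node Tr.leaf 104481 6
 Tr.leaf))) 104482 6
 (Tr.node (Tr.node (Tr.node (Tr.node Tr.leaf 104485 5
 Tr.leaf) 104486 6
 Tr.leaf) 104489 6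
 (Tr.node Tr.leaf 104490 6
 Tr.leaf)) 104493 5
 (Tr.node (Tr.node (Tr.node Tr.leaf 104494 6
 Tr.leaf) 104499 6
 Tr.leaf) 104503 6
 (Tr.node Tr.leaf 104507 5
 Tr.leaf)))))) 104511 6
 (Tr.node (Tr.node (Tr.node (Tr.node (Tr.node (Tr.node (Tr.node Tr.leaf 104515 5
 Tr.leaf) 104519 6
 Tr.leaf) 104523 6
 (Tr.node (Tr.node Tr.leaf 104527 4
 Tr.leaf) 104529 5
 Tr.leaf)) 104530 6
 (Tr.node (Tr.node (Tr.node Tr.leaf 104533 6
 Tr.leaf) 104534 6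
 Tr.leaf) 104537 6
 (Tr.node Tr.leaf 104538 6
 Tr.leaf))) 104541 6
 (Tr.node (Tr.node (Tr.node (Tr.node Tr.leaf 104542 6
 Tr.leaf) 104545 6
 Tr.leaf) 104546 6
 (Tr.node (Tr.node Tr.leaf 104549 6
 Tr.leaf) 104550 6
 Tr.leaf)) 104553 6
 (Tr.node (Tr.node (Tr.node Tr.leaf 104554 6
 Tr.leaf) 104557 4
 Tr.leaf) 104558 6
 (Tr.node Tr.leaf 104563 6
 Tr.leaf)))) 104567 6
 (Tr.node (Tr.node (Tr.node (Tr.node (Tr.node Tr.leaf 104571 5
 Tr.leaf) 104575 6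
 Tr.leaf) 104579 6
 (Tr.node (Tr.node Tr.leaf 104583 6
 Tr.leaf) 104587 4
 Tr.leaf)) 104591 6
 (Tr.node (Tr.node (Tr.node Tr.leaf 104593 4
 Tr.leaf) 104594 4
 Tr.leaf) 104597 6
 (Tr.node Tr.leaf 104598 5
 Tr.leaf))) 104601 6
 (Tr.node (Tr.node (Tr.node (Tr.node Tr.leaf 104602 5
 Tr.leaf) 104605 5
 Tr.leaf) 104606 6
 (Tr.node Tr.leaf 104609 6
 Tr.leaf)) 104610 6
 (Tr.node (Tr.node (Tr.node Tr.leaf 104613 6
 Tr.leaf) 104614 6
 Tr.leaf) 104617 6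
 (Tr.node Tr.leaf 104618 6
 Tr.leaf))))) 104621 5
 (Tr.node (Tr.node (Tr.node (Tr.node (Tr.node (Tr.node Tr.leaf 104622 6
 Tr.leaf) 104627 6
 Tr.leaf) 104631 6
 (Tr.node (Tr.node Tr.leaf 104635 5
 Tr.leaf) 104639 6
 Tr.leaf)) 104643 6
 (Tr.node (Tr.node (Tr.node Tr.leaf 104647 6
 Tr.leaf) 104651 5
 Tr.leaf) 104655 5
 (Tr.node Tr.leaf 104657 6
 Tr.leaf))) 104658 6
 (Tr.node (Tr.node (Tr.node (Tr.node Tr.leaf 104661 6
 Tr.leaf) 104662 6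
 Tr.leaf) 104665 5
 (Tr.node Tr.leaf 104666 5
 Tr.leaf)) 104669 5
 (Tr.node (Tr.node (Tr.node Tr.leaf 104670 5
 Tr.leaf) 104673 5
 Tr.leaf) 104674 6
 (Tr.node Tr.leaf 104677 7
 Tr.leaf)))) 104678 6
 (Tr.node (Tr.node (Tr.node (Tr.node (Tr.node Tr.leaf 104681 6
 Tr.leaf) 104682 6
 Tr.leaf) 104685 6
 (Tr.node (Tr.node Tr.leaf 104686 6
 Tr.leaf) 104691 6
 Tr.leaf)) 104695 6
 (Tr.node (Tr.node (Tr.node Tr.leaf 104699 6
 Tr.leaf) 104703 6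
 Tr.leaf) 104705 6
 (Tr.node Tr.leaf 104706 6
 Tr.leaf))) 104709 6
 (Tr.node (Tr.node (Tr.node (Tr.node Tr.leaf 104710 6
 Tr.leaf) 104713 6
 Tr.leaf) 104714 5
 (Tr.node Tr.leaf 104717 6
 Tr.leaf)) 104718 5
 (Tr.node (Tr.node (Tr.node Tr.leaf 104723 5
 Tr.leaf) 104727 6
 Tr.leaf) 104731 5
 (Tr.node Tr.leaf 104735 6
 Tr.leaf))))))) 104739 5
 (Tr.node (Tr.node (Tr.node (Tr.node (Tr.node (Tr.node (Tr.node (Tr.node Tr.leaf 104743 5
 Tr.leaf) 104747 6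
 Tr.leaf) 104751 5
 (Tr.node (Tr.node Tr.leaf 104753 7
 Tr.leaf) 104754 6
 Tr.leaf)) 104757 6
 (Tr.node (Tr.node (Tr.node Tr.leaf 104758 6
 Tr.leaf) 104761 6
 Tr.leaf) 104762 5
 (Tr.node Tr.leaf 104765 6
 Tr.leaf))) 104766 6
 (Tr.node (Tr.node (Tr.node (Tr.node Tr.leaf 104769 6
 Tr.leaf) 104770 6
 Tr.leaf) 104773 6
 (Tr.node (Tr.node Tr.leaf 104774 7
 Tr.leaf) 104777 5
 Tr.leaf)) 104778 6
 (Tr.node (Tr.node (Tr.node Tr.leaf 104781 6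
 Tr.leaf) 104782 6
 Tr.leaf) 104787 5
 (Tr.node Tr.leaf 104791 6
 Tr.leaf)))) 104795 6
 (Tr.node (Tr.node (Tr.node (Tr.node (Tr.node Tr.leaf 104799 6
 Tr.leaf) 104803 5
 Tr.leaf) 104807 6
 (Tr.node (Tr.node Tr.leaf 104811 5
 Tr.leaf) 104815 6
 Tr.leaf)) 104817 6
 (Tr.node (Tr.node (Tr.node Tr.leaf 104818 5
 Tr.leaf) 104821 6
 Tr.leaf) 104822 6
 (Tr.node Tr.leaf 104825 6
 Tr.leaf))) 104826 6
 (Tr.node (Tr.node (Tr.node (Tr.node Tr.leaf 104829 6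
 Tr.leaf) 104830 6
 Tr.leaf) 104833 5
 (Tr.node Tr.leaf 104834 6
 Tr.leaf)) 104837 6
 (Tr.node (Tr.node (Tr.node Tr.leaf 104838 5
 Tr.leaf) 104841 6
 Tr.leaf) 104842 6
 (Tr.node Tr.leaf 104845 6
 Tr.leaf))))) 104846 4
 (Tr.node (Tr.node (Tr.node (Tr.node (Tr.node (Tr.node Tr.leaf 104851 6
 Tr.leaf) 104855 6
 Tr.leaf) 104859 6
 (Tr.node (Tr.node Tr.leaf 104863 6
 Tr.leaf) 104867 6
 Tr.leaf)) 104871 6
 (Tr.node (Tr.node (Tr.node Tr.leaf 104875 7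
 Tr.leaf) 104879 6
 Tr.leaf) 104881 5
 (Tr.node Tr.leaf 104882 5
 Tr.leaf))) 104885 5
 (Tr.node (Tr.node (Tr.node (Tr.node Tr.leaf 104886 5
 Tr.leaf) 104889 6
 Tr.leaf) 104890 5
 (Tr.node Tr.leaf 104893 6
 Tr.leaf)) 104894 5
 (Tr.node (Tr.node (Tr.node Tr.leaf 104897 6
 Tr.leaf) 104898 6
 Tr.leaf) 104901 4
 (Tr.node Tr.leaf 104902 4
 Tr.leaf)))) 104905 6
 (Tr.node (Tr.node (Tr.node (Tr.node (Tr.node Tr.leaf 104906 6
 Tr.leaf) 104909 5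
 Tr.leaf) 104910 4
 (Tr.node (Tr.node Tr.leaf 104915 6
 Tr.leaf) 104919 6
 Tr.leaf)) 104923 6
 (Tr.node (Tr.node (Tr.node Tr.leaf 104927 5
 Tr.leaf) 104931 6
 Tr.leaf) 104935 6
 (Tr.node Tr.leaf 104939 6
 Tr.leaf))) 104943 7
 (Tr.node (Tr.node (Tr.node (Tr.node Tr.leaf 104945 6
 Tr.leaf) 104946 5
 Tr.leaf) 104949 5
 (Tr.node Tr.leaf 104950 6
 Tr.leaf)) 104953 5
 (Tr.node (Tr.node (Tr.node Tr.leaf 104954 6
 Tr.leaf) 104957 6
 Tr.leaf) 104958 6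
 (Tr.node Tr.leaf 105473 6
 Tr.leaf)))))) 105475 4
 (Tr.node (Tr.node (Tr.node (Tr.node (Tr.node (Tr.node (Tr.node Tr.leaf 105477 4
 Tr.leaf) 105479 6
 Tr.leaf) 105481 6
 (Tr.node (Tr.node Tr.leaf 105483 6
 Tr.leaf) 105485 6
 Tr.leaf)) 105487 4
 (Tr.node (Tr.node (Tr.node Tr.leaf 105521 6
 Tr.leaf) 105523 6
 Tr.leaf) 105525 6
 (Tr.node Tr.leaf 105527 6
 Tr.leaf))) 105529 6
 (Tr.node (Tr.node (Tr.node (Tr.node Tr.leaf 105531 6
 Tr.leaf) 105533 6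
 Tr.leaf) 105535 7
 (Tr.node (Tr.node Tr.leaf 105537 7
 Tr.leaf) 105539 6
 Tr.leaf)) 105541 6
 (Tr.node (Tr.node (Tr.node Tr.leaf 105543 6
 Tr.leaf) 105545 5
 Tr.leaf) 105547 6
 (Tr.node Tr.leaf 105549 6
 Tr.leaf)))) 105551 6
 (Tr.node (Tr.node (Tr.node (Tr.node (Tr.node Tr.leaf 105585 6
 Tr.leaf) 105587 6
 Tr.leaf) 105589 6
 (Tr.node (Tr.node Tr.leaf 105591 6
 Tr.leaf) 105593 6
 Tr.leaf)) 105595 6
 (Tr.node (Tr.node (Tr.node Tr.leaf 105597 6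
 Tr.leaf) 105599 6
 Tr.leaf) 105601 6
 (Tr.node Tr.leaf 105603 4
 Tr.leaf))) 105605 6
 (Tr.node (Tr.node (Tr.node (Tr.node Tr.leaf 105607 6
 Tr.leaf) 105609 6
 Tr.leaf) 105611 6
 (Tr.node Tr.leaf 105613 6
 Tr.leaf)) 105615 4
 (Tr.node (Tr.node (Tr.node Tr.leaf 105649 6
 Tr.leaf) 105651 6
 Tr.leaf) 105653 6
 (Tr.node Tr.leaf 105655 6
 Tr.leaf))))) 105657 6
 (Tr.node (Tr.node (Tr.node (Tr.node (Tr.node (Tr.node Tr.leaf 105659 6
 Tr.leaf) 105661 6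
 Tr.leaf) 105663 6
 (Tr.node (Tr.node Tr.leaf 105665 7
 Tr.leaf) 105667 6
 Tr.leaf)) 105669 6
 (Tr.node (Tr.node (Tr.node Tr.leaf 105671 4
 Tr.leaf) 105673 4
 Tr.leaf) 105675 6
 (Tr.node Tr.leaf 105677 6
 Tr.leaf))) 105679 6
 (Tr.node (Tr.node (Tr.node (Tr.node Tr.leaf 105713 5
 Tr.leaf) 105715 6
 Tr.leaf) 105717 6
 (Tr.node Tr.leaf 105719 6
 Tr.leaf)) 105721 6
 (Tr.node (Tr.node (Tr.node Tr.leaf 105723 6
 Tr.leaf) 105725 6
 Tr.leaf) 105727 6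
 (Tr.node Tr.leaf 105745 6
 Tr.leaf)))) 105747 6
 (Tr.node (Tr.node (Tr.node (Tr.node (Tr.node Tr.leaf 105749 6
 Tr.leaf) 105751 6
 Tr.leaf) 105753 6
 (Tr.node (Tr.node Tr.leaf 105755 6
 Tr.leaf) 105757 6
 Tr.leaf)) 105759 5
 (Tr.node (Tr.node (Tr.node Tr.leaf 105761 6
 Tr.leaf) 105763 6
 Tr.leaf) 105765 6
 (Tr.node Tr.leaf 105767 6
 Tr.leaf))) 105769 6
 (Tr.node (Tr.node (Tr.node (Tr.node Tr.leaf 105771 6
 Tr.leaf) 105773 6
 Tr.leaf) 105775 6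
 (Tr.node Tr.leaf 105809 6
 Tr.leaf)) 105811 6
 (Tr.node (Tr.node (Tr.node Tr.leaf 105813 6
 Tr.leaf) 105815 6
 Tr.leaf) 105817 6
 (Tr.node Tr.leaf 105819 6
 Tr.leaf)))))))))

/-- A subtree. -/
def tr2_s26 : Tr := (Tr.node (Tr.node (Tr.node (Tr.node (Tr.node (Tr.node (Tr.node (Tr.node (Tr.node (Tr.node Tr.leaf 105823 6
 Tr.leaf) 105825 5
 Tr.leaf) 105827 6
 (Tr.node (Tr.node Tr.leaf 105829 6
 Tr.leaf) 105831 6
 Tr.leaf)) 105833 6
 (Tr.node (Tr.node (Tr.node Tr.leaf 105835 6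
 Tr.leaf) 105837 5
 Tr.leaf) 105839 6
 (Tr.node Tr.leaf 105873 6
 Tr.leaf))) 105875 5
 (Tr.node (Tr.node (Tr.node (Tr.node Tr.leaf 105877 6
 Tr.leaf) 105879 6
 Tr.leaf) 105881 6
 (Tr.node (Tr.node Tr.leaf 105883 6
 Tr.leaf) 105885 6
 Tr.leaf)) 105887 5
 (Tr.node (Tr.node (Tr.node Tr.leaf 105889 6
 Tr.leaf) 105891 6
 Tr.leaf) 105893 6
 (Tr.node Tr.leaf 105895 6
 Tr.leaf)))) 105897 6
 (Tr.node (Tr.node (Tr.node (Tr.node (Tr.node Tr.leaf 105899 6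
 Tr.leaf) 105901 6
 Tr.leaf) 105903 6
 (Tr.node (Tr.node Tr.leaf 105937 6
 Tr.leaf) 105939 7
 Tr.leaf)) 105941 6
 (Tr.node (Tr.node (Tr.node Tr.leaf 105943 6
 Tr.leaf) 105945 6
 Tr.leaf) 105947 6
 (Tr.node Tr.leaf 105949 6
 Tr.leaf))) 105951 6
 (Tr.node (Tr.node (Tr.node (Tr.node Tr.leaf 105953 6
 Tr.leaf) 105955 6
 Tr.leaf) 105957 6
 (Tr.node Tr.leaf 105959 6
 Tr.leaf)) 105961 6
 (Tr.node (Tr.node (Tr.node Tr.leaf 105963 6
 Tr.leaf) 105965 6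
 Tr.leaf) 105967 6
 (Tr.node Tr.leaf 106497 6
 Tr.leaf))))) 106498 4
 (Tr.node (Tr.node (Tr.node (Tr.node (Tr.node (Tr.node Tr.leaf 106500 4
 Tr.leaf) 106503 6
 Tr.leaf) 106504 4
 (Tr.node (Tr.node Tr.leaf 106507 6
 Tr.leaf) 106509 5
 Tr.leaf)) 106510 4
 (Tr.node (Tr.node (Tr.node Tr.leaf 106513 6
 Tr.leaf) 106514 4
 Tr.leaf) 106516 5
 (Tr.node Tr.leaf 106519 6
 Tr.leaf))) 106520 3
 (Tr.node (Tr.node (Tr.node (Tr.node Tr.leaf 106523 6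
 Tr.leaf) 106525 6
 Tr.leaf) 106526 6
 (Tr.node (Tr.node Tr.leaf 106531 6
 Tr.leaf) 106533 6
 Tr.leaf)) 106534 5
 (Tr.node (Tr.node (Tr.node Tr.leaf 106537 6
 Tr.leaf) 106538 6
 Tr.leaf) 106540 6
 (Tr.node Tr.leaf 106543 5
 Tr.leaf)))) 106547 6
 (Tr.node (Tr.node (Tr.node (Tr.node (Tr.node Tr.leaf 106549 6
 Tr.leaf) 106550 5
 Tr.leaf) 106553 5
 (Tr.node (Tr.node Tr.leaf 106554 6
 Tr.leaf) 106556 6
 Tr.leaf)) 106559 6
 (Tr.node (Tr.node (Tr.node Tr.leaf 106561 6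
 Tr.leaf) 106562 5
 Tr.leaf) 106564 5
 (Tr.node Tr.leaf 106567 6
 Tr.leaf))) 106568 4
 (Tr.node (Tr.node (Tr.node (Tr.node Tr.leaf 106571 6
 Tr.leaf) 106573 6
 Tr.leaf) 106574 5
 (Tr.node Tr.leaf 106577 6
 Tr.leaf)) 106578 4
 (Tr.node (Tr.node (Tr.node Tr.leaf 106580 4
 Tr.leaf) 106583 6
 Tr.leaf) 106584 4
 (Tr.node Tr.leaf 106587 6
 Tr.leaf)))))) 106589 5
 (Tr.node (Tr.node (Tr.node (Tr.node (Tr.node (Tr.node (Tr.node Tr.leaf 106590 6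
 Tr.leaf) 106595 4
 Tr.leaf) 106597 6
 (Tr.node (Tr.node Tr.leaf 106598 6
 Tr.leaf) 106601 6
 Tr.leaf)) 106602 6
 (Tr.node (Tr.node (Tr.node Tr.leaf 106604 6
 Tr.leaf) 106607 6
 Tr.leaf) 106611 6
 (Tr.node Tr.leaf 106613 5
 Tr.leaf))) 106614 6
 (Tr.node (Tr.node (Tr.node (Tr.node Tr.leaf 106617 5
 Tr.leaf) 106618 6
 Tr.leaf) 106620 3
 (Tr.node (Tr.node Tr.leaf 106623 6
 Tr.leaf) 106625 6
 Tr.leaf)) 106626 4
 (Tr.node (Tr.node (Tr.node Tr.leaf 106628 4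
 Tr.leaf) 106631 6
 Tr.leaf) 106632 5
 (Tr.node Tr.leaf 106635 6
 Tr.leaf)))) 106637 5
 (Tr.node (Tr.node (Tr.node (Tr.node (Tr.node Tr.leaf 106638 6
 Tr.leaf) 106641 6
 Tr.leaf) 106642 3
 (Tr.node (Tr.node Tr.leaf 106644 5
 Tr.leaf) 106647 4
 Tr.leaf)) 106648 5
 (Tr.node (Tr.node (Tr.node Tr.leaf 106651 5
 Tr.leaf) 106653 5
 Tr.leaf) 106654 4
 (Tr.node Tr.leaf 106659 6
 Tr.leaf))) 106661 6
 (Tr.node (Tr.node (Tr.node (Tr.node Tr.leaf 106662 6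
 Tr.leaf) 106665 6
 Tr.leaf) 106666 6
 (Tr.node Tr.leaf 106668 3
 Tr.leaf)) 106671 5
 (Tr.node (Tr.node (Tr.node Tr.leaf 106675 6
 Tr.leaf) 106677 6
 Tr.leaf) 106678 6
 (Tr.node Tr.leaf 106681 7
 Tr.leaf))))) 106682 5
 (Tr.node (Tr.node (Tr.node (Tr.node (Tr.node (Tr.node Tr.leaf 106684 6
 Tr.leaf) 106687 6
 Tr.leaf) 106689 6
 (Tr.node (Tr.node Tr.leaf 106690 4
 Tr.leaf) 106692 5
 Tr.leaf)) 106695 6
 (Tr.node (Tr.node (Tr.node Tr.leaf 106696 5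
 Tr.leaf) 106699 6
 Tr.leaf) 106701 6
 (Tr.node Tr.leaf 106702 4
 Tr.leaf))) 106705 5
 (Tr.node (Tr.node (Tr.node (Tr.node Tr.leaf 106706 4
 Tr.leaf) 106708 4
 Tr.leaf) 106711 6
 (Tr.node Tr.leaf 106712 3
 Tr.leaf)) 106715 6
 (Tr.node (Tr.node (Tr.node Tr.leaf 106717 6
 Tr.leaf) 106718 5
 Tr.leaf) 106723 6
 (Tr.node Tr.leaf 106725 6
 Tr.leaf)))) 106726 6
 (Tr.node (Tr.node (Tr.node (Tr.node (Tr.node Tr.leaf 106729 4
 Tr.leaf) 106730 5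
 Tr.leaf) 106732 6
 (Tr.node (Tr.node Tr.leaf 106735 6
 Tr.leaf) 106739 6
 Tr.leaf)) 106741 6
 (Tr.node (Tr.node (Tr.node Tr.leaf 106742 6
 Tr.leaf) 106745 6
 Tr.leaf) 106746 6
 (Tr.node Tr.leaf 106748 6
 Tr.leaf))) 106751 6
 (Tr.node (Tr.node (Tr.node (Tr.node Tr.leaf 106755 5
 Tr.leaf) 106757 4
 Tr.leaf) 106758 5
 (Tr.node Tr.leaf 106761 5
 Tr.leaf)) 106762 4
 (Tr.node (Tr.node (Tr.node Tr.leaf 106764 6
 Tr.leaf) 106767 6
 Tr.leaf) 106771 6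
 (Tr.node Tr.leaf 106773 6
 Tr.leaf))))))) 106774 6
 (Tr.node (Tr.node (Tr.node (Tr.node (Tr.node (Tr.node (Tr.node (Tr.node Tr.leaf 106777 5
 Tr.leaf) 106778 6
 Tr.leaf) 106780 6
 (Tr.node (Tr.node Tr.leaf 106783 6
 Tr.leaf) 106785 6
 Tr.leaf)) 106786 6
 (Tr.node (Tr.node (Tr.node Tr.leaf 106788 6
 Tr.leaf) 106791 6
 Tr.leaf) 106792 6
 (Tr.node Tr.leaf 106795 6
 Tr.leaf))) 106797 6
 (Tr.node (Tr.node (Tr.node (Tr.node Tr.leaf 106798 6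
 Tr.leaf) 106801 6
 Tr.leaf) 106802 5
 (Tr.node (Tr.node Tr.leaf 106804 6
 Tr.leaf) 106807 5
 Tr.leaf)) 106808 6
 (Tr.node (Tr.node (Tr.node Tr.leaf 106811 6
 Tr.leaf) 106813 5
 Tr.leaf) 106814 6
 (Tr.node Tr.leaf 106819 6
 Tr.leaf)))) 106821 6
 (Tr.node (Tr.node (Tr.node (Tr.node (Tr.node Tr.leaf 106822 6
 Tr.leaf) 106825 6
 Tr.leaf) 106826 6
 (Tr.node (Tr.node Tr.leaf 106828 6
 Tr.leaf) 106831 6
 Tr.leaf)) 106835 6
 (Tr.node (Tr.node (Tr.node Tr.leaf 106837 6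
 Tr.leaf) 106838 4
 Tr.leaf) 106841 4
 (Tr.node Tr.leaf 106842 3
 Tr.leaf))) 106844 4
 (Tr.node (Tr.node (Tr.node (Tr.node Tr.leaf 106847 6
 Tr.leaf) 106849 6
 Tr.leaf) 106850 6
 (Tr.node Tr.leaf 106852 6
 Tr.leaf)) 106855 6
 (Tr.node (Tr.node (Tr.node Tr.leaf 106856 6
 Tr.leaf) 106859 6
 Tr.leaf) 106861 6
 (Tr.node Tr.leaf 106862 6
 Tr.leaf))))) 106865 6
 (Tr.node (Tr.node (Tr.node (Tr.node (Tr.node (Tr.node Tr.leaf 106866 6
 Tr.leaf) 106868 7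
 Tr.leaf) 106871 5
 (Tr.node (Tr.node Tr.leaf 106872 6
 Tr.leaf) 106875 5
 Tr.leaf)) 106877 6
 (Tr.node (Tr.node (Tr.node Tr.leaf 106878 6
 Tr.leaf) 106883 6
 Tr.leaf) 106885 6
 (Tr.node Tr.leaf 106886 5
 Tr.leaf))) 106889 5
 (Tr.node (Tr.node (Tr.node (Tr.node Tr.leaf 106890 3
 Tr.leaf) 106892 6
 Tr.leaf) 106895 6
 (Tr.node Tr.leaf 106899 5
 Tr.leaf)) 106901 4
 (Tr.node (Tr.node (Tr.node Tr.leaf 106902 6
 Tr.leaf) 106905 6
 Tr.leaf) 106906 6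
 (Tr.node Tr.leaf 106908 5
 Tr.leaf)))) 106911 6
 (Tr.node (Tr.node (Tr.node (Tr.node (Tr.node Tr.leaf 106913 5
 Tr.leaf) 106914 6
 Tr.leaf) 106916 6
 (Tr.node (Tr.node Tr.leaf 106919 6
 Tr.leaf) 106920 6
 Tr.leaf)) 106923 7
 (Tr.node (Tr.node (Tr.node Tr.leaf 106925 6
 Tr.leaf) 106926 4
 Tr.leaf) 106929 6
 (Tr.node Tr.leaf 106930 5
 Tr.leaf))) 106932 6
 (Tr.node (Tr.node (Tr.node (Tr.node Tr.leaf 106935 6
 Tr.leaf) 106936 6
 Tr.leaf) 106939 6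
 (Tr.node Tr.leaf 106941 6
 Tr.leaf)) 106942 5
 (Tr.node (Tr.node (Tr.node Tr.leaf 106947 6
 Tr.leaf) 106949 6
 Tr.leaf) 106950 5
 (Tr.node Tr.leaf 106953 6
 Tr.leaf)))))) 106954 6
 (Tr.node (Tr.node (Tr.node (Tr.node (Tr.node (Tr.node (Tr.node Tr.leaf 106956 6
 Tr.leaf) 106959 5
 Tr.leaf) 106963 5
 (Tr.node (Tr.node Tr.leaf 106965 6
 Tr.leaf) 106966 6
 Tr.leaf)) 106969 6
 (Tr.node (Tr.node (Tr.node Tr.leaf 106970 6
 Tr.leaf) 106972 6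
 Tr.leaf) 106975 6
 (Tr.node Tr.leaf 106977 4
 Tr.leaf))) 106978 5
 (Tr.node (Tr.node (Tr.node (Tr.node Tr.leaf 106980 4
 Tr.leaf) 106983 5
 Tr.leaf) 106984 6
 (Tr.node (Tr.node Tr.leaf 106987 5
 Tr.leaf) 106989 6
 Tr.leaf)) 106990 6
 (Tr.node (Tr.node (Tr.node Tr.leaf 106993 6
 Tr.leaf) 106994 6
 Tr.leaf) 106996 5
 (Tr.node Tr.leaf 106999 6
 Tr.leaf)))) 107000 6
 (Tr.node (Tr.node (Tr.node (Tr.node (Tr.node Tr.leaf 107003 6
 Tr.leaf) 107005 6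
 Tr.leaf) 107006 5
 (Tr.node (Tr.node Tr.leaf 107525 6
 Tr.leaf) 107527 6
 Tr.leaf)) 107529 6
 (Tr.node (Tr.node (Tr.node Tr.leaf 107531 6
 Tr.leaf) 107541 6
 Tr.leaf) 107543 6
 (Tr.node Tr.leaf 107545 7
 Tr.leaf))) 107547 6
 (Tr.node (Tr.node (Tr.node (Tr.node Tr.leaf 107553 6
 Tr.leaf) 107555 6
 Tr.leaf) 107565 6
 (Tr.node Tr.leaf 107567 6
 Tr.leaf)) 107569 4
 (Tr.node (Tr.node (Tr.node Tr.leaf 107571 7
 Tr.leaf) 107581 6
 Tr.leaf) 107583 6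
 (Tr.node Tr.leaf 107589 5
 Tr.leaf))))) 107591 5
 (Tr.node (Tr.node (Tr.node (Tr.node (Tr.node (Tr.node Tr.leaf 107593 6
 Tr.leaf) 107595 6
 Tr.leaf) 107605 6
 (Tr.node (Tr.node Tr.leaf 107607 6
 Tr.leaf) 107609 6
 Tr.leaf)) 107611 5
 (Tr.node (Tr.node (Tr.node Tr.leaf 107617 6
 Tr.leaf) 107619 6
 Tr.leaf) 107629 6
 (Tr.node Tr.leaf 107631 6
 Tr.leaf))) 107633 6
 (Tr.node (Tr.node (Tr.node (Tr.node Tr.leaf 107635 5
 Tr.leaf) 107645 5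
 Tr.leaf) 107647 6
 (Tr.node Tr.leaf 107653 6
 Tr.leaf)) 107655 6
 (Tr.node (Tr.node (Tr.node Tr.leaf 107657 6
 Tr.leaf) 107659 6
 Tr.leaf) 107669 5
 (Tr.node Tr.leaf 107671 5
 Tr.leaf)))) 107673 6
 (Tr.node (Tr.node (Tr.node (Tr.node (Tr.node Tr.leaf 107675 5
 Tr.leaf) 107681 6
 Tr.leaf) 107683 6
 (Tr.node (Tr.node Tr.leaf 107693 6
 Tr.leaf) 107695 6
 Tr.leaf)) 107697 6
 (Tr.node (Tr.node (Tr.node Tr.leaf 107699 4
 Tr.leaf) 107709 6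
 Tr.leaf) 107711 7
 (Tr.node Tr.leaf 107717 6
 Tr.leaf))) 107719 6
 (Tr.node (Tr.node (Tr.node (Tr.node Tr.leaf 107721 6
 Tr.leaf) 107723 6
 Tr.leaf) 107733 4
 (Tr.node Tr.leaf 107735 5
 Tr.leaf)) 107737 6
 (Tr.node (Tr.node (Tr.node Tr.leaf 107739 6
 Tr.leaf) 107745 4
 Tr.leaf) 107747 5
 (Tr.node Tr.leaf 107757 6
 Tr.leaf)))))))) 107759 6
 (Tr.node (Tr.node (Tr.node (Tr.node (Tr.node (Tr.node (Tr.node (Tr.node (Tr.node Tr.leaf 107761 6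
 Tr.leaf) 107763 6
 Tr.leaf) 107773 6
 (Tr.node (Tr.node Tr.leaf 107775 6
 Tr.leaf) 107777 4
 Tr.leaf)) 107779 6
 (Tr.node (Tr.node (Tr.node Tr.leaf 107789 6
 Tr.leaf) 107791 6
 Tr.leaf) 107793 7
 (Tr.node Tr.leaf 107795 7
 Tr.leaf))) 107805 6
 (Tr.node (Tr.node (Tr.node (Tr.node Tr.leaf 107807 6
 Tr.leaf) 107813 6
 Tr.leaf) 107815 6
 (Tr.node (Tr.node Tr.leaf 107817 5
 Tr.leaf) 107819 5
 Tr.leaf)) 107829 6
 (Tr.node (Tr.node (Tr.node Tr.leaf 107831 6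
 Tr.leaf) 107833 5
 Tr.leaf) 107835 6
 (Tr.node Tr.leaf 107841 6
 Tr.leaf)))) 107843 5
 (Tr.node (Tr.node (Tr.node (Tr.node (Tr.node Tr.leaf 107853 6
 Tr.leaf) 107855 6
 Tr.leaf) 107857 5
 (Tr.node (Tr.node Tr.leaf 107859 6
 Tr.leaf) 107869 6
 Tr.leaf)) 107871 6
 (Tr.node (Tr.node (Tr.node Tr.leaf 107877 6
 Tr.leaf) 107879 6
 Tr.leaf) 107881 6
 (Tr.node Tr.leaf 107883 6
 Tr.leaf))) 107893 7
 (Tr.node (Tr.node (Tr.node (Tr.node Tr.leaf 107895 6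
 Tr.leaf) 107897 6
 Tr.leaf) 107899 5
 (Tr.node Tr.leaf 107905 6
 Tr.leaf)) 107907 6
 (Tr.node (Tr.node (Tr.node Tr.leaf 107917 6
 Tr.leaf) 107919 5
 Tr.leaf) 107921 6
 (Tr.node Tr.leaf 107923 7
 Tr.leaf))))) 107933 6
 (Tr.node (Tr.node (Tr.node (Tr.node (Tr.node (Tr.node Tr.leaf 107935 6
 Tr.leaf) 107941 5
 Tr.leaf) 107943 5
 (Tr.node (Tr.node Tr.leaf 107945 6
 Tr.leaf) 107947 6
 Tr.leaf)) 107957 6
 (Tr.node (Tr.node (Tr.node Tr.leaf 107959 6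
 Tr.leaf) 107961 6
 Tr.leaf) 107963 6
 (Tr.node Tr.leaf 107969 6
 Tr.leaf))) 107971 4
 (Tr.node (Tr.node (Tr.node (Tr.node Tr.leaf 107981 6
 Tr.leaf) 107983 6
 Tr.leaf) 107985 4
 (Tr.node Tr.leaf 107987 6
 Tr.leaf)) 107997 6
 (Tr.node (Tr.node (Tr.node Tr.leaf 107999 6
 Tr.leaf) 108005 6
 Tr.leaf) 108007 6
 (Tr.node Tr.leaf 108009 5
 Tr.leaf)))) 108011 6
 (Tr.node (Tr.node (Tr.node (Tr.node (Tr.node Tr.leaf 108021 6
 Tr.leaf) 108023 6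
 Tr.leaf) 108025 6
 (Tr.node (Tr.node Tr.leaf 108027 6
 Tr.leaf) 108547 6
 Tr.leaf)) 108551 6
 (Tr.node (Tr.node (Tr.node Tr.leaf 108553 5
 Tr.leaf) 108554 5
 Tr.leaf) 108557 6
 (Tr.node Tr.leaf 108558 5
 Tr.leaf))) 108563 6
 (Tr.node (Tr.node (Tr.node (Tr.node Tr.leaf 108567 6
 Tr.leaf) 108569 7
 Tr.leaf) 108570 6
 (Tr.node Tr.leaf 108573 7
 Tr.leaf)) 108574 5
 (Tr.node (Tr.node (Tr.node Tr.leaf 108577 6
 Tr.leaf) 108578 6
 Tr.leaf) 108581 5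
 (Tr.node Tr.leaf 108582 4
 Tr.leaf)))))) 108587 5
 (Tr.node (Tr.node (Tr.node (Tr.node (Tr.node (Tr.node (Tr.node Tr.leaf 108591 6
 Tr.leaf) 108593 6
 Tr.leaf) 108594 4
 (Tr.node (Tr.node Tr.leaf 108597 6
 Tr.leaf) 108598 6
 Tr.leaf)) 108603 5
 (Tr.node (Tr.node (Tr.node Tr.leaf 108607 6
 Tr.leaf) 108611 4
 Tr.leaf) 108615 6
 (Tr.node Tr.leaf 108617 6
 Tr.leaf))) 108618 5
 (Tr.node (Tr.node (Tr.node (Tr.node Tr.leaf 108621 6
 Tr.leaf) 108622 6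
 Tr.leaf) 108627 6
 (Tr.node (Tr.node Tr.leaf 108631 4
 Tr.leaf) 108633 6
 Tr.leaf)) 108634 6
 (Tr.node (Tr.node (Tr.node Tr.leaf 108637 6
 Tr.leaf) 108638 6
 Tr.leaf) 108641 7
 (Tr.node Tr.leaf 108642 6
 Tr.leaf)))) 108645 6
 (Tr.node (Tr.node (Tr.node (Tr.node (Tr.node Tr.leaf 108646 4
 Tr.leaf) 108651 5
 Tr.leaf) 108655 6
 (Tr.node (Tr.node Tr.leaf 108657 6
 Tr.leaf) 108658 5
 Tr.leaf)) 108661 5
 (Tr.node (Tr.node (Tr.node Tr.leaf 108662 6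
 Tr.leaf) 108667 6
 Tr.leaf) 108671 6
 (Tr.node Tr.leaf 108675 6
 Tr.leaf))) 108679 4
 (Tr.node (Tr.node (Tr.node (Tr.node Tr.leaf 108681 7
 Tr.leaf) 108682 6
 Tr.leaf) 108685 6
 (Tr.node Tr.leaf 108686 7
 Tr.leaf)) 108691 6
 (Tr.node (Tr.node (Tr.node Tr.leaf 108695 5
 Tr.leaf) 108697 5
 Tr.leaf) 108698 5
 (Tr.node Tr.leaf 108701 5
 Tr.leaf))))) 108702 4
 (Tr.node (Tr.node (Tr.node (Tr.node (Tr.node (Tr.node Tr.leaf 108705 6
 Tr.leaf) 108706 6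
 Tr.leaf) 108709 6
 (Tr.node (Tr.node Tr.leaf 108710 4
 Tr.leaf) 108715 6
 Tr.leaf)) 108719 5
 (Tr.node (Tr.node (Tr.node Tr.leaf 108721 6
 Tr.leaf) 108722 5
 Tr.leaf) 108725 6
 (Tr.node Tr.leaf 108726 6
 Tr.leaf))) 108731 6
 (Tr.node (Tr.node (Tr.node (Tr.node Tr.leaf 108735 6
 Tr.leaf) 108739 6
 Tr.leaf) 108743 6
 (Tr.node Tr.leaf 108745 4
 Tr.leaf)) 108746 5
 (Tr.node (Tr.node (Tr.node Tr.leaf 108749 4
 Tr.leaf) 108750 5
 Tr.leaf) 108755 5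
 (Tr.node Tr.leaf 108759 6
 Tr.leaf)))) 108761 6
 (Tr.node (Tr.node (Tr.node (Tr.node (Tr.node Tr.leaf 108762 5
 Tr.leaf) 108765 6
 Tr.leaf) 108766 6
 (Tr.node (Tr.node Tr.leaf 108769 6
 Tr.leaf) 108770 6
 Tr.leaf)) 108773 6
 (Tr.node (Tr.node (Tr.node Tr.leaf 108774 6
 Tr.leaf) 108779 6
 Tr.leaf) 108783 6
 (Tr.node Tr.leaf 108785 6
 Tr.leaf))) 108786 3
 (Tr.node (Tr.node (Tr.node (Tr.node Tr.leaf 108789 6
 Tr.leaf) 108790 6
 Tr.leaf) 108795 5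
 (Tr.node Tr.leaf 108799 6
 Tr.leaf)) 108801 6
 (Tr.node (Tr.node (Tr.node Tr.leaf 108802 5
 Tr.leaf) 108805 6
 Tr.leaf) 108806 3
 (Tr.node Tr.leaf 108811 6
 Tr.leaf))))))) 108815 5
 (Tr.node (Tr.node (Tr.node (Tr.node (Tr.node (Tr.node (Tr.node (Tr.node Tr.leaf 108817 6
 Tr.leaf) 108818 6
 Tr.leaf) 108821 6
 (Tr.node (Tr.node Tr.leaf 108822 6
 Tr.leaf) 108827 6
 Tr.leaf)) 108831 5
 (Tr.node (Tr.node (Tr.node Tr.leaf 108835 6
 Tr.leaf) 108839 6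
 Tr.leaf) 108841 6
 (Tr.node Tr.leaf 108842 6
 Tr.leaf))) 108845 6
 (Tr.node (Tr.node (Tr.node (Tr.node Tr.leaf 108846 6
 Tr.leaf) 108851 6
 Tr.leaf) 108855 6
 (Tr.node (Tr.node Tr.leaf 108857 6
 Tr.leaf) 108858 6
 Tr.leaf)) 108861 5
 (Tr.node (Tr.node (Tr.node Tr.leaf 108862 5
 Tr.leaf) 108865 6
 Tr.leaf) 108866 6
 (Tr.node Tr.leaf 108869 5
 Tr.leaf)))) 108870 6
 (Tr.node (Tr.node (Tr.node (Tr.node (Tr.node Tr.leaf 108875 6
 Tr.leaf) 108879 6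
 Tr.leaf) 108881 6
 (Tr.node (Tr.node Tr.leaf 108882 5
 Tr.leaf) 108885 4
 Tr.leaf)) 108886 4
 (Tr.node (Tr.node (Tr.node Tr.leaf 108891 6
 Tr.leaf) 108895 6
 Tr.leaf) 108899 6
 (Tr.node Tr.leaf 108903 6
 Tr.leaf))) 108905 6
 (Tr.node (Tr.node (Tr.node (Tr.node Tr.leaf 108906 6
 Tr.leaf) 108909 6
 Tr.leaf) 108910 6
 (Tr.node Tr.leaf 108915 6
 Tr.leaf)) 108919 7
 (Tr.node (Tr.node (Tr.node Tr.leaf 108921 6
 Tr.leaf) 108922 5
 Tr.leaf) 108925 6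
 (Tr.node Tr.leaf 108926 6
 Tr.leaf))))) 108929 5
 (Tr.node (Tr.node (Tr.node (Tr.node (Tr.node (Tr.node Tr.leaf 108930 4
 Tr.leaf) 108933 6
 Tr.leaf) 108934 4
 (Tr.node (Tr.node Tr.leaf 108939 6
 Tr.leaf) 108943 6
 Tr.leaf)) 108945 5
 (Tr.node (Tr.node (Tr.node Tr.leaf 108946 6
 Tr.leaf) 108949 6
 Tr.leaf) 108950 6
 (Tr.node Tr.leaf 108955 6
 Tr.leaf))) 108959 6
 (Tr.node (Tr.node (Tr.node (Tr.node Tr.leaf 108963 6
 Tr.leaf) 108967 6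
 Tr.leaf) 108969 6
 (Tr.node Tr.leaf 108970 6
 Tr.leaf)) 108973 6
 (Tr.node (Tr.node (Tr.node Tr.leaf 108974 5
 Tr.leaf) 108979 6
 Tr.leaf) 108983 6
 (Tr.node Tr.leaf 108985 6
 Tr.leaf)))) 108986 6
 (Tr.node (Tr.node (Tr.node (Tr.node (Tr.node Tr.leaf 108989 6
 Tr.leaf) 108990 5
 Tr.leaf) 108993 6
 (Tr.node (Tr.node Tr.leaf 108994 6
 Tr.leaf) 108997 4
 Tr.leaf)) 108998 6
 (Tr.node (Tr.node (Tr.node Tr.leaf 109003 7
 Tr.leaf) 109007 6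
 Tr.leaf) 109009 6
 (Tr.node Tr.leaf 109010 3
 Tr.leaf))) 109013 4
 (Tr.node (Tr.node (Tr.node (Tr.node Tr.leaf 109014 4
 Tr.leaf) 109019 6
 Tr.leaf) 109023 6
 (Tr.node Tr.leaf 109027 5
 Tr.leaf)) 109031 6
 (Tr.node (Tr.node (Tr.node Tr.leaf 109033 6
 Tr.leaf) 109034 5
 Tr.leaf) 109037 6
 (Tr.node Tr.leaf 109038 5
 Tr.leaf)))))) 109043 6
 (Tr.node (Tr.node (Tr.node (Tr.node (Tr.node (Tr.node (Tr.node Tr.leaf 109047 6
 Tr.leaf) 109049 6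
 Tr.leaf) 109050 6
 (Tr.node (Tr.node Tr.leaf 109053 6
 Tr.leaf) 109054 6
 Tr.leaf)) 109569 5
 (Tr.node (Tr.node (Tr.node Tr.leaf 109571 4
 Tr.leaf) 109573 5
 Tr.leaf) 109575 6
 (Tr.node Tr.leaf 109585 6
 Tr.leaf))) 109587 6
 (Tr.node (Tr.node (Tr.node (Tr.node Tr.leaf 109589 4
 Tr.leaf) 109591 4
 Tr.leaf) 109609 6
 (Tr.node (Tr.node Tr.leaf 109611 5
 Tr.leaf) 109613 5
 Tr.leaf)) 109615 6
 (Tr.node (Tr.node (Tr.node Tr.leaf 109625 6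
 Tr.leaf) 109627 6
 Tr.leaf) 109629 6
 (Tr.node Tr.leaf 109631 5
 Tr.leaf)))) 109633 4
 (Tr.node (Tr.node (Tr.node (Tr.node (Tr.node Tr.leaf 109635 6
 Tr.leaf) 109637 6
 Tr.leaf) 109639 6
 (Tr.node (Tr.node Tr.leaf 109649 6
 Tr.leaf) 109651 6
 Tr.leaf)) 109653 4
 (Tr.node (Tr.node (Tr.node Tr.leaf 109655 6
 Tr.leaf) 109673 5
 Tr.leaf) 109675 6
 (Tr.node Tr.leaf 109677 6
 Tr.leaf))) 109679 6
 (Tr.node (Tr.node (Tr.node (Tr.node Tr.leaf 109689 5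
 Tr.leaf) 109691 6
 Tr.leaf) 109693 6
 (Tr.node Tr.leaf 109695 6
 Tr.leaf)) 109697 5
 (Tr.node (Tr.node (Tr.node Tr.leaf 109699 7
 Tr.leaf) 109701 6
 Tr.leaf) 109703 4
 (Tr.node Tr.leaf 109713 6
 Tr.leaf))))) 109715 6
 (Tr.node (Tr.node (Tr.node (Tr.node (Tr.node (Tr.node Tr.leaf 109717 5
 Tr.leaf) 109719 6
 Tr.leaf) 109737 6
 (Tr.node (Tr.node Tr.leaf 109739 6
 Tr.leaf) 109741 6
 Tr.leaf)) 109743 6
 (Tr.node (Tr.node (Tr.node Tr.leaf 109753 6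
 Tr.leaf) 109755 5
 Tr.leaf) 109757 5
 (Tr.node Tr.leaf 109759 6
 Tr.leaf))) 109761 6
 (Tr.node (Tr.node (Tr.node (Tr.node Tr.leaf 109763 6
 Tr.leaf) 109765 4
 Tr.leaf) 109767 4
 (Tr.node Tr.leaf 109777 6
 Tr.leaf)) 109779 7
 (Tr.node (Tr.node (Tr.node Tr.leaf 109781 7
 Tr.leaf) 109783 6
 Tr.leaf) 109801 6
 (Tr.node Tr.leaf 109803 6
 Tr.leaf)))) 109805 6
 (Tr.node (Tr.node (Tr.node (Tr.node (Tr.node Tr.leaf 109807 6
 Tr.leaf) 109817 6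
 Tr.leaf) 109819 6
 (Tr.node (Tr.node Tr.leaf 109821 6
 Tr.leaf) 109823 6
 Tr.leaf)) 109833 6
 (Tr.node (Tr.node (Tr.node Tr.leaf 109835 6
 Tr.leaf) 109837 6
 Tr.leaf) 109839 6
 (Tr.node Tr.leaf 109849 6
 Tr.leaf))) 109851 6
 (Tr.node (Tr.node (Tr.node (Tr.node Tr.leaf 109853 6
 Tr.leaf) 109855 6
 Tr.leaf) 109857 6
 (Tr.node Tr.leaf 109859 6
 Tr.leaf)) 109861 6
 (Tr.node (Tr.node (Tr.node Tr.leaf 109863 6
 Tr.leaf) 109873 6
 Tr.leaf) 109875 6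
 (Tr.node Tr.leaf 109877 6
 Tr.leaf)))))))))

/-- A subtree. -/
def tr2_s27 : Tr := (Tr.node (Tr.node (Tr.node (Tr.node (Tr.node (Tr.node (Tr.node (Tr.node (Tr.node (Tr.node Tr.leaf 109897 6
 Tr.leaf) 109899 5
 Tr.leaf) 109901 5
 (Tr.node (Tr.node Tr.leaf 109903 6
 Tr.leaf) 109913 6
 Tr.leaf)) 109915 5
 (Tr.node (Tr.node (Tr.node Tr.leaf 109917 5
 Tr.leaf) 109919 6
 Tr.leaf) 109921 6
 (Tr.node Tr.leaf 109923 6
 Tr.leaf))) 109925 6
 (Tr.node (Tr.node (Tr.node (Tr.node Tr.leaf 109927 6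
 Tr.leaf) 109937 6
 Tr.leaf) 109939 5
 (Tr.node (Tr.node Tr.leaf 109941 6
 Tr.leaf) 109943 6
 Tr.leaf)) 109961 6
 (Tr.node (Tr.node (Tr.node Tr.leaf 109963 6
 Tr.leaf) 109965 6
 Tr.leaf) 109967 5
 (Tr.node Tr.leaf 109977 6
 Tr.leaf)))) 109979 6
 (Tr.node (Tr.node (Tr.node (Tr.node (Tr.node Tr.leaf 109981 6
 Tr.leaf) 109983 6
 Tr.leaf) 109985 5
 (Tr.node (Tr.node Tr.leaf 109987 6
 Tr.leaf) 109989 5
 Tr.leaf)) 109991 6
 (Tr.node (Tr.node (Tr.node Tr.leaf 110001 6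
 Tr.leaf) 110003 6
 Tr.leaf) 110005 6
 (Tr.node Tr.leaf 110007 6
 Tr.leaf))) 110025 6
 (Tr.node (Tr.node (Tr.node (Tr.node Tr.leaf 110027 6
 Tr.leaf) 110029 6
 Tr.leaf) 110031 6
 (Tr.node Tr.leaf 110041 6
 Tr.leaf)) 110043 6
 (Tr.node (Tr.node (Tr.node Tr.leaf 110045 5
 Tr.leaf) 110047 6
 Tr.leaf) 110049 6
 (Tr.node Tr.leaf 110051 6
 Tr.leaf))))) 110053 6
 (Tr.node (Tr.node (Tr.node (Tr.node (Tr.node (Tr.node Tr.leaf 110055 6
 Tr.leaf) 110065 6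
 Tr.leaf) 110067 6
 (Tr.node (Tr.node Tr.leaf 110069 6
 Tr.leaf) 110071 6
 Tr.leaf)) 110595 5
 (Tr.node (Tr.node (Tr.node Tr.leaf 110597 6
 Tr.leaf) 110598 6
 Tr.leaf) 110603 6
 (Tr.node Tr.leaf 110605 6
 Tr.leaf))) 110606 5
 (Tr.node (Tr.node (Tr.node (Tr.node Tr.leaf 110611 6
 Tr.leaf) 110613 5
 Tr.leaf) 110614 4
 (Tr.node (Tr.node Tr.leaf 110619 5
 Tr.leaf) 110621 5
 Tr.leaf)) 110622 6
 (Tr.node (Tr.node (Tr.node Tr.leaf 110625 5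
 Tr.leaf) 110626 3
 Tr.leaf) 110628 5
 (Tr.node Tr.leaf 110631 6
 Tr.leaf)))) 110633 6
 (Tr.node (Tr.node (Tr.node (Tr.node (Tr.node Tr.leaf 110634 6
 Tr.leaf) 110636 6
 Tr.leaf) 110639 6
 (Tr.node (Tr.node Tr.leaf 110641 6
 Tr.leaf) 110642 4
 Tr.leaf)) 110644 5
 (Tr.node (Tr.node (Tr.node Tr.leaf 110647 6
 Tr.leaf) 110649 5
 Tr.leaf) 110650 6
 (Tr.node Tr.leaf 110652 5
 Tr.leaf))) 110655 5
 (Tr.node (Tr.node (Tr.node (Tr.node Tr.leaf 110659 5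
 Tr.leaf) 110661 4
 Tr.leaf) 110662 4
 (Tr.node Tr.leaf 110667 6
 Tr.leaf)) 110669 7
 (Tr.node (Tr.node (Tr.node Tr.leaf 110670 7
 Tr.leaf) 110675 6
 Tr.leaf) 110677 7
 (Tr.node Tr.leaf 110678 6
 Tr.leaf)))))) 110683 6
 (Tr.node (Tr.node (Tr.node (Tr.node (Tr.node (Tr.node (Tr.node Tr.leaf 110685 5
 Tr.leaf) 110686 5
 Tr.leaf) 110689 4
 (Tr.node (Tr.node Tr.leaf 110690 5
 Tr.leaf) 110692 6
 Tr.leaf)) 110695 6
 (Tr.node (Tr.node (Tr.node Tr.leaf 110697 4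
 Tr.leaf) 110698 6
 Tr.leaf) 110700 4
 (Tr.node Tr.leaf 110703 5
 Tr.leaf))) 110705 6
 (Tr.node (Tr.node (Tr.node (Tr.node Tr.leaf 110706 5
 Tr.leaf) 110708 6
 Tr.leaf) 110711 6
 (Tr.node (Tr.node Tr.leaf 110713 6
 Tr.leaf) 110714 6
 Tr.leaf)) 110716 6
 (Tr.node (Tr.node (Tr.node Tr.leaf 110719 5
 Tr.leaf) 110723 6
 Tr.leaf) 110725 6
 (Tr.node Tr.leaf 110726 6
 Tr.leaf)))) 110731 6
 (Tr.node (Tr.node (Tr.node (Tr.node (Tr.node Tr.leaf 110733 6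
 Tr.leaf) 110734 5
 Tr.leaf) 110739 6
 (Tr.node (Tr.node Tr.leaf 110741 6
 Tr.leaf) 110742 6
 Tr.leaf)) 110747 6
 (Tr.node (Tr.node (Tr.node Tr.leaf 110749 6
 Tr.leaf) 110750 5
 Tr.leaf) 110753 6
 (Tr.node Tr.leaf 110754 5
 Tr.leaf))) 110756 6
 (Tr.node (Tr.node (Tr.node (Tr.node Tr.leaf 110759 6
 Tr.leaf) 110761 6
 Tr.leaf) 110762 4
 (Tr.node Tr.leaf 110764 6
 Tr.leaf)) 110767 6
 (Tr.node (Tr.node (Tr.node Tr.leaf 110769 6
 Tr.leaf) 110770 6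
 Tr.leaf) 110772 4
 (Tr.node Tr.leaf 110775 6
 Tr.leaf))))) 110777 6
 (Tr.node (Tr.node (Tr.node (Tr.node (Tr.node (Tr.node Tr.leaf 110778 5
 Tr.leaf) 110780 6
 Tr.leaf) 110783 5
 (Tr.node (Tr.node Tr.leaf 110787 5
 Tr.leaf) 110789 5
 Tr.leaf)) 110790 6
 (Tr.node (Tr.node (Tr.node Tr.leaf 110795 6
 Tr.leaf) 110797 6
 Tr.leaf) 110798 6
 (Tr.node Tr.leaf 110803 5
 Tr.leaf))) 110805 4
 (Tr.node (Tr.node (Tr.node (Tr.node Tr.leaf 110806 4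
 Tr.leaf) 110811 6
 Tr.leaf) 110813 6
 (Tr.node Tr.leaf 110814 6
 Tr.leaf)) 110817 4
 (Tr.node (Tr.node (Tr.node Tr.leaf 110818 6
 Tr.leaf) 110820 4
 Tr.leaf) 110823 6
 (Tr.node Tr.leaf 110825 6
 Tr.leaf)))) 110826 5
 (Tr.node (Tr.node (Tr.node (Tr.node (Tr.node Tr.leaf 110828 6
 Tr.leaf) 110831 6
 Tr.leaf) 110833 6
 (Tr.node (Tr.node Tr.leaf 110834 6
 Tr.leaf) 110836 5
 Tr.leaf)) 110839 6
 (Tr.node (Tr.node (Tr.node Tr.leaf 110841 5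
 Tr.leaf) 110842 3
 Tr.leaf) 110844 4
 (Tr.node Tr.leaf 110847 6
 Tr.leaf))) 110849 5
 (Tr.node (Tr.node (Tr.node (Tr.node Tr.leaf 110850 4
 Tr.leaf) 110852 4
 Tr.leaf) 110855 6
 (Tr.node Tr.leaf 110857 6
 Tr.leaf)) 110858 5
 (Tr.node (Tr.node (Tr.node Tr.leaf 110860 6
 Tr.leaf) 110863 5
 Tr.leaf) 110865 6
 (Tr.node Tr.leaf 110866 6
 Tr.leaf))))))) 110868 6
 (Tr.node (Tr.node (Tr.node (Tr.node (Tr.node (Tr.node (Tr.node (Tr.node Tr.leaf 110871 6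
 Tr.leaf) 110873 6
 Tr.leaf) 110874 6
 (Tr.node (Tr.node Tr.leaf 110876 5
 Tr.leaf) 110879 5
 Tr.leaf)) 110883 6
 (Tr.node (Tr.node (Tr.node Tr.leaf 110885 6
 Tr.leaf) 110886 6
 Tr.leaf) 110891 6
 (Tr.node Tr.leaf 110893 6
 Tr.leaf))) 110894 6
 (Tr.node (Tr.node (Tr.node (Tr.node Tr.leaf 110899 6
 Tr.leaf) 110901 6
 Tr.leaf) 110902 5
 (Tr.node (Tr.node Tr.leaf 110907 5
 Tr.leaf) 110909 6
 Tr.leaf)) 110910 5
 (Tr.node (Tr.node (Tr.node Tr.leaf 110913 6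
 Tr.leaf) 110914 6
 Tr.leaf) 110916 5
 (Tr.node Tr.leaf 110919 6
 Tr.leaf)))) 110921 5
 (Tr.node (Tr.node (Tr.node (Tr.node (Tr.node Tr.leaf 110922 6
 Tr.leaf) 110924 3
 Tr.leaf) 110927 6
 (Tr.node (Tr.node Tr.leaf 110929 6
 Tr.leaf) 110930 5
 Tr.leaf)) 110932 6
 (Tr.node (Tr.node (Tr.node Tr.leaf 110935 6
 Tr.leaf) 110937 7
 Tr.leaf) 110938 5
 (Tr.node Tr.leaf 110940 5
 Tr.leaf))) 110943 6
 (Tr.node (Tr.node (Tr.node (Tr.node Tr.leaf 110947 6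
 Tr.leaf) 110949 6
 Tr.leaf) 110950 6
 (Tr.node Tr.leaf 110955 6
 Tr.leaf)) 110957 6
 (Tr.node (Tr.node (Tr.node Tr.leaf 110958 6
 Tr.leaf) 110963 6
 Tr.leaf) 110965 6
 (Tr.node Tr.leaf 110966 6
 Tr.leaf))))) 110971 6
 (Tr.node (Tr.node (Tr.node (Tr.node (Tr.node (Tr.node Tr.leaf 110973 6
 Tr.leaf) 110974 5
 Tr.leaf) 110977 6
 (Tr.node (Tr.node Tr.leaf 110978 5
 Tr.leaf) 110980 6
 Tr.leaf)) 110983 6
 (Tr.node (Tr.node (Tr.node Tr.leaf 110985 6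
 Tr.leaf) 110986 5
 Tr.leaf) 110988 6
 (Tr.node Tr.leaf 110991 6
 Tr.leaf))) 110993 4
 (Tr.node (Tr.node (Tr.node (Tr.node Tr.leaf 110994 6
 Tr.leaf) 110996 3
 Tr.leaf) 110999 5
 (Tr.node Tr.leaf 111001 6
 Tr.leaf)) 111002 6
 (Tr.node (Tr.node (Tr.node Tr.leaf 111004 6
 Tr.leaf) 111007 6
 Tr.leaf) 111011 5
 (Tr.node Tr.leaf 111013 6
 Tr.leaf)))) 111014 5
 (Tr.node (Tr.node (Tr.node (Tr.node (Tr.node Tr.leaf 111019 6
 Tr.leaf) 111021 6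
 Tr.leaf) 111022 5
 (Tr.node (Tr.node Tr.leaf 111027 6
 Tr.leaf) 111029 6
 Tr.leaf)) 111030 6
 (Tr.node (Tr.node (Tr.node Tr.leaf 111035 6
 Tr.leaf) 111037 6
 Tr.leaf) 111038 6
 (Tr.node Tr.leaf 111041 5
 Tr.leaf))) 111042 6
 (Tr.node (Tr.node (Tr.node (Tr.node Tr.leaf 111044 5
 Tr.leaf) 111047 6
 Tr.leaf) 111049 6
 (Tr.node Tr.leaf 111050 5
 Tr.leaf)) 111052 6
 (Tr.node (Tr.node (Tr.node Tr.leaf 111055 5
 Tr.leaf) 111057 4
 Tr.leaf) 111058 4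
 (Tr.node Tr.leaf 111060 6
 Tr.leaf)))))) 111063 6
 (Tr.node (Tr.node (Tr.node (Tr.node (Tr.node (Tr.node (Tr.node Tr.leaf 111065 6
 Tr.leaf) 111066 3
 Tr.leaf) 111068 5
 (Tr.node (Tr.node Tr.leaf 111071 6
 Tr.leaf) 111075 5
 Tr.leaf)) 111077 6
 (Tr.node (Tr.node (Tr.node Tr.leaf 111078 5
 Tr.leaf) 111083 5
 Tr.leaf) 111085 6
 (Tr.node Tr.leaf 111086 5
 Tr.leaf))) 111091 6
 (Tr.node (Tr.node (Tr.node (Tr.node Tr.leaf 111093 6
 Tr.leaf) 111094 6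
 Tr.leaf) 111099 6
 (Tr.node (Tr.node Tr.leaf 111101 6
 Tr.leaf) 111102 6
 Tr.leaf)) 111617 5
 (Tr.node (Tr.node (Tr.node Tr.leaf 111619 6
 Tr.leaf) 111625 7
 Tr.leaf) 111627 6
 (Tr.node Tr.leaf 111633 5
 Tr.leaf)))) 111635 6
 (Tr.node (Tr.node (Tr.node (Tr.node (Tr.node Tr.leaf 111641 6
 Tr.leaf) 111643 6
 Tr.leaf) 111653 6
 (Tr.node (Tr.node Tr.leaf 111655 5
 Tr.leaf) 111661 6
 Tr.leaf)) 111663 5
 (Tr.node (Tr.node (Tr.node Tr.leaf 111669 5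
 Tr.leaf) 111671 6
 Tr.leaf) 111677 6
 (Tr.node Tr.leaf 111679 6
 Tr.leaf))) 111681 5
 (Tr.node (Tr.node (Tr.node (Tr.node Tr.leaf 111683 6
 Tr.leaf) 111689 6
 Tr.leaf) 111691 5
 (Tr.node Tr.leaf 111697 6
 Tr.leaf)) 111699 6
 (Tr.node (Tr.node (Tr.node Tr.leaf 111705 6
 Tr.leaf) 111707 5
 Tr.leaf) 111717 6
 (Tr.node Tr.leaf 111719 6
 Tr.leaf))))) 111725 6
 (Tr.node (Tr.node (Tr.node (Tr.node (Tr.node (Tr.node Tr.leaf 111727 7
 Tr.leaf) 111733 5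
 Tr.leaf) 111735 6
 (Tr.node (Tr.node Tr.leaf 111741 6
 Tr.leaf) 111743 6
 Tr.leaf)) 111745 6
 (Tr.node (Tr.node (Tr.node Tr.leaf 111747 6
 Tr.leaf) 111753 6
 Tr.leaf) 111755 6
 (Tr.node Tr.leaf 111761 5
 Tr.leaf))) 111763 6
 (Tr.node (Tr.node (Tr.node (Tr.node Tr.leaf 111769 6
 Tr.leaf) 111771 7
 Tr.leaf) 111781 5
 (Tr.node Tr.leaf 111783 6
 Tr.leaf)) 111789 6
 (Tr.node (Tr.node (Tr.node Tr.leaf 111791 6
 Tr.leaf) 111797 5
 Tr.leaf) 111799 6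
 (Tr.node Tr.leaf 111805 6
 Tr.leaf)))) 111807 5
 (Tr.node (Tr.node (Tr.node (Tr.node (Tr.node Tr.leaf 111809 6
 Tr.leaf) 111811 6
 Tr.leaf) 111817 6
 (Tr.node (Tr.node Tr.leaf 111819 6
 Tr.leaf) 111825 6
 Tr.leaf)) 111827 5
 (Tr.node (Tr.node (Tr.node Tr.leaf 111833 6
 Tr.leaf) 111835 5
 Tr.leaf) 111845 5
 (Tr.node Tr.leaf 111847 5
 Tr.leaf))) 111853 6
 (Tr.node (Tr.node (Tr.node (Tr.node Tr.leaf 111855 6
 Tr.leaf) 111861 5
 Tr.leaf) 111863 6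
 (Tr.node Tr.leaf 111869 6
 Tr.leaf)) 111871 6
 (Tr.node (Tr.node (Tr.node Tr.leaf 111877 6
 Tr.leaf) 111879 6
 Tr.leaf) 111885 5
 (Tr.node Tr.leaf 111887 6
 Tr.leaf)))))))) 111893 7
 (Tr.node (Tr.node (Tr.node (Tr.node (Tr.node (Tr.node (Tr.node (Tr.node (Tr.node Tr.leaf 111895 6
 Tr.leaf) 111901 6
 Tr.leaf) 111903 6
 (Tr.node (Tr.node Tr.leaf 111905 7
 Tr.leaf) 111907 6
 Tr.leaf)) 111913 6
 (Tr.node (Tr.node (Tr.node Tr.leaf 111915 6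
 Tr.leaf) 111921 5
 Tr.leaf) 111923 6
 (Tr.node Tr.leaf 111929 6
 Tr.leaf))) 111931 5
 (Tr.node (Tr.node (Tr.node (Tr.node Tr.leaf 111941 6
 Tr.leaf) 111943 5
 Tr.leaf) 111949 6
 (Tr.node (Tr.node Tr.leaf 111951 5
 Tr.leaf) 111957 5
 Tr.leaf)) 111959 6
 (Tr.node (Tr.node (Tr.node Tr.leaf 111965 6
 Tr.leaf) 111967 6
 Tr.leaf) 111969 6
 (Tr.node Tr.leaf 111971 6
 Tr.leaf)))) 111977 5
 (Tr.node (Tr.node (Tr.node (Tr.node (Tr.node Tr.leaf 111979 6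
 Tr.leaf) 111985 6
 Tr.leaf) 111987 6
 (Tr.node (Tr.node Tr.leaf 111993 6
 Tr.leaf) 111995 5
 Tr.leaf)) 112005 6
 (Tr.node (Tr.node (Tr.node Tr.leaf 112007 6
 Tr.leaf) 112013 5
 Tr.leaf) 112015 6
 (Tr.node Tr.leaf 112021 7
 Tr.leaf))) 112023 6
 (Tr.node (Tr.node (Tr.node (Tr.node Tr.leaf 112029 6
 Tr.leaf) 112031 6
 Tr.leaf) 112033 5
 (Tr.node Tr.leaf 112035 6
 Tr.leaf)) 112041 6
 (Tr.node (Tr.node (Tr.node Tr.leaf 112043 6
 Tr.leaf) 112049 6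
 Tr.leaf) 112051 5
 (Tr.node Tr.leaf 112057 6
 Tr.leaf))))) 112059 6
 (Tr.node (Tr.node (Tr.node (Tr.node (Tr.node (Tr.node Tr.leaf 112069 5
 Tr.leaf) 112071 5
 Tr.leaf) 112077 6
 (Tr.node (Tr.node Tr.leaf 112079 5
 Tr.leaf) 112085 6
 Tr.leaf)) 112087 6
 (Tr.node (Tr.node (Tr.node Tr.leaf 112093 5
 Tr.leaf) 112095 6
 Tr.leaf) 112097 6
 (Tr.node Tr.leaf 112099 7
 Tr.leaf))) 112105 6
 (Tr.node (Tr.node (Tr.node (Tr.node Tr.leaf 112107 5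
 Tr.leaf) 112113 6
 Tr.leaf) 112115 6
 (Tr.node Tr.leaf 112121 6
 Tr.leaf)) 112123 6
 (Tr.node (Tr.node (Tr.node Tr.leaf 112641 6
 Tr.leaf) 112642 6
 Tr.leaf) 112645 5
 (Tr.node Tr.leaf 112646 5
 Tr.leaf)))) 112649 6
 (Tr.node (Tr.node (Tr.node (Tr.node (Tr.node Tr.leaf 112650 5
 Tr.leaf) 112653 6
 Tr.leaf) 112654 5
 (Tr.node (Tr.node Tr.leaf 112657 4
 Tr.leaf) 112658 5
 Tr.leaf)) 112661 4
 (Tr.node (Tr.node (Tr.node Tr.leaf 112662 5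
 Tr.leaf) 112665 6
 Tr.leaf) 112666 6
 (Tr.node Tr.leaf 112669 6
 Tr.leaf))) 112670 6
 (Tr.node (Tr.node (Tr.node (Tr.node Tr.leaf 112675 6
 Tr.leaf) 112679 6
 Tr.leaf) 112683 5
 (Tr.node Tr.leaf 112687 6
 Tr.leaf)) 112691 6
 (Tr.node (Tr.node (Tr.node Tr.leaf 112695 5
 Tr.leaf) 112699 6
 Tr.leaf) 112703 5
 (Tr.node Tr.leaf 112705 4
 Tr.leaf)))))) 112706 5
 (Tr.node (Tr.node (Tr.node (Tr.node (Tr.node (Tr.node (Tr.node Tr.leaf 112709 5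
 Tr.leaf) 112710 4
 Tr.leaf) 112713 7
 (Tr.node (Tr.node Tr.leaf 112714 5
 Tr.leaf) 112717 4
 Tr.leaf)) 112718 6
 (Tr.node (Tr.node (Tr.node Tr.leaf 112721 6
 Tr.leaf) 112722 6
 Tr.leaf) 112725 6
 (Tr.node Tr.leaf 112726 6
 Tr.leaf))) 112729 4
 (Tr.node (Tr.node (Tr.node (Tr.node Tr.leaf 112730 5
 Tr.leaf) 112733 4
 Tr.leaf) 112734 4
 (Tr.node (Tr.node Tr.leaf 112739 6
 Tr.leaf) 112743 6
 Tr.leaf)) 112747 6
 (Tr.node (Tr.node (Tr.node Tr.leaf 112751 6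
 Tr.leaf) 112755 6
 Tr.leaf) 112759 6
 (Tr.node Tr.leaf 112763 5
 Tr.leaf)))) 112767 6
 (Tr.node (Tr.node (Tr.node (Tr.node (Tr.node Tr.leaf 112769 6
 Tr.leaf) 112770 6
 Tr.leaf) 112773 6
 (Tr.node (Tr.node Tr.leaf 112774 6
 Tr.leaf) 112777 4
 Tr.leaf)) 112778 4
 (Tr.node (Tr.node (Tr.node Tr.leaf 112781 4
 Tr.leaf) 112782 5
 Tr.leaf) 112785 4
 (Tr.node Tr.leaf 112786 6
 Tr.leaf))) 112789 6
 (Tr.node (Tr.node (Tr.node (Tr.node Tr.leaf 112790 5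
 Tr.leaf) 112793 6
 Tr.leaf) 112794 5
 (Tr.node Tr.leaf 112797 6
 Tr.leaf)) 112798 5
 (Tr.node (Tr.node (Tr.node Tr.leaf 112803 6
 Tr.leaf) 112807 6
 Tr.leaf) 112811 6
 (Tr.node Tr.leaf 112815 5
 Tr.leaf))))) 112819 6
 (Tr.node (Tr.node (Tr.node (Tr.node (Tr.node (Tr.node Tr.leaf 112823 5
 Tr.leaf) 112827 5
 Tr.leaf) 112831 6
 (Tr.node (Tr.node Tr.leaf 112833 6
 Tr.leaf) 112834 6
 Tr.leaf)) 112837 6
 (Tr.node (Tr.node (Tr.node Tr.leaf 112838 6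
 Tr.leaf) 112841 6
 Tr.leaf) 112842 6
 (Tr.node Tr.leaf 112845 6
 Tr.leaf))) 112846 6
 (Tr.node (Tr.node (Tr.node (Tr.node Tr.leaf 112849 5
 Tr.leaf) 112850 4
 Tr.leaf) 112853 4
 (Tr.node Tr.leaf 112854 4
 Tr.leaf)) 112857 5
 (Tr.node (Tr.node (Tr.node Tr.leaf 112858 5
 Tr.leaf) 112861 6
 Tr.leaf) 112862 6
 (Tr.node Tr.leaf 112867 6
 Tr.leaf)))) 112871 6
 (Tr.node (Tr.node (Tr.node (Tr.node (Tr.node Tr.leaf 112875 6
 Tr.leaf) 112879 6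
 Tr.leaf) 112883 6
 (Tr.node (Tr.node Tr.leaf 112887 6
 Tr.leaf) 112891 5
 Tr.leaf)) 112895 6
 (Tr.node (Tr.node (Tr.node Tr.leaf 112899 6
 Tr.leaf) 112903 5
 Tr.leaf) 112907 6
 (Tr.node Tr.leaf 112911 5
 Tr.leaf))) 112915 6
 (Tr.node (Tr.node (Tr.node (Tr.node Tr.leaf 112919 5
 Tr.leaf) 112923 5
 Tr.leaf) 112927 6
 (Tr.node Tr.leaf 112929 6
 Tr.leaf)) 112930 6
 (Tr.node (Tr.node (Tr.node Tr.leaf 112933 6
 Tr.leaf) 112934 6
 Tr.leaf) 112937 6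
 (Tr.node Tr.leaf 112938 5
 Tr.leaf))))))) 112941 6
 (Tr.node (Tr.node (Tr.node (Tr.node (Tr.node (Tr.node (Tr.node (Tr.node Tr.leaf 112942 6
 Tr.leaf) 112945 5
 Tr.leaf) 112946 5
 (Tr.node (Tr.node Tr.leaf 112949 5
 Tr.leaf) 112950 5
 Tr.leaf)) 112953 5
 (Tr.node (Tr.node (Tr.node Tr.leaf 112954 5
 Tr.leaf) 112957 5
 Tr.leaf) 112958 5
 (Tr.node Tr.leaf 112963 6
 Tr.leaf))) 112967 6
 (Tr.node (Tr.node (Tr.node (Tr.node Tr.leaf 112971 5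
 Tr.leaf) 112975 6
 Tr.leaf) 112979 6
 (Tr.node (Tr.node Tr.leaf 112983 6
 Tr.leaf) 112987 5
 Tr.leaf)) 112991 6
 (Tr.node (Tr.node (Tr.node Tr.leaf 112993 7
 Tr.leaf) 112994 6
 Tr.leaf) 112997 6
 (Tr.node Tr.leaf 112998 6
 Tr.leaf)))) 113001 6
 (Tr.node (Tr.node (Tr.node (Tr.node (Tr.node Tr.leaf 113002 6
 Tr.leaf) 113005 6
 Tr.leaf) 113006 6
 (Tr.node (Tr.node Tr.leaf 113009 6
 Tr.leaf) 113010 5
 Tr.leaf)) 113013 6
 (Tr.node (Tr.node (Tr.node Tr.leaf 113014 5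
 Tr.leaf) 113017 5
 Tr.leaf) 113018 5
 (Tr.node Tr.leaf 113021 5
 Tr.leaf))) 113022 5
 (Tr.node (Tr.node (Tr.node (Tr.node Tr.leaf 113027 6
 Tr.leaf) 113031 6
 Tr.leaf) 113035 5
 (Tr.node Tr.leaf 113039 6
 Tr.leaf)) 113043 6
 (Tr.node (Tr.node (Tr.node Tr.leaf 113047 6
 Tr.leaf) 113051 5
 Tr.leaf) 113055 5
 (Tr.node Tr.leaf 113057 5
 Tr.leaf))))) 113058 5
 (Tr.node (Tr.node (Tr.node (Tr.node (Tr.node (Tr.node Tr.leaf 113061 6
 Tr.leaf) 113062 5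
 Tr.leaf) 113065 5
 (Tr.node (Tr.node Tr.leaf 113066 5
 Tr.leaf) 113069 5
 Tr.leaf)) 113070 5
 (Tr.node (Tr.node (Tr.node Tr.leaf 113073 6
 Tr.leaf) 113074 6
 Tr.leaf) 113077 6
 (Tr.node Tr.leaf 113078 6
 Tr.leaf))) 113081 6
 (Tr.node (Tr.node (Tr.node (Tr.node Tr.leaf 113082 6
 Tr.leaf) 113085 6
 Tr.leaf) 113086 5
 (Tr.node Tr.leaf 113091 6
 Tr.leaf)) 113095 6
 (Tr.node (Tr.node (Tr.node Tr.leaf 113099 6
 Tr.leaf) 113103 5
 Tr.leaf) 113107 6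
 (Tr.node Tr.leaf 113111 6
 Tr.leaf)))) 113115 6
 (Tr.node (Tr.node (Tr.node (Tr.node (Tr.node Tr.leaf 113119 6
 Tr.leaf) 113121 6
 Tr.leaf) 113122 5
 (Tr.node (Tr.node Tr.leaf 113125 6
 Tr.leaf) 113126 5
 Tr.leaf)) 113129 7
 (Tr.node (Tr.node (Tr.node Tr.leaf 113130 5
 Tr.leaf) 113133 5
 Tr.leaf) 113134 6
 (Tr.node Tr.leaf 113137 6
 Tr.leaf))) 113138 6
 (Tr.node (Tr.node (Tr.node (Tr.node Tr.leaf 113141 6
 Tr.leaf) 113142 6
 Tr.leaf) 113145 6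
 (Tr.node Tr.leaf 113146 6
 Tr.leaf)) 113149 6
 (Tr.node (Tr.node (Tr.node Tr.leaf 113150 6
 Tr.leaf) 113697 6
 Tr.leaf) 113699 6
 (Tr.node Tr.leaf 113701 6
 Tr.leaf)))))) 113703 5
 (Tr.node (Tr.node (Tr.node (Tr.node (Tr.node (Tr.node (Tr.node Tr.leaf 113705 6
 Tr.leaf) 113707 6
 Tr.leaf) 113709 6
 (Tr.node (Tr.node Tr.leaf 113711 5
 Tr.leaf) 113713 5
 Tr.leaf)) 113715 6
 (Tr.node (Tr.node (Tr.node Tr.leaf 113717 6
 Tr.leaf) 113719 6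
 Tr.leaf) 113721 6
 (Tr.node Tr.leaf 113723 6
 Tr.leaf))) 113725 6
 (Tr.node (Tr.node (Tr.node (Tr.node Tr.leaf 113727 6
 Tr.leaf) 113761 6
 Tr.leaf) 113763 6
 (Tr.node (Tr.node Tr.leaf 113765 6
 Tr.leaf) 113767 6
 Tr.leaf)) 113769 6
 (Tr.node (Tr.node (Tr.node Tr.leaf 113771 6
 Tr.leaf) 113773 6
 Tr.leaf) 113775 6
 (Tr.node Tr.leaf 113777 5
 Tr.leaf)))) 113779 7
 (Tr.node (Tr.node (Tr.node (Tr.node (Tr.node Tr.leaf 113781 6
 Tr.leaf) 113783 6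
 Tr.leaf) 113785 6
 (Tr.node (Tr.node Tr.leaf 113787 6
 Tr.leaf) 113789 6
 Tr.leaf)) 113791 6
 (Tr.node (Tr.node (Tr.node Tr.leaf 113825 6
 Tr.leaf) 113827 7
 Tr.leaf) 113829 6
 (Tr.node Tr.leaf 113831 6
 Tr.leaf))) 113833 6
 (Tr.node (Tr.node (Tr.node (Tr.node Tr.leaf 113835 6
 Tr.leaf) 113837 6
 Tr.leaf) 113839 6
 (Tr.node Tr.leaf 113841 6
 Tr.leaf)) 113843 6
 (Tr.node (Tr.node (Tr.node Tr.leaf 113845 6
 Tr.leaf) 113847 6
 Tr.leaf) 113849 6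
 (Tr.node Tr.leaf 113851 6
 Tr.leaf))))) 113853 6
 (Tr.node (Tr.node (Tr.node (Tr.node (Tr.node (Tr.node Tr.leaf 113855 6
 Tr.leaf) 113889 5
 Tr.leaf) 113891 6
 (Tr.node (Tr.node Tr.leaf 113893 6
 Tr.leaf) 113895 6
 Tr.leaf)) 113897 6
 (Tr.node (Tr.node (Tr.node Tr.leaf 113899 6
 Tr.leaf) 113901 6
 Tr.leaf) 113903 6
 (Tr.node Tr.leaf 113905 6
 Tr.leaf))) 113907 6
 (Tr.node (Tr.node (Tr.node (Tr.node Tr.leaf 113909 6
 Tr.leaf) 113911 6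
 Tr.leaf) 113913 6
 (Tr.node Tr.leaf 113915 5
 Tr.leaf)) 113917 5
 (Tr.node (Tr.node (Tr.node Tr.leaf 113919 6
 Tr.leaf) 113921 6
 Tr.leaf) 113923 5
 (Tr.node Tr.leaf 113925 6
 Tr.leaf)))) 113927 6
 (Tr.node (Tr.node (Tr.node (Tr.node (Tr.node Tr.leaf 113929 6
 Tr.leaf) 113931 6
 Tr.leaf) 113933 6
 (Tr.node (Tr.node Tr.leaf 113935 6
 Tr.leaf) 113937 6
 Tr.leaf)) 113939 6
 (Tr.node (Tr.node (Tr.node Tr.leaf 113941 6
 Tr.leaf) 113943 6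
 Tr.leaf) 113945 6
 (Tr.node Tr.leaf 113947 6
 Tr.leaf))) 113949 6
 (Tr.node (Tr.node (Tr.node (Tr.node Tr.leaf 113951 6
 Tr.leaf) 113985 6
 Tr.leaf) 113987 6
 (Tr.node Tr.leaf 113989 6
 Tr.leaf)) 113991 5
 (Tr.node (Tr.node (Tr.node Tr.leaf 113993 6
 Tr.leaf) 113995 6
 Tr.leaf) 113997 6
 (Tr.node Tr.leaf 113999 6
 Tr.leaf)))))))))

/-- A subtree. -/
def tr2_s28 : Tr := (Tr.node (Tr.node (Tr.node (Tr.node (Tr.node (Tr.node (Tr.node (Tr.node (Tr.node (Tr.node Tr.leaf 114003 6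
 Tr.leaf) 114005 6
 Tr.leaf) 114007 6
 (Tr.node (Tr.node Tr.leaf 114009 6
 Tr.leaf) 114011 6
 Tr.leaf)) 114013 6
 (Tr.node (Tr.node (Tr.node Tr.leaf 114015 5
 Tr.leaf) 114049 6
 Tr.leaf) 114051 6
 (Tr.node Tr.leaf 114053 6
 Tr.leaf))) 114055 6
 (Tr.node (Tr.node (Tr.node (Tr.node Tr.leaf 114057 6
 Tr.leaf) 114059 6
 Tr.leaf) 114061 6
 (Tr.node (Tr.node Tr.leaf 114063 6
 Tr.leaf) 114065 6
 Tr.leaf)) 114067 6
 (Tr.node (Tr.node (Tr.node Tr.leaf 114069 6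
 Tr.leaf) 114071 6
 Tr.leaf) 114073 6
 (Tr.node Tr.leaf 114075 6
 Tr.leaf)))) 114077 6
 (Tr.node (Tr.node (Tr.node (Tr.node (Tr.node Tr.leaf 114079 6
 Tr.leaf) 114113 6
 Tr.leaf) 114115 6
 (Tr.node (Tr.node Tr.leaf 114117 6
 Tr.leaf) 114119 6
 Tr.leaf)) 114121 6
 (Tr.node (Tr.node (Tr.node Tr.leaf 114123 6
 Tr.leaf) 114125 7
 Tr.leaf) 114127 6
 (Tr.node Tr.leaf 114129 6
 Tr.leaf))) 114131 6
 (Tr.node (Tr.node (Tr.node (Tr.node Tr.leaf 114133 6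
 Tr.leaf) 114135 6
 Tr.leaf) 114137 5
 (Tr.node Tr.leaf 114139 6
 Tr.leaf)) 114141 6
 (Tr.node (Tr.node (Tr.node Tr.leaf 114143 6
 Tr.leaf) 114689 5
 Tr.leaf) 114690 5
 (Tr.node Tr.leaf 114692 5
 Tr.leaf))))) 114695 6
 (Tr.node (Tr.node (Tr.node (Tr.node (Tr.node (Tr.node Tr.leaf 114696 7
 Tr.leaf) 114699 6
 Tr.leaf) 114701 6
 (Tr.node (Tr.node Tr.leaf 114702 6
 Tr.leaf) 114704 5
 Tr.leaf)) 114707 6
 (Tr.node (Tr.node (Tr.node Tr.leaf 114709 6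
 Tr.leaf) 114710 6
 Tr.leaf) 114713 6
 (Tr.node Tr.leaf 114714 3
 Tr.leaf))) 114716 5
 (Tr.node (Tr.node (Tr.node (Tr.node Tr.leaf 114719 6
 Tr.leaf) 114721 4
 Tr.leaf) 114722 4
 (Tr.node (Tr.node Tr.leaf 114724 4
 Tr.leaf) 114727 5
 Tr.leaf)) 114728 6
 (Tr.node (Tr.node (Tr.node Tr.leaf 114731 6
 Tr.leaf) 114733 4
 Tr.leaf) 114734 6
 (Tr.node Tr.leaf 114736 6
 Tr.leaf)))) 114739 6
 (Tr.node (Tr.node (Tr.node (Tr.node (Tr.node Tr.leaf 114741 6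
 Tr.leaf) 114742 6
 Tr.leaf) 114745 5
 (Tr.node (Tr.node Tr.leaf 114746 6
 Tr.leaf) 114748 3
 Tr.leaf)) 114751 6
 (Tr.node (Tr.node (Tr.node Tr.leaf 114753 4
 Tr.leaf) 114754 4
 Tr.leaf) 114756 4
 (Tr.node Tr.leaf 114759 6
 Tr.leaf))) 114760 6
 (Tr.node (Tr.node (Tr.node (Tr.node Tr.leaf 114763 3
 Tr.leaf) 114765 5
 Tr.leaf) 114766 6
 (Tr.node Tr.leaf 114768 5
 Tr.leaf)) 114771 4
 (Tr.node (Tr.node (Tr.node Tr.leaf 114773 6
 Tr.leaf) 114774 6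
 Tr.leaf) 114777 4
 (Tr.node Tr.leaf 114778 3
 Tr.leaf)))))) 114780 6
 (Tr.node (Tr.node (Tr.node (Tr.node (Tr.node (Tr.node (Tr.node Tr.leaf 114783 6
 Tr.leaf) 114785 4
 Tr.leaf) 114786 4
 (Tr.node (Tr.node Tr.leaf 114788 5
 Tr.leaf) 114791 6
 Tr.leaf)) 114792 6
 (Tr.node (Tr.node (Tr.node Tr.leaf 114795 4
 Tr.leaf) 114797 4
 Tr.leaf) 114798 6
 (Tr.node Tr.leaf 114800 6
 Tr.leaf))) 114803 6
 (Tr.node (Tr.node (Tr.node (Tr.node Tr.leaf 114805 6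
 Tr.leaf) 114806 6
 Tr.leaf) 114809 6
 (Tr.node (Tr.node Tr.leaf 114810 5
 Tr.leaf) 114812 6
 Tr.leaf)) 114815 6
 (Tr.node (Tr.node (Tr.node Tr.leaf 114817 4
 Tr.leaf) 114818 5
 Tr.leaf) 114820 3
 (Tr.node Tr.leaf 114823 5
 Tr.leaf)))) 114824 6
 (Tr.node (Tr.node (Tr.node (Tr.node (Tr.node Tr.leaf 114827 6
 Tr.leaf) 114829 6
 Tr.leaf) 114830 6
 (Tr.node (Tr.node Tr.leaf 114832 6
 Tr.leaf) 114835 6
 Tr.leaf)) 114837 6
 (Tr.node (Tr.node (Tr.node Tr.leaf 114838 6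
 Tr.leaf) 114841 7
 Tr.leaf) 114842 6
 (Tr.node Tr.leaf 114844 6
 Tr.leaf))) 114847 5
 (Tr.node (Tr.node (Tr.node (Tr.node Tr.leaf 114849 4
 Tr.leaf) 114850 4
 Tr.leaf) 114852 4
 (Tr.node Tr.leaf 114855 4
 Tr.leaf)) 114856 6
 (Tr.node (Tr.node (Tr.node Tr.leaf 114859 5
 Tr.leaf) 114861 4
 Tr.leaf) 114862 6
 (Tr.node Tr.leaf 114864 6
 Tr.leaf))))) 114867 7
 (Tr.node (Tr.node (Tr.node (Tr.node (Tr.node (Tr.node Tr.leaf 114869 6
 Tr.leaf) 114870 6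
 Tr.leaf) 114873 6
 (Tr.node (Tr.node Tr.leaf 114874 5
 Tr.leaf) 114876 6
 Tr.leaf)) 114879 6
 (Tr.node (Tr.node (Tr.node Tr.leaf 114881 4
 Tr.leaf) 114882 4
 Tr.leaf) 114884 5
 (Tr.node Tr.leaf 114887 5
 Tr.leaf))) 114888 6
 (Tr.node (Tr.node (Tr.node (Tr.node Tr.leaf 114891 7
 Tr.leaf) 114893 5
 Tr.leaf) 114894 6
 (Tr.node Tr.leaf 114896 6
 Tr.leaf)) 114899 6
 (Tr.node (Tr.node (Tr.node Tr.leaf 114901 6
 Tr.leaf) 114902 6
 Tr.leaf) 114905 5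
 (Tr.node Tr.leaf 114906 6
 Tr.leaf)))) 114908 3
 (Tr.node (Tr.node (Tr.node (Tr.node (Tr.node Tr.leaf 114911 6
 Tr.leaf) 114913 4
 Tr.leaf) 114914 4
 (Tr.node (Tr.node Tr.leaf 114916 4
 Tr.leaf) 114919 7
 Tr.leaf)) 114920 7
 (Tr.node (Tr.node (Tr.node Tr.leaf 114923 5
 Tr.leaf) 114925 6
 Tr.leaf) 114926 6
 (Tr.node Tr.leaf 114928 6
 Tr.leaf))) 114931 6
 (Tr.node (Tr.node (Tr.node (Tr.node Tr.leaf 114933 6
 Tr.leaf) 114934 6
 Tr.leaf) 114937 5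
 (Tr.node Tr.leaf 114938 3
 Tr.leaf)) 114940 6
 (Tr.node (Tr.node (Tr.node Tr.leaf 114943 6
 Tr.leaf) 114947 6
 Tr.leaf) 114949 5
 (Tr.node Tr.leaf 114950 6
 Tr.leaf))))))) 114953 6
 (Tr.node (Tr.node (Tr.node (Tr.node (Tr.node (Tr.node (Tr.node (Tr.node Tr.leaf 114954 6
 Tr.leaf) 114956 6
 Tr.leaf) 114959 6
 (Tr.node (Tr.node Tr.leaf 114961 6
 Tr.leaf) 114962 6
 Tr.leaf)) 114964 4
 (Tr.node (Tr.node (Tr.node Tr.leaf 114967 6
 Tr.leaf) 114968 6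
 Tr.leaf) 114971 5
 (Tr.node Tr.leaf 114973 6
 Tr.leaf))) 114974 6
 (Tr.node (Tr.node (Tr.node (Tr.node Tr.leaf 114979 6
 Tr.leaf) 114981 6
 Tr.leaf) 114982 4
 (Tr.node (Tr.node Tr.leaf 114985 5
 Tr.leaf) 114986 4
 Tr.leaf)) 114988 3
 (Tr.node (Tr.node (Tr.node Tr.leaf 114991 6
 Tr.leaf) 114993 6
 Tr.leaf) 114994 6
 (Tr.node Tr.leaf 114996 6
 Tr.leaf)))) 114999 5
 (Tr.node (Tr.node (Tr.node (Tr.node (Tr.node Tr.leaf 115000 6
 Tr.leaf) 115003 6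
 Tr.leaf) 115005 6
 (Tr.node (Tr.node Tr.leaf 115006 6
 Tr.leaf) 115011 5
 Tr.leaf)) 115013 6
 (Tr.node (Tr.node (Tr.node Tr.leaf 115014 6
 Tr.leaf) 115017 6
 Tr.leaf) 115018 4
 (Tr.node Tr.leaf 115020 6
 Tr.leaf))) 115023 6
 (Tr.node (Tr.node (Tr.node (Tr.node Tr.leaf 115025 6
 Tr.leaf) 115026 4
 Tr.leaf) 115028 6
 (Tr.node Tr.leaf 115031 6
 Tr.leaf)) 115032 6
 (Tr.node (Tr.node (Tr.node Tr.leaf 115035 6
 Tr.leaf) 115037 6
 Tr.leaf) 115038 6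
 (Tr.node Tr.leaf 115043 6
 Tr.leaf))))) 115045 4
 (Tr.node (Tr.node (Tr.node (Tr.node (Tr.node (Tr.node Tr.leaf 115046 6
 Tr.leaf) 115049 6
 Tr.leaf) 115050 6
 (Tr.node (Tr.node Tr.leaf 115052 6
 Tr.leaf) 115055 6
 Tr.leaf)) 115057 6
 (Tr.node (Tr.node (Tr.node Tr.leaf 115058 5
 Tr.leaf) 115060 5
 Tr.leaf) 115063 5
 (Tr.node Tr.leaf 115064 6
 Tr.leaf))) 115067 7
 (Tr.node (Tr.node (Tr.node (Tr.node Tr.leaf 115069 6
 Tr.leaf) 115070 5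
 Tr.leaf) 115075 4
 (Tr.node Tr.leaf 115077 6
 Tr.leaf)) 115078 5
 (Tr.node (Tr.node (Tr.node Tr.leaf 115081 5
 Tr.leaf) 115082 6
 Tr.leaf) 115084 6
 (Tr.node Tr.leaf 115087 6
 Tr.leaf)))) 115089 5
 (Tr.node (Tr.node (Tr.node (Tr.node (Tr.node Tr.leaf 115090 6
 Tr.leaf) 115092 6
 Tr.leaf) 115095 6
 (Tr.node (Tr.node Tr.leaf 115096 6
 Tr.leaf) 115099 6
 Tr.leaf)) 115101 6
 (Tr.node (Tr.node (Tr.node Tr.leaf 115102 6
 Tr.leaf) 115107 5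
 Tr.leaf) 115109 4
 (Tr.node Tr.leaf 115110 6
 Tr.leaf))) 115113 4
 (Tr.node (Tr.node (Tr.node (Tr.node Tr.leaf 115114 4
 Tr.leaf) 115116 6
 Tr.leaf) 115119 5
 (Tr.node Tr.leaf 115121 4
 Tr.leaf)) 115122 6
 (Tr.node (Tr.node (Tr.node Tr.leaf 115124 5
 Tr.leaf) 115127 6
 Tr.leaf) 115128 6
 (Tr.node Tr.leaf 115131 6
 Tr.leaf)))))) 115133 6
 (Tr.node (Tr.node (Tr.node (Tr.node (Tr.node (Tr.node (Tr.node Tr.leaf 115134 5
 Tr.leaf) 115139 6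
 Tr.leaf) 115141 5
 (Tr.node (Tr.node Tr.leaf 115142 6
 Tr.leaf) 115145 4
 Tr.leaf)) 115146 5
 (Tr.node (Tr.node (Tr.node Tr.leaf 115148 3
 Tr.leaf) 115151 6
 Tr.leaf) 115153 6
 (Tr.node Tr.leaf 115154 5
 Tr.leaf))) 115156 6
 (Tr.node (Tr.node (Tr.node (Tr.node Tr.leaf 115159 6
 Tr.leaf) 115160 6
 Tr.leaf) 115163 6
 (Tr.node (Tr.node Tr.leaf 115165 6
 Tr.leaf) 115166 6
 Tr.leaf)) 115171 6
 (Tr.node (Tr.node (Tr.node Tr.leaf 115173 6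
 Tr.leaf) 115174 6
 Tr.leaf) 115177 6
 (Tr.node Tr.leaf 115178 6
 Tr.leaf)))) 115180 5
 (Tr.node (Tr.node (Tr.node (Tr.node (Tr.node Tr.leaf 115183 6
 Tr.leaf) 115185 6
 Tr.leaf) 115186 4
 (Tr.node (Tr.node Tr.leaf 115188 6
 Tr.leaf) 115191 5
 Tr.leaf)) 115192 6
 (Tr.node (Tr.node (Tr.node Tr.leaf 115195 6
 Tr.leaf) 115197 6
 Tr.leaf) 115198 5
 (Tr.node Tr.leaf 115717 7
 Tr.leaf))) 115719 5
 (Tr.node (Tr.node (Tr.node (Tr.node Tr.leaf 115721 6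
 Tr.leaf) 115723 7
 Tr.leaf) 115729 6
 (Tr.node Tr.leaf 115731 6
 Tr.leaf)) 115741 6
 (Tr.node (Tr.node (Tr.node Tr.leaf 115743 6
 Tr.leaf) 115749 6
 Tr.leaf) 115751 5
 (Tr.node Tr.leaf 115753 4
 Tr.leaf))))) 115755 6
 (Tr.node (Tr.node (Tr.node (Tr.node (Tr.node (Tr.node Tr.leaf 115761 5
 Tr.leaf) 115763 6
 Tr.leaf) 115773 6
 (Tr.node (Tr.node Tr.leaf 115775 6
 Tr.leaf) 115781 6
 Tr.leaf)) 115783 6
 (Tr.node (Tr.node (Tr.node Tr.leaf 115785 5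
 Tr.leaf) 115787 6
 Tr.leaf) 115793 6
 (Tr.node Tr.leaf 115795 6
 Tr.leaf))) 115805 6
 (Tr.node (Tr.node (Tr.node (Tr.node Tr.leaf 115807 6
 Tr.leaf) 115813 4
 Tr.leaf) 115815 6
 (Tr.node Tr.leaf 115817 5
 Tr.leaf)) 115819 6
 (Tr.node (Tr.node (Tr.node Tr.leaf 115825 6
 Tr.leaf) 115827 6
 Tr.leaf) 115837 5
 (Tr.node Tr.leaf 115839 7
 Tr.leaf)))) 115845 6
 (Tr.node (Tr.node (Tr.node (Tr.node (Tr.node Tr.leaf 115847 6
 Tr.leaf) 115849 7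
 Tr.leaf) 115851 4
 (Tr.node (Tr.node Tr.leaf 115857 5
 Tr.leaf) 115859 6
 Tr.leaf)) 115869 6
 (Tr.node (Tr.node (Tr.node Tr.leaf 115871 6
 Tr.leaf) 115877 6
 Tr.leaf) 115879 6
 (Tr.node Tr.leaf 115881 6
 Tr.leaf))) 115883 4
 (Tr.node (Tr.node (Tr.node (Tr.node Tr.leaf 115889 6
 Tr.leaf) 115891 4
 Tr.leaf) 115901 6
 (Tr.node Tr.leaf 115903 5
 Tr.leaf)) 115909 6
 (Tr.node (Tr.node (Tr.node Tr.leaf 115911 4
 Tr.leaf) 115913 4
 Tr.leaf) 115915 5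
 (Tr.node Tr.leaf 115921 5
 Tr.leaf)))))))) 115923 6
 (Tr.node (Tr.node (Tr.node (Tr.node (Tr.node (Tr.node (Tr.node (Tr.node (Tr.node Tr.leaf 115933 6
 Tr.leaf) 115935 6
 Tr.leaf) 115941 5
 (Tr.node (Tr.node Tr.leaf 115943 6
 Tr.leaf) 115945 6
 Tr.leaf)) 115947 6
 (Tr.node (Tr.node (Tr.node Tr.leaf 115953 6
 Tr.leaf) 115955 6
 Tr.leaf) 115965 6
 (Tr.node Tr.leaf 115967 6
 Tr.leaf))) 115969 6
 (Tr.node (Tr.node (Tr.node (Tr.node Tr.leaf 115971 4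
 Tr.leaf) 115981 6
 Tr.leaf) 115983 5
 (Tr.node (Tr.node Tr.leaf 115989 7
 Tr.leaf) 115991 6
 Tr.leaf)) 115993 6
 (Tr.node (Tr.node (Tr.node Tr.leaf 115995 6
 Tr.leaf) 116001 6
 Tr.leaf) 116003 6
 (Tr.node Tr.leaf 116013 6
 Tr.leaf)))) 116015 6
 (Tr.node (Tr.node (Tr.node (Tr.node (Tr.node Tr.leaf 116021 6
 Tr.leaf) 116023 6
 Tr.leaf) 116025 6
 (Tr.node (Tr.node Tr.leaf 116027 5
 Tr.leaf) 116033 6
 Tr.leaf)) 116035 6
 (Tr.node (Tr.node (Tr.node Tr.leaf 116045 6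
 Tr.leaf) 116047 6
 Tr.leaf) 116053 6
 (Tr.node Tr.leaf 116055 6
 Tr.leaf))) 116057 6
 (Tr.node (Tr.node (Tr.node (Tr.node Tr.leaf 116059 6
 Tr.leaf) 116065 4
 Tr.leaf) 116067 5
 (Tr.node Tr.leaf 116077 5
 Tr.leaf)) 116079 6
 (Tr.node (Tr.node (Tr.node Tr.leaf 116085 6
 Tr.leaf) 116087 6
 Tr.leaf) 116089 5
 (Tr.node Tr.leaf 116091 5
 Tr.leaf))))) 116097 6
 (Tr.node (Tr.node (Tr.node (Tr.node (Tr.node (Tr.node Tr.leaf 116099 7
 Tr.leaf) 116109 6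
 Tr.leaf) 116111 6
 (Tr.node (Tr.node Tr.leaf 116117 5
 Tr.leaf) 116119 5
 Tr.leaf)) 116121 6
 (Tr.node (Tr.node (Tr.node Tr.leaf 116123 6
 Tr.leaf) 116129 6
 Tr.leaf) 116131 6
 (Tr.node Tr.leaf 116141 6
 Tr.leaf))) 116143 6
 (Tr.node (Tr.node (Tr.node (Tr.node Tr.leaf 116149 6
 Tr.leaf) 116151 6
 Tr.leaf) 116153 6
 (Tr.node (Tr.node Tr.leaf 116155 6
 Tr.leaf) 116161 6
 Tr.leaf)) 116163 4
 (Tr.node (Tr.node (Tr.node Tr.leaf 116173 5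
 Tr.leaf) 116175 6
 Tr.leaf) 116181 5
 (Tr.node Tr.leaf 116183 6
 Tr.leaf)))) 116185 6
 (Tr.node (Tr.node (Tr.node (Tr.node (Tr.node Tr.leaf 116187 6
 Tr.leaf) 116193 6
 Tr.leaf) 116195 6
 (Tr.node (Tr.node Tr.leaf 116205 6
 Tr.leaf) 116207 6
 Tr.leaf)) 116213 6
 (Tr.node (Tr.node (Tr.node Tr.leaf 116215 6
 Tr.leaf) 116217 6
 Tr.leaf) 116219 7
 (Tr.node Tr.leaf 116739 6
 Tr.leaf))) 116743 6
 (Tr.node (Tr.node (Tr.node (Tr.node Tr.leaf 116745 5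
 Tr.leaf) 116746 6
 Tr.leaf) 116749 6
 (Tr.node Tr.leaf 116750 5
 Tr.leaf)) 116753 6
 (Tr.node (Tr.node (Tr.node Tr.leaf 116754 3
 Tr.leaf) 116757 6
 Tr.leaf) 116758 5
 (Tr.node Tr.leaf 116763 6
 Tr.leaf)))))) 116767 5
 (Tr.node (Tr.node (Tr.node (Tr.node (Tr.node (Tr.node (Tr.node Tr.leaf 116771 6
 Tr.leaf) 116775 6
 Tr.leaf) 116777 6
 (Tr.node (Tr.node Tr.leaf 116778 6
 Tr.leaf) 116781 6
 Tr.leaf)) 116782 6
 (Tr.node (Tr.node (Tr.node Tr.leaf 116785 6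
 Tr.leaf) 116786 6
 Tr.leaf) 116789 6
 (Tr.node Tr.leaf 116790 5
 Tr.leaf))) 116795 6
 (Tr.node (Tr.node (Tr.node (Tr.node Tr.leaf 116799 6
 Tr.leaf) 116803 7
 Tr.leaf) 116807 5
 (Tr.node (Tr.node Tr.leaf 116809 6
 Tr.leaf) 116810 6
 Tr.leaf)) 116813 4
 (Tr.node (Tr.node (Tr.node Tr.leaf 116814 7
 Tr.leaf) 116817 6
 Tr.leaf) 116818 5
 (Tr.node Tr.leaf 116821 6
 Tr.leaf)))) 116822 6
 (Tr.node (Tr.node (Tr.node (Tr.node (Tr.node Tr.leaf 116827 6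
 Tr.leaf) 116831 6
 Tr.leaf) 116835 6
 (Tr.node (Tr.node Tr.leaf 116839 6
 Tr.leaf) 116841 5
 Tr.leaf)) 116842 6
 (Tr.node (Tr.node (Tr.node Tr.leaf 116845 6
 Tr.leaf) 116846 6
 Tr.leaf) 116849 5
 (Tr.node Tr.leaf 116850 6
 Tr.leaf))) 116853 6
 (Tr.node (Tr.node (Tr.node (Tr.node Tr.leaf 116854 5
 Tr.leaf) 116859 5
 Tr.leaf) 116863 6
 (Tr.node Tr.leaf 116867 4
 Tr.leaf)) 116871 5
 (Tr.node (Tr.node (Tr.node Tr.leaf 116873 6
 Tr.leaf) 116874 6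
 Tr.leaf) 116877 4
 (Tr.node Tr.leaf 116878 6
 Tr.leaf))))) 116881 5
 (Tr.node (Tr.node (Tr.node (Tr.node (Tr.node (Tr.node Tr.leaf 116882 4
 Tr.leaf) 116885 5
 Tr.leaf) 116886 6
 (Tr.node (Tr.node Tr.leaf 116891 6
 Tr.leaf) 116895 5
 Tr.leaf)) 116899 4
 (Tr.node (Tr.node (Tr.node Tr.leaf 116903 6
 Tr.leaf) 116905 6
 Tr.leaf) 116906 7
 (Tr.node Tr.leaf 116909 6
 Tr.leaf))) 116910 5
 (Tr.node (Tr.node (Tr.node (Tr.node Tr.leaf 116913 6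
 Tr.leaf) 116914 6
 Tr.leaf) 116917 6
 (Tr.node Tr.leaf 116918 5
 Tr.leaf)) 116923 6
 (Tr.node (Tr.node (Tr.node Tr.leaf 116927 5
 Tr.leaf) 116931 6
 Tr.leaf) 116935 6
 (Tr.node Tr.leaf 116937 6
 Tr.leaf)))) 116938 6
 (Tr.node (Tr.node (Tr.node (Tr.node (Tr.node Tr.leaf 116941 4
 Tr.leaf) 116942 6
 Tr.leaf) 116945 6
 (Tr.node (Tr.node Tr.leaf 116946 5
 Tr.leaf) 116949 5
 Tr.leaf)) 116950 6
 (Tr.node (Tr.node (Tr.node Tr.leaf 116955 6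
 Tr.leaf) 116959 6
 Tr.leaf) 116963 6
 (Tr.node Tr.leaf 116967 5
 Tr.leaf))) 116969 6
 (Tr.node (Tr.node (Tr.node (Tr.node Tr.leaf 116970 6
 Tr.leaf) 116973 5
 Tr.leaf) 116974 6
 (Tr.node Tr.leaf 116977 6
 Tr.leaf)) 116978 6
 (Tr.node (Tr.node (Tr.node Tr.leaf 116981 5
 Tr.leaf) 116982 4
 Tr.leaf) 116987 6
 (Tr.node Tr.leaf 116991 6
 Tr.leaf))))))) 116993 6
 (Tr.node (Tr.node (Tr.node (Tr.node (Tr.node (Tr.node (Tr.node (Tr.node Tr.leaf 116994 5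
 Tr.leaf) 116997 6
 Tr.leaf) 116998 6
 (Tr.node (Tr.node Tr.leaf 117003 6
 Tr.leaf) 117007 6
 Tr.leaf)) 117011 6
 (Tr.node (Tr.node (Tr.node Tr.leaf 117015 5
 Tr.leaf) 117017 6
 Tr.leaf) 117018 6
 (Tr.node Tr.leaf 117021 6
 Tr.leaf))) 117022 5
 (Tr.node (Tr.node (Tr.node (Tr.node Tr.leaf 117025 6
 Tr.leaf) 117026 6
 Tr.leaf) 117029 6
 (Tr.node (Tr.node Tr.leaf 117030 6
 Tr.leaf) 117035 6
 Tr.leaf)) 117039 6
 (Tr.node (Tr.node (Tr.node Tr.leaf 117043 6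
 Tr.leaf) 117047 6
 Tr.leaf) 117049 5
 (Tr.node Tr.leaf 117050 6
 Tr.leaf)))) 117053 6
 (Tr.node (Tr.node (Tr.node (Tr.node (Tr.node Tr.leaf 117054 5
 Tr.leaf) 117057 5
 Tr.leaf) 117058 5
 (Tr.node (Tr.node Tr.leaf 117061 7
 Tr.leaf) 117062 3
 Tr.leaf)) 117067 6
 (Tr.node (Tr.node (Tr.node Tr.leaf 117071 6
 Tr.leaf) 117075 6
 Tr.leaf) 117079 6
 (Tr.node Tr.leaf 117081 5
 Tr.leaf))) 117082 5
 (Tr.node (Tr.node (Tr.node (Tr.node Tr.leaf 117085 5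
 Tr.leaf) 117086 6
 Tr.leaf) 117089 5
 (Tr.node Tr.leaf 117090 5
 Tr.leaf)) 117093 6
 (Tr.node (Tr.node (Tr.node Tr.leaf 117094 6
 Tr.leaf) 117099 6
 Tr.leaf) 117103 6
 (Tr.node Tr.leaf 117107 5
 Tr.leaf))))) 117111 5
 (Tr.node (Tr.node (Tr.node (Tr.node (Tr.node (Tr.node Tr.leaf 117113 5
 Tr.leaf) 117114 5
 Tr.leaf) 117117 6
 (Tr.node (Tr.node Tr.leaf 117118 6
 Tr.leaf) 117121 4
 Tr.leaf)) 117122 6
 (Tr.node (Tr.node (Tr.node Tr.leaf 117125 5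
 Tr.leaf) 117126 5
 Tr.leaf) 117131 6
 (Tr.node Tr.leaf 117135 6
 Tr.leaf))) 117139 6
 (Tr.node (Tr.node (Tr.node (Tr.node Tr.leaf 117143 6
 Tr.leaf) 117145 6
 Tr.leaf) 117146 6
 (Tr.node Tr.leaf 117149 6
 Tr.leaf)) 117150 5
 (Tr.node (Tr.node (Tr.node Tr.leaf 117153 6
 Tr.leaf) 117154 3
 Tr.leaf) 117157 6
 (Tr.node Tr.leaf 117158 6
 Tr.leaf)))) 117163 6
 (Tr.node (Tr.node (Tr.node (Tr.node (Tr.node Tr.leaf 117167 6
 Tr.leaf) 117171 5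
 Tr.leaf) 117175 6
 (Tr.node (Tr.node Tr.leaf 117177 6
 Tr.leaf) 117178 6
 Tr.leaf)) 117181 6
 (Tr.node (Tr.node (Tr.node Tr.leaf 117182 5
 Tr.leaf) 117185 7
 Tr.leaf) 117186 6
 (Tr.node Tr.leaf 117189 4
 Tr.leaf))) 117190 5
 (Tr.node (Tr.node (Tr.node (Tr.node Tr.leaf 117195 6
 Tr.leaf) 117199 6
 Tr.leaf) 117203 6
 (Tr.node Tr.leaf 117207 6
 Tr.leaf)) 117209 6
 (Tr.node (Tr.node (Tr.node Tr.leaf 117210 6
 Tr.leaf) 117213 6
 Tr.leaf) 117214 6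
 (Tr.node Tr.leaf 117217 5
 Tr.leaf)))))) 117218 6
 (Tr.node (Tr.node (Tr.node (Tr.node (Tr.node (Tr.node (Tr.node Tr.leaf 117221 6
 Tr.leaf) 117222 4
 Tr.leaf) 117227 6
 (Tr.node (Tr.node Tr.leaf 117231 6
 Tr.leaf) 117235 6
 Tr.leaf)) 117239 6
 (Tr.node (Tr.node (Tr.node Tr.leaf 117241 6
 Tr.leaf) 117242 5
 Tr.leaf) 117245 6
 (Tr.node Tr.leaf 117246 6
 Tr.leaf))) 117761 5
 (Tr.node (Tr.node (Tr.node (Tr.node Tr.leaf 117763 4
 Tr.leaf) 117765 5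
 Tr.leaf) 117767 6
 (Tr.node (Tr.node Tr.leaf 117785 6
 Tr.leaf) 117787 5
 Tr.leaf)) 117789 6
 (Tr.node (Tr.node (Tr.node Tr.leaf 117791 6
 Tr.leaf) 117793 6
 Tr.leaf) 117795 6
 (Tr.node Tr.leaf 117797 6
 Tr.leaf)))) 117799 4
 (Tr.node (Tr.node (Tr.node (Tr.node (Tr.node Tr.leaf 117817 6
 Tr.leaf) 117819 6
 Tr.leaf) 117821 6
 (Tr.node (Tr.node Tr.leaf 117823 5
 Tr.leaf) 117825 4
 Tr.leaf)) 117827 6
 (Tr.node (Tr.node (Tr.node Tr.leaf 117829 4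
 Tr.leaf) 117831 5
 Tr.leaf) 117849 6
 (Tr.node Tr.leaf 117851 6
 Tr.leaf))) 117853 5
 (Tr.node (Tr.node (Tr.node (Tr.node Tr.leaf 117855 6
 Tr.leaf) 117857 5
 Tr.leaf) 117859 5
 (Tr.node Tr.leaf 117861 6
 Tr.leaf)) 117863 6
 (Tr.node (Tr.node (Tr.node Tr.leaf 117881 6
 Tr.leaf) 117883 6
 Tr.leaf) 117885 6
 (Tr.node Tr.leaf 117887 6
 Tr.leaf))))) 117889 6
 (Tr.node (Tr.node (Tr.node (Tr.node (Tr.node (Tr.node Tr.leaf 117891 6
 Tr.leaf) 117893 5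
 Tr.leaf) 117895 6
 (Tr.node (Tr.node Tr.leaf 117913 6
 Tr.leaf) 117915 6
 Tr.leaf)) 117917 5
 (Tr.node (Tr.node (Tr.node Tr.leaf 117919 5
 Tr.leaf) 117921 5
 Tr.leaf) 117923 5
 (Tr.node Tr.leaf 117925 6
 Tr.leaf))) 117927 6
 (Tr.node (Tr.node (Tr.node (Tr.node Tr.leaf 117945 6
 Tr.leaf) 117947 5
 Tr.leaf) 117949 5
 (Tr.node Tr.leaf 117951 6
 Tr.leaf)) 117953 6
 (Tr.node (Tr.node (Tr.node Tr.leaf 117955 6
 Tr.leaf) 117957 5
 Tr.leaf) 117959 4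
 (Tr.node Tr.leaf 117977 6
 Tr.leaf)))) 117979 6
 (Tr.node (Tr.node (Tr.node (Tr.node (Tr.node Tr.leaf 117981 6
 Tr.leaf) 117983 6
 Tr.leaf) 117985 6
 (Tr.node (Tr.node Tr.leaf 117987 4
 Tr.leaf) 117989 4
 Tr.leaf)) 117991 4
 (Tr.node (Tr.node (Tr.node Tr.leaf 118009 5
 Tr.leaf) 118011 6
 Tr.leaf) 118013 6
 (Tr.node Tr.leaf 118015 5
 Tr.leaf))) 118025 6
 (Tr.node (Tr.node (Tr.node (Tr.node Tr.leaf 118027 6
 Tr.leaf) 118029 6
 Tr.leaf) 118031 5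
 (Tr.node Tr.leaf 118033 6
 Tr.leaf)) 118035 7
 (Tr.node (Tr.node (Tr.node Tr.leaf 118037 6
 Tr.leaf) 118039 6
 Tr.leaf) 118057 6
 (Tr.node Tr.leaf 118059 6
 Tr.leaf)))))))))

/-- A subtree. -/
def tr2_s29 : Tr := (Tr.node (Tr.node (Tr.node (Tr.node (Tr.node (Tr.node (Tr.node (Tr.node (Tr.node (Tr.node Tr.leaf 118063 5
 Tr.leaf) 118065 5
 Tr.leaf) 118067 6
 (Tr.node (Tr.node Tr.leaf 118069 5
 Tr.leaf) 118071 6
 Tr.leaf)) 118089 6
 (Tr.node (Tr.node (Tr.node Tr.leaf 118091 5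
 Tr.leaf) 118093 7
 Tr.leaf) 118095 6
 (Tr.node Tr.leaf 118097 6
 Tr.leaf))) 118099 6
 (Tr.node (Tr.node (Tr.node (Tr.node Tr.leaf 118101 6
 Tr.leaf) 118103 5
 Tr.leaf) 118121 5
 (Tr.node (Tr.node Tr.leaf 118123 6
 Tr.leaf) 118125 6
 Tr.leaf)) 118127 6
 (Tr.node (Tr.node (Tr.node Tr.leaf 118129 6
 Tr.leaf) 118131 5
 Tr.leaf) 118133 5
 (Tr.node Tr.leaf 118135 5
 Tr.leaf)))) 118153 6
 (Tr.node (Tr.node (Tr.node (Tr.node (Tr.node Tr.leaf 118155 6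
 Tr.leaf) 118157 6
 Tr.leaf) 118159 6
 (Tr.node (Tr.node Tr.leaf 118161 5
 Tr.leaf) 118163 6
 Tr.leaf)) 118165 6
 (Tr.node (Tr.node (Tr.node Tr.leaf 118167 5
 Tr.leaf) 118185 6
 Tr.leaf) 118187 6
 (Tr.node Tr.leaf 118189 6
 Tr.leaf))) 118191 6
 (Tr.node (Tr.node (Tr.node (Tr.node Tr.leaf 118193 6
 Tr.leaf) 118195 6
 Tr.leaf) 118197 6
 (Tr.node Tr.leaf 118199 6
 Tr.leaf)) 118217 6
 (Tr.node (Tr.node (Tr.node Tr.leaf 118219 6
 Tr.leaf) 118221 5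
 Tr.leaf) 118223 6
 (Tr.node Tr.leaf 118225 6
 Tr.leaf))))) 118227 6
 (Tr.node (Tr.node (Tr.node (Tr.node (Tr.node (Tr.node Tr.leaf 118229 6
 Tr.leaf) 118231 5
 Tr.leaf) 118249 6
 (Tr.node (Tr.node Tr.leaf 118251 6
 Tr.leaf) 118253 6
 Tr.leaf)) 118255 6
 (Tr.node (Tr.node (Tr.node Tr.leaf 118257 5
 Tr.leaf) 118259 6
 Tr.leaf) 118261 6
 (Tr.node Tr.leaf 118263 6
 Tr.leaf))) 118787 6
 (Tr.node (Tr.node (Tr.node (Tr.node Tr.leaf 118789 6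
 Tr.leaf) 118790 6
 Tr.leaf) 118795 7
 (Tr.node (Tr.node Tr.leaf 118797 5
 Tr.leaf) 118798 6
 Tr.leaf)) 118801 6
 (Tr.node (Tr.node (Tr.node Tr.leaf 118802 6
 Tr.leaf) 118804 6
 Tr.leaf) 118807 6
 (Tr.node Tr.leaf 118809 6
 Tr.leaf)))) 118810 6
 (Tr.node (Tr.node (Tr.node (Tr.node (Tr.node Tr.leaf 118812 6
 Tr.leaf) 118815 6
 Tr.leaf) 118819 6
 (Tr.node (Tr.node Tr.leaf 118821 5
 Tr.leaf) 118822 6
 Tr.leaf)) 118827 5
 (Tr.node (Tr.node (Tr.node Tr.leaf 118829 5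
 Tr.leaf) 118830 6
 Tr.leaf) 118833 5
 (Tr.node Tr.leaf 118834 5
 Tr.leaf))) 118836 6
 (Tr.node (Tr.node (Tr.node (Tr.node Tr.leaf 118839 6
 Tr.leaf) 118841 6
 Tr.leaf) 118842 4
 (Tr.node Tr.leaf 118844 6
 Tr.leaf)) 118847 6
 (Tr.node (Tr.node (Tr.node Tr.leaf 118851 5
 Tr.leaf) 118853 7
 Tr.leaf) 118854 6
 (Tr.node Tr.leaf 118859 6
 Tr.leaf)))))) 118861 6
 (Tr.node (Tr.node (Tr.node (Tr.node (Tr.node (Tr.node (Tr.node Tr.leaf 118862 6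
 Tr.leaf) 118865 4
 Tr.leaf) 118866 6
 (Tr.node (Tr.node Tr.leaf 118868 6
 Tr.leaf) 118871 5
 Tr.leaf)) 118873 6
 (Tr.node (Tr.node (Tr.node Tr.leaf 118874 6
 Tr.leaf) 118876 6
 Tr.leaf) 118879 6
 (Tr.node Tr.leaf 118883 5
 Tr.leaf))) 118885 6
 (Tr.node (Tr.node (Tr.node (Tr.node Tr.leaf 118886 6
 Tr.leaf) 118891 4
 Tr.leaf) 118893 6
 (Tr.node (Tr.node Tr.leaf 118894 6
 Tr.leaf) 118897 5
 Tr.leaf)) 118898 6
 (Tr.node (Tr.node (Tr.node Tr.leaf 118900 4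
 Tr.leaf) 118903 6
 Tr.leaf) 118905 7
 (Tr.node Tr.leaf 118906 6
 Tr.leaf)))) 118908 6
 (Tr.node (Tr.node (Tr.node (Tr.node (Tr.node Tr.leaf 118911 6
 Tr.leaf) 118915 5
 Tr.leaf) 118917 6
 (Tr.node (Tr.node Tr.leaf 118918 6
 Tr.leaf) 118923 6
 Tr.leaf)) 118925 5
 (Tr.node (Tr.node (Tr.node Tr.leaf 118926 6
 Tr.leaf) 118929 6
 Tr.leaf) 118930 5
 (Tr.node Tr.leaf 118932 6
 Tr.leaf))) 118935 6
 (Tr.node (Tr.node (Tr.node (Tr.node Tr.leaf 118937 5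
 Tr.leaf) 118938 6
 Tr.leaf) 118940 5
 (Tr.node Tr.leaf 118943 6
 Tr.leaf)) 118947 6
 (Tr.node (Tr.node (Tr.node Tr.leaf 118949 6
 Tr.leaf) 118950 6
 Tr.leaf) 118955 5
 (Tr.node Tr.leaf 118957 6
 Tr.leaf))))) 118958 6
 (Tr.node (Tr.node (Tr.node (Tr.node (Tr.node (Tr.node Tr.leaf 118961 6
 Tr.leaf) 118962 6
 Tr.leaf) 118964 6
 (Tr.node (Tr.node Tr.leaf 118967 6
 Tr.leaf) 118969 5
 Tr.leaf)) 118970 6
 (Tr.node (Tr.node (Tr.node Tr.leaf 118972 5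
 Tr.leaf) 118975 6
 Tr.leaf) 118979 5
 (Tr.node Tr.leaf 118981 5
 Tr.leaf))) 118982 6
 (Tr.node (Tr.node (Tr.node (Tr.node Tr.leaf 118987 6
 Tr.leaf) 118989 4
 Tr.leaf) 118990 6
 (Tr.node Tr.leaf 118993 5
 Tr.leaf)) 118994 5
 (Tr.node (Tr.node (Tr.node Tr.leaf 118996 6
 Tr.leaf) 118999 6
 Tr.leaf) 119001 5
 (Tr.node Tr.leaf 119002 6
 Tr.leaf)))) 119004 6
 (Tr.node (Tr.node (Tr.node (Tr.node (Tr.node Tr.leaf 119007 6
 Tr.leaf) 119011 6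
 Tr.leaf) 119013 5
 (Tr.node (Tr.node Tr.leaf 119014 6
 Tr.leaf) 119019 6
 Tr.leaf)) 119021 6
 (Tr.node (Tr.node (Tr.node Tr.leaf 119022 6
 Tr.leaf) 119025 6
 Tr.leaf) 119026 6
 (Tr.node Tr.leaf 119028 5
 Tr.leaf))) 119031 7
 (Tr.node (Tr.node (Tr.node (Tr.node Tr.leaf 119033 6
 Tr.leaf) 119034 6
 Tr.leaf) 119036 6
 (Tr.node Tr.leaf 119039 6
 Tr.leaf)) 119041 6
 (Tr.node (Tr.node (Tr.node Tr.leaf 119042 6
 Tr.leaf) 119044 6
 Tr.leaf) 119047 6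
 (Tr.node Tr.leaf 119049 4
 Tr.leaf))))))) 119050 6
 (Tr.node (Tr.node (Tr.node (Tr.node (Tr.node (Tr.node (Tr.node (Tr.node Tr.leaf 119052 6
 Tr.leaf) 119055 5
 Tr.leaf) 119059 6
 (Tr.node (Tr.node Tr.leaf 119061 6
 Tr.leaf) 119062 6
 Tr.leaf)) 119067 6
 (Tr.node (Tr.node (Tr.node Tr.leaf 119069 6
 Tr.leaf) 119070 5
 Tr.leaf) 119073 6
 (Tr.node Tr.leaf 119074 6
 Tr.leaf))) 119076 5
 (Tr.node (Tr.node (Tr.node (Tr.node Tr.leaf 119079 6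
 Tr.leaf) 119081 5
 Tr.leaf) 119082 6
 (Tr.node (Tr.node Tr.leaf 119084 5
 Tr.leaf) 119087 6
 Tr.leaf)) 119091 7
 (Tr.node (Tr.node (Tr.node Tr.leaf 119093 6
 Tr.leaf) 119094 6
 Tr.leaf) 119099 6
 (Tr.node Tr.leaf 119101 6
 Tr.leaf)))) 119102 6
 (Tr.node (Tr.node (Tr.node (Tr.node (Tr.node Tr.leaf 119105 6
 Tr.leaf) 119106 6
 Tr.leaf) 119108 6
 (Tr.node (Tr.node Tr.leaf 119111 6
 Tr.leaf) 119113 6
 Tr.leaf)) 119114 6
 (Tr.node (Tr.node (Tr.node Tr.leaf 119116 6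
 Tr.leaf) 119119 6
 Tr.leaf) 119123 6
 (Tr.node Tr.leaf 119125 6
 Tr.leaf))) 119126 5
 (Tr.node (Tr.node (Tr.node (Tr.node Tr.leaf 119131 6
 Tr.leaf) 119133 6
 Tr.leaf) 119134 6
 (Tr.node Tr.leaf 119137 5
 Tr.leaf)) 119138 5
 (Tr.node (Tr.node (Tr.node Tr.leaf 119140 6
 Tr.leaf) 119143 6
 Tr.leaf) 119145 5
 (Tr.node Tr.leaf 119146 6
 Tr.leaf))))) 119148 6
 (Tr.node (Tr.node (Tr.node (Tr.node (Tr.node (Tr.node Tr.leaf 119151 6
 Tr.leaf) 119155 6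
 Tr.leaf) 119157 6
 (Tr.node (Tr.node Tr.leaf 119158 6
 Tr.leaf) 119163 5
 Tr.leaf)) 119165 6
 (Tr.node (Tr.node (Tr.node Tr.leaf 119166 5
 Tr.leaf) 119169 5
 Tr.leaf) 119170 6
 (Tr.node Tr.leaf 119172 5
 Tr.leaf))) 119175 6
 (Tr.node (Tr.node (Tr.node (Tr.node Tr.leaf 119177 5
 Tr.leaf) 119178 4
 Tr.leaf) 119180 6
 (Tr.node Tr.leaf 119183 6
 Tr.leaf)) 119187 6
 (Tr.node (Tr.node (Tr.node Tr.leaf 119189 7
 Tr.leaf) 119190 6
 Tr.leaf) 119195 6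
 (Tr.node Tr.leaf 119197 6
 Tr.leaf)))) 119198 6
 (Tr.node (Tr.node (Tr.node (Tr.node (Tr.node Tr.leaf 119201 6
 Tr.leaf) 119202 6
 Tr.leaf) 119204 6
 (Tr.node (Tr.node Tr.leaf 119207 6
 Tr.leaf) 119209 6
 Tr.leaf)) 119210 5
 (Tr.node (Tr.node (Tr.node Tr.leaf 119212 6
 Tr.leaf) 119215 7
 Tr.leaf) 119219 6
 (Tr.node Tr.leaf 119221 6
 Tr.leaf))) 119222 7
 (Tr.node (Tr.node (Tr.node (Tr.node Tr.leaf 119227 6
 Tr.leaf) 119229 6
 Tr.leaf) 119230 6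
 (Tr.node Tr.leaf 119233 6
 Tr.leaf)) 119234 6
 (Tr.node (Tr.node (Tr.node Tr.leaf 119236 4
 Tr.leaf) 119239 6
 Tr.leaf) 119241 7
 (Tr.node Tr.leaf 119242 6
 Tr.leaf)))))) 119244 6
 (Tr.node (Tr.node (Tr.node (Tr.node (Tr.node (Tr.node (Tr.node Tr.leaf 119247 6
 Tr.leaf) 119251 6
 Tr.leaf) 119253 6
 (Tr.node (Tr.node Tr.leaf 119254 6
 Tr.leaf) 119259 6
 Tr.leaf)) 119261 5
 (Tr.node (Tr.node (Tr.node Tr.leaf 119262 5
 Tr.leaf) 119265 5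
 Tr.leaf) 119266 5
 (Tr.node Tr.leaf 119268 6
 Tr.leaf))) 119271 6
 (Tr.node (Tr.node (Tr.node (Tr.node Tr.leaf 119273 6
 Tr.leaf) 119274 6
 Tr.leaf) 119276 6
 (Tr.node (Tr.node Tr.leaf 119279 6
 Tr.leaf) 119283 6
 Tr.leaf)) 119285 6
 (Tr.node (Tr.node (Tr.node Tr.leaf 119286 6
 Tr.leaf) 119291 6
 Tr.leaf) 119293 6
 (Tr.node Tr.leaf 119294 6
 Tr.leaf)))) 119809 4
 (Tr.node (Tr.node (Tr.node (Tr.node (Tr.node Tr.leaf 119811 6
 Tr.leaf) 119817 4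
 Tr.leaf) 119819 5
 (Tr.node (Tr.node Tr.leaf 119829 6
 Tr.leaf) 119831 6
 Tr.leaf)) 119837 6
 (Tr.node (Tr.node (Tr.node Tr.leaf 119839 6
 Tr.leaf) 119841 4
 Tr.leaf) 119843 5
 (Tr.node Tr.leaf 119849 6
 Tr.leaf))) 119851 6
 (Tr.node (Tr.node (Tr.node (Tr.node Tr.leaf 119861 5
 Tr.leaf) 119863 6
 Tr.leaf) 119869 6
 (Tr.node Tr.leaf 119871 6
 Tr.leaf)) 119873 4
 (Tr.node (Tr.node (Tr.node Tr.leaf 119875 6
 Tr.leaf) 119881 6
 Tr.leaf) 119883 5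
 (Tr.node Tr.leaf 119893 6
 Tr.leaf))))) 119895 6
 (Tr.node (Tr.node (Tr.node (Tr.node (Tr.node (Tr.node Tr.leaf 119901 6
 Tr.leaf) 119903 6
 Tr.leaf) 119905 5
 (Tr.node (Tr.node Tr.leaf 119907 5
 Tr.leaf) 119913 6
 Tr.leaf)) 119915 6
 (Tr.node (Tr.node (Tr.node Tr.leaf 119925 5
 Tr.leaf) 119927 6
 Tr.leaf) 119933 6
 (Tr.node Tr.leaf 119935 6
 Tr.leaf))) 119937 6
 (Tr.node (Tr.node (Tr.node (Tr.node Tr.leaf 119939 4
 Tr.leaf) 119945 5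
 Tr.leaf) 119947 6
 (Tr.node Tr.leaf 119957 6
 Tr.leaf)) 119959 5
 (Tr.node (Tr.node (Tr.node Tr.leaf 119965 6
 Tr.leaf) 119967 6
 Tr.leaf) 119969 5
 (Tr.node Tr.leaf 119971 6
 Tr.leaf)))) 119977 6
 (Tr.node (Tr.node (Tr.node (Tr.node (Tr.node Tr.leaf 119979 4
 Tr.leaf) 119989 6
 Tr.leaf) 119991 5
 (Tr.node (Tr.node Tr.leaf 119997 5
 Tr.leaf) 119999 6
 Tr.leaf)) 120001 6
 (Tr.node (Tr.node (Tr.node Tr.leaf 120003 6
 Tr.leaf) 120009 4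
 Tr.leaf) 120011 6
 (Tr.node Tr.leaf 120021 6
 Tr.leaf))) 120023 5
 (Tr.node (Tr.node (Tr.node (Tr.node Tr.leaf 120029 5
 Tr.leaf) 120031 6
 Tr.leaf) 120033 5
 (Tr.node Tr.leaf 120035 5
 Tr.leaf)) 120041 4
 (Tr.node (Tr.node (Tr.node Tr.leaf 120043 5
 Tr.leaf) 120053 7
 Tr.leaf) 120055 5
 (Tr.node Tr.leaf 120061 6
 Tr.leaf)))))))) 120063 6
 (Tr.node (Tr.node (Tr.node (Tr.node (Tr.node (Tr.node (Tr.node (Tr.node (Tr.node Tr.leaf 120069 5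
 Tr.leaf) 120071 6
 Tr.leaf) 120077 6
 (Tr.node (Tr.node Tr.leaf 120079 5
 Tr.leaf) 120081 6
 Tr.leaf)) 120083 6
 (Tr.node (Tr.node (Tr.node Tr.leaf 120089 6
 Tr.leaf) 120091 6
 Tr.leaf) 120101 6
 (Tr.node Tr.leaf 120103 5
 Tr.leaf))) 120109 6
 (Tr.node (Tr.node (Tr.node (Tr.node Tr.leaf 120111 6
 Tr.leaf) 120113 5
 Tr.leaf) 120115 5
 (Tr.node (Tr.node Tr.leaf 120121 6
 Tr.leaf) 120123 6
 Tr.leaf)) 120133 6
 (Tr.node (Tr.node (Tr.node Tr.leaf 120135 5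
 Tr.leaf) 120141 5
 Tr.leaf) 120143 6
 (Tr.node Tr.leaf 120145 6
 Tr.leaf)))) 120147 5
 (Tr.node (Tr.node (Tr.node (Tr.node (Tr.node Tr.leaf 120153 6
 Tr.leaf) 120155 6
 Tr.leaf) 120165 6
 (Tr.node (Tr.node Tr.leaf 120167 6
 Tr.leaf) 120173 6
 Tr.leaf)) 120175 6
 (Tr.node (Tr.node (Tr.node Tr.leaf 120177 6
 Tr.leaf) 120179 6
 Tr.leaf) 120185 6
 (Tr.node Tr.leaf 120187 5
 Tr.leaf))) 120197 6
 (Tr.node (Tr.node (Tr.node (Tr.node Tr.leaf 120199 5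
 Tr.leaf) 120205 6
 Tr.leaf) 120207 6
 (Tr.node Tr.leaf 120209 5
 Tr.leaf)) 120211 6
 (Tr.node (Tr.node (Tr.node Tr.leaf 120217 5
 Tr.leaf) 120219 6
 Tr.leaf) 120229 6
 (Tr.node Tr.leaf 120231 6
 Tr.leaf))))) 120237 6
 (Tr.node (Tr.node (Tr.node (Tr.node (Tr.node (Tr.node Tr.leaf 120239 5
 Tr.leaf) 120241 5
 Tr.leaf) 120243 6
 (Tr.node (Tr.node Tr.leaf 120249 6
 Tr.leaf) 120251 7
 Tr.leaf)) 120261 6
 (Tr.node (Tr.node (Tr.node Tr.leaf 120263 6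
 Tr.leaf) 120269 6
 Tr.leaf) 120271 6
 (Tr.node Tr.leaf 120273 5
 Tr.leaf))) 120275 5
 (Tr.node (Tr.node (Tr.node (Tr.node Tr.leaf 120281 6
 Tr.leaf) 120283 5
 Tr.leaf) 120293 5
 (Tr.node Tr.leaf 120295 6
 Tr.leaf)) 120301 6
 (Tr.node (Tr.node (Tr.node Tr.leaf 120303 6
 Tr.leaf) 120305 6
 Tr.leaf) 120307 6
 (Tr.node Tr.leaf 120313 6
 Tr.leaf)))) 120315 6
 (Tr.node (Tr.node (Tr.node (Tr.node (Tr.node Tr.leaf 120833 4
 Tr.leaf) 120834 6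
 Tr.leaf) 120837 6
 (Tr.node (Tr.node Tr.leaf 120838 6
 Tr.leaf) 120841 4
 Tr.leaf)) 120842 5
 (Tr.node (Tr.node (Tr.node Tr.leaf 120845 6
 Tr.leaf) 120846 5
 Tr.leaf) 120851 5
 (Tr.node Tr.leaf 120855 6
 Tr.leaf))) 120859 6
 (Tr.node (Tr.node (Tr.node (Tr.node Tr.leaf 120863 5
 Tr.leaf) 120865 6
 Tr.leaf) 120866 6
 (Tr.node Tr.leaf 120869 4
 Tr.leaf)) 120870 6
 (Tr.node (Tr.node (Tr.node Tr.leaf 120873 6
 Tr.leaf) 120874 6
 Tr.leaf) 120877 6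
 (Tr.node Tr.leaf 120878 6
 Tr.leaf)))))) 120883 6
 (Tr.node (Tr.node (Tr.node (Tr.node (Tr.node (Tr.node (Tr.node Tr.leaf 120887 5
 Tr.leaf) 120891 6
 Tr.leaf) 120895 6
 (Tr.node (Tr.node Tr.leaf 120897 4
 Tr.leaf) 120898 5
 Tr.leaf)) 120901 5
 (Tr.node (Tr.node (Tr.node Tr.leaf 120902 6
 Tr.leaf) 120905 6
 Tr.leaf) 120906 6
 (Tr.node Tr.leaf 120909 5
 Tr.leaf))) 120910 6
 (Tr.node (Tr.node (Tr.node (Tr.node Tr.leaf 120915 6
 Tr.leaf) 120919 5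
 Tr.leaf) 120923 5
 (Tr.node (Tr.node Tr.leaf 120927 6
 Tr.leaf) 120929 5
 Tr.leaf)) 120930 6
 (Tr.node (Tr.node (Tr.node Tr.leaf 120933 6
 Tr.leaf) 120934 6
 Tr.leaf) 120937 4
 (Tr.node Tr.leaf 120938 6
 Tr.leaf)))) 120941 6
 (Tr.node (Tr.node (Tr.node (Tr.node (Tr.node Tr.leaf 120942 6
 Tr.leaf) 120947 6
 Tr.leaf) 120951 6
 (Tr.node (Tr.node Tr.leaf 120955 6
 Tr.leaf) 120959 6
 Tr.leaf)) 120961 4
 (Tr.node (Tr.node (Tr.node Tr.leaf 120962 6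
 Tr.leaf) 120965 5
 Tr.leaf) 120966 6
 (Tr.node Tr.leaf 120969 5
 Tr.leaf))) 120970 6
 (Tr.node (Tr.node (Tr.node (Tr.node Tr.leaf 120973 5
 Tr.leaf) 120974 6
 Tr.leaf) 120979 6
 (Tr.node Tr.leaf 120983 5
 Tr.leaf)) 120987 6
 (Tr.node (Tr.node (Tr.node Tr.leaf 120991 6
 Tr.leaf) 120993 5
 Tr.leaf) 120994 7
 (Tr.node Tr.leaf 120997 6
 Tr.leaf))))) 120998 6
 (Tr.node (Tr.node (Tr.node (Tr.node (Tr.node (Tr.node Tr.leaf 121001 5
 Tr.leaf) 121002 5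
 Tr.leaf) 121005 5
 (Tr.node (Tr.node Tr.leaf 121006 5
 Tr.leaf) 121011 6
 Tr.leaf)) 121015 6
 (Tr.node (Tr.node (Tr.node Tr.leaf 121019 5
 Tr.leaf) 121023 6
 Tr.leaf) 121025 6
 (Tr.node Tr.leaf 121026 6
 Tr.leaf))) 121029 6
 (Tr.node (Tr.node (Tr.node (Tr.node Tr.leaf 121030 6
 Tr.leaf) 121033 6
 Tr.leaf) 121034 6
 (Tr.node Tr.leaf 121037 6
 Tr.leaf)) 121038 6
 (Tr.node (Tr.node (Tr.node Tr.leaf 121043 6
 Tr.leaf) 121047 6
 Tr.leaf) 121051 6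
 (Tr.node Tr.leaf 121055 6
 Tr.leaf)))) 121057 6
 (Tr.node (Tr.node (Tr.node (Tr.node (Tr.node Tr.leaf 121058 5
 Tr.leaf) 121061 4
 Tr.leaf) 121062 5
 (Tr.node (Tr.node Tr.leaf 121065 4
 Tr.leaf) 121066 6
 Tr.leaf)) 121069 5
 (Tr.node (Tr.node (Tr.node Tr.leaf 121070 6
 Tr.leaf) 121075 6
 Tr.leaf) 121079 5
 (Tr.node Tr.leaf 121083 6
 Tr.leaf))) 121087 6
 (Tr.node (Tr.node (Tr.node (Tr.node Tr.leaf 121091 6
 Tr.leaf) 121095 6
 Tr.leaf) 121099 6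
 (Tr.node Tr.leaf 121103 6
 Tr.leaf)) 121105 6
 (Tr.node (Tr.node (Tr.node Tr.leaf 121106 5
 Tr.leaf) 121109 6
 Tr.leaf) 121110 6
 (Tr.node Tr.leaf 121113 6
 Tr.leaf))))))) 121114 6
 (Tr.node (Tr.node (Tr.node (Tr.node (Tr.node (Tr.node (Tr.node (Tr.node Tr.leaf 121117 5
 Tr.leaf) 121118 6
 Tr.leaf) 121123 6
 (Tr.node (Tr.node Tr.leaf 121127 5
 Tr.leaf) 121131 6
 Tr.leaf)) 121135 5
 (Tr.node (Tr.node (Tr.node Tr.leaf 121137 5
 Tr.leaf) 121138 6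
 Tr.leaf) 121141 6
 (Tr.node Tr.leaf 121142 6
 Tr.leaf))) 121145 5
 (Tr.node (Tr.node (Tr.node (Tr.node Tr.leaf 121146 6
 Tr.leaf) 121149 5
 Tr.leaf) 121150 5
 (Tr.node (Tr.node Tr.leaf 121155 6
 Tr.leaf) 121159 6
 Tr.leaf)) 121163 6
 (Tr.node (Tr.node (Tr.node Tr.leaf 121167 6
 Tr.leaf) 121169 6
 Tr.leaf) 121170 5
 (Tr.node Tr.leaf 121173 6
 Tr.leaf)))) 121174 5
 (Tr.node (Tr.node (Tr.node (Tr.node (Tr.node Tr.leaf 121177 6
 Tr.leaf) 121178 6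
 Tr.leaf) 121181 6
 (Tr.node (Tr.node Tr.leaf 121182 5
 Tr.leaf) 121187 6
 Tr.leaf)) 121191 6
 (Tr.node (Tr.node (Tr.node Tr.leaf 121195 5
 Tr.leaf) 121199 6
 Tr.leaf) 121201 5
 (Tr.node Tr.leaf 121202 5
 Tr.leaf))) 121205 6
 (Tr.node (Tr.node (Tr.node (Tr.node Tr.leaf 121206 5
 Tr.leaf) 121209 6
 Tr.leaf) 121210 6
 (Tr.node Tr.leaf 121213 5
 Tr.leaf)) 121214 6
 (Tr.node (Tr.node (Tr.node Tr.leaf 121219 5
 Tr.leaf) 121223 6
 Tr.leaf) 121227 5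
 (Tr.node Tr.leaf 121231 6
 Tr.leaf))))) 121233 5
 (Tr.node (Tr.node (Tr.node (Tr.node (Tr.node (Tr.node Tr.leaf 121234 6
 Tr.leaf) 121237 5
 Tr.leaf) 121238 6
 (Tr.node (Tr.node Tr.leaf 121241 6
 Tr.leaf) 121242 6
 Tr.leaf)) 121245 6
 (Tr.node (Tr.node (Tr.node Tr.leaf 121246 5
 Tr.leaf) 121251 6
 Tr.leaf) 121255 5
 (Tr.node Tr.leaf 121259 7
 Tr.leaf))) 121263 5
 (Tr.node (Tr.node (Tr.node (Tr.node Tr.leaf 121265 5
 Tr.leaf) 121266 6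
 Tr.leaf) 121269 6
 (Tr.node Tr.leaf 121270 5
 Tr.leaf)) 121273 6
 (Tr.node (Tr.node (Tr.node Tr.leaf 121274 6
 Tr.leaf) 121277 6
 Tr.leaf) 121278 5
 (Tr.node Tr.leaf 121283 6
 Tr.leaf)))) 121287 6
 (Tr.node (Tr.node (Tr.node (Tr.node (Tr.node Tr.leaf 121291 6
 Tr.leaf) 121295 6
 Tr.leaf) 121297 6
 (Tr.node (Tr.node Tr.leaf 121298 5
 Tr.leaf) 121301 6
 Tr.leaf)) 121302 4
 (Tr.node (Tr.node (Tr.node Tr.leaf 121305 6
 Tr.leaf) 121306 6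
 Tr.leaf) 121309 5
 (Tr.node Tr.leaf 121310 5
 Tr.leaf))) 121315 5
 (Tr.node (Tr.node (Tr.node (Tr.node Tr.leaf 121319 6
 Tr.leaf) 121323 6
 Tr.leaf) 121327 6
 (Tr.node Tr.leaf 121329 6
 Tr.leaf)) 121330 5
 (Tr.node (Tr.node (Tr.node Tr.leaf 121333 7
 Tr.leaf) 121334 5
 Tr.leaf) 121337 6
 (Tr.node Tr.leaf 121338 5
 Tr.leaf)))))) 121341 6
 (Tr.node (Tr.node (Tr.node (Tr.node (Tr.node (Tr.node (Tr.node Tr.leaf 121342 6
 Tr.leaf) 121873 7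
 Tr.leaf) 121875 6
 (Tr.node (Tr.node Tr.leaf 121877 6
 Tr.leaf) 121879 6
 Tr.leaf)) 121881 6
 (Tr.node (Tr.node (Tr.node Tr.leaf 121883 6
 Tr.leaf) 121885 6
 Tr.leaf) 121887 6
 (Tr.node Tr.leaf 121905 6
 Tr.leaf))) 121907 6
 (Tr.node (Tr.node (Tr.node (Tr.node Tr.leaf 121909 6
 Tr.leaf) 121911 6
 Tr.leaf) 121913 5
 (Tr.node (Tr.node Tr.leaf 121915 6
 Tr.leaf) 121917 6
 Tr.leaf)) 121919 6
 (Tr.node (Tr.node (Tr.node Tr.leaf 121937 6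
 Tr.leaf) 121939 6
 Tr.leaf) 121941 6
 (Tr.node Tr.leaf 121943 6
 Tr.leaf)))) 121945 6
 (Tr.node (Tr.node (Tr.node (Tr.node (Tr.node Tr.leaf 121947 6
 Tr.leaf) 121949 6
 Tr.leaf) 121951 6
 (Tr.node (Tr.node Tr.leaf 121969 6
 Tr.leaf) 121971 6
 Tr.leaf)) 121973 6
 (Tr.node (Tr.node (Tr.node Tr.leaf 121975 6
 Tr.leaf) 121977 5
 Tr.leaf) 121979 5
 (Tr.node Tr.leaf 121981 5
 Tr.leaf))) 121983 6
 (Tr.node (Tr.node (Tr.node (Tr.node Tr.leaf 122001 6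
 Tr.leaf) 122003 6
 Tr.leaf) 122005 6
 (Tr.node Tr.leaf 122007 5
 Tr.leaf)) 122009 6
 (Tr.node (Tr.node (Tr.node Tr.leaf 122011 6
 Tr.leaf) 122013 6
 Tr.leaf) 122015 6
 (Tr.node Tr.leaf 122033 6
 Tr.leaf))))) 122035 6
 (Tr.node (Tr.node (Tr.node (Tr.node (Tr.node (Tr.node Tr.leaf 122037 6
 Tr.leaf) 122039 5
 Tr.leaf) 122041 6
 (Tr.node (Tr.node Tr.leaf 122043 6
 Tr.leaf) 122045 6
 Tr.leaf)) 122047 6
 (Tr.node (Tr.node (Tr.node Tr.leaf 122065 6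
 Tr.leaf) 122067 6
 Tr.leaf) 122069 6
 (Tr.node Tr.leaf 122071 6
 Tr.leaf))) 122073 6
 (Tr.node (Tr.node (Tr.node (Tr.node Tr.leaf 122075 6
 Tr.leaf) 122077 6
 Tr.leaf) 122079 6
 (Tr.node Tr.leaf 122097 6
 Tr.leaf)) 122099 6
 (Tr.node (Tr.node (Tr.node Tr.leaf 122101 6
 Tr.leaf) 122103 5
 Tr.leaf) 122105 6
 (Tr.node Tr.leaf 122107 6
 Tr.leaf)))) 122109 5
 (Tr.node (Tr.node (Tr.node (Tr.node (Tr.node Tr.leaf 122111 6
 Tr.leaf) 122113 7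
 Tr.leaf) 122115 6
 (Tr.node (Tr.node Tr.leaf 122117 6
 Tr.leaf) 122119 6
 Tr.leaf)) 122121 6
 (Tr.node (Tr.node (Tr.node Tr.leaf 122123 6
 Tr.leaf) 122125 6
 Tr.leaf) 122127 6
 (Tr.node Tr.leaf 122145 6
 Tr.leaf))) 122147 6
 (Tr.node (Tr.node (Tr.node (Tr.node Tr.leaf 122149 6
 Tr.leaf) 122151 5
 Tr.leaf) 122153 6
 (Tr.node Tr.leaf 122155 6
 Tr.leaf)) 122157 6
 (Tr.node (Tr.node (Tr.node Tr.leaf 122159 6
 Tr.leaf) 122177 6
 Tr.leaf) 122179 6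
 (Tr.node Tr.leaf 122181 6
 Tr.leaf)))))))))

/-- A subtree. -/
def tr2_s30 : Tr := (Tr.node (Tr.node (Tr.node (Tr.node (Tr.node (Tr.node (Tr.node (Tr.node (Tr.node (Tr.node Tr.leaf 122185 6
 Tr.leaf) 122187 6
 Tr.leaf) 122189 6
 (Tr.node (Tr.node Tr.leaf 122191 6
 Tr.leaf) 122209 6
 Tr.leaf)) 122211 6
 (Tr.node (Tr.node (Tr.node Tr.leaf 122213 6
 Tr.leaf) 122215 6
 Tr.leaf) 122217 6
 (Tr.node Tr.leaf 122219 6
 Tr.leaf))) 122221 6
 (Tr.node (Tr.node (Tr.node (Tr.node Tr.leaf 122223 6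
 Tr.leaf) 122241 6
 Tr.leaf) 122243 6
 (Tr.node (Tr.node Tr.leaf 122245 6
 Tr.leaf) 122247 6
 Tr.leaf)) 122249 6
 (Tr.node (Tr.node (Tr.node Tr.leaf 122251 6
 Tr.leaf) 122253 6
 Tr.leaf) 122255 6
 (Tr.node Tr.leaf 122273 6
 Tr.leaf)))) 122275 6
 (Tr.node (Tr.node (Tr.node (Tr.node (Tr.node Tr.leaf 122277 6
 Tr.leaf) 122279 5
 Tr.leaf) 122281 6
 (Tr.node (Tr.node Tr.leaf 122283 6
 Tr.leaf) 122285 6
 Tr.leaf)) 122287 5
 (Tr.node (Tr.node (Tr.node Tr.leaf 122305 5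
 Tr.leaf) 122307 6
 Tr.leaf) 122309 6
 (Tr.node Tr.leaf 122311 6
 Tr.leaf))) 122313 5
 (Tr.node (Tr.node (Tr.node (Tr.node Tr.leaf 122315 5
 Tr.leaf) 122317 5
 Tr.leaf) 122319 6
 (Tr.node Tr.leaf 122337 6
 Tr.leaf)) 122339 6
 (Tr.node (Tr.node (Tr.node Tr.leaf 122341 6
 Tr.leaf) 122343 6
 Tr.leaf) 122345 6
 (Tr.node Tr.leaf 122347 5
 Tr.leaf))))) 122349 6
 (Tr.node (Tr.node (Tr.node (Tr.node (Tr.node (Tr.node Tr.leaf 122351 6
 Tr.leaf) 122883 5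
 Tr.leaf) 122885 6
 (Tr.node (Tr.node Tr.leaf 122886 4
 Tr.leaf) 122889 7
 Tr.leaf)) 122890 5
 (Tr.node (Tr.node (Tr.node Tr.leaf 122892 6
 Tr.leaf) 122895 5
 Tr.leaf) 122899 6
 (Tr.node Tr.leaf 122901 6
 Tr.leaf))) 122902 6
 (Tr.node (Tr.node (Tr.node (Tr.node Tr.leaf 122905 6
 Tr.leaf) 122906 4
 Tr.leaf) 122908 6
 (Tr.node (Tr.node Tr.leaf 122911 6
 Tr.leaf) 122915 6
 Tr.leaf)) 122917 6
 (Tr.node (Tr.node (Tr.node Tr.leaf 122918 6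
 Tr.leaf) 122921 5
 Tr.leaf) 122922 5
 (Tr.node Tr.leaf 122924 6
 Tr.leaf)))) 122927 6
 (Tr.node (Tr.node (Tr.node (Tr.node (Tr.node Tr.leaf 122931 6
 Tr.leaf) 122933 5
 Tr.leaf) 122934 3
 (Tr.node (Tr.node Tr.leaf 122937 7
 Tr.leaf) 122938 6
 Tr.leaf)) 122940 6
 (Tr.node (Tr.node (Tr.node Tr.leaf 122943 5
 Tr.leaf) 122947 5
 Tr.leaf) 122949 6
 (Tr.node Tr.leaf 122950 5
 Tr.leaf))) 122953 6
 (Tr.node (Tr.node (Tr.node (Tr.node Tr.leaf 122954 5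
 Tr.leaf) 122956 6
 Tr.leaf) 122959 6
 (Tr.node Tr.leaf 122963 4
 Tr.leaf)) 122965 6
 (Tr.node (Tr.node (Tr.node Tr.leaf 122966 6
 Tr.leaf) 122969 6
 Tr.leaf) 122970 4
 (Tr.node Tr.leaf 122972 5
 Tr.leaf)))))) 122975 6
 (Tr.node (Tr.node (Tr.node (Tr.node (Tr.node (Tr.node (Tr.node Tr.leaf 122979 5
 Tr.leaf) 122981 6
 Tr.leaf) 122982 6
 (Tr.node (Tr.node Tr.leaf 122985 6
 Tr.leaf) 122986 6
 Tr.leaf)) 122988 6
 (Tr.node (Tr.node (Tr.node Tr.leaf 122991 6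
 Tr.leaf) 122995 4
 Tr.leaf) 122997 6
 (Tr.node Tr.leaf 122998 3
 Tr.leaf))) 123001 5
 (Tr.node (Tr.node (Tr.node (Tr.node Tr.leaf 123002 6
 Tr.leaf) 123004 5
 Tr.leaf) 123007 6
 (Tr.node (Tr.node Tr.leaf 123011 6
 Tr.leaf) 123013 6
 Tr.leaf)) 123014 5
 (Tr.node (Tr.node (Tr.node Tr.leaf 123017 5
 Tr.leaf) 123018 6
 Tr.leaf) 123020 6
 (Tr.node Tr.leaf 123023 6
 Tr.leaf)))) 123027 6
 (Tr.node (Tr.node (Tr.node (Tr.node (Tr.node Tr.leaf 123029 6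
 Tr.leaf) 123030 5
 Tr.leaf) 123033 5
 (Tr.node (Tr.node Tr.leaf 123034 6
 Tr.leaf) 123036 6
 Tr.leaf)) 123039 6
 (Tr.node (Tr.node (Tr.node Tr.leaf 123043 6
 Tr.leaf) 123045 6
 Tr.leaf) 123046 6
 (Tr.node Tr.leaf 123049 4
 Tr.leaf))) 123050 4
 (Tr.node (Tr.node (Tr.node (Tr.node Tr.leaf 123052 4
 Tr.leaf) 123055 6
 Tr.leaf) 123059 5
 (Tr.node Tr.leaf 123061 5
 Tr.leaf)) 123062 5
 (Tr.node (Tr.node (Tr.node Tr.leaf 123065 6
 Tr.leaf) 123066 4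
 Tr.leaf) 123068 6
 (Tr.node Tr.leaf 123071 6
 Tr.leaf))))) 123075 6
 (Tr.node (Tr.node (Tr.node (Tr.node (Tr.node (Tr.node Tr.leaf 123077 5
 Tr.leaf) 123078 3
 Tr.leaf) 123081 6
 (Tr.node (Tr.node Tr.leaf 123082 6
 Tr.leaf) 123084 6
 Tr.leaf)) 123087 6
 (Tr.node (Tr.node (Tr.node Tr.leaf 123091 6
 Tr.leaf) 123093 6
 Tr.leaf) 123094 6
 (Tr.node Tr.leaf 123097 6
 Tr.leaf))) 123098 6
 (Tr.node (Tr.node (Tr.node (Tr.node Tr.leaf 123100 6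
 Tr.leaf) 123103 6
 Tr.leaf) 123107 6
 (Tr.node Tr.leaf 123109 6
 Tr.leaf)) 123110 6
 (Tr.node (Tr.node (Tr.node Tr.leaf 123113 6
 Tr.leaf) 123114 4
 Tr.leaf) 123116 6
 (Tr.node Tr.leaf 123119 6
 Tr.leaf)))) 123123 7
 (Tr.node (Tr.node (Tr.node (Tr.node (Tr.node Tr.leaf 123125 7
 Tr.leaf) 123126 5
 Tr.leaf) 123129 6
 (Tr.node (Tr.node Tr.leaf 123130 6
 Tr.leaf) 123132 6
 Tr.leaf)) 123135 6
 (Tr.node (Tr.node (Tr.node Tr.leaf 123137 4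
 Tr.leaf) 123138 6
 Tr.leaf) 123140 4
 (Tr.node Tr.leaf 123143 6
 Tr.leaf))) 123144 6
 (Tr.node (Tr.node (Tr.node (Tr.node Tr.leaf 123147 6
 Tr.leaf) 123149 6
 Tr.leaf) 123150 6
 (Tr.node Tr.leaf 123153 6
 Tr.leaf)) 123154 5
 (Tr.node (Tr.node (Tr.node Tr.leaf 123156 5
 Tr.leaf) 123159 6
 Tr.leaf) 123160 6
 (Tr.node Tr.leaf 123163 5
 Tr.leaf))))))) 123165 6
 (Tr.node (Tr.node (Tr.node (Tr.node (Tr.node (Tr.node (Tr.node (Tr.node Tr.leaf 123166 5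
 Tr.leaf) 123169 6
 Tr.leaf) 123170 6
 (Tr.node (Tr.node Tr.leaf 123172 6
 Tr.leaf) 123175 6
 Tr.leaf)) 123176 6
 (Tr.node (Tr.node (Tr.node Tr.leaf 123179 5
 Tr.leaf) 123181 5
 Tr.leaf) 123182 6
 (Tr.node Tr.leaf 123185 6
 Tr.leaf))) 123186 5
 (Tr.node (Tr.node (Tr.node (Tr.node Tr.leaf 123188 7
 Tr.leaf) 123191 6
 Tr.leaf) 123192 6
 (Tr.node (Tr.node Tr.leaf 123195 6
 Tr.leaf) 123197 6
 Tr.leaf)) 123198 5
 (Tr.node (Tr.node (Tr.node Tr.leaf 123201 6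
 Tr.leaf) 123202 6
 Tr.leaf) 123204 6
 (Tr.node Tr.leaf 123207 6
 Tr.leaf)))) 123208 6
 (Tr.node (Tr.node (Tr.node (Tr.node (Tr.node Tr.leaf 123211 6
 Tr.leaf) 123213 6
 Tr.leaf) 123214 5
 (Tr.node (Tr.node Tr.leaf 123217 6
 Tr.leaf) 123218 6
 Tr.leaf)) 123220 6
 (Tr.node (Tr.node (Tr.node Tr.leaf 123223 5
 Tr.leaf) 123224 6
 Tr.leaf) 123227 6
 (Tr.node Tr.leaf 123229 6
 Tr.leaf))) 123230 6
 (Tr.node (Tr.node (Tr.node (Tr.node Tr.leaf 123233 7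
 Tr.leaf) 123234 6
 Tr.leaf) 123236 5
 (Tr.node Tr.leaf 123239 5
 Tr.leaf)) 123240 6
 (Tr.node (Tr.node (Tr.node Tr.leaf 123243 6
 Tr.leaf) 123245 5
 Tr.leaf) 123246 6
 (Tr.node Tr.leaf 123249 5
 Tr.leaf))))) 123250 7
 (Tr.node (Tr.node (Tr.node (Tr.node (Tr.node (Tr.node Tr.leaf 123252 5
 Tr.leaf) 123255 6
 Tr.leaf) 123256 6
 (Tr.node (Tr.node Tr.leaf 123259 6
 Tr.leaf) 123261 6
 Tr.leaf)) 123262 5
 (Tr.node (Tr.node (Tr.node Tr.leaf 123265 6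
 Tr.leaf) 123266 6
 Tr.leaf) 123268 5
 (Tr.node Tr.leaf 123271 6
 Tr.leaf))) 123272 6
 (Tr.node (Tr.node (Tr.node (Tr.node Tr.leaf 123275 5
 Tr.leaf) 123277 5
 Tr.leaf) 123278 6
 (Tr.node Tr.leaf 123281 5
 Tr.leaf)) 123282 4
 (Tr.node (Tr.node (Tr.node Tr.leaf 123284 5
 Tr.leaf) 123287 6
 Tr.leaf) 123288 6
 (Tr.node Tr.leaf 123291 6
 Tr.leaf)))) 123293 6
 (Tr.node (Tr.node (Tr.node (Tr.node (Tr.node Tr.leaf 123294 6
 Tr.leaf) 123297 6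
 Tr.leaf) 123298 6
 (Tr.node (Tr.node Tr.leaf 123300 5
 Tr.leaf) 123303 5
 Tr.leaf)) 123304 6
 (Tr.node (Tr.node (Tr.node Tr.leaf 123307 6
 Tr.leaf) 123309 5
 Tr.leaf) 123310 6
 (Tr.node Tr.leaf 123313 6
 Tr.leaf))) 123314 4
 (Tr.node (Tr.node (Tr.node (Tr.node Tr.leaf 123316 5
 Tr.leaf) 123319 6
 Tr.leaf) 123320 6
 (Tr.node Tr.leaf 123323 6
 Tr.leaf)) 123325 6
 (Tr.node (Tr.node (Tr.node Tr.leaf 123326 6
 Tr.leaf) 123329 6
 Tr.leaf) 123330 5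
 (Tr.node Tr.leaf 123332 6
 Tr.leaf)))))) 123335 6
 (Tr.node (Tr.node (Tr.node (Tr.node (Tr.node (Tr.node (Tr.node Tr.leaf 123336 6
 Tr.leaf) 123339 6
 Tr.leaf) 123341 6
 (Tr.node (Tr.node Tr.leaf 123342 5
 Tr.leaf) 123345 4
 Tr.leaf)) 123346 6
 (Tr.node (Tr.node (Tr.node Tr.leaf 123348 6
 Tr.leaf) 123351 6
 Tr.leaf) 123352 6
 (Tr.node Tr.leaf 123355 6
 Tr.leaf))) 123357 6
 (Tr.node (Tr.node (Tr.node (Tr.node Tr.leaf 123358 5
 Tr.leaf) 123361 6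
 Tr.leaf) 123362 6
 (Tr.node (Tr.node Tr.leaf 123364 6
 Tr.leaf) 123367 6
 Tr.leaf)) 123368 6
 (Tr.node (Tr.node (Tr.node Tr.leaf 123371 6
 Tr.leaf) 123373 5
 Tr.leaf) 123374 6
 (Tr.node Tr.leaf 123377 6
 Tr.leaf)))) 123378 6
 (Tr.node (Tr.node (Tr.node (Tr.node (Tr.node Tr.leaf 123380 6
 Tr.leaf) 123383 7
 Tr.leaf) 123384 6
 (Tr.node (Tr.node Tr.leaf 123387 6
 Tr.leaf) 123389 6
 Tr.leaf)) 123390 6
 (Tr.node (Tr.node (Tr.node Tr.leaf 123905 4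
 Tr.leaf) 123907 6
 Tr.leaf) 123917 6
 (Tr.node Tr.leaf 123919 6
 Tr.leaf))) 123921 4
 (Tr.node (Tr.node (Tr.node (Tr.node Tr.leaf 123923 6
 Tr.leaf) 123933 6
 Tr.leaf) 123935 6
 (Tr.node Tr.leaf 123937 5
 Tr.leaf)) 123939 6
 (Tr.node (Tr.node (Tr.node Tr.leaf 123949 6
 Tr.leaf) 123951 6
 Tr.leaf) 123953 6
 (Tr.node Tr.leaf 123955 6
 Tr.leaf))))) 123965 6
 (Tr.node (Tr.node (Tr.node (Tr.node (Tr.node (Tr.node Tr.leaf 123967 5
 Tr.leaf) 123969 5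
 Tr.leaf) 123971 6
 (Tr.node (Tr.node Tr.leaf 123981 6
 Tr.leaf) 123983 6
 Tr.leaf)) 123985 6
 (Tr.node (Tr.node (Tr.node Tr.leaf 123987 6
 Tr.leaf) 123997 6
 Tr.leaf) 123999 6
 (Tr.node Tr.leaf 124001 6
 Tr.leaf))) 124003 6
 (Tr.node (Tr.node (Tr.node (Tr.node Tr.leaf 124013 6
 Tr.leaf) 124015 6
 Tr.leaf) 124017 6
 (Tr.node Tr.leaf 124019 6
 Tr.leaf)) 124029 6
 (Tr.node (Tr.node (Tr.node Tr.leaf 124031 6
 Tr.leaf) 124033 5
 Tr.leaf) 124035 4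
 (Tr.node Tr.leaf 124045 6
 Tr.leaf)))) 124047 6
 (Tr.node (Tr.node (Tr.node (Tr.node (Tr.node Tr.leaf 124049 6
 Tr.leaf) 124051 5
 Tr.leaf) 124061 6
 (Tr.node (Tr.node Tr.leaf 124063 6
 Tr.leaf) 124065 6
 Tr.leaf)) 124067 4
 (Tr.node (Tr.node (Tr.node Tr.leaf 124077 6
 Tr.leaf) 124079 5
 Tr.leaf) 124081 6
 (Tr.node Tr.leaf 124083 6
 Tr.leaf))) 124093 6
 (Tr.node (Tr.node (Tr.node (Tr.node Tr.leaf 124095 6
 Tr.leaf) 124097 6
 Tr.leaf) 124099 5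
 (Tr.node Tr.leaf 124109 5
 Tr.leaf)) 124111 6
 (Tr.node (Tr.node (Tr.node Tr.leaf 124113 4
 Tr.leaf) 124115 6
 Tr.leaf) 124125 5
 (Tr.node Tr.leaf 124127 6
 Tr.leaf)))))))) 124129 4
 (Tr.node (Tr.node (Tr.node (Tr.node (Tr.node (Tr.node (Tr.node (Tr.node (Tr.node Tr.leaf 124131 7
 Tr.leaf) 124141 5
 Tr.leaf) 124143 6
 (Tr.node (Tr.node Tr.leaf 124145 4
 Tr.leaf) 124147 6
 Tr.leaf)) 124157 6
 (Tr.node (Tr.node (Tr.node Tr.leaf 124159 6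
 Tr.leaf) 124165 6
 Tr.leaf) 124167 6
 (Tr.node Tr.leaf 124169 6
 Tr.leaf))) 124171 6
 (Tr.node (Tr.node (Tr.node (Tr.node Tr.leaf 124181 6
 Tr.leaf) 124183 6
 Tr.leaf) 124185 5
 (Tr.node (Tr.node Tr.leaf 124187 5
 Tr.leaf) 124197 6
 Tr.leaf)) 124199 6
 (Tr.node (Tr.node (Tr.node Tr.leaf 124201 5
 Tr.leaf) 124203 6
 Tr.leaf) 124213 5
 (Tr.node Tr.leaf 124215 5
 Tr.leaf)))) 124217 6
 (Tr.node (Tr.node (Tr.node (Tr.node (Tr.node Tr.leaf 124219 6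
 Tr.leaf) 124229 6
 Tr.leaf) 124231 5
 (Tr.node (Tr.node Tr.leaf 124233 6
 Tr.leaf) 124235 6
 Tr.leaf)) 124245 6
 (Tr.node (Tr.node (Tr.node Tr.leaf 124247 6
 Tr.leaf) 124249 6
 Tr.leaf) 124251 6
 (Tr.node Tr.leaf 124261 6
 Tr.leaf))) 124263 6
 (Tr.node (Tr.node (Tr.node (Tr.node Tr.leaf 124265 6
 Tr.leaf) 124267 5
 Tr.leaf) 124277 6
 (Tr.node Tr.leaf 124279 6
 Tr.leaf)) 124281 6
 (Tr.node (Tr.node (Tr.node Tr.leaf 124283 5
 Tr.leaf) 124293 6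
 Tr.leaf) 124295 6
 (Tr.node Tr.leaf 124297 6
 Tr.leaf))))) 124299 5
 (Tr.node (Tr.node (Tr.node (Tr.node (Tr.node (Tr.node Tr.leaf 124309 5
 Tr.leaf) 124311 5
 Tr.leaf) 124313 6
 (Tr.node (Tr.node Tr.leaf 124315 6
 Tr.leaf) 124325 6
 Tr.leaf)) 124327 6
 (Tr.node (Tr.node (Tr.node Tr.leaf 124329 6
 Tr.leaf) 124331 5
 Tr.leaf) 124341 6
 (Tr.node Tr.leaf 124343 6
 Tr.leaf))) 124345 6
 (Tr.node (Tr.node (Tr.node (Tr.node Tr.leaf 124347 6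
 Tr.leaf) 124357 6
 Tr.leaf) 124359 6
 (Tr.node Tr.leaf 124361 6
 Tr.leaf)) 124363 5
 (Tr.node (Tr.node (Tr.node Tr.leaf 124373 6
 Tr.leaf) 124375 6
 Tr.leaf) 124377 6
 (Tr.node Tr.leaf 124379 6
 Tr.leaf)))) 124389 5
 (Tr.node (Tr.node (Tr.node (Tr.node (Tr.node Tr.leaf 124391 6
 Tr.leaf) 124393 6
 Tr.leaf) 124395 6
 (Tr.node (Tr.node Tr.leaf 124405 6
 Tr.leaf) 124407 6
 Tr.leaf)) 124409 6
 (Tr.node (Tr.node (Tr.node Tr.leaf 124411 5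
 Tr.leaf) 124929 5
 Tr.leaf) 124930 5
 (Tr.node Tr.leaf 124933 6
 Tr.leaf))) 124934 5
 (Tr.node (Tr.node (Tr.node (Tr.node Tr.leaf 124939 6
 Tr.leaf) 124943 5
 Tr.leaf) 124945 6
 (Tr.node Tr.leaf 124946 6
 Tr.leaf)) 124949 6
 (Tr.node (Tr.node (Tr.node Tr.leaf 124950 6
 Tr.leaf) 124955 6
 Tr.leaf) 124959 6
 (Tr.node Tr.leaf 124961 7
 Tr.leaf)))))) 124962 5
 (Tr.node (Tr.node (Tr.node (Tr.node (Tr.node (Tr.node (Tr.node Tr.leaf 124965 6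
 Tr.leaf) 124966 6
 Tr.leaf) 124971 6
 (Tr.node (Tr.node Tr.leaf 124975 6
 Tr.leaf) 124977 6
 Tr.leaf)) 124978 6
 (Tr.node (Tr.node (Tr.node Tr.leaf 124981 6
 Tr.leaf) 124982 5
 Tr.leaf) 124987 6
 (Tr.node Tr.leaf 124991 6
 Tr.leaf))) 124993 5
 (Tr.node (Tr.node (Tr.node (Tr.node Tr.leaf 124994 5
 Tr.leaf) 124997 5
 Tr.leaf) 124998 5
 (Tr.node (Tr.node Tr.leaf 125003 5
 Tr.leaf) 125007 6
 Tr.leaf)) 125009 6
 (Tr.node (Tr.node (Tr.node Tr.leaf 125010 6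
 Tr.leaf) 125013 6
 Tr.leaf) 125014 3
 (Tr.node Tr.leaf 125019 6
 Tr.leaf)))) 125023 5
 (Tr.node (Tr.node (Tr.node (Tr.node (Tr.node Tr.leaf 125025 6
 Tr.leaf) 125026 4
 Tr.leaf) 125029 6
 (Tr.node (Tr.node Tr.leaf 125030 6
 Tr.leaf) 125035 5
 Tr.leaf)) 125039 6
 (Tr.node (Tr.node (Tr.node Tr.leaf 125041 6
 Tr.leaf) 125042 6
 Tr.leaf) 125045 7
 (Tr.node Tr.leaf 125046 6
 Tr.leaf))) 125051 6
 (Tr.node (Tr.node (Tr.node (Tr.node Tr.leaf 125055 6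
 Tr.leaf) 125057 5
 Tr.leaf) 125058 6
 (Tr.node Tr.leaf 125061 6
 Tr.leaf)) 125062 6
 (Tr.node (Tr.node (Tr.node Tr.leaf 125067 6
 Tr.leaf) 125071 7
 Tr.leaf) 125073 6
 (Tr.node Tr.leaf 125074 6
 Tr.leaf))))) 125077 6
 (Tr.node (Tr.node (Tr.node (Tr.node (Tr.node (Tr.node Tr.leaf 125078 3
 Tr.leaf) 125083 6
 Tr.leaf) 125087 6
 (Tr.node (Tr.node Tr.leaf 125089 6
 Tr.leaf) 125090 3
 Tr.leaf)) 125093 6
 (Tr.node (Tr.node (Tr.node Tr.leaf 125094 5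
 Tr.leaf) 125099 5
 Tr.leaf) 125103 6
 (Tr.node Tr.leaf 125105 5
 Tr.leaf))) 125106 5
 (Tr.node (Tr.node (Tr.node (Tr.node Tr.leaf 125109 6
 Tr.leaf) 125110 5
 Tr.leaf) 125115 6
 (Tr.node Tr.leaf 125119 5
 Tr.leaf)) 125121 6
 (Tr.node (Tr.node (Tr.node Tr.leaf 125122 6
 Tr.leaf) 125125 6
 Tr.leaf) 125126 5
 (Tr.node Tr.leaf 125131 6
 Tr.leaf)))) 125135 6
 (Tr.node (Tr.node (Tr.node (Tr.node (Tr.node Tr.leaf 125137 6
 Tr.leaf) 125138 6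
 Tr.leaf) 125141 5
 (Tr.node (Tr.node Tr.leaf 125142 4
 Tr.leaf) 125147 6
 Tr.leaf)) 125151 6
 (Tr.node (Tr.node (Tr.node Tr.leaf 125153 6
 Tr.leaf) 125154 4
 Tr.leaf) 125157 6
 (Tr.node Tr.leaf 125158 6
 Tr.leaf))) 125163 6
 (Tr.node (Tr.node (Tr.node (Tr.node Tr.leaf 125167 6
 Tr.leaf) 125169 5
 Tr.leaf) 125170 5
 (Tr.node Tr.leaf 125173 5
 Tr.leaf)) 125174 5
 (Tr.node (Tr.node (Tr.node Tr.leaf 125179 5
 Tr.leaf) 125183 7
 Tr.leaf) 125187 6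
 (Tr.node Tr.leaf 125191 5
 Tr.leaf))))))) 125193 6
 (Tr.node (Tr.node (Tr.node (Tr.node (Tr.node (Tr.node (Tr.node (Tr.node Tr.leaf 125194 6
 Tr.leaf) 125197 6
 Tr.leaf) 125198 5
 (Tr.node (Tr.node Tr.leaf 125203 5
 Tr.leaf) 125207 6
 Tr.leaf)) 125209 6
 (Tr.node (Tr.node (Tr.node Tr.leaf 125210 5
 Tr.leaf) 125213 6
 Tr.leaf) 125214 5
 (Tr.node Tr.leaf 125219 6
 Tr.leaf))) 125223 6
 (Tr.node (Tr.node (Tr.node (Tr.node Tr.leaf 125225 5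
 Tr.leaf) 125226 6
 Tr.leaf) 125229 6
 (Tr.node (Tr.node Tr.leaf 125230 5
 Tr.leaf) 125235 6
 Tr.leaf)) 125239 5
 (Tr.node (Tr.node (Tr.node Tr.leaf 125241 6
 Tr.leaf) 125242 6
 Tr.leaf) 125245 6
 (Tr.node Tr.leaf 125246 5
 Tr.leaf)))) 125251 6
 (Tr.node (Tr.node (Tr.node (Tr.node (Tr.node Tr.leaf 125255 5
 Tr.leaf) 125257 6
 Tr.leaf) 125258 5
 (Tr.node (Tr.node Tr.leaf 125261 7
 Tr.leaf) 125262 6
 Tr.leaf)) 125267 6
 (Tr.node (Tr.node (Tr.node Tr.leaf 125271 6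
 Tr.leaf) 125273 6
 Tr.leaf) 125274 5
 (Tr.node Tr.leaf 125277 6
 Tr.leaf))) 125278 7
 (Tr.node (Tr.node (Tr.node (Tr.node Tr.leaf 125283 6
 Tr.leaf) 125287 6
 Tr.leaf) 125289 6
 (Tr.node Tr.leaf 125290 5
 Tr.leaf)) 125293 5
 (Tr.node (Tr.node (Tr.node Tr.leaf 125294 6
 Tr.leaf) 125299 6
 Tr.leaf) 125303 5
 (Tr.node Tr.leaf 125305 6
 Tr.leaf))))) 125306 5
 (Tr.node (Tr.node (Tr.node (Tr.node (Tr.node (Tr.node Tr.leaf 125309 6
 Tr.leaf) 125310 6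
 Tr.leaf) 125315 6
 (Tr.node (Tr.node Tr.leaf 125319 5
 Tr.leaf) 125321 6
 Tr.leaf)) 125322 6
 (Tr.node (Tr.node (Tr.node Tr.leaf 125325 5
 Tr.leaf) 125326 5
 Tr.leaf) 125331 6
 (Tr.node Tr.leaf 125335 5
 Tr.leaf))) 125337 5
 (Tr.node (Tr.node (Tr.node (Tr.node Tr.leaf 125338 5
 Tr.leaf) 125341 5
 Tr.leaf) 125342 5
 (Tr.node Tr.leaf 125347 6
 Tr.leaf)) 125351 6
 (Tr.node (Tr.node (Tr.node Tr.leaf 125353 6
 Tr.leaf) 125354 7
 Tr.leaf) 125357 6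
 (Tr.node Tr.leaf 125358 5
 Tr.leaf)))) 125363 7
 (Tr.node (Tr.node (Tr.node (Tr.node (Tr.node Tr.leaf 125367 6
 Tr.leaf) 125369 5
 Tr.leaf) 125370 6
 (Tr.node (Tr.node Tr.leaf 125373 5
 Tr.leaf) 125374 5
 Tr.leaf)) 125379 6
 (Tr.node (Tr.node (Tr.node Tr.leaf 125383 5
 Tr.leaf) 125385 6
 Tr.leaf) 125386 5
 (Tr.node Tr.leaf 125389 6
 Tr.leaf))) 125390 5
 (Tr.node (Tr.node (Tr.node (Tr.node Tr.leaf 125395 5
 Tr.leaf) 125399 6
 Tr.leaf) 125401 5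
 (Tr.node Tr.leaf 125402 5
 Tr.leaf)) 125405 6
 (Tr.node (Tr.node (Tr.node Tr.leaf 125406 6
 Tr.leaf) 125411 6
 Tr.leaf) 125415 6
 (Tr.node Tr.leaf 125417 6
 Tr.leaf)))))) 125418 5
 (Tr.node (Tr.node (Tr.node (Tr.node (Tr.node (Tr.node (Tr.node Tr.leaf 125421 5
 Tr.leaf) 125422 5
 Tr.leaf) 125427 7
 (Tr.node (Tr.node Tr.leaf 125431 6
 Tr.leaf) 125433 5
 Tr.leaf)) 125434 5
 (Tr.node (Tr.node (Tr.node Tr.leaf 125437 6
 Tr.leaf) 125438 6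
 Tr.leaf) 125961 6
 (Tr.node Tr.leaf 125963 5
 Tr.leaf))) 125965 6
 (Tr.node (Tr.node (Tr.node (Tr.node Tr.leaf 125967 5
 Tr.leaf) 125977 6
 Tr.leaf) 125979 6
 (Tr.node (Tr.node Tr.leaf 125981 6
 Tr.leaf) 125983 6
 Tr.leaf)) 125993 6
 (Tr.node (Tr.node (Tr.node Tr.leaf 125995 6
 Tr.leaf) 125997 5
 Tr.leaf) 125999 6
 (Tr.node Tr.leaf 126009 6
 Tr.leaf)))) 126011 4
 (Tr.node (Tr.node (Tr.node (Tr.node (Tr.node Tr.leaf 126013 6
 Tr.leaf) 126015 5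
 Tr.leaf) 126025 5
 (Tr.node (Tr.node Tr.leaf 126027 6
 Tr.leaf) 126029 5
 Tr.leaf)) 126031 4
 (Tr.node (Tr.node (Tr.node Tr.leaf 126041 6
 Tr.leaf) 126043 5
 Tr.leaf) 126045 6
 (Tr.node Tr.leaf 126047 6
 Tr.leaf))) 126057 5
 (Tr.node (Tr.node (Tr.node (Tr.node Tr.leaf 126059 6
 Tr.leaf) 126061 6
 Tr.leaf) 126063 6
 (Tr.node Tr.leaf 126073 6
 Tr.leaf)) 126075 6
 (Tr.node (Tr.node (Tr.node Tr.leaf 126077 6
 Tr.leaf) 126079 6
 Tr.leaf) 126089 6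
 (Tr.node Tr.leaf 126091 6
 Tr.leaf))))) 126093 6
 (Tr.node (Tr.node (Tr.node (Tr.node (Tr.node (Tr.node Tr.leaf 126095 6
 Tr.leaf) 126105 6
 Tr.leaf) 126107 6
 (Tr.node (Tr.node Tr.leaf 126109 6
 Tr.leaf) 126111 6
 Tr.leaf)) 126121 6
 (Tr.node (Tr.node (Tr.node Tr.leaf 126123 4
 Tr.leaf) 126125 6
 Tr.leaf) 126127 5
 (Tr.node Tr.leaf 126137 6
 Tr.leaf))) 126139 5
 (Tr.node (Tr.node (Tr.node (Tr.node Tr.leaf 126141 6
 Tr.leaf) 126143 5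
 Tr.leaf) 126153 6
 (Tr.node Tr.leaf 126155 6
 Tr.leaf)) 126157 6
 (Tr.node (Tr.node (Tr.node Tr.leaf 126159 5
 Tr.leaf) 126169 6
 Tr.leaf) 126171 6
 (Tr.node Tr.leaf 126173 6
 Tr.leaf)))) 126175 6
 (Tr.node (Tr.node (Tr.node (Tr.node (Tr.node Tr.leaf 126185 5
 Tr.leaf) 126187 5
 Tr.leaf) 126189 6
 (Tr.node (Tr.node Tr.leaf 126191 6
 Tr.leaf) 126201 5
 Tr.leaf)) 126203 6
 (Tr.node (Tr.node (Tr.node Tr.leaf 126205 5
 Tr.leaf) 126207 6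
 Tr.leaf) 126209 5
 (Tr.node Tr.leaf 126211 5
 Tr.leaf))) 126213 6
 (Tr.node (Tr.node (Tr.node (Tr.node Tr.leaf 126215 6
 Tr.leaf) 126225 5
 Tr.leaf) 126227 6
 (Tr.node Tr.leaf 126229 6
 Tr.leaf)) 126231 5
 (Tr.node (Tr.node (Tr.node Tr.leaf 126241 6
 Tr.leaf) 126243 6
 Tr.leaf) 126245 6
 (Tr.node Tr.leaf 126247 6
 Tr.leaf)))))))))

/-- A subtree. -/
def tr2_s31 : Tr := (Tr.node (Tr.node (Tr.node (Tr.node (Tr.node (Tr.node (Tr.node (Tr.node (Tr.node (Tr.node Tr.leaf 126259 5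
 Tr.leaf) 126261 5
 Tr.leaf) 126263 6
 (Tr.node (Tr.node Tr.leaf 126273 6
 Tr.leaf) 126275 5
 Tr.leaf)) 126277 6
 (Tr.node (Tr.node (Tr.node Tr.leaf 126279 5
 Tr.leaf) 126289 6
 Tr.leaf) 126291 6
 (Tr.node Tr.leaf 126293 6
 Tr.leaf))) 126295 5
 (Tr.node (Tr.node (Tr.node (Tr.node Tr.leaf 126305 6
 Tr.leaf) 126307 6
 Tr.leaf) 126309 6
 (Tr.node (Tr.node Tr.leaf 126311 6
 Tr.leaf) 126321 6
 Tr.leaf)) 126323 5
 (Tr.node (Tr.node (Tr.node Tr.leaf 126325 5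
 Tr.leaf) 126327 5
 Tr.leaf) 126337 5
 (Tr.node Tr.leaf 126339 6
 Tr.leaf)))) 126341 6
 (Tr.node (Tr.node (Tr.node (Tr.node (Tr.node Tr.leaf 126343 6
 Tr.leaf) 126353 6
 Tr.leaf) 126355 5
 (Tr.node (Tr.node Tr.leaf 126357 5
 Tr.leaf) 126359 6
 Tr.leaf)) 126369 5
 (Tr.node (Tr.node (Tr.node Tr.leaf 126371 6
 Tr.leaf) 126373 6
 Tr.leaf) 126375 6
 (Tr.node Tr.leaf 126385 6
 Tr.leaf))) 126387 6
 (Tr.node (Tr.node (Tr.node (Tr.node Tr.leaf 126389 5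
 Tr.leaf) 126391 6
 Tr.leaf) 126401 6
 (Tr.node Tr.leaf 126403 5
 Tr.leaf)) 126405 6
 (Tr.node (Tr.node (Tr.node Tr.leaf 126407 5
 Tr.leaf) 126417 5
 Tr.leaf) 126419 6
 (Tr.node Tr.leaf 126421 6
 Tr.leaf))))) 126423 6
 (Tr.node (Tr.node (Tr.node (Tr.node (Tr.node (Tr.node Tr.leaf 126433 6
 Tr.leaf) 126435 6
 Tr.leaf) 126437 6
 (Tr.node (Tr.node Tr.leaf 126439 5
 Tr.leaf) 126449 6
 Tr.leaf)) 126451 6
 (Tr.node (Tr.node (Tr.node Tr.leaf 126453 6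
 Tr.leaf) 126455 6
 Tr.leaf) 126977 5
 (Tr.node Tr.leaf 126978 5
 Tr.leaf))) 126980 4
 (Tr.node (Tr.node (Tr.node (Tr.node Tr.leaf 126983 6
 Tr.leaf) 126985 6
 Tr.leaf) 126986 6
 (Tr.node (Tr.node Tr.leaf 126988 5
 Tr.leaf) 126991 5
 Tr.leaf)) 126993 4
 (Tr.node (Tr.node (Tr.node Tr.leaf 126994 6
 Tr.leaf) 126996 6
 Tr.leaf) 126999 6
 (Tr.node Tr.leaf 127001 4
 Tr.leaf)))) 127002 6
 (Tr.node (Tr.node (Tr.node (Tr.node (Tr.node Tr.leaf 127004 4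
 Tr.leaf) 127007 6
 Tr.leaf) 127009 4
 (Tr.node (Tr.node Tr.leaf 127010 6
 Tr.leaf) 127012 3
 Tr.leaf)) 127015 7
 (Tr.node (Tr.node (Tr.node Tr.leaf 127017 6
 Tr.leaf) 127018 5
 Tr.leaf) 127020 6
 (Tr.node Tr.leaf 127023 6
 Tr.leaf))) 127025 6
 (Tr.node (Tr.node (Tr.node (Tr.node Tr.leaf 127026 6
 Tr.leaf) 127028 6
 Tr.leaf) 127031 6
 (Tr.node Tr.leaf 127033 5
 Tr.leaf)) 127034 4
 (Tr.node (Tr.node (Tr.node Tr.leaf 127036 4
 Tr.leaf) 127039 5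
 Tr.leaf) 127041 6
 (Tr.node Tr.leaf 127042 6
 Tr.leaf)))))) 127044 5
 (Tr.node (Tr.node (Tr.node (Tr.node (Tr.node (Tr.node (Tr.node Tr.leaf 127047 5
 Tr.leaf) 127049 5
 Tr.leaf) 127050 5
 (Tr.node (Tr.node Tr.leaf 127052 5
 Tr.leaf) 127055 6
 Tr.leaf)) 127057 6
 (Tr.node (Tr.node (Tr.node Tr.leaf 127058 5
 Tr.leaf) 127060 5
 Tr.leaf) 127063 6
 (Tr.node Tr.leaf 127065 6
 Tr.leaf))) 127066 6
 (Tr.node (Tr.node (Tr.node (Tr.node Tr.leaf 127068 6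
 Tr.leaf) 127071 6
 Tr.leaf) 127073 6
 (Tr.node (Tr.node Tr.leaf 127074 6
 Tr.leaf) 127076 5
 Tr.leaf)) 127079 6
 (Tr.node (Tr.node (Tr.node Tr.leaf 127081 5
 Tr.leaf) 127082 3
 Tr.leaf) 127084 4
 (Tr.node Tr.leaf 127087 6
 Tr.leaf)))) 127089 6
 (Tr.node (Tr.node (Tr.node (Tr.node (Tr.node Tr.leaf 127090 6
 Tr.leaf) 127092 6
 Tr.leaf) 127095 6
 (Tr.node (Tr.node Tr.leaf 127097 4
 Tr.leaf) 127098 4
 Tr.leaf)) 127100 6
 (Tr.node (Tr.node (Tr.node Tr.leaf 127103 6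
 Tr.leaf) 127105 5
 Tr.leaf) 127106 5
 (Tr.node Tr.leaf 127108 5
 Tr.leaf))) 127111 6
 (Tr.node (Tr.node (Tr.node (Tr.node Tr.leaf 127113 6
 Tr.leaf) 127114 6
 Tr.leaf) 127116 6
 (Tr.node Tr.leaf 127119 5
 Tr.leaf)) 127121 5
 (Tr.node (Tr.node (Tr.node Tr.leaf 127122 3
 Tr.leaf) 127124 4
 Tr.leaf) 127127 6
 (Tr.node Tr.leaf 127129 6
 Tr.leaf))))) 127130 5
 (Tr.node (Tr.node (Tr.node (Tr.node (Tr.node (Tr.node Tr.leaf 127132 6
 Tr.leaf) 127135 5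
 Tr.leaf) 127137 6
 (Tr.node (Tr.node Tr.leaf 127138 6
 Tr.leaf) 127140 6
 Tr.leaf)) 127143 6
 (Tr.node (Tr.node (Tr.node Tr.leaf 127145 4
 Tr.leaf) 127146 6
 Tr.leaf) 127148 6
 (Tr.node Tr.leaf 127151 6
 Tr.leaf))) 127153 5
 (Tr.node (Tr.node (Tr.node (Tr.node Tr.leaf 127154 5
 Tr.leaf) 127156 4
 Tr.leaf) 127159 5
 (Tr.node Tr.leaf 127161 6
 Tr.leaf)) 127162 6
 (Tr.node (Tr.node (Tr.node Tr.leaf 127164 5
 Tr.leaf) 127167 5
 Tr.leaf) 127169 5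
 (Tr.node Tr.leaf 127170 4
 Tr.leaf)))) 127172 4
 (Tr.node (Tr.node (Tr.node (Tr.node (Tr.node Tr.leaf 127175 6
 Tr.leaf) 127177 6
 Tr.leaf) 127178 6
 (Tr.node (Tr.node Tr.leaf 127180 6
 Tr.leaf) 127183 5
 Tr.leaf)) 127185 5
 (Tr.node (Tr.node (Tr.node Tr.leaf 127186 4
 Tr.leaf) 127188 6
 Tr.leaf) 127191 6
 (Tr.node Tr.leaf 127193 4
 Tr.leaf))) 127194 6
 (Tr.node (Tr.node (Tr.node (Tr.node Tr.leaf 127196 3
 Tr.leaf) 127199 6
 Tr.leaf) 127201 5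
 (Tr.node Tr.leaf 127202 6
 Tr.leaf)) 127204 5
 (Tr.node (Tr.node (Tr.node Tr.leaf 127207 5
 Tr.leaf) 127209 6
 Tr.leaf) 127210 6
 (Tr.node Tr.leaf 127212 6
 Tr.leaf))))))) 127215 6
 (Tr.node (Tr.node (Tr.node (Tr.node (Tr.node (Tr.node (Tr.node (Tr.node Tr.leaf 127217 4
 Tr.leaf) 127218 6
 Tr.leaf) 127220 5
 (Tr.node (Tr.node Tr.leaf 127223 5
 Tr.leaf) 127225 4
 Tr.leaf)) 127226 5
 (Tr.node (Tr.node (Tr.node Tr.leaf 127228 5
 Tr.leaf) 127231 6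
 Tr.leaf) 127235 6
 (Tr.node Tr.leaf 127237 6
 Tr.leaf))) 127238 6
 (Tr.node (Tr.node (Tr.node (Tr.node Tr.leaf 127243 6
 Tr.leaf) 127245 6
 Tr.leaf) 127246 6
 (Tr.node (Tr.node Tr.leaf 127251 6
 Tr.leaf) 127253 6
 Tr.leaf)) 127254 5
 (Tr.node (Tr.node (Tr.node Tr.leaf 127259 6
 Tr.leaf) 127261 5
 Tr.leaf) 127262 6
 (Tr.node Tr.leaf 127267 5
 Tr.leaf)))) 127269 6
 (Tr.node (Tr.node (Tr.node (Tr.node (Tr.node Tr.leaf 127270 5
 Tr.leaf) 127275 6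
 Tr.leaf) 127277 6
 (Tr.node (Tr.node Tr.leaf 127278 5
 Tr.leaf) 127283 6
 Tr.leaf)) 127285 5
 (Tr.node (Tr.node (Tr.node Tr.leaf 127286 5
 Tr.leaf) 127291 6
 Tr.leaf) 127293 6
 (Tr.node Tr.leaf 127294 5
 Tr.leaf))) 127299 6
 (Tr.node (Tr.node (Tr.node (Tr.node Tr.leaf 127301 6
 Tr.leaf) 127302 5
 Tr.leaf) 127307 6
 (Tr.node Tr.leaf 127309 6
 Tr.leaf)) 127310 5
 (Tr.node (Tr.node (Tr.node Tr.leaf 127315 6
 Tr.leaf) 127317 6
 Tr.leaf) 127318 6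
 (Tr.node Tr.leaf 127323 5
 Tr.leaf))))) 127325 6
 (Tr.node (Tr.node (Tr.node (Tr.node (Tr.node (Tr.node Tr.leaf 127326 6
 Tr.leaf) 127331 6
 Tr.leaf) 127333 6
 (Tr.node (Tr.node Tr.leaf 127334 4
 Tr.leaf) 127339 5
 Tr.leaf)) 127341 6
 (Tr.node (Tr.node (Tr.node Tr.leaf 127342 5
 Tr.leaf) 127347 6
 Tr.leaf) 127349 6
 (Tr.node Tr.leaf 127350 5
 Tr.leaf))) 127355 6
 (Tr.node (Tr.node (Tr.node (Tr.node Tr.leaf 127357 6
 Tr.leaf) 127358 5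
 Tr.leaf) 127363 6
 (Tr.node Tr.leaf 127365 5
 Tr.leaf)) 127366 5
 (Tr.node (Tr.node (Tr.node Tr.leaf 127371 6
 Tr.leaf) 127373 5
 Tr.leaf) 127374 5
 (Tr.node Tr.leaf 127379 5
 Tr.leaf)))) 127381 7
 (Tr.node (Tr.node (Tr.node (Tr.node (Tr.node Tr.leaf 127382 6
 Tr.leaf) 127387 6
 Tr.leaf) 127389 6
 (Tr.node (Tr.node Tr.leaf 127390 6
 Tr.leaf) 127395 6
 Tr.leaf)) 127397 5
 (Tr.node (Tr.node (Tr.node Tr.leaf 127398 5
 Tr.leaf) 127403 5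
 Tr.leaf) 127405 5
 (Tr.node Tr.leaf 127406 6
 Tr.leaf))) 127411 6
 (Tr.node (Tr.node (Tr.node (Tr.node Tr.leaf 127413 6
 Tr.leaf) 127414 6
 Tr.leaf) 127419 6
 (Tr.node Tr.leaf 127421 6
 Tr.leaf)) 127422 6
 (Tr.node (Tr.node (Tr.node Tr.leaf 127427 6
 Tr.leaf) 127429 6
 Tr.leaf) 127430 5
 (Tr.node Tr.leaf 127435 5
 Tr.leaf)))))) 127437 6
 (Tr.node (Tr.node (Tr.node (Tr.node (Tr.node (Tr.node (Tr.node Tr.leaf 127438 6
 Tr.leaf) 127443 6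
 Tr.leaf) 127445 5
 (Tr.node (Tr.node Tr.leaf 127446 6
 Tr.leaf) 127451 6
 Tr.leaf)) 127453 6
 (Tr.node (Tr.node (Tr.node Tr.leaf 127454 6
 Tr.leaf) 127459 5
 Tr.leaf) 127461 6
 (Tr.node Tr.leaf 127462 6
 Tr.leaf))) 127467 6
 (Tr.node (Tr.node (Tr.node (Tr.node Tr.leaf 127469 6
 Tr.leaf) 127470 6
 Tr.leaf) 127475 6
 (Tr.node (Tr.node Tr.leaf 127477 5
 Tr.leaf) 127478 6
 Tr.leaf)) 127483 5
 (Tr.node (Tr.node (Tr.node Tr.leaf 127485 6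
 Tr.leaf) 127486 5
 Tr.leaf) 128005 5
 (Tr.node Tr.leaf 128007 5
 Tr.leaf)))) 128013 6
 (Tr.node (Tr.node (Tr.node (Tr.node (Tr.node Tr.leaf 128015 5
 Tr.leaf) 128021 6
 Tr.leaf) 128023 6
 (Tr.node (Tr.node Tr.leaf 128029 6
 Tr.leaf) 128031 6
 Tr.leaf)) 128037 6
 (Tr.node (Tr.node (Tr.node Tr.leaf 128039 6
 Tr.leaf) 128045 6
 Tr.leaf) 128047 5
 (Tr.node Tr.leaf 128053 5
 Tr.leaf))) 128055 6
 (Tr.node (Tr.node (Tr.node (Tr.node Tr.leaf 128061 6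
 Tr.leaf) 128063 6
 Tr.leaf) 128069 5
 (Tr.node Tr.leaf 128071 6
 Tr.leaf)) 128077 5
 (Tr.node (Tr.node (Tr.node Tr.leaf 128079 6
 Tr.leaf) 128085 6
 Tr.leaf) 128087 5
 (Tr.node Tr.leaf 128093 6
 Tr.leaf))))) 128095 6
 (Tr.node (Tr.node (Tr.node (Tr.node (Tr.node (Tr.node Tr.leaf 128101 6
 Tr.leaf) 128103 5
 Tr.leaf) 128109 6
 (Tr.node (Tr.node Tr.leaf 128111 6
 Tr.leaf) 128117 5
 Tr.leaf)) 128119 6
 (Tr.node (Tr.node (Tr.node Tr.leaf 128125 6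
 Tr.leaf) 128127 6
 Tr.leaf) 128133 6
 (Tr.node Tr.leaf 128135 6
 Tr.leaf))) 128141 6
 (Tr.node (Tr.node (Tr.node (Tr.node Tr.leaf 128143 5
 Tr.leaf) 128149 6
 Tr.leaf) 128151 6
 (Tr.node Tr.leaf 128157 6
 Tr.leaf)) 128159 5
 (Tr.node (Tr.node (Tr.node Tr.leaf 128165 6
 Tr.leaf) 128167 5
 Tr.leaf) 128173 6
 (Tr.node Tr.leaf 128175 6
 Tr.leaf)))) 128181 5
 (Tr.node (Tr.node (Tr.node (Tr.node (Tr.node Tr.leaf 128183 5
 Tr.leaf) 128189 6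
 Tr.leaf) 128191 5
 (Tr.node (Tr.node Tr.leaf 128197 6
 Tr.leaf) 128199 6
 Tr.leaf)) 128205 6
 (Tr.node (Tr.node (Tr.node Tr.leaf 128207 5
 Tr.leaf) 128213 6
 Tr.leaf) 128215 6
 (Tr.node Tr.leaf 128221 6
 Tr.leaf))) 128223 6
 (Tr.node (Tr.node (Tr.node (Tr.node Tr.leaf 128229 6
 Tr.leaf) 128231 6
 Tr.leaf) 128237 6
 (Tr.node Tr.leaf 128239 6
 Tr.leaf)) 128245 5
 (Tr.node (Tr.node (Tr.node Tr.leaf 128247 6
 Tr.leaf) 128253 5
 Tr.leaf) 128255 6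
 (Tr.node Tr.leaf 128257 6
 Tr.leaf)))))))) 128259 6
 (Tr.node (Tr.node (Tr.node (Tr.node (Tr.node (Tr.node (Tr.node (Tr.node (Tr.node Tr.leaf 128265 6
 Tr.leaf) 128267 6
 Tr.leaf) 128273 5
 (Tr.node (Tr.node Tr.leaf 128275 6
 Tr.leaf) 128281 5
 Tr.leaf)) 128283 6
 (Tr.node (Tr.node (Tr.node Tr.leaf 128289 5
 Tr.leaf) 128291 6
 Tr.leaf) 128297 6
 (Tr.node Tr.leaf 128299 4
 Tr.leaf))) 128305 6
 (Tr.node (Tr.node (Tr.node (Tr.node Tr.leaf 128307 5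
 Tr.leaf) 128313 6
 Tr.leaf) 128315 6
 (Tr.node (Tr.node Tr.leaf 128321 6
 Tr.leaf) 128323 6
 Tr.leaf)) 128329 6
 (Tr.node (Tr.node (Tr.node Tr.leaf 128331 6
 Tr.leaf) 128337 6
 Tr.leaf) 128339 6
 (Tr.node Tr.leaf 128345 5
 Tr.leaf)))) 128347 5
 (Tr.node (Tr.node (Tr.node (Tr.node (Tr.node Tr.leaf 128353 6
 Tr.leaf) 128355 6
 Tr.leaf) 128361 4
 (Tr.node (Tr.node Tr.leaf 128363 5
 Tr.leaf) 128369 6
 Tr.leaf)) 128371 6
 (Tr.node (Tr.node (Tr.node Tr.leaf 128377 5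
 Tr.leaf) 128379 6
 Tr.leaf) 128385 5
 (Tr.node Tr.leaf 128387 6
 Tr.leaf))) 128393 5
 (Tr.node (Tr.node (Tr.node (Tr.node Tr.leaf 128395 6
 Tr.leaf) 128401 5
 Tr.leaf) 128403 6
 (Tr.node Tr.leaf 128409 6
 Tr.leaf)) 128411 6
 (Tr.node (Tr.node (Tr.node Tr.leaf 128417 5
 Tr.leaf) 128419 6
 Tr.leaf) 128425 6
 (Tr.node Tr.leaf 128427 5
 Tr.leaf))))) 128433 4
 (Tr.node (Tr.node (Tr.node (Tr.node (Tr.node (Tr.node Tr.leaf 128435 6
 Tr.leaf) 128441 6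
 Tr.leaf) 128443 6
 (Tr.node (Tr.node Tr.leaf 128449 6
 Tr.leaf) 128451 6
 Tr.leaf)) 128457 6
 (Tr.node (Tr.node (Tr.node Tr.leaf 128459 6
 Tr.leaf) 128465 6
 Tr.leaf) 128467 6
 (Tr.node Tr.leaf 128473 6
 Tr.leaf))) 128475 5
 (Tr.node (Tr.node (Tr.node (Tr.node Tr.leaf 128481 6
 Tr.leaf) 128483 6
 Tr.leaf) 128489 5
 (Tr.node Tr.leaf 128491 5
 Tr.leaf)) 128497 5
 (Tr.node (Tr.node (Tr.node Tr.leaf 128499 6
 Tr.leaf) 128505 6
 Tr.leaf) 128507 6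
 (Tr.node Tr.leaf 129027 6
 Tr.leaf)))) 129031 5
 (Tr.node (Tr.node (Tr.node (Tr.node (Tr.node Tr.leaf 129035 5
 Tr.leaf) 129039 6
 Tr.leaf) 129043 6
 (Tr.node (Tr.node Tr.leaf 129047 5
 Tr.leaf) 129051 6
 Tr.leaf)) 129055 6
 (Tr.node (Tr.node (Tr.node Tr.leaf 129059 6
 Tr.leaf) 129063 5
 Tr.leaf) 129067 6
 (Tr.node Tr.leaf 129071 6
 Tr.leaf))) 129075 6
 (Tr.node (Tr.node (Tr.node (Tr.node Tr.leaf 129079 6
 Tr.leaf) 129083 6
 Tr.leaf) 129087 5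
 (Tr.node Tr.leaf 129091 6
 Tr.leaf)) 129095 5
 (Tr.node (Tr.node (Tr.node Tr.leaf 129099 5
 Tr.leaf) 129103 6
 Tr.leaf) 129107 5
 (Tr.node Tr.leaf 129111 4
 Tr.leaf)))))) 129115 5
 (Tr.node (Tr.node (Tr.node (Tr.node (Tr.node (Tr.node (Tr.node Tr.leaf 129119 6
 Tr.leaf) 129123 6
 Tr.leaf) 129127 4
 (Tr.node (Tr.node Tr.leaf 129131 6
 Tr.leaf) 129135 6
 Tr.leaf)) 129139 6
 (Tr.node (Tr.node (Tr.node Tr.leaf 129143 6
 Tr.leaf) 129147 5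
 Tr.leaf) 129151 6
 (Tr.node Tr.leaf 129155 6
 Tr.leaf))) 129159 6
 (Tr.node (Tr.node (Tr.node (Tr.node Tr.leaf 129163 6
 Tr.leaf) 129167 6
 Tr.leaf) 129171 5
 (Tr.node (Tr.node Tr.leaf 129175 6
 Tr.leaf) 129179 6
 Tr.leaf)) 129183 6
 (Tr.node (Tr.node (Tr.node Tr.leaf 129187 6
 Tr.leaf) 129191 6
 Tr.leaf) 129195 6
 (Tr.node Tr.leaf 129199 6
 Tr.leaf)))) 129203 4
 (Tr.node (Tr.node (Tr.node (Tr.node (Tr.node Tr.leaf 129207 5
 Tr.leaf) 129211 5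
 Tr.leaf) 129215 5
 (Tr.node (Tr.node Tr.leaf 129219 6
 Tr.leaf) 129223 6
 Tr.leaf)) 129227 6
 (Tr.node (Tr.node (Tr.node Tr.leaf 129231 6
 Tr.leaf) 129235 6
 Tr.leaf) 129239 6
 (Tr.node Tr.leaf 129243 6
 Tr.leaf))) 129247 6
 (Tr.node (Tr.node (Tr.node (Tr.node Tr.leaf 129251 5
 Tr.leaf) 129255 6
 Tr.leaf) 129259 6
 (Tr.node Tr.leaf 129263 6
 Tr.leaf)) 129267 6
 (Tr.node (Tr.node (Tr.node Tr.leaf 129271 5
 Tr.leaf) 129275 5
 Tr.leaf) 129279 6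
 (Tr.node Tr.leaf 129281 6
 Tr.leaf))))) 129282 5
 (Tr.node (Tr.node (Tr.node (Tr.node (Tr.node (Tr.node Tr.leaf 129285 6
 Tr.leaf) 129286 6
 Tr.leaf) 129289 6
 (Tr.node (Tr.node Tr.leaf 129290 5
 Tr.leaf) 129293 5
 Tr.leaf)) 129294 5
 (Tr.node (Tr.node (Tr.node Tr.leaf 129297 5
 Tr.leaf) 129298 5
 Tr.leaf) 129301 6
 (Tr.node Tr.leaf 129302 6
 Tr.leaf))) 129305 6
 (Tr.node (Tr.node (Tr.node (Tr.node Tr.leaf 129306 5
 Tr.leaf) 129309 6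
 Tr.leaf) 129310 6
 (Tr.node Tr.leaf 129313 5
 Tr.leaf)) 129314 5
 (Tr.node (Tr.node (Tr.node Tr.leaf 129317 6
 Tr.leaf) 129318 5
 Tr.leaf) 129321 5
 (Tr.node Tr.leaf 129322 5
 Tr.leaf)))) 129325 5
 (Tr.node (Tr.node (Tr.node (Tr.node (Tr.node Tr.leaf 129326 5
 Tr.leaf) 129329 6
 Tr.leaf) 129330 6
 (Tr.node (Tr.node Tr.leaf 129333 6
 Tr.leaf) 129334 4
 Tr.leaf)) 129337 6
 (Tr.node (Tr.node (Tr.node Tr.leaf 129338 5
 Tr.leaf) 129341 6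
 Tr.leaf) 129342 5
 (Tr.node Tr.leaf 129345 6
 Tr.leaf))) 129346 6
 (Tr.node (Tr.node (Tr.node (Tr.node Tr.leaf 129349 6
 Tr.leaf) 129350 5
 Tr.leaf) 129353 6
 (Tr.node Tr.leaf 129354 6
 Tr.leaf)) 129357 6
 (Tr.node (Tr.node (Tr.node Tr.leaf 129358 6
 Tr.leaf) 129361 6
 Tr.leaf) 129362 5
 (Tr.node Tr.leaf 129365 6
 Tr.leaf))))))) 129366 5
 (Tr.node (Tr.node (Tr.node (Tr.node (Tr.node (Tr.node (Tr.node (Tr.node Tr.leaf 129369 6
 Tr.leaf) 129370 6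
 Tr.leaf) 129373 5
 (Tr.node (Tr.node Tr.leaf 129374 6
 Tr.leaf) 129377 6
 Tr.leaf)) 129378 5
 (Tr.node (Tr.node (Tr.node Tr.leaf 129381 5
 Tr.leaf) 129382 5
 Tr.leaf) 129385 6
 (Tr.node Tr.leaf 129386 5
 Tr.leaf))) 129389 5
 (Tr.node (Tr.node (Tr.node (Tr.node Tr.leaf 129390 5
 Tr.leaf) 129393 6
 Tr.leaf) 129394 5
 (Tr.node (Tr.node Tr.leaf 129397 6
 Tr.leaf) 129398 5
 Tr.leaf)) 129401 6
 (Tr.node (Tr.node (Tr.node Tr.leaf 129402 6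
 Tr.leaf) 129405 6
 Tr.leaf) 129406 6
 (Tr.node Tr.leaf 129409 6
 Tr.leaf)))) 129410 4
 (Tr.node (Tr.node (Tr.node (Tr.node (Tr.node Tr.leaf 129413 6
 Tr.leaf) 129414 5
 Tr.leaf) 129417 6
 (Tr.node (Tr.node Tr.leaf 129418 5
 Tr.leaf) 129421 6
 Tr.leaf)) 129422 5
 (Tr.node (Tr.node (Tr.node Tr.leaf 129425 5
 Tr.leaf) 129426 6
 Tr.leaf) 129429 6
 (Tr.node Tr.leaf 129430 5
 Tr.leaf))) 129433 6
 (Tr.node (Tr.node (Tr.node (Tr.node Tr.leaf 129434 5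
 Tr.leaf) 129437 6
 Tr.leaf) 129438 5
 (Tr.node Tr.leaf 129441 5
 Tr.leaf)) 129442 6
 (Tr.node (Tr.node (Tr.node Tr.leaf 129445 5
 Tr.leaf) 129446 6
 Tr.leaf) 129449 6
 (Tr.node Tr.leaf 129450 5
 Tr.leaf))))) 129453 6
 (Tr.node (Tr.node (Tr.node (Tr.node (Tr.node (Tr.node Tr.leaf 129454 5
 Tr.leaf) 129457 5
 Tr.leaf) 129458 6
 (Tr.node (Tr.node Tr.leaf 129461 6
 Tr.leaf) 129462 5
 Tr.leaf)) 129465 6
 (Tr.node (Tr.node (Tr.node Tr.leaf 129466 5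
 Tr.leaf) 129469 6
 Tr.leaf) 129470 6
 (Tr.node Tr.leaf 129473 6
 Tr.leaf))) 129474 5
 (Tr.node (Tr.node (Tr.node (Tr.node Tr.leaf 129477 5
 Tr.leaf) 129478 5
 Tr.leaf) 129481 5
 (Tr.node Tr.leaf 129482 6
 Tr.leaf)) 129485 6
 (Tr.node (Tr.node (Tr.node Tr.leaf 129486 6
 Tr.leaf) 129489 5
 Tr.leaf) 129490 5
 (Tr.node Tr.leaf 129493 6
 Tr.leaf)))) 129494 5
 (Tr.node (Tr.node (Tr.node (Tr.node (Tr.node Tr.leaf 129497 6
 Tr.leaf) 129498 5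
 Tr.leaf) 129501 5
 (Tr.node (Tr.node Tr.leaf 129502 6
 Tr.leaf) 129505 6
 Tr.leaf)) 129506 5
 (Tr.node (Tr.node (Tr.node Tr.leaf 129509 6
 Tr.leaf) 129510 5
 Tr.leaf) 129513 6
 (Tr.node Tr.leaf 129514 6
 Tr.leaf))) 129517 5
 (Tr.node (Tr.node (Tr.node (Tr.node Tr.leaf 129518 6
 Tr.leaf) 129521 5
 Tr.leaf) 129522 6
 (Tr.node Tr.leaf 129525 6
 Tr.leaf)) 129526 5
 (Tr.node (Tr.node (Tr.node Tr.leaf 129529 6
 Tr.leaf) 129530 6
 Tr.leaf) 129533 5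
 (Tr.node Tr.leaf 129534 6
 Tr.leaf)))))) 130049 6
 (Tr.node (Tr.node (Tr.node (Tr.node (Tr.node (Tr.node (Tr.node Tr.leaf 130051 6
 Tr.leaf) 130053 6
 Tr.leaf) 130055 6
 (Tr.node (Tr.node Tr.leaf 130057 5
 Tr.leaf) 130059 6
 Tr.leaf)) 130061 6
 (Tr.node (Tr.node (Tr.node Tr.leaf 130063 6
 Tr.leaf) 130065 6
 Tr.leaf) 130067 6
 (Tr.node Tr.leaf 130069 6
 Tr.leaf))) 130071 6
 (Tr.node (Tr.node (Tr.node (Tr.node Tr.leaf 130073 5
 Tr.leaf) 130075 6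
 Tr.leaf) 130077 6
 (Tr.node (Tr.node Tr.leaf 130079 6
 Tr.leaf) 130081 6
 Tr.leaf)) 130083 6
 (Tr.node (Tr.node (Tr.node Tr.leaf 130085 6
 Tr.leaf) 130087 6
 Tr.leaf) 130089 6
 (Tr.node Tr.leaf 130091 6
 Tr.leaf)))) 130093 6
 (Tr.node (Tr.node (Tr.node (Tr.node (Tr.node Tr.leaf 130095 6
 Tr.leaf) 130097 6
 Tr.leaf) 130099 6
 (Tr.node (Tr.node Tr.leaf 130101 6
 Tr.leaf) 130103 6
 Tr.leaf)) 130105 6
 (Tr.node (Tr.node (Tr.node Tr.leaf 130107 6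
 Tr.leaf) 130109 6
 Tr.leaf) 130111 6
 (Tr.node Tr.leaf 130113 6
 Tr.leaf))) 130115 6
 (Tr.node (Tr.node (Tr.node (Tr.node Tr.leaf 130117 7
 Tr.leaf) 130119 6
 Tr.leaf) 130121 5
 (Tr.node Tr.leaf 130123 5
 Tr.leaf)) 130125 5
 (Tr.node (Tr.node (Tr.node Tr.leaf 130127 6
 Tr.leaf) 130129 6
 Tr.leaf) 130131 6
 (Tr.node Tr.leaf 130133 6
 Tr.leaf))))) 130135 6
 (Tr.node (Tr.node (Tr.node (Tr.node (Tr.node (Tr.node Tr.leaf 130137 6
 Tr.leaf) 130139 6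
 Tr.leaf) 130141 6
 (Tr.node (Tr.node Tr.leaf 130143 6
 Tr.leaf) 130145 6
 Tr.leaf)) 130147 6
 (Tr.node (Tr.node (Tr.node Tr.leaf 130149 6
 Tr.leaf) 130151 6
 Tr.leaf) 130153 6
 (Tr.node Tr.leaf 130155 6
 Tr.leaf))) 130157 6
 (Tr.node (Tr.node (Tr.node (Tr.node Tr.leaf 130159 6
 Tr.leaf) 130161 6
 Tr.leaf) 130163 6
 (Tr.node Tr.leaf 130165 6
 Tr.leaf)) 130167 6
 (Tr.node (Tr.node (Tr.node Tr.leaf 130169 6
 Tr.leaf) 130171 6
 Tr.leaf) 130173 6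
 (Tr.node Tr.leaf 130175 6
 Tr.leaf)))) 130177 6
 (Tr.node (Tr.node (Tr.node (Tr.node (Tr.node Tr.leaf 130179 6
 Tr.leaf) 130181 6
 Tr.leaf) 130183 5
 (Tr.node (Tr.node Tr.leaf 130185 6
 Tr.leaf) 130187 6
 Tr.leaf)) 130189 6
 (Tr.node (Tr.node (Tr.node Tr.leaf 130191 6
 Tr.leaf) 130193 5
 Tr.leaf) 130195 6
 (Tr.node Tr.leaf 130197 6
 Tr.leaf))) 130199 6
 (Tr.node (Tr.node (Tr.node (Tr.node Tr.leaf 130201 6
 Tr.leaf) 130203 5
 Tr.leaf) 130205 6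
 (Tr.node Tr.leaf 130207 6
 Tr.leaf)) 130209 7
 (Tr.node (Tr.node (Tr.node Tr.leaf 130211 6
 Tr.leaf) 130213 6
 Tr.leaf) 130215 6
 (Tr.node Tr.leaf 130217 6
 Tr.leaf)))))))))

/-- A subtree. -/
def tr2_s32 : Tr := (Tr.node (Tr.node (Tr.node (Tr.node (Tr.node (Tr.node (Tr.node (Tr.node (Tr.node (Tr.node Tr.leaf 130221 6
 Tr.leaf) 130223 6
 Tr.leaf) 130225 6
 (Tr.node (Tr.node Tr.leaf 130227 6
 Tr.leaf) 130229 6
 Tr.leaf)) 130231 6
 (Tr.node (Tr.node (Tr.node Tr.leaf 130233 5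
 Tr.leaf) 130235 6
 Tr.leaf) 130237 6
 (Tr.node Tr.leaf 130239 6
 Tr.leaf))) 130241 6
 (Tr.node (Tr.node (Tr.node (Tr.node Tr.leaf 130243 6
 Tr.leaf) 130245 5
 Tr.leaf) 130247 6
 (Tr.node (Tr.node Tr.leaf 130249 6
 Tr.leaf) 130251 5
 Tr.leaf)) 130253 6
 (Tr.node (Tr.node (Tr.node Tr.leaf 130255 5
 Tr.leaf) 130257 5
 Tr.leaf) 130259 6
 (Tr.node Tr.leaf 130261 6
 Tr.leaf)))) 130263 6
 (Tr.node (Tr.node (Tr.node (Tr.node (Tr.node Tr.leaf 130265 6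
 Tr.leaf) 130267 6
 Tr.leaf) 130269 6
 (Tr.node (Tr.node Tr.leaf 130271 6
 Tr.leaf) 130273 6
 Tr.leaf)) 130275 6
 (Tr.node (Tr.node (Tr.node Tr.leaf 130277 6
 Tr.leaf) 130279 6
 Tr.leaf) 130281 6
 (Tr.node Tr.leaf 130283 6
 Tr.leaf))) 130285 6
 (Tr.node (Tr.node (Tr.node (Tr.node Tr.leaf 130287 6
 Tr.leaf) 130289 5
 Tr.leaf) 130291 6
 (Tr.node Tr.leaf 130293 6
 Tr.leaf)) 130295 6
 (Tr.node (Tr.node (Tr.node Tr.leaf 130297 5
 Tr.leaf) 130299 6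
 Tr.leaf) 130301 5
 (Tr.node Tr.leaf 130303 6
 Tr.leaf))))) 131073 3
 (Tr.node (Tr.node (Tr.node (Tr.node (Tr.node (Tr.node Tr.leaf 131074 3
 Tr.leaf) 131076 2
 Tr.leaf) 131079 4
 (Tr.node (Tr.node Tr.leaf 131080 2
 Tr.leaf) 131083 4
 Tr.leaf)) 131085 5
 (Tr.node (Tr.node (Tr.node Tr.leaf 131086 4
 Tr.leaf) 131088 2
 Tr.leaf) 131091 4
 (Tr.node Tr.leaf 131093 4
 Tr.leaf))) 131094 7
 (Tr.node (Tr.node (Tr.node (Tr.node Tr.leaf 131097 4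
 Tr.leaf) 131098 4
 Tr.leaf) 131100 4
 (Tr.node (Tr.node Tr.leaf 131103 5
 Tr.leaf) 131104 2
 Tr.leaf)) 131107 5
 (Tr.node (Tr.node (Tr.node Tr.leaf 131109 5
 Tr.leaf) 131110 5
 Tr.leaf) 131113 6
 (Tr.node Tr.leaf 131114 4
 Tr.leaf)))) 131116 4
 (Tr.node (Tr.node (Tr.node (Tr.node (Tr.node Tr.leaf 131119 6
 Tr.leaf) 131121 3
 Tr.leaf) 131122 6
 (Tr.node (Tr.node Tr.leaf 131124 4
 Tr.leaf) 131127 5
 Tr.leaf)) 131128 5
 (Tr.node (Tr.node (Tr.node Tr.leaf 131131 6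
 Tr.leaf) 131133 5
 Tr.leaf) 131134 5
 (Tr.node Tr.leaf 131136 2
 Tr.leaf))) 131139 6
 (Tr.node (Tr.node (Tr.node (Tr.node Tr.leaf 131141 5
 Tr.leaf) 131142 6
 Tr.leaf) 131145 4
 (Tr.node Tr.leaf 131146 3
 Tr.leaf)) 131148 6
 (Tr.node (Tr.node (Tr.node Tr.leaf 131151 5
 Tr.leaf) 131153 4
 Tr.leaf) 131154 3
 (Tr.node Tr.leaf 131156 4
 Tr.leaf)))))) 131159 6
 (Tr.node (Tr.node (Tr.node (Tr.node (Tr.node (Tr.node (Tr.node Tr.leaf 131160 7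
 Tr.leaf) 131163 6
 Tr.leaf) 131165 4
 (Tr.node (Tr.node Tr.leaf 131166 5
 Tr.leaf) 131169 6
 Tr.leaf)) 131170 4
 (Tr.node (Tr.node (Tr.node Tr.leaf 131172 4
 Tr.leaf) 131175 6
 Tr.leaf) 131176 5
 (Tr.node Tr.leaf 131179 4
 Tr.leaf))) 131181 5
 (Tr.node (Tr.node (Tr.node (Tr.node Tr.leaf 131182 5
 Tr.leaf) 131184 5
 Tr.leaf) 131187 6
 (Tr.node (Tr.node Tr.leaf 131189 6
 Tr.leaf) 131190 5
 Tr.leaf)) 131193 6
 (Tr.node (Tr.node (Tr.node Tr.leaf 131194 5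
 Tr.leaf) 131196 6
 Tr.leaf) 131199 6
 (Tr.node Tr.leaf 131200 3
 Tr.leaf)))) 131203 6
 (Tr.node (Tr.node (Tr.node (Tr.node (Tr.node Tr.leaf 131205 6
 Tr.leaf) 131206 4
 Tr.leaf) 131209 5
 (Tr.node (Tr.node Tr.leaf 131210 4
 Tr.leaf) 131212 4
 Tr.leaf)) 131215 5
 (Tr.node (Tr.node (Tr.node Tr.leaf 131217 3
 Tr.leaf) 131218 4
 Tr.leaf) 131220 6
 (Tr.node Tr.leaf 131223 6
 Tr.leaf))) 131224 6
 (Tr.node (Tr.node (Tr.node (Tr.node Tr.leaf 131227 5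
 Tr.leaf) 131229 6
 Tr.leaf) 131230 5
 (Tr.node Tr.leaf 131233 3
 Tr.leaf)) 131234 5
 (Tr.node (Tr.node (Tr.node Tr.leaf 131236 4
 Tr.leaf) 131239 6
 Tr.leaf) 131240 6
 (Tr.node Tr.leaf 131243 6
 Tr.leaf))))) 131245 6
 (Tr.node (Tr.node (Tr.node (Tr.node (Tr.node (Tr.node Tr.leaf 131246 5
 Tr.leaf) 131248 4
 Tr.leaf) 131251 4
 (Tr.node (Tr.node Tr.leaf 131253 6
 Tr.leaf) 131254 6
 Tr.leaf)) 131257 6
 (Tr.node (Tr.node (Tr.node Tr.leaf 131258 6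
 Tr.leaf) 131260 4
 Tr.leaf) 131263 5
 (Tr.node Tr.leaf 131265 4
 Tr.leaf))) 131266 4
 (Tr.node (Tr.node (Tr.node (Tr.node Tr.leaf 131268 4
 Tr.leaf) 131271 5
 Tr.leaf) 131272 5
 (Tr.node Tr.leaf 131275 5
 Tr.leaf)) 131277 4
 (Tr.node (Tr.node (Tr.node Tr.leaf 131278 6
 Tr.leaf) 131280 4
 Tr.leaf) 131283 6
 (Tr.node Tr.leaf 131285 5
 Tr.leaf)))) 131286 6
 (Tr.node (Tr.node (Tr.node (Tr.node (Tr.node Tr.leaf 131289 4
 Tr.leaf) 131290 5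
 Tr.leaf) 131292 4
 (Tr.node (Tr.node Tr.leaf 131295 6
 Tr.leaf) 131296 4
 Tr.leaf)) 131299 6
 (Tr.node (Tr.node (Tr.node Tr.leaf 131301 6
 Tr.leaf) 131302 6
 Tr.leaf) 131305 6
 (Tr.node Tr.leaf 131306 5
 Tr.leaf))) 131308 4
 (Tr.node (Tr.node (Tr.node (Tr.node Tr.leaf 131311 6
 Tr.leaf) 131313 6
 Tr.leaf) 131314 5
 (Tr.node Tr.leaf 131316 6
 Tr.leaf)) 131319 6
 (Tr.node (Tr.node (Tr.node Tr.leaf 131320 6
 Tr.leaf) 131323 5
 Tr.leaf) 131325 5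
 (Tr.node Tr.leaf 131326 6
 Tr.leaf))))))) 131329 3
 (Tr.node (Tr.node (Tr.node (Tr.node (Tr.node (Tr.node (Tr.node (Tr.node Tr.leaf 131330 2
 Tr.leaf) 131332 1
 Tr.leaf) 131335 4
 (Tr.node (Tr.node Tr.leaf 131336 3
 Tr.leaf) 131339 4
 Tr.leaf)) 131341 6
 (Tr.node (Tr.node (Tr.node Tr.leaf 131342 3
 Tr.leaf) 131344 2
 Tr.leaf) 131347 4
 (Tr.node Tr.leaf 131349 4
 Tr.leaf))) 131350 7
 (Tr.node (Tr.node (Tr.node (Tr.node Tr.leaf 131353 4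
 Tr.leaf) 131354 4
 Tr.leaf) 131356 3
 (Tr.node (Tr.node Tr.leaf 131359 6
 Tr.leaf) 131360 2
 Tr.leaf)) 131363 5
 (Tr.node (Tr.node (Tr.node Tr.leaf 131365 4
 Tr.leaf) 131366 4
 Tr.leaf) 131369 6
 (Tr.node Tr.leaf 131370 4
 Tr.leaf)))) 131372 4
 (Tr.node (Tr.node (Tr.node (Tr.node (Tr.node Tr.leaf 131375 5
 Tr.leaf) 131377 4
 Tr.leaf) 131378 6
 (Tr.node (Tr.node Tr.leaf 131380 4
 Tr.leaf) 131383 4
 Tr.leaf)) 131384 4
 (Tr.node (Tr.node (Tr.node Tr.leaf 131387 5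
 Tr.leaf) 131389 6
 Tr.leaf) 131390 5
 (Tr.node Tr.leaf 131392 3
 Tr.leaf))) 131395 5
 (Tr.node (Tr.node (Tr.node (Tr.node Tr.leaf 131397 5
 Tr.leaf) 131398 6
 Tr.leaf) 131401 4
 (Tr.node Tr.leaf 131402 4
 Tr.leaf)) 131404 6
 (Tr.node (Tr.node (Tr.node Tr.leaf 131407 5
 Tr.leaf) 131409 5
 Tr.leaf) 131410 4
 (Tr.node Tr.leaf 131412 4
 Tr.leaf))))) 131415 4
 (Tr.node (Tr.node (Tr.node (Tr.node (Tr.node (Tr.node Tr.leaf 131416 7
 Tr.leaf) 131419 5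
 Tr.leaf) 131421 6
 (Tr.node (Tr.node Tr.leaf 131422 5
 Tr.leaf) 131425 6
 Tr.leaf)) 131426 4
 (Tr.node (Tr.node (Tr.node Tr.leaf 131428 4
 Tr.leaf) 131431 4
 Tr.leaf) 131432 4
 (Tr.node Tr.leaf 131435 5
 Tr.leaf))) 131437 5
 (Tr.node (Tr.node (Tr.node (Tr.node Tr.leaf 131438 6
 Tr.leaf) 131440 6
 Tr.leaf) 131443 6
 (Tr.node Tr.leaf 131445 5
 Tr.leaf)) 131446 4
 (Tr.node (Tr.node (Tr.node Tr.leaf 131449 6
 Tr.leaf) 131450 5
 Tr.leaf) 131452 6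
 (Tr.node Tr.leaf 131455 6
 Tr.leaf)))) 131456 3
 (Tr.node (Tr.node (Tr.node (Tr.node (Tr.node Tr.leaf 131459 6
 Tr.leaf) 131461 6
 Tr.leaf) 131462 5
 (Tr.node (Tr.node Tr.leaf 131465 5
 Tr.leaf) 131466 4
 Tr.leaf)) 131468 5
 (Tr.node (Tr.node (Tr.node Tr.leaf 131471 4
 Tr.leaf) 131473 4
 Tr.leaf) 131474 4
 (Tr.node Tr.leaf 131476 5
 Tr.leaf))) 131479 6
 (Tr.node (Tr.node (Tr.node (Tr.node Tr.leaf 131480 6
 Tr.leaf) 131483 6
 Tr.leaf) 131485 6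
 (Tr.node Tr.leaf 131486 5
 Tr.leaf)) 131489 3
 (Tr.node (Tr.node (Tr.node Tr.leaf 131490 6
 Tr.leaf) 131492 4
 Tr.leaf) 131495 6
 (Tr.node Tr.leaf 131496 5
 Tr.leaf)))))) 131499 6
 (Tr.node (Tr.node (Tr.node (Tr.node (Tr.node (Tr.node (Tr.node Tr.leaf 131501 6
 Tr.leaf) 131502 5
 Tr.leaf) 131504 4
 (Tr.node (Tr.node Tr.leaf 131507 6
 Tr.leaf) 131509 6
 Tr.leaf)) 131510 6
 (Tr.node (Tr.node (Tr.node Tr.leaf 131513 5
 Tr.leaf) 131514 6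
 Tr.leaf) 131516 5
 (Tr.node Tr.leaf 131519 5
 Tr.leaf))) 131521 4
 (Tr.node (Tr.node (Tr.node (Tr.node Tr.leaf 131522 4
 Tr.leaf) 131524 5
 Tr.leaf) 131527 5
 (Tr.node (Tr.node Tr.leaf 131528 4
 Tr.leaf) 131531 6
 Tr.leaf)) 131533 6
 (Tr.node (Tr.node (Tr.node Tr.leaf 131534 5
 Tr.leaf) 131536 4
 Tr.leaf) 131539 5
 (Tr.node Tr.leaf 131541 6
 Tr.leaf)))) 131542 6
 (Tr.node (Tr.node (Tr.node (Tr.node (Tr.node Tr.leaf 131545 6
 Tr.leaf) 131546 5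
 Tr.leaf) 131548 5
 (Tr.node (Tr.node Tr.leaf 131551 6
 Tr.leaf) 131552 5
 Tr.leaf)) 131555 6
 (Tr.node (Tr.node (Tr.node Tr.leaf 131557 6
 Tr.leaf) 131558 4
 Tr.leaf) 131561 6
 (Tr.node Tr.leaf 131562 5
 Tr.leaf))) 131564 5
 (Tr.node (Tr.node (Tr.node (Tr.node Tr.leaf 131567 6
 Tr.leaf) 131569 6
 Tr.leaf) 131570 4
 (Tr.node Tr.leaf 131572 6
 Tr.leaf)) 131575 5
 (Tr.node (Tr.node (Tr.node Tr.leaf 131576 6
 Tr.leaf) 131579 5
 Tr.leaf) 131581 6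
 (Tr.node Tr.leaf 131582 6
 Tr.leaf))))) 132101 5
 (Tr.node (Tr.node (Tr.node (Tr.node (Tr.node (Tr.node Tr.leaf 132103 4
 Tr.leaf) 132105 5
 Tr.leaf) 132107 4
 (Tr.node (Tr.node Tr.leaf 132113 4
 Tr.leaf) 132115 4
 Tr.leaf)) 132125 4
 (Tr.node (Tr.node (Tr.node Tr.leaf 132127 6
 Tr.leaf) 132129 4
 Tr.leaf) 132131 4
 (Tr.node Tr.leaf 132141 6
 Tr.leaf))) 132143 6
 (Tr.node (Tr.node (Tr.node (Tr.node Tr.leaf 132149 6
 Tr.leaf) 132151 6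
 Tr.leaf) 132153 6
 (Tr.node Tr.leaf 132155 6
 Tr.leaf)) 132161 6
 (Tr.node (Tr.node (Tr.node Tr.leaf 132163 6
 Tr.leaf) 132173 6
 Tr.leaf) 132175 4
 (Tr.node Tr.leaf 132181 6
 Tr.leaf)))) 132183 6
 (Tr.node (Tr.node (Tr.node (Tr.node (Tr.node Tr.leaf 132185 5
 Tr.leaf) 132187 4
 Tr.leaf) 132197 6
 (Tr.node (Tr.node Tr.leaf 132199 3
 Tr.leaf) 132201 6
 Tr.leaf)) 132203 3
 (Tr.node (Tr.node (Tr.node Tr.leaf 132209 5
 Tr.leaf) 132211 6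
 Tr.leaf) 132221 5
 (Tr.node Tr.leaf 132223 6
 Tr.leaf))) 132225 6
 (Tr.node (Tr.node (Tr.node (Tr.node Tr.leaf 132227 6
 Tr.leaf) 132237 5
 Tr.leaf) 132239 6
 (Tr.node Tr.leaf 132245 6
 Tr.leaf)) 132247 5
 (Tr.node (Tr.node (Tr.node Tr.leaf 132249 6
 Tr.leaf) 132251 5
 Tr.leaf) 132261 6
 (Tr.node Tr.leaf 132263 5
 Tr.leaf)))))))) 132265 6
 (Tr.node (Tr.node (Tr.node (Tr.node (Tr.node (Tr.node (Tr.node (Tr.node (Tr.node Tr.leaf 132267 6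
 Tr.leaf) 132273 6
 Tr.leaf) 132275 3
 (Tr.node (Tr.node Tr.leaf 132285 6
 Tr.leaf) 132287 6
 Tr.leaf)) 132293 6
 (Tr.node (Tr.node (Tr.node Tr.leaf 132295 6
 Tr.leaf) 132297 6
 Tr.leaf) 132299 6
 (Tr.node Tr.leaf 132305 6
 Tr.leaf))) 132307 4
 (Tr.node (Tr.node (Tr.node (Tr.node Tr.leaf 132317 6
 Tr.leaf) 132319 6
 Tr.leaf) 132321 6
 (Tr.node (Tr.node Tr.leaf 132323 4
 Tr.leaf) 132333 6
 Tr.leaf)) 132335 6
 (Tr.node (Tr.node (Tr.node Tr.leaf 132341 6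
 Tr.leaf) 132343 6
 Tr.leaf) 132345 6
 (Tr.node Tr.leaf 132347 6
 Tr.leaf)))) 132357 5
 (Tr.node (Tr.node (Tr.node (Tr.node (Tr.node Tr.leaf 132359 4
 Tr.leaf) 132361 4
 Tr.leaf) 132363 4
 (Tr.node (Tr.node Tr.leaf 132369 5
 Tr.leaf) 132371 5
 Tr.leaf)) 132381 5
 (Tr.node (Tr.node (Tr.node Tr.leaf 132383 6
 Tr.leaf) 132385 4
 Tr.leaf) 132387 4
 (Tr.node Tr.leaf 132397 6
 Tr.leaf))) 132399 6
 (Tr.node (Tr.node (Tr.node (Tr.node Tr.leaf 132405 6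
 Tr.leaf) 132407 7
 Tr.leaf) 132409 4
 (Tr.node Tr.leaf 132411 6
 Tr.leaf)) 132417 6
 (Tr.node (Tr.node (Tr.node Tr.leaf 132419 6
 Tr.leaf) 132429 6
 Tr.leaf) 132431 4
 (Tr.node Tr.leaf 132437 6
 Tr.leaf))))) 132439 4
 (Tr.node (Tr.node (Tr.node (Tr.node (Tr.node (Tr.node Tr.leaf 132441 6
 Tr.leaf) 132443 4
 Tr.leaf) 132453 6
 (Tr.node (Tr.node Tr.leaf 132455 6
 Tr.leaf) 132457 6
 Tr.leaf)) 132459 7
 (Tr.node (Tr.node (Tr.node Tr.leaf 132465 6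
 Tr.leaf) 132467 6
 Tr.leaf) 132477 6
 (Tr.node Tr.leaf 132479 6
 Tr.leaf))) 132481 6
 (Tr.node (Tr.node (Tr.node (Tr.node Tr.leaf 132483 6
 Tr.leaf) 132493 7
 Tr.leaf) 132495 6
 (Tr.node (Tr.node Tr.leaf 132501 6
 Tr.leaf) 132503 7
 Tr.leaf)) 132505 6
 (Tr.node (Tr.node (Tr.node Tr.leaf 132507 4
 Tr.leaf) 132517 4
 Tr.leaf) 132519 6
 (Tr.node Tr.leaf 132521 6
 Tr.leaf)))) 132523 6
 (Tr.node (Tr.node (Tr.node (Tr.node (Tr.node Tr.leaf 132529 6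
 Tr.leaf) 132531 5
 Tr.leaf) 132541 6
 (Tr.node (Tr.node Tr.leaf 132543 6
 Tr.leaf) 132549 6
 Tr.leaf)) 132551 6
 (Tr.node (Tr.node (Tr.node Tr.leaf 132553 5
 Tr.leaf) 132555 5
 Tr.leaf) 132561 6
 (Tr.node Tr.leaf 132563 6
 Tr.leaf))) 132573 6
 (Tr.node (Tr.node (Tr.node (Tr.node Tr.leaf 132575 6
 Tr.leaf) 132577 6
 Tr.leaf) 132579 6
 (Tr.node Tr.leaf 132589 5
 Tr.leaf)) 132591 6
 (Tr.node (Tr.node (Tr.node Tr.leaf 132597 6
 Tr.leaf) 132599 6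
 Tr.leaf) 132601 6
 (Tr.node Tr.leaf 132603 7
 Tr.leaf)))))) 133123 5
 (Tr.node (Tr.node (Tr.node (Tr.node (Tr.node (Tr.node (Tr.node Tr.leaf 133127 4
 Tr.leaf) 133129 6
 Tr.leaf) 133130 5
 (Tr.node (Tr.node Tr.leaf 133133 6
 Tr.leaf) 133134 5
 Tr.leaf)) 133137 4
 (Tr.node (Tr.node (Tr.node Tr.leaf 133138 7
 Tr.leaf) 133141 4
 Tr.leaf) 133142 6
 (Tr.node Tr.leaf 133147 7
 Tr.leaf))) 133151 5
 (Tr.node (Tr.node (Tr.node (Tr.node Tr.leaf 133153 4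
 Tr.leaf) 133154 4
 Tr.leaf) 133157 4
 (Tr.node (Tr.node Tr.leaf 133158 4
 Tr.leaf) 133163 4
 Tr.leaf)) 133167 5
 (Tr.node (Tr.node (Tr.node Tr.leaf 133171 6
 Tr.leaf) 133175 6
 Tr.leaf) 133177 6
 (Tr.node Tr.leaf 133178 6
 Tr.leaf)))) 133181 6
 (Tr.node (Tr.node (Tr.node (Tr.node (Tr.node Tr.leaf 133182 4
 Tr.leaf) 133185 4
 Tr.leaf) 133186 6
 (Tr.node (Tr.node Tr.leaf 133189 4
 Tr.leaf) 133190 6
 Tr.leaf)) 133195 5
 (Tr.node (Tr.node (Tr.node Tr.leaf 133199 3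
 Tr.leaf) 133203 7
 Tr.leaf) 133207 6
 (Tr.node Tr.leaf 133209 6
 Tr.leaf))) 133210 6
 (Tr.node (Tr.node (Tr.node (Tr.node Tr.leaf 133213 5
 Tr.leaf) 133214 6
 Tr.leaf) 133219 6
 (Tr.node Tr.leaf 133223 6
 Tr.leaf)) 133225 6
 (Tr.node (Tr.node (Tr.node Tr.leaf 133226 5
 Tr.leaf) 133229 6
 Tr.leaf) 133230 5
 (Tr.node Tr.leaf 133233 6
 Tr.leaf))))) 133234 6
 (Tr.node (Tr.node (Tr.node (Tr.node (Tr.node (Tr.node Tr.leaf 133237 6
 Tr.leaf) 133238 6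
 Tr.leaf) 133243 6
 (Tr.node (Tr.node Tr.leaf 133247 6
 Tr.leaf) 133249 6
 Tr.leaf)) 133250 4
 (Tr.node (Tr.node (Tr.node Tr.leaf 133253 6
 Tr.leaf) 133254 5
 Tr.leaf) 133259 6
 (Tr.node Tr.leaf 133263 4
 Tr.leaf))) 133267 4
 (Tr.node (Tr.node (Tr.node (Tr.node Tr.leaf 133271 6
 Tr.leaf) 133273 6
 Tr.leaf) 133274 5
 (Tr.node Tr.leaf 133277 6
 Tr.leaf)) 133278 6
 (Tr.node (Tr.node (Tr.node Tr.leaf 133283 4
 Tr.leaf) 133287 4
 Tr.leaf) 133289 5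
 (Tr.node Tr.leaf 133290 4
 Tr.leaf)))) 133293 6
 (Tr.node (Tr.node (Tr.node (Tr.node (Tr.node Tr.leaf 133294 6
 Tr.leaf) 133297 4
 Tr.leaf) 133298 6
 (Tr.node (Tr.node Tr.leaf 133301 4
 Tr.leaf) 133302 6
 Tr.leaf)) 133307 6
 (Tr.node (Tr.node (Tr.node Tr.leaf 133311 6
 Tr.leaf) 133315 6
 Tr.leaf) 133319 6
 (Tr.node Tr.leaf 133321 6
 Tr.leaf))) 133322 6
 (Tr.node (Tr.node (Tr.node (Tr.node Tr.leaf 133325 4
 Tr.leaf) 133326 3
 Tr.leaf) 133329 6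
 (Tr.node Tr.leaf 133330 6
 Tr.leaf)) 133333 3
 (Tr.node (Tr.node (Tr.node Tr.leaf 133334 6
 Tr.leaf) 133339 6
 Tr.leaf) 133343 6
 (Tr.node Tr.leaf 133345 7
 Tr.leaf))))))) 133346 6
 (Tr.node (Tr.node (Tr.node (Tr.node (Tr.node (Tr.node (Tr.node (Tr.node Tr.leaf 133349 3
 Tr.leaf) 133350 6
 Tr.leaf) 133355 7
 (Tr.node (Tr.node Tr.leaf 133359 6
 Tr.leaf) 133363 6
 Tr.leaf)) 133367 6
 (Tr.node (Tr.node (Tr.node Tr.leaf 133369 6
 Tr.leaf) 133370 5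
 Tr.leaf) 133373 6
 (Tr.node Tr.leaf 133374 6
 Tr.leaf))) 133379 5
 (Tr.node (Tr.node (Tr.node (Tr.node Tr.leaf 133383 4
 Tr.leaf) 133385 6
 Tr.leaf) 133386 4
 (Tr.node (Tr.node Tr.leaf 133389 6
 Tr.leaf) 133390 4
 Tr.leaf)) 133393 5
 (Tr.node (Tr.node (Tr.node Tr.leaf 133394 6
 Tr.leaf) 133397 5
 Tr.leaf) 133398 7
 (Tr.node Tr.leaf 133403 6
 Tr.leaf)))) 133407 6
 (Tr.node (Tr.node (Tr.node (Tr.node (Tr.node Tr.leaf 133409 4
 Tr.leaf) 133410 4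
 Tr.leaf) 133413 5
 (Tr.node (Tr.node Tr.leaf 133414 4
 Tr.leaf) 133419 6
 Tr.leaf)) 133423 6
 (Tr.node (Tr.node (Tr.node Tr.leaf 133427 5
 Tr.leaf) 133431 4
 Tr.leaf) 133433 7
 (Tr.node Tr.leaf 133434 5
 Tr.leaf))) 133437 5
 (Tr.node (Tr.node (Tr.node (Tr.node Tr.leaf 133438 6
 Tr.leaf) 133441 4
 Tr.leaf) 133442 6
 (Tr.node Tr.leaf 133445 4
 Tr.leaf)) 133446 6
 (Tr.node (Tr.node (Tr.node Tr.leaf 133451 6
 Tr.leaf) 133455 6
 Tr.leaf) 133459 6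
 (Tr.node Tr.leaf 133463 6
 Tr.leaf))))) 133465 4
 (Tr.node (Tr.node (Tr.node (Tr.node (Tr.node (Tr.node Tr.leaf 133466 6
 Tr.leaf) 133469 6
 Tr.leaf) 133470 6
 (Tr.node (Tr.node Tr.leaf 133475 4
 Tr.leaf) 133479 6
 Tr.leaf)) 133481 6
 (Tr.node (Tr.node (Tr.node Tr.leaf 133482 6
 Tr.leaf) 133485 6
 Tr.leaf) 133486 6
 (Tr.node Tr.leaf 133489 6
 Tr.leaf))) 133490 6
 (Tr.node (Tr.node (Tr.node (Tr.node Tr.leaf 133493 6
 Tr.leaf) 133494 5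
 Tr.leaf) 133499 6
 (Tr.node Tr.leaf 133503 6
 Tr.leaf)) 133505 6
 (Tr.node (Tr.node (Tr.node Tr.leaf 133506 3
 Tr.leaf) 133509 6
 Tr.leaf) 133510 5
 (Tr.node Tr.leaf 133515 6
 Tr.leaf)))) 133519 6
 (Tr.node (Tr.node (Tr.node (Tr.node (Tr.node Tr.leaf 133523 6
 Tr.leaf) 133527 6
 Tr.leaf) 133529 6
 (Tr.node (Tr.node Tr.leaf 133530 6
 Tr.leaf) 133533 6
 Tr.leaf)) 133534 4
 (Tr.node (Tr.node (Tr.node Tr.leaf 133539 6
 Tr.leaf) 133543 5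
 Tr.leaf) 133545 5
 (Tr.node Tr.leaf 133546 6
 Tr.leaf))) 133549 6
 (Tr.node (Tr.node (Tr.node (Tr.node Tr.leaf 133550 3
 Tr.leaf) 133553 6
 Tr.leaf) 133554 6
 (Tr.node Tr.leaf 133557 6
 Tr.leaf)) 133558 6
 (Tr.node (Tr.node (Tr.node Tr.leaf 133563 6
 Tr.leaf) 133567 6
 Tr.leaf) 133571 6
 (Tr.node Tr.leaf 133575 5
 Tr.leaf)))))) 133577 6
 (Tr.node (Tr.node (Tr.node (Tr.node (Tr.node (Tr.node (Tr.node Tr.leaf 133578 6
 Tr.leaf) 133581 6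
 Tr.leaf) 133582 6
 (Tr.node (Tr.node Tr.leaf 133585 6
 Tr.leaf) 133586 6
 Tr.leaf)) 133589 6
 (Tr.node (Tr.node (Tr.node Tr.leaf 133590 6
 Tr.leaf) 133595 6
 Tr.leaf) 133599 6
 (Tr.node Tr.leaf 133601 6
 Tr.leaf))) 133602 5
 (Tr.node (Tr.node (Tr.node (Tr.node Tr.leaf 133605 6
 Tr.leaf) 133606 6
 Tr.leaf) 133611 6
 (Tr.node (Tr.node Tr.leaf 133615 6
 Tr.leaf) 133619 6
 Tr.leaf)) 133623 5
 (Tr.node (Tr.node (Tr.node Tr.leaf 133625 5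
 Tr.leaf) 133626 5
 Tr.leaf) 133629 6
 (Tr.node Tr.leaf 133630 6
 Tr.leaf)))) 134145 4
 (Tr.node (Tr.node (Tr.node (Tr.node (Tr.node Tr.leaf 134147 4
 Tr.leaf) 134149 4
 Tr.leaf) 134151 4
 (Tr.node (Tr.node Tr.leaf 134169 6
 Tr.leaf) 134171 6
 Tr.leaf)) 134173 4
 (Tr.node (Tr.node (Tr.node Tr.leaf 134175 6
 Tr.leaf) 134185 6
 Tr.leaf) 134187 6
 (Tr.node Tr.leaf 134189 6
 Tr.leaf))) 134191 5
 (Tr.node (Tr.node (Tr.node (Tr.node Tr.leaf 134193 5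
 Tr.leaf) 134195 4
 Tr.leaf) 134197 7
 (Tr.node Tr.leaf 134199 3
 Tr.leaf)) 134217 6
 (Tr.node (Tr.node (Tr.node Tr.leaf 134219 6
 Tr.leaf) 134221 6
 Tr.leaf) 134223 6
 (Tr.node Tr.leaf 134225 5
 Tr.leaf))))) 134227 6
 (Tr.node (Tr.node (Tr.node (Tr.node (Tr.node (Tr.node Tr.leaf 134229 5
 Tr.leaf) 134231 4
 Tr.leaf) 134241 6
 (Tr.node (Tr.node Tr.leaf 134243 6
 Tr.leaf) 134245 6
 Tr.leaf)) 134247 4
 (Tr.node (Tr.node (Tr.node Tr.leaf 134265 6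
 Tr.leaf) 134267 7
 Tr.leaf) 134269 6
 (Tr.node Tr.leaf 134271 6
 Tr.leaf))) 134281 6
 (Tr.node (Tr.node (Tr.node (Tr.node Tr.leaf 134283 4
 Tr.leaf) 134285 5
 Tr.leaf) 134287 6
 (Tr.node Tr.leaf 134289 6
 Tr.leaf)) 134291 4
 (Tr.node (Tr.node (Tr.node Tr.leaf 134293 5
 Tr.leaf) 134295 5
 Tr.leaf) 134305 7
 (Tr.node Tr.leaf 134307 6
 Tr.leaf)))) 134309 5
 (Tr.node (Tr.node (Tr.node (Tr.node (Tr.node Tr.leaf 134311 6
 Tr.leaf) 134329 6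
 Tr.leaf) 134331 6
 (Tr.node (Tr.node Tr.leaf 134333 6
 Tr.leaf) 134335 6
 Tr.leaf)) 134337 6
 (Tr.node (Tr.node (Tr.node Tr.leaf 134339 6
 Tr.leaf) 134341 6
 Tr.leaf) 134343 6
 (Tr.node Tr.leaf 134361 6
 Tr.leaf))) 134363 6
 (Tr.node (Tr.node (Tr.node (Tr.node Tr.leaf 134365 6
 Tr.leaf) 134367 6
 Tr.leaf) 134377 5
 (Tr.node Tr.leaf 134379 5
 Tr.leaf)) 134381 6
 (Tr.node (Tr.node (Tr.node Tr.leaf 134383 6
 Tr.leaf) 134385 6
 Tr.leaf) 134387 6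
 (Tr.node Tr.leaf 134389 6
 Tr.leaf)))))))))

/-- A subtree. -/
def tr2_s33 : Tr := (Tr.node (Tr.node (Tr.node (Tr.node (Tr.node (Tr.node (Tr.node (Tr.node (Tr.node (Tr.node Tr.leaf 134401 4
 Tr.leaf) 134403 4
 Tr.leaf) 134405 4
 (Tr.node (Tr.node Tr.leaf 134407 5
 Tr.leaf) 134425 4
 Tr.leaf)) 134427 5
 (Tr.node (Tr.node (Tr.node Tr.leaf 134429 5
 Tr.leaf) 134431 6
 Tr.leaf) 134441 5
 (Tr.node Tr.leaf 134443 6
 Tr.leaf))) 134445 4
 (Tr.node (Tr.node (Tr.node (Tr.node Tr.leaf 134447 6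
 Tr.leaf) 134449 5
 Tr.leaf) 134451 6
 (Tr.node (Tr.node Tr.leaf 134453 6
 Tr.leaf) 134455 6
 Tr.leaf)) 134473 4
 (Tr.node (Tr.node (Tr.node Tr.leaf 134475 6
 Tr.leaf) 134477 5
 Tr.leaf) 134479 6
 (Tr.node Tr.leaf 134481 6
 Tr.leaf)))) 134483 5
 (Tr.node (Tr.node (Tr.node (Tr.node (Tr.node Tr.leaf 134485 7
 Tr.leaf) 134487 6
 Tr.leaf) 134497 7
 (Tr.node (Tr.node Tr.leaf 134499 6
 Tr.leaf) 134501 6
 Tr.leaf)) 134503 6
 (Tr.node (Tr.node (Tr.node Tr.leaf 134521 6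
 Tr.leaf) 134523 6
 Tr.leaf) 134525 6
 (Tr.node Tr.leaf 134527 5
 Tr.leaf))) 134537 4
 (Tr.node (Tr.node (Tr.node (Tr.node Tr.leaf 134539 6
 Tr.leaf) 134541 6
 Tr.leaf) 134543 5
 (Tr.node Tr.leaf 134545 4
 Tr.leaf)) 134547 4
 (Tr.node (Tr.node (Tr.node Tr.leaf 134549 6
 Tr.leaf) 134551 6
 Tr.leaf) 134561 4
 (Tr.node Tr.leaf 134563 5
 Tr.leaf))))) 134565 5
 (Tr.node (Tr.node (Tr.node (Tr.node (Tr.node (Tr.node Tr.leaf 134567 6
 Tr.leaf) 134585 5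
 Tr.leaf) 134587 6
 (Tr.node (Tr.node Tr.leaf 134589 6
 Tr.leaf) 134591 6
 Tr.leaf)) 134593 6
 (Tr.node (Tr.node (Tr.node Tr.leaf 134595 6
 Tr.leaf) 134597 6
 Tr.leaf) 134599 6
 (Tr.node Tr.leaf 134617 6
 Tr.leaf))) 134619 6
 (Tr.node (Tr.node (Tr.node (Tr.node Tr.leaf 134621 6
 Tr.leaf) 134623 6
 Tr.leaf) 134633 6
 (Tr.node (Tr.node Tr.leaf 134635 5
 Tr.leaf) 134637 6
 Tr.leaf)) 134639 6
 (Tr.node (Tr.node (Tr.node Tr.leaf 134641 6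
 Tr.leaf) 134643 6
 Tr.leaf) 134645 5
 (Tr.node Tr.leaf 134647 6
 Tr.leaf)))) 135171 5
 (Tr.node (Tr.node (Tr.node (Tr.node (Tr.node Tr.leaf 135173 6
 Tr.leaf) 135174 4
 Tr.leaf) 135179 4
 (Tr.node (Tr.node Tr.leaf 135181 6
 Tr.leaf) 135182 4
 Tr.leaf)) 135185 4
 (Tr.node (Tr.node (Tr.node Tr.leaf 135186 5
 Tr.leaf) 135188 4
 Tr.leaf) 135191 5
 (Tr.node Tr.leaf 135193 4
 Tr.leaf))) 135194 4
 (Tr.node (Tr.node (Tr.node (Tr.node Tr.leaf 135196 3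
 Tr.leaf) 135199 6
 Tr.leaf) 135201 6
 (Tr.node Tr.leaf 135202 4
 Tr.leaf)) 135204 4
 (Tr.node (Tr.node (Tr.node Tr.leaf 135207 4
 Tr.leaf) 135209 6
 Tr.leaf) 135210 5
 (Tr.node Tr.leaf 135212 4
 Tr.leaf)))))) 135215 4
 (Tr.node (Tr.node (Tr.node (Tr.node (Tr.node (Tr.node (Tr.node Tr.leaf 135219 4
 Tr.leaf) 135221 6
 Tr.leaf) 135222 3
 (Tr.node (Tr.node Tr.leaf 135227 7
 Tr.leaf) 135229 6
 Tr.leaf)) 135230 6
 (Tr.node (Tr.node (Tr.node Tr.leaf 135233 4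
 Tr.leaf) 135234 4
 Tr.leaf) 135236 6
 (Tr.node Tr.leaf 135239 4
 Tr.leaf))) 135241 4
 (Tr.node (Tr.node (Tr.node (Tr.node Tr.leaf 135242 5
 Tr.leaf) 135244 5
 Tr.leaf) 135247 7
 (Tr.node (Tr.node Tr.leaf 135251 6
 Tr.leaf) 135253 4
 Tr.leaf)) 135254 6
 (Tr.node (Tr.node (Tr.node Tr.leaf 135259 5
 Tr.leaf) 135261 6
 Tr.leaf) 135262 6
 (Tr.node Tr.leaf 135267 6
 Tr.leaf)))) 135269 6
 (Tr.node (Tr.node (Tr.node (Tr.node (Tr.node Tr.leaf 135270 6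
 Tr.leaf) 135275 6
 Tr.leaf) 135277 6
 (Tr.node (Tr.node Tr.leaf 135278 6
 Tr.leaf) 135281 7
 Tr.leaf)) 135282 6
 (Tr.node (Tr.node (Tr.node Tr.leaf 135284 6
 Tr.leaf) 135287 6
 Tr.leaf) 135289 5
 (Tr.node Tr.leaf 135290 5
 Tr.leaf))) 135292 6
 (Tr.node (Tr.node (Tr.node (Tr.node Tr.leaf 135295 6
 Tr.leaf) 135297 4
 Tr.leaf) 135298 4
 (Tr.node Tr.leaf 135300 4
 Tr.leaf)) 135303 7
 (Tr.node (Tr.node (Tr.node Tr.leaf 135305 4
 Tr.leaf) 135306 4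
 Tr.leaf) 135308 4
 (Tr.node Tr.leaf 135311 6
 Tr.leaf))))) 135315 6
 (Tr.node (Tr.node (Tr.node (Tr.node (Tr.node (Tr.node Tr.leaf 135317 5
 Tr.leaf) 135318 6
 Tr.leaf) 135323 5
 (Tr.node (Tr.node Tr.leaf 135325 6
 Tr.leaf) 135326 5
 Tr.leaf)) 135331 6
 (Tr.node (Tr.node (Tr.node Tr.leaf 135333 6
 Tr.leaf) 135334 6
 Tr.leaf) 135339 6
 (Tr.node Tr.leaf 135341 6
 Tr.leaf))) 135342 6
 (Tr.node (Tr.node (Tr.node (Tr.node Tr.leaf 135345 5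
 Tr.leaf) 135346 4
 Tr.leaf) 135348 6
 (Tr.node Tr.leaf 135351 7
 Tr.leaf)) 135353 7
 (Tr.node (Tr.node (Tr.node Tr.leaf 135354 6
 Tr.leaf) 135356 6
 Tr.leaf) 135359 6
 (Tr.node Tr.leaf 135363 6
 Tr.leaf)))) 135365 6
 (Tr.node (Tr.node (Tr.node (Tr.node (Tr.node Tr.leaf 135366 6
 Tr.leaf) 135371 6
 Tr.leaf) 135373 6
 (Tr.node (Tr.node Tr.leaf 135374 6
 Tr.leaf) 135377 7
 Tr.leaf)) 135378 6
 (Tr.node (Tr.node (Tr.node Tr.leaf 135380 6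
 Tr.leaf) 135383 5
 Tr.leaf) 135385 6
 (Tr.node Tr.leaf 135386 6
 Tr.leaf))) 135388 6
 (Tr.node (Tr.node (Tr.node (Tr.node Tr.leaf 135391 5
 Tr.leaf) 135393 6
 Tr.leaf) 135394 6
 (Tr.node Tr.leaf 135396 5
 Tr.leaf)) 135399 6
 (Tr.node (Tr.node (Tr.node Tr.leaf 135401 5
 Tr.leaf) 135402 5
 Tr.leaf) 135404 3
 (Tr.node Tr.leaf 135407 5
 Tr.leaf))))))) 135411 6
 (Tr.node (Tr.node (Tr.node (Tr.node (Tr.node (Tr.node (Tr.node (Tr.node Tr.leaf 135413 6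
 Tr.leaf) 135414 6
 Tr.leaf) 135419 6
 (Tr.node (Tr.node Tr.leaf 135421 6
 Tr.leaf) 135422 5
 Tr.leaf)) 135427 4
 (Tr.node (Tr.node (Tr.node Tr.leaf 135429 6
 Tr.leaf) 135430 4
 Tr.leaf) 135435 4
 (Tr.node Tr.leaf 135437 6
 Tr.leaf))) 135438 4
 (Tr.node (Tr.node (Tr.node (Tr.node Tr.leaf 135441 5
 Tr.leaf) 135442 4
 Tr.leaf) 135444 5
 (Tr.node (Tr.node Tr.leaf 135447 5
 Tr.leaf) 135449 5
 Tr.leaf)) 135450 4
 (Tr.node (Tr.node (Tr.node Tr.leaf 135452 5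
 Tr.leaf) 135455 5
 Tr.leaf) 135457 6
 (Tr.node Tr.leaf 135458 4
 Tr.leaf)))) 135460 4
 (Tr.node (Tr.node (Tr.node (Tr.node (Tr.node Tr.leaf 135463 6
 Tr.leaf) 135465 6
 Tr.leaf) 135466 4
 (Tr.node (Tr.node Tr.leaf 135468 5
 Tr.leaf) 135471 6
 Tr.leaf)) 135475 4
 (Tr.node (Tr.node (Tr.node Tr.leaf 135477 4
 Tr.leaf) 135478 6
 Tr.leaf) 135483 6
 (Tr.node Tr.leaf 135485 6
 Tr.leaf))) 135486 3
 (Tr.node (Tr.node (Tr.node (Tr.node Tr.leaf 135489 5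
 Tr.leaf) 135490 5
 Tr.leaf) 135492 6
 (Tr.node Tr.leaf 135495 4
 Tr.leaf)) 135497 4
 (Tr.node (Tr.node (Tr.node Tr.leaf 135498 4
 Tr.leaf) 135500 5
 Tr.leaf) 135503 6
 (Tr.node Tr.leaf 135507 6
 Tr.leaf))))) 135509 6
 (Tr.node (Tr.node (Tr.node (Tr.node (Tr.node (Tr.node Tr.leaf 135510 6
 Tr.leaf) 135515 5
 Tr.leaf) 135517 5
 (Tr.node (Tr.node Tr.leaf 135518 6
 Tr.leaf) 135523 6
 Tr.leaf)) 135525 6
 (Tr.node (Tr.node (Tr.node Tr.leaf 135526 6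
 Tr.leaf) 135531 4
 Tr.leaf) 135533 6
 (Tr.node Tr.leaf 135534 4
 Tr.leaf))) 135537 6
 (Tr.node (Tr.node (Tr.node (Tr.node Tr.leaf 135538 4
 Tr.leaf) 135540 6
 Tr.leaf) 135543 6
 (Tr.node Tr.leaf 135545 6
 Tr.leaf)) 135546 6
 (Tr.node (Tr.node (Tr.node Tr.leaf 135548 4
 Tr.leaf) 135551 6
 Tr.leaf) 135553 4
 (Tr.node Tr.leaf 135554 4
 Tr.leaf)))) 135556 4
 (Tr.node (Tr.node (Tr.node (Tr.node (Tr.node Tr.leaf 135559 3
 Tr.leaf) 135561 4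
 Tr.leaf) 135562 5
 (Tr.node (Tr.node Tr.leaf 135564 4
 Tr.leaf) 135567 6
 Tr.leaf)) 135571 6
 (Tr.node (Tr.node (Tr.node Tr.leaf 135573 6
 Tr.leaf) 135574 6
 Tr.leaf) 135579 6
 (Tr.node Tr.leaf 135581 6
 Tr.leaf))) 135582 6
 (Tr.node (Tr.node (Tr.node (Tr.node Tr.leaf 135587 6
 Tr.leaf) 135589 4
 Tr.leaf) 135590 6
 (Tr.node Tr.leaf 135595 6
 Tr.leaf)) 135597 6
 (Tr.node (Tr.node (Tr.node Tr.leaf 135598 6
 Tr.leaf) 135601 3
 Tr.leaf) 135602 4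
 (Tr.node Tr.leaf 135604 3
 Tr.leaf)))))) 135607 6
 (Tr.node (Tr.node (Tr.node (Tr.node (Tr.node (Tr.node (Tr.node Tr.leaf 135609 6
 Tr.leaf) 135610 6
 Tr.leaf) 135612 6
 (Tr.node (Tr.node Tr.leaf 135615 6
 Tr.leaf) 135619 6
 Tr.leaf)) 135621 3
 (Tr.node (Tr.node (Tr.node Tr.leaf 135622 4
 Tr.leaf) 135627 6
 Tr.leaf) 135629 6
 (Tr.node Tr.leaf 135630 4
 Tr.leaf))) 135633 6
 (Tr.node (Tr.node (Tr.node (Tr.node Tr.leaf 135634 6
 Tr.leaf) 135636 6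
 Tr.leaf) 135639 6
 (Tr.node (Tr.node Tr.leaf 135641 6
 Tr.leaf) 135642 5
 Tr.leaf)) 135644 6
 (Tr.node (Tr.node (Tr.node Tr.leaf 135647 6
 Tr.leaf) 135649 5
 Tr.leaf) 135650 4
 (Tr.node Tr.leaf 135652 3
 Tr.leaf)))) 135655 6
 (Tr.node (Tr.node (Tr.node (Tr.node (Tr.node Tr.leaf 135657 6
 Tr.leaf) 135658 6
 Tr.leaf) 135660 4
 (Tr.node (Tr.node Tr.leaf 135663 6
 Tr.leaf) 135667 6
 Tr.leaf)) 135669 6
 (Tr.node (Tr.node (Tr.node Tr.leaf 135670 6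
 Tr.leaf) 135675 6
 Tr.leaf) 135677 6
 (Tr.node Tr.leaf 135678 6
 Tr.leaf))) 136193 4
 (Tr.node (Tr.node (Tr.node (Tr.node Tr.leaf 136195 4
 Tr.leaf) 136201 4
 Tr.leaf) 136203 4
 (Tr.node Tr.leaf 136213 6
 Tr.leaf)) 136215 5
 (Tr.node (Tr.node (Tr.node Tr.leaf 136221 6
 Tr.leaf) 136223 6
 Tr.leaf) 136229 6
 (Tr.node Tr.leaf 136231 6
 Tr.leaf))))) 136237 6
 (Tr.node (Tr.node (Tr.node (Tr.node (Tr.node (Tr.node Tr.leaf 136239 6
 Tr.leaf) 136241 6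
 Tr.leaf) 136243 6
 (Tr.node (Tr.node Tr.leaf 136249 6
 Tr.leaf) 136251 4
 Tr.leaf)) 136261 7
 (Tr.node (Tr.node (Tr.node Tr.leaf 136263 5
 Tr.leaf) 136269 5
 Tr.leaf) 136271 6
 (Tr.node Tr.leaf 136273 4
 Tr.leaf))) 136275 6
 (Tr.node (Tr.node (Tr.node (Tr.node Tr.leaf 136281 5
 Tr.leaf) 136283 6
 Tr.leaf) 136289 6
 (Tr.node Tr.leaf 136291 6
 Tr.leaf)) 136297 5
 (Tr.node (Tr.node (Tr.node Tr.leaf 136299 6
 Tr.leaf) 136309 6
 Tr.leaf) 136311 6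
 (Tr.node Tr.leaf 136317 6
 Tr.leaf)))) 136319 6
 (Tr.node (Tr.node (Tr.node (Tr.node (Tr.node Tr.leaf 136325 6
 Tr.leaf) 136327 5
 Tr.leaf) 136333 5
 (Tr.node (Tr.node Tr.leaf 136335 6
 Tr.leaf) 136337 6
 Tr.leaf)) 136339 6
 (Tr.node (Tr.node (Tr.node Tr.leaf 136345 6
 Tr.leaf) 136347 6
 Tr.leaf) 136353 5
 (Tr.node Tr.leaf 136355 6
 Tr.leaf))) 136361 6
 (Tr.node (Tr.node (Tr.node (Tr.node Tr.leaf 136363 6
 Tr.leaf) 136373 6
 Tr.leaf) 136375 6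
 (Tr.node Tr.leaf 136381 6
 Tr.leaf)) 136383 6
 (Tr.node (Tr.node (Tr.node Tr.leaf 136385 6
 Tr.leaf) 136387 6
 Tr.leaf) 136393 4
 (Tr.node Tr.leaf 136395 4
 Tr.leaf)))))))) 136405 6
 (Tr.node (Tr.node (Tr.node (Tr.node (Tr.node (Tr.node (Tr.node (Tr.node (Tr.node Tr.leaf 136407 5
 Tr.leaf) 136413 6
 Tr.leaf) 136415 6
 (Tr.node (Tr.node Tr.leaf 136421 6
 Tr.leaf) 136423 6
 Tr.leaf)) 136429 6
 (Tr.node (Tr.node (Tr.node Tr.leaf 136431 6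
 Tr.leaf) 136433 6
 Tr.leaf) 136435 6
 (Tr.node Tr.leaf 136441 6
 Tr.leaf))) 136443 6
 (Tr.node (Tr.node (Tr.node (Tr.node Tr.leaf 136449 4
 Tr.leaf) 136451 5
 Tr.leaf) 136457 5
 (Tr.node (Tr.node Tr.leaf 136459 4
 Tr.leaf) 136469 6
 Tr.leaf)) 136471 6
 (Tr.node (Tr.node (Tr.node Tr.leaf 136477 6
 Tr.leaf) 136479 4
 Tr.leaf) 136485 4
 (Tr.node Tr.leaf 136487 6
 Tr.leaf)))) 136493 4
 (Tr.node (Tr.node (Tr.node (Tr.node (Tr.node Tr.leaf 136495 6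
 Tr.leaf) 136497 6
 Tr.leaf) 136499 6
 (Tr.node (Tr.node Tr.leaf 136505 6
 Tr.leaf) 136507 6
 Tr.leaf)) 136517 6
 (Tr.node (Tr.node (Tr.node Tr.leaf 136519 5
 Tr.leaf) 136525 4
 Tr.leaf) 136527 6
 (Tr.node Tr.leaf 136529 6
 Tr.leaf))) 136531 6
 (Tr.node (Tr.node (Tr.node (Tr.node Tr.leaf 136537 6
 Tr.leaf) 136539 5
 Tr.leaf) 136545 7
 (Tr.node Tr.leaf 136547 5
 Tr.leaf)) 136553 4
 (Tr.node (Tr.node (Tr.node Tr.leaf 136555 6
 Tr.leaf) 136565 6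
 Tr.leaf) 136567 5
 (Tr.node Tr.leaf 136573 6
 Tr.leaf))))) 136575 6
 (Tr.node (Tr.node (Tr.node (Tr.node (Tr.node (Tr.node Tr.leaf 136581 6
 Tr.leaf) 136583 6
 Tr.leaf) 136589 5
 (Tr.node (Tr.node Tr.leaf 136591 6
 Tr.leaf) 136593 4
 Tr.leaf)) 136595 6
 (Tr.node (Tr.node (Tr.node Tr.leaf 136601 6
 Tr.leaf) 136603 6
 Tr.leaf) 136609 6
 (Tr.node Tr.leaf 136611 6
 Tr.leaf))) 136617 6
 (Tr.node (Tr.node (Tr.node (Tr.node Tr.leaf 136619 5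
 Tr.leaf) 136629 6
 Tr.leaf) 136631 6
 (Tr.node Tr.leaf 136637 6
 Tr.leaf)) 136639 6
 (Tr.node (Tr.node (Tr.node Tr.leaf 136641 6
 Tr.leaf) 136643 6
 Tr.leaf) 136649 7
 (Tr.node Tr.leaf 136651 6
 Tr.leaf)))) 136661 6
 (Tr.node (Tr.node (Tr.node (Tr.node (Tr.node Tr.leaf 136663 6
 Tr.leaf) 136669 6
 Tr.leaf) 136671 7
 (Tr.node (Tr.node Tr.leaf 136677 6
 Tr.leaf) 136679 6
 Tr.leaf)) 136685 6
 (Tr.node (Tr.node (Tr.node Tr.leaf 136687 6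
 Tr.leaf) 136689 6
 Tr.leaf) 136691 6
 (Tr.node Tr.leaf 136697 6
 Tr.leaf))) 136699 6
 (Tr.node (Tr.node (Tr.node (Tr.node Tr.leaf 137217 6
 Tr.leaf) 137218 4
 Tr.leaf) 137221 6
 (Tr.node Tr.leaf 137222 4
 Tr.leaf)) 137225 6
 (Tr.node (Tr.node (Tr.node Tr.leaf 137226 4
 Tr.leaf) 137229 6
 Tr.leaf) 137230 4
 (Tr.node Tr.leaf 137235 4
 Tr.leaf)))))) 137239 5
 (Tr.node (Tr.node (Tr.node (Tr.node (Tr.node (Tr.node (Tr.node Tr.leaf 137243 6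
 Tr.leaf) 137247 6
 Tr.leaf) 137251 4
 (Tr.node (Tr.node Tr.leaf 137255 6
 Tr.leaf) 137259 6
 Tr.leaf)) 137263 4
 (Tr.node (Tr.node (Tr.node Tr.leaf 137265 4
 Tr.leaf) 137266 6
 Tr.leaf) 137269 6
 (Tr.node Tr.leaf 137270 6
 Tr.leaf))) 137273 5
 (Tr.node (Tr.node (Tr.node (Tr.node Tr.leaf 137274 5
 Tr.leaf) 137277 4
 Tr.leaf) 137278 5
 (Tr.node (Tr.node Tr.leaf 137283 6
 Tr.leaf) 137287 6
 Tr.leaf)) 137291 5
 (Tr.node (Tr.node (Tr.node Tr.leaf 137295 6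
 Tr.leaf) 137297 6
 Tr.leaf) 137298 6
 (Tr.node Tr.leaf 137301 5
 Tr.leaf)))) 137302 6
 (Tr.node (Tr.node (Tr.node (Tr.node (Tr.node Tr.leaf 137305 5
 Tr.leaf) 137306 6
 Tr.leaf) 137309 6
 (Tr.node (Tr.node Tr.leaf 137310 6
 Tr.leaf) 137313 6
 Tr.leaf)) 137314 6
 (Tr.node (Tr.node (Tr.node Tr.leaf 137317 6
 Tr.leaf) 137318 6
 Tr.leaf) 137321 5
 (Tr.node Tr.leaf 137322 6
 Tr.leaf))) 137325 6
 (Tr.node (Tr.node (Tr.node (Tr.node Tr.leaf 137326 6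
 Tr.leaf) 137331 6
 Tr.leaf) 137335 5
 (Tr.node Tr.leaf 137339 6
 Tr.leaf)) 137343 6
 (Tr.node (Tr.node (Tr.node Tr.leaf 137347 5
 Tr.leaf) 137351 6
 Tr.leaf) 137355 6
 (Tr.node Tr.leaf 137359 4
 Tr.leaf))))) 137361 6
 (Tr.node (Tr.node (Tr.node (Tr.node (Tr.node (Tr.node Tr.leaf 137362 4
 Tr.leaf) 137365 6
 Tr.leaf) 137366 6
 (Tr.node (Tr.node Tr.leaf 137369 6
 Tr.leaf) 137370 4
 Tr.leaf)) 137373 5
 (Tr.node (Tr.node (Tr.node Tr.leaf 137374 6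
 Tr.leaf) 137377 6
 Tr.leaf) 137378 4
 (Tr.node Tr.leaf 137381 6
 Tr.leaf))) 137382 6
 (Tr.node (Tr.node (Tr.node (Tr.node Tr.leaf 137385 6
 Tr.leaf) 137386 5
 Tr.leaf) 137389 4
 (Tr.node Tr.leaf 137390 6
 Tr.leaf)) 137395 6
 (Tr.node (Tr.node (Tr.node Tr.leaf 137399 6
 Tr.leaf) 137403 6
 Tr.leaf) 137407 6
 (Tr.node Tr.leaf 137409 6
 Tr.leaf)))) 137410 6
 (Tr.node (Tr.node (Tr.node (Tr.node (Tr.node Tr.leaf 137413 6
 Tr.leaf) 137414 4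
 Tr.leaf) 137417 6
 (Tr.node (Tr.node Tr.leaf 137418 6
 Tr.leaf) 137421 6
 Tr.leaf)) 137422 5
 (Tr.node (Tr.node (Tr.node Tr.leaf 137427 6
 Tr.leaf) 137431 5
 Tr.leaf) 137435 7
 (Tr.node Tr.leaf 137439 6
 Tr.leaf))) 137443 6
 (Tr.node (Tr.node (Tr.node (Tr.node Tr.leaf 137447 5
 Tr.leaf) 137451 6
 Tr.leaf) 137455 6
 (Tr.node Tr.leaf 137457 5
 Tr.leaf)) 137458 6
 (Tr.node (Tr.node (Tr.node Tr.leaf 137461 6
 Tr.leaf) 137462 6
 Tr.leaf) 137465 6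
 (Tr.node Tr.leaf 137466 4
 Tr.leaf))))))) 137469 6
 (Tr.node (Tr.node (Tr.node (Tr.node (Tr.node (Tr.node (Tr.node (Tr.node Tr.leaf 137470 5
 Tr.leaf) 137473 6
 Tr.leaf) 137474 4
 (Tr.node (Tr.node Tr.leaf 137477 6
 Tr.leaf) 137478 4
 Tr.leaf)) 137481 6
 (Tr.node (Tr.node (Tr.node Tr.leaf 137482 5
 Tr.leaf) 137485 5
 Tr.leaf) 137486 4
 (Tr.node Tr.leaf 137491 6
 Tr.leaf))) 137495 4
 (Tr.node (Tr.node (Tr.node (Tr.node Tr.leaf 137499 7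
 Tr.leaf) 137503 6
 Tr.leaf) 137507 6
 (Tr.node (Tr.node Tr.leaf 137511 6
 Tr.leaf) 137515 6
 Tr.leaf)) 137519 6
 (Tr.node (Tr.node (Tr.node Tr.leaf 137521 6
 Tr.leaf) 137522 6
 Tr.leaf) 137525 5
 (Tr.node Tr.leaf 137526 4
 Tr.leaf)))) 137529 6
 (Tr.node (Tr.node (Tr.node (Tr.node (Tr.node Tr.leaf 137530 6
 Tr.leaf) 137533 6
 Tr.leaf) 137534 6
 (Tr.node (Tr.node Tr.leaf 137539 6
 Tr.leaf) 137543 6
 Tr.leaf)) 137547 5
 (Tr.node (Tr.node (Tr.node Tr.leaf 137551 6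
 Tr.leaf) 137553 6
 Tr.leaf) 137554 6
 (Tr.node Tr.leaf 137557 6
 Tr.leaf))) 137558 6
 (Tr.node (Tr.node (Tr.node (Tr.node Tr.leaf 137561 4
 Tr.leaf) 137562 6
 Tr.leaf) 137565 6
 (Tr.node Tr.leaf 137566 6
 Tr.leaf)) 137569 6
 (Tr.node (Tr.node (Tr.node Tr.leaf 137570 6
 Tr.leaf) 137573 6
 Tr.leaf) 137574 6
 (Tr.node Tr.leaf 137577 6
 Tr.leaf))))) 137578 5
 (Tr.node (Tr.node (Tr.node (Tr.node (Tr.node (Tr.node Tr.leaf 137581 6
 Tr.leaf) 137582 5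
 Tr.leaf) 137587 6
 (Tr.node (Tr.node Tr.leaf 137591 6
 Tr.leaf) 137595 6
 Tr.leaf)) 137599 6
 (Tr.node (Tr.node (Tr.node Tr.leaf 137603 6
 Tr.leaf) 137607 6
 Tr.leaf) 137611 6
 (Tr.node Tr.leaf 137615 5
 Tr.leaf))) 137617 6
 (Tr.node (Tr.node (Tr.node (Tr.node Tr.leaf 137618 6
 Tr.leaf) 137621 6
 Tr.leaf) 137622 4
 (Tr.node Tr.leaf 137625 6
 Tr.leaf)) 137626 6
 (Tr.node (Tr.node (Tr.node Tr.leaf 137629 6
 Tr.leaf) 137630 5
 Tr.leaf) 137633 6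
 (Tr.node Tr.leaf 137634 6
 Tr.leaf)))) 137637 6
 (Tr.node (Tr.node (Tr.node (Tr.node (Tr.node Tr.leaf 137638 5
 Tr.leaf) 137641 6
 Tr.leaf) 137642 5
 (Tr.node (Tr.node Tr.leaf 137645 6
 Tr.leaf) 137646 5
 Tr.leaf)) 137651 6
 (Tr.node (Tr.node (Tr.node Tr.leaf 137655 6
 Tr.leaf) 137659 6
 Tr.leaf) 137663 6
 (Tr.node Tr.leaf 137665 4
 Tr.leaf))) 137666 6
 (Tr.node (Tr.node (Tr.node (Tr.node Tr.leaf 137669 6
 Tr.leaf) 137670 7
 Tr.leaf) 137673 6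
 (Tr.node Tr.leaf 137674 5
 Tr.leaf)) 137677 6
 (Tr.node (Tr.node (Tr.node Tr.leaf 137678 6
 Tr.leaf) 137683 6
 Tr.leaf) 137687 5
 (Tr.node Tr.leaf 137691 5
 Tr.leaf)))))) 137695 6
 (Tr.node (Tr.node (Tr.node (Tr.node (Tr.node (Tr.node (Tr.node Tr.leaf 137699 6
 Tr.leaf) 137703 5
 Tr.leaf) 137707 5
 (Tr.node (Tr.node Tr.leaf 137711 6
 Tr.leaf) 137713 6
 Tr.leaf)) 137714 6
 (Tr.node (Tr.node (Tr.node Tr.leaf 137717 6
 Tr.leaf) 137718 6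
 Tr.leaf) 137721 6
 (Tr.node Tr.leaf 137722 6
 Tr.leaf))) 137725 6
 (Tr.node (Tr.node (Tr.node (Tr.node Tr.leaf 137726 5
 Tr.leaf) 138257 6
 Tr.leaf) 138259 6
 (Tr.node (Tr.node Tr.leaf 138261 6
 Tr.leaf) 138263 6
 Tr.leaf)) 138265 5
 (Tr.node (Tr.node (Tr.node Tr.leaf 138267 5
 Tr.leaf) 138269 6
 Tr.leaf) 138271 4
 (Tr.node Tr.leaf 138273 6
 Tr.leaf)))) 138275 6
 (Tr.node (Tr.node (Tr.node (Tr.node (Tr.node Tr.leaf 138277 6
 Tr.leaf) 138279 5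
 Tr.leaf) 138281 6
 (Tr.node (Tr.node Tr.leaf 138283 6
 Tr.leaf) 138285 6
 Tr.leaf)) 138287 6
 (Tr.node (Tr.node (Tr.node Tr.leaf 138305 6
 Tr.leaf) 138307 5
 Tr.leaf) 138309 5
 (Tr.node Tr.leaf 138311 6
 Tr.leaf))) 138313 6
 (Tr.node (Tr.node (Tr.node (Tr.node Tr.leaf 138315 6
 Tr.leaf) 138317 6
 Tr.leaf) 138319 4
 (Tr.node Tr.leaf 138353 5
 Tr.leaf)) 138355 6
 (Tr.node (Tr.node (Tr.node Tr.leaf 138357 5
 Tr.leaf) 138359 5
 Tr.leaf) 138361 5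
 (Tr.node Tr.leaf 138363 5
 Tr.leaf))))) 138365 6
 (Tr.node (Tr.node (Tr.node (Tr.node (Tr.node (Tr.node Tr.leaf 138367 6
 Tr.leaf) 138369 6
 Tr.leaf) 138371 6
 (Tr.node (Tr.node Tr.leaf 138373 5
 Tr.leaf) 138375 6
 Tr.leaf)) 138377 6
 (Tr.node (Tr.node (Tr.node Tr.leaf 138379 4
 Tr.leaf) 138381 6
 Tr.leaf) 138383 6
 (Tr.node Tr.leaf 138417 7
 Tr.leaf))) 138419 6
 (Tr.node (Tr.node (Tr.node (Tr.node Tr.leaf 138421 6
 Tr.leaf) 138423 6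
 Tr.leaf) 138425 6
 (Tr.node Tr.leaf 138427 6
 Tr.leaf)) 138429 6
 (Tr.node (Tr.node (Tr.node Tr.leaf 138431 6
 Tr.leaf) 138449 6
 Tr.leaf) 138451 5
 (Tr.node Tr.leaf 138453 6
 Tr.leaf)))) 138455 5
 (Tr.node (Tr.node (Tr.node (Tr.node (Tr.node Tr.leaf 138457 6
 Tr.leaf) 138459 6
 Tr.leaf) 138461 6
 (Tr.node (Tr.node Tr.leaf 138463 6
 Tr.leaf) 138465 5
 Tr.leaf)) 138467 5
 (Tr.node (Tr.node (Tr.node Tr.leaf 138469 5
 Tr.leaf) 138471 6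
 Tr.leaf) 138473 6
 (Tr.node Tr.leaf 138475 6
 Tr.leaf))) 138477 6
 (Tr.node (Tr.node (Tr.node (Tr.node Tr.leaf 138479 6
 Tr.leaf) 138513 6
 Tr.leaf) 138515 6
 (Tr.node Tr.leaf 138517 5
 Tr.leaf)) 138519 6
 (Tr.node (Tr.node (Tr.node Tr.leaf 138521 6
 Tr.leaf) 138523 5
 Tr.leaf) 138525 7
 (Tr.node Tr.leaf 138527 6
 Tr.leaf)))))))))

/-- A subtree. -/
def tr2_s34 : Tr := (Tr.node (Tr.node (Tr.node (Tr.node (Tr.node (Tr.node (Tr.node (Tr.node (Tr.node (Tr.node Tr.leaf 138531 6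
 Tr.leaf) 138533 6
 Tr.leaf) 138535 6
 (Tr.node (Tr.node Tr.leaf 138537 6
 Tr.leaf) 138539 6
 Tr.leaf)) 138541 4
 (Tr.node (Tr.node (Tr.node Tr.leaf 138543 5
 Tr.leaf) 138561 6
 Tr.leaf) 138563 4
 (Tr.node Tr.leaf 138565 6
 Tr.leaf))) 138567 5
 (Tr.node (Tr.node (Tr.node (Tr.node Tr.leaf 138569 6
 Tr.leaf) 138571 6
 Tr.leaf) 138573 6
 (Tr.node (Tr.node Tr.leaf 138575 5
 Tr.leaf) 138609 6
 Tr.leaf)) 138611 7
 (Tr.node (Tr.node (Tr.node Tr.leaf 138613 6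
 Tr.leaf) 138615 6
 Tr.leaf) 138617 6
 (Tr.node Tr.leaf 138619 6
 Tr.leaf)))) 138621 6
 (Tr.node (Tr.node (Tr.node (Tr.node (Tr.node Tr.leaf 138623 7
 Tr.leaf) 138625 4
 Tr.leaf) 138627 6
 (Tr.node (Tr.node Tr.leaf 138629 6
 Tr.leaf) 138631 5
 Tr.leaf)) 138633 6
 (Tr.node (Tr.node (Tr.node Tr.leaf 138635 5
 Tr.leaf) 138637 6
 Tr.leaf) 138639 5
 (Tr.node Tr.leaf 138673 5
 Tr.leaf))) 138675 6
 (Tr.node (Tr.node (Tr.node (Tr.node Tr.leaf 138677 6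
 Tr.leaf) 138679 5
 Tr.leaf) 138681 5
 (Tr.node Tr.leaf 138683 6
 Tr.leaf)) 138685 5
 (Tr.node (Tr.node (Tr.node Tr.leaf 138687 6
 Tr.leaf) 138705 6
 Tr.leaf) 138707 5
 (Tr.node Tr.leaf 138709 6
 Tr.leaf))))) 138711 6
 (Tr.node (Tr.node (Tr.node (Tr.node (Tr.node (Tr.node Tr.leaf 138713 6
 Tr.leaf) 138715 6
 Tr.leaf) 138717 6
 (Tr.node (Tr.node Tr.leaf 138719 6
 Tr.leaf) 138721 6
 Tr.leaf)) 138723 6
 (Tr.node (Tr.node (Tr.node Tr.leaf 138725 6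
 Tr.leaf) 138727 6
 Tr.leaf) 138729 6
 (Tr.node Tr.leaf 138731 6
 Tr.leaf))) 138733 6
 (Tr.node (Tr.node (Tr.node (Tr.node Tr.leaf 138735 5
 Tr.leaf) 139267 5
 Tr.leaf) 139269 5
 (Tr.node (Tr.node Tr.leaf 139270 7
 Tr.leaf) 139273 5
 Tr.leaf)) 139274 4
 (Tr.node (Tr.node (Tr.node Tr.leaf 139276 5
 Tr.leaf) 139279 5
 Tr.leaf) 139283 4
 (Tr.node Tr.leaf 139285 4
 Tr.leaf)))) 139286 6
 (Tr.node (Tr.node (Tr.node (Tr.node (Tr.node Tr.leaf 139289 4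
 Tr.leaf) 139290 4
 Tr.leaf) 139292 4
 (Tr.node (Tr.node Tr.leaf 139295 6
 Tr.leaf) 139297 4
 Tr.leaf)) 139298 5
 (Tr.node (Tr.node (Tr.node Tr.leaf 139300 4
 Tr.leaf) 139303 6
 Tr.leaf) 139304 4
 (Tr.node Tr.leaf 139307 6
 Tr.leaf))) 139309 5
 (Tr.node (Tr.node (Tr.node (Tr.node Tr.leaf 139310 6
 Tr.leaf) 139313 3
 Tr.leaf) 139314 6
 (Tr.node Tr.leaf 139316 4
 Tr.leaf)) 139319 6
 (Tr.node (Tr.node (Tr.node Tr.leaf 139320 4
 Tr.leaf) 139323 5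
 Tr.leaf) 139325 7
 (Tr.node Tr.leaf 139326 5
 Tr.leaf)))))) 139329 5
 (Tr.node (Tr.node (Tr.node (Tr.node (Tr.node (Tr.node (Tr.node Tr.leaf 139330 5
 Tr.leaf) 139332 4
 Tr.leaf) 139335 5
 (Tr.node (Tr.node Tr.leaf 139336 7
 Tr.leaf) 139339 4
 Tr.leaf)) 139341 4
 (Tr.node (Tr.node (Tr.node Tr.leaf 139342 6
 Tr.leaf) 139345 4
 Tr.leaf) 139346 5
 (Tr.node Tr.leaf 139348 5
 Tr.leaf))) 139351 6
 (Tr.node (Tr.node (Tr.node (Tr.node Tr.leaf 139352 6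
 Tr.leaf) 139355 6
 Tr.leaf) 139357 6
 (Tr.node (Tr.node Tr.leaf 139358 6
 Tr.leaf) 139363 6
 Tr.leaf)) 139365 3
 (Tr.node (Tr.node (Tr.node Tr.leaf 139366 5
 Tr.leaf) 139369 3
 Tr.leaf) 139370 5
 (Tr.node Tr.leaf 139372 4
 Tr.leaf)))) 139375 6
 (Tr.node (Tr.node (Tr.node (Tr.node (Tr.node Tr.leaf 139379 6
 Tr.leaf) 139381 4
 Tr.leaf) 139382 6
 (Tr.node (Tr.node Tr.leaf 139385 6
 Tr.leaf) 139386 6
 Tr.leaf)) 139388 5
 (Tr.node (Tr.node (Tr.node Tr.leaf 139391 6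
 Tr.leaf) 139393 4
 Tr.leaf) 139394 4
 (Tr.node Tr.leaf 139396 5
 Tr.leaf))) 139399 6
 (Tr.node (Tr.node (Tr.node (Tr.node Tr.leaf 139400 6
 Tr.leaf) 139403 3
 Tr.leaf) 139405 6
 (Tr.node Tr.leaf 139406 5
 Tr.leaf)) 139409 3
 (Tr.node (Tr.node (Tr.node Tr.leaf 139410 5
 Tr.leaf) 139412 6
 Tr.leaf) 139415 6
 (Tr.node Tr.leaf 139416 6
 Tr.leaf))))) 139419 5
 (Tr.node (Tr.node (Tr.node (Tr.node (Tr.node (Tr.node Tr.leaf 139421 7
 Tr.leaf) 139422 6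
 Tr.leaf) 139427 6
 (Tr.node (Tr.node Tr.leaf 139429 6
 Tr.leaf) 139430 6
 Tr.leaf)) 139433 4
 (Tr.node (Tr.node (Tr.node Tr.leaf 139434 6
 Tr.leaf) 139436 6
 Tr.leaf) 139439 6
 (Tr.node Tr.leaf 139443 6
 Tr.leaf))) 139445 6
 (Tr.node (Tr.node (Tr.node (Tr.node Tr.leaf 139446 6
 Tr.leaf) 139449 6
 Tr.leaf) 139450 5
 (Tr.node Tr.leaf 139452 6
 Tr.leaf)) 139455 5
 (Tr.node (Tr.node (Tr.node Tr.leaf 139459 5
 Tr.leaf) 139461 6
 Tr.leaf) 139462 6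
 (Tr.node Tr.leaf 139465 3
 Tr.leaf)))) 139466 4
 (Tr.node (Tr.node (Tr.node (Tr.node (Tr.node Tr.leaf 139468 5
 Tr.leaf) 139471 6
 Tr.leaf) 139475 6
 (Tr.node (Tr.node Tr.leaf 139477 5
 Tr.leaf) 139478 5
 Tr.leaf)) 139481 6
 (Tr.node (Tr.node (Tr.node Tr.leaf 139482 5
 Tr.leaf) 139484 6
 Tr.leaf) 139487 6
 (Tr.node Tr.leaf 139489 4
 Tr.leaf))) 139490 6
 (Tr.node (Tr.node (Tr.node (Tr.node Tr.leaf 139492 6
 Tr.leaf) 139495 6
 Tr.leaf) 139496 6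
 (Tr.node Tr.leaf 139499 5
 Tr.leaf)) 139501 5
 (Tr.node (Tr.node (Tr.node Tr.leaf 139502 6
 Tr.leaf) 139505 6
 Tr.leaf) 139506 5
 (Tr.node Tr.leaf 139508 5
 Tr.leaf))))))) 139511 5
 (Tr.node (Tr.node (Tr.node (Tr.node (Tr.node (Tr.node (Tr.node (Tr.node Tr.leaf 139512 6
 Tr.leaf) 139515 5
 Tr.leaf) 139517 5
 (Tr.node (Tr.node Tr.leaf 139518 6
 Tr.leaf) 139523 4
 Tr.leaf)) 139525 4
 (Tr.node (Tr.node (Tr.node Tr.leaf 139526 6
 Tr.leaf) 139529 4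
 Tr.leaf) 139530 5
 (Tr.node Tr.leaf 139532 5
 Tr.leaf))) 139535 6
 (Tr.node (Tr.node (Tr.node (Tr.node Tr.leaf 139539 4
 Tr.leaf) 139541 4
 Tr.leaf) 139542 7
 (Tr.node (Tr.node Tr.leaf 139545 4
 Tr.leaf) 139546 4
 Tr.leaf)) 139548 5
 (Tr.node (Tr.node (Tr.node Tr.leaf 139551 4
 Tr.leaf) 139553 3
 Tr.leaf) 139554 6
 (Tr.node Tr.leaf 139556 5
 Tr.leaf)))) 139559 6
 (Tr.node (Tr.node (Tr.node (Tr.node (Tr.node Tr.leaf 139560 4
 Tr.leaf) 139563 5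
 Tr.leaf) 139565 6
 (Tr.node (Tr.node Tr.leaf 139566 5
 Tr.leaf) 139569 3
 Tr.leaf)) 139570 6
 (Tr.node (Tr.node (Tr.node Tr.leaf 139572 4
 Tr.leaf) 139575 3
 Tr.leaf) 139576 4
 (Tr.node Tr.leaf 139579 3
 Tr.leaf))) 139581 5
 (Tr.node (Tr.node (Tr.node (Tr.node Tr.leaf 139582 4
 Tr.leaf) 139585 4
 Tr.leaf) 139586 4
 (Tr.node Tr.leaf 139588 4
 Tr.leaf)) 139591 6
 (Tr.node (Tr.node (Tr.node Tr.leaf 139592 6
 Tr.leaf) 139595 6
 Tr.leaf) 139597 6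
 (Tr.node Tr.leaf 139598 6
 Tr.leaf))))) 139601 4
 (Tr.node (Tr.node (Tr.node (Tr.node (Tr.node (Tr.node Tr.leaf 139602 5
 Tr.leaf) 139604 4
 Tr.leaf) 139607 4
 (Tr.node (Tr.node Tr.leaf 139608 7
 Tr.leaf) 139611 5
 Tr.leaf)) 139613 5
 (Tr.node (Tr.node (Tr.node Tr.leaf 139614 6
 Tr.leaf) 139619 7
 Tr.leaf) 139621 5
 (Tr.node Tr.leaf 139622 6
 Tr.leaf))) 139625 6
 (Tr.node (Tr.node (Tr.node (Tr.node Tr.leaf 139626 6
 Tr.leaf) 139628 5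
 Tr.leaf) 139631 6
 (Tr.node Tr.leaf 139635 6
 Tr.leaf)) 139637 6
 (Tr.node (Tr.node (Tr.node Tr.leaf 139638 5
 Tr.leaf) 139641 6
 Tr.leaf) 139642 5
 (Tr.node Tr.leaf 139644 5
 Tr.leaf)))) 139647 6
 (Tr.node (Tr.node (Tr.node (Tr.node (Tr.node Tr.leaf 139649 3
 Tr.leaf) 139650 4
 Tr.leaf) 139652 6
 (Tr.node (Tr.node Tr.leaf 139655 6
 Tr.leaf) 139656 6
 Tr.leaf)) 139659 4
 (Tr.node (Tr.node (Tr.node Tr.leaf 139661 6
 Tr.leaf) 139662 6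
 Tr.leaf) 139665 3
 (Tr.node Tr.leaf 139666 4
 Tr.leaf))) 139668 6
 (Tr.node (Tr.node (Tr.node (Tr.node Tr.leaf 139671 3
 Tr.leaf) 139672 5
 Tr.leaf) 139675 6
 (Tr.node Tr.leaf 139677 6
 Tr.leaf)) 139678 5
 (Tr.node (Tr.node (Tr.node Tr.leaf 139683 6
 Tr.leaf) 139685 6
 Tr.leaf) 139686 6
 (Tr.node Tr.leaf 139689 6
 Tr.leaf)))))) 139690 5
 (Tr.node (Tr.node (Tr.node (Tr.node (Tr.node (Tr.node (Tr.node Tr.leaf 139692 5
 Tr.leaf) 139695 5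
 Tr.leaf) 139699 4
 (Tr.node (Tr.node Tr.leaf 139701 4
 Tr.leaf) 139702 6
 Tr.leaf)) 139705 6
 (Tr.node (Tr.node (Tr.node Tr.leaf 139706 6
 Tr.leaf) 139708 7
 Tr.leaf) 139711 5
 (Tr.node Tr.leaf 139715 7
 Tr.leaf))) 139717 5
 (Tr.node (Tr.node (Tr.node (Tr.node Tr.leaf 139718 5
 Tr.leaf) 139721 6
 Tr.leaf) 139722 5
 (Tr.node (Tr.node Tr.leaf 139724 6
 Tr.leaf) 139727 6
 Tr.leaf)) 139731 5
 (Tr.node (Tr.node (Tr.node Tr.leaf 139733 3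
 Tr.leaf) 139734 4
 Tr.leaf) 139737 6
 (Tr.node Tr.leaf 139738 5
 Tr.leaf)))) 139740 5
 (Tr.node (Tr.node (Tr.node (Tr.node (Tr.node Tr.leaf 139743 6
 Tr.leaf) 139745 6
 Tr.leaf) 139746 6
 (Tr.node (Tr.node Tr.leaf 139748 5
 Tr.leaf) 139751 5
 Tr.leaf)) 139752 6
 (Tr.node (Tr.node (Tr.node Tr.leaf 139755 5
 Tr.leaf) 139757 5
 Tr.leaf) 139758 6
 (Tr.node Tr.leaf 139761 6
 Tr.leaf))) 139762 7
 (Tr.node (Tr.node (Tr.node (Tr.node Tr.leaf 139764 6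
 Tr.leaf) 139767 5
 Tr.leaf) 139768 6
 (Tr.node Tr.leaf 139771 6
 Tr.leaf)) 139773 6
 (Tr.node (Tr.node (Tr.node Tr.leaf 139774 6
 Tr.leaf) 140289 5
 Tr.leaf) 140291 4
 (Tr.node Tr.leaf 140301 6
 Tr.leaf))))) 140303 3
 (Tr.node (Tr.node (Tr.node (Tr.node (Tr.node (Tr.node Tr.leaf 140305 4
 Tr.leaf) 140307 4
 Tr.leaf) 140317 6
 (Tr.node (Tr.node Tr.leaf 140319 7
 Tr.leaf) 140325 6
 Tr.leaf)) 140327 4
 (Tr.node (Tr.node (Tr.node Tr.leaf 140329 6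
 Tr.leaf) 140331 4
 Tr.leaf) 140341 7
 (Tr.node Tr.leaf 140343 5
 Tr.leaf))) 140345 6
 (Tr.node (Tr.node (Tr.node (Tr.node Tr.leaf 140347 6
 Tr.leaf) 140357 6
 Tr.leaf) 140359 5
 (Tr.node Tr.leaf 140361 6
 Tr.leaf)) 140363 6
 (Tr.node (Tr.node (Tr.node Tr.leaf 140373 6
 Tr.leaf) 140375 5
 Tr.leaf) 140377 5
 (Tr.node Tr.leaf 140379 5
 Tr.leaf)))) 140385 6
 (Tr.node (Tr.node (Tr.node (Tr.node (Tr.node Tr.leaf 140387 6
 Tr.leaf) 140397 6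
 Tr.leaf) 140399 6
 (Tr.node (Tr.node Tr.leaf 140401 6
 Tr.leaf) 140403 6
 Tr.leaf)) 140413 5
 (Tr.node (Tr.node (Tr.node Tr.leaf 140415 6
 Tr.leaf) 140421 6
 Tr.leaf) 140423 6
 (Tr.node Tr.leaf 140425 6
 Tr.leaf))) 140427 5
 (Tr.node (Tr.node (Tr.node (Tr.node Tr.leaf 140437 5
 Tr.leaf) 140439 4
 Tr.leaf) 140441 4
 (Tr.node Tr.leaf 140443 6
 Tr.leaf)) 140449 6
 (Tr.node (Tr.node (Tr.node Tr.leaf 140451 6
 Tr.leaf) 140461 5
 Tr.leaf) 140463 6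
 (Tr.node Tr.leaf 140465 5
 Tr.leaf)))))))) 140467 6
 (Tr.node (Tr.node (Tr.node (Tr.node (Tr.node (Tr.node (Tr.node (Tr.node (Tr.node Tr.leaf 140477 6
 Tr.leaf) 140479 6
 Tr.leaf) 140481 5
 (Tr.node (Tr.node Tr.leaf 140483 6
 Tr.leaf) 140493 6
 Tr.leaf)) 140495 6
 (Tr.node (Tr.node (Tr.node Tr.leaf 140497 6
 Tr.leaf) 140499 5
 Tr.leaf) 140509 6
 (Tr.node Tr.leaf 140511 6
 Tr.leaf))) 140517 6
 (Tr.node (Tr.node (Tr.node (Tr.node Tr.leaf 140519 6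
 Tr.leaf) 140521 6
 Tr.leaf) 140523 6
 (Tr.node (Tr.node Tr.leaf 140533 6
 Tr.leaf) 140535 6
 Tr.leaf)) 140537 6
 (Tr.node (Tr.node (Tr.node Tr.leaf 140539 6
 Tr.leaf) 140545 4
 Tr.leaf) 140547 4
 (Tr.node Tr.leaf 140557 6
 Tr.leaf)))) 140559 4
 (Tr.node (Tr.node (Tr.node (Tr.node (Tr.node Tr.leaf 140561 4
 Tr.leaf) 140563 4
 Tr.leaf) 140573 5
 (Tr.node (Tr.node Tr.leaf 140575 5
 Tr.leaf) 140581 5
 Tr.leaf)) 140583 6
 (Tr.node (Tr.node (Tr.node Tr.leaf 140585 6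
 Tr.leaf) 140587 6
 Tr.leaf) 140597 6
 (Tr.node Tr.leaf 140599 5
 Tr.leaf))) 140601 7
 (Tr.node (Tr.node (Tr.node (Tr.node Tr.leaf 140603 6
 Tr.leaf) 140613 4
 Tr.leaf) 140615 4
 (Tr.node Tr.leaf 140617 5
 Tr.leaf)) 140619 6
 (Tr.node (Tr.node (Tr.node Tr.leaf 140629 4
 Tr.leaf) 140631 6
 Tr.leaf) 140633 4
 (Tr.node Tr.leaf 140635 7
 Tr.leaf))))) 140641 6
 (Tr.node (Tr.node (Tr.node (Tr.node (Tr.node (Tr.node Tr.leaf 140643 6
 Tr.leaf) 140653 6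
 Tr.leaf) 140655 6
 (Tr.node (Tr.node Tr.leaf 140657 6
 Tr.leaf) 140659 6
 Tr.leaf)) 140669 6
 (Tr.node (Tr.node (Tr.node Tr.leaf 140671 6
 Tr.leaf) 140677 5
 Tr.leaf) 140679 6
 (Tr.node Tr.leaf 140681 6
 Tr.leaf))) 140683 6
 (Tr.node (Tr.node (Tr.node (Tr.node Tr.leaf 140693 4
 Tr.leaf) 140695 6
 Tr.leaf) 140697 5
 (Tr.node (Tr.node Tr.leaf 140699 6
 Tr.leaf) 140705 6
 Tr.leaf)) 140707 6
 (Tr.node (Tr.node (Tr.node Tr.leaf 140717 6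
 Tr.leaf) 140719 7
 Tr.leaf) 140721 4
 (Tr.node Tr.leaf 140723 6
 Tr.leaf)))) 140733 6
 (Tr.node (Tr.node (Tr.node (Tr.node (Tr.node Tr.leaf 140735 6
 Tr.leaf) 140737 6
 Tr.leaf) 140739 4
 (Tr.node (Tr.node Tr.leaf 140749 6
 Tr.leaf) 140751 6
 Tr.leaf)) 140753 4
 (Tr.node (Tr.node (Tr.node Tr.leaf 140755 6
 Tr.leaf) 140765 5
 Tr.leaf) 140767 6
 (Tr.node Tr.leaf 140773 6
 Tr.leaf))) 140775 6
 (Tr.node (Tr.node (Tr.node (Tr.node Tr.leaf 140777 5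
 Tr.leaf) 140779 5
 Tr.leaf) 140789 6
 (Tr.node Tr.leaf 140791 6
 Tr.leaf)) 140793 6
 (Tr.node (Tr.node (Tr.node Tr.leaf 140795 5
 Tr.leaf) 141313 5
 Tr.leaf) 141314 7
 (Tr.node Tr.leaf 141317 4
 Tr.leaf)))))) 141318 6
 (Tr.node (Tr.node (Tr.node (Tr.node (Tr.node (Tr.node (Tr.node Tr.leaf 141323 6
 Tr.leaf) 141327 5
 Tr.leaf) 141329 4
 (Tr.node (Tr.node Tr.leaf 141330 6
 Tr.leaf) 141333 4
 Tr.leaf)) 141334 6
 (Tr.node (Tr.node (Tr.node Tr.leaf 141339 4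
 Tr.leaf) 141343 4
 Tr.leaf) 141347 6
 (Tr.node Tr.leaf 141351 6
 Tr.leaf))) 141353 5
 (Tr.node (Tr.node (Tr.node (Tr.node Tr.leaf 141354 6
 Tr.leaf) 141357 6
 Tr.leaf) 141358 6
 (Tr.node (Tr.node Tr.leaf 141363 5
 Tr.leaf) 141367 6
 Tr.leaf)) 141369 6
 (Tr.node (Tr.node (Tr.node Tr.leaf 141370 3
 Tr.leaf) 141373 4
 Tr.leaf) 141374 6
 (Tr.node Tr.leaf 141379 6
 Tr.leaf)))) 141383 3
 (Tr.node (Tr.node (Tr.node (Tr.node (Tr.node Tr.leaf 141385 6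
 Tr.leaf) 141386 6
 Tr.leaf) 141389 6
 (Tr.node (Tr.node Tr.leaf 141390 6
 Tr.leaf) 141395 6
 Tr.leaf)) 141399 4
 (Tr.node (Tr.node (Tr.node Tr.leaf 141401 5
 Tr.leaf) 141402 6
 Tr.leaf) 141405 6
 (Tr.node Tr.leaf 141406 6
 Tr.leaf))) 141409 6
 (Tr.node (Tr.node (Tr.node (Tr.node Tr.leaf 141410 6
 Tr.leaf) 141413 5
 Tr.leaf) 141414 4
 (Tr.node Tr.leaf 141419 6
 Tr.leaf)) 141423 6
 (Tr.node (Tr.node (Tr.node Tr.leaf 141425 6
 Tr.leaf) 141426 4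
 Tr.leaf) 141429 6
 (Tr.node Tr.leaf 141430 6
 Tr.leaf))))) 141435 6
 (Tr.node (Tr.node (Tr.node (Tr.node (Tr.node (Tr.node Tr.leaf 141439 6
 Tr.leaf) 141443 6
 Tr.leaf) 141447 4
 (Tr.node (Tr.node Tr.leaf 141449 6
 Tr.leaf) 141450 5
 Tr.leaf)) 141453 6
 (Tr.node (Tr.node (Tr.node Tr.leaf 141454 6
 Tr.leaf) 141459 5
 Tr.leaf) 141463 6
 (Tr.node Tr.leaf 141465 6
 Tr.leaf))) 141466 3
 (Tr.node (Tr.node (Tr.node (Tr.node Tr.leaf 141469 6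
 Tr.leaf) 141470 6
 Tr.leaf) 141473 6
 (Tr.node Tr.leaf 141474 6
 Tr.leaf)) 141477 6
 (Tr.node (Tr.node (Tr.node Tr.leaf 141478 6
 Tr.leaf) 141483 6
 Tr.leaf) 141487 6
 (Tr.node Tr.leaf 141489 6
 Tr.leaf)))) 141490 6
 (Tr.node (Tr.node (Tr.node (Tr.node (Tr.node Tr.leaf 141493 6
 Tr.leaf) 141494 6
 Tr.leaf) 141499 6
 (Tr.node (Tr.node Tr.leaf 141503 6
 Tr.leaf) 141505 6
 Tr.leaf)) 141506 3
 (Tr.node (Tr.node (Tr.node Tr.leaf 141509 4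
 Tr.leaf) 141510 3
 Tr.leaf) 141515 6
 (Tr.node Tr.leaf 141519 6
 Tr.leaf))) 141521 6
 (Tr.node (Tr.node (Tr.node (Tr.node Tr.leaf 141522 6
 Tr.leaf) 141525 6
 Tr.leaf) 141526 5
 (Tr.node Tr.leaf 141531 6
 Tr.leaf)) 141535 6
 (Tr.node (Tr.node (Tr.node Tr.leaf 141539 5
 Tr.leaf) 141543 6
 Tr.leaf) 141545 6
 (Tr.node Tr.leaf 141546 6
 Tr.leaf))))))) 141549 6
 (Tr.node (Tr.node (Tr.node (Tr.node (Tr.node (Tr.node (Tr.node (Tr.node Tr.leaf 141550 6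
 Tr.leaf) 141555 6
 Tr.leaf) 141559 7
 (Tr.node (Tr.node Tr.leaf 141561 5
 Tr.leaf) 141562 6
 Tr.leaf)) 141565 5
 (Tr.node (Tr.node (Tr.node Tr.leaf 141566 5
 Tr.leaf) 141569 4
 Tr.leaf) 141570 6
 (Tr.node Tr.leaf 141573 4
 Tr.leaf))) 141574 6
 (Tr.node (Tr.node (Tr.node (Tr.node Tr.leaf 141579 6
 Tr.leaf) 141583 5
 Tr.leaf) 141585 4
 (Tr.node (Tr.node Tr.leaf 141586 6
 Tr.leaf) 141589 4
 Tr.leaf)) 141590 7
 (Tr.node (Tr.node (Tr.node Tr.leaf 141595 4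
 Tr.leaf) 141599 6
 Tr.leaf) 141603 5
 (Tr.node Tr.leaf 141607 4
 Tr.leaf)))) 141609 6
 (Tr.node (Tr.node (Tr.node (Tr.node (Tr.node Tr.leaf 141610 6
 Tr.leaf) 141613 5
 Tr.leaf) 141614 3
 (Tr.node (Tr.node Tr.leaf 141619 4
 Tr.leaf) 141623 6
 Tr.leaf)) 141625 4
 (Tr.node (Tr.node (Tr.node Tr.leaf 141626 6
 Tr.leaf) 141629 6
 Tr.leaf) 141630 5
 (Tr.node Tr.leaf 141635 6
 Tr.leaf))) 141639 7
 (Tr.node (Tr.node (Tr.node (Tr.node Tr.leaf 141641 5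
 Tr.leaf) 141642 6
 Tr.leaf) 141645 5
 (Tr.node Tr.leaf 141646 6
 Tr.leaf)) 141651 5
 (Tr.node (Tr.node (Tr.node Tr.leaf 141655 5
 Tr.leaf) 141657 4
 Tr.leaf) 141658 6
 (Tr.node Tr.leaf 141661 7
 Tr.leaf))))) 141662 6
 (Tr.node (Tr.node (Tr.node (Tr.node (Tr.node (Tr.node Tr.leaf 141665 4
 Tr.leaf) 141666 6
 Tr.leaf) 141669 6
 (Tr.node (Tr.node Tr.leaf 141670 5
 Tr.leaf) 141675 6
 Tr.leaf)) 141679 6
 (Tr.node (Tr.node (Tr.node Tr.leaf 141681 5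
 Tr.leaf) 141682 4
 Tr.leaf) 141685 6
 (Tr.node Tr.leaf 141686 6
 Tr.leaf))) 141691 5
 (Tr.node (Tr.node (Tr.node (Tr.node Tr.leaf 141695 6
 Tr.leaf) 141699 7
 Tr.leaf) 141703 5
 (Tr.node Tr.leaf 141705 6
 Tr.leaf)) 141706 6
 (Tr.node (Tr.node (Tr.node Tr.leaf 141709 6
 Tr.leaf) 141710 3
 Tr.leaf) 141715 6
 (Tr.node Tr.leaf 141719 5
 Tr.leaf)))) 141721 6
 (Tr.node (Tr.node (Tr.node (Tr.node (Tr.node Tr.leaf 141722 6
 Tr.leaf) 141725 6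
 Tr.leaf) 141726 6
 (Tr.node (Tr.node Tr.leaf 141729 5
 Tr.leaf) 141730 6
 Tr.leaf)) 141733 6
 (Tr.node (Tr.node (Tr.node Tr.leaf 141734 6
 Tr.leaf) 141739 6
 Tr.leaf) 141743 6
 (Tr.node Tr.leaf 141745 4
 Tr.leaf))) 141746 6
 (Tr.node (Tr.node (Tr.node (Tr.node Tr.leaf 141749 6
 Tr.leaf) 141750 6
 Tr.leaf) 141755 6
 (Tr.node Tr.leaf 141759 6
 Tr.leaf)) 141761 6
 (Tr.node (Tr.node (Tr.node Tr.leaf 141762 6
 Tr.leaf) 141765 6
 Tr.leaf) 141766 6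
 (Tr.node Tr.leaf 141771 5
 Tr.leaf)))))) 141775 6
 (Tr.node (Tr.node (Tr.node (Tr.node (Tr.node (Tr.node (Tr.node Tr.leaf 141777 7
 Tr.leaf) 141778 5
 Tr.leaf) 141781 6
 (Tr.node (Tr.node Tr.leaf 141782 3
 Tr.leaf) 141787 6
 Tr.leaf)) 141791 6
 (Tr.node (Tr.node (Tr.node Tr.leaf 141795 6
 Tr.leaf) 141799 6
 Tr.leaf) 141801 6
 (Tr.node Tr.leaf 141802 6
 Tr.leaf))) 141805 6
 (Tr.node (Tr.node (Tr.node (Tr.node Tr.leaf 141806 6
 Tr.leaf) 141811 6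
 Tr.leaf) 141815 6
 (Tr.node (Tr.node Tr.leaf 141817 6
 Tr.leaf) 141818 5
 Tr.leaf)) 141821 5
 (Tr.node (Tr.node (Tr.node Tr.leaf 141822 5
 Tr.leaf) 142345 6
 Tr.leaf) 142347 5
 (Tr.node Tr.leaf 142349 7
 Tr.leaf)))) 142351 6
 (Tr.node (Tr.node (Tr.node (Tr.node (Tr.node Tr.leaf 142361 5
 Tr.leaf) 142363 5
 Tr.leaf) 142365 6
 (Tr.node (Tr.node Tr.leaf 142367 6
 Tr.leaf) 142369 6
 Tr.leaf)) 142371 4
 (Tr.node (Tr.node (Tr.node Tr.leaf 142373 6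
 Tr.leaf) 142375 6
 Tr.leaf) 142385 6
 (Tr.node Tr.leaf 142387 5
 Tr.leaf))) 142389 5
 (Tr.node (Tr.node (Tr.node (Tr.node Tr.leaf 142391 5
 Tr.leaf) 142401 6
 Tr.leaf) 142403 7
 (Tr.node Tr.leaf 142405 5
 Tr.leaf)) 142407 6
 (Tr.node (Tr.node (Tr.node Tr.leaf 142417 6
 Tr.leaf) 142419 5
 Tr.leaf) 142421 5
 (Tr.node Tr.leaf 142423 4
 Tr.leaf))))) 142441 6
 (Tr.node (Tr.node (Tr.node (Tr.node (Tr.node (Tr.node Tr.leaf 142443 5
 Tr.leaf) 142445 6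
 Tr.leaf) 142447 6
 (Tr.node (Tr.node Tr.leaf 142457 6
 Tr.leaf) 142459 6
 Tr.leaf)) 142461 6
 (Tr.node (Tr.node (Tr.node Tr.leaf 142463 6
 Tr.leaf) 142465 6
 Tr.leaf) 142467 6
 (Tr.node Tr.leaf 142469 4
 Tr.leaf))) 142471 6
 (Tr.node (Tr.node (Tr.node (Tr.node Tr.leaf 142481 5
 Tr.leaf) 142483 6
 Tr.leaf) 142485 5
 (Tr.node Tr.leaf 142487 7
 Tr.leaf)) 142505 6
 (Tr.node (Tr.node (Tr.node Tr.leaf 142507 6
 Tr.leaf) 142509 6
 Tr.leaf) 142511 6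
 (Tr.node Tr.leaf 142521 6
 Tr.leaf)))) 142523 6
 (Tr.node (Tr.node (Tr.node (Tr.node (Tr.node Tr.leaf 142525 6
 Tr.leaf) 142527 6
 Tr.leaf) 142537 6
 (Tr.node (Tr.node Tr.leaf 142539 6
 Tr.leaf) 142541 5
 Tr.leaf)) 142543 6
 (Tr.node (Tr.node (Tr.node Tr.leaf 142553 6
 Tr.leaf) 142555 6
 Tr.leaf) 142557 6
 (Tr.node Tr.leaf 142559 6
 Tr.leaf))) 142561 6
 (Tr.node (Tr.node (Tr.node (Tr.node Tr.leaf 142563 6
 Tr.leaf) 142565 6
 Tr.leaf) 142567 6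
 (Tr.node Tr.leaf 142577 7
 Tr.leaf)) 142579 6
 (Tr.node (Tr.node (Tr.node Tr.leaf 142581 6
 Tr.leaf) 142583 5
 Tr.leaf) 142601 6
 (Tr.node Tr.leaf 142603 5
 Tr.leaf)))))))))

/-- A subtree. -/
def tr2_s35 : Tr := (Tr.node (Tr.node (Tr.node (Tr.node (Tr.node (Tr.node (Tr.node (Tr.node (Tr.node (Tr.node Tr.leaf 142607 4
 Tr.leaf) 142617 6
 Tr.leaf) 142619 6
 (Tr.node (Tr.node Tr.leaf 142621 5
 Tr.leaf) 142623 6
 Tr.leaf)) 142625 5
 (Tr.node (Tr.node (Tr.node Tr.leaf 142627 5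
 Tr.leaf) 142629 6
 Tr.leaf) 142631 7
 (Tr.node Tr.leaf 142641 6
 Tr.leaf))) 142643 6
 (Tr.node (Tr.node (Tr.node (Tr.node Tr.leaf 142645 5
 Tr.leaf) 142647 6
 Tr.leaf) 142657 5
 (Tr.node (Tr.node Tr.leaf 142659 6
 Tr.leaf) 142661 5
 Tr.leaf)) 142663 6
 (Tr.node (Tr.node (Tr.node Tr.leaf 142673 6
 Tr.leaf) 142675 5
 Tr.leaf) 142677 6
 (Tr.node Tr.leaf 142679 6
 Tr.leaf)))) 142697 6
 (Tr.node (Tr.node (Tr.node (Tr.node (Tr.node Tr.leaf 142699 6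
 Tr.leaf) 142701 6
 Tr.leaf) 142703 6
 (Tr.node (Tr.node Tr.leaf 142713 6
 Tr.leaf) 142715 7
 Tr.leaf)) 142717 6
 (Tr.node (Tr.node (Tr.node Tr.leaf 142719 6
 Tr.leaf) 142721 6
 Tr.leaf) 142723 5
 (Tr.node Tr.leaf 142725 5
 Tr.leaf))) 142727 5
 (Tr.node (Tr.node (Tr.node (Tr.node Tr.leaf 142737 6
 Tr.leaf) 142739 5
 Tr.leaf) 142741 6
 (Tr.node Tr.leaf 142743 6
 Tr.leaf)) 142761 7
 (Tr.node (Tr.node (Tr.node Tr.leaf 142763 6
 Tr.leaf) 142765 6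
 Tr.leaf) 142767 5
 (Tr.node Tr.leaf 142777 6
 Tr.leaf))))) 142779 6
 (Tr.node (Tr.node (Tr.node (Tr.node (Tr.node (Tr.node Tr.leaf 142781 6
 Tr.leaf) 142783 6
 Tr.leaf) 142793 6
 (Tr.node (Tr.node Tr.leaf 142795 6
 Tr.leaf) 142797 6
 Tr.leaf)) 142799 6
 (Tr.node (Tr.node (Tr.node Tr.leaf 142809 6
 Tr.leaf) 142811 6
 Tr.leaf) 142813 7
 (Tr.node Tr.leaf 142815 6
 Tr.leaf))) 142817 6
 (Tr.node (Tr.node (Tr.node (Tr.node Tr.leaf 142819 6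
 Tr.leaf) 142821 6
 Tr.leaf) 142823 6
 (Tr.node (Tr.node Tr.leaf 142833 6
 Tr.leaf) 142835 6
 Tr.leaf)) 142837 6
 (Tr.node (Tr.node (Tr.node Tr.leaf 142839 6
 Tr.leaf) 143361 5
 Tr.leaf) 143362 5
 (Tr.node Tr.leaf 143364 4
 Tr.leaf)))) 143367 7
 (Tr.node (Tr.node (Tr.node (Tr.node (Tr.node Tr.leaf 143369 4
 Tr.leaf) 143370 4
 Tr.leaf) 143372 4
 (Tr.node (Tr.node Tr.leaf 143375 4
 Tr.leaf) 143377 4
 Tr.leaf)) 143378 5
 (Tr.node (Tr.node (Tr.node Tr.leaf 143380 5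
 Tr.leaf) 143383 6
 Tr.leaf) 143385 4
 (Tr.node Tr.leaf 143386 4
 Tr.leaf))) 143388 4
 (Tr.node (Tr.node (Tr.node (Tr.node Tr.leaf 143391 5
 Tr.leaf) 143395 6
 Tr.leaf) 143397 6
 (Tr.node Tr.leaf 143398 6
 Tr.leaf)) 143403 4
 (Tr.node (Tr.node (Tr.node Tr.leaf 143405 4
 Tr.leaf) 143406 6
 Tr.leaf) 143411 6
 (Tr.node Tr.leaf 143413 4
 Tr.leaf)))))) 143414 6
 (Tr.node (Tr.node (Tr.node (Tr.node (Tr.node (Tr.node (Tr.node Tr.leaf 143419 6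
 Tr.leaf) 143421 6
 Tr.leaf) 143422 4
 (Tr.node (Tr.node Tr.leaf 143427 5
 Tr.leaf) 143429 6
 Tr.leaf)) 143430 6
 (Tr.node (Tr.node (Tr.node Tr.leaf 143435 5
 Tr.leaf) 143437 5
 Tr.leaf) 143438 7
 (Tr.node Tr.leaf 143443 4
 Tr.leaf))) 143445 4
 (Tr.node (Tr.node (Tr.node (Tr.node Tr.leaf 143446 6
 Tr.leaf) 143451 6
 Tr.leaf) 143453 5
 (Tr.node (Tr.node Tr.leaf 143454 6
 Tr.leaf) 143457 6
 Tr.leaf)) 143458 6
 (Tr.node (Tr.node (Tr.node Tr.leaf 143460 5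
 Tr.leaf) 143463 6
 Tr.leaf) 143465 4
 (Tr.node Tr.leaf 143466 3
 Tr.leaf)))) 143468 6
 (Tr.node (Tr.node (Tr.node (Tr.node (Tr.node Tr.leaf 143471 5
 Tr.leaf) 143473 6
 Tr.leaf) 143474 6
 (Tr.node (Tr.node Tr.leaf 143476 6
 Tr.leaf) 143479 6
 Tr.leaf)) 143481 5
 (Tr.node (Tr.node (Tr.node Tr.leaf 143482 5
 Tr.leaf) 143484 3
 Tr.leaf) 143487 6
 (Tr.node Tr.leaf 143491 6
 Tr.leaf))) 143493 6
 (Tr.node (Tr.node (Tr.node (Tr.node Tr.leaf 143494 6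
 Tr.leaf) 143499 6
 Tr.leaf) 143501 6
 (Tr.node Tr.leaf 143502 6
 Tr.leaf)) 143507 6
 (Tr.node (Tr.node (Tr.node Tr.leaf 143509 6
 Tr.leaf) 143510 6
 Tr.leaf) 143515 6
 (Tr.node Tr.leaf 143517 6
 Tr.leaf))))) 143518 6
 (Tr.node (Tr.node (Tr.node (Tr.node (Tr.node (Tr.node Tr.leaf 143521 6
 Tr.leaf) 143522 4
 Tr.leaf) 143524 6
 (Tr.node (Tr.node Tr.leaf 143527 5
 Tr.leaf) 143529 5
 Tr.leaf)) 143530 6
 (Tr.node (Tr.node (Tr.node Tr.leaf 143532 4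
 Tr.leaf) 143535 6
 Tr.leaf) 143537 6
 (Tr.node Tr.leaf 143538 5
 Tr.leaf))) 143540 5
 (Tr.node (Tr.node (Tr.node (Tr.node Tr.leaf 143543 5
 Tr.leaf) 143545 6
 Tr.leaf) 143546 6
 (Tr.node Tr.leaf 143548 6
 Tr.leaf)) 143551 5
 (Tr.node (Tr.node (Tr.node Tr.leaf 143553 6
 Tr.leaf) 143554 3
 Tr.leaf) 143556 5
 (Tr.node Tr.leaf 143559 6
 Tr.leaf)))) 143561 6
 (Tr.node (Tr.node (Tr.node (Tr.node (Tr.node Tr.leaf 143562 5
 Tr.leaf) 143564 6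
 Tr.leaf) 143567 6
 (Tr.node (Tr.node Tr.leaf 143569 6
 Tr.leaf) 143570 5
 Tr.leaf)) 143572 6
 (Tr.node (Tr.node (Tr.node Tr.leaf 143575 6
 Tr.leaf) 143577 5
 Tr.leaf) 143578 6
 (Tr.node Tr.leaf 143580 3
 Tr.leaf))) 143583 6
 (Tr.node (Tr.node (Tr.node (Tr.node Tr.leaf 143587 7
 Tr.leaf) 143589 6
 Tr.leaf) 143590 6
 (Tr.node Tr.leaf 143595 6
 Tr.leaf)) 143597 6
 (Tr.node (Tr.node (Tr.node Tr.leaf 143598 6
 Tr.leaf) 143603 6
 Tr.leaf) 143605 6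
 (Tr.node Tr.leaf 143606 5
 Tr.leaf))))))) 143611 6
 (Tr.node (Tr.node (Tr.node (Tr.node (Tr.node (Tr.node (Tr.node (Tr.node Tr.leaf 143613 6
 Tr.leaf) 143614 6
 Tr.leaf) 143617 4
 (Tr.node (Tr.node Tr.leaf 143618 4
 Tr.leaf) 143620 5
 Tr.leaf)) 143623 5
 (Tr.node (Tr.node (Tr.node Tr.leaf 143625 4
 Tr.leaf) 143626 4
 Tr.leaf) 143628 3
 (Tr.node Tr.leaf 143631 5
 Tr.leaf))) 143633 4
 (Tr.node (Tr.node (Tr.node (Tr.node Tr.leaf 143634 4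
 Tr.leaf) 143636 4
 Tr.leaf) 143639 6
 (Tr.node (Tr.node Tr.leaf 143641 4
 Tr.leaf) 143642 4
 Tr.leaf)) 143644 5
 (Tr.node (Tr.node (Tr.node Tr.leaf 143647 6
 Tr.leaf) 143651 6
 Tr.leaf) 143653 5
 (Tr.node Tr.leaf 143654 5
 Tr.leaf)))) 143659 5
 (Tr.node (Tr.node (Tr.node (Tr.node (Tr.node Tr.leaf 143661 6
 Tr.leaf) 143662 5
 Tr.leaf) 143667 5
 (Tr.node (Tr.node Tr.leaf 143669 6
 Tr.leaf) 143670 6
 Tr.leaf)) 143675 6
 (Tr.node (Tr.node (Tr.node Tr.leaf 143677 4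
 Tr.leaf) 143678 6
 Tr.leaf) 143683 7
 (Tr.node Tr.leaf 143685 6
 Tr.leaf))) 143686 6
 (Tr.node (Tr.node (Tr.node (Tr.node Tr.leaf 143691 6
 Tr.leaf) 143693 6
 Tr.leaf) 143694 6
 (Tr.node Tr.leaf 143699 3
 Tr.leaf)) 143701 5
 (Tr.node (Tr.node (Tr.node Tr.leaf 143702 6
 Tr.leaf) 143707 5
 Tr.leaf) 143709 6
 (Tr.node Tr.leaf 143710 6
 Tr.leaf))))) 143713 4
 (Tr.node (Tr.node (Tr.node (Tr.node (Tr.node (Tr.node Tr.leaf 143714 5
 Tr.leaf) 143716 4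
 Tr.leaf) 143719 6
 (Tr.node (Tr.node Tr.leaf 143721 4
 Tr.leaf) 143722 6
 Tr.leaf)) 143724 6
 (Tr.node (Tr.node (Tr.node Tr.leaf 143727 6
 Tr.leaf) 143729 5
 Tr.leaf) 143730 3
 (Tr.node Tr.leaf 143732 6
 Tr.leaf))) 143735 7
 (Tr.node (Tr.node (Tr.node (Tr.node Tr.leaf 143737 6
 Tr.leaf) 143738 6
 Tr.leaf) 143740 6
 (Tr.node Tr.leaf 143743 6
 Tr.leaf)) 143747 6
 (Tr.node (Tr.node (Tr.node Tr.leaf 143749 6
 Tr.leaf) 143750 6
 Tr.leaf) 143755 6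
 (Tr.node Tr.leaf 143757 6
 Tr.leaf)))) 143758 6
 (Tr.node (Tr.node (Tr.node (Tr.node (Tr.node Tr.leaf 143763 4
 Tr.leaf) 143765 6
 Tr.leaf) 143766 6
 (Tr.node (Tr.node Tr.leaf 143771 6
 Tr.leaf) 143773 6
 Tr.leaf)) 143774 6
 (Tr.node (Tr.node (Tr.node Tr.leaf 143777 6
 Tr.leaf) 143778 5
 Tr.leaf) 143780 6
 (Tr.node Tr.leaf 143783 6
 Tr.leaf))) 143785 5
 (Tr.node (Tr.node (Tr.node (Tr.node Tr.leaf 143786 6
 Tr.leaf) 143788 6
 Tr.leaf) 143791 6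
 (Tr.node Tr.leaf 143793 6
 Tr.leaf)) 143794 5
 (Tr.node (Tr.node (Tr.node Tr.leaf 143796 6
 Tr.leaf) 143799 6
 Tr.leaf) 143801 6
 (Tr.node Tr.leaf 143802 6
 Tr.leaf)))))) 143804 4
 (Tr.node (Tr.node (Tr.node (Tr.node (Tr.node (Tr.node (Tr.node Tr.leaf 143807 6
 Tr.leaf) 143809 4
 Tr.leaf) 143810 6
 (Tr.node (Tr.node Tr.leaf 143812 4
 Tr.leaf) 143815 6
 Tr.leaf)) 143817 7
 (Tr.node (Tr.node (Tr.node Tr.leaf 143818 6
 Tr.leaf) 143820 6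
 Tr.leaf) 143823 5
 (Tr.node Tr.leaf 143825 4
 Tr.leaf))) 143826 3
 (Tr.node (Tr.node (Tr.node (Tr.node Tr.leaf 143828 6
 Tr.leaf) 143831 6
 Tr.leaf) 143833 5
 (Tr.node (Tr.node Tr.leaf 143834 4
 Tr.leaf) 143836 4
 Tr.leaf)) 143839 6
 (Tr.node (Tr.node (Tr.node Tr.leaf 143843 6
 Tr.leaf) 143845 6
 Tr.leaf) 143846 6
 (Tr.node Tr.leaf 143851 7
 Tr.leaf)))) 143853 6
 (Tr.node (Tr.node (Tr.node (Tr.node (Tr.node Tr.leaf 143854 6
 Tr.leaf) 143859 6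
 Tr.leaf) 143861 5
 (Tr.node (Tr.node Tr.leaf 143862 6
 Tr.leaf) 143867 6
 Tr.leaf)) 143869 6
 (Tr.node (Tr.node (Tr.node Tr.leaf 143870 6
 Tr.leaf) 144389 6
 Tr.leaf) 144391 5
 (Tr.node Tr.leaf 144397 7
 Tr.leaf))) 144399 6
 (Tr.node (Tr.node (Tr.node (Tr.node Tr.leaf 144405 7
 Tr.leaf) 144407 4
 Tr.leaf) 144413 4
 (Tr.node Tr.leaf 144415 5
 Tr.leaf)) 144417 6
 (Tr.node (Tr.node (Tr.node Tr.leaf 144419 6
 Tr.leaf) 144425 6
 Tr.leaf) 144427 6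
 (Tr.node Tr.leaf 144433 5
 Tr.leaf))))) 144435 5
 (Tr.node (Tr.node (Tr.node (Tr.node (Tr.node (Tr.node Tr.leaf 144441 6
 Tr.leaf) 144443 6
 Tr.leaf) 144449 7
 (Tr.node (Tr.node Tr.leaf 144451 6
 Tr.leaf) 144457 5
 Tr.leaf)) 144459 6
 (Tr.node (Tr.node (Tr.node Tr.leaf 144465 6
 Tr.leaf) 144467 6
 Tr.leaf) 144473 6
 (Tr.node Tr.leaf 144475 4
 Tr.leaf))) 144485 6
 (Tr.node (Tr.node (Tr.node (Tr.node Tr.leaf 144487 6
 Tr.leaf) 144493 6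
 Tr.leaf) 144495 6
 (Tr.node Tr.leaf 144501 6
 Tr.leaf)) 144503 6
 (Tr.node (Tr.node (Tr.node Tr.leaf 144509 6
 Tr.leaf) 144511 6
 Tr.leaf) 144513 6
 (Tr.node Tr.leaf 144515 6
 Tr.leaf)))) 144521 4
 (Tr.node (Tr.node (Tr.node (Tr.node (Tr.node Tr.leaf 144523 6
 Tr.leaf) 144529 6
 Tr.leaf) 144531 6
 (Tr.node (Tr.node Tr.leaf 144537 7
 Tr.leaf) 144539 4
 Tr.leaf)) 144549 6
 (Tr.node (Tr.node (Tr.node Tr.leaf 144551 6
 Tr.leaf) 144557 6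
 Tr.leaf) 144559 6
 (Tr.node Tr.leaf 144565 6
 Tr.leaf))) 144567 6
 (Tr.node (Tr.node (Tr.node (Tr.node Tr.leaf 144573 6
 Tr.leaf) 144575 6
 Tr.leaf) 144581 6
 (Tr.node Tr.leaf 144583 6
 Tr.leaf)) 144589 5
 (Tr.node (Tr.node (Tr.node Tr.leaf 144591 6
 Tr.leaf) 144597 6
 Tr.leaf) 144599 5
 (Tr.node Tr.leaf 144605 6
 Tr.leaf)))))))) 144607 6
 (Tr.node (Tr.node (Tr.node (Tr.node (Tr.node (Tr.node (Tr.node (Tr.node (Tr.node Tr.leaf 144609 7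
 Tr.leaf) 144611 6
 Tr.leaf) 144617 6
 (Tr.node (Tr.node Tr.leaf 144619 6
 Tr.leaf) 144625 5
 Tr.leaf)) 144627 5
 (Tr.node (Tr.node (Tr.node Tr.leaf 144633 5
 Tr.leaf) 144635 6
 Tr.leaf) 144645 4
 (Tr.node Tr.leaf 144647 5
 Tr.leaf))) 144653 6
 (Tr.node (Tr.node (Tr.node (Tr.node Tr.leaf 144655 6
 Tr.leaf) 144661 6
 Tr.leaf) 144663 6
 (Tr.node (Tr.node Tr.leaf 144669 4
 Tr.leaf) 144671 6
 Tr.leaf)) 144673 5
 (Tr.node (Tr.node (Tr.node Tr.leaf 144675 6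
 Tr.leaf) 144681 6
 Tr.leaf) 144683 6
 (Tr.node Tr.leaf 144689 6
 Tr.leaf)))) 144691 6
 (Tr.node (Tr.node (Tr.node (Tr.node (Tr.node Tr.leaf 144697 4
 Tr.leaf) 144699 6
 Tr.leaf) 144705 6
 (Tr.node (Tr.node Tr.leaf 144707 4
 Tr.leaf) 144713 5
 Tr.leaf)) 144715 6
 (Tr.node (Tr.node (Tr.node Tr.leaf 144721 6
 Tr.leaf) 144723 5
 Tr.leaf) 144729 6
 (Tr.node Tr.leaf 144731 6
 Tr.leaf))) 144741 6
 (Tr.node (Tr.node (Tr.node (Tr.node Tr.leaf 144743 5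
 Tr.leaf) 144749 6
 Tr.leaf) 144751 7
 (Tr.node Tr.leaf 144757 6
 Tr.leaf)) 144759 6
 (Tr.node (Tr.node (Tr.node Tr.leaf 144765 5
 Tr.leaf) 144767 6
 Tr.leaf) 144769 6
 (Tr.node Tr.leaf 144771 4
 Tr.leaf))))) 144777 6
 (Tr.node (Tr.node (Tr.node (Tr.node (Tr.node (Tr.node Tr.leaf 144779 5
 Tr.leaf) 144785 6
 Tr.leaf) 144787 6
 (Tr.node (Tr.node Tr.leaf 144793 6
 Tr.leaf) 144795 6
 Tr.leaf)) 144805 6
 (Tr.node (Tr.node (Tr.node Tr.leaf 144807 5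
 Tr.leaf) 144813 5
 Tr.leaf) 144815 5
 (Tr.node Tr.leaf 144821 6
 Tr.leaf))) 144823 6
 (Tr.node (Tr.node (Tr.node (Tr.node Tr.leaf 144829 6
 Tr.leaf) 144831 7
 Tr.leaf) 144837 6
 (Tr.node Tr.leaf 144839 5
 Tr.leaf)) 144845 6
 (Tr.node (Tr.node (Tr.node Tr.leaf 144847 6
 Tr.leaf) 144853 6
 Tr.leaf) 144855 6
 (Tr.node Tr.leaf 144861 6
 Tr.leaf)))) 144863 6
 (Tr.node (Tr.node (Tr.node (Tr.node (Tr.node Tr.leaf 144865 6
 Tr.leaf) 144867 6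
 Tr.leaf) 144873 6
 (Tr.node (Tr.node Tr.leaf 144875 6
 Tr.leaf) 144881 6
 Tr.leaf)) 144883 6
 (Tr.node (Tr.node (Tr.node Tr.leaf 144889 6
 Tr.leaf) 144891 6
 Tr.leaf) 145411 5
 (Tr.node Tr.leaf 145415 6
 Tr.leaf))) 145419 6
 (Tr.node (Tr.node (Tr.node (Tr.node Tr.leaf 145423 4
 Tr.leaf) 145427 6
 Tr.leaf) 145431 5
 (Tr.node Tr.leaf 145435 6
 Tr.leaf)) 145439 6
 (Tr.node (Tr.node (Tr.node Tr.leaf 145441 6
 Tr.leaf) 145442 4
 Tr.leaf) 145445 5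
 (Tr.node Tr.leaf 145446 6
 Tr.leaf)))))) 145449 6
 (Tr.node (Tr.node (Tr.node (Tr.node (Tr.node (Tr.node (Tr.node Tr.leaf 145450 6
 Tr.leaf) 145453 7
 Tr.leaf) 145454 4
 (Tr.node (Tr.node Tr.leaf 145457 6
 Tr.leaf) 145458 6
 Tr.leaf)) 145461 5
 (Tr.node (Tr.node (Tr.node Tr.leaf 145462 5
 Tr.leaf) 145465 6
 Tr.leaf) 145466 6
 (Tr.node Tr.leaf 145469 6
 Tr.leaf))) 145470 6
 (Tr.node (Tr.node (Tr.node (Tr.node Tr.leaf 145473 6
 Tr.leaf) 145474 6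
 Tr.leaf) 145477 7
 (Tr.node (Tr.node Tr.leaf 145478 6
 Tr.leaf) 145481 6
 Tr.leaf)) 145482 5
 (Tr.node (Tr.node (Tr.node Tr.leaf 145485 5
 Tr.leaf) 145486 7
 Tr.leaf) 145489 6
 (Tr.node Tr.leaf 145490 6
 Tr.leaf)))) 145493 6
 (Tr.node (Tr.node (Tr.node (Tr.node (Tr.node Tr.leaf 145494 6
 Tr.leaf) 145497 6
 Tr.leaf) 145498 6
 (Tr.node (Tr.node Tr.leaf 145501 6
 Tr.leaf) 145502 6
 Tr.leaf)) 145507 6
 (Tr.node (Tr.node (Tr.node Tr.leaf 145511 6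
 Tr.leaf) 145515 6
 Tr.leaf) 145519 6
 (Tr.node Tr.leaf 145523 6
 Tr.leaf))) 145527 6
 (Tr.node (Tr.node (Tr.node (Tr.node Tr.leaf 145531 6
 Tr.leaf) 145535 6
 Tr.leaf) 145537 6
 (Tr.node Tr.leaf 145538 3
 Tr.leaf)) 145541 6
 (Tr.node (Tr.node (Tr.node Tr.leaf 145542 6
 Tr.leaf) 145545 6
 Tr.leaf) 145546 5
 (Tr.node Tr.leaf 145549 6
 Tr.leaf))))) 145550 6
 (Tr.node (Tr.node (Tr.node (Tr.node (Tr.node (Tr.node Tr.leaf 145553 6
 Tr.leaf) 145554 5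
 Tr.leaf) 145557 5
 (Tr.node (Tr.node Tr.leaf 145558 6
 Tr.leaf) 145561 6
 Tr.leaf)) 145562 4
 (Tr.node (Tr.node (Tr.node Tr.leaf 145565 6
 Tr.leaf) 145566 6
 Tr.leaf) 145571 6
 (Tr.node Tr.leaf 145575 5
 Tr.leaf))) 145579 6
 (Tr.node (Tr.node (Tr.node (Tr.node Tr.leaf 145583 5
 Tr.leaf) 145587 5
 Tr.leaf) 145591 5
 (Tr.node Tr.leaf 145595 6
 Tr.leaf)) 145599 6
 (Tr.node (Tr.node (Tr.node Tr.leaf 145603 6
 Tr.leaf) 145607 6
 Tr.leaf) 145611 5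
 (Tr.node Tr.leaf 145615 6
 Tr.leaf)))) 145619 6
 (Tr.node (Tr.node (Tr.node (Tr.node (Tr.node Tr.leaf 145623 5
 Tr.leaf) 145627 6
 Tr.leaf) 145631 6
 (Tr.node (Tr.node Tr.leaf 145633 6
 Tr.leaf) 145634 6
 Tr.leaf)) 145637 6
 (Tr.node (Tr.node (Tr.node Tr.leaf 145638 5
 Tr.leaf) 145641 5
 Tr.leaf) 145642 5
 (Tr.node Tr.leaf 145645 6
 Tr.leaf))) 145646 6
 (Tr.node (Tr.node (Tr.node (Tr.node Tr.leaf 145649 6
 Tr.leaf) 145650 6
 Tr.leaf) 145653 5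
 (Tr.node Tr.leaf 145654 5
 Tr.leaf)) 145657 6
 (Tr.node (Tr.node (Tr.node Tr.leaf 145658 5
 Tr.leaf) 145661 5
 Tr.leaf) 145662 6
 (Tr.node Tr.leaf 145667 6
 Tr.leaf))))))) 145671 6
 (Tr.node (Tr.node (Tr.node (Tr.node (Tr.node (Tr.node (Tr.node (Tr.node Tr.leaf 145675 4
 Tr.leaf) 145679 4
 Tr.leaf) 145683 6
 (Tr.node (Tr.node Tr.leaf 145687 6
 Tr.leaf) 145691 6
 Tr.leaf)) 145695 5
 (Tr.node (Tr.node (Tr.node Tr.leaf 145697 4
 Tr.leaf) 145698 5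
 Tr.leaf) 145701 7
 (Tr.node Tr.leaf 145702 6
 Tr.leaf))) 145705 5
 (Tr.node (Tr.node (Tr.node (Tr.node Tr.leaf 145706 4
 Tr.leaf) 145709 4
 Tr.leaf) 145710 6
 (Tr.node (Tr.node Tr.leaf 145713 6
 Tr.leaf) 145714 4
 Tr.leaf)) 145717 5
 (Tr.node (Tr.node (Tr.node Tr.leaf 145718 5
 Tr.leaf) 145721 6
 Tr.leaf) 145722 6
 (Tr.node Tr.leaf 145725 6
 Tr.leaf)))) 145726 5
 (Tr.node (Tr.node (Tr.node (Tr.node (Tr.node Tr.leaf 145729 4
 Tr.leaf) 145730 6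
 Tr.leaf) 145733 6
 (Tr.node (Tr.node Tr.leaf 145734 6
 Tr.leaf) 145737 5
 Tr.leaf)) 145738 6
 (Tr.node (Tr.node (Tr.node Tr.leaf 145741 6
 Tr.leaf) 145742 6
 Tr.leaf) 145745 4
 (Tr.node Tr.leaf 145746 7
 Tr.leaf))) 145749 6
 (Tr.node (Tr.node (Tr.node (Tr.node Tr.leaf 145750 6
 Tr.leaf) 145753 6
 Tr.leaf) 145754 5
 (Tr.node Tr.leaf 145757 5
 Tr.leaf)) 145758 6
 (Tr.node (Tr.node (Tr.node Tr.leaf 145763 6
 Tr.leaf) 145767 6
 Tr.leaf) 145771 6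
 (Tr.node Tr.leaf 145775 6
 Tr.leaf))))) 145779 6
 (Tr.node (Tr.node (Tr.node (Tr.node (Tr.node (Tr.node Tr.leaf 145783 6
 Tr.leaf) 145787 6
 Tr.leaf) 145791 6
 (Tr.node (Tr.node Tr.leaf 145793 5
 Tr.leaf) 145794 6
 Tr.leaf)) 145797 6
 (Tr.node (Tr.node (Tr.node Tr.leaf 145798 5
 Tr.leaf) 145801 5
 Tr.leaf) 145802 6
 (Tr.node Tr.leaf 145805 5
 Tr.leaf))) 145806 5
 (Tr.node (Tr.node (Tr.node (Tr.node Tr.leaf 145809 6
 Tr.leaf) 145810 6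
 Tr.leaf) 145813 6
 (Tr.node Tr.leaf 145814 4
 Tr.leaf)) 145817 6
 (Tr.node (Tr.node (Tr.node Tr.leaf 145818 5
 Tr.leaf) 145821 5
 Tr.leaf) 145822 3
 (Tr.node Tr.leaf 145827 6
 Tr.leaf)))) 145831 6
 (Tr.node (Tr.node (Tr.node (Tr.node (Tr.node Tr.leaf 145835 6
 Tr.leaf) 145839 6
 Tr.leaf) 145843 6
 (Tr.node (Tr.node Tr.leaf 145847 6
 Tr.leaf) 145851 6
 Tr.leaf)) 145855 6
 (Tr.node (Tr.node (Tr.node Tr.leaf 145859 6
 Tr.leaf) 145863 6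
 Tr.leaf) 145867 5
 (Tr.node Tr.leaf 145871 6
 Tr.leaf))) 145875 6
 (Tr.node (Tr.node (Tr.node (Tr.node Tr.leaf 145879 6
 Tr.leaf) 145883 5
 Tr.leaf) 145887 6
 (Tr.node Tr.leaf 145889 6
 Tr.leaf)) 145890 6
 (Tr.node (Tr.node (Tr.node Tr.leaf 145893 6
 Tr.leaf) 145894 6
 Tr.leaf) 145897 6
 (Tr.node Tr.leaf 145898 5
 Tr.leaf)))))) 145901 6
 (Tr.node (Tr.node (Tr.node (Tr.node (Tr.node (Tr.node (Tr.node Tr.leaf 145902 6
 Tr.leaf) 145905 5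
 Tr.leaf) 145906 6
 (Tr.node (Tr.node Tr.leaf 145909 6
 Tr.leaf) 145910 5
 Tr.leaf)) 145913 6
 (Tr.node (Tr.node (Tr.node Tr.leaf 145914 5
 Tr.leaf) 145917 6
 Tr.leaf) 145918 6
 (Tr.node Tr.leaf 146433 4
 Tr.leaf))) 146435 4
 (Tr.node (Tr.node (Tr.node (Tr.node Tr.leaf 146437 4
 Tr.leaf) 146439 6
 Tr.leaf) 146441 6
 (Tr.node (Tr.node Tr.leaf 146443 6
 Tr.leaf) 146445 5
 Tr.leaf)) 146447 5
 (Tr.node (Tr.node (Tr.node Tr.leaf 146449 6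
 Tr.leaf) 146451 6
 Tr.leaf) 146453 5
 (Tr.node Tr.leaf 146455 4
 Tr.leaf)))) 146457 4
 (Tr.node (Tr.node (Tr.node (Tr.node (Tr.node Tr.leaf 146459 6
 Tr.leaf) 146461 6
 Tr.leaf) 146463 6
 (Tr.node (Tr.node Tr.leaf 146529 6
 Tr.leaf) 146531 6
 Tr.leaf)) 146533 6
 (Tr.node (Tr.node (Tr.node Tr.leaf 146535 6
 Tr.leaf) 146537 6
 Tr.leaf) 146539 6
 (Tr.node Tr.leaf 146541 6
 Tr.leaf))) 146543 6
 (Tr.node (Tr.node (Tr.node (Tr.node Tr.leaf 146545 6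
 Tr.leaf) 146547 6
 Tr.leaf) 146549 6
 (Tr.node Tr.leaf 146551 5
 Tr.leaf)) 146553 5
 (Tr.node (Tr.node (Tr.node Tr.leaf 146555 5
 Tr.leaf) 146557 6
 Tr.leaf) 146559 6
 (Tr.node Tr.leaf 146593 6
 Tr.leaf))))) 146595 6
 (Tr.node (Tr.node (Tr.node (Tr.node (Tr.node (Tr.node Tr.leaf 146597 6
 Tr.leaf) 146599 6
 Tr.leaf) 146601 6
 (Tr.node (Tr.node Tr.leaf 146603 5
 Tr.leaf) 146605 6
 Tr.leaf)) 146607 6
 (Tr.node (Tr.node (Tr.node Tr.leaf 146609 5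
 Tr.leaf) 146611 5
 Tr.leaf) 146613 5
 (Tr.node Tr.leaf 146615 6
 Tr.leaf))) 146617 6
 (Tr.node (Tr.node (Tr.node (Tr.node Tr.leaf 146619 5
 Tr.leaf) 146621 6
 Tr.leaf) 146623 5
 (Tr.node Tr.leaf 146625 5
 Tr.leaf)) 146627 6
 (Tr.node (Tr.node (Tr.node Tr.leaf 146629 6
 Tr.leaf) 146631 5
 Tr.leaf) 146633 6
 (Tr.node Tr.leaf 146635 5
 Tr.leaf)))) 146637 5
 (Tr.node (Tr.node (Tr.node (Tr.node (Tr.node Tr.leaf 146639 6
 Tr.leaf) 146641 6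
 Tr.leaf) 146643 6
 (Tr.node (Tr.node Tr.leaf 146645 6
 Tr.leaf) 146647 6
 Tr.leaf)) 146649 5
 (Tr.node (Tr.node (Tr.node Tr.leaf 146651 6
 Tr.leaf) 146653 6
 Tr.leaf) 146655 6
 (Tr.node Tr.leaf 146689 4
 Tr.leaf))) 146691 5
 (Tr.node (Tr.node (Tr.node (Tr.node Tr.leaf 146693 6
 Tr.leaf) 146695 6
 Tr.leaf) 146697 5
 (Tr.node Tr.leaf 146699 5
 Tr.leaf)) 146701 6
 (Tr.node (Tr.node (Tr.node Tr.leaf 146703 6
 Tr.leaf) 146705 5
 Tr.leaf) 146707 5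
 (Tr.node Tr.leaf 146709 6
 Tr.leaf)))))))))

/-- A subtree. -/
def tr2_s36 : Tr := (Tr.node (Tr.node (Tr.node (Tr.node (Tr.node (Tr.node (Tr.node (Tr.node (Tr.node (Tr.node Tr.leaf 146713 6
 Tr.leaf) 146715 5
 Tr.leaf) 146717 4
 (Tr.node (Tr.node Tr.leaf 146719 5
 Tr.leaf) 146785 5
 Tr.leaf)) 146787 5
 (Tr.node (Tr.node (Tr.node Tr.leaf 146789 6
 Tr.leaf) 146791 6
 Tr.leaf) 146793 6
 (Tr.node Tr.leaf 146795 6
 Tr.leaf))) 146797 6
 (Tr.node (Tr.node (Tr.node (Tr.node Tr.leaf 146799 6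
 Tr.leaf) 146801 6
 Tr.leaf) 146803 7
 (Tr.node (Tr.node Tr.leaf 146805 5
 Tr.leaf) 146807 6
 Tr.leaf)) 146809 5
 (Tr.node (Tr.node (Tr.node Tr.leaf 146811 5
 Tr.leaf) 146813 6
 Tr.leaf) 146815 6
 (Tr.node Tr.leaf 146849 5
 Tr.leaf)))) 146851 6
 (Tr.node (Tr.node (Tr.node (Tr.node (Tr.node Tr.leaf 146853 6
 Tr.leaf) 146855 6
 Tr.leaf) 146857 5
 (Tr.node (Tr.node Tr.leaf 146859 6
 Tr.leaf) 146861 6
 Tr.leaf)) 146863 5
 (Tr.node (Tr.node (Tr.node Tr.leaf 146865 5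
 Tr.leaf) 146867 6
 Tr.leaf) 146869 6
 (Tr.node Tr.leaf 146871 6
 Tr.leaf))) 146873 6
 (Tr.node (Tr.node (Tr.node (Tr.node Tr.leaf 146875 6
 Tr.leaf) 146877 7
 Tr.leaf) 146879 6
 (Tr.node Tr.leaf 146881 6
 Tr.leaf)) 146883 6
 (Tr.node (Tr.node (Tr.node Tr.leaf 146885 6
 Tr.leaf) 146887 6
 Tr.leaf) 146889 5
 (Tr.node Tr.leaf 146891 6
 Tr.leaf))))) 146893 6
 (Tr.node (Tr.node (Tr.node (Tr.node (Tr.node (Tr.node Tr.leaf 146895 6
 Tr.leaf) 146897 6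
 Tr.leaf) 146899 5
 (Tr.node (Tr.node Tr.leaf 146901 6
 Tr.leaf) 146903 6
 Tr.leaf)) 146905 6
 (Tr.node (Tr.node (Tr.node Tr.leaf 146907 6
 Tr.leaf) 146909 5
 Tr.leaf) 146911 6
 (Tr.node Tr.leaf 147459 5
 Tr.leaf))) 147461 4
 (Tr.node (Tr.node (Tr.node (Tr.node Tr.leaf 147462 4
 Tr.leaf) 147465 5
 Tr.leaf) 147466 4
 (Tr.node (Tr.node Tr.leaf 147468 5
 Tr.leaf) 147471 6
 Tr.leaf)) 147473 3
 (Tr.node (Tr.node (Tr.node Tr.leaf 147474 5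
 Tr.leaf) 147476 5
 Tr.leaf) 147479 4
 (Tr.node Tr.leaf 147480 4
 Tr.leaf)))) 147483 7
 (Tr.node (Tr.node (Tr.node (Tr.node (Tr.node Tr.leaf 147485 4
 Tr.leaf) 147486 6
 Tr.leaf) 147491 3
 (Tr.node (Tr.node Tr.leaf 147493 4
 Tr.leaf) 147494 4
 Tr.leaf)) 147497 6
 (Tr.node (Tr.node (Tr.node Tr.leaf 147498 3
 Tr.leaf) 147500 4
 Tr.leaf) 147503 5
 (Tr.node Tr.leaf 147505 3
 Tr.leaf))) 147506 6
 (Tr.node (Tr.node (Tr.node (Tr.node Tr.leaf 147508 4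
 Tr.leaf) 147511 6
 Tr.leaf) 147512 4
 (Tr.node Tr.leaf 147515 6
 Tr.leaf)) 147517 4
 (Tr.node (Tr.node (Tr.node Tr.leaf 147518 5
 Tr.leaf) 147521 6
 Tr.leaf) 147522 5
 (Tr.node Tr.leaf 147524 4
 Tr.leaf)))))) 147527 5
 (Tr.node (Tr.node (Tr.node (Tr.node (Tr.node (Tr.node (Tr.node Tr.leaf 147528 5
 Tr.leaf) 147531 6
 Tr.leaf) 147533 5
 (Tr.node (Tr.node Tr.leaf 147534 6
 Tr.leaf) 147536 6
 Tr.leaf)) 147539 6
 (Tr.node (Tr.node (Tr.node Tr.leaf 147541 5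
 Tr.leaf) 147542 5
 Tr.leaf) 147545 4
 (Tr.node Tr.leaf 147546 5
 Tr.leaf))) 147548 5
 (Tr.node (Tr.node (Tr.node (Tr.node Tr.leaf 147551 6
 Tr.leaf) 147553 6
 Tr.leaf) 147554 3
 (Tr.node (Tr.node Tr.leaf 147556 5
 Tr.leaf) 147559 5
 Tr.leaf)) 147560 4
 (Tr.node (Tr.node (Tr.node Tr.leaf 147563 6
 Tr.leaf) 147565 7
 Tr.leaf) 147566 6
 (Tr.node Tr.leaf 147568 6
 Tr.leaf)))) 147571 5
 (Tr.node (Tr.node (Tr.node (Tr.node (Tr.node Tr.leaf 147573 4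
 Tr.leaf) 147574 6
 Tr.leaf) 147577 5
 (Tr.node (Tr.node Tr.leaf 147578 6
 Tr.leaf) 147580 5
 Tr.leaf)) 147583 6
 (Tr.node (Tr.node (Tr.node Tr.leaf 147585 3
 Tr.leaf) 147586 6
 Tr.leaf) 147588 4
 (Tr.node Tr.leaf 147591 5
 Tr.leaf))) 147592 6
 (Tr.node (Tr.node (Tr.node (Tr.node Tr.leaf 147595 5
 Tr.leaf) 147597 6
 Tr.leaf) 147598 5
 (Tr.node Tr.leaf 147600 3
 Tr.leaf)) 147603 6
 (Tr.node (Tr.node (Tr.node Tr.leaf 147605 6
 Tr.leaf) 147606 6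
 Tr.leaf) 147609 6
 (Tr.node Tr.leaf 147610 5
 Tr.leaf))))) 147612 5
 (Tr.node (Tr.node (Tr.node (Tr.node (Tr.node (Tr.node Tr.leaf 147615 6
 Tr.leaf) 147617 4
 Tr.leaf) 147618 6
 (Tr.node (Tr.node Tr.leaf 147620 5
 Tr.leaf) 147623 6
 Tr.leaf)) 147624 6
 (Tr.node (Tr.node (Tr.node Tr.leaf 147627 5
 Tr.leaf) 147629 4
 Tr.leaf) 147630 6
 (Tr.node Tr.leaf 147632 3
 Tr.leaf))) 147635 6
 (Tr.node (Tr.node (Tr.node (Tr.node Tr.leaf 147637 6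
 Tr.leaf) 147638 5
 Tr.leaf) 147641 4
 (Tr.node Tr.leaf 147642 5
 Tr.leaf)) 147644 4
 (Tr.node (Tr.node (Tr.node Tr.leaf 147647 6
 Tr.leaf) 147651 5
 Tr.leaf) 147653 6
 (Tr.node Tr.leaf 147654 6
 Tr.leaf)))) 147657 5
 (Tr.node (Tr.node (Tr.node (Tr.node (Tr.node Tr.leaf 147658 5
 Tr.leaf) 147660 5
 Tr.leaf) 147663 6
 (Tr.node (Tr.node Tr.leaf 147665 6
 Tr.leaf) 147666 6
 Tr.leaf)) 147668 6
 (Tr.node (Tr.node (Tr.node Tr.leaf 147671 6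
 Tr.leaf) 147672 6
 Tr.leaf) 147675 6
 (Tr.node Tr.leaf 147677 6
 Tr.leaf))) 147678 6
 (Tr.node (Tr.node (Tr.node (Tr.node Tr.leaf 147683 6
 Tr.leaf) 147685 4
 Tr.leaf) 147686 5
 (Tr.node Tr.leaf 147689 5
 Tr.leaf)) 147690 6
 (Tr.node (Tr.node (Tr.node Tr.leaf 147692 5
 Tr.leaf) 147695 6
 Tr.leaf) 147697 4
 (Tr.node Tr.leaf 147698 5
 Tr.leaf))))))) 147700 4
 (Tr.node (Tr.node (Tr.node (Tr.node (Tr.node (Tr.node (Tr.node (Tr.node Tr.leaf 147703 6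
 Tr.leaf) 147704 5
 Tr.leaf) 147707 4
 (Tr.node (Tr.node Tr.leaf 147709 5
 Tr.leaf) 147710 6
 Tr.leaf)) 147715 3
 (Tr.node (Tr.node (Tr.node Tr.leaf 147717 4
 Tr.leaf) 147718 4
 Tr.leaf) 147721 6
 (Tr.node Tr.leaf 147722 4
 Tr.leaf))) 147724 4
 (Tr.node (Tr.node (Tr.node (Tr.node Tr.leaf 147727 6
 Tr.leaf) 147729 4
 Tr.leaf) 147730 6
 (Tr.node (Tr.node Tr.leaf 147732 4
 Tr.leaf) 147735 6
 Tr.leaf)) 147736 4
 (Tr.node (Tr.node (Tr.node Tr.leaf 147739 5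
 Tr.leaf) 147741 6
 Tr.leaf) 147742 5
 (Tr.node Tr.leaf 147747 5
 Tr.leaf)))) 147749 5
 (Tr.node (Tr.node (Tr.node (Tr.node (Tr.node Tr.leaf 147750 4
 Tr.leaf) 147753 6
 Tr.leaf) 147754 4
 (Tr.node (Tr.node Tr.leaf 147756 4
 Tr.leaf) 147759 4
 Tr.leaf)) 147761 4
 (Tr.node (Tr.node (Tr.node Tr.leaf 147762 6
 Tr.leaf) 147764 4
 Tr.leaf) 147767 5
 (Tr.node Tr.leaf 147768 4
 Tr.leaf))) 147771 5
 (Tr.node (Tr.node (Tr.node (Tr.node Tr.leaf 147773 6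
 Tr.leaf) 147774 6
 Tr.leaf) 147777 6
 (Tr.node Tr.leaf 147778 5
 Tr.leaf)) 147780 5
 (Tr.node (Tr.node (Tr.node Tr.leaf 147783 6
 Tr.leaf) 147784 4
 Tr.leaf) 147787 6
 (Tr.node Tr.leaf 147789 6
 Tr.leaf))))) 147790 5
 (Tr.node (Tr.node (Tr.node (Tr.node (Tr.node (Tr.node Tr.leaf 147792 6
 Tr.leaf) 147795 5
 Tr.leaf) 147797 6
 (Tr.node (Tr.node Tr.leaf 147798 6
 Tr.leaf) 147801 4
 Tr.leaf)) 147802 6
 (Tr.node (Tr.node (Tr.node Tr.leaf 147804 5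
 Tr.leaf) 147807 6
 Tr.leaf) 147809 5
 (Tr.node Tr.leaf 147810 4
 Tr.leaf))) 147812 4
 (Tr.node (Tr.node (Tr.node (Tr.node Tr.leaf 147815 6
 Tr.leaf) 147816 5
 Tr.leaf) 147819 6
 (Tr.node Tr.leaf 147821 5
 Tr.leaf)) 147822 6
 (Tr.node (Tr.node (Tr.node Tr.leaf 147824 6
 Tr.leaf) 147827 5
 Tr.leaf) 147829 6
 (Tr.node Tr.leaf 147830 5
 Tr.leaf)))) 147833 5
 (Tr.node (Tr.node (Tr.node (Tr.node (Tr.node Tr.leaf 147834 4
 Tr.leaf) 147836 5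
 Tr.leaf) 147839 6
 (Tr.node (Tr.node Tr.leaf 147841 3
 Tr.leaf) 147842 6
 Tr.leaf)) 147844 5
 (Tr.node (Tr.node (Tr.node Tr.leaf 147847 6
 Tr.leaf) 147848 6
 Tr.leaf) 147851 5
 (Tr.node Tr.leaf 147853 6
 Tr.leaf))) 147854 6
 (Tr.node (Tr.node (Tr.node (Tr.node Tr.leaf 147856 3
 Tr.leaf) 147859 6
 Tr.leaf) 147861 6
 (Tr.node Tr.leaf 147862 5
 Tr.leaf)) 147865 6
 (Tr.node (Tr.node (Tr.node Tr.leaf 147866 4
 Tr.leaf) 147868 5
 Tr.leaf) 147871 6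
 (Tr.node Tr.leaf 147873 4
 Tr.leaf)))))) 147874 5
 (Tr.node (Tr.node (Tr.node (Tr.node (Tr.node (Tr.node (Tr.node Tr.leaf 147876 4
 Tr.leaf) 147879 4
 Tr.leaf) 147880 6
 (Tr.node (Tr.node Tr.leaf 147883 6
 Tr.leaf) 147885 4
 Tr.leaf)) 147886 5
 (Tr.node (Tr.node (Tr.node Tr.leaf 147888 3
 Tr.leaf) 147891 6
 Tr.leaf) 147893 6
 (Tr.node Tr.leaf 147894 6
 Tr.leaf))) 147897 6
 (Tr.node (Tr.node (Tr.node (Tr.node Tr.leaf 147898 6
 Tr.leaf) 147900 6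
 Tr.leaf) 147903 6
 (Tr.node (Tr.node Tr.leaf 147907 5
 Tr.leaf) 147909 6
 Tr.leaf)) 147910 5
 (Tr.node (Tr.node (Tr.node Tr.leaf 147913 4
 Tr.leaf) 147914 6
 Tr.leaf) 147916 5
 (Tr.node Tr.leaf 147919 6
 Tr.leaf)))) 147921 6
 (Tr.node (Tr.node (Tr.node (Tr.node (Tr.node Tr.leaf 147922 5
 Tr.leaf) 147924 5
 Tr.leaf) 147927 6
 (Tr.node (Tr.node Tr.leaf 147928 5
 Tr.leaf) 147931 4
 Tr.leaf)) 147933 5
 (Tr.node (Tr.node (Tr.node Tr.leaf 147934 5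
 Tr.leaf) 147939 6
 Tr.leaf) 147941 5
 (Tr.node Tr.leaf 147942 6
 Tr.leaf))) 147945 4
 (Tr.node (Tr.node (Tr.node (Tr.node Tr.leaf 147946 6
 Tr.leaf) 147948 5
 Tr.leaf) 147951 6
 (Tr.node Tr.leaf 147953 6
 Tr.leaf)) 147954 5
 (Tr.node (Tr.node (Tr.node Tr.leaf 147956 5
 Tr.leaf) 147959 6
 Tr.leaf) 147960 6
 (Tr.node Tr.leaf 147963 6
 Tr.leaf))))) 147965 6
 (Tr.node (Tr.node (Tr.node (Tr.node (Tr.node (Tr.node Tr.leaf 147966 6
 Tr.leaf) 148481 5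
 Tr.leaf) 148483 3
 (Tr.node (Tr.node Tr.leaf 148493 4
 Tr.leaf) 148495 6
 Tr.leaf)) 148501 6
 (Tr.node (Tr.node (Tr.node Tr.leaf 148503 5
 Tr.leaf) 148505 4
 Tr.leaf) 148507 6
 (Tr.node Tr.leaf 148513 4
 Tr.leaf))) 148515 4
 (Tr.node (Tr.node (Tr.node (Tr.node Tr.leaf 148525 6
 Tr.leaf) 148527 5
 Tr.leaf) 148533 4
 (Tr.node Tr.leaf 148535 6
 Tr.leaf)) 148537 4
 (Tr.node (Tr.node (Tr.node Tr.leaf 148539 6
 Tr.leaf) 148549 5
 Tr.leaf) 148551 5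
 (Tr.node Tr.leaf 148553 6
 Tr.leaf)))) 148555 5
 (Tr.node (Tr.node (Tr.node (Tr.node (Tr.node Tr.leaf 148561 6
 Tr.leaf) 148563 6
 Tr.leaf) 148573 6
 (Tr.node (Tr.node Tr.leaf 148575 6
 Tr.leaf) 148581 4
 Tr.leaf)) 148583 6
 (Tr.node (Tr.node (Tr.node Tr.leaf 148585 6
 Tr.leaf) 148587 6
 Tr.leaf) 148593 6
 (Tr.node Tr.leaf 148595 6
 Tr.leaf))) 148605 5
 (Tr.node (Tr.node (Tr.node (Tr.node Tr.leaf 148607 6
 Tr.leaf) 148613 5
 Tr.leaf) 148615 5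
 (Tr.node Tr.leaf 148617 6
 Tr.leaf)) 148619 6
 (Tr.node (Tr.node (Tr.node Tr.leaf 148625 6
 Tr.leaf) 148627 6
 Tr.leaf) 148637 6
 (Tr.node Tr.leaf 148639 6
 Tr.leaf)))))))) 148645 6
 (Tr.node (Tr.node (Tr.node (Tr.node (Tr.node (Tr.node (Tr.node (Tr.node (Tr.node Tr.leaf 148647 4
 Tr.leaf) 148649 6
 Tr.leaf) 148651 6
 (Tr.node (Tr.node Tr.leaf 148657 6
 Tr.leaf) 148659 6
 Tr.leaf)) 148669 6
 (Tr.node (Tr.node (Tr.node Tr.leaf 148671 5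
 Tr.leaf) 148673 6
 Tr.leaf) 148675 6
 (Tr.node Tr.leaf 148685 6
 Tr.leaf))) 148687 6
 (Tr.node (Tr.node (Tr.node (Tr.node Tr.leaf 148693 6
 Tr.leaf) 148695 6
 Tr.leaf) 148697 6
 (Tr.node (Tr.node Tr.leaf 148699 6
 Tr.leaf) 148705 6
 Tr.leaf)) 148707 4
 (Tr.node (Tr.node (Tr.node Tr.leaf 148717 6
 Tr.leaf) 148719 5
 Tr.leaf) 148725 5
 (Tr.node Tr.leaf 148727 6
 Tr.leaf)))) 148729 6
 (Tr.node (Tr.node (Tr.node (Tr.node (Tr.node Tr.leaf 148731 6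
 Tr.leaf) 148737 4
 Tr.leaf) 148739 4
 (Tr.node (Tr.node Tr.leaf 148749 6
 Tr.leaf) 148751 5
 Tr.leaf)) 148757 6
 (Tr.node (Tr.node (Tr.node Tr.leaf 148759 6
 Tr.leaf) 148761 4
 Tr.leaf) 148763 6
 (Tr.node Tr.leaf 148769 3
 Tr.leaf))) 148771 5
 (Tr.node (Tr.node (Tr.node (Tr.node Tr.leaf 148781 5
 Tr.leaf) 148783 5
 Tr.leaf) 148789 6
 (Tr.node Tr.leaf 148791 4
 Tr.leaf)) 148793 6
 (Tr.node (Tr.node (Tr.node Tr.leaf 148795 6
 Tr.leaf) 148805 4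
 Tr.leaf) 148807 6
 (Tr.node Tr.leaf 148809 4
 Tr.leaf))))) 148811 4
 (Tr.node (Tr.node (Tr.node (Tr.node (Tr.node (Tr.node Tr.leaf 148817 6
 Tr.leaf) 148819 6
 Tr.leaf) 148829 6
 (Tr.node (Tr.node Tr.leaf 148831 6
 Tr.leaf) 148837 6
 Tr.leaf)) 148839 4
 (Tr.node (Tr.node (Tr.node Tr.leaf 148841 5
 Tr.leaf) 148843 6
 Tr.leaf) 148849 6
 (Tr.node Tr.leaf 148851 6
 Tr.leaf))) 148861 6
 (Tr.node (Tr.node (Tr.node (Tr.node Tr.leaf 148863 6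
 Tr.leaf) 148869 5
 Tr.leaf) 148871 6
 (Tr.node (Tr.node Tr.leaf 148873 6
 Tr.leaf) 148875 6
 Tr.leaf)) 148881 4
 (Tr.node (Tr.node (Tr.node Tr.leaf 148883 5
 Tr.leaf) 148893 6
 Tr.leaf) 148895 6
 (Tr.node Tr.leaf 148901 6
 Tr.leaf)))) 148903 6
 (Tr.node (Tr.node (Tr.node (Tr.node (Tr.node Tr.leaf 148905 6
 Tr.leaf) 148907 6
 Tr.leaf) 148913 6
 (Tr.node (Tr.node Tr.leaf 148915 7
 Tr.leaf) 148925 6
 Tr.leaf)) 148927 6
 (Tr.node (Tr.node (Tr.node Tr.leaf 148929 6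
 Tr.leaf) 148931 5
 Tr.leaf) 148941 6
 (Tr.node Tr.leaf 148943 6
 Tr.leaf))) 148949 6
 (Tr.node (Tr.node (Tr.node (Tr.node Tr.leaf 148951 6
 Tr.leaf) 148953 5
 Tr.leaf) 148955 5
 (Tr.node Tr.leaf 148961 6
 Tr.leaf)) 148963 4
 (Tr.node (Tr.node (Tr.node Tr.leaf 148973 6
 Tr.leaf) 148975 5
 Tr.leaf) 148981 6
 (Tr.node Tr.leaf 148983 6
 Tr.leaf)))))) 148985 6
 (Tr.node (Tr.node (Tr.node (Tr.node (Tr.node (Tr.node (Tr.node Tr.leaf 148987 6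
 Tr.leaf) 149505 4
 Tr.leaf) 149506 4
 (Tr.node (Tr.node Tr.leaf 149509 4
 Tr.leaf) 149510 5
 Tr.leaf)) 149515 6
 (Tr.node (Tr.node (Tr.node Tr.leaf 149519 6
 Tr.leaf) 149523 4
 Tr.leaf) 149527 6
 (Tr.node Tr.leaf 149529 6
 Tr.leaf))) 149530 6
 (Tr.node (Tr.node (Tr.node (Tr.node Tr.leaf 149533 6
 Tr.leaf) 149534 6
 Tr.leaf) 149537 5
 (Tr.node (Tr.node Tr.leaf 149538 5
 Tr.leaf) 149541 4
 Tr.leaf)) 149542 4
 (Tr.node (Tr.node (Tr.node Tr.leaf 149547 6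
 Tr.leaf) 149551 6
 Tr.leaf) 149555 6
 (Tr.node Tr.leaf 149559 5
 Tr.leaf)))) 149561 6
 (Tr.node (Tr.node (Tr.node (Tr.node (Tr.node Tr.leaf 149562 6
 Tr.leaf) 149565 5
 Tr.leaf) 149566 3
 (Tr.node (Tr.node Tr.leaf 149571 6
 Tr.leaf) 149575 4
 Tr.leaf)) 149577 5
 (Tr.node (Tr.node (Tr.node Tr.leaf 149578 7
 Tr.leaf) 149581 6
 Tr.leaf) 149582 6
 (Tr.node Tr.leaf 149585 6
 Tr.leaf))) 149586 5
 (Tr.node (Tr.node (Tr.node (Tr.node Tr.leaf 149589 6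
 Tr.leaf) 149590 6
 Tr.leaf) 149595 6
 (Tr.node Tr.leaf 149599 6
 Tr.leaf)) 149603 6
 (Tr.node (Tr.node (Tr.node Tr.leaf 149607 6
 Tr.leaf) 149609 6
 Tr.leaf) 149610 6
 (Tr.node Tr.leaf 149613 6
 Tr.leaf))))) 149614 6
 (Tr.node (Tr.node (Tr.node (Tr.node (Tr.node (Tr.node Tr.leaf 149617 6
 Tr.leaf) 149618 5
 Tr.leaf) 149621 6
 (Tr.node (Tr.node Tr.leaf 149622 5
 Tr.leaf) 149627 6
 Tr.leaf)) 149631 6
 (Tr.node (Tr.node (Tr.node Tr.leaf 149635 5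
 Tr.leaf) 149639 6
 Tr.leaf) 149641 6
 (Tr.node Tr.leaf 149642 4
 Tr.leaf))) 149645 4
 (Tr.node (Tr.node (Tr.node (Tr.node Tr.leaf 149646 6
 Tr.leaf) 149649 6
 Tr.leaf) 149650 6
 (Tr.node Tr.leaf 149653 6
 Tr.leaf)) 149654 6
 (Tr.node (Tr.node (Tr.node Tr.leaf 149659 7
 Tr.leaf) 149663 6
 Tr.leaf) 149667 6
 (Tr.node Tr.leaf 149671 6
 Tr.leaf)))) 149673 6
 (Tr.node (Tr.node (Tr.node (Tr.node (Tr.node Tr.leaf 149674 5
 Tr.leaf) 149677 6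
 Tr.leaf) 149678 5
 (Tr.node (Tr.node Tr.leaf 149681 5
 Tr.leaf) 149682 6
 Tr.leaf)) 149685 5
 (Tr.node (Tr.node (Tr.node Tr.leaf 149686 6
 Tr.leaf) 149691 6
 Tr.leaf) 149695 5
 (Tr.node Tr.leaf 149697 6
 Tr.leaf))) 149698 6
 (Tr.node (Tr.node (Tr.node (Tr.node Tr.leaf 149701 6
 Tr.leaf) 149702 4
 Tr.leaf) 149707 6
 (Tr.node Tr.leaf 149711 6
 Tr.leaf)) 149715 6
 (Tr.node (Tr.node (Tr.node Tr.leaf 149719 6
 Tr.leaf) 149721 6
 Tr.leaf) 149722 6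
 (Tr.node Tr.leaf 149725 6
 Tr.leaf))))))) 149726 6
 (Tr.node (Tr.node (Tr.node (Tr.node (Tr.node (Tr.node (Tr.node (Tr.node Tr.leaf 149729 5
 Tr.leaf) 149730 3
 Tr.leaf) 149733 6
 (Tr.node (Tr.node Tr.leaf 149734 6
 Tr.leaf) 149739 6
 Tr.leaf)) 149743 6
 (Tr.node (Tr.node (Tr.node Tr.leaf 149747 5
 Tr.leaf) 149751 6
 Tr.leaf) 149753 6
 (Tr.node Tr.leaf 149754 5
 Tr.leaf))) 149757 6
 (Tr.node (Tr.node (Tr.node (Tr.node Tr.leaf 149758 6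
 Tr.leaf) 149761 5
 Tr.leaf) 149762 5
 (Tr.node (Tr.node Tr.leaf 149765 4
 Tr.leaf) 149766 4
 Tr.leaf)) 149771 6
 (Tr.node (Tr.node (Tr.node Tr.leaf 149775 6
 Tr.leaf) 149779 6
 Tr.leaf) 149783 6
 (Tr.node Tr.leaf 149785 5
 Tr.leaf)))) 149786 3
 (Tr.node (Tr.node (Tr.node (Tr.node (Tr.node Tr.leaf 149789 5
 Tr.leaf) 149790 6
 Tr.leaf) 149793 4
 (Tr.node (Tr.node Tr.leaf 149794 4
 Tr.leaf) 149797 4
 Tr.leaf)) 149798 4
 (Tr.node (Tr.node (Tr.node Tr.leaf 149803 4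
 Tr.leaf) 149807 6
 Tr.leaf) 149811 6
 (Tr.node Tr.leaf 149815 6
 Tr.leaf))) 149817 6
 (Tr.node (Tr.node (Tr.node (Tr.node Tr.leaf 149818 5
 Tr.leaf) 149821 6
 Tr.leaf) 149822 6
 (Tr.node Tr.leaf 149827 6
 Tr.leaf)) 149831 6
 (Tr.node (Tr.node (Tr.node Tr.leaf 149833 6
 Tr.leaf) 149834 4
 Tr.leaf) 149837 6
 (Tr.node Tr.leaf 149838 4
 Tr.leaf))))) 149841 4
 (Tr.node (Tr.node (Tr.node (Tr.node (Tr.node (Tr.node Tr.leaf 149842 5
 Tr.leaf) 149845 6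
 Tr.leaf) 149846 6
 (Tr.node (Tr.node Tr.leaf 149851 6
 Tr.leaf) 149855 6
 Tr.leaf)) 149859 6
 (Tr.node (Tr.node (Tr.node Tr.leaf 149863 6
 Tr.leaf) 149865 6
 Tr.leaf) 149866 6
 (Tr.node Tr.leaf 149869 5
 Tr.leaf))) 149870 6
 (Tr.node (Tr.node (Tr.node (Tr.node Tr.leaf 149873 4
 Tr.leaf) 149874 6
 Tr.leaf) 149877 6
 (Tr.node Tr.leaf 149878 4
 Tr.leaf)) 149883 6
 (Tr.node (Tr.node (Tr.node Tr.leaf 149887 6
 Tr.leaf) 149891 6
 Tr.leaf) 149895 5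
 (Tr.node Tr.leaf 149897 7
 Tr.leaf)))) 149898 6
 (Tr.node (Tr.node (Tr.node (Tr.node (Tr.node Tr.leaf 149901 4
 Tr.leaf) 149902 4
 Tr.leaf) 149905 4
 (Tr.node (Tr.node Tr.leaf 149906 6
 Tr.leaf) 149909 5
 Tr.leaf)) 149910 6
 (Tr.node (Tr.node (Tr.node Tr.leaf 149915 6
 Tr.leaf) 149919 6
 Tr.leaf) 149923 6
 (Tr.node Tr.leaf 149927 4
 Tr.leaf))) 149929 6
 (Tr.node (Tr.node (Tr.node (Tr.node Tr.leaf 149930 6
 Tr.leaf) 149933 6
 Tr.leaf) 149934 6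
 (Tr.node Tr.leaf 149937 6
 Tr.leaf)) 149938 6
 (Tr.node (Tr.node (Tr.node Tr.leaf 149941 7
 Tr.leaf) 149942 6
 Tr.leaf) 149947 6
 (Tr.node Tr.leaf 149951 6
 Tr.leaf)))))) 149953 4
 (Tr.node (Tr.node (Tr.node (Tr.node (Tr.node (Tr.node (Tr.node Tr.leaf 149954 6
 Tr.leaf) 149957 5
 Tr.leaf) 149958 4
 (Tr.node (Tr.node Tr.leaf 149963 6
 Tr.leaf) 149967 6
 Tr.leaf)) 149971 6
 (Tr.node (Tr.node (Tr.node Tr.leaf 149975 6
 Tr.leaf) 149977 6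
 Tr.leaf) 149978 5
 (Tr.node Tr.leaf 149981 6
 Tr.leaf))) 149982 5
 (Tr.node (Tr.node (Tr.node (Tr.node Tr.leaf 149985 7
 Tr.leaf) 149986 5
 Tr.leaf) 149989 6
 (Tr.node (Tr.node Tr.leaf 149990 6
 Tr.leaf) 149995 6
 Tr.leaf)) 149999 6
 (Tr.node (Tr.node (Tr.node Tr.leaf 150003 6
 Tr.leaf) 150007 6
 Tr.leaf) 150009 6
 (Tr.node Tr.leaf 150010 6
 Tr.leaf)))) 150013 6
 (Tr.node (Tr.node (Tr.node (Tr.node (Tr.node Tr.leaf 150014 6
 Tr.leaf) 150537 6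
 Tr.leaf) 150539 5
 (Tr.node (Tr.node Tr.leaf 150541 4
 Tr.leaf) 150543 6
 Tr.leaf)) 150545 6
 (Tr.node (Tr.node (Tr.node Tr.leaf 150547 6
 Tr.leaf) 150549 5
 Tr.leaf) 150551 6
 (Tr.node Tr.leaf 150569 6
 Tr.leaf))) 150571 4
 (Tr.node (Tr.node (Tr.node (Tr.node Tr.leaf 150573 6
 Tr.leaf) 150575 6
 Tr.leaf) 150577 6
 (Tr.node Tr.leaf 150579 5
 Tr.leaf)) 150581 4
 (Tr.node (Tr.node (Tr.node Tr.leaf 150583 5
 Tr.leaf) 150593 6
 Tr.leaf) 150595 6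
 (Tr.node Tr.leaf 150597 6
 Tr.leaf))))) 150599 6
 (Tr.node (Tr.node (Tr.node (Tr.node (Tr.node (Tr.node Tr.leaf 150617 7
 Tr.leaf) 150619 5
 Tr.leaf) 150621 6
 (Tr.node (Tr.node Tr.leaf 150623 6
 Tr.leaf) 150625 6
 Tr.leaf)) 150627 6
 (Tr.node (Tr.node (Tr.node Tr.leaf 150629 5
 Tr.leaf) 150631 6
 Tr.leaf) 150649 6
 (Tr.node Tr.leaf 150651 5
 Tr.leaf))) 150653 6
 (Tr.node (Tr.node (Tr.node (Tr.node Tr.leaf 150655 6
 Tr.leaf) 150657 6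
 Tr.leaf) 150659 6
 (Tr.node Tr.leaf 150661 4
 Tr.leaf)) 150663 6
 (Tr.node (Tr.node (Tr.node Tr.leaf 150681 6
 Tr.leaf) 150683 6
 Tr.leaf) 150685 6
 (Tr.node Tr.leaf 150687 6
 Tr.leaf)))) 150689 5
 (Tr.node (Tr.node (Tr.node (Tr.node (Tr.node Tr.leaf 150691 4
 Tr.leaf) 150693 6
 Tr.leaf) 150695 6
 (Tr.node (Tr.node Tr.leaf 150713 6
 Tr.leaf) 150715 5
 Tr.leaf)) 150717 5
 (Tr.node (Tr.node (Tr.node Tr.leaf 150719 6
 Tr.leaf) 150729 6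
 Tr.leaf) 150731 6
 (Tr.node Tr.leaf 150733 6
 Tr.leaf))) 150735 6
 (Tr.node (Tr.node (Tr.node (Tr.node Tr.leaf 150737 6
 Tr.leaf) 150739 7
 Tr.leaf) 150741 6
 (Tr.node Tr.leaf 150743 6
 Tr.leaf)) 150761 6
 (Tr.node (Tr.node (Tr.node Tr.leaf 150763 6
 Tr.leaf) 150765 5
 Tr.leaf) 150767 6
 (Tr.node Tr.leaf 150769 6
 Tr.leaf)))))))))

/-- A subtree. -/
def tr2_s37 : Tr := (Tr.node (Tr.node (Tr.node (Tr.node (Tr.node (Tr.node (Tr.node (Tr.node (Tr.node (Tr.node Tr.leaf 150773 6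
 Tr.leaf) 150775 6
 Tr.leaf) 150793 6
 (Tr.node (Tr.node Tr.leaf 150795 6
 Tr.leaf) 150797 7
 Tr.leaf)) 150799 4
 (Tr.node (Tr.node (Tr.node Tr.leaf 150801 4
 Tr.leaf) 150803 6
 Tr.leaf) 150805 4
 (Tr.node Tr.leaf 150807 7
 Tr.leaf))) 150825 6
 (Tr.node (Tr.node (Tr.node (Tr.node Tr.leaf 150827 6
 Tr.leaf) 150829 6
 Tr.leaf) 150831 6
 (Tr.node (Tr.node Tr.leaf 150833 6
 Tr.leaf) 150835 4
 Tr.leaf)) 150837 7
 (Tr.node (Tr.node (Tr.node Tr.leaf 150839 6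
 Tr.leaf) 150849 4
 Tr.leaf) 150851 6
 (Tr.node Tr.leaf 150853 6
 Tr.leaf)))) 150855 6
 (Tr.node (Tr.node (Tr.node (Tr.node (Tr.node Tr.leaf 150873 6
 Tr.leaf) 150875 5
 Tr.leaf) 150877 6
 (Tr.node (Tr.node Tr.leaf 150879 6
 Tr.leaf) 150881 6
 Tr.leaf)) 150883 5
 (Tr.node (Tr.node (Tr.node Tr.leaf 150885 5
 Tr.leaf) 150887 6
 Tr.leaf) 150905 6
 (Tr.node Tr.leaf 150907 6
 Tr.leaf))) 150909 6
 (Tr.node (Tr.node (Tr.node (Tr.node Tr.leaf 150911 6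
 Tr.leaf) 150913 6
 Tr.leaf) 150915 5
 (Tr.node Tr.leaf 150917 6
 Tr.leaf)) 150919 5
 (Tr.node (Tr.node (Tr.node Tr.leaf 150937 6
 Tr.leaf) 150939 6
 Tr.leaf) 150941 6
 (Tr.node Tr.leaf 150943 5
 Tr.leaf))))) 150945 6
 (Tr.node (Tr.node (Tr.node (Tr.node (Tr.node (Tr.node Tr.leaf 150947 6
 Tr.leaf) 150949 6
 Tr.leaf) 150951 7
 (Tr.node (Tr.node Tr.leaf 150969 6
 Tr.leaf) 150971 6
 Tr.leaf)) 150973 6
 (Tr.node (Tr.node (Tr.node Tr.leaf 150975 6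
 Tr.leaf) 150985 6
 Tr.leaf) 150987 6
 (Tr.node Tr.leaf 150989 5
 Tr.leaf))) 150991 6
 (Tr.node (Tr.node (Tr.node (Tr.node Tr.leaf 150993 5
 Tr.leaf) 150995 6
 Tr.leaf) 150997 6
 (Tr.node (Tr.node Tr.leaf 150999 6
 Tr.leaf) 151017 6
 Tr.leaf)) 151019 6
 (Tr.node (Tr.node (Tr.node Tr.leaf 151021 5
 Tr.leaf) 151023 7
 Tr.leaf) 151025 6
 (Tr.node Tr.leaf 151027 6
 Tr.leaf)))) 151029 6
 (Tr.node (Tr.node (Tr.node (Tr.node (Tr.node Tr.leaf 151031 6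
 Tr.leaf) 151553 6
 Tr.leaf) 151554 4
 (Tr.node (Tr.node Tr.leaf 151556 4
 Tr.leaf) 151559 6
 Tr.leaf)) 151561 6
 (Tr.node (Tr.node (Tr.node Tr.leaf 151562 5
 Tr.leaf) 151564 5
 Tr.leaf) 151567 6
 (Tr.node Tr.leaf 151571 4
 Tr.leaf))) 151573 5
 (Tr.node (Tr.node (Tr.node (Tr.node Tr.leaf 151574 5
 Tr.leaf) 151579 6
 Tr.leaf) 151581 6
 (Tr.node Tr.leaf 151582 6
 Tr.leaf)) 151585 6
 (Tr.node (Tr.node (Tr.node Tr.leaf 151586 4
 Tr.leaf) 151588 4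
 Tr.leaf) 151591 6
 (Tr.node Tr.leaf 151593 6
 Tr.leaf)))))) 151594 5
 (Tr.node (Tr.node (Tr.node (Tr.node (Tr.node (Tr.node (Tr.node Tr.leaf 151596 4
 Tr.leaf) 151599 6
 Tr.leaf) 151603 6
 (Tr.node (Tr.node Tr.leaf 151605 6
 Tr.leaf) 151606 5
 Tr.leaf)) 151611 6
 (Tr.node (Tr.node (Tr.node Tr.leaf 151613 6
 Tr.leaf) 151614 5
 Tr.leaf) 151619 5
 (Tr.node Tr.leaf 151621 6
 Tr.leaf))) 151622 4
 (Tr.node (Tr.node (Tr.node (Tr.node Tr.leaf 151627 6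
 Tr.leaf) 151629 6
 Tr.leaf) 151630 5
 (Tr.node (Tr.node Tr.leaf 151633 5
 Tr.leaf) 151634 6
 Tr.leaf)) 151636 4
 (Tr.node (Tr.node (Tr.node Tr.leaf 151639 6
 Tr.leaf) 151641 6
 Tr.leaf) 151642 6
 (Tr.node Tr.leaf 151644 6
 Tr.leaf)))) 151647 6
 (Tr.node (Tr.node (Tr.node (Tr.node (Tr.node Tr.leaf 151651 5
 Tr.leaf) 151653 6
 Tr.leaf) 151654 6
 (Tr.node (Tr.node Tr.leaf 151659 6
 Tr.leaf) 151661 6
 Tr.leaf)) 151662 4
 (Tr.node (Tr.node (Tr.node Tr.leaf 151665 5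
 Tr.leaf) 151666 6
 Tr.leaf) 151668 3
 (Tr.node Tr.leaf 151671 6
 Tr.leaf))) 151673 6
 (Tr.node (Tr.node (Tr.node (Tr.node Tr.leaf 151674 6
 Tr.leaf) 151676 6
 Tr.leaf) 151679 5
 (Tr.node Tr.leaf 151683 6
 Tr.leaf)) 151685 6
 (Tr.node (Tr.node (Tr.node Tr.leaf 151686 5
 Tr.leaf) 151691 6
 Tr.leaf) 151693 4
 (Tr.node Tr.leaf 151694 6
 Tr.leaf))))) 151697 6
 (Tr.node (Tr.node (Tr.node (Tr.node (Tr.node (Tr.node Tr.leaf 151698 6
 Tr.leaf) 151700 6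
 Tr.leaf) 151703 6
 (Tr.node (Tr.node Tr.leaf 151705 6
 Tr.leaf) 151706 6
 Tr.leaf)) 151708 6
 (Tr.node (Tr.node (Tr.node Tr.leaf 151711 6
 Tr.leaf) 151715 6
 Tr.leaf) 151717 6
 (Tr.node Tr.leaf 151718 6
 Tr.leaf))) 151723 6
 (Tr.node (Tr.node (Tr.node (Tr.node Tr.leaf 151725 6
 Tr.leaf) 151726 6
 Tr.leaf) 151729 5
 (Tr.node Tr.leaf 151730 6
 Tr.leaf)) 151732 6
 (Tr.node (Tr.node (Tr.node Tr.leaf 151735 6
 Tr.leaf) 151737 4
 Tr.leaf) 151738 4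
 (Tr.node Tr.leaf 151740 5
 Tr.leaf)))) 151743 5
 (Tr.node (Tr.node (Tr.node (Tr.node (Tr.node Tr.leaf 151745 6
 Tr.leaf) 151746 6
 Tr.leaf) 151748 6
 (Tr.node (Tr.node Tr.leaf 151751 5
 Tr.leaf) 151753 6
 Tr.leaf)) 151754 6
 (Tr.node (Tr.node (Tr.node Tr.leaf 151756 6
 Tr.leaf) 151759 6
 Tr.leaf) 151763 6
 (Tr.node Tr.leaf 151765 6
 Tr.leaf))) 151766 6
 (Tr.node (Tr.node (Tr.node (Tr.node Tr.leaf 151771 6
 Tr.leaf) 151773 6
 Tr.leaf) 151774 6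
 (Tr.node Tr.leaf 151777 6
 Tr.leaf)) 151778 3
 (Tr.node (Tr.node (Tr.node Tr.leaf 151780 6
 Tr.leaf) 151783 5
 Tr.leaf) 151785 4
 (Tr.node Tr.leaf 151786 6
 Tr.leaf))))))) 151788 5
 (Tr.node (Tr.node (Tr.node (Tr.node (Tr.node (Tr.node (Tr.node (Tr.node Tr.leaf 151791 6
 Tr.leaf) 151795 6
 Tr.leaf) 151797 7
 (Tr.node (Tr.node Tr.leaf 151798 4
 Tr.leaf) 151803 6
 Tr.leaf)) 151805 5
 (Tr.node (Tr.node (Tr.node Tr.leaf 151806 6
 Tr.leaf) 151809 6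
 Tr.leaf) 151810 5
 (Tr.node Tr.leaf 151812 4
 Tr.leaf))) 151815 6
 (Tr.node (Tr.node (Tr.node (Tr.node Tr.leaf 151817 6
 Tr.leaf) 151818 4
 Tr.leaf) 151820 4
 (Tr.node (Tr.node Tr.leaf 151823 6
 Tr.leaf) 151827 6
 Tr.leaf)) 151829 6
 (Tr.node (Tr.node (Tr.node Tr.leaf 151830 6
 Tr.leaf) 151835 6
 Tr.leaf) 151837 6
 (Tr.node Tr.leaf 151838 4
 Tr.leaf)))) 151841 6
 (Tr.node (Tr.node (Tr.node (Tr.node (Tr.node Tr.leaf 151842 5
 Tr.leaf) 151844 3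
 Tr.leaf) 151847 4
 (Tr.node (Tr.node Tr.leaf 151849 5
 Tr.leaf) 151850 4
 Tr.leaf)) 151852 4
 (Tr.node (Tr.node (Tr.node Tr.leaf 151855 6
 Tr.leaf) 151859 4
 Tr.leaf) 151861 5
 (Tr.node Tr.leaf 151862 6
 Tr.leaf))) 151867 6
 (Tr.node (Tr.node (Tr.node (Tr.node Tr.leaf 151869 5
 Tr.leaf) 151870 6
 Tr.leaf) 151875 6
 (Tr.node Tr.leaf 151877 6
 Tr.leaf)) 151878 6
 (Tr.node (Tr.node (Tr.node Tr.leaf 151883 5
 Tr.leaf) 151885 6
 Tr.leaf) 151886 6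
 (Tr.node Tr.leaf 151889 5
 Tr.leaf))))) 151890 6
 (Tr.node (Tr.node (Tr.node (Tr.node (Tr.node (Tr.node Tr.leaf 151892 6
 Tr.leaf) 151895 6
 Tr.leaf) 151897 4
 (Tr.node (Tr.node Tr.leaf 151898 4
 Tr.leaf) 151900 3
 Tr.leaf)) 151903 6
 (Tr.node (Tr.node (Tr.node Tr.leaf 151907 5
 Tr.leaf) 151909 5
 Tr.leaf) 151910 4
 (Tr.node Tr.leaf 151915 6
 Tr.leaf))) 151917 6
 (Tr.node (Tr.node (Tr.node (Tr.node Tr.leaf 151918 5
 Tr.leaf) 151921 6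
 Tr.leaf) 151922 5
 (Tr.node Tr.leaf 151924 6
 Tr.leaf)) 151927 6
 (Tr.node (Tr.node (Tr.node Tr.leaf 151929 6
 Tr.leaf) 151930 6
 Tr.leaf) 151932 6
 (Tr.node Tr.leaf 151935 6
 Tr.leaf)))) 151939 6
 (Tr.node (Tr.node (Tr.node (Tr.node (Tr.node Tr.leaf 151941 6
 Tr.leaf) 151942 5
 Tr.leaf) 151947 5
 (Tr.node (Tr.node Tr.leaf 151949 6
 Tr.leaf) 151950 6
 Tr.leaf)) 151953 6
 (Tr.node (Tr.node (Tr.node Tr.leaf 151954 6
 Tr.leaf) 151956 5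
 Tr.leaf) 151959 5
 (Tr.node Tr.leaf 151961 6
 Tr.leaf))) 151962 7
 (Tr.node (Tr.node (Tr.node (Tr.node Tr.leaf 151964 6
 Tr.leaf) 151967 5
 Tr.leaf) 151971 6
 (Tr.node Tr.leaf 151973 6
 Tr.leaf)) 151974 6
 (Tr.node (Tr.node (Tr.node Tr.leaf 151979 6
 Tr.leaf) 151981 6
 Tr.leaf) 151982 6
 (Tr.node Tr.leaf 151985 6
 Tr.leaf)))))) 151986 6
 (Tr.node (Tr.node (Tr.node (Tr.node (Tr.node (Tr.node (Tr.node Tr.leaf 151988 5
 Tr.leaf) 151991 6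
 Tr.leaf) 151993 6
 (Tr.node (Tr.node Tr.leaf 151994 5
 Tr.leaf) 151996 6
 Tr.leaf)) 151999 6
 (Tr.node (Tr.node (Tr.node Tr.leaf 152001 5
 Tr.leaf) 152002 6
 Tr.leaf) 152004 6
 (Tr.node Tr.leaf 152007 6
 Tr.leaf))) 152009 5
 (Tr.node (Tr.node (Tr.node (Tr.node Tr.leaf 152010 3
 Tr.leaf) 152012 6
 Tr.leaf) 152015 6
 (Tr.node (Tr.node Tr.leaf 152019 5
 Tr.leaf) 152021 6
 Tr.leaf)) 152022 6
 (Tr.node (Tr.node (Tr.node Tr.leaf 152027 6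
 Tr.leaf) 152029 5
 Tr.leaf) 152030 6
 (Tr.node Tr.leaf 152033 7
 Tr.leaf)))) 152034 6
 (Tr.node (Tr.node (Tr.node (Tr.node (Tr.node Tr.leaf 152036 5
 Tr.leaf) 152039 6
 Tr.leaf) 152041 6
 (Tr.node (Tr.node Tr.leaf 152042 6
 Tr.leaf) 152044 6
 Tr.leaf)) 152047 6
 (Tr.node (Tr.node (Tr.node Tr.leaf 152051 6
 Tr.leaf) 152053 6
 Tr.leaf) 152054 5
 (Tr.node Tr.leaf 152059 6
 Tr.leaf))) 152061 6
 (Tr.node (Tr.node (Tr.node (Tr.node Tr.leaf 152062 5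
 Tr.leaf) 152581 6
 Tr.leaf) 152583 6
 (Tr.node Tr.leaf 152589 4
 Tr.leaf)) 152591 6
 (Tr.node (Tr.node (Tr.node Tr.leaf 152593 6
 Tr.leaf) 152595 6
 Tr.leaf) 152601 6
 (Tr.node Tr.leaf 152603 5
 Tr.leaf))))) 152613 6
 (Tr.node (Tr.node (Tr.node (Tr.node (Tr.node (Tr.node Tr.leaf 152615 4
 Tr.leaf) 152621 6
 Tr.leaf) 152623 6
 (Tr.node (Tr.node Tr.leaf 152625 5
 Tr.leaf) 152627 6
 Tr.leaf)) 152633 6
 (Tr.node (Tr.node (Tr.node Tr.leaf 152635 4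
 Tr.leaf) 152641 5
 Tr.leaf) 152643 6
 (Tr.node Tr.leaf 152649 6
 Tr.leaf))) 152651 6
 (Tr.node (Tr.node (Tr.node (Tr.node Tr.leaf 152661 6
 Tr.leaf) 152663 5
 Tr.leaf) 152669 6
 (Tr.node Tr.leaf 152671 6
 Tr.leaf)) 152673 7
 (Tr.node (Tr.node (Tr.node Tr.leaf 152675 6
 Tr.leaf) 152681 4
 Tr.leaf) 152683 4
 (Tr.node Tr.leaf 152693 6
 Tr.leaf)))) 152695 6
 (Tr.node (Tr.node (Tr.node (Tr.node (Tr.node Tr.leaf 152701 7
 Tr.leaf) 152703 6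
 Tr.leaf) 152705 6
 (Tr.node (Tr.node Tr.leaf 152707 5
 Tr.leaf) 152713 7
 Tr.leaf)) 152715 6
 (Tr.node (Tr.node (Tr.node Tr.leaf 152725 6
 Tr.leaf) 152727 6
 Tr.leaf) 152733 6
 (Tr.node Tr.leaf 152735 6
 Tr.leaf))) 152737 6
 (Tr.node (Tr.node (Tr.node (Tr.node Tr.leaf 152739 6
 Tr.leaf) 152745 6
 Tr.leaf) 152747 6
 (Tr.node Tr.leaf 152757 6
 Tr.leaf)) 152759 6
 (Tr.node (Tr.node (Tr.node Tr.leaf 152765 5
 Tr.leaf) 152767 6
 Tr.leaf) 152773 5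
 (Tr.node Tr.leaf 152775 6
 Tr.leaf)))))))) 152781 5
 (Tr.node (Tr.node (Tr.node (Tr.node (Tr.node (Tr.node (Tr.node (Tr.node (Tr.node Tr.leaf 152783 6
 Tr.leaf) 152785 6
 Tr.leaf) 152787 6
 (Tr.node (Tr.node Tr.leaf 152793 6
 Tr.leaf) 152795 6
 Tr.leaf)) 152805 6
 (Tr.node (Tr.node (Tr.node Tr.leaf 152807 5
 Tr.leaf) 152813 6
 Tr.leaf) 152815 6
 (Tr.node Tr.leaf 152817 6
 Tr.leaf))) 152819 6
 (Tr.node (Tr.node (Tr.node (Tr.node Tr.leaf 152825 6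
 Tr.leaf) 152827 6
 Tr.leaf) 152837 6
 (Tr.node (Tr.node Tr.leaf 152839 6
 Tr.leaf) 152845 6
 Tr.leaf)) 152847 4
 (Tr.node (Tr.node (Tr.node Tr.leaf 152849 6
 Tr.leaf) 152851 6
 Tr.leaf) 152857 6
 (Tr.node Tr.leaf 152859 4
 Tr.leaf)))) 152869 6
 (Tr.node (Tr.node (Tr.node (Tr.node (Tr.node Tr.leaf 152871 5
 Tr.leaf) 152877 5
 Tr.leaf) 152879 6
 (Tr.node (Tr.node Tr.leaf 152881 5
 Tr.leaf) 152883 6
 Tr.leaf)) 152889 6
 (Tr.node (Tr.node (Tr.node Tr.leaf 152891 4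
 Tr.leaf) 152897 7
 Tr.leaf) 152899 7
 (Tr.node Tr.leaf 152905 6
 Tr.leaf))) 152907 6
 (Tr.node (Tr.node (Tr.node (Tr.node Tr.leaf 152917 6
 Tr.leaf) 152919 5
 Tr.leaf) 152925 6
 (Tr.node Tr.leaf 152927 6
 Tr.leaf)) 152929 5
 (Tr.node (Tr.node (Tr.node Tr.leaf 152931 5
 Tr.leaf) 152937 6
 Tr.leaf) 152939 6
 (Tr.node Tr.leaf 152949 6
 Tr.leaf))))) 152951 6
 (Tr.node (Tr.node (Tr.node (Tr.node (Tr.node (Tr.node Tr.leaf 152957 6
 Tr.leaf) 152959 6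
 Tr.leaf) 152961 6
 (Tr.node (Tr.node Tr.leaf 152963 6
 Tr.leaf) 152969 6
 Tr.leaf)) 152971 5
 (Tr.node (Tr.node (Tr.node Tr.leaf 152981 6
 Tr.leaf) 152983 6
 Tr.leaf) 152989 6
 (Tr.node Tr.leaf 152991 7
 Tr.leaf))) 152993 6
 (Tr.node (Tr.node (Tr.node (Tr.node Tr.leaf 152995 6
 Tr.leaf) 153001 6
 Tr.leaf) 153003 6
 (Tr.node Tr.leaf 153013 6
 Tr.leaf)) 153015 6
 (Tr.node (Tr.node (Tr.node Tr.leaf 153021 6
 Tr.leaf) 153023 6
 Tr.leaf) 153029 5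
 (Tr.node Tr.leaf 153031 6
 Tr.leaf)))) 153037 6
 (Tr.node (Tr.node (Tr.node (Tr.node (Tr.node Tr.leaf 153039 6
 Tr.leaf) 153041 6
 Tr.leaf) 153043 5
 (Tr.node (Tr.node Tr.leaf 153049 6
 Tr.leaf) 153051 6
 Tr.leaf)) 153061 6
 (Tr.node (Tr.node (Tr.node Tr.leaf 153063 6
 Tr.leaf) 153069 5
 Tr.leaf) 153071 6
 (Tr.node Tr.leaf 153073 6
 Tr.leaf))) 153075 6
 (Tr.node (Tr.node (Tr.node (Tr.node Tr.leaf 153081 6
 Tr.leaf) 153083 6
 Tr.leaf) 153603 6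
 (Tr.node Tr.leaf 153607 6
 Tr.leaf)) 153611 5
 (Tr.node (Tr.node (Tr.node Tr.leaf 153615 5
 Tr.leaf) 153617 4
 Tr.leaf) 153618 6
 (Tr.node Tr.leaf 153621 6
 Tr.leaf)))))) 153622 6
 (Tr.node (Tr.node (Tr.node (Tr.node (Tr.node (Tr.node (Tr.node Tr.leaf 153625 6
 Tr.leaf) 153626 4
 Tr.leaf) 153629 5
 (Tr.node (Tr.node Tr.leaf 153630 6
 Tr.leaf) 153635 6
 Tr.leaf)) 153639 6
 (Tr.node (Tr.node (Tr.node Tr.leaf 153643 6
 Tr.leaf) 153647 6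
 Tr.leaf) 153649 6
 (Tr.node Tr.leaf 153650 5
 Tr.leaf))) 153653 6
 (Tr.node (Tr.node (Tr.node (Tr.node Tr.leaf 153654 6
 Tr.leaf) 153657 6
 Tr.leaf) 153658 4
 (Tr.node (Tr.node Tr.leaf 153661 4
 Tr.leaf) 153662 6
 Tr.leaf)) 153665 6
 (Tr.node (Tr.node (Tr.node Tr.leaf 153666 5
 Tr.leaf) 153669 6
 Tr.leaf) 153670 4
 (Tr.node Tr.leaf 153673 6
 Tr.leaf)))) 153674 5
 (Tr.node (Tr.node (Tr.node (Tr.node (Tr.node Tr.leaf 153677 6
 Tr.leaf) 153678 6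
 Tr.leaf) 153683 6
 (Tr.node (Tr.node Tr.leaf 153687 6
 Tr.leaf) 153691 6
 Tr.leaf)) 153695 6
 (Tr.node (Tr.node (Tr.node Tr.leaf 153697 6
 Tr.leaf) 153698 6
 Tr.leaf) 153701 6
 (Tr.node Tr.leaf 153702 6
 Tr.leaf))) 153705 6
 (Tr.node (Tr.node (Tr.node (Tr.node Tr.leaf 153706 4
 Tr.leaf) 153709 6
 Tr.leaf) 153710 5
 (Tr.node Tr.leaf 153715 6
 Tr.leaf)) 153719 5
 (Tr.node (Tr.node (Tr.node Tr.leaf 153723 6
 Tr.leaf) 153727 6
 Tr.leaf) 153729 6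
 (Tr.node Tr.leaf 153730 6
 Tr.leaf))))) 153733 6
 (Tr.node (Tr.node (Tr.node (Tr.node (Tr.node (Tr.node Tr.leaf 153734 6
 Tr.leaf) 153737 6
 Tr.leaf) 153738 3
 (Tr.node (Tr.node Tr.leaf 153741 6
 Tr.leaf) 153742 6
 Tr.leaf)) 153747 6
 (Tr.node (Tr.node (Tr.node Tr.leaf 153751 6
 Tr.leaf) 153755 6
 Tr.leaf) 153759 6
 (Tr.node Tr.leaf 153761 6
 Tr.leaf))) 153762 3
 (Tr.node (Tr.node (Tr.node (Tr.node Tr.leaf 153765 6
 Tr.leaf) 153766 6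
 Tr.leaf) 153769 4
 (Tr.node Tr.leaf 153770 5
 Tr.leaf)) 153773 5
 (Tr.node (Tr.node (Tr.node Tr.leaf 153774 6
 Tr.leaf) 153779 5
 Tr.leaf) 153783 5
 (Tr.node Tr.leaf 153787 6
 Tr.leaf)))) 153791 6
 (Tr.node (Tr.node (Tr.node (Tr.node (Tr.node Tr.leaf 153795 6
 Tr.leaf) 153799 6
 Tr.leaf) 153803 6
 (Tr.node (Tr.node Tr.leaf 153807 6
 Tr.leaf) 153809 5
 Tr.leaf)) 153810 6
 (Tr.node (Tr.node (Tr.node Tr.leaf 153813 5
 Tr.leaf) 153814 6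
 Tr.leaf) 153817 6
 (Tr.node Tr.leaf 153818 6
 Tr.leaf))) 153821 6
 (Tr.node (Tr.node (Tr.node (Tr.node Tr.leaf 153822 6
 Tr.leaf) 153827 6
 Tr.leaf) 153831 6
 (Tr.node Tr.leaf 153835 6
 Tr.leaf)) 153839 6
 (Tr.node (Tr.node (Tr.node Tr.leaf 153841 6
 Tr.leaf) 153842 6
 Tr.leaf) 153845 6
 (Tr.node Tr.leaf 153846 5
 Tr.leaf))))))) 153849 5
 (Tr.node (Tr.node (Tr.node (Tr.node (Tr.node (Tr.node (Tr.node (Tr.node Tr.leaf 153850 5
 Tr.leaf) 153853 6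
 Tr.leaf) 153854 5
 (Tr.node (Tr.node Tr.leaf 153859 6
 Tr.leaf) 153863 6
 Tr.leaf)) 153867 6
 (Tr.node (Tr.node (Tr.node Tr.leaf 153871 6
 Tr.leaf) 153873 7
 Tr.leaf) 153874 6
 (Tr.node Tr.leaf 153877 7
 Tr.leaf))) 153878 5
 (Tr.node (Tr.node (Tr.node (Tr.node Tr.leaf 153881 5
 Tr.leaf) 153882 6
 Tr.leaf) 153885 6
 (Tr.node (Tr.node Tr.leaf 153886 6
 Tr.leaf) 153891 5
 Tr.leaf)) 153895 5
 (Tr.node (Tr.node (Tr.node Tr.leaf 153899 4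
 Tr.leaf) 153903 5
 Tr.leaf) 153905 6
 (Tr.node Tr.leaf 153906 6
 Tr.leaf)))) 153909 7
 (Tr.node (Tr.node (Tr.node (Tr.node (Tr.node Tr.leaf 153910 4
 Tr.leaf) 153913 4
 Tr.leaf) 153914 6
 (Tr.node (Tr.node Tr.leaf 153917 6
 Tr.leaf) 153918 6
 Tr.leaf)) 153921 7
 (Tr.node (Tr.node (Tr.node Tr.leaf 153922 6
 Tr.leaf) 153925 6
 Tr.leaf) 153926 6
 (Tr.node Tr.leaf 153929 6
 Tr.leaf))) 153930 5
 (Tr.node (Tr.node (Tr.node (Tr.node Tr.leaf 153933 5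
 Tr.leaf) 153934 6
 Tr.leaf) 153939 6
 (Tr.node Tr.leaf 153943 6
 Tr.leaf)) 153947 6
 (Tr.node (Tr.node (Tr.node Tr.leaf 153951 6
 Tr.leaf) 153953 6
 Tr.leaf) 153954 5
 (Tr.node Tr.leaf 153957 5
 Tr.leaf))))) 153958 4
 (Tr.node (Tr.node (Tr.node (Tr.node (Tr.node (Tr.node Tr.leaf 153961 6
 Tr.leaf) 153962 5
 Tr.leaf) 153965 6
 (Tr.node (Tr.node Tr.leaf 153966 6
 Tr.leaf) 153971 6
 Tr.leaf)) 153975 6
 (Tr.node (Tr.node (Tr.node Tr.leaf 153979 6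
 Tr.leaf) 153983 6
 Tr.leaf) 153985 4
 (Tr.node Tr.leaf 153986 6
 Tr.leaf))) 153989 7
 (Tr.node (Tr.node (Tr.node (Tr.node Tr.leaf 153990 5
 Tr.leaf) 153993 6
 Tr.leaf) 153994 6
 (Tr.node Tr.leaf 153997 5
 Tr.leaf)) 153998 4
 (Tr.node (Tr.node (Tr.node Tr.leaf 154003 6
 Tr.leaf) 154007 6
 Tr.leaf) 154011 7
 (Tr.node Tr.leaf 154015 6
 Tr.leaf)))) 154017 6
 (Tr.node (Tr.node (Tr.node (Tr.node (Tr.node Tr.leaf 154018 6
 Tr.leaf) 154021 4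
 Tr.leaf) 154022 3
 (Tr.node (Tr.node Tr.leaf 154025 6
 Tr.leaf) 154026 6
 Tr.leaf)) 154029 6
 (Tr.node (Tr.node (Tr.node Tr.leaf 154030 4
 Tr.leaf) 154035 6
 Tr.leaf) 154039 6
 (Tr.node Tr.leaf 154043 6
 Tr.leaf))) 154047 6
 (Tr.node (Tr.node (Tr.node (Tr.node Tr.leaf 154051 6
 Tr.leaf) 154055 6
 Tr.leaf) 154059 5
 (Tr.node Tr.leaf 154063 6
 Tr.leaf)) 154065 5
 (Tr.node (Tr.node (Tr.node Tr.leaf 154066 6
 Tr.leaf) 154069 6
 Tr.leaf) 154070 5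
 (Tr.node Tr.leaf 154073 6
 Tr.leaf)))))) 154074 5
 (Tr.node (Tr.node (Tr.node (Tr.node (Tr.node (Tr.node (Tr.node Tr.leaf 154077 5
 Tr.leaf) 154078 6
 Tr.leaf) 154083 6
 (Tr.node (Tr.node Tr.leaf 154087 7
 Tr.leaf) 154091 6
 Tr.leaf)) 154095 6
 (Tr.node (Tr.node (Tr.node Tr.leaf 154097 6
 Tr.leaf) 154098 6
 Tr.leaf) 154101 6
 (Tr.node Tr.leaf 154102 6
 Tr.leaf))) 154105 6
 (Tr.node (Tr.node (Tr.node (Tr.node Tr.leaf 154106 5
 Tr.leaf) 154109 6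
 Tr.leaf) 154110 6
 (Tr.node (Tr.node Tr.leaf 154625 5
 Tr.leaf) 154627 5
 Tr.leaf)) 154629 4
 (Tr.node (Tr.node (Tr.node Tr.leaf 154631 6
 Tr.leaf) 154633 4
 Tr.leaf) 154635 6
 (Tr.node Tr.leaf 154637 6
 Tr.leaf)))) 154639 6
 (Tr.node (Tr.node (Tr.node (Tr.node (Tr.node Tr.leaf 154657 5
 Tr.leaf) 154659 6
 Tr.leaf) 154661 7
 (Tr.node (Tr.node Tr.leaf 154663 4
 Tr.leaf) 154665 6
 Tr.leaf)) 154667 4
 (Tr.node (Tr.node (Tr.node Tr.leaf 154669 6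
 Tr.leaf) 154671 4
 Tr.leaf) 154705 6
 (Tr.node Tr.leaf 154707 6
 Tr.leaf))) 154709 6
 (Tr.node (Tr.node (Tr.node (Tr.node Tr.leaf 154711 6
 Tr.leaf) 154713 6
 Tr.leaf) 154715 5
 (Tr.node Tr.leaf 154717 5
 Tr.leaf)) 154719 6
 (Tr.node (Tr.node (Tr.node Tr.leaf 154737 6
 Tr.leaf) 154739 6
 Tr.leaf) 154741 6
 (Tr.node Tr.leaf 154743 5
 Tr.leaf))))) 154745 6
 (Tr.node (Tr.node (Tr.node (Tr.node (Tr.node (Tr.node Tr.leaf 154747 6
 Tr.leaf) 154749 6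
 Tr.leaf) 154751 6
 (Tr.node (Tr.node Tr.leaf 154769 6
 Tr.leaf) 154771 6
 Tr.leaf)) 154773 6
 (Tr.node (Tr.node (Tr.node Tr.leaf 154775 6
 Tr.leaf) 154777 6
 Tr.leaf) 154779 6
 (Tr.node Tr.leaf 154781 6
 Tr.leaf))) 154783 6
 (Tr.node (Tr.node (Tr.node (Tr.node Tr.leaf 154801 5
 Tr.leaf) 154803 5
 Tr.leaf) 154805 6
 (Tr.node Tr.leaf 154807 6
 Tr.leaf)) 154809 6
 (Tr.node (Tr.node (Tr.node Tr.leaf 154811 6
 Tr.leaf) 154813 6
 Tr.leaf) 154815 6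
 (Tr.node Tr.leaf 154817 6
 Tr.leaf)))) 154819 5
 (Tr.node (Tr.node (Tr.node (Tr.node (Tr.node Tr.leaf 154821 5
 Tr.leaf) 154823 6
 Tr.leaf) 154825 5
 (Tr.node (Tr.node Tr.leaf 154827 6
 Tr.leaf) 154829 6
 Tr.leaf)) 154831 6
 (Tr.node (Tr.node (Tr.node Tr.leaf 154849 6
 Tr.leaf) 154851 6
 Tr.leaf) 154853 6
 (Tr.node Tr.leaf 154855 6
 Tr.leaf))) 154857 6
 (Tr.node (Tr.node (Tr.node (Tr.node Tr.leaf 154859 6
 Tr.leaf) 154861 6
 Tr.leaf) 154863 6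
 (Tr.node Tr.leaf 154881 6
 Tr.leaf)) 154883 4
 (Tr.node (Tr.node (Tr.node Tr.leaf 154885 6
 Tr.leaf) 154887 4
 Tr.leaf) 154889 6
 (Tr.node Tr.leaf 154891 4
 Tr.leaf)))))))))

/-- A subtree. -/
def tr2_s38 : Tr := (Tr.node (Tr.node (Tr.node (Tr.node (Tr.node (Tr.node (Tr.node (Tr.node (Tr.node (Tr.node Tr.leaf 154895 6
 Tr.leaf) 154913 6
 Tr.leaf) 154915 5
 (Tr.node (Tr.node Tr.leaf 154917 6
 Tr.leaf) 154919 6
 Tr.leaf)) 154921 6
 (Tr.node (Tr.node (Tr.node Tr.leaf 154923 7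
 Tr.leaf) 154925 7
 Tr.leaf) 154927 6
 (Tr.node Tr.leaf 154961 6
 Tr.leaf))) 154963 6
 (Tr.node (Tr.node (Tr.node (Tr.node Tr.leaf 154965 6
 Tr.leaf) 154967 6
 Tr.leaf) 154969 6
 (Tr.node (Tr.node Tr.leaf 154971 5
 Tr.leaf) 154973 5
 Tr.leaf)) 154975 6
 (Tr.node (Tr.node (Tr.node Tr.leaf 154993 6
 Tr.leaf) 154995 6
 Tr.leaf) 154997 6
 (Tr.node Tr.leaf 154999 6
 Tr.leaf)))) 155001 6
 (Tr.node (Tr.node (Tr.node (Tr.node (Tr.node Tr.leaf 155003 5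
 Tr.leaf) 155005 6
 Tr.leaf) 155007 6
 (Tr.node (Tr.node Tr.leaf 155025 6
 Tr.leaf) 155027 6
 Tr.leaf)) 155029 6
 (Tr.node (Tr.node (Tr.node Tr.leaf 155031 5
 Tr.leaf) 155033 6
 Tr.leaf) 155035 6
 (Tr.node Tr.leaf 155037 5
 Tr.leaf))) 155039 6
 (Tr.node (Tr.node (Tr.node (Tr.node Tr.leaf 155057 6
 Tr.leaf) 155059 6
 Tr.leaf) 155061 6
 (Tr.node Tr.leaf 155063 6
 Tr.leaf)) 155065 6
 (Tr.node (Tr.node (Tr.node Tr.leaf 155067 6
 Tr.leaf) 155069 6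
 Tr.leaf) 155071 6
 (Tr.node Tr.leaf 155073 6
 Tr.leaf))))) 155075 6
 (Tr.node (Tr.node (Tr.node (Tr.node (Tr.node (Tr.node Tr.leaf 155077 6
 Tr.leaf) 155079 5
 Tr.leaf) 155081 5
 (Tr.node (Tr.node Tr.leaf 155083 6
 Tr.leaf) 155085 6
 Tr.leaf)) 155087 6
 (Tr.node (Tr.node (Tr.node Tr.leaf 155105 6
 Tr.leaf) 155107 5
 Tr.leaf) 155109 5
 (Tr.node Tr.leaf 155111 6
 Tr.leaf))) 155113 6
 (Tr.node (Tr.node (Tr.node (Tr.node Tr.leaf 155115 6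
 Tr.leaf) 155117 6
 Tr.leaf) 155119 6
 (Tr.node (Tr.node Tr.leaf 155649 3
 Tr.leaf) 155650 6
 Tr.leaf)) 155652 4
 (Tr.node (Tr.node (Tr.node Tr.leaf 155655 4
 Tr.leaf) 155656 3
 Tr.leaf) 155659 6
 (Tr.node Tr.leaf 155661 6
 Tr.leaf)))) 155662 2
 (Tr.node (Tr.node (Tr.node (Tr.node (Tr.node Tr.leaf 155665 3
 Tr.leaf) 155666 6
 Tr.leaf) 155668 5
 (Tr.node (Tr.node Tr.leaf 155671 6
 Tr.leaf) 155672 5
 Tr.leaf)) 155675 5
 (Tr.node (Tr.node (Tr.node Tr.leaf 155677 6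
 Tr.leaf) 155678 6
 Tr.leaf) 155681 4
 (Tr.node Tr.leaf 155682 6
 Tr.leaf))) 155684 4
 (Tr.node (Tr.node (Tr.node (Tr.node Tr.leaf 155687 7
 Tr.leaf) 155688 4
 Tr.leaf) 155691 5
 (Tr.node Tr.leaf 155693 6
 Tr.leaf)) 155694 4
 (Tr.node (Tr.node (Tr.node Tr.leaf 155697 3
 Tr.leaf) 155698 6
 Tr.leaf) 155700 4
 (Tr.node Tr.leaf 155703 5
 Tr.leaf)))))) 155704 4
 (Tr.node (Tr.node (Tr.node (Tr.node (Tr.node (Tr.node (Tr.node Tr.leaf 155707 5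
 Tr.leaf) 155709 6
 Tr.leaf) 155710 5
 (Tr.node (Tr.node Tr.leaf 155715 5
 Tr.leaf) 155717 4
 Tr.leaf)) 155718 2
 (Tr.node (Tr.node (Tr.node Tr.leaf 155721 5
 Tr.leaf) 155722 3
 Tr.leaf) 155724 3
 (Tr.node Tr.leaf 155727 6
 Tr.leaf))) 155731 6
 (Tr.node (Tr.node (Tr.node (Tr.node Tr.leaf 155733 5
 Tr.leaf) 155734 5
 Tr.leaf) 155737 5
 (Tr.node (Tr.node Tr.leaf 155738 4
 Tr.leaf) 155740 5
 Tr.leaf)) 155743 6
 (Tr.node (Tr.node (Tr.node Tr.leaf 155747 6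
 Tr.leaf) 155749 6
 Tr.leaf) 155750 5
 (Tr.node Tr.leaf 155753 7
 Tr.leaf)))) 155754 5
 (Tr.node (Tr.node (Tr.node (Tr.node (Tr.node Tr.leaf 155756 5
 Tr.leaf) 155759 6
 Tr.leaf) 155763 6
 (Tr.node (Tr.node Tr.leaf 155765 4
 Tr.leaf) 155766 4
 Tr.leaf)) 155769 6
 (Tr.node (Tr.node (Tr.node Tr.leaf 155770 5
 Tr.leaf) 155772 6
 Tr.leaf) 155775 6
 (Tr.node Tr.leaf 155779 4
 Tr.leaf))) 155781 4
 (Tr.node (Tr.node (Tr.node (Tr.node Tr.leaf 155782 6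
 Tr.leaf) 155785 6
 Tr.leaf) 155786 4
 (Tr.node Tr.leaf 155788 7
 Tr.leaf)) 155791 6
 (Tr.node (Tr.node (Tr.node Tr.leaf 155795 6
 Tr.leaf) 155797 6
 Tr.leaf) 155798 5
 (Tr.node Tr.leaf 155801 4
 Tr.leaf))))) 155802 5
 (Tr.node (Tr.node (Tr.node (Tr.node (Tr.node (Tr.node Tr.leaf 155804 5
 Tr.leaf) 155807 6
 Tr.leaf) 155811 6
 (Tr.node (Tr.node Tr.leaf 155813 6
 Tr.leaf) 155814 6
 Tr.leaf)) 155817 6
 (Tr.node (Tr.node (Tr.node Tr.leaf 155818 5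
 Tr.leaf) 155820 5
 Tr.leaf) 155823 5
 (Tr.node Tr.leaf 155827 5
 Tr.leaf))) 155829 4
 (Tr.node (Tr.node (Tr.node (Tr.node Tr.leaf 155830 5
 Tr.leaf) 155833 6
 Tr.leaf) 155834 5
 (Tr.node Tr.leaf 155836 5
 Tr.leaf)) 155839 6
 (Tr.node (Tr.node (Tr.node Tr.leaf 155841 6
 Tr.leaf) 155842 6
 Tr.leaf) 155844 5
 (Tr.node Tr.leaf 155847 6
 Tr.leaf)))) 155848 6
 (Tr.node (Tr.node (Tr.node (Tr.node (Tr.node Tr.leaf 155851 6
 Tr.leaf) 155853 5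
 Tr.leaf) 155854 6
 (Tr.node (Tr.node Tr.leaf 155857 5
 Tr.leaf) 155858 4
 Tr.leaf)) 155860 5
 (Tr.node (Tr.node (Tr.node Tr.leaf 155863 5
 Tr.leaf) 155864 5
 Tr.leaf) 155867 5
 (Tr.node Tr.leaf 155869 6
 Tr.leaf))) 155870 6
 (Tr.node (Tr.node (Tr.node (Tr.node Tr.leaf 155873 5
 Tr.leaf) 155874 5
 Tr.leaf) 155876 4
 (Tr.node Tr.leaf 155879 5
 Tr.leaf)) 155880 6
 (Tr.node (Tr.node (Tr.node Tr.leaf 155883 5
 Tr.leaf) 155885 5
 Tr.leaf) 155886 6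
 (Tr.node Tr.leaf 155889 6
 Tr.leaf))))))) 155890 4
 (Tr.node (Tr.node (Tr.node (Tr.node (Tr.node (Tr.node (Tr.node (Tr.node Tr.leaf 155892 4
 Tr.leaf) 155895 5
 Tr.leaf) 155896 5
 (Tr.node (Tr.node Tr.leaf 155899 5
 Tr.leaf) 155901 6
 Tr.leaf)) 155902 6
 (Tr.node (Tr.node (Tr.node Tr.leaf 155905 3
 Tr.leaf) 155906 6
 Tr.leaf) 155908 4
 (Tr.node Tr.leaf 155911 5
 Tr.leaf))) 155912 4
 (Tr.node (Tr.node (Tr.node (Tr.node Tr.leaf 155915 6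
 Tr.leaf) 155917 4
 Tr.leaf) 155918 5
 (Tr.node (Tr.node Tr.leaf 155921 3
 Tr.leaf) 155922 5
 Tr.leaf)) 155924 4
 (Tr.node (Tr.node (Tr.node Tr.leaf 155927 7
 Tr.leaf) 155928 5
 Tr.leaf) 155931 6
 (Tr.node Tr.leaf 155933 6
 Tr.leaf)))) 155934 5
 (Tr.node (Tr.node (Tr.node (Tr.node (Tr.node Tr.leaf 155937 3
 Tr.leaf) 155938 5
 Tr.leaf) 155940 4
 (Tr.node (Tr.node Tr.leaf 155943 6
 Tr.leaf) 155944 5
 Tr.leaf)) 155947 6
 (Tr.node (Tr.node (Tr.node Tr.leaf 155949 4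
 Tr.leaf) 155950 6
 Tr.leaf) 155953 3
 (Tr.node Tr.leaf 155954 6
 Tr.leaf))) 155956 3
 (Tr.node (Tr.node (Tr.node (Tr.node Tr.leaf 155959 5
 Tr.leaf) 155960 4
 Tr.leaf) 155963 4
 (Tr.node Tr.leaf 155965 6
 Tr.leaf)) 155966 3
 (Tr.node (Tr.node (Tr.node Tr.leaf 155971 6
 Tr.leaf) 155973 6
 Tr.leaf) 155974 5
 (Tr.node Tr.leaf 155977 6
 Tr.leaf))))) 155978 5
 (Tr.node (Tr.node (Tr.node (Tr.node (Tr.node (Tr.node Tr.leaf 155980 6
 Tr.leaf) 155983 6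
 Tr.leaf) 155987 5
 (Tr.node (Tr.node Tr.leaf 155989 5
 Tr.leaf) 155990 5
 Tr.leaf)) 155993 6
 (Tr.node (Tr.node (Tr.node Tr.leaf 155994 5
 Tr.leaf) 155996 5
 Tr.leaf) 155999 6
 (Tr.node Tr.leaf 156003 6
 Tr.leaf))) 156005 6
 (Tr.node (Tr.node (Tr.node (Tr.node Tr.leaf 156006 5
 Tr.leaf) 156009 5
 Tr.leaf) 156010 6
 (Tr.node Tr.leaf 156012 5
 Tr.leaf)) 156015 6
 (Tr.node (Tr.node (Tr.node Tr.leaf 156019 5
 Tr.leaf) 156021 6
 Tr.leaf) 156022 3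
 (Tr.node Tr.leaf 156025 5
 Tr.leaf)))) 156026 2
 (Tr.node (Tr.node (Tr.node (Tr.node (Tr.node Tr.leaf 156028 2
 Tr.leaf) 156031 6
 Tr.leaf) 156035 6
 (Tr.node (Tr.node Tr.leaf 156037 7
 Tr.leaf) 156038 6
 Tr.leaf)) 156041 4
 (Tr.node (Tr.node (Tr.node Tr.leaf 156042 4
 Tr.leaf) 156044 5
 Tr.leaf) 156047 6
 (Tr.node Tr.leaf 156051 5
 Tr.leaf))) 156053 6
 (Tr.node (Tr.node (Tr.node (Tr.node Tr.leaf 156054 6
 Tr.leaf) 156057 6
 Tr.leaf) 156058 4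
 (Tr.node Tr.leaf 156060 5
 Tr.leaf)) 156063 5
 (Tr.node (Tr.node (Tr.node Tr.leaf 156067 4
 Tr.leaf) 156069 4
 Tr.leaf) 156070 5
 (Tr.node Tr.leaf 156073 6
 Tr.leaf)))))) 156074 5
 (Tr.node (Tr.node (Tr.node (Tr.node (Tr.node (Tr.node (Tr.node Tr.leaf 156076 4
 Tr.leaf) 156079 6
 Tr.leaf) 156083 6
 (Tr.node (Tr.node Tr.leaf 156085 6
 Tr.leaf) 156086 6
 Tr.leaf)) 156089 4
 (Tr.node (Tr.node (Tr.node Tr.leaf 156090 5
 Tr.leaf) 156092 6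
 Tr.leaf) 156095 5
 (Tr.node Tr.leaf 156097 4
 Tr.leaf))) 156098 5
 (Tr.node (Tr.node (Tr.node (Tr.node Tr.leaf 156100 5
 Tr.leaf) 156103 5
 Tr.leaf) 156104 5
 (Tr.node (Tr.node Tr.leaf 156107 6
 Tr.leaf) 156109 6
 Tr.leaf)) 156110 5
 (Tr.node (Tr.node (Tr.node Tr.leaf 156113 6
 Tr.leaf) 156114 5
 Tr.leaf) 156116 5
 (Tr.node Tr.leaf 156119 5
 Tr.leaf)))) 156120 6
 (Tr.node (Tr.node (Tr.node (Tr.node (Tr.node Tr.leaf 156123 5
 Tr.leaf) 156125 5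
 Tr.leaf) 156126 6
 (Tr.node (Tr.node Tr.leaf 156129 6
 Tr.leaf) 156130 5
 Tr.leaf)) 156132 4
 (Tr.node (Tr.node (Tr.node Tr.leaf 156135 6
 Tr.leaf) 156136 6
 Tr.leaf) 156139 5
 (Tr.node Tr.leaf 156141 6
 Tr.leaf))) 156142 5
 (Tr.node (Tr.node (Tr.node (Tr.node Tr.leaf 156145 5
 Tr.leaf) 156146 6
 Tr.leaf) 156148 4
 (Tr.node Tr.leaf 156151 6
 Tr.leaf)) 156152 6
 (Tr.node (Tr.node (Tr.node Tr.leaf 156155 6
 Tr.leaf) 156157 6
 Tr.leaf) 156158 6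
 (Tr.node Tr.leaf 156677 7
 Tr.leaf))))) 156679 6
 (Tr.node (Tr.node (Tr.node (Tr.node (Tr.node (Tr.node Tr.leaf 156681 5
 Tr.leaf) 156683 5
 Tr.leaf) 156693 5
 (Tr.node (Tr.node Tr.leaf 156695 6
 Tr.leaf) 156697 6
 Tr.leaf)) 156699 6
 (Tr.node (Tr.node (Tr.node Tr.leaf 156709 6
 Tr.leaf) 156711 6
 Tr.leaf) 156713 6
 (Tr.node Tr.leaf 156715 4
 Tr.leaf))) 156725 5
 (Tr.node (Tr.node (Tr.node (Tr.node Tr.leaf 156727 6
 Tr.leaf) 156729 6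
 Tr.leaf) 156731 6
 (Tr.node Tr.leaf 156737 6
 Tr.leaf)) 156739 6
 (Tr.node (Tr.node (Tr.node Tr.leaf 156749 5
 Tr.leaf) 156751 6
 Tr.leaf) 156753 6
 (Tr.node Tr.leaf 156755 5
 Tr.leaf)))) 156765 6
 (Tr.node (Tr.node (Tr.node (Tr.node (Tr.node Tr.leaf 156767 6
 Tr.leaf) 156769 6
 Tr.leaf) 156771 6
 (Tr.node (Tr.node Tr.leaf 156781 6
 Tr.leaf) 156783 6
 Tr.leaf)) 156785 6
 (Tr.node (Tr.node (Tr.node Tr.leaf 156787 6
 Tr.leaf) 156797 6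
 Tr.leaf) 156799 6
 (Tr.node Tr.leaf 156801 4
 Tr.leaf))) 156803 6
 (Tr.node (Tr.node (Tr.node (Tr.node Tr.leaf 156813 6
 Tr.leaf) 156815 6
 Tr.leaf) 156817 6
 (Tr.node Tr.leaf 156819 6
 Tr.leaf)) 156829 5
 (Tr.node (Tr.node (Tr.node Tr.leaf 156831 6
 Tr.leaf) 156833 6
 Tr.leaf) 156835 6
 (Tr.node Tr.leaf 156845 5
 Tr.leaf)))))))) 156847 6
 (Tr.node (Tr.node (Tr.node (Tr.node (Tr.node (Tr.node (Tr.node (Tr.node (Tr.node Tr.leaf 156849 5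
 Tr.leaf) 156851 4
 Tr.leaf) 156861 6
 (Tr.node (Tr.node Tr.leaf 156863 6
 Tr.leaf) 156869 6
 Tr.leaf)) 156871 6
 (Tr.node (Tr.node (Tr.node Tr.leaf 156873 6
 Tr.leaf) 156875 6
 Tr.leaf) 156885 5
 (Tr.node Tr.leaf 156887 6
 Tr.leaf))) 156889 6
 (Tr.node (Tr.node (Tr.node (Tr.node Tr.leaf 156891 6
 Tr.leaf) 156901 6
 Tr.leaf) 156903 6
 (Tr.node (Tr.node Tr.leaf 156905 6
 Tr.leaf) 156907 5
 Tr.leaf)) 156917 6
 (Tr.node (Tr.node (Tr.node Tr.leaf 156919 6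
 Tr.leaf) 156921 6
 Tr.leaf) 156923 6
 (Tr.node Tr.leaf 156933 5
 Tr.leaf)))) 156935 6
 (Tr.node (Tr.node (Tr.node (Tr.node (Tr.node Tr.leaf 156937 6
 Tr.leaf) 156939 5
 Tr.leaf) 156949 4
 (Tr.node (Tr.node Tr.leaf 156951 6
 Tr.leaf) 156953 6
 Tr.leaf)) 156955 6
 (Tr.node (Tr.node (Tr.node Tr.leaf 156965 7
 Tr.leaf) 156967 5
 Tr.leaf) 156969 6
 (Tr.node Tr.leaf 156971 4
 Tr.leaf))) 156981 6
 (Tr.node (Tr.node (Tr.node (Tr.node Tr.leaf 156983 6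
 Tr.leaf) 156985 5
 Tr.leaf) 156987 7
 (Tr.node Tr.leaf 156993 6
 Tr.leaf)) 156995 6
 (Tr.node (Tr.node (Tr.node Tr.leaf 157005 6
 Tr.leaf) 157007 6
 Tr.leaf) 157009 6
 (Tr.node Tr.leaf 157011 6
 Tr.leaf))))) 157021 6
 (Tr.node (Tr.node (Tr.node (Tr.node (Tr.node (Tr.node Tr.leaf 157023 6
 Tr.leaf) 157025 5
 Tr.leaf) 157027 6
 (Tr.node (Tr.node Tr.leaf 157037 5
 Tr.leaf) 157039 6
 Tr.leaf)) 157041 5
 (Tr.node (Tr.node (Tr.node Tr.leaf 157043 7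
 Tr.leaf) 157053 6
 Tr.leaf) 157055 6
 (Tr.node Tr.leaf 157057 6
 Tr.leaf))) 157059 7
 (Tr.node (Tr.node (Tr.node (Tr.node Tr.leaf 157069 5
 Tr.leaf) 157071 6
 Tr.leaf) 157073 6
 (Tr.node Tr.leaf 157075 6
 Tr.leaf)) 157085 6
 (Tr.node (Tr.node (Tr.node Tr.leaf 157087 6
 Tr.leaf) 157089 6
 Tr.leaf) 157091 5
 (Tr.node Tr.leaf 157101 6
 Tr.leaf)))) 157103 6
 (Tr.node (Tr.node (Tr.node (Tr.node (Tr.node Tr.leaf 157105 6
 Tr.leaf) 157107 6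
 Tr.leaf) 157117 6
 (Tr.node (Tr.node Tr.leaf 157119 6
 Tr.leaf) 157125 5
 Tr.leaf)) 157127 5
 (Tr.node (Tr.node (Tr.node Tr.leaf 157129 6
 Tr.leaf) 157131 5
 Tr.leaf) 157141 5
 (Tr.node Tr.leaf 157143 5
 Tr.leaf))) 157145 5
 (Tr.node (Tr.node (Tr.node (Tr.node Tr.leaf 157147 6
 Tr.leaf) 157157 6
 Tr.leaf) 157159 6
 (Tr.node Tr.leaf 157161 6
 Tr.leaf)) 157163 6
 (Tr.node (Tr.node (Tr.node Tr.leaf 157173 6
 Tr.leaf) 157175 6
 Tr.leaf) 157177 6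
 (Tr.node Tr.leaf 157179 7
 Tr.leaf)))))) 157699 6
 (Tr.node (Tr.node (Tr.node (Tr.node (Tr.node (Tr.node (Tr.node Tr.leaf 157703 4
 Tr.leaf) 157705 5
 Tr.leaf) 157706 5
 (Tr.node (Tr.node Tr.leaf 157709 6
 Tr.leaf) 157710 5
 Tr.leaf)) 157715 5
 (Tr.node (Tr.node (Tr.node Tr.leaf 157719 5
 Tr.leaf) 157721 5
 Tr.leaf) 157722 4
 (Tr.node Tr.leaf 157725 4
 Tr.leaf))) 157726 6
 (Tr.node (Tr.node (Tr.node (Tr.node Tr.leaf 157731 6
 Tr.leaf) 157735 6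
 Tr.leaf) 157737 5
 (Tr.node (Tr.node Tr.leaf 157738 6
 Tr.leaf) 157741 6
 Tr.leaf)) 157742 5
 (Tr.node (Tr.node (Tr.node Tr.leaf 157747 6
 Tr.leaf) 157751 6
 Tr.leaf) 157753 6
 (Tr.node Tr.leaf 157754 6
 Tr.leaf)))) 157757 6
 (Tr.node (Tr.node (Tr.node (Tr.node (Tr.node Tr.leaf 157758 6
 Tr.leaf) 157761 5
 Tr.leaf) 157762 5
 (Tr.node (Tr.node Tr.leaf 157765 6
 Tr.leaf) 157766 5
 Tr.leaf)) 157771 6
 (Tr.node (Tr.node (Tr.node Tr.leaf 157775 6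
 Tr.leaf) 157777 6
 Tr.leaf) 157778 6
 (Tr.node Tr.leaf 157781 6
 Tr.leaf))) 157782 5
 (Tr.node (Tr.node (Tr.node (Tr.node Tr.leaf 157787 6
 Tr.leaf) 157791 6
 Tr.leaf) 157793 6
 (Tr.node Tr.leaf 157794 3
 Tr.leaf)) 157797 5
 (Tr.node (Tr.node (Tr.node Tr.leaf 157798 6
 Tr.leaf) 157803 5
 Tr.leaf) 157807 6
 (Tr.node Tr.leaf 157809 6
 Tr.leaf))))) 157810 6
 (Tr.node (Tr.node (Tr.node (Tr.node (Tr.node (Tr.node Tr.leaf 157813 6
 Tr.leaf) 157814 5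
 Tr.leaf) 157819 6
 (Tr.node (Tr.node Tr.leaf 157823 6
 Tr.leaf) 157825 5
 Tr.leaf)) 157826 6
 (Tr.node (Tr.node (Tr.node Tr.leaf 157829 4
 Tr.leaf) 157830 6
 Tr.leaf) 157835 6
 (Tr.node Tr.leaf 157839 6
 Tr.leaf))) 157841 6
 (Tr.node (Tr.node (Tr.node (Tr.node Tr.leaf 157842 6
 Tr.leaf) 157845 6
 Tr.leaf) 157846 6
 (Tr.node Tr.leaf 157851 6
 Tr.leaf)) 157855 6
 (Tr.node (Tr.node (Tr.node Tr.leaf 157857 5
 Tr.leaf) 157858 6
 Tr.leaf) 157861 6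
 (Tr.node Tr.leaf 157862 6
 Tr.leaf)))) 157867 6
 (Tr.node (Tr.node (Tr.node (Tr.node (Tr.node Tr.leaf 157871 5
 Tr.leaf) 157873 4
 Tr.leaf) 157874 6
 (Tr.node (Tr.node Tr.leaf 157877 5
 Tr.leaf) 157878 6
 Tr.leaf)) 157883 5
 (Tr.node (Tr.node (Tr.node Tr.leaf 157887 5
 Tr.leaf) 157891 7
 Tr.leaf) 157895 6
 (Tr.node Tr.leaf 157897 5
 Tr.leaf))) 157898 6
 (Tr.node (Tr.node (Tr.node (Tr.node Tr.leaf 157901 6
 Tr.leaf) 157902 6
 Tr.leaf) 157907 6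
 (Tr.node Tr.leaf 157911 5
 Tr.leaf)) 157913 6
 (Tr.node (Tr.node (Tr.node Tr.leaf 157914 5
 Tr.leaf) 157917 6
 Tr.leaf) 157918 6
 (Tr.node Tr.leaf 157923 6
 Tr.leaf))))))) 157927 5
 (Tr.node (Tr.node (Tr.node (Tr.node (Tr.node (Tr.node (Tr.node (Tr.node Tr.leaf 157929 6
 Tr.leaf) 157930 6
 Tr.leaf) 157933 6
 (Tr.node (Tr.node Tr.leaf 157934 6
 Tr.leaf) 157939 7
 Tr.leaf)) 157943 6
 (Tr.node (Tr.node (Tr.node Tr.leaf 157945 6
 Tr.leaf) 157946 5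
 Tr.leaf) 157949 5
 (Tr.node Tr.leaf 157950 5
 Tr.leaf))) 157955 7
 (Tr.node (Tr.node (Tr.node (Tr.node Tr.leaf 157959 6
 Tr.leaf) 157961 6
 Tr.leaf) 157962 6
 (Tr.node (Tr.node Tr.leaf 157965 6
 Tr.leaf) 157966 5
 Tr.leaf)) 157971 6
 (Tr.node (Tr.node (Tr.node Tr.leaf 157975 5
 Tr.leaf) 157977 6
 Tr.leaf) 157978 6
 (Tr.node Tr.leaf 157981 6
 Tr.leaf)))) 157982 6
 (Tr.node (Tr.node (Tr.node (Tr.node (Tr.node Tr.leaf 157987 5
 Tr.leaf) 157991 6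
 Tr.leaf) 157993 6
 (Tr.node (Tr.node Tr.leaf 157994 6
 Tr.leaf) 157997 5
 Tr.leaf)) 157998 5
 (Tr.node (Tr.node (Tr.node Tr.leaf 158003 6
 Tr.leaf) 158007 6
 Tr.leaf) 158009 4
 (Tr.node Tr.leaf 158010 5
 Tr.leaf))) 158013 6
 (Tr.node (Tr.node (Tr.node (Tr.node Tr.leaf 158014 5
 Tr.leaf) 158017 4
 Tr.leaf) 158018 6
 (Tr.node Tr.leaf 158021 6
 Tr.leaf)) 158022 6
 (Tr.node (Tr.node (Tr.node Tr.leaf 158027 5
 Tr.leaf) 158031 6
 Tr.leaf) 158033 6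
 (Tr.node Tr.leaf 158034 6
 Tr.leaf))))) 158037 6
 (Tr.node (Tr.node (Tr.node (Tr.node (Tr.node (Tr.node Tr.leaf 158038 3
 Tr.leaf) 158043 5
 Tr.leaf) 158047 6
 (Tr.node (Tr.node Tr.leaf 158049 6
 Tr.leaf) 158050 6
 Tr.leaf)) 158053 6
 (Tr.node (Tr.node (Tr.node Tr.leaf 158054 6
 Tr.leaf) 158059 6
 Tr.leaf) 158063 6
 (Tr.node Tr.leaf 158065 5
 Tr.leaf))) 158066 5
 (Tr.node (Tr.node (Tr.node (Tr.node Tr.leaf 158069 6
 Tr.leaf) 158070 5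
 Tr.leaf) 158075 5
 (Tr.node Tr.leaf 158079 7
 Tr.leaf)) 158081 6
 (Tr.node (Tr.node (Tr.node Tr.leaf 158082 6
 Tr.leaf) 158085 6
 Tr.leaf) 158086 6
 (Tr.node Tr.leaf 158091 6
 Tr.leaf)))) 158095 6
 (Tr.node (Tr.node (Tr.node (Tr.node (Tr.node Tr.leaf 158097 6
 Tr.leaf) 158098 6
 Tr.leaf) 158101 6
 (Tr.node (Tr.node Tr.leaf 158102 6
 Tr.leaf) 158107 6
 Tr.leaf)) 158111 6
 (Tr.node (Tr.node (Tr.node Tr.leaf 158113 6
 Tr.leaf) 158114 6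
 Tr.leaf) 158117 5
 (Tr.node Tr.leaf 158118 6
 Tr.leaf))) 158123 6
 (Tr.node (Tr.node (Tr.node (Tr.node Tr.leaf 158127 6
 Tr.leaf) 158129 6
 Tr.leaf) 158130 6
 (Tr.node Tr.leaf 158133 6
 Tr.leaf)) 158134 6
 (Tr.node (Tr.node (Tr.node Tr.leaf 158139 6
 Tr.leaf) 158143 6
 Tr.leaf) 158147 6
 (Tr.node Tr.leaf 158151 6
 Tr.leaf)))))) 158153 6
 (Tr.node (Tr.node (Tr.node (Tr.node (Tr.node (Tr.node (Tr.node Tr.leaf 158154 6
 Tr.leaf) 158157 6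
 Tr.leaf) 158158 6
 (Tr.node (Tr.node Tr.leaf 158163 6
 Tr.leaf) 158167 5
 Tr.leaf)) 158169 6
 (Tr.node (Tr.node (Tr.node Tr.leaf 158170 5
 Tr.leaf) 158173 6
 Tr.leaf) 158174 6
 (Tr.node Tr.leaf 158179 6
 Tr.leaf))) 158183 5
 (Tr.node (Tr.node (Tr.node (Tr.node Tr.leaf 158185 6
 Tr.leaf) 158186 5
 Tr.leaf) 158189 5
 (Tr.node (Tr.node Tr.leaf 158190 5
 Tr.leaf) 158195 6
 Tr.leaf)) 158199 5
 (Tr.node (Tr.node (Tr.node Tr.leaf 158201 6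
 Tr.leaf) 158202 5
 Tr.leaf) 158205 5
 (Tr.node Tr.leaf 158206 6
 Tr.leaf)))) 158721 5
 (Tr.node (Tr.node (Tr.node (Tr.node (Tr.node Tr.leaf 158723 6
 Tr.leaf) 158725 6
 Tr.leaf) 158727 5
 (Tr.node (Tr.node Tr.leaf 158737 5
 Tr.leaf) 158739 5
 Tr.leaf)) 158741 6
 (Tr.node (Tr.node (Tr.node Tr.leaf 158743 6
 Tr.leaf) 158753 4
 Tr.leaf) 158755 6
 (Tr.node Tr.leaf 158757 4
 Tr.leaf))) 158759 6
 (Tr.node (Tr.node (Tr.node (Tr.node Tr.leaf 158769 5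
 Tr.leaf) 158771 5
 Tr.leaf) 158773 6
 (Tr.node Tr.leaf 158775 4
 Tr.leaf)) 158793 6
 (Tr.node (Tr.node (Tr.node Tr.leaf 158795 5
 Tr.leaf) 158797 5
 Tr.leaf) 158799 6
 (Tr.node Tr.leaf 158809 6
 Tr.leaf))))) 158811 6
 (Tr.node (Tr.node (Tr.node (Tr.node (Tr.node (Tr.node Tr.leaf 158813 5
 Tr.leaf) 158815 5
 Tr.leaf) 158825 6
 (Tr.node (Tr.node Tr.leaf 158827 6
 Tr.leaf) 158829 6
 Tr.leaf)) 158831 6
 (Tr.node (Tr.node (Tr.node Tr.leaf 158841 6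
 Tr.leaf) 158843 6
 Tr.leaf) 158845 5
 (Tr.node Tr.leaf 158847 6
 Tr.leaf))) 158857 6
 (Tr.node (Tr.node (Tr.node (Tr.node Tr.leaf 158859 6
 Tr.leaf) 158861 6
 Tr.leaf) 158863 6
 (Tr.node Tr.leaf 158873 6
 Tr.leaf)) 158875 6
 (Tr.node (Tr.node (Tr.node Tr.leaf 158877 6
 Tr.leaf) 158879 5
 Tr.leaf) 158889 6
 (Tr.node Tr.leaf 158891 6
 Tr.leaf)))) 158893 6
 (Tr.node (Tr.node (Tr.node (Tr.node (Tr.node Tr.leaf 158895 5
 Tr.leaf) 158905 5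
 Tr.leaf) 158907 6
 (Tr.node (Tr.node Tr.leaf 158909 6
 Tr.leaf) 158911 6
 Tr.leaf)) 158913 6
 (Tr.node (Tr.node (Tr.node Tr.leaf 158915 6
 Tr.leaf) 158917 6
 Tr.leaf) 158919 6
 (Tr.node Tr.leaf 158929 5
 Tr.leaf))) 158931 6
 (Tr.node (Tr.node (Tr.node (Tr.node Tr.leaf 158933 5
 Tr.leaf) 158935 6
 Tr.leaf) 158945 6
 (Tr.node Tr.leaf 158947 6
 Tr.leaf)) 158949 5
 (Tr.node (Tr.node (Tr.node Tr.leaf 158951 6
 Tr.leaf) 158961 7
 Tr.leaf) 158963 5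
 (Tr.node Tr.leaf 158965 6
 Tr.leaf)))))))))

/-- A subtree. -/
def tr2_s39 : Tr := (Tr.node (Tr.node (Tr.node (Tr.node (Tr.node (Tr.node (Tr.node (Tr.node (Tr.node (Tr.node Tr.leaf 158977 4
 Tr.leaf) 158979 6
 Tr.leaf) 158981 6
 (Tr.node (Tr.node Tr.leaf 158983 5
 Tr.leaf) 158993 6
 Tr.leaf)) 158995 5
 (Tr.node (Tr.node (Tr.node Tr.leaf 158997 4
 Tr.leaf) 158999 6
 Tr.leaf) 159009 6
 (Tr.node Tr.leaf 159011 6
 Tr.leaf))) 159013 5
 (Tr.node (Tr.node (Tr.node (Tr.node Tr.leaf 159015 4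
 Tr.leaf) 159025 5
 Tr.leaf) 159027 4
 (Tr.node (Tr.node Tr.leaf 159029 6
 Tr.leaf) 159031 4
 Tr.leaf)) 159049 7
 (Tr.node (Tr.node (Tr.node Tr.leaf 159051 6
 Tr.leaf) 159053 6
 Tr.leaf) 159055 6
 (Tr.node Tr.leaf 159065 6
 Tr.leaf)))) 159067 5
 (Tr.node (Tr.node (Tr.node (Tr.node (Tr.node Tr.leaf 159069 6
 Tr.leaf) 159071 6
 Tr.leaf) 159081 6
 (Tr.node (Tr.node Tr.leaf 159083 6
 Tr.leaf) 159085 5
 Tr.leaf)) 159087 6
 (Tr.node (Tr.node (Tr.node Tr.leaf 159097 5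
 Tr.leaf) 159099 5
 Tr.leaf) 159101 5
 (Tr.node Tr.leaf 159103 6
 Tr.leaf))) 159113 5
 (Tr.node (Tr.node (Tr.node (Tr.node Tr.leaf 159115 6
 Tr.leaf) 159117 6
 Tr.leaf) 159119 5
 (Tr.node Tr.leaf 159129 6
 Tr.leaf)) 159131 5
 (Tr.node (Tr.node (Tr.node Tr.leaf 159133 5
 Tr.leaf) 159135 6
 Tr.leaf) 159145 6
 (Tr.node Tr.leaf 159147 6
 Tr.leaf))))) 159149 6
 (Tr.node (Tr.node (Tr.node (Tr.node (Tr.node (Tr.node Tr.leaf 159151 6
 Tr.leaf) 159161 6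
 Tr.leaf) 159163 6
 (Tr.node (Tr.node Tr.leaf 159165 6
 Tr.leaf) 159167 5
 Tr.leaf)) 159169 6
 (Tr.node (Tr.node (Tr.node Tr.leaf 159171 6
 Tr.leaf) 159173 6
 Tr.leaf) 159175 6
 (Tr.node Tr.leaf 159185 5
 Tr.leaf))) 159187 6
 (Tr.node (Tr.node (Tr.node (Tr.node Tr.leaf 159189 5
 Tr.leaf) 159191 6
 Tr.leaf) 159201 5
 (Tr.node (Tr.node Tr.leaf 159203 6
 Tr.leaf) 159205 6
 Tr.leaf)) 159207 6
 (Tr.node (Tr.node (Tr.node Tr.leaf 159217 6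
 Tr.leaf) 159219 5
 Tr.leaf) 159221 6
 (Tr.node Tr.leaf 159223 6
 Tr.leaf)))) 159747 6
 (Tr.node (Tr.node (Tr.node (Tr.node (Tr.node Tr.leaf 159749 6
 Tr.leaf) 159750 5
 Tr.leaf) 159755 4
 (Tr.node (Tr.node Tr.leaf 159757 5
 Tr.leaf) 159758 5
 Tr.leaf)) 159763 6
 (Tr.node (Tr.node (Tr.node Tr.leaf 159765 6
 Tr.leaf) 159766 6
 Tr.leaf) 159771 6
 (Tr.node Tr.leaf 159773 6
 Tr.leaf))) 159774 5
 (Tr.node (Tr.node (Tr.node (Tr.node Tr.leaf 159779 6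
 Tr.leaf) 159781 6
 Tr.leaf) 159782 6
 (Tr.node Tr.leaf 159787 6
 Tr.leaf)) 159789 6
 (Tr.node (Tr.node (Tr.node Tr.leaf 159790 6
 Tr.leaf) 159795 6
 Tr.leaf) 159797 4
 (Tr.node Tr.leaf 159798 6
 Tr.leaf)))))) 159803 6
 (Tr.node (Tr.node (Tr.node (Tr.node (Tr.node (Tr.node (Tr.node Tr.leaf 159805 5
 Tr.leaf) 159806 4
 Tr.leaf) 159809 6
 (Tr.node (Tr.node Tr.leaf 159810 5
 Tr.leaf) 159812 5
 Tr.leaf)) 159815 7
 (Tr.node (Tr.node (Tr.node Tr.leaf 159817 6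
 Tr.leaf) 159818 5
 Tr.leaf) 159820 5
 (Tr.node Tr.leaf 159823 5
 Tr.leaf))) 159825 6
 (Tr.node (Tr.node (Tr.node (Tr.node Tr.leaf 159826 5
 Tr.leaf) 159828 6
 Tr.leaf) 159831 6
 (Tr.node (Tr.node Tr.leaf 159833 6
 Tr.leaf) 159834 6
 Tr.leaf)) 159836 5
 (Tr.node (Tr.node (Tr.node Tr.leaf 159839 6
 Tr.leaf) 159841 6
 Tr.leaf) 159842 3
 (Tr.node Tr.leaf 159844 6
 Tr.leaf)))) 159847 6
 (Tr.node (Tr.node (Tr.node (Tr.node (Tr.node Tr.leaf 159849 6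
 Tr.leaf) 159850 6
 Tr.leaf) 159852 6
 (Tr.node (Tr.node Tr.leaf 159855 6
 Tr.leaf) 159857 4
 Tr.leaf)) 159858 4
 (Tr.node (Tr.node (Tr.node Tr.leaf 159860 6
 Tr.leaf) 159863 6
 Tr.leaf) 159865 4
 (Tr.node Tr.leaf 159866 6
 Tr.leaf))) 159868 5
 (Tr.node (Tr.node (Tr.node (Tr.node Tr.leaf 159871 6
 Tr.leaf) 159873 6
 Tr.leaf) 159874 6
 (Tr.node Tr.leaf 159876 6
 Tr.leaf)) 159879 5
 (Tr.node (Tr.node (Tr.node Tr.leaf 159881 6
 Tr.leaf) 159882 6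
 Tr.leaf) 159884 4
 (Tr.node Tr.leaf 159887 6
 Tr.leaf))))) 159889 5
 (Tr.node (Tr.node (Tr.node (Tr.node (Tr.node (Tr.node Tr.leaf 159890 5
 Tr.leaf) 159892 4
 Tr.leaf) 159895 5
 (Tr.node (Tr.node Tr.leaf 159897 4
 Tr.leaf) 159898 7
 Tr.leaf)) 159900 5
 (Tr.node (Tr.node (Tr.node Tr.leaf 159903 6
 Tr.leaf) 159905 6
 Tr.leaf) 159906 6
 (Tr.node Tr.leaf 159908 6
 Tr.leaf))) 159911 6
 (Tr.node (Tr.node (Tr.node (Tr.node Tr.leaf 159913 7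
 Tr.leaf) 159914 5
 Tr.leaf) 159916 5
 (Tr.node Tr.leaf 159919 6
 Tr.leaf)) 159921 6
 (Tr.node (Tr.node (Tr.node Tr.leaf 159922 5
 Tr.leaf) 159924 4
 Tr.leaf) 159927 6
 (Tr.node Tr.leaf 159929 6
 Tr.leaf)))) 159930 5
 (Tr.node (Tr.node (Tr.node (Tr.node (Tr.node Tr.leaf 159932 6
 Tr.leaf) 159935 6
 Tr.leaf) 159939 5
 (Tr.node (Tr.node Tr.leaf 159941 6
 Tr.leaf) 159942 5
 Tr.leaf)) 159947 6
 (Tr.node (Tr.node (Tr.node Tr.leaf 159949 6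
 Tr.leaf) 159950 6
 Tr.leaf) 159955 6
 (Tr.node Tr.leaf 159957 5
 Tr.leaf))) 159958 5
 (Tr.node (Tr.node (Tr.node (Tr.node Tr.leaf 159963 6
 Tr.leaf) 159965 5
 Tr.leaf) 159966 5
 (Tr.node Tr.leaf 159971 5
 Tr.leaf)) 159973 6
 (Tr.node (Tr.node (Tr.node Tr.leaf 159974 6
 Tr.leaf) 159979 6
 Tr.leaf) 159981 6
 (Tr.node Tr.leaf 159982 5
 Tr.leaf))))))) 159987 5
 (Tr.node (Tr.node (Tr.node (Tr.node (Tr.node (Tr.node (Tr.node (Tr.node Tr.leaf 159989 6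
 Tr.leaf) 159990 6
 Tr.leaf) 159995 5
 (Tr.node (Tr.node Tr.leaf 159997 6
 Tr.leaf) 159998 5
 Tr.leaf)) 160003 6
 (Tr.node (Tr.node (Tr.node Tr.leaf 160005 5
 Tr.leaf) 160006 4
 Tr.leaf) 160011 6
 (Tr.node Tr.leaf 160013 6
 Tr.leaf))) 160014 6
 (Tr.node (Tr.node (Tr.node (Tr.node Tr.leaf 160019 5
 Tr.leaf) 160021 6
 Tr.leaf) 160022 6
 (Tr.node (Tr.node Tr.leaf 160027 6
 Tr.leaf) 160029 4
 Tr.leaf)) 160030 6
 (Tr.node (Tr.node (Tr.node Tr.leaf 160035 6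
 Tr.leaf) 160037 6
 Tr.leaf) 160038 4
 (Tr.node Tr.leaf 160043 5
 Tr.leaf)))) 160045 6
 (Tr.node (Tr.node (Tr.node (Tr.node (Tr.node Tr.leaf 160046 6
 Tr.leaf) 160051 6
 Tr.leaf) 160053 6
 (Tr.node (Tr.node Tr.leaf 160054 5
 Tr.leaf) 160059 5
 Tr.leaf)) 160061 5
 (Tr.node (Tr.node (Tr.node Tr.leaf 160062 5
 Tr.leaf) 160065 6
 Tr.leaf) 160066 6
 (Tr.node Tr.leaf 160068 5
 Tr.leaf))) 160071 6
 (Tr.node (Tr.node (Tr.node (Tr.node Tr.leaf 160073 5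
 Tr.leaf) 160074 5
 Tr.leaf) 160076 6
 (Tr.node Tr.leaf 160079 6
 Tr.leaf)) 160081 6
 (Tr.node (Tr.node (Tr.node Tr.leaf 160082 6
 Tr.leaf) 160084 5
 Tr.leaf) 160087 5
 (Tr.node Tr.leaf 160089 5
 Tr.leaf))))) 160090 4
 (Tr.node (Tr.node (Tr.node (Tr.node (Tr.node (Tr.node Tr.leaf 160092 6
 Tr.leaf) 160095 5
 Tr.leaf) 160097 6
 (Tr.node (Tr.node Tr.leaf 160098 6
 Tr.leaf) 160100 4
 Tr.leaf)) 160103 6
 (Tr.node (Tr.node (Tr.node Tr.leaf 160105 7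
 Tr.leaf) 160106 6
 Tr.leaf) 160108 6
 (Tr.node Tr.leaf 160111 5
 Tr.leaf))) 160113 5
 (Tr.node (Tr.node (Tr.node (Tr.node Tr.leaf 160114 5
 Tr.leaf) 160116 5
 Tr.leaf) 160119 6
 (Tr.node Tr.leaf 160121 6
 Tr.leaf)) 160122 5
 (Tr.node (Tr.node (Tr.node Tr.leaf 160124 5
 Tr.leaf) 160127 6
 Tr.leaf) 160129 4
 (Tr.node Tr.leaf 160130 6
 Tr.leaf)))) 160132 7
 (Tr.node (Tr.node (Tr.node (Tr.node (Tr.node Tr.leaf 160135 5
 Tr.leaf) 160137 6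
 Tr.leaf) 160138 6
 (Tr.node (Tr.node Tr.leaf 160140 6
 Tr.leaf) 160143 6
 Tr.leaf)) 160145 6
 (Tr.node (Tr.node (Tr.node Tr.leaf 160146 6
 Tr.leaf) 160148 6
 Tr.leaf) 160151 6
 (Tr.node Tr.leaf 160153 5
 Tr.leaf))) 160154 6
 (Tr.node (Tr.node (Tr.node (Tr.node Tr.leaf 160156 5
 Tr.leaf) 160159 6
 Tr.leaf) 160161 6
 (Tr.node Tr.leaf 160162 6
 Tr.leaf)) 160164 6
 (Tr.node (Tr.node (Tr.node Tr.leaf 160167 6
 Tr.leaf) 160169 6
 Tr.leaf) 160170 4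
 (Tr.node Tr.leaf 160172 6
 Tr.leaf)))))) 160175 6
 (Tr.node (Tr.node (Tr.node (Tr.node (Tr.node (Tr.node (Tr.node Tr.leaf 160177 5
 Tr.leaf) 160178 6
 Tr.leaf) 160180 6
 (Tr.node (Tr.node Tr.leaf 160183 5
 Tr.leaf) 160185 5
 Tr.leaf)) 160186 4
 (Tr.node (Tr.node (Tr.node Tr.leaf 160188 4
 Tr.leaf) 160191 5
 Tr.leaf) 160195 6
 (Tr.node Tr.leaf 160197 6
 Tr.leaf))) 160198 5
 (Tr.node (Tr.node (Tr.node (Tr.node Tr.leaf 160203 6
 Tr.leaf) 160205 6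
 Tr.leaf) 160206 5
 (Tr.node (Tr.node Tr.leaf 160211 5
 Tr.leaf) 160213 5
 Tr.leaf)) 160214 6
 (Tr.node (Tr.node (Tr.node Tr.leaf 160219 6
 Tr.leaf) 160221 6
 Tr.leaf) 160222 6
 (Tr.node Tr.leaf 160227 5
 Tr.leaf)))) 160229 6
 (Tr.node (Tr.node (Tr.node (Tr.node (Tr.node Tr.leaf 160230 6
 Tr.leaf) 160235 6
 Tr.leaf) 160237 6
 (Tr.node (Tr.node Tr.leaf 160238 6
 Tr.leaf) 160243 6
 Tr.leaf)) 160245 6
 (Tr.node (Tr.node (Tr.node Tr.leaf 160246 6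
 Tr.leaf) 160251 6
 Tr.leaf) 160253 6
 (Tr.node Tr.leaf 160254 6
 Tr.leaf))) 160769 4
 (Tr.node (Tr.node (Tr.node (Tr.node Tr.leaf 160771 5
 Tr.leaf) 160777 6
 Tr.leaf) 160779 6
 (Tr.node Tr.leaf 160785 5
 Tr.leaf)) 160787 6
 (Tr.node (Tr.node (Tr.node Tr.leaf 160793 4
 Tr.leaf) 160795 5
 Tr.leaf) 160801 4
 (Tr.node Tr.leaf 160803 6
 Tr.leaf))))) 160809 6
 (Tr.node (Tr.node (Tr.node (Tr.node (Tr.node (Tr.node Tr.leaf 160811 6
 Tr.leaf) 160817 6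
 Tr.leaf) 160819 4
 (Tr.node (Tr.node Tr.leaf 160825 5
 Tr.leaf) 160827 6
 Tr.leaf)) 160837 6
 (Tr.node (Tr.node (Tr.node Tr.leaf 160839 6
 Tr.leaf) 160845 6
 Tr.leaf) 160847 6
 (Tr.node Tr.leaf 160853 6
 Tr.leaf))) 160855 5
 (Tr.node (Tr.node (Tr.node (Tr.node Tr.leaf 160861 6
 Tr.leaf) 160863 6
 Tr.leaf) 160869 6
 (Tr.node Tr.leaf 160871 6
 Tr.leaf)) 160877 6
 (Tr.node (Tr.node (Tr.node Tr.leaf 160879 6
 Tr.leaf) 160885 6
 Tr.leaf) 160887 5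
 (Tr.node Tr.leaf 160893 6
 Tr.leaf)))) 160895 6
 (Tr.node (Tr.node (Tr.node (Tr.node (Tr.node Tr.leaf 160901 6
 Tr.leaf) 160903 6
 Tr.leaf) 160909 6
 (Tr.node (Tr.node Tr.leaf 160911 6
 Tr.leaf) 160917 6
 Tr.leaf)) 160919 6
 (Tr.node (Tr.node (Tr.node Tr.leaf 160925 5
 Tr.leaf) 160927 5
 Tr.leaf) 160933 5
 (Tr.node Tr.leaf 160935 6
 Tr.leaf))) 160941 5
 (Tr.node (Tr.node (Tr.node (Tr.node Tr.leaf 160943 6
 Tr.leaf) 160949 6
 Tr.leaf) 160951 6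
 (Tr.node Tr.leaf 160957 6
 Tr.leaf)) 160959 6
 (Tr.node (Tr.node (Tr.node Tr.leaf 160961 6
 Tr.leaf) 160963 6
 Tr.leaf) 160969 6
 (Tr.node Tr.leaf 160971 5
 Tr.leaf)))))))) 160977 6
 (Tr.node (Tr.node (Tr.node (Tr.node (Tr.node (Tr.node (Tr.node (Tr.node (Tr.node Tr.leaf 160979 6
 Tr.leaf) 160985 6
 Tr.leaf) 160987 6
 (Tr.node (Tr.node Tr.leaf 160993 6
 Tr.leaf) 160995 6
 Tr.leaf)) 161001 6
 (Tr.node (Tr.node (Tr.node Tr.leaf 161003 6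
 Tr.leaf) 161009 5
 Tr.leaf) 161011 6
 (Tr.node Tr.leaf 161017 5
 Tr.leaf))) 161019 6
 (Tr.node (Tr.node (Tr.node (Tr.node Tr.leaf 161025 5
 Tr.leaf) 161027 6
 Tr.leaf) 161033 6
 (Tr.node (Tr.node Tr.leaf 161035 6
 Tr.leaf) 161041 6
 Tr.leaf)) 161043 4
 (Tr.node (Tr.node (Tr.node Tr.leaf 161049 4
 Tr.leaf) 161051 7
 Tr.leaf) 161057 6
 (Tr.node Tr.leaf 161059 6
 Tr.leaf)))) 161065 6
 (Tr.node (Tr.node (Tr.node (Tr.node (Tr.node Tr.leaf 161067 6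
 Tr.leaf) 161073 6
 Tr.leaf) 161075 4
 (Tr.node (Tr.node Tr.leaf 161081 6
 Tr.leaf) 161083 6
 Tr.leaf)) 161093 6
 (Tr.node (Tr.node (Tr.node Tr.leaf 161095 6
 Tr.leaf) 161101 6
 Tr.leaf) 161103 6
 (Tr.node Tr.leaf 161109 6
 Tr.leaf))) 161111 5
 (Tr.node (Tr.node (Tr.node (Tr.node Tr.leaf 161117 5
 Tr.leaf) 161119 6
 Tr.leaf) 161125 6
 (Tr.node Tr.leaf 161127 6
 Tr.leaf)) 161133 5
 (Tr.node (Tr.node (Tr.node Tr.leaf 161135 6
 Tr.leaf) 161141 6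
 Tr.leaf) 161143 6
 (Tr.node Tr.leaf 161149 6
 Tr.leaf))))) 161151 6
 (Tr.node (Tr.node (Tr.node (Tr.node (Tr.node (Tr.node Tr.leaf 161157 5
 Tr.leaf) 161159 6
 Tr.leaf) 161165 6
 (Tr.node (Tr.node Tr.leaf 161167 5
 Tr.leaf) 161173 6
 Tr.leaf)) 161175 6
 (Tr.node (Tr.node (Tr.node Tr.leaf 161181 5
 Tr.leaf) 161183 6
 Tr.leaf) 161189 6
 (Tr.node Tr.leaf 161191 6
 Tr.leaf))) 161197 6
 (Tr.node (Tr.node (Tr.node (Tr.node Tr.leaf 161199 5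
 Tr.leaf) 161205 6
 Tr.leaf) 161207 6
 (Tr.node Tr.leaf 161213 6
 Tr.leaf)) 161215 5
 (Tr.node (Tr.node (Tr.node Tr.leaf 161217 6
 Tr.leaf) 161219 6
 Tr.leaf) 161225 6
 (Tr.node Tr.leaf 161227 6
 Tr.leaf)))) 161233 6
 (Tr.node (Tr.node (Tr.node (Tr.node (Tr.node Tr.leaf 161235 5
 Tr.leaf) 161241 6
 Tr.leaf) 161243 6
 (Tr.node (Tr.node Tr.leaf 161249 5
 Tr.leaf) 161251 6
 Tr.leaf)) 161257 5
 (Tr.node (Tr.node (Tr.node Tr.leaf 161259 6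
 Tr.leaf) 161265 6
 Tr.leaf) 161267 6
 (Tr.node Tr.leaf 161273 6
 Tr.leaf))) 161275 6
 (Tr.node (Tr.node (Tr.node (Tr.node Tr.leaf 161793 6
 Tr.leaf) 161794 5
 Tr.leaf) 161797 4
 (Tr.node Tr.leaf 161798 6
 Tr.leaf)) 161801 6
 (Tr.node (Tr.node (Tr.node Tr.leaf 161802 6
 Tr.leaf) 161805 4
 Tr.leaf) 161806 4
 (Tr.node Tr.leaf 161809 6
 Tr.leaf)))))) 161810 6
 (Tr.node (Tr.node (Tr.node (Tr.node (Tr.node (Tr.node (Tr.node Tr.leaf 161813 6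
 Tr.leaf) 161814 3
 Tr.leaf) 161817 4
 (Tr.node (Tr.node Tr.leaf 161818 6
 Tr.leaf) 161821 6
 Tr.leaf)) 161822 6
 (Tr.node (Tr.node (Tr.node Tr.leaf 161825 5
 Tr.leaf) 161826 3
 Tr.leaf) 161829 4
 (Tr.node Tr.leaf 161830 6
 Tr.leaf))) 161833 6
 (Tr.node (Tr.node (Tr.node (Tr.node Tr.leaf 161834 6
 Tr.leaf) 161837 7
 Tr.leaf) 161838 5
 (Tr.node (Tr.node Tr.leaf 161841 6
 Tr.leaf) 161842 6
 Tr.leaf)) 161845 6
 (Tr.node (Tr.node (Tr.node Tr.leaf 161846 5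
 Tr.leaf) 161849 4
 Tr.leaf) 161850 6
 (Tr.node Tr.leaf 161853 6
 Tr.leaf)))) 161854 6
 (Tr.node (Tr.node (Tr.node (Tr.node (Tr.node Tr.leaf 161859 6
 Tr.leaf) 161863 5
 Tr.leaf) 161867 5
 (Tr.node (Tr.node Tr.leaf 161871 6
 Tr.leaf) 161875 6
 Tr.leaf)) 161879 5
 (Tr.node (Tr.node (Tr.node Tr.leaf 161883 5
 Tr.leaf) 161887 6
 Tr.leaf) 161891 6
 (Tr.node Tr.leaf 161895 5
 Tr.leaf))) 161899 7
 (Tr.node (Tr.node (Tr.node (Tr.node Tr.leaf 161903 6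
 Tr.leaf) 161907 6
 Tr.leaf) 161911 5
 (Tr.node Tr.leaf 161915 5
 Tr.leaf)) 161919 6
 (Tr.node (Tr.node (Tr.node Tr.leaf 161923 6
 Tr.leaf) 161927 6
 Tr.leaf) 161931 6
 (Tr.node Tr.leaf 161935 6
 Tr.leaf))))) 161939 6
 (Tr.node (Tr.node (Tr.node (Tr.node (Tr.node (Tr.node Tr.leaf 161943 5
 Tr.leaf) 161947 5
 Tr.leaf) 161951 6
 (Tr.node (Tr.node Tr.leaf 161955 5
 Tr.leaf) 161959 5
 Tr.leaf)) 161963 6
 (Tr.node (Tr.node (Tr.node Tr.leaf 161967 6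
 Tr.leaf) 161971 5
 Tr.leaf) 161975 6
 (Tr.node Tr.leaf 161979 6
 Tr.leaf))) 161983 5
 (Tr.node (Tr.node (Tr.node (Tr.node Tr.leaf 161985 6
 Tr.leaf) 161986 6
 Tr.leaf) 161989 6
 (Tr.node Tr.leaf 161990 5
 Tr.leaf)) 161993 5
 (Tr.node (Tr.node (Tr.node Tr.leaf 161994 6
 Tr.leaf) 161997 6
 Tr.leaf) 161998 6
 (Tr.node Tr.leaf 162001 5
 Tr.leaf)))) 162002 5
 (Tr.node (Tr.node (Tr.node (Tr.node (Tr.node Tr.leaf 162005 6
 Tr.leaf) 162006 5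
 Tr.leaf) 162009 6
 (Tr.node (Tr.node Tr.leaf 162010 5
 Tr.leaf) 162013 5
 Tr.leaf)) 162014 6
 (Tr.node (Tr.node (Tr.node Tr.leaf 162017 6
 Tr.leaf) 162018 6
 Tr.leaf) 162021 5
 (Tr.node Tr.leaf 162022 5
 Tr.leaf))) 162025 6
 (Tr.node (Tr.node (Tr.node (Tr.node Tr.leaf 162026 5
 Tr.leaf) 162029 5
 Tr.leaf) 162030 6
 (Tr.node Tr.leaf 162033 5
 Tr.leaf)) 162034 6
 (Tr.node (Tr.node (Tr.node Tr.leaf 162037 5
 Tr.leaf) 162038 5
 Tr.leaf) 162041 5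
 (Tr.node Tr.leaf 162042 5
 Tr.leaf))))))) 162045 6
 (Tr.node (Tr.node (Tr.node (Tr.node (Tr.node (Tr.node (Tr.node (Tr.node Tr.leaf 162046 5
 Tr.leaf) 162049 4
 Tr.leaf) 162050 6
 (Tr.node (Tr.node Tr.leaf 162053 6
 Tr.leaf) 162054 6
 Tr.leaf)) 162057 6
 (Tr.node (Tr.node (Tr.node Tr.leaf 162058 5
 Tr.leaf) 162061 5
 Tr.leaf) 162062 5
 (Tr.node Tr.leaf 162065 6
 Tr.leaf))) 162066 3
 (Tr.node (Tr.node (Tr.node (Tr.node Tr.leaf 162069 4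
 Tr.leaf) 162070 6
 Tr.leaf) 162073 6
 (Tr.node (Tr.node Tr.leaf 162074 6
 Tr.leaf) 162077 5
 Tr.leaf)) 162078 3
 (Tr.node (Tr.node (Tr.node Tr.leaf 162081 5
 Tr.leaf) 162082 6
 Tr.leaf) 162085 6
 (Tr.node Tr.leaf 162086 6
 Tr.leaf)))) 162089 6
 (Tr.node (Tr.node (Tr.node (Tr.node (Tr.node Tr.leaf 162090 3
 Tr.leaf) 162093 4
 Tr.leaf) 162094 6
 (Tr.node (Tr.node Tr.leaf 162097 4
 Tr.leaf) 162098 5
 Tr.leaf)) 162101 4
 (Tr.node (Tr.node (Tr.node Tr.leaf 162102 6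
 Tr.leaf) 162105 6
 Tr.leaf) 162106 6
 (Tr.node Tr.leaf 162109 6
 Tr.leaf))) 162110 4
 (Tr.node (Tr.node (Tr.node (Tr.node Tr.leaf 162115 6
 Tr.leaf) 162119 6
 Tr.leaf) 162123 6
 (Tr.node Tr.leaf 162127 6
 Tr.leaf)) 162131 6
 (Tr.node (Tr.node (Tr.node Tr.leaf 162135 5
 Tr.leaf) 162139 6
 Tr.leaf) 162143 6
 (Tr.node Tr.leaf 162147 6
 Tr.leaf))))) 162151 6
 (Tr.node (Tr.node (Tr.node (Tr.node (Tr.node (Tr.node Tr.leaf 162155 6
 Tr.leaf) 162159 7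
 Tr.leaf) 162163 6
 (Tr.node (Tr.node Tr.leaf 162167 5
 Tr.leaf) 162171 5
 Tr.leaf)) 162175 6
 (Tr.node (Tr.node (Tr.node Tr.leaf 162179 6
 Tr.leaf) 162183 6
 Tr.leaf) 162187 6
 (Tr.node Tr.leaf 162191 6
 Tr.leaf))) 162195 5
 (Tr.node (Tr.node (Tr.node (Tr.node Tr.leaf 162199 5
 Tr.leaf) 162203 6
 Tr.leaf) 162207 6
 (Tr.node Tr.leaf 162211 6
 Tr.leaf)) 162215 6
 (Tr.node (Tr.node (Tr.node Tr.leaf 162219 6
 Tr.leaf) 162223 6
 Tr.leaf) 162227 6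
 (Tr.node Tr.leaf 162231 6
 Tr.leaf)))) 162235 6
 (Tr.node (Tr.node (Tr.node (Tr.node (Tr.node Tr.leaf 162239 6
 Tr.leaf) 162241 6
 Tr.leaf) 162242 6
 (Tr.node (Tr.node Tr.leaf 162245 6
 Tr.leaf) 162246 5
 Tr.leaf)) 162249 6
 (Tr.node (Tr.node (Tr.node Tr.leaf 162250 5
 Tr.leaf) 162253 6
 Tr.leaf) 162254 6
 (Tr.node Tr.leaf 162257 6
 Tr.leaf))) 162258 6
 (Tr.node (Tr.node (Tr.node (Tr.node Tr.leaf 162261 5
 Tr.leaf) 162262 5
 Tr.leaf) 162265 6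
 (Tr.node Tr.leaf 162266 5
 Tr.leaf)) 162269 5
 (Tr.node (Tr.node (Tr.node Tr.leaf 162270 6
 Tr.leaf) 162273 6
 Tr.leaf) 162274 6
 (Tr.node Tr.leaf 162277 6
 Tr.leaf)))))) 162278 5
 (Tr.node (Tr.node (Tr.node (Tr.node (Tr.node (Tr.node (Tr.node Tr.leaf 162281 6
 Tr.leaf) 162282 5
 Tr.leaf) 162285 6
 (Tr.node (Tr.node Tr.leaf 162286 6
 Tr.leaf) 162289 6
 Tr.leaf)) 162290 6
 (Tr.node (Tr.node (Tr.node Tr.leaf 162293 6
 Tr.leaf) 162294 5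
 Tr.leaf) 162297 6
 (Tr.node Tr.leaf 162298 5
 Tr.leaf))) 162301 6
 (Tr.node (Tr.node (Tr.node (Tr.node Tr.leaf 162302 6
 Tr.leaf) 162881 5
 Tr.leaf) 162883 5
 (Tr.node (Tr.node Tr.leaf 162885 6
 Tr.leaf) 162887 5
 Tr.leaf)) 162889 5
 (Tr.node (Tr.node (Tr.node Tr.leaf 162891 6
 Tr.leaf) 162893 5
 Tr.leaf) 162895 6
 (Tr.node Tr.leaf 162897 6
 Tr.leaf)))) 162899 6
 (Tr.node (Tr.node (Tr.node (Tr.node (Tr.node Tr.leaf 162901 6
 Tr.leaf) 162903 6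
 Tr.leaf) 162905 6
 (Tr.node (Tr.node Tr.leaf 162907 6
 Tr.leaf) 162909 5
 Tr.leaf)) 162911 5
 (Tr.node (Tr.node (Tr.node Tr.leaf 162913 6
 Tr.leaf) 162915 6
 Tr.leaf) 162917 6
 (Tr.node Tr.leaf 162919 6
 Tr.leaf))) 162921 6
 (Tr.node (Tr.node (Tr.node (Tr.node Tr.leaf 162923 5
 Tr.leaf) 162925 6
 Tr.leaf) 162927 6
 (Tr.node Tr.leaf 162929 6
 Tr.leaf)) 162931 6
 (Tr.node (Tr.node (Tr.node Tr.leaf 162933 6
 Tr.leaf) 162935 6
 Tr.leaf) 162937 6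
 (Tr.node Tr.leaf 162939 6
 Tr.leaf))))) 162941 5
 (Tr.node (Tr.node (Tr.node (Tr.node (Tr.node (Tr.node Tr.leaf 162943 6
 Tr.leaf) 162945 6
 Tr.leaf) 162947 6
 (Tr.node (Tr.node Tr.leaf 162949 6
 Tr.leaf) 162951 6
 Tr.leaf)) 162953 6
 (Tr.node (Tr.node (Tr.node Tr.leaf 162955 6
 Tr.leaf) 162957 6
 Tr.leaf) 162959 6
 (Tr.node Tr.leaf 162961 5
 Tr.leaf))) 162963 6
 (Tr.node (Tr.node (Tr.node (Tr.node Tr.leaf 162965 5
 Tr.leaf) 162967 6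
 Tr.leaf) 162969 6
 (Tr.node Tr.leaf 162971 6
 Tr.leaf)) 162973 6
 (Tr.node (Tr.node (Tr.node Tr.leaf 162975 6
 Tr.leaf) 162977 5
 Tr.leaf) 162979 6
 (Tr.node Tr.leaf 162981 5
 Tr.leaf)))) 162983 5
 (Tr.node (Tr.node (Tr.node (Tr.node (Tr.node Tr.leaf 162985 6
 Tr.leaf) 162987 6
 Tr.leaf) 162989 6
 (Tr.node (Tr.node Tr.leaf 162991 5
 Tr.leaf) 162993 5
 Tr.leaf)) 162995 6
 (Tr.node (Tr.node (Tr.node Tr.leaf 162997 6
 Tr.leaf) 162999 6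
 Tr.leaf) 163001 6
 (Tr.node Tr.leaf 163003 6
 Tr.leaf))) 163005 6
 (Tr.node (Tr.node (Tr.node (Tr.node Tr.leaf 163007 5
 Tr.leaf) 163137 6
 Tr.leaf) 163139 6
 (Tr.node Tr.leaf 163141 6
 Tr.leaf)) 163143 6
 (Tr.node (Tr.node (Tr.node Tr.leaf 163145 6
 Tr.leaf) 163147 5
 Tr.leaf) 163149 5
 (Tr.node Tr.leaf 163151 6
 Tr.leaf)))))))))

/-- A subtree. -/
def tr2_s40 : Tr := (Tr.node (Tr.node (Tr.node (Tr.node (Tr.node (Tr.node (Tr.node (Tr.node (Tr.node (Tr.node Tr.leaf 163155 6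
 Tr.leaf) 163157 6
 Tr.leaf) 163159 6
 (Tr.node (Tr.node Tr.leaf 163161 5
 Tr.leaf) 163163 6
 Tr.leaf)) 163165 6
 (Tr.node (Tr.node (Tr.node Tr.leaf 163167 6
 Tr.leaf) 163169 5
 Tr.leaf) 163171 5
 (Tr.node Tr.leaf 163173 6
 Tr.leaf))) 163175 6
 (Tr.node (Tr.node (Tr.node (Tr.node Tr.leaf 163177 6
 Tr.leaf) 163179 6
 Tr.leaf) 163181 6
 (Tr.node (Tr.node Tr.leaf 163183 6
 Tr.leaf) 163185 5
 Tr.leaf)) 163187 5
 (Tr.node (Tr.node (Tr.node Tr.leaf 163189 6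
 Tr.leaf) 163191 5
 Tr.leaf) 163193 5
 (Tr.node Tr.leaf 163195 6
 Tr.leaf)))) 163197 5
 (Tr.node (Tr.node (Tr.node (Tr.node (Tr.node Tr.leaf 163199 6
 Tr.leaf) 163201 5
 Tr.leaf) 163203 6
 (Tr.node (Tr.node Tr.leaf 163205 6
 Tr.leaf) 163207 4
 Tr.leaf)) 163209 6
 (Tr.node (Tr.node (Tr.node Tr.leaf 163211 6
 Tr.leaf) 163213 4
 Tr.leaf) 163215 5
 (Tr.node Tr.leaf 163217 5
 Tr.leaf))) 163219 6
 (Tr.node (Tr.node (Tr.node (Tr.node Tr.leaf 163221 6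
 Tr.leaf) 163223 5
 Tr.leaf) 163225 6
 (Tr.node Tr.leaf 163227 6
 Tr.leaf)) 163229 5
 (Tr.node (Tr.node (Tr.node Tr.leaf 163231 5
 Tr.leaf) 163233 6
 Tr.leaf) 163235 6
 (Tr.node Tr.leaf 163237 6
 Tr.leaf))))) 163239 5
 (Tr.node (Tr.node (Tr.node (Tr.node (Tr.node (Tr.node Tr.leaf 163241 5
 Tr.leaf) 163243 6
 Tr.leaf) 163245 6
 (Tr.node (Tr.node Tr.leaf 163247 6
 Tr.leaf) 163249 4
 Tr.leaf)) 163251 5
 (Tr.node (Tr.node (Tr.node Tr.leaf 163253 6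
 Tr.leaf) 163255 6
 Tr.leaf) 163257 6
 (Tr.node Tr.leaf 163259 6
 Tr.leaf))) 163261 6
 (Tr.node (Tr.node (Tr.node (Tr.node Tr.leaf 163263 6
 Tr.leaf) 163843 6
 Tr.leaf) 163845 4
 (Tr.node (Tr.node Tr.leaf 163846 5
 Tr.leaf) 163849 5
 Tr.leaf)) 163850 4
 (Tr.node (Tr.node (Tr.node Tr.leaf 163852 6
 Tr.leaf) 163855 6
 Tr.leaf) 163857 4
 (Tr.node Tr.leaf 163858 4
 Tr.leaf)))) 163860 4
 (Tr.node (Tr.node (Tr.node (Tr.node (Tr.node Tr.leaf 163863 6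
 Tr.leaf) 163864 7
 Tr.leaf) 163867 6
 (Tr.node (Tr.node Tr.leaf 163869 6
 Tr.leaf) 163870 6
 Tr.leaf)) 163873 6
 (Tr.node (Tr.node (Tr.node Tr.leaf 163874 5
 Tr.leaf) 163876 4
 Tr.leaf) 163879 6
 (Tr.node Tr.leaf 163880 5
 Tr.leaf))) 163883 6
 (Tr.node (Tr.node (Tr.node (Tr.node Tr.leaf 163885 6
 Tr.leaf) 163886 6
 Tr.leaf) 163888 5
 (Tr.node Tr.leaf 163891 6
 Tr.leaf)) 163893 6
 (Tr.node (Tr.node (Tr.node Tr.leaf 163894 4
 Tr.leaf) 163897 5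
 Tr.leaf) 163898 4
 (Tr.node Tr.leaf 163900 6
 Tr.leaf)))))) 163903 6
 (Tr.node (Tr.node (Tr.node (Tr.node (Tr.node (Tr.node (Tr.node Tr.leaf 163907 6
 Tr.leaf) 163909 4
 Tr.leaf) 163910 6
 (Tr.node (Tr.node Tr.leaf 163913 4
 Tr.leaf) 163914 4
 Tr.leaf)) 163916 6
 (Tr.node (Tr.node (Tr.node Tr.leaf 163919 7
 Tr.leaf) 163921 4
 Tr.leaf) 163922 4
 (Tr.node Tr.leaf 163924 5
 Tr.leaf))) 163927 5
 (Tr.node (Tr.node (Tr.node (Tr.node Tr.leaf 163928 6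
 Tr.leaf) 163931 5
 Tr.leaf) 163933 6
 (Tr.node (Tr.node Tr.leaf 163934 6
 Tr.leaf) 163937 6
 Tr.leaf)) 163938 4
 (Tr.node (Tr.node (Tr.node Tr.leaf 163940 4
 Tr.leaf) 163943 6
 Tr.leaf) 163944 3
 (Tr.node Tr.leaf 163947 6
 Tr.leaf)))) 163949 6
 (Tr.node (Tr.node (Tr.node (Tr.node (Tr.node Tr.leaf 163950 6
 Tr.leaf) 163952 5
 Tr.leaf) 163955 6
 (Tr.node (Tr.node Tr.leaf 163957 6
 Tr.leaf) 163958 3
 Tr.leaf)) 163961 6
 (Tr.node (Tr.node (Tr.node Tr.leaf 163962 6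
 Tr.leaf) 163964 6
 Tr.leaf) 163967 6
 (Tr.node Tr.leaf 163969 4
 Tr.leaf))) 163970 4
 (Tr.node (Tr.node (Tr.node (Tr.node Tr.leaf 163972 5
 Tr.leaf) 163975 6
 Tr.leaf) 163976 4
 (Tr.node Tr.leaf 163979 6
 Tr.leaf)) 163981 6
 (Tr.node (Tr.node (Tr.node Tr.leaf 163982 6
 Tr.leaf) 163984 4
 Tr.leaf) 163987 4
 (Tr.node Tr.leaf 163989 6
 Tr.leaf))))) 163990 6
 (Tr.node (Tr.node (Tr.node (Tr.node (Tr.node (Tr.node Tr.leaf 163993 5
 Tr.leaf) 163994 6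
 Tr.leaf) 163996 5
 (Tr.node (Tr.node Tr.leaf 163999 6
 Tr.leaf) 164000 4
 Tr.leaf)) 164003 6
 (Tr.node (Tr.node (Tr.node Tr.leaf 164005 6
 Tr.leaf) 164006 6
 Tr.leaf) 164009 5
 (Tr.node Tr.leaf 164010 3
 Tr.leaf))) 164012 6
 (Tr.node (Tr.node (Tr.node (Tr.node Tr.leaf 164015 6
 Tr.leaf) 164017 6
 Tr.leaf) 164018 4
 (Tr.node Tr.leaf 164020 4
 Tr.leaf)) 164023 6
 (Tr.node (Tr.node (Tr.node Tr.leaf 164024 6
 Tr.leaf) 164027 6
 Tr.leaf) 164029 6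
 (Tr.node Tr.leaf 164030 6
 Tr.leaf)))) 164033 4
 (Tr.node (Tr.node (Tr.node (Tr.node (Tr.node Tr.leaf 164034 5
 Tr.leaf) 164036 4
 Tr.leaf) 164039 6
 (Tr.node (Tr.node Tr.leaf 164040 4
 Tr.leaf) 164043 7
 Tr.leaf)) 164045 5
 (Tr.node (Tr.node (Tr.node Tr.leaf 164046 6
 Tr.leaf) 164048 5
 Tr.leaf) 164051 6
 (Tr.node Tr.leaf 164053 6
 Tr.leaf))) 164054 5
 (Tr.node (Tr.node (Tr.node (Tr.node Tr.leaf 164057 5
 Tr.leaf) 164058 5
 Tr.leaf) 164060 6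
 (Tr.node Tr.leaf 164063 6
 Tr.leaf)) 164064 4
 (Tr.node (Tr.node (Tr.node Tr.leaf 164067 4
 Tr.leaf) 164069 6
 Tr.leaf) 164070 6
 (Tr.node Tr.leaf 164073 6
 Tr.leaf))))))) 164074 6
 (Tr.node (Tr.node (Tr.node (Tr.node (Tr.node (Tr.node (Tr.node (Tr.node Tr.leaf 164076 5
 Tr.leaf) 164079 6
 Tr.leaf) 164081 7
 (Tr.node (Tr.node Tr.leaf 164082 6
 Tr.leaf) 164084 6
 Tr.leaf)) 164087 5
 (Tr.node (Tr.node (Tr.node Tr.leaf 164088 6
 Tr.leaf) 164091 6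
 Tr.leaf) 164093 5
 (Tr.node Tr.leaf 164094 5
 Tr.leaf))) 164099 6
 (Tr.node (Tr.node (Tr.node (Tr.node Tr.leaf 164101 4
 Tr.leaf) 164102 5
 Tr.leaf) 164105 5
 (Tr.node (Tr.node Tr.leaf 164106 4
 Tr.leaf) 164108 6
 Tr.leaf)) 164111 3
 (Tr.node (Tr.node (Tr.node Tr.leaf 164113 5
 Tr.leaf) 164114 5
 Tr.leaf) 164116 4
 (Tr.node Tr.leaf 164119 5
 Tr.leaf)))) 164120 6
 (Tr.node (Tr.node (Tr.node (Tr.node (Tr.node Tr.leaf 164123 6
 Tr.leaf) 164125 6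
 Tr.leaf) 164126 6
 (Tr.node (Tr.node Tr.leaf 164129 6
 Tr.leaf) 164130 4
 Tr.leaf)) 164132 4
 (Tr.node (Tr.node (Tr.node Tr.leaf 164135 4
 Tr.leaf) 164136 5
 Tr.leaf) 164139 4
 (Tr.node Tr.leaf 164141 6
 Tr.leaf))) 164142 3
 (Tr.node (Tr.node (Tr.node (Tr.node Tr.leaf 164144 6
 Tr.leaf) 164147 6
 Tr.leaf) 164149 3
 (Tr.node Tr.leaf 164150 3
 Tr.leaf)) 164153 6
 (Tr.node (Tr.node (Tr.node Tr.leaf 164154 6
 Tr.leaf) 164156 6
 Tr.leaf) 164159 6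
 (Tr.node Tr.leaf 164163 6
 Tr.leaf))))) 164165 4
 (Tr.node (Tr.node (Tr.node (Tr.node (Tr.node (Tr.node Tr.leaf 164166 6
 Tr.leaf) 164169 4
 Tr.leaf) 164170 4
 (Tr.node (Tr.node Tr.leaf 164172 6
 Tr.leaf) 164175 5
 Tr.leaf)) 164177 4
 (Tr.node (Tr.node (Tr.node Tr.leaf 164178 4
 Tr.leaf) 164180 4
 Tr.leaf) 164183 6
 (Tr.node Tr.leaf 164184 7
 Tr.leaf))) 164187 7
 (Tr.node (Tr.node (Tr.node (Tr.node Tr.leaf 164189 7
 Tr.leaf) 164190 6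
 Tr.leaf) 164193 6
 (Tr.node Tr.leaf 164194 4
 Tr.leaf)) 164196 4
 (Tr.node (Tr.node (Tr.node Tr.leaf 164199 6
 Tr.leaf) 164200 4
 Tr.leaf) 164203 6
 (Tr.node Tr.leaf 164205 5
 Tr.leaf)))) 164206 6
 (Tr.node (Tr.node (Tr.node (Tr.node (Tr.node Tr.leaf 164208 6
 Tr.leaf) 164211 6
 Tr.leaf) 164213 6
 (Tr.node (Tr.node Tr.leaf 164214 5
 Tr.leaf) 164217 4
 Tr.leaf)) 164218 6
 (Tr.node (Tr.node (Tr.node Tr.leaf 164220 6
 Tr.leaf) 164223 6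
 Tr.leaf) 164225 4
 (Tr.node Tr.leaf 164226 4
 Tr.leaf))) 164228 4
 (Tr.node (Tr.node (Tr.node (Tr.node Tr.leaf 164231 6
 Tr.leaf) 164232 4
 Tr.leaf) 164235 4
 (Tr.node Tr.leaf 164237 6
 Tr.leaf)) 164238 4
 (Tr.node (Tr.node (Tr.node Tr.leaf 164240 5
 Tr.leaf) 164243 6
 Tr.leaf) 164245 6
 (Tr.node Tr.leaf 164246 4
 Tr.leaf)))))) 164249 6
 (Tr.node (Tr.node (Tr.node (Tr.node (Tr.node (Tr.node (Tr.node Tr.leaf 164250 4
 Tr.leaf) 164252 6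
 Tr.leaf) 164255 6
 (Tr.node (Tr.node Tr.leaf 164256 4
 Tr.leaf) 164259 6
 Tr.leaf)) 164261 3
 (Tr.node (Tr.node (Tr.node Tr.leaf 164262 6
 Tr.leaf) 164265 5
 Tr.leaf) 164266 6
 (Tr.node Tr.leaf 164268 6
 Tr.leaf))) 164271 6
 (Tr.node (Tr.node (Tr.node (Tr.node Tr.leaf 164273 4
 Tr.leaf) 164274 6
 Tr.leaf) 164276 4
 (Tr.node (Tr.node Tr.leaf 164279 6
 Tr.leaf) 164280 6
 Tr.leaf)) 164283 6
 (Tr.node (Tr.node (Tr.node Tr.leaf 164285 6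
 Tr.leaf) 164286 6
 Tr.leaf) 164289 5
 (Tr.node Tr.leaf 164290 4
 Tr.leaf)))) 164292 4
 (Tr.node (Tr.node (Tr.node (Tr.node (Tr.node Tr.leaf 164295 6
 Tr.leaf) 164296 5
 Tr.leaf) 164299 4
 (Tr.node (Tr.node Tr.leaf 164301 6
 Tr.leaf) 164302 4
 Tr.leaf)) 164304 4
 (Tr.node (Tr.node (Tr.node Tr.leaf 164307 6
 Tr.leaf) 164309 6
 Tr.leaf) 164310 6
 (Tr.node Tr.leaf 164313 6
 Tr.leaf))) 164314 6
 (Tr.node (Tr.node (Tr.node (Tr.node Tr.leaf 164316 6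
 Tr.leaf) 164319 6
 Tr.leaf) 164320 4
 (Tr.node Tr.leaf 164323 4
 Tr.leaf)) 164325 7
 (Tr.node (Tr.node (Tr.node Tr.leaf 164326 6
 Tr.leaf) 164329 5
 Tr.leaf) 164330 3
 (Tr.node Tr.leaf 164332 6
 Tr.leaf))))) 164335 7
 (Tr.node (Tr.node (Tr.node (Tr.node (Tr.node (Tr.node Tr.leaf 164337 4
 Tr.leaf) 164338 6
 Tr.leaf) 164340 6
 (Tr.node (Tr.node Tr.leaf 164343 6
 Tr.leaf) 164344 6
 Tr.leaf)) 164347 6
 (Tr.node (Tr.node (Tr.node Tr.leaf 164349 5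
 Tr.leaf) 164350 6
 Tr.leaf) 164865 5
 (Tr.node Tr.leaf 164867 6
 Tr.leaf))) 164877 6
 (Tr.node (Tr.node (Tr.node (Tr.node Tr.leaf 164879 6
 Tr.leaf) 164885 6
 Tr.leaf) 164887 5
 (Tr.node Tr.leaf 164889 6
 Tr.leaf)) 164891 4
 (Tr.node (Tr.node (Tr.node Tr.leaf 164901 6
 Tr.leaf) 164903 6
 Tr.leaf) 164905 5
 (Tr.node Tr.leaf 164907 6
 Tr.leaf)))) 164913 6
 (Tr.node (Tr.node (Tr.node (Tr.node (Tr.node Tr.leaf 164915 6
 Tr.leaf) 164925 6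
 Tr.leaf) 164927 5
 (Tr.node (Tr.node Tr.leaf 164929 6
 Tr.leaf) 164931 6
 Tr.leaf)) 164941 4
 (Tr.node (Tr.node (Tr.node Tr.leaf 164943 6
 Tr.leaf) 164949 4
 Tr.leaf) 164951 6
 (Tr.node Tr.leaf 164953 6
 Tr.leaf))) 164955 6
 (Tr.node (Tr.node (Tr.node (Tr.node Tr.leaf 164965 6
 Tr.leaf) 164967 4
 Tr.leaf) 164969 6
 (Tr.node Tr.leaf 164971 6
 Tr.leaf)) 164977 6
 (Tr.node (Tr.node (Tr.node Tr.leaf 164979 6
 Tr.leaf) 164989 5
 Tr.leaf) 164991 6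
 (Tr.node Tr.leaf 164997 6
 Tr.leaf)))))))) 164999 5
 (Tr.node (Tr.node (Tr.node (Tr.node (Tr.node (Tr.node (Tr.node (Tr.node (Tr.node Tr.leaf 165001 6
 Tr.leaf) 165003 6
 Tr.leaf) 165009 6
 (Tr.node (Tr.node Tr.leaf 165011 5
 Tr.leaf) 165021 6
 Tr.leaf)) 165023 6
 (Tr.node (Tr.node (Tr.node Tr.leaf 165025 6
 Tr.leaf) 165027 6
 Tr.leaf) 165037 6
 (Tr.node Tr.leaf 165039 5
 Tr.leaf))) 165045 6
 (Tr.node (Tr.node (Tr.node (Tr.node Tr.leaf 165047 6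
 Tr.leaf) 165049 6
 Tr.leaf) 165051 6
 (Tr.node (Tr.node Tr.leaf 165061 6
 Tr.leaf) 165063 6
 Tr.leaf)) 165065 6
 (Tr.node (Tr.node (Tr.node Tr.leaf 165067 6
 Tr.leaf) 165073 6
 Tr.leaf) 165075 6
 (Tr.node Tr.leaf 165085 6
 Tr.leaf)))) 165087 6
 (Tr.node (Tr.node (Tr.node (Tr.node (Tr.node Tr.leaf 165089 6
 Tr.leaf) 165091 6
 Tr.leaf) 165101 5
 (Tr.node (Tr.node Tr.leaf 165103 6
 Tr.leaf) 165109 6
 Tr.leaf)) 165111 6
 (Tr.node (Tr.node (Tr.node Tr.leaf 165113 5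
 Tr.leaf) 165115 6
 Tr.leaf) 165121 6
 (Tr.node Tr.leaf 165123 6
 Tr.leaf))) 165133 6
 (Tr.node (Tr.node (Tr.node (Tr.node Tr.leaf 165135 6
 Tr.leaf) 165141 7
 Tr.leaf) 165143 5
 (Tr.node Tr.leaf 165145 6
 Tr.leaf)) 165147 5
 (Tr.node (Tr.node (Tr.node Tr.leaf 165157 6
 Tr.leaf) 165159 6
 Tr.leaf) 165161 5
 (Tr.node Tr.leaf 165163 6
 Tr.leaf))))) 165169 5
 (Tr.node (Tr.node (Tr.node (Tr.node (Tr.node (Tr.node Tr.leaf 165171 6
 Tr.leaf) 165181 6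
 Tr.leaf) 165183 6
 (Tr.node (Tr.node Tr.leaf 165185 6
 Tr.leaf) 165187 6
 Tr.leaf)) 165197 5
 (Tr.node (Tr.node (Tr.node Tr.leaf 165199 6
 Tr.leaf) 165205 6
 Tr.leaf) 165207 6
 (Tr.node Tr.leaf 165209 5
 Tr.leaf))) 165211 5
 (Tr.node (Tr.node (Tr.node (Tr.node Tr.leaf 165221 6
 Tr.leaf) 165223 6
 Tr.leaf) 165225 6
 (Tr.node (Tr.node Tr.leaf 165227 5
 Tr.leaf) 165233 6
 Tr.leaf)) 165235 6
 (Tr.node (Tr.node (Tr.node Tr.leaf 165245 7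
 Tr.leaf) 165247 6
 Tr.leaf) 165253 6
 (Tr.node Tr.leaf 165255 6
 Tr.leaf)))) 165257 4
 (Tr.node (Tr.node (Tr.node (Tr.node (Tr.node Tr.leaf 165259 6
 Tr.leaf) 165265 5
 Tr.leaf) 165267 6
 (Tr.node (Tr.node Tr.leaf 165277 6
 Tr.leaf) 165279 5
 Tr.leaf)) 165281 4
 (Tr.node (Tr.node (Tr.node Tr.leaf 165283 6
 Tr.leaf) 165293 6
 Tr.leaf) 165295 5
 (Tr.node Tr.leaf 165301 6
 Tr.leaf))) 165303 6
 (Tr.node (Tr.node (Tr.node (Tr.node Tr.leaf 165305 6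
 Tr.leaf) 165307 6
 Tr.leaf) 165317 6
 (Tr.node Tr.leaf 165319 6
 Tr.leaf)) 165321 6
 (Tr.node (Tr.node (Tr.node Tr.leaf 165323 4
 Tr.leaf) 165329 5
 Tr.leaf) 165331 5
 (Tr.node Tr.leaf 165341 6
 Tr.leaf)))))) 165343 6
 (Tr.node (Tr.node (Tr.node (Tr.node (Tr.node (Tr.node (Tr.node Tr.leaf 165345 6
 Tr.leaf) 165347 6
 Tr.leaf) 165357 6
 (Tr.node (Tr.node Tr.leaf 165359 6
 Tr.leaf) 165365 5
 Tr.leaf)) 165367 5
 (Tr.node (Tr.node (Tr.node Tr.leaf 165369 6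
 Tr.leaf) 165371 6
 Tr.leaf) 165889 5
 (Tr.node Tr.leaf 165890 6
 Tr.leaf))) 165893 4
 (Tr.node (Tr.node (Tr.node (Tr.node Tr.leaf 165894 6
 Tr.leaf) 165899 7
 Tr.leaf) 165903 6
 (Tr.node (Tr.node Tr.leaf 165907 4
 Tr.leaf) 165911 6
 Tr.leaf)) 165913 6
 (Tr.node (Tr.node (Tr.node Tr.leaf 165914 6
 Tr.leaf) 165917 4
 Tr.leaf) 165918 6
 (Tr.node Tr.leaf 165923 6
 Tr.leaf)))) 165927 6
 (Tr.node (Tr.node (Tr.node (Tr.node (Tr.node Tr.leaf 165929 6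
 Tr.leaf) 165930 6
 Tr.leaf) 165933 6
 (Tr.node (Tr.node Tr.leaf 165934 6
 Tr.leaf) 165937 5
 Tr.leaf)) 165938 6
 (Tr.node (Tr.node (Tr.node Tr.leaf 165941 5
 Tr.leaf) 165942 5
 Tr.leaf) 165947 6
 (Tr.node Tr.leaf 165951 5
 Tr.leaf))) 165953 4
 (Tr.node (Tr.node (Tr.node (Tr.node Tr.leaf 165954 6
 Tr.leaf) 165957 3
 Tr.leaf) 165958 5
 (Tr.node Tr.leaf 165963 5
 Tr.leaf)) 165967 6
 (Tr.node (Tr.node (Tr.node Tr.leaf 165971 6
 Tr.leaf) 165975 5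
 Tr.leaf) 165977 6
 (Tr.node Tr.leaf 165978 6
 Tr.leaf))))) 165981 5
 (Tr.node (Tr.node (Tr.node (Tr.node (Tr.node (Tr.node Tr.leaf 165982 7
 Tr.leaf) 165987 6
 Tr.leaf) 165991 6
 (Tr.node (Tr.node Tr.leaf 165993 6
 Tr.leaf) 165994 6
 Tr.leaf)) 165997 6
 (Tr.node (Tr.node (Tr.node Tr.leaf 165998 6
 Tr.leaf) 166001 5
 Tr.leaf) 166002 6
 (Tr.node Tr.leaf 166005 6
 Tr.leaf))) 166006 6
 (Tr.node (Tr.node (Tr.node (Tr.node Tr.leaf 166011 6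
 Tr.leaf) 166015 6
 Tr.leaf) 166019 6
 (Tr.node Tr.leaf 166023 6
 Tr.leaf)) 166025 4
 (Tr.node (Tr.node (Tr.node Tr.leaf 166026 6
 Tr.leaf) 166029 4
 Tr.leaf) 166030 4
 (Tr.node Tr.leaf 166033 4
 Tr.leaf)))) 166034 6
 (Tr.node (Tr.node (Tr.node (Tr.node (Tr.node Tr.leaf 166037 6
 Tr.leaf) 166038 6
 Tr.leaf) 166043 6
 (Tr.node (Tr.node Tr.leaf 166047 6
 Tr.leaf) 166049 6
 Tr.leaf)) 166050 4
 (Tr.node (Tr.node (Tr.node Tr.leaf 166053 6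
 Tr.leaf) 166054 6
 Tr.leaf) 166059 6
 (Tr.node Tr.leaf 166063 6
 Tr.leaf))) 166067 6
 (Tr.node (Tr.node (Tr.node (Tr.node Tr.leaf 166071 6
 Tr.leaf) 166073 5
 Tr.leaf) 166074 6
 (Tr.node Tr.leaf 166077 5
 Tr.leaf)) 166078 6
 (Tr.node (Tr.node (Tr.node Tr.leaf 166083 6
 Tr.leaf) 166087 6
 Tr.leaf) 166089 5
 (Tr.node Tr.leaf 166090 6
 Tr.leaf))))))) 166093 6
 (Tr.node (Tr.node (Tr.node (Tr.node (Tr.node (Tr.node (Tr.node (Tr.node Tr.leaf 166094 5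
 Tr.leaf) 166097 6
 Tr.leaf) 166098 4
 (Tr.node (Tr.node Tr.leaf 166101 5
 Tr.leaf) 166102 4
 Tr.leaf)) 166107 6
 (Tr.node (Tr.node (Tr.node Tr.leaf 166111 6
 Tr.leaf) 166113 4
 Tr.leaf) 166114 6
 (Tr.node Tr.leaf 166117 5
 Tr.leaf))) 166118 4
 (Tr.node (Tr.node (Tr.node (Tr.node Tr.leaf 166123 5
 Tr.leaf) 166127 6
 Tr.leaf) 166131 6
 (Tr.node (Tr.node Tr.leaf 166135 6
 Tr.leaf) 166137 6
 Tr.leaf)) 166138 5
 (Tr.node (Tr.node (Tr.node Tr.leaf 166141 6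
 Tr.leaf) 166142 6
 Tr.leaf) 166145 3
 (Tr.node Tr.leaf 166146 6
 Tr.leaf)))) 166149 4
 (Tr.node (Tr.node (Tr.node (Tr.node (Tr.node Tr.leaf 166150 6
 Tr.leaf) 166155 6
 Tr.leaf) 166159 6
 (Tr.node (Tr.node Tr.leaf 166163 6
 Tr.leaf) 166167 4
 Tr.leaf)) 166169 6
 (Tr.node (Tr.node (Tr.node Tr.leaf 166170 7
 Tr.leaf) 166173 6
 Tr.leaf) 166174 6
 (Tr.node Tr.leaf 166179 6
 Tr.leaf))) 166183 4
 (Tr.node (Tr.node (Tr.node (Tr.node Tr.leaf 166185 6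
 Tr.leaf) 166186 5
 Tr.leaf) 166189 6
 (Tr.node Tr.leaf 166190 4
 Tr.leaf)) 166193 5
 (Tr.node (Tr.node (Tr.node Tr.leaf 166194 6
 Tr.leaf) 166197 6
 Tr.leaf) 166198 6
 (Tr.node Tr.leaf 166203 6
 Tr.leaf))))) 166207 6
 (Tr.node (Tr.node (Tr.node (Tr.node (Tr.node (Tr.node Tr.leaf 166209 4
 Tr.leaf) 166210 6
 Tr.leaf) 166213 5
 (Tr.node (Tr.node Tr.leaf 166214 5
 Tr.leaf) 166219 4
 Tr.leaf)) 166223 6
 (Tr.node (Tr.node (Tr.node Tr.leaf 166227 6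
 Tr.leaf) 166231 6
 Tr.leaf) 166233 5
 (Tr.node Tr.leaf 166234 6
 Tr.leaf))) 166237 5
 (Tr.node (Tr.node (Tr.node (Tr.node Tr.leaf 166238 6
 Tr.leaf) 166243 4
 Tr.leaf) 166247 4
 (Tr.node Tr.leaf 166249 6
 Tr.leaf)) 166250 6
 (Tr.node (Tr.node (Tr.node Tr.leaf 166253 6
 Tr.leaf) 166254 6
 Tr.leaf) 166257 6
 (Tr.node Tr.leaf 166258 6
 Tr.leaf)))) 166261 4
 (Tr.node (Tr.node (Tr.node (Tr.node (Tr.node Tr.leaf 166262 6
 Tr.leaf) 166267 6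
 Tr.leaf) 166271 6
 (Tr.node (Tr.node Tr.leaf 166275 6
 Tr.leaf) 166279 6
 Tr.leaf)) 166281 6
 (Tr.node (Tr.node (Tr.node Tr.leaf 166282 6
 Tr.leaf) 166285 6
 Tr.leaf) 166286 6
 (Tr.node Tr.leaf 166289 6
 Tr.leaf))) 166290 5
 (Tr.node (Tr.node (Tr.node (Tr.node Tr.leaf 166293 4
 Tr.leaf) 166294 4
 Tr.leaf) 166299 6
 (Tr.node Tr.leaf 166303 5
 Tr.leaf)) 166305 5
 (Tr.node (Tr.node (Tr.node Tr.leaf 166306 4
 Tr.leaf) 166309 6
 Tr.leaf) 166310 6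
 (Tr.node Tr.leaf 166315 6
 Tr.leaf)))))) 166319 6
 (Tr.node (Tr.node (Tr.node (Tr.node (Tr.node (Tr.node (Tr.node Tr.leaf 166323 6
 Tr.leaf) 166327 5
 Tr.leaf) 166329 6
 (Tr.node (Tr.node Tr.leaf 166330 6
 Tr.leaf) 166333 6
 Tr.leaf)) 166334 6
 (Tr.node (Tr.node (Tr.node Tr.leaf 166339 6
 Tr.leaf) 166343 6
 Tr.leaf) 166345 6
 (Tr.node Tr.leaf 166346 6
 Tr.leaf))) 166349 6
 (Tr.node (Tr.node (Tr.node (Tr.node Tr.leaf 166350 6
 Tr.leaf) 166353 4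
 Tr.leaf) 166354 6
 (Tr.node (Tr.node Tr.leaf 166357 5
 Tr.leaf) 166358 6
 Tr.leaf)) 166363 6
 (Tr.node (Tr.node (Tr.node Tr.leaf 166367 6
 Tr.leaf) 166369 4
 Tr.leaf) 166370 6
 (Tr.node Tr.leaf 166373 6
 Tr.leaf)))) 166374 3
 (Tr.node (Tr.node (Tr.node (Tr.node (Tr.node Tr.leaf 166379 5
 Tr.leaf) 166383 6
 Tr.leaf) 166387 6
 (Tr.node (Tr.node Tr.leaf 166391 6
 Tr.leaf) 166393 6
 Tr.leaf)) 166394 5
 (Tr.node (Tr.node (Tr.node Tr.leaf 166397 6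
 Tr.leaf) 166398 6
 Tr.leaf) 166921 6
 (Tr.node Tr.leaf 166923 5
 Tr.leaf))) 166925 4
 (Tr.node (Tr.node (Tr.node (Tr.node Tr.leaf 166927 6
 Tr.leaf) 166929 6
 Tr.leaf) 166931 5
 (Tr.node Tr.leaf 166933 6
 Tr.leaf)) 166935 6
 (Tr.node (Tr.node (Tr.node Tr.leaf 166945 7
 Tr.leaf) 166947 4
 Tr.leaf) 166949 6
 (Tr.node Tr.leaf 166951 4
 Tr.leaf))))) 166969 6
 (Tr.node (Tr.node (Tr.node (Tr.node (Tr.node (Tr.node Tr.leaf 166971 6
 Tr.leaf) 166973 6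
 Tr.leaf) 166975 6
 (Tr.node (Tr.node Tr.leaf 166985 6
 Tr.leaf) 166987 7
 Tr.leaf)) 166989 6
 (Tr.node (Tr.node (Tr.node Tr.leaf 166991 6
 Tr.leaf) 166993 6
 Tr.leaf) 166995 6
 (Tr.node Tr.leaf 166997 6
 Tr.leaf))) 166999 6
 (Tr.node (Tr.node (Tr.node (Tr.node Tr.leaf 167009 6
 Tr.leaf) 167011 5
 Tr.leaf) 167013 6
 (Tr.node Tr.leaf 167015 5
 Tr.leaf)) 167033 6
 (Tr.node (Tr.node (Tr.node Tr.leaf 167035 6
 Tr.leaf) 167037 6
 Tr.leaf) 167039 6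
 (Tr.node Tr.leaf 167041 7
 Tr.leaf)))) 167043 6
 (Tr.node (Tr.node (Tr.node (Tr.node (Tr.node Tr.leaf 167045 6
 Tr.leaf) 167047 6
 Tr.leaf) 167065 6
 (Tr.node (Tr.node Tr.leaf 167067 6
 Tr.leaf) 167069 6
 Tr.leaf)) 167071 6
 (Tr.node (Tr.node (Tr.node Tr.leaf 167081 7
 Tr.leaf) 167083 6
 Tr.leaf) 167085 6
 (Tr.node Tr.leaf 167087 5
 Tr.leaf))) 167089 6
 (Tr.node (Tr.node (Tr.node (Tr.node Tr.leaf 167091 6
 Tr.leaf) 167093 6
 Tr.leaf) 167095 6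
 (Tr.node Tr.leaf 167105 6
 Tr.leaf)) 167107 6
 (Tr.node (Tr.node (Tr.node Tr.leaf 167109 5
 Tr.leaf) 167111 6
 Tr.leaf) 167129 5
 (Tr.node Tr.leaf 167131 5
 Tr.leaf)))))))))

/-- A subtree. -/
def tr2_s41 : Tr := (Tr.node (Tr.node (Tr.node (Tr.node (Tr.node (Tr.node (Tr.node (Tr.node (Tr.node (Tr.node Tr.leaf 167135 6
 Tr.leaf) 167145 6
 Tr.leaf) 167147 5
 (Tr.node (Tr.node Tr.leaf 167149 6
 Tr.leaf) 167151 6
 Tr.leaf)) 167153 6
 (Tr.node (Tr.node (Tr.node Tr.leaf 167155 6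
 Tr.leaf) 167157 6
 Tr.leaf) 167159 6
 (Tr.node Tr.leaf 167177 6
 Tr.leaf))) 167179 6
 (Tr.node (Tr.node (Tr.node (Tr.node Tr.leaf 167181 5
 Tr.leaf) 167183 6
 Tr.leaf) 167185 6
 (Tr.node (Tr.node Tr.leaf 167187 7
 Tr.leaf) 167189 5
 Tr.leaf)) 167191 6
 (Tr.node (Tr.node (Tr.node Tr.leaf 167201 5
 Tr.leaf) 167203 6
 Tr.leaf) 167205 6
 (Tr.node Tr.leaf 167207 6
 Tr.leaf)))) 167225 6
 (Tr.node (Tr.node (Tr.node (Tr.node (Tr.node Tr.leaf 167227 6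
 Tr.leaf) 167229 6
 Tr.leaf) 167231 5
 (Tr.node (Tr.node Tr.leaf 167241 6
 Tr.leaf) 167243 6
 Tr.leaf)) 167245 6
 (Tr.node (Tr.node (Tr.node Tr.leaf 167247 4
 Tr.leaf) 167249 4
 Tr.leaf) 167251 5
 (Tr.node Tr.leaf 167253 5
 Tr.leaf))) 167255 7
 (Tr.node (Tr.node (Tr.node (Tr.node Tr.leaf 167265 6
 Tr.leaf) 167267 6
 Tr.leaf) 167269 6
 (Tr.node Tr.leaf 167271 5
 Tr.leaf)) 167289 6
 (Tr.node (Tr.node (Tr.node Tr.leaf 167291 5
 Tr.leaf) 167293 5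
 Tr.leaf) 167295 6
 (Tr.node Tr.leaf 167297 5
 Tr.leaf))))) 167299 5
 (Tr.node (Tr.node (Tr.node (Tr.node (Tr.node (Tr.node Tr.leaf 167301 6
 Tr.leaf) 167303 6
 Tr.leaf) 167321 6
 (Tr.node (Tr.node Tr.leaf 167323 6
 Tr.leaf) 167325 6
 Tr.leaf)) 167327 6
 (Tr.node (Tr.node (Tr.node Tr.leaf 167337 6
 Tr.leaf) 167339 6
 Tr.leaf) 167341 6
 (Tr.node Tr.leaf 167343 6
 Tr.leaf))) 167345 6
 (Tr.node (Tr.node (Tr.node (Tr.node Tr.leaf 167347 5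
 Tr.leaf) 167349 6
 Tr.leaf) 167351 6
 (Tr.node (Tr.node Tr.leaf 167361 6
 Tr.leaf) 167363 6
 Tr.leaf)) 167365 6
 (Tr.node (Tr.node (Tr.node Tr.leaf 167367 6
 Tr.leaf) 167385 5
 Tr.leaf) 167387 5
 (Tr.node Tr.leaf 167389 5
 Tr.leaf)))) 167391 6
 (Tr.node (Tr.node (Tr.node (Tr.node (Tr.node Tr.leaf 167401 5
 Tr.leaf) 167403 6
 Tr.leaf) 167405 6
 (Tr.node (Tr.node Tr.leaf 167407 6
 Tr.leaf) 167409 6
 Tr.leaf)) 167411 6
 (Tr.node (Tr.node (Tr.node Tr.leaf 167413 6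
 Tr.leaf) 167415 5
 Tr.leaf) 167937 4
 (Tr.node Tr.leaf 167938 4
 Tr.leaf))) 167940 5
 (Tr.node (Tr.node (Tr.node (Tr.node Tr.leaf 167943 6
 Tr.leaf) 167945 4
 Tr.leaf) 167946 5
 (Tr.node Tr.leaf 167948 6
 Tr.leaf)) 167951 5
 (Tr.node (Tr.node (Tr.node Tr.leaf 167955 6
 Tr.leaf) 167957 5
 Tr.leaf) 167958 6
 (Tr.node Tr.leaf 167963 4
 Tr.leaf)))))) 167965 7
 (Tr.node (Tr.node (Tr.node (Tr.node (Tr.node (Tr.node (Tr.node Tr.leaf 167966 6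
 Tr.leaf) 167971 4
 Tr.leaf) 167973 6
 (Tr.node (Tr.node Tr.leaf 167974 4
 Tr.leaf) 167979 6
 Tr.leaf)) 167981 6
 (Tr.node (Tr.node (Tr.node Tr.leaf 167982 6
 Tr.leaf) 167985 6
 Tr.leaf) 167986 6
 (Tr.node Tr.leaf 167988 4
 Tr.leaf))) 167991 6
 (Tr.node (Tr.node (Tr.node (Tr.node Tr.leaf 167993 6
 Tr.leaf) 167994 6
 Tr.leaf) 167996 6
 (Tr.node (Tr.node Tr.leaf 167999 6
 Tr.leaf) 168001 4
 Tr.leaf)) 168002 4
 (Tr.node (Tr.node (Tr.node Tr.leaf 168004 6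
 Tr.leaf) 168007 6
 Tr.leaf) 168009 4
 (Tr.node Tr.leaf 168010 5
 Tr.leaf)))) 168012 6
 (Tr.node (Tr.node (Tr.node (Tr.node (Tr.node Tr.leaf 168015 5
 Tr.leaf) 168019 5
 Tr.leaf) 168021 5
 (Tr.node (Tr.node Tr.leaf 168022 6
 Tr.leaf) 168027 4
 Tr.leaf)) 168029 6
 (Tr.node (Tr.node (Tr.node Tr.leaf 168030 6
 Tr.leaf) 168035 6
 Tr.leaf) 168037 6
 (Tr.node Tr.leaf 168038 6
 Tr.leaf))) 168043 4
 (Tr.node (Tr.node (Tr.node (Tr.node Tr.leaf 168045 6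
 Tr.leaf) 168046 4
 Tr.leaf) 168049 5
 (Tr.node Tr.leaf 168050 3
 Tr.leaf)) 168052 3
 (Tr.node (Tr.node (Tr.node Tr.leaf 168055 6
 Tr.leaf) 168057 5
 Tr.leaf) 168058 6
 (Tr.node Tr.leaf 168060 6
 Tr.leaf))))) 168063 6
 (Tr.node (Tr.node (Tr.node (Tr.node (Tr.node (Tr.node Tr.leaf 168067 6
 Tr.leaf) 168069 6
 Tr.leaf) 168070 6
 (Tr.node (Tr.node Tr.leaf 168075 5
 Tr.leaf) 168077 6
 Tr.leaf)) 168078 6
 (Tr.node (Tr.node (Tr.node Tr.leaf 168081 5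
 Tr.leaf) 168082 6
 Tr.leaf) 168084 4
 (Tr.node Tr.leaf 168087 6
 Tr.leaf))) 168089 6
 (Tr.node (Tr.node (Tr.node (Tr.node Tr.leaf 168090 6
 Tr.leaf) 168092 6
 Tr.leaf) 168095 7
 (Tr.node Tr.leaf 168097 6
 Tr.leaf)) 168098 6
 (Tr.node (Tr.node (Tr.node Tr.leaf 168100 6
 Tr.leaf) 168103 6
 Tr.leaf) 168105 5
 (Tr.node Tr.leaf 168106 5
 Tr.leaf)))) 168108 6
 (Tr.node (Tr.node (Tr.node (Tr.node (Tr.node Tr.leaf 168111 6
 Tr.leaf) 168115 6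
 Tr.leaf) 168117 6
 (Tr.node (Tr.node Tr.leaf 168118 6
 Tr.leaf) 168123 6
 Tr.leaf)) 168125 5
 (Tr.node (Tr.node (Tr.node Tr.leaf 168126 6
 Tr.leaf) 168131 6
 Tr.leaf) 168133 6
 (Tr.node Tr.leaf 168134 6
 Tr.leaf))) 168139 4
 (Tr.node (Tr.node (Tr.node (Tr.node Tr.leaf 168141 6
 Tr.leaf) 168142 6
 Tr.leaf) 168145 6
 (Tr.node Tr.leaf 168146 5
 Tr.leaf)) 168148 6
 (Tr.node (Tr.node (Tr.node Tr.leaf 168151 6
 Tr.leaf) 168153 5
 Tr.leaf) 168154 3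
 (Tr.node Tr.leaf 168156 5
 Tr.leaf))))))) 168159 6
 (Tr.node (Tr.node (Tr.node (Tr.node (Tr.node (Tr.node (Tr.node (Tr.node Tr.leaf 168161 5
 Tr.leaf) 168162 4
 Tr.leaf) 168164 6
 (Tr.node (Tr.node Tr.leaf 168167 5
 Tr.leaf) 168169 4
 Tr.leaf)) 168170 6
 (Tr.node (Tr.node (Tr.node Tr.leaf 168172 6
 Tr.leaf) 168175 6
 Tr.leaf) 168179 6
 (Tr.node Tr.leaf 168181 6
 Tr.leaf))) 168182 6
 (Tr.node (Tr.node (Tr.node (Tr.node Tr.leaf 168187 5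
 Tr.leaf) 168189 6
 Tr.leaf) 168190 6
 (Tr.node (Tr.node Tr.leaf 168193 4
 Tr.leaf) 168194 4
 Tr.leaf)) 168196 5
 (Tr.node (Tr.node (Tr.node Tr.leaf 168199 6
 Tr.leaf) 168201 4
 Tr.leaf) 168202 4
 (Tr.node Tr.leaf 168204 6
 Tr.leaf)))) 168207 6
 (Tr.node (Tr.node (Tr.node (Tr.node (Tr.node Tr.leaf 168211 5
 Tr.leaf) 168213 4
 Tr.leaf) 168214 6
 (Tr.node (Tr.node Tr.leaf 168219 4
 Tr.leaf) 168221 4
 Tr.leaf)) 168222 6
 (Tr.node (Tr.node (Tr.node Tr.leaf 168227 6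
 Tr.leaf) 168229 6
 Tr.leaf) 168230 6
 (Tr.node Tr.leaf 168235 5
 Tr.leaf))) 168237 6
 (Tr.node (Tr.node (Tr.node (Tr.node Tr.leaf 168238 6
 Tr.leaf) 168241 5
 Tr.leaf) 168242 6
 (Tr.node Tr.leaf 168244 6
 Tr.leaf)) 168247 5
 (Tr.node (Tr.node (Tr.node Tr.leaf 168249 6
 Tr.leaf) 168250 4
 Tr.leaf) 168252 4
 (Tr.node Tr.leaf 168255 6
 Tr.leaf))))) 168257 4
 (Tr.node (Tr.node (Tr.node (Tr.node (Tr.node (Tr.node Tr.leaf 168258 5
 Tr.leaf) 168260 6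
 Tr.leaf) 168263 6
 (Tr.node (Tr.node Tr.leaf 168265 5
 Tr.leaf) 168266 4
 Tr.leaf)) 168268 6
 (Tr.node (Tr.node (Tr.node Tr.leaf 168271 6
 Tr.leaf) 168275 6
 Tr.leaf) 168277 6
 (Tr.node Tr.leaf 168278 6
 Tr.leaf))) 168283 6
 (Tr.node (Tr.node (Tr.node (Tr.node Tr.leaf 168285 6
 Tr.leaf) 168286 6
 Tr.leaf) 168291 4
 (Tr.node Tr.leaf 168293 6
 Tr.leaf)) 168294 5
 (Tr.node (Tr.node (Tr.node Tr.leaf 168299 6
 Tr.leaf) 168301 6
 Tr.leaf) 168302 6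
 (Tr.node Tr.leaf 168305 4
 Tr.leaf)))) 168306 6
 (Tr.node (Tr.node (Tr.node (Tr.node (Tr.node Tr.leaf 168308 6
 Tr.leaf) 168311 6
 Tr.leaf) 168313 6
 (Tr.node (Tr.node Tr.leaf 168314 5
 Tr.leaf) 168316 5
 Tr.leaf)) 168319 6
 (Tr.node (Tr.node (Tr.node Tr.leaf 168323 5
 Tr.leaf) 168325 4
 Tr.leaf) 168326 5
 (Tr.node Tr.leaf 168331 6
 Tr.leaf))) 168333 6
 (Tr.node (Tr.node (Tr.node (Tr.node Tr.leaf 168334 5
 Tr.leaf) 168337 3
 Tr.leaf) 168338 3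
 (Tr.node Tr.leaf 168340 3
 Tr.leaf)) 168343 6
 (Tr.node (Tr.node (Tr.node Tr.leaf 168345 7
 Tr.leaf) 168346 5
 Tr.leaf) 168348 6
 (Tr.node Tr.leaf 168351 6
 Tr.leaf)))))) 168353 6
 (Tr.node (Tr.node (Tr.node (Tr.node (Tr.node (Tr.node (Tr.node Tr.leaf 168354 6
 Tr.leaf) 168356 6
 Tr.leaf) 168359 6
 (Tr.node (Tr.node Tr.leaf 168361 5
 Tr.leaf) 168362 5
 Tr.leaf)) 168364 6
 (Tr.node (Tr.node (Tr.node Tr.leaf 168367 6
 Tr.leaf) 168371 7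
 Tr.leaf) 168373 6
 (Tr.node Tr.leaf 168374 6
 Tr.leaf))) 168379 6
 (Tr.node (Tr.node (Tr.node (Tr.node Tr.leaf 168381 6
 Tr.leaf) 168382 6
 Tr.leaf) 168387 6
 (Tr.node (Tr.node Tr.leaf 168389 6
 Tr.leaf) 168390 5
 Tr.leaf)) 168395 6
 (Tr.node (Tr.node (Tr.node Tr.leaf 168397 6
 Tr.leaf) 168398 4
 Tr.leaf) 168401 4
 (Tr.node Tr.leaf 168402 6
 Tr.leaf)))) 168404 5
 (Tr.node (Tr.node (Tr.node (Tr.node (Tr.node Tr.leaf 168407 6
 Tr.leaf) 168409 5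
 Tr.leaf) 168410 6
 (Tr.node (Tr.node Tr.leaf 168412 3
 Tr.leaf) 168415 7
 Tr.leaf)) 168417 6
 (Tr.node (Tr.node (Tr.node Tr.leaf 168418 6
 Tr.leaf) 168420 6
 Tr.leaf) 168423 5
 (Tr.node Tr.leaf 168425 7
 Tr.leaf))) 168426 6
 (Tr.node (Tr.node (Tr.node (Tr.node Tr.leaf 168428 6
 Tr.leaf) 168431 5
 Tr.leaf) 168435 6
 (Tr.node Tr.leaf 168437 6
 Tr.leaf)) 168438 5
 (Tr.node (Tr.node (Tr.node Tr.leaf 168443 6
 Tr.leaf) 168445 6
 Tr.leaf) 168446 6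
 (Tr.node Tr.leaf 168965 5
 Tr.leaf))))) 168967 5
 (Tr.node (Tr.node (Tr.node (Tr.node (Tr.node (Tr.node Tr.leaf 168973 6
 Tr.leaf) 168975 6
 Tr.leaf) 168977 6
 (Tr.node (Tr.node Tr.leaf 168979 5
 Tr.leaf) 168985 7
 Tr.leaf)) 168987 5
 (Tr.node (Tr.node (Tr.node Tr.leaf 168993 5
 Tr.leaf) 168995 4
 Tr.leaf) 169001 6
 (Tr.node Tr.leaf 169003 6
 Tr.leaf))) 169013 6
 (Tr.node (Tr.node (Tr.node (Tr.node Tr.leaf 169015 6
 Tr.leaf) 169021 6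
 Tr.leaf) 169023 6
 (Tr.node Tr.leaf 169029 6
 Tr.leaf)) 169031 4
 (Tr.node (Tr.node (Tr.node Tr.leaf 169037 7
 Tr.leaf) 169039 6
 Tr.leaf) 169041 4
 (Tr.node Tr.leaf 169043 6
 Tr.leaf)))) 169049 6
 (Tr.node (Tr.node (Tr.node (Tr.node (Tr.node Tr.leaf 169051 6
 Tr.leaf) 169057 5
 Tr.leaf) 169059 6
 (Tr.node (Tr.node Tr.leaf 169065 6
 Tr.leaf) 169067 5
 Tr.leaf)) 169077 6
 (Tr.node (Tr.node (Tr.node Tr.leaf 169079 5
 Tr.leaf) 169085 6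
 Tr.leaf) 169087 6
 (Tr.node Tr.leaf 169089 5
 Tr.leaf))) 169091 6
 (Tr.node (Tr.node (Tr.node (Tr.node Tr.leaf 169097 5
 Tr.leaf) 169099 6
 Tr.leaf) 169109 6
 (Tr.node Tr.leaf 169111 6
 Tr.leaf)) 169117 6
 (Tr.node (Tr.node (Tr.node Tr.leaf 169119 6
 Tr.leaf) 169125 5
 Tr.leaf) 169127 6
 (Tr.node Tr.leaf 169133 6
 Tr.leaf)))))))) 169135 6
 (Tr.node (Tr.node (Tr.node (Tr.node (Tr.node (Tr.node (Tr.node (Tr.node (Tr.node Tr.leaf 169137 6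
 Tr.leaf) 169139 5
 Tr.leaf) 169145 5
 (Tr.node (Tr.node Tr.leaf 169147 6
 Tr.leaf) 169153 6
 Tr.leaf)) 169155 6
 (Tr.node (Tr.node (Tr.node Tr.leaf 169161 6
 Tr.leaf) 169163 4
 Tr.leaf) 169173 5
 (Tr.node Tr.leaf 169175 6
 Tr.leaf))) 169181 6
 (Tr.node (Tr.node (Tr.node (Tr.node Tr.leaf 169183 6
 Tr.leaf) 169189 6
 Tr.leaf) 169191 6
 (Tr.node (Tr.node Tr.leaf 169197 6
 Tr.leaf) 169199 6
 Tr.leaf)) 169201 6
 (Tr.node (Tr.node (Tr.node Tr.leaf 169203 6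
 Tr.leaf) 169209 6
 Tr.leaf) 169211 5
 (Tr.node Tr.leaf 169221 5
 Tr.leaf)))) 169223 6
 (Tr.node (Tr.node (Tr.node (Tr.node (Tr.node Tr.leaf 169229 6
 Tr.leaf) 169231 4
 Tr.leaf) 169233 5
 (Tr.node (Tr.node Tr.leaf 169235 6
 Tr.leaf) 169241 6
 Tr.leaf)) 169243 6
 (Tr.node (Tr.node (Tr.node Tr.leaf 169249 6
 Tr.leaf) 169251 6
 Tr.leaf) 169257 6
 (Tr.node Tr.leaf 169259 5
 Tr.leaf))) 169269 6
 (Tr.node (Tr.node (Tr.node (Tr.node Tr.leaf 169271 5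
 Tr.leaf) 169277 6
 Tr.leaf) 169279 6
 (Tr.node Tr.leaf 169285 6
 Tr.leaf)) 169287 5
 (Tr.node (Tr.node (Tr.node Tr.leaf 169293 6
 Tr.leaf) 169295 6
 Tr.leaf) 169297 4
 (Tr.node Tr.leaf 169299 6
 Tr.leaf))))) 169305 6
 (Tr.node (Tr.node (Tr.node (Tr.node (Tr.node (Tr.node Tr.leaf 169307 6
 Tr.leaf) 169313 4
 Tr.leaf) 169315 6
 (Tr.node (Tr.node Tr.leaf 169321 6
 Tr.leaf) 169323 6
 Tr.leaf)) 169333 6
 (Tr.node (Tr.node (Tr.node Tr.leaf 169335 5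
 Tr.leaf) 169341 6
 Tr.leaf) 169343 6
 (Tr.node Tr.leaf 169345 6
 Tr.leaf))) 169347 5
 (Tr.node (Tr.node (Tr.node (Tr.node Tr.leaf 169353 6
 Tr.leaf) 169355 6
 Tr.leaf) 169365 6
 (Tr.node Tr.leaf 169367 5
 Tr.leaf)) 169373 5
 (Tr.node (Tr.node (Tr.node Tr.leaf 169375 6
 Tr.leaf) 169381 5
 Tr.leaf) 169383 6
 (Tr.node Tr.leaf 169389 6
 Tr.leaf)))) 169391 5
 (Tr.node (Tr.node (Tr.node (Tr.node (Tr.node Tr.leaf 169393 6
 Tr.leaf) 169395 5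
 Tr.leaf) 169401 6
 (Tr.node (Tr.node Tr.leaf 169403 6
 Tr.leaf) 169409 6
 Tr.leaf)) 169411 6
 (Tr.node (Tr.node (Tr.node Tr.leaf 169417 6
 Tr.leaf) 169419 6
 Tr.leaf) 169429 5
 (Tr.node Tr.leaf 169431 6
 Tr.leaf))) 169437 5
 (Tr.node (Tr.node (Tr.node (Tr.node Tr.leaf 169439 5
 Tr.leaf) 169445 6
 Tr.leaf) 169447 5
 (Tr.node Tr.leaf 169453 6
 Tr.leaf)) 169455 5
 (Tr.node (Tr.node (Tr.node Tr.leaf 169457 6
 Tr.leaf) 169459 6
 Tr.leaf) 169465 6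
 (Tr.node Tr.leaf 169467 7
 Tr.leaf)))))) 169987 4
 (Tr.node (Tr.node (Tr.node (Tr.node (Tr.node (Tr.node (Tr.node Tr.leaf 169991 6
 Tr.leaf) 169995 6
 Tr.leaf) 169999 4
 (Tr.node (Tr.node Tr.leaf 170001 6
 Tr.leaf) 170002 6
 Tr.leaf)) 170005 6
 (Tr.node (Tr.node (Tr.node Tr.leaf 170006 6
 Tr.leaf) 170009 5
 Tr.leaf) 170010 6
 (Tr.node Tr.leaf 170013 4
 Tr.leaf))) 170014 6
 (Tr.node (Tr.node (Tr.node (Tr.node Tr.leaf 170017 6
 Tr.leaf) 170018 4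
 Tr.leaf) 170021 6
 (Tr.node (Tr.node Tr.leaf 170022 5
 Tr.leaf) 170025 6
 Tr.leaf)) 170026 5
 (Tr.node (Tr.node (Tr.node Tr.leaf 170029 6
 Tr.leaf) 170030 5
 Tr.leaf) 170035 6
 (Tr.node Tr.leaf 170039 6
 Tr.leaf)))) 170043 5
 (Tr.node (Tr.node (Tr.node (Tr.node (Tr.node Tr.leaf 170047 6
 Tr.leaf) 170051 6
 Tr.leaf) 170055 6
 (Tr.node (Tr.node Tr.leaf 170059 6
 Tr.leaf) 170063 6
 Tr.leaf)) 170065 4
 (Tr.node (Tr.node (Tr.node Tr.leaf 170066 6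
 Tr.leaf) 170069 7
 Tr.leaf) 170070 6
 (Tr.node Tr.leaf 170073 4
 Tr.leaf))) 170074 6
 (Tr.node (Tr.node (Tr.node (Tr.node Tr.leaf 170077 6
 Tr.leaf) 170078 6
 Tr.leaf) 170081 6
 (Tr.node Tr.leaf 170082 6
 Tr.leaf)) 170085 5
 (Tr.node (Tr.node (Tr.node Tr.leaf 170086 6
 Tr.leaf) 170089 6
 Tr.leaf) 170090 5
 (Tr.node Tr.leaf 170093 5
 Tr.leaf))))) 170094 4
 (Tr.node (Tr.node (Tr.node (Tr.node (Tr.node (Tr.node Tr.leaf 170099 6
 Tr.leaf) 170103 6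
 Tr.leaf) 170107 5
 (Tr.node (Tr.node Tr.leaf 170111 6
 Tr.leaf) 170113 5
 Tr.leaf)) 170114 6
 (Tr.node (Tr.node (Tr.node Tr.leaf 170117 6
 Tr.leaf) 170118 5
 Tr.leaf) 170121 6
 (Tr.node Tr.leaf 170122 6
 Tr.leaf))) 170125 6
 (Tr.node (Tr.node (Tr.node (Tr.node Tr.leaf 170126 4
 Tr.leaf) 170131 6
 Tr.leaf) 170135 5
 (Tr.node Tr.leaf 170139 5
 Tr.leaf)) 170143 6
 (Tr.node (Tr.node (Tr.node Tr.leaf 170147 6
 Tr.leaf) 170151 7
 Tr.leaf) 170155 6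
 (Tr.node Tr.leaf 170159 6
 Tr.leaf)))) 170161 5
 (Tr.node (Tr.node (Tr.node (Tr.node (Tr.node Tr.leaf 170162 6
 Tr.leaf) 170165 6
 Tr.leaf) 170166 5
 (Tr.node (Tr.node Tr.leaf 170169 6
 Tr.leaf) 170170 5
 Tr.leaf)) 170173 6
 (Tr.node (Tr.node (Tr.node Tr.leaf 170174 6
 Tr.leaf) 170177 6
 Tr.leaf) 170178 6
 (Tr.node Tr.leaf 170181 6
 Tr.leaf))) 170182 4
 (Tr.node (Tr.node (Tr.node (Tr.node Tr.leaf 170185 6
 Tr.leaf) 170186 6
 Tr.leaf) 170189 5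
 (Tr.node Tr.leaf 170190 4
 Tr.leaf)) 170195 5
 (Tr.node (Tr.node (Tr.node Tr.leaf 170199 6
 Tr.leaf) 170203 6
 Tr.leaf) 170207 6
 (Tr.node Tr.leaf 170211 6
 Tr.leaf))))))) 170215 6
 (Tr.node (Tr.node (Tr.node (Tr.node (Tr.node (Tr.node (Tr.node (Tr.node Tr.leaf 170219 5
 Tr.leaf) 170223 6
 Tr.leaf) 170225 6
 (Tr.node (Tr.node Tr.leaf 170226 6
 Tr.leaf) 170229 6
 Tr.leaf)) 170230 5
 (Tr.node (Tr.node (Tr.node Tr.leaf 170233 6
 Tr.leaf) 170234 6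
 Tr.leaf) 170237 6
 (Tr.node Tr.leaf 170238 6
 Tr.leaf))) 170243 6
 (Tr.node (Tr.node (Tr.node (Tr.node Tr.leaf 170247 6
 Tr.leaf) 170251 6
 Tr.leaf) 170255 4
 (Tr.node (Tr.node Tr.leaf 170257 6
 Tr.leaf) 170258 6
 Tr.leaf)) 170261 5
 (Tr.node (Tr.node (Tr.node Tr.leaf 170262 6
 Tr.leaf) 170265 6
 Tr.leaf) 170266 6
 (Tr.node Tr.leaf 170269 6
 Tr.leaf)))) 170270 6
 (Tr.node (Tr.node (Tr.node (Tr.node (Tr.node Tr.leaf 170273 6
 Tr.leaf) 170274 6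
 Tr.leaf) 170277 6
 (Tr.node (Tr.node Tr.leaf 170278 6
 Tr.leaf) 170281 5
 Tr.leaf)) 170282 7
 (Tr.node (Tr.node (Tr.node Tr.leaf 170285 6
 Tr.leaf) 170286 6
 Tr.leaf) 170291 6
 (Tr.node Tr.leaf 170295 6
 Tr.leaf))) 170299 6
 (Tr.node (Tr.node (Tr.node (Tr.node Tr.leaf 170303 6
 Tr.leaf) 170307 6
 Tr.leaf) 170311 4
 (Tr.node Tr.leaf 170315 6
 Tr.leaf)) 170319 6
 (Tr.node (Tr.node (Tr.node Tr.leaf 170321 6
 Tr.leaf) 170322 6
 Tr.leaf) 170325 4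
 (Tr.node Tr.leaf 170326 6
 Tr.leaf))))) 170329 6
 (Tr.node (Tr.node (Tr.node (Tr.node (Tr.node (Tr.node Tr.leaf 170330 6
 Tr.leaf) 170333 6
 Tr.leaf) 170334 6
 (Tr.node (Tr.node Tr.leaf 170337 6
 Tr.leaf) 170338 4
 Tr.leaf)) 170341 6
 (Tr.node (Tr.node (Tr.node Tr.leaf 170342 4
 Tr.leaf) 170345 6
 Tr.leaf) 170346 6
 (Tr.node Tr.leaf 170349 7
 Tr.leaf))) 170350 6
 (Tr.node (Tr.node (Tr.node (Tr.node Tr.leaf 170355 5
 Tr.leaf) 170359 6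
 Tr.leaf) 170363 5
 (Tr.node Tr.leaf 170367 6
 Tr.leaf)) 170369 5
 (Tr.node (Tr.node (Tr.node Tr.leaf 170370 6
 Tr.leaf) 170373 5
 Tr.leaf) 170374 6
 (Tr.node Tr.leaf 170377 6
 Tr.leaf)))) 170378 5
 (Tr.node (Tr.node (Tr.node (Tr.node (Tr.node Tr.leaf 170381 6
 Tr.leaf) 170382 6
 Tr.leaf) 170387 6
 (Tr.node (Tr.node Tr.leaf 170391 6
 Tr.leaf) 170395 6
 Tr.leaf)) 170399 6
 (Tr.node (Tr.node (Tr.node Tr.leaf 170403 6
 Tr.leaf) 170407 5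
 Tr.leaf) 170411 6
 (Tr.node Tr.leaf 170415 6
 Tr.leaf))) 170417 6
 (Tr.node (Tr.node (Tr.node (Tr.node Tr.leaf 170418 5
 Tr.leaf) 170421 6
 Tr.leaf) 170422 6
 (Tr.node Tr.leaf 170425 6
 Tr.leaf)) 170426 5
 (Tr.node (Tr.node (Tr.node Tr.leaf 170429 6
 Tr.leaf) 170430 5
 Tr.leaf) 170433 4
 (Tr.node Tr.leaf 170434 6
 Tr.leaf)))))) 170437 4
 (Tr.node (Tr.node (Tr.node (Tr.node (Tr.node (Tr.node (Tr.node Tr.leaf 170438 6
 Tr.leaf) 170441 6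
 Tr.leaf) 170442 6
 (Tr.node (Tr.node Tr.leaf 170445 6
 Tr.leaf) 170446 6
 Tr.leaf)) 170451 6
 (Tr.node (Tr.node (Tr.node Tr.leaf 170455 6
 Tr.leaf) 170459 6
 Tr.leaf) 170463 6
 (Tr.node Tr.leaf 170467 5
 Tr.leaf))) 170471 6
 (Tr.node (Tr.node (Tr.node (Tr.node Tr.leaf 170475 6
 Tr.leaf) 170479 7
 Tr.leaf) 170481 6
 (Tr.node (Tr.node Tr.leaf 170482 6
 Tr.leaf) 170485 6
 Tr.leaf)) 170486 5
 (Tr.node (Tr.node (Tr.node Tr.leaf 170489 6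
 Tr.leaf) 170490 6
 Tr.leaf) 170493 6
 (Tr.node Tr.leaf 170494 5
 Tr.leaf)))) 171009 6
 (Tr.node (Tr.node (Tr.node (Tr.node (Tr.node Tr.leaf 171011 6
 Tr.leaf) 171013 7
 Tr.leaf) 171015 5
 (Tr.node (Tr.node Tr.leaf 171017 4
 Tr.leaf) 171019 6
 Tr.leaf)) 171021 6
 (Tr.node (Tr.node (Tr.node Tr.leaf 171023 6
 Tr.leaf) 171057 6
 Tr.leaf) 171059 6
 (Tr.node Tr.leaf 171061 5
 Tr.leaf))) 171063 6
 (Tr.node (Tr.node (Tr.node (Tr.node Tr.leaf 171065 6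
 Tr.leaf) 171067 6
 Tr.leaf) 171069 6
 (Tr.node Tr.leaf 171071 5
 Tr.leaf)) 171073 4
 (Tr.node (Tr.node (Tr.node Tr.leaf 171075 6
 Tr.leaf) 171077 6
 Tr.leaf) 171079 6
 (Tr.node Tr.leaf 171081 6
 Tr.leaf))))) 171083 4
 (Tr.node (Tr.node (Tr.node (Tr.node (Tr.node (Tr.node Tr.leaf 171085 6
 Tr.leaf) 171087 6
 Tr.leaf) 171121 6
 (Tr.node (Tr.node Tr.leaf 171123 6
 Tr.leaf) 171125 6
 Tr.leaf)) 171127 6
 (Tr.node (Tr.node (Tr.node Tr.leaf 171129 6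
 Tr.leaf) 171131 6
 Tr.leaf) 171133 6
 (Tr.node Tr.leaf 171135 6
 Tr.leaf))) 171153 6
 (Tr.node (Tr.node (Tr.node (Tr.node Tr.leaf 171155 6
 Tr.leaf) 171157 6
 Tr.leaf) 171159 6
 (Tr.node Tr.leaf 171161 6
 Tr.leaf)) 171163 6
 (Tr.node (Tr.node (Tr.node Tr.leaf 171165 6
 Tr.leaf) 171167 6
 Tr.leaf) 171169 6
 (Tr.node Tr.leaf 171171 6
 Tr.leaf)))) 171173 6
 (Tr.node (Tr.node (Tr.node (Tr.node (Tr.node Tr.leaf 171175 6
 Tr.leaf) 171177 6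
 Tr.leaf) 171179 6
 (Tr.node (Tr.node Tr.leaf 171181 6
 Tr.leaf) 171183 6
 Tr.leaf)) 171217 6
 (Tr.node (Tr.node (Tr.node Tr.leaf 171219 6
 Tr.leaf) 171221 6
 Tr.leaf) 171223 6
 (Tr.node Tr.leaf 171225 6
 Tr.leaf))) 171227 7
 (Tr.node (Tr.node (Tr.node (Tr.node Tr.leaf 171229 6
 Tr.leaf) 171231 6
 Tr.leaf) 171233 6
 (Tr.node Tr.leaf 171235 6
 Tr.leaf)) 171237 6
 (Tr.node (Tr.node (Tr.node Tr.leaf 171239 6
 Tr.leaf) 171241 6
 Tr.leaf) 171243 5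
 (Tr.node Tr.leaf 171245 6
 Tr.leaf)))))))))

/-- A subtree. -/
def tr2_s42 : Tr := (Tr.node (Tr.node (Tr.node (Tr.node (Tr.node (Tr.node (Tr.node (Tr.node (Tr.node (Tr.node Tr.leaf 171265 6
 Tr.leaf) 171267 6
 Tr.leaf) 171269 7
 (Tr.node (Tr.node Tr.leaf 171271 4
 Tr.leaf) 171273 6
 Tr.leaf)) 171275 6
 (Tr.node (Tr.node (Tr.node Tr.leaf 171277 6
 Tr.leaf) 171279 6
 Tr.leaf) 171313 6
 (Tr.node Tr.leaf 171315 6
 Tr.leaf))) 171317 6
 (Tr.node (Tr.node (Tr.node (Tr.node Tr.leaf 171319 6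
 Tr.leaf) 171321 6
 Tr.leaf) 171323 6
 (Tr.node (Tr.node Tr.leaf 171325 6
 Tr.leaf) 171327 6
 Tr.leaf)) 171329 4
 (Tr.node (Tr.node (Tr.node Tr.leaf 171331 6
 Tr.leaf) 171333 6
 Tr.leaf) 171335 6
 (Tr.node Tr.leaf 171337 6
 Tr.leaf)))) 171339 4
 (Tr.node (Tr.node (Tr.node (Tr.node (Tr.node Tr.leaf 171341 4
 Tr.leaf) 171343 6
 Tr.leaf) 171377 6
 (Tr.node (Tr.node Tr.leaf 171379 6
 Tr.leaf) 171381 6
 Tr.leaf)) 171383 6
 (Tr.node (Tr.node (Tr.node Tr.leaf 171385 6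
 Tr.leaf) 171387 6
 Tr.leaf) 171389 6
 (Tr.node Tr.leaf 171391 6
 Tr.leaf))) 171409 6
 (Tr.node (Tr.node (Tr.node (Tr.node Tr.leaf 171411 6
 Tr.leaf) 171413 5
 Tr.leaf) 171415 6
 (Tr.node Tr.leaf 171417 6
 Tr.leaf)) 171419 6
 (Tr.node (Tr.node (Tr.node Tr.leaf 171421 6
 Tr.leaf) 171423 6
 Tr.leaf) 171425 6
 (Tr.node Tr.leaf 171427 6
 Tr.leaf))))) 171429 6
 (Tr.node (Tr.node (Tr.node (Tr.node (Tr.node (Tr.node Tr.leaf 171431 6
 Tr.leaf) 171433 6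
 Tr.leaf) 171435 6
 (Tr.node (Tr.node Tr.leaf 171437 6
 Tr.leaf) 171439 6
 Tr.leaf)) 171473 6
 (Tr.node (Tr.node (Tr.node Tr.leaf 171475 6
 Tr.leaf) 171477 6
 Tr.leaf) 171479 6
 (Tr.node Tr.leaf 171481 6
 Tr.leaf))) 171483 6
 (Tr.node (Tr.node (Tr.node (Tr.node Tr.leaf 171485 6
 Tr.leaf) 171487 6
 Tr.leaf) 171489 5
 (Tr.node (Tr.node Tr.leaf 171491 6
 Tr.leaf) 171493 7
 Tr.leaf)) 171495 6
 (Tr.node (Tr.node (Tr.node Tr.leaf 171497 6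
 Tr.leaf) 171499 5
 Tr.leaf) 171501 6
 (Tr.node Tr.leaf 171503 6
 Tr.leaf)))) 172033 5
 (Tr.node (Tr.node (Tr.node (Tr.node (Tr.node Tr.leaf 172034 4
 Tr.leaf) 172036 5
 Tr.leaf) 172039 7
 (Tr.node (Tr.node Tr.leaf 172040 7
 Tr.leaf) 172043 6
 Tr.leaf)) 172045 5
 (Tr.node (Tr.node (Tr.node Tr.leaf 172046 6
 Tr.leaf) 172049 4
 Tr.leaf) 172050 5
 (Tr.node Tr.leaf 172052 4
 Tr.leaf))) 172055 5
 (Tr.node (Tr.node (Tr.node (Tr.node Tr.leaf 172056 6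
 Tr.leaf) 172059 6
 Tr.leaf) 172061 7
 (Tr.node Tr.leaf 172062 6
 Tr.leaf)) 172067 6
 (Tr.node (Tr.node (Tr.node Tr.leaf 172069 6
 Tr.leaf) 172070 6
 Tr.leaf) 172073 6
 (Tr.node Tr.leaf 172074 5
 Tr.leaf)))))) 172076 3
 (Tr.node (Tr.node (Tr.node (Tr.node (Tr.node (Tr.node (Tr.node Tr.leaf 172079 6
 Tr.leaf) 172083 6
 Tr.leaf) 172085 6
 (Tr.node (Tr.node Tr.leaf 172086 6
 Tr.leaf) 172089 4
 Tr.leaf)) 172090 4
 (Tr.node (Tr.node (Tr.node Tr.leaf 172092 6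
 Tr.leaf) 172095 6
 Tr.leaf) 172097 4
 (Tr.node Tr.leaf 172098 4
 Tr.leaf))) 172100 4
 (Tr.node (Tr.node (Tr.node (Tr.node Tr.leaf 172103 4
 Tr.leaf) 172104 6
 Tr.leaf) 172107 5
 (Tr.node (Tr.node Tr.leaf 172109 5
 Tr.leaf) 172110 7
 Tr.leaf)) 172113 4
 (Tr.node (Tr.node (Tr.node Tr.leaf 172114 3
 Tr.leaf) 172116 4
 Tr.leaf) 172119 5
 (Tr.node Tr.leaf 172120 6
 Tr.leaf)))) 172123 6
 (Tr.node (Tr.node (Tr.node (Tr.node (Tr.node Tr.leaf 172125 6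
 Tr.leaf) 172126 6
 Tr.leaf) 172131 6
 (Tr.node (Tr.node Tr.leaf 172133 6
 Tr.leaf) 172134 6
 Tr.leaf)) 172137 6
 (Tr.node (Tr.node (Tr.node Tr.leaf 172138 6
 Tr.leaf) 172140 5
 Tr.leaf) 172143 6
 (Tr.node Tr.leaf 172147 6
 Tr.leaf))) 172149 6
 (Tr.node (Tr.node (Tr.node (Tr.node Tr.leaf 172150 6
 Tr.leaf) 172153 7
 Tr.leaf) 172154 6
 (Tr.node Tr.leaf 172156 6
 Tr.leaf)) 172159 5
 (Tr.node (Tr.node (Tr.node Tr.leaf 172163 6
 Tr.leaf) 172165 6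
 Tr.leaf) 172166 6
 (Tr.node Tr.leaf 172169 6
 Tr.leaf))))) 172170 5
 (Tr.node (Tr.node (Tr.node (Tr.node (Tr.node (Tr.node Tr.leaf 172172 6
 Tr.leaf) 172175 6
 Tr.leaf) 172179 5
 (Tr.node (Tr.node Tr.leaf 172181 6
 Tr.leaf) 172182 5
 Tr.leaf)) 172185 4
 (Tr.node (Tr.node (Tr.node Tr.leaf 172186 4
 Tr.leaf) 172188 5
 Tr.leaf) 172191 6
 (Tr.node Tr.leaf 172193 6
 Tr.leaf))) 172194 6
 (Tr.node (Tr.node (Tr.node (Tr.node Tr.leaf 172196 4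
 Tr.leaf) 172199 5
 Tr.leaf) 172200 6
 (Tr.node Tr.leaf 172203 6
 Tr.leaf)) 172205 7
 (Tr.node (Tr.node (Tr.node Tr.leaf 172206 6
 Tr.leaf) 172209 6
 Tr.leaf) 172210 6
 (Tr.node Tr.leaf 172212 5
 Tr.leaf)))) 172215 6
 (Tr.node (Tr.node (Tr.node (Tr.node (Tr.node Tr.leaf 172216 6
 Tr.leaf) 172219 6
 Tr.leaf) 172221 6
 (Tr.node (Tr.node Tr.leaf 172222 6
 Tr.leaf) 172227 4
 Tr.leaf)) 172229 4
 (Tr.node (Tr.node (Tr.node Tr.leaf 172230 6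
 Tr.leaf) 172233 4
 Tr.leaf) 172234 6
 (Tr.node Tr.leaf 172236 3
 Tr.leaf))) 172239 5
 (Tr.node (Tr.node (Tr.node (Tr.node Tr.leaf 172243 6
 Tr.leaf) 172245 5
 Tr.leaf) 172246 5
 (Tr.node Tr.leaf 172249 4
 Tr.leaf)) 172250 6
 (Tr.node (Tr.node (Tr.node Tr.leaf 172252 6
 Tr.leaf) 172255 6
 Tr.leaf) 172257 5
 (Tr.node Tr.leaf 172258 4
 Tr.leaf))))))) 172260 6
 (Tr.node (Tr.node (Tr.node (Tr.node (Tr.node (Tr.node (Tr.node (Tr.node Tr.leaf 172263 6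
 Tr.leaf) 172264 6
 Tr.leaf) 172267 6
 (Tr.node (Tr.node Tr.leaf 172269 6
 Tr.leaf) 172270 6
 Tr.leaf)) 172273 5
 (Tr.node (Tr.node (Tr.node Tr.leaf 172274 6
 Tr.leaf) 172276 6
 Tr.leaf) 172279 6
 (Tr.node Tr.leaf 172280 6
 Tr.leaf))) 172283 6
 (Tr.node (Tr.node (Tr.node (Tr.node Tr.leaf 172285 7
 Tr.leaf) 172286 6
 Tr.leaf) 172289 4
 (Tr.node (Tr.node Tr.leaf 172290 5
 Tr.leaf) 172292 5
 Tr.leaf)) 172295 6
 (Tr.node (Tr.node (Tr.node Tr.leaf 172296 6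
 Tr.leaf) 172299 4
 Tr.leaf) 172301 4
 (Tr.node Tr.leaf 172302 6
 Tr.leaf)))) 172305 4
 (Tr.node (Tr.node (Tr.node (Tr.node (Tr.node Tr.leaf 172306 4
 Tr.leaf) 172308 4
 Tr.leaf) 172311 6
 (Tr.node (Tr.node Tr.leaf 172312 6
 Tr.leaf) 172315 5
 Tr.leaf)) 172317 3
 (Tr.node (Tr.node (Tr.node Tr.leaf 172318 6
 Tr.leaf) 172323 6
 Tr.leaf) 172325 6
 (Tr.node Tr.leaf 172326 6
 Tr.leaf))) 172329 6
 (Tr.node (Tr.node (Tr.node (Tr.node Tr.leaf 172330 6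
 Tr.leaf) 172332 5
 Tr.leaf) 172335 6
 (Tr.node Tr.leaf 172339 6
 Tr.leaf)) 172341 4
 (Tr.node (Tr.node (Tr.node Tr.leaf 172342 6
 Tr.leaf) 172345 4
 Tr.leaf) 172346 6
 (Tr.node Tr.leaf 172348 3
 Tr.leaf))))) 172351 6
 (Tr.node (Tr.node (Tr.node (Tr.node (Tr.node (Tr.node Tr.leaf 172353 4
 Tr.leaf) 172354 4
 Tr.leaf) 172356 4
 (Tr.node (Tr.node Tr.leaf 172359 5
 Tr.leaf) 172360 6
 Tr.leaf)) 172363 5
 (Tr.node (Tr.node (Tr.node Tr.leaf 172365 6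
 Tr.leaf) 172366 6
 Tr.leaf) 172369 4
 (Tr.node Tr.leaf 172370 5
 Tr.leaf))) 172372 4
 (Tr.node (Tr.node (Tr.node (Tr.node Tr.leaf 172375 6
 Tr.leaf) 172376 7
 Tr.leaf) 172379 6
 (Tr.node Tr.leaf 172381 5
 Tr.leaf)) 172382 6
 (Tr.node (Tr.node (Tr.node Tr.leaf 172387 6
 Tr.leaf) 172389 6
 Tr.leaf) 172390 6
 (Tr.node Tr.leaf 172393 5
 Tr.leaf)))) 172394 3
 (Tr.node (Tr.node (Tr.node (Tr.node (Tr.node Tr.leaf 172396 6
 Tr.leaf) 172399 6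
 Tr.leaf) 172403 6
 (Tr.node (Tr.node Tr.leaf 172405 6
 Tr.leaf) 172406 6
 Tr.leaf)) 172409 5
 (Tr.node (Tr.node (Tr.node Tr.leaf 172410 4
 Tr.leaf) 172412 4
 Tr.leaf) 172415 6
 (Tr.node Tr.leaf 172419 4
 Tr.leaf))) 172421 6
 (Tr.node (Tr.node (Tr.node (Tr.node Tr.leaf 172422 6
 Tr.leaf) 172425 6
 Tr.leaf) 172426 6
 (Tr.node Tr.leaf 172428 6
 Tr.leaf)) 172431 6
 (Tr.node (Tr.node (Tr.node Tr.leaf 172435 6
 Tr.leaf) 172437 5
 Tr.leaf) 172438 6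
 (Tr.node Tr.leaf 172441 5
 Tr.leaf)))))) 172442 6
 (Tr.node (Tr.node (Tr.node (Tr.node (Tr.node (Tr.node (Tr.node Tr.leaf 172444 3
 Tr.leaf) 172447 7
 Tr.leaf) 172449 6
 (Tr.node (Tr.node Tr.leaf 172450 5
 Tr.leaf) 172452 5
 Tr.leaf)) 172455 5
 (Tr.node (Tr.node (Tr.node Tr.leaf 172456 6
 Tr.leaf) 172459 6
 Tr.leaf) 172461 6
 (Tr.node Tr.leaf 172462 5
 Tr.leaf))) 172465 6
 (Tr.node (Tr.node (Tr.node (Tr.node Tr.leaf 172466 6
 Tr.leaf) 172468 5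
 Tr.leaf) 172471 6
 (Tr.node (Tr.node Tr.leaf 172472 6
 Tr.leaf) 172475 5
 Tr.leaf)) 172477 6
 (Tr.node (Tr.node (Tr.node Tr.leaf 172478 6
 Tr.leaf) 172483 6
 Tr.leaf) 172485 6
 (Tr.node Tr.leaf 172486 4
 Tr.leaf)))) 172489 5
 (Tr.node (Tr.node (Tr.node (Tr.node (Tr.node Tr.leaf 172490 3
 Tr.leaf) 172492 5
 Tr.leaf) 172495 6
 (Tr.node (Tr.node Tr.leaf 172499 4
 Tr.leaf) 172501 6
 Tr.leaf)) 172502 6
 (Tr.node (Tr.node (Tr.node Tr.leaf 172505 6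
 Tr.leaf) 172506 6
 Tr.leaf) 172508 6
 (Tr.node Tr.leaf 172511 6
 Tr.leaf))) 172513 6
 (Tr.node (Tr.node (Tr.node (Tr.node Tr.leaf 172514 6
 Tr.leaf) 172516 6
 Tr.leaf) 172519 5
 (Tr.node Tr.leaf 172520 6
 Tr.leaf)) 172523 6
 (Tr.node (Tr.node (Tr.node Tr.leaf 172525 6
 Tr.leaf) 172526 6
 Tr.leaf) 172529 6
 (Tr.node Tr.leaf 172530 4
 Tr.leaf))))) 172532 6
 (Tr.node (Tr.node (Tr.node (Tr.node (Tr.node (Tr.node Tr.leaf 172535 6
 Tr.leaf) 172536 6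
 Tr.leaf) 172539 6
 (Tr.node (Tr.node Tr.leaf 172541 6
 Tr.leaf) 172542 6
 Tr.leaf)) 173061 5
 (Tr.node (Tr.node (Tr.node Tr.leaf 173063 6
 Tr.leaf) 173065 6
 Tr.leaf) 173067 7
 (Tr.node Tr.leaf 173077 6
 Tr.leaf))) 173079 6
 (Tr.node (Tr.node (Tr.node (Tr.node Tr.leaf 173081 4
 Tr.leaf) 173083 6
 Tr.leaf) 173089 6
 (Tr.node Tr.leaf 173091 6
 Tr.leaf)) 173101 6
 (Tr.node (Tr.node (Tr.node Tr.leaf 173103 6
 Tr.leaf) 173105 5
 Tr.leaf) 173107 6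
 (Tr.node Tr.leaf 173117 6
 Tr.leaf)))) 173119 6
 (Tr.node (Tr.node (Tr.node (Tr.node (Tr.node Tr.leaf 173125 6
 Tr.leaf) 173127 4
 Tr.leaf) 173129 6
 (Tr.node (Tr.node Tr.leaf 173131 5
 Tr.leaf) 173141 4
 Tr.leaf)) 173143 4
 (Tr.node (Tr.node (Tr.node Tr.leaf 173145 5
 Tr.leaf) 173147 6
 Tr.leaf) 173153 6
 (Tr.node Tr.leaf 173155 6
 Tr.leaf))) 173165 5
 (Tr.node (Tr.node (Tr.node (Tr.node Tr.leaf 173167 6
 Tr.leaf) 173169 5
 Tr.leaf) 173171 5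
 (Tr.node Tr.leaf 173181 5
 Tr.leaf)) 173183 6
 (Tr.node (Tr.node (Tr.node Tr.leaf 173185 6
 Tr.leaf) 173187 5
 Tr.leaf) 173197 6
 (Tr.node Tr.leaf 173199 6
 Tr.leaf)))))))) 173201 4
 (Tr.node (Tr.node (Tr.node (Tr.node (Tr.node (Tr.node (Tr.node (Tr.node (Tr.node Tr.leaf 173203 7
 Tr.leaf) 173213 6
 Tr.leaf) 173215 6
 (Tr.node (Tr.node Tr.leaf 173221 6
 Tr.leaf) 173223 5
 Tr.leaf)) 173225 6
 (Tr.node (Tr.node (Tr.node Tr.leaf 173227 6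
 Tr.leaf) 173237 6
 Tr.leaf) 173239 6
 (Tr.node Tr.leaf 173241 6
 Tr.leaf))) 173243 6
 (Tr.node (Tr.node (Tr.node (Tr.node Tr.leaf 173249 6
 Tr.leaf) 173251 7
 Tr.leaf) 173261 6
 (Tr.node (Tr.node Tr.leaf 173263 6
 Tr.leaf) 173265 5
 Tr.leaf)) 173267 4
 (Tr.node (Tr.node (Tr.node Tr.leaf 173277 6
 Tr.leaf) 173279 6
 Tr.leaf) 173285 6
 (Tr.node Tr.leaf 173287 5
 Tr.leaf)))) 173289 5
 (Tr.node (Tr.node (Tr.node (Tr.node (Tr.node Tr.leaf 173291 6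
 Tr.leaf) 173301 6
 Tr.leaf) 173303 6
 (Tr.node (Tr.node Tr.leaf 173305 6
 Tr.leaf) 173307 6
 Tr.leaf)) 173317 6
 (Tr.node (Tr.node (Tr.node Tr.leaf 173319 5
 Tr.leaf) 173321 6
 Tr.leaf) 173323 6
 (Tr.node Tr.leaf 173333 6
 Tr.leaf))) 173335 6
 (Tr.node (Tr.node (Tr.node (Tr.node Tr.leaf 173337 4
 Tr.leaf) 173339 6
 Tr.leaf) 173345 6
 (Tr.node Tr.leaf 173347 5
 Tr.leaf)) 173357 6
 (Tr.node (Tr.node (Tr.node Tr.leaf 173359 5
 Tr.leaf) 173361 6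
 Tr.leaf) 173363 6
 (Tr.node Tr.leaf 173373 6
 Tr.leaf))))) 173375 6
 (Tr.node (Tr.node (Tr.node (Tr.node (Tr.node (Tr.node Tr.leaf 173381 6
 Tr.leaf) 173383 6
 Tr.leaf) 173385 6
 (Tr.node (Tr.node Tr.leaf 173387 6
 Tr.leaf) 173397 6
 Tr.leaf)) 173399 5
 (Tr.node (Tr.node (Tr.node Tr.leaf 173401 6
 Tr.leaf) 173403 5
 Tr.leaf) 173409 6
 (Tr.node Tr.leaf 173411 6
 Tr.leaf))) 173421 6
 (Tr.node (Tr.node (Tr.node (Tr.node Tr.leaf 173423 6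
 Tr.leaf) 173425 6
 Tr.leaf) 173427 5
 (Tr.node (Tr.node Tr.leaf 173437 5
 Tr.leaf) 173439 6
 Tr.leaf)) 173441 6
 (Tr.node (Tr.node (Tr.node Tr.leaf 173443 5
 Tr.leaf) 173453 6
 Tr.leaf) 173455 6
 (Tr.node Tr.leaf 173457 6
 Tr.leaf)))) 173459 5
 (Tr.node (Tr.node (Tr.node (Tr.node (Tr.node Tr.leaf 173469 6
 Tr.leaf) 173471 6
 Tr.leaf) 173477 5
 (Tr.node (Tr.node Tr.leaf 173479 5
 Tr.leaf) 173481 6
 Tr.leaf)) 173483 5
 (Tr.node (Tr.node (Tr.node Tr.leaf 173493 6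
 Tr.leaf) 173495 6
 Tr.leaf) 173497 5
 (Tr.node Tr.leaf 173499 6
 Tr.leaf))) 173505 6
 (Tr.node (Tr.node (Tr.node (Tr.node Tr.leaf 173507 6
 Tr.leaf) 173517 6
 Tr.leaf) 173519 6
 (Tr.node Tr.leaf 173521 6
 Tr.leaf)) 173523 6
 (Tr.node (Tr.node (Tr.node Tr.leaf 173533 6
 Tr.leaf) 173535 6
 Tr.leaf) 173541 6
 (Tr.node Tr.leaf 173543 6
 Tr.leaf)))))) 173545 6
 (Tr.node (Tr.node (Tr.node (Tr.node (Tr.node (Tr.node (Tr.node Tr.leaf 173547 5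
 Tr.leaf) 173557 6
 Tr.leaf) 173559 6
 (Tr.node (Tr.node Tr.leaf 173561 6
 Tr.leaf) 173563 6
 Tr.leaf)) 174083 6
 (Tr.node (Tr.node (Tr.node Tr.leaf 174087 5
 Tr.leaf) 174089 7
 Tr.leaf) 174090 6
 (Tr.node Tr.leaf 174093 6
 Tr.leaf))) 174094 5
 (Tr.node (Tr.node (Tr.node (Tr.node Tr.leaf 174099 4
 Tr.leaf) 174103 5
 Tr.leaf) 174105 6
 (Tr.node (Tr.node Tr.leaf 174106 7
 Tr.leaf) 174109 4
 Tr.leaf)) 174110 6
 (Tr.node (Tr.node (Tr.node Tr.leaf 174113 6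
 Tr.leaf) 174114 6
 Tr.leaf) 174117 6
 (Tr.node Tr.leaf 174118 5
 Tr.leaf)))) 174123 6
 (Tr.node (Tr.node (Tr.node (Tr.node (Tr.node Tr.leaf 174127 6
 Tr.leaf) 174129 6
 Tr.leaf) 174130 3
 (Tr.node (Tr.node Tr.leaf 174133 4
 Tr.leaf) 174134 6
 Tr.leaf)) 174139 6
 (Tr.node (Tr.node (Tr.node Tr.leaf 174143 5
 Tr.leaf) 174147 7
 Tr.leaf) 174151 6
 (Tr.node Tr.leaf 174153 5
 Tr.leaf))) 174154 5
 (Tr.node (Tr.node (Tr.node (Tr.node Tr.leaf 174157 6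
 Tr.leaf) 174158 6
 Tr.leaf) 174163 6
 (Tr.node Tr.leaf 174167 6
 Tr.leaf)) 174169 5
 (Tr.node (Tr.node (Tr.node Tr.leaf 174170 6
 Tr.leaf) 174173 6
 Tr.leaf) 174174 6
 (Tr.node Tr.leaf 174177 4
 Tr.leaf))))) 174178 6
 (Tr.node (Tr.node (Tr.node (Tr.node (Tr.node (Tr.node Tr.leaf 174181 6
 Tr.leaf) 174182 4
 Tr.leaf) 174187 5
 (Tr.node (Tr.node Tr.leaf 174191 6
 Tr.leaf) 174193 6
 Tr.leaf)) 174194 5
 (Tr.node (Tr.node (Tr.node Tr.leaf 174197 5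
 Tr.leaf) 174198 6
 Tr.leaf) 174203 6
 (Tr.node Tr.leaf 174207 6
 Tr.leaf))) 174209 6
 (Tr.node (Tr.node (Tr.node (Tr.node Tr.leaf 174210 6
 Tr.leaf) 174213 6
 Tr.leaf) 174214 6
 (Tr.node Tr.leaf 174219 6
 Tr.leaf)) 174223 6
 (Tr.node (Tr.node (Tr.node Tr.leaf 174225 5
 Tr.leaf) 174226 3
 Tr.leaf) 174229 6
 (Tr.node Tr.leaf 174230 4
 Tr.leaf)))) 174235 6
 (Tr.node (Tr.node (Tr.node (Tr.node (Tr.node Tr.leaf 174239 5
 Tr.leaf) 174243 6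
 Tr.leaf) 174247 6
 (Tr.node (Tr.node Tr.leaf 174249 7
 Tr.leaf) 174250 6
 Tr.leaf)) 174253 6
 (Tr.node (Tr.node (Tr.node Tr.leaf 174254 5
 Tr.leaf) 174259 6
 Tr.leaf) 174263 5
 (Tr.node Tr.leaf 174265 6
 Tr.leaf))) 174266 6
 (Tr.node (Tr.node (Tr.node (Tr.node Tr.leaf 174269 6
 Tr.leaf) 174270 5
 Tr.leaf) 174273 6
 (Tr.node Tr.leaf 174274 6
 Tr.leaf)) 174277 6
 (Tr.node (Tr.node (Tr.node Tr.leaf 174278 6
 Tr.leaf) 174283 6
 Tr.leaf) 174287 6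
 (Tr.node Tr.leaf 174289 6
 Tr.leaf))))))) 174290 6
 (Tr.node (Tr.node (Tr.node (Tr.node (Tr.node (Tr.node (Tr.node (Tr.node Tr.leaf 174293 6
 Tr.leaf) 174294 6
 Tr.leaf) 174299 6
 (Tr.node (Tr.node Tr.leaf 174303 7
 Tr.leaf) 174307 6
 Tr.leaf)) 174311 6
 (Tr.node (Tr.node (Tr.node Tr.leaf 174313 6
 Tr.leaf) 174314 5
 Tr.leaf) 174317 6
 (Tr.node Tr.leaf 174318 6
 Tr.leaf))) 174323 5
 (Tr.node (Tr.node (Tr.node (Tr.node Tr.leaf 174327 5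
 Tr.leaf) 174329 6
 Tr.leaf) 174330 5
 (Tr.node (Tr.node Tr.leaf 174333 6
 Tr.leaf) 174334 5
 Tr.leaf)) 174339 7
 (Tr.node (Tr.node (Tr.node Tr.leaf 174343 4
 Tr.leaf) 174345 6
 Tr.leaf) 174346 6
 (Tr.node Tr.leaf 174349 6
 Tr.leaf)))) 174350 6
 (Tr.node (Tr.node (Tr.node (Tr.node (Tr.node Tr.leaf 174355 6
 Tr.leaf) 174359 6
 Tr.leaf) 174361 6
 (Tr.node (Tr.node Tr.leaf 174362 6
 Tr.leaf) 174365 5
 Tr.leaf)) 174366 5
 (Tr.node (Tr.node (Tr.node Tr.leaf 174369 6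
 Tr.leaf) 174370 6
 Tr.leaf) 174373 6
 (Tr.node Tr.leaf 174374 4
 Tr.leaf))) 174379 6
 (Tr.node (Tr.node (Tr.node (Tr.node Tr.leaf 174383 5
 Tr.leaf) 174385 6
 Tr.leaf) 174386 5
 (Tr.node Tr.leaf 174389 6
 Tr.leaf)) 174390 5
 (Tr.node (Tr.node (Tr.node Tr.leaf 174395 6
 Tr.leaf) 174399 6
 Tr.leaf) 174403 4
 (Tr.node Tr.leaf 174407 5
 Tr.leaf))))) 174409 6
 (Tr.node (Tr.node (Tr.node (Tr.node (Tr.node (Tr.node Tr.leaf 174410 6
 Tr.leaf) 174413 4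
 Tr.leaf) 174414 7
 (Tr.node (Tr.node Tr.leaf 174419 4
 Tr.leaf) 174423 6
 Tr.leaf)) 174425 6
 (Tr.node (Tr.node (Tr.node Tr.leaf 174426 5
 Tr.leaf) 174429 6
 Tr.leaf) 174430 6
 (Tr.node Tr.leaf 174433 7
 Tr.leaf))) 174434 6
 (Tr.node (Tr.node (Tr.node (Tr.node Tr.leaf 174437 4
 Tr.leaf) 174438 3
 Tr.leaf) 174443 6
 (Tr.node Tr.leaf 174447 6
 Tr.leaf)) 174449 6
 (Tr.node (Tr.node (Tr.node Tr.leaf 174450 4
 Tr.leaf) 174453 6
 Tr.leaf) 174454 6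
 (Tr.node Tr.leaf 174459 6
 Tr.leaf)))) 174463 6
 (Tr.node (Tr.node (Tr.node (Tr.node (Tr.node Tr.leaf 174465 5
 Tr.leaf) 174466 6
 Tr.leaf) 174469 5
 (Tr.node (Tr.node Tr.leaf 174470 6
 Tr.leaf) 174475 6
 Tr.leaf)) 174479 6
 (Tr.node (Tr.node (Tr.node Tr.leaf 174481 6
 Tr.leaf) 174482 5
 Tr.leaf) 174485 6
 (Tr.node Tr.leaf 174486 6
 Tr.leaf))) 174491 6
 (Tr.node (Tr.node (Tr.node (Tr.node Tr.leaf 174495 6
 Tr.leaf) 174499 6
 Tr.leaf) 174503 6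
 (Tr.node Tr.leaf 174505 5
 Tr.leaf)) 174506 5
 (Tr.node (Tr.node (Tr.node Tr.leaf 174509 5
 Tr.leaf) 174510 5
 Tr.leaf) 174515 6
 (Tr.node Tr.leaf 174519 6
 Tr.leaf)))))) 174521 6
 (Tr.node (Tr.node (Tr.node (Tr.node (Tr.node (Tr.node (Tr.node Tr.leaf 174522 6
 Tr.leaf) 174525 6
 Tr.leaf) 174526 6
 (Tr.node (Tr.node Tr.leaf 174529 6
 Tr.leaf) 174530 5
 Tr.leaf)) 174533 6
 (Tr.node (Tr.node (Tr.node Tr.leaf 174534 3
 Tr.leaf) 174539 6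
 Tr.leaf) 174543 6
 (Tr.node Tr.leaf 174545 4
 Tr.leaf))) 174546 6
 (Tr.node (Tr.node (Tr.node (Tr.node Tr.leaf 174549 6
 Tr.leaf) 174550 6
 Tr.leaf) 174555 5
 (Tr.node (Tr.node Tr.leaf 174559 6
 Tr.leaf) 174563 6
 Tr.leaf)) 174567 6
 (Tr.node (Tr.node (Tr.node Tr.leaf 174569 5
 Tr.leaf) 174570 5
 Tr.leaf) 174573 6
 (Tr.node Tr.leaf 174574 6
 Tr.leaf)))) 174579 6
 (Tr.node (Tr.node (Tr.node (Tr.node (Tr.node Tr.leaf 174583 7
 Tr.leaf) 174585 6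
 Tr.leaf) 174586 5
 (Tr.node (Tr.node Tr.leaf 174589 6
 Tr.leaf) 174590 6
 Tr.leaf)) 175105 4
 (Tr.node (Tr.node (Tr.node Tr.leaf 175107 4
 Tr.leaf) 175109 4
 Tr.leaf) 175111 6
 (Tr.node Tr.leaf 175121 4
 Tr.leaf))) 175123 6
 (Tr.node (Tr.node (Tr.node (Tr.node Tr.leaf 175125 5
 Tr.leaf) 175127 6
 Tr.leaf) 175145 5
 (Tr.node Tr.leaf 175147 6
 Tr.leaf)) 175149 6
 (Tr.node (Tr.node (Tr.node Tr.leaf 175151 5
 Tr.leaf) 175161 6
 Tr.leaf) 175163 6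
 (Tr.node Tr.leaf 175165 6
 Tr.leaf))))) 175167 6
 (Tr.node (Tr.node (Tr.node (Tr.node (Tr.node (Tr.node Tr.leaf 175169 6
 Tr.leaf) 175171 5
 Tr.leaf) 175173 6
 (Tr.node (Tr.node Tr.leaf 175175 5
 Tr.leaf) 175185 5
 Tr.leaf)) 175187 6
 (Tr.node (Tr.node (Tr.node Tr.leaf 175189 5
 Tr.leaf) 175191 6
 Tr.leaf) 175209 6
 (Tr.node Tr.leaf 175211 5
 Tr.leaf))) 175213 5
 (Tr.node (Tr.node (Tr.node (Tr.node Tr.leaf 175215 6
 Tr.leaf) 175225 5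
 Tr.leaf) 175227 6
 (Tr.node Tr.leaf 175229 6
 Tr.leaf)) 175231 6
 (Tr.node (Tr.node (Tr.node Tr.leaf 175241 6
 Tr.leaf) 175243 6
 Tr.leaf) 175245 6
 (Tr.node Tr.leaf 175247 6
 Tr.leaf)))) 175257 5
 (Tr.node (Tr.node (Tr.node (Tr.node (Tr.node Tr.leaf 175259 6
 Tr.leaf) 175261 5
 Tr.leaf) 175263 6
 (Tr.node (Tr.node Tr.leaf 175265 6
 Tr.leaf) 175267 6
 Tr.leaf)) 175269 6
 (Tr.node (Tr.node (Tr.node Tr.leaf 175271 6
 Tr.leaf) 175281 5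
 Tr.leaf) 175283 6
 (Tr.node Tr.leaf 175285 6
 Tr.leaf))) 175287 6
 (Tr.node (Tr.node (Tr.node (Tr.node Tr.leaf 175305 6
 Tr.leaf) 175307 6
 Tr.leaf) 175309 6
 (Tr.node Tr.leaf 175311 6
 Tr.leaf)) 175321 6
 (Tr.node (Tr.node (Tr.node Tr.leaf 175323 6
 Tr.leaf) 175325 6
 Tr.leaf) 175327 6
 (Tr.node Tr.leaf 175329 6
 Tr.leaf)))))))))

/-- A subtree. -/
def tr2_s43 : Tr := (Tr.node (Tr.node (Tr.node (Tr.node (Tr.node (Tr.node (Tr.node (Tr.node (Tr.node (Tr.node Tr.leaf 175333 5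
 Tr.leaf) 175335 6
 Tr.leaf) 175345 5
 (Tr.node (Tr.node Tr.leaf 175347 6
 Tr.leaf) 175349 6
 Tr.leaf)) 175351 5
 (Tr.node (Tr.node (Tr.node Tr.leaf 175361 6
 Tr.leaf) 175363 5
 Tr.leaf) 175365 6
 (Tr.node Tr.leaf 175367 4
 Tr.leaf))) 175377 5
 (Tr.node (Tr.node (Tr.node (Tr.node Tr.leaf 175379 6
 Tr.leaf) 175381 5
 Tr.leaf) 175383 4
 (Tr.node (Tr.node Tr.leaf 175401 6
 Tr.leaf) 175403 6
 Tr.leaf)) 175405 6
 (Tr.node (Tr.node (Tr.node Tr.leaf 175407 6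
 Tr.leaf) 175417 6
 Tr.leaf) 175419 6
 (Tr.node Tr.leaf 175421 5
 Tr.leaf)))) 175423 6
 (Tr.node (Tr.node (Tr.node (Tr.node (Tr.node Tr.leaf 175425 4
 Tr.leaf) 175427 6
 Tr.leaf) 175429 6
 (Tr.node (Tr.node Tr.leaf 175431 6
 Tr.leaf) 175441 6
 Tr.leaf)) 175443 4
 (Tr.node (Tr.node (Tr.node Tr.leaf 175445 5
 Tr.leaf) 175447 5
 Tr.leaf) 175465 5
 (Tr.node Tr.leaf 175467 6
 Tr.leaf))) 175469 6
 (Tr.node (Tr.node (Tr.node (Tr.node Tr.leaf 175471 6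
 Tr.leaf) 175481 6
 Tr.leaf) 175483 5
 (Tr.node Tr.leaf 175485 6
 Tr.leaf)) 175487 6
 (Tr.node (Tr.node (Tr.node Tr.leaf 175497 6
 Tr.leaf) 175499 6
 Tr.leaf) 175501 6
 (Tr.node Tr.leaf 175503 5
 Tr.leaf))))) 175513 6
 (Tr.node (Tr.node (Tr.node (Tr.node (Tr.node (Tr.node Tr.leaf 175515 5
 Tr.leaf) 175517 7
 Tr.leaf) 175519 6
 (Tr.node (Tr.node Tr.leaf 175521 5
 Tr.leaf) 175523 5
 Tr.leaf)) 175525 5
 (Tr.node (Tr.node (Tr.node Tr.leaf 175527 6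
 Tr.leaf) 175537 5
 Tr.leaf) 175539 6
 (Tr.node Tr.leaf 175541 6
 Tr.leaf))) 175543 6
 (Tr.node (Tr.node (Tr.node (Tr.node Tr.leaf 175561 5
 Tr.leaf) 175563 6
 Tr.leaf) 175565 5
 (Tr.node (Tr.node Tr.leaf 175567 6
 Tr.leaf) 175577 5
 Tr.leaf)) 175579 6
 (Tr.node (Tr.node (Tr.node Tr.leaf 175581 5
 Tr.leaf) 175583 6
 Tr.leaf) 175585 6
 (Tr.node Tr.leaf 175587 6
 Tr.leaf)))) 175589 5
 (Tr.node (Tr.node (Tr.node (Tr.node (Tr.node Tr.leaf 175591 5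
 Tr.leaf) 175601 6
 Tr.leaf) 175603 7
 (Tr.node (Tr.node Tr.leaf 175605 6
 Tr.leaf) 175607 6
 Tr.leaf)) 176131 6
 (Tr.node (Tr.node (Tr.node Tr.leaf 176133 6
 Tr.leaf) 176134 6
 Tr.leaf) 176139 5
 (Tr.node Tr.leaf 176141 6
 Tr.leaf))) 176142 6
 (Tr.node (Tr.node (Tr.node (Tr.node Tr.leaf 176147 5
 Tr.leaf) 176149 6
 Tr.leaf) 176150 6
 (Tr.node Tr.leaf 176155 5
 Tr.leaf)) 176157 5
 (Tr.node (Tr.node (Tr.node Tr.leaf 176158 6
 Tr.leaf) 176161 7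
 Tr.leaf) 176162 6
 (Tr.node Tr.leaf 176164 6
 Tr.leaf)))))) 176167 6
 (Tr.node (Tr.node (Tr.node (Tr.node (Tr.node (Tr.node (Tr.node Tr.leaf 176169 6
 Tr.leaf) 176170 5
 Tr.leaf) 176172 6
 (Tr.node (Tr.node Tr.leaf 176175 6
 Tr.leaf) 176177 4
 Tr.leaf)) 176178 6
 (Tr.node (Tr.node (Tr.node Tr.leaf 176180 6
 Tr.leaf) 176183 6
 Tr.leaf) 176185 5
 (Tr.node Tr.leaf 176186 6
 Tr.leaf))) 176188 5
 (Tr.node (Tr.node (Tr.node (Tr.node Tr.leaf 176191 6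
 Tr.leaf) 176195 6
 Tr.leaf) 176197 5
 (Tr.node (Tr.node Tr.leaf 176198 6
 Tr.leaf) 176203 6
 Tr.leaf)) 176205 6
 (Tr.node (Tr.node (Tr.node Tr.leaf 176206 6
 Tr.leaf) 176211 5
 Tr.leaf) 176213 6
 (Tr.node Tr.leaf 176214 6
 Tr.leaf)))) 176219 6
 (Tr.node (Tr.node (Tr.node (Tr.node (Tr.node Tr.leaf 176221 6
 Tr.leaf) 176222 6
 Tr.leaf) 176225 6
 (Tr.node (Tr.node Tr.leaf 176226 4
 Tr.leaf) 176228 6
 Tr.leaf)) 176231 6
 (Tr.node (Tr.node (Tr.node Tr.leaf 176233 6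
 Tr.leaf) 176234 6
 Tr.leaf) 176236 6
 (Tr.node Tr.leaf 176239 6
 Tr.leaf))) 176241 5
 (Tr.node (Tr.node (Tr.node (Tr.node Tr.leaf 176242 5
 Tr.leaf) 176244 6
 Tr.leaf) 176247 6
 (Tr.node Tr.leaf 176249 6
 Tr.leaf)) 176250 6
 (Tr.node (Tr.node (Tr.node Tr.leaf 176252 4
 Tr.leaf) 176255 6
 Tr.leaf) 176257 7
 (Tr.node Tr.leaf 176258 6
 Tr.leaf))))) 176260 6
 (Tr.node (Tr.node (Tr.node (Tr.node (Tr.node (Tr.node Tr.leaf 176263 6
 Tr.leaf) 176265 6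
 Tr.leaf) 176266 6
 (Tr.node (Tr.node Tr.leaf 176268 4
 Tr.leaf) 176271 6
 Tr.leaf)) 176273 7
 (Tr.node (Tr.node (Tr.node Tr.leaf 176274 5
 Tr.leaf) 176276 6
 Tr.leaf) 176279 6
 (Tr.node Tr.leaf 176281 6
 Tr.leaf))) 176282 4
 (Tr.node (Tr.node (Tr.node (Tr.node Tr.leaf 176284 6
 Tr.leaf) 176287 6
 Tr.leaf) 176291 6
 (Tr.node Tr.leaf 176293 6
 Tr.leaf)) 176294 6
 (Tr.node (Tr.node (Tr.node Tr.leaf 176299 6
 Tr.leaf) 176301 6
 Tr.leaf) 176302 6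
 (Tr.node Tr.leaf 176307 5
 Tr.leaf)))) 176309 7
 (Tr.node (Tr.node (Tr.node (Tr.node (Tr.node Tr.leaf 176310 5
 Tr.leaf) 176315 6
 Tr.leaf) 176317 6
 (Tr.node (Tr.node Tr.leaf 176318 6
 Tr.leaf) 176321 6
 Tr.leaf)) 176322 6
 (Tr.node (Tr.node (Tr.node Tr.leaf 176324 5
 Tr.leaf) 176327 6
 Tr.leaf) 176329 6
 (Tr.node Tr.leaf 176330 6
 Tr.leaf))) 176332 6
 (Tr.node (Tr.node (Tr.node (Tr.node Tr.leaf 176335 6
 Tr.leaf) 176337 5
 Tr.leaf) 176338 6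
 (Tr.node Tr.leaf 176340 4
 Tr.leaf)) 176343 6
 (Tr.node (Tr.node (Tr.node Tr.leaf 176345 5
 Tr.leaf) 176346 5
 Tr.leaf) 176348 6
 (Tr.node Tr.leaf 176351 6
 Tr.leaf))))))) 176355 6
 (Tr.node (Tr.node (Tr.node (Tr.node (Tr.node (Tr.node (Tr.node (Tr.node Tr.leaf 176357 6
 Tr.leaf) 176358 6
 Tr.leaf) 176363 6
 (Tr.node (Tr.node Tr.leaf 176365 6
 Tr.leaf) 176366 6
 Tr.leaf)) 176371 6
 (Tr.node (Tr.node (Tr.node Tr.leaf 176373 6
 Tr.leaf) 176374 6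
 Tr.leaf) 176379 6
 (Tr.node Tr.leaf 176381 6
 Tr.leaf))) 176382 6
 (Tr.node (Tr.node (Tr.node (Tr.node Tr.leaf 176387 6
 Tr.leaf) 176389 5
 Tr.leaf) 176390 6
 (Tr.node (Tr.node Tr.leaf 176395 6
 Tr.leaf) 176397 5
 Tr.leaf)) 176398 6
 (Tr.node (Tr.node (Tr.node Tr.leaf 176403 6
 Tr.leaf) 176405 6
 Tr.leaf) 176406 6
 (Tr.node Tr.leaf 176411 7
 Tr.leaf)))) 176413 4
 (Tr.node (Tr.node (Tr.node (Tr.node (Tr.node Tr.leaf 176414 6
 Tr.leaf) 176417 7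
 Tr.leaf) 176418 6
 (Tr.node (Tr.node Tr.leaf 176420 5
 Tr.leaf) 176423 6
 Tr.leaf)) 176425 5
 (Tr.node (Tr.node (Tr.node Tr.leaf 176426 4
 Tr.leaf) 176428 6
 Tr.leaf) 176431 6
 (Tr.node Tr.leaf 176433 6
 Tr.leaf))) 176434 6
 (Tr.node (Tr.node (Tr.node (Tr.node Tr.leaf 176436 6
 Tr.leaf) 176439 6
 Tr.leaf) 176441 5
 (Tr.node Tr.leaf 176442 5
 Tr.leaf)) 176444 6
 (Tr.node (Tr.node (Tr.node Tr.leaf 176447 5
 Tr.leaf) 176451 5
 Tr.leaf) 176453 5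
 (Tr.node Tr.leaf 176454 6
 Tr.leaf))))) 176459 6
 (Tr.node (Tr.node (Tr.node (Tr.node (Tr.node (Tr.node Tr.leaf 176461 6
 Tr.leaf) 176462 6
 Tr.leaf) 176467 4
 (Tr.node (Tr.node Tr.leaf 176469 7
 Tr.leaf) 176470 6
 Tr.leaf)) 176475 7
 (Tr.node (Tr.node (Tr.node Tr.leaf 176477 7
 Tr.leaf) 176478 6
 Tr.leaf) 176481 6
 (Tr.node Tr.leaf 176482 6
 Tr.leaf))) 176484 4
 (Tr.node (Tr.node (Tr.node (Tr.node Tr.leaf 176487 6
 Tr.leaf) 176489 5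
 Tr.leaf) 176490 6
 (Tr.node Tr.leaf 176492 5
 Tr.leaf)) 176495 6
 (Tr.node (Tr.node (Tr.node Tr.leaf 176497 6
 Tr.leaf) 176498 6
 Tr.leaf) 176500 6
 (Tr.node Tr.leaf 176503 7
 Tr.leaf)))) 176505 6
 (Tr.node (Tr.node (Tr.node (Tr.node (Tr.node Tr.leaf 176506 6
 Tr.leaf) 176508 6
 Tr.leaf) 176511 6
 (Tr.node (Tr.node Tr.leaf 176513 4
 Tr.leaf) 176514 6
 Tr.leaf)) 176516 6
 (Tr.node (Tr.node (Tr.node Tr.leaf 176519 6
 Tr.leaf) 176521 5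
 Tr.leaf) 176522 6
 (Tr.node Tr.leaf 176524 5
 Tr.leaf))) 176527 6
 (Tr.node (Tr.node (Tr.node (Tr.node Tr.leaf 176529 6
 Tr.leaf) 176530 6
 Tr.leaf) 176532 6
 (Tr.node Tr.leaf 176535 6
 Tr.leaf)) 176537 6
 (Tr.node (Tr.node (Tr.node Tr.leaf 176538 6
 Tr.leaf) 176540 6
 Tr.leaf) 176543 7
 (Tr.node Tr.leaf 176547 7
 Tr.leaf)))))) 176549 5
 (Tr.node (Tr.node (Tr.node (Tr.node (Tr.node (Tr.node (Tr.node Tr.leaf 176550 5
 Tr.leaf) 176555 6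
 Tr.leaf) 176557 6
 (Tr.node (Tr.node Tr.leaf 176558 6
 Tr.leaf) 176563 6
 Tr.leaf)) 176565 6
 (Tr.node (Tr.node (Tr.node Tr.leaf 176566 7
 Tr.leaf) 176571 6
 Tr.leaf) 176573 6
 (Tr.node Tr.leaf 176574 5
 Tr.leaf))) 176577 5
 (Tr.node (Tr.node (Tr.node (Tr.node Tr.leaf 176578 5
 Tr.leaf) 176580 6
 Tr.leaf) 176583 6
 (Tr.node (Tr.node Tr.leaf 176585 6
 Tr.leaf) 176586 4
 Tr.leaf)) 176588 6
 (Tr.node (Tr.node (Tr.node Tr.leaf 176591 6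
 Tr.leaf) 176593 5
 Tr.leaf) 176594 6
 (Tr.node Tr.leaf 176596 5
 Tr.leaf)))) 176599 5
 (Tr.node (Tr.node (Tr.node (Tr.node (Tr.node Tr.leaf 176601 6
 Tr.leaf) 176602 6
 Tr.leaf) 176604 6
 (Tr.node (Tr.node Tr.leaf 176607 6
 Tr.leaf) 176611 6
 Tr.leaf)) 176613 6
 (Tr.node (Tr.node (Tr.node Tr.leaf 176614 6
 Tr.leaf) 176619 6
 Tr.leaf) 176621 6
 (Tr.node Tr.leaf 176622 6
 Tr.leaf))) 176627 6
 (Tr.node (Tr.node (Tr.node (Tr.node Tr.leaf 176629 6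
 Tr.leaf) 176630 5
 Tr.leaf) 176635 6
 (Tr.node Tr.leaf 176637 6
 Tr.leaf)) 176638 6
 (Tr.node (Tr.node (Tr.node Tr.leaf 177153 5
 Tr.leaf) 177155 4
 Tr.leaf) 177161 4
 (Tr.node Tr.leaf 177163 6
 Tr.leaf))))) 177169 6
 (Tr.node (Tr.node (Tr.node (Tr.node (Tr.node (Tr.node Tr.leaf 177171 6
 Tr.leaf) 177177 6
 Tr.leaf) 177179 6
 (Tr.node (Tr.node Tr.leaf 177189 6
 Tr.leaf) 177191 6
 Tr.leaf)) 177197 5
 (Tr.node (Tr.node (Tr.node Tr.leaf 177199 6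
 Tr.leaf) 177205 6
 Tr.leaf) 177207 6
 (Tr.node Tr.leaf 177213 6
 Tr.leaf))) 177215 6
 (Tr.node (Tr.node (Tr.node (Tr.node Tr.leaf 177217 5
 Tr.leaf) 177219 4
 Tr.leaf) 177225 6
 (Tr.node Tr.leaf 177227 5
 Tr.leaf)) 177233 5
 (Tr.node (Tr.node (Tr.node Tr.leaf 177235 5
 Tr.leaf) 177241 6
 Tr.leaf) 177243 4
 (Tr.node Tr.leaf 177253 6
 Tr.leaf)))) 177255 5
 (Tr.node (Tr.node (Tr.node (Tr.node (Tr.node Tr.leaf 177261 6
 Tr.leaf) 177263 6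
 Tr.leaf) 177269 5
 (Tr.node (Tr.node Tr.leaf 177271 6
 Tr.leaf) 177277 5
 Tr.leaf)) 177279 6
 (Tr.node (Tr.node (Tr.node Tr.leaf 177285 6
 Tr.leaf) 177287 6
 Tr.leaf) 177293 6
 (Tr.node Tr.leaf 177295 5
 Tr.leaf))) 177301 6
 (Tr.node (Tr.node (Tr.node (Tr.node Tr.leaf 177303 6
 Tr.leaf) 177309 6
 Tr.leaf) 177311 6
 (Tr.node Tr.leaf 177313 6
 Tr.leaf)) 177315 6
 (Tr.node (Tr.node (Tr.node Tr.leaf 177321 7
 Tr.leaf) 177323 6
 Tr.leaf) 177329 5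
 (Tr.node Tr.leaf 177331 6
 Tr.leaf)))))))) 177337 6
 (Tr.node (Tr.node (Tr.node (Tr.node (Tr.node (Tr.node (Tr.node (Tr.node (Tr.node Tr.leaf 177339 6
 Tr.leaf) 177349 6
 Tr.leaf) 177351 7
 (Tr.node (Tr.node Tr.leaf 177357 5
 Tr.leaf) 177359 6
 Tr.leaf)) 177365 6
 (Tr.node (Tr.node (Tr.node Tr.leaf 177367 5
 Tr.leaf) 177373 6
 Tr.leaf) 177375 6
 (Tr.node Tr.leaf 177377 6
 Tr.leaf))) 177379 6
 (Tr.node (Tr.node (Tr.node (Tr.node Tr.leaf 177385 6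
 Tr.leaf) 177387 5
 Tr.leaf) 177393 6
 (Tr.node (Tr.node Tr.leaf 177395 6
 Tr.leaf) 177401 5
 Tr.leaf)) 177403 5
 (Tr.node (Tr.node (Tr.node Tr.leaf 177409 6
 Tr.leaf) 177411 5
 Tr.leaf) 177417 6
 (Tr.node Tr.leaf 177419 5
 Tr.leaf)))) 177425 5
 (Tr.node (Tr.node (Tr.node (Tr.node (Tr.node Tr.leaf 177427 6
 Tr.leaf) 177433 5
 Tr.leaf) 177435 4
 (Tr.node (Tr.node Tr.leaf 177445 6
 Tr.leaf) 177447 6
 Tr.leaf)) 177453 6
 (Tr.node (Tr.node (Tr.node Tr.leaf 177455 6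
 Tr.leaf) 177461 6
 Tr.leaf) 177463 5
 (Tr.node Tr.leaf 177469 5
 Tr.leaf))) 177471 6
 (Tr.node (Tr.node (Tr.node (Tr.node Tr.leaf 177473 6
 Tr.leaf) 177475 6
 Tr.leaf) 177481 4
 (Tr.node Tr.leaf 177483 6
 Tr.leaf)) 177489 6
 (Tr.node (Tr.node (Tr.node Tr.leaf 177491 4
 Tr.leaf) 177497 6
 Tr.leaf) 177499 4
 (Tr.node Tr.leaf 177509 6
 Tr.leaf))))) 177511 6
 (Tr.node (Tr.node (Tr.node (Tr.node (Tr.node (Tr.node Tr.leaf 177517 5
 Tr.leaf) 177519 6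
 Tr.leaf) 177525 5
 (Tr.node (Tr.node Tr.leaf 177527 6
 Tr.leaf) 177533 6
 Tr.leaf)) 177535 5
 (Tr.node (Tr.node (Tr.node Tr.leaf 177541 6
 Tr.leaf) 177543 5
 Tr.leaf) 177549 6
 (Tr.node Tr.leaf 177551 6
 Tr.leaf))) 177557 6
 (Tr.node (Tr.node (Tr.node (Tr.node Tr.leaf 177559 6
 Tr.leaf) 177565 6
 Tr.leaf) 177567 6
 (Tr.node Tr.leaf 177569 5
 Tr.leaf)) 177571 6
 (Tr.node (Tr.node (Tr.node Tr.leaf 177577 6
 Tr.leaf) 177579 5
 Tr.leaf) 177585 6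
 (Tr.node Tr.leaf 177587 5
 Tr.leaf)))) 177593 6
 (Tr.node (Tr.node (Tr.node (Tr.node (Tr.node Tr.leaf 177595 6
 Tr.leaf) 177605 5
 Tr.leaf) 177607 6
 (Tr.node (Tr.node Tr.leaf 177613 5
 Tr.leaf) 177615 6
 Tr.leaf)) 177621 6
 (Tr.node (Tr.node (Tr.node Tr.leaf 177623 6
 Tr.leaf) 177629 6
 Tr.leaf) 177631 6
 (Tr.node Tr.leaf 177633 5
 Tr.leaf))) 177635 5
 (Tr.node (Tr.node (Tr.node (Tr.node Tr.leaf 177641 6
 Tr.leaf) 177643 5
 Tr.leaf) 177649 6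
 (Tr.node Tr.leaf 177651 6
 Tr.leaf)) 177657 6
 (Tr.node (Tr.node (Tr.node Tr.leaf 177659 6
 Tr.leaf) 178177 5
 Tr.leaf) 178178 6
 (Tr.node Tr.leaf 178181 4
 Tr.leaf)))))) 178182 6
 (Tr.node (Tr.node (Tr.node (Tr.node (Tr.node (Tr.node (Tr.node Tr.leaf 178185 5
 Tr.leaf) 178186 5
 Tr.leaf) 178189 4
 (Tr.node (Tr.node Tr.leaf 178190 5
 Tr.leaf) 178193 6
 Tr.leaf)) 178194 6
 (Tr.node (Tr.node (Tr.node Tr.leaf 178197 5
 Tr.leaf) 178198 6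
 Tr.leaf) 178201 6
 (Tr.node Tr.leaf 178202 6
 Tr.leaf))) 178205 6
 (Tr.node (Tr.node (Tr.node (Tr.node Tr.leaf 178206 6
 Tr.leaf) 178211 6
 Tr.leaf) 178215 6
 (Tr.node (Tr.node Tr.leaf 178219 6
 Tr.leaf) 178223 7
 Tr.leaf)) 178227 6
 (Tr.node (Tr.node (Tr.node Tr.leaf 178231 5
 Tr.leaf) 178235 5
 Tr.leaf) 178239 6
 (Tr.node Tr.leaf 178241 4
 Tr.leaf)))) 178242 5
 (Tr.node (Tr.node (Tr.node (Tr.node (Tr.node Tr.leaf 178245 6
 Tr.leaf) 178246 5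
 Tr.leaf) 178249 6
 (Tr.node (Tr.node Tr.leaf 178250 6
 Tr.leaf) 178253 5
 Tr.leaf)) 178254 6
 (Tr.node (Tr.node (Tr.node Tr.leaf 178257 6
 Tr.leaf) 178258 6
 Tr.leaf) 178261 5
 (Tr.node Tr.leaf 178262 6
 Tr.leaf))) 178265 4
 (Tr.node (Tr.node (Tr.node (Tr.node Tr.leaf 178266 6
 Tr.leaf) 178269 6
 Tr.leaf) 178270 6
 (Tr.node Tr.leaf 178275 6
 Tr.leaf)) 178279 5
 (Tr.node (Tr.node (Tr.node Tr.leaf 178283 5
 Tr.leaf) 178287 6
 Tr.leaf) 178291 6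
 (Tr.node Tr.leaf 178295 6
 Tr.leaf))))) 178299 5
 (Tr.node (Tr.node (Tr.node (Tr.node (Tr.node (Tr.node Tr.leaf 178303 6
 Tr.leaf) 178307 6
 Tr.leaf) 178311 6
 (Tr.node (Tr.node Tr.leaf 178315 6
 Tr.leaf) 178319 5
 Tr.leaf)) 178323 6
 (Tr.node (Tr.node (Tr.node Tr.leaf 178327 6
 Tr.leaf) 178331 6
 Tr.leaf) 178335 6
 (Tr.node Tr.leaf 178337 6
 Tr.leaf))) 178338 6
 (Tr.node (Tr.node (Tr.node (Tr.node Tr.leaf 178341 6
 Tr.leaf) 178342 5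
 Tr.leaf) 178345 6
 (Tr.node Tr.leaf 178346 5
 Tr.leaf)) 178349 6
 (Tr.node (Tr.node (Tr.node Tr.leaf 178350 5
 Tr.leaf) 178353 5
 Tr.leaf) 178354 6
 (Tr.node Tr.leaf 178357 6
 Tr.leaf)))) 178358 6
 (Tr.node (Tr.node (Tr.node (Tr.node (Tr.node Tr.leaf 178361 5
 Tr.leaf) 178362 5
 Tr.leaf) 178365 5
 (Tr.node (Tr.node Tr.leaf 178366 6
 Tr.leaf) 178371 5
 Tr.leaf)) 178375 6
 (Tr.node (Tr.node (Tr.node Tr.leaf 178379 6
 Tr.leaf) 178383 6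
 Tr.leaf) 178387 6
 (Tr.node Tr.leaf 178391 6
 Tr.leaf))) 178395 5
 (Tr.node (Tr.node (Tr.node (Tr.node Tr.leaf 178399 6
 Tr.leaf) 178401 7
 Tr.leaf) 178402 5
 (Tr.node Tr.leaf 178405 6
 Tr.leaf)) 178406 5
 (Tr.node (Tr.node (Tr.node Tr.leaf 178409 6
 Tr.leaf) 178410 5
 Tr.leaf) 178413 5
 (Tr.node Tr.leaf 178414 6
 Tr.leaf))))))) 178417 6
 (Tr.node (Tr.node (Tr.node (Tr.node (Tr.node (Tr.node (Tr.node (Tr.node Tr.leaf 178418 5
 Tr.leaf) 178421 5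
 Tr.leaf) 178422 5
 (Tr.node (Tr.node Tr.leaf 178425 6
 Tr.leaf) 178426 6
 Tr.leaf)) 178429 5
 (Tr.node (Tr.node (Tr.node Tr.leaf 178430 6
 Tr.leaf) 178433 6
 Tr.leaf) 178434 6
 (Tr.node Tr.leaf 178437 6
 Tr.leaf))) 178438 6
 (Tr.node (Tr.node (Tr.node (Tr.node Tr.leaf 178441 5
 Tr.leaf) 178442 6
 Tr.leaf) 178445 5
 (Tr.node (Tr.node Tr.leaf 178446 6
 Tr.leaf) 178449 5
 Tr.leaf)) 178450 6
 (Tr.node (Tr.node (Tr.node Tr.leaf 178453 6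
 Tr.leaf) 178454 6
 Tr.leaf) 178457 6
 (Tr.node Tr.leaf 178458 5
 Tr.leaf)))) 178461 4
 (Tr.node (Tr.node (Tr.node (Tr.node (Tr.node Tr.leaf 178462 5
 Tr.leaf) 178467 6
 Tr.leaf) 178471 6
 (Tr.node (Tr.node Tr.leaf 178475 6
 Tr.leaf) 178479 5
 Tr.leaf)) 178483 6
 (Tr.node (Tr.node (Tr.node Tr.leaf 178487 6
 Tr.leaf) 178491 6
 Tr.leaf) 178495 6
 (Tr.node Tr.leaf 178497 6
 Tr.leaf))) 178498 6
 (Tr.node (Tr.node (Tr.node (Tr.node Tr.leaf 178501 6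
 Tr.leaf) 178502 6
 Tr.leaf) 178505 6
 (Tr.node Tr.leaf 178506 6
 Tr.leaf)) 178509 4
 (Tr.node (Tr.node (Tr.node Tr.leaf 178510 6
 Tr.leaf) 178513 5
 Tr.leaf) 178514 6
 (Tr.node Tr.leaf 178517 4
 Tr.leaf))))) 178518 5
 (Tr.node (Tr.node (Tr.node (Tr.node (Tr.node (Tr.node Tr.leaf 178521 6
 Tr.leaf) 178522 6
 Tr.leaf) 178525 4
 (Tr.node (Tr.node Tr.leaf 178526 6
 Tr.leaf) 178531 6
 Tr.leaf)) 178535 6
 (Tr.node (Tr.node (Tr.node Tr.leaf 178539 6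
 Tr.leaf) 178543 6
 Tr.leaf) 178547 6
 (Tr.node Tr.leaf 178551 6
 Tr.leaf))) 178555 6
 (Tr.node (Tr.node (Tr.node (Tr.node Tr.leaf 178559 6
 Tr.leaf) 178563 6
 Tr.leaf) 178567 6
 (Tr.node Tr.leaf 178571 5
 Tr.leaf)) 178575 6
 (Tr.node (Tr.node (Tr.node Tr.leaf 178579 6
 Tr.leaf) 178583 5
 Tr.leaf) 178587 5
 (Tr.node Tr.leaf 178591 6
 Tr.leaf)))) 178593 5
 (Tr.node (Tr.node (Tr.node (Tr.node (Tr.node Tr.leaf 178594 5
 Tr.leaf) 178597 6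
 Tr.leaf) 178598 6
 (Tr.node (Tr.node Tr.leaf 178601 6
 Tr.leaf) 178602 5
 Tr.leaf)) 178605 6
 (Tr.node (Tr.node (Tr.node Tr.leaf 178606 6
 Tr.leaf) 178609 6
 Tr.leaf) 178610 5
 (Tr.node Tr.leaf 178613 5
 Tr.leaf))) 178614 6
 (Tr.node (Tr.node (Tr.node (Tr.node Tr.leaf 178617 6
 Tr.leaf) 178618 5
 Tr.leaf) 178621 6
 (Tr.node Tr.leaf 178622 5
 Tr.leaf)) 178627 6
 (Tr.node (Tr.node (Tr.node Tr.leaf 178631 6
 Tr.leaf) 178635 5
 Tr.leaf) 178639 6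
 (Tr.node Tr.leaf 178643 5
 Tr.leaf)))))) 178647 6
 (Tr.node (Tr.node (Tr.node (Tr.node (Tr.node (Tr.node (Tr.node Tr.leaf 178651 6
 Tr.leaf) 178655 5
 Tr.leaf) 178657 6
 (Tr.node (Tr.node Tr.leaf 178658 4
 Tr.leaf) 178661 6
 Tr.leaf)) 178662 5
 (Tr.node (Tr.node (Tr.node Tr.leaf 178665 5
 Tr.leaf) 178666 6
 Tr.leaf) 178669 5
 (Tr.node Tr.leaf 178670 6
 Tr.leaf))) 178673 6
 (Tr.node (Tr.node (Tr.node (Tr.node Tr.leaf 178674 5
 Tr.leaf) 178677 6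
 Tr.leaf) 178678 5
 (Tr.node (Tr.node Tr.leaf 178681 6
 Tr.leaf) 178682 6
 Tr.leaf)) 178685 6
 (Tr.node (Tr.node (Tr.node Tr.leaf 178686 6
 Tr.leaf) 179233 7
 Tr.leaf) 179235 6
 (Tr.node Tr.leaf 179237 6
 Tr.leaf)))) 179239 6
 (Tr.node (Tr.node (Tr.node (Tr.node (Tr.node Tr.leaf 179241 6
 Tr.leaf) 179243 6
 Tr.leaf) 179245 6
 (Tr.node (Tr.node Tr.leaf 179247 6
 Tr.leaf) 179249 6
 Tr.leaf)) 179251 6
 (Tr.node (Tr.node (Tr.node Tr.leaf 179253 6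
 Tr.leaf) 179255 6
 Tr.leaf) 179257 6
 (Tr.node Tr.leaf 179259 6
 Tr.leaf))) 179261 6
 (Tr.node (Tr.node (Tr.node (Tr.node Tr.leaf 179263 6
 Tr.leaf) 179297 6
 Tr.leaf) 179299 6
 (Tr.node Tr.leaf 179301 6
 Tr.leaf)) 179303 6
 (Tr.node (Tr.node (Tr.node Tr.leaf 179305 6
 Tr.leaf) 179307 6
 Tr.leaf) 179309 6
 (Tr.node Tr.leaf 179311 6
 Tr.leaf))))) 179313 6
 (Tr.node (Tr.node (Tr.node (Tr.node (Tr.node (Tr.node Tr.leaf 179315 6
 Tr.leaf) 179317 6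
 Tr.leaf) 179319 6
 (Tr.node (Tr.node Tr.leaf 179321 5
 Tr.leaf) 179323 6
 Tr.leaf)) 179325 6
 (Tr.node (Tr.node (Tr.node Tr.leaf 179327 6
 Tr.leaf) 179329 7
 Tr.leaf) 179331 6
 (Tr.node Tr.leaf 179333 6
 Tr.leaf))) 179335 6
 (Tr.node (Tr.node (Tr.node (Tr.node Tr.leaf 179337 6
 Tr.leaf) 179339 6
 Tr.leaf) 179341 6
 (Tr.node Tr.leaf 179343 6
 Tr.leaf)) 179345 6
 (Tr.node (Tr.node (Tr.node Tr.leaf 179347 5
 Tr.leaf) 179349 6
 Tr.leaf) 179351 5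
 (Tr.node Tr.leaf 179353 6
 Tr.leaf)))) 179355 6
 (Tr.node (Tr.node (Tr.node (Tr.node (Tr.node Tr.leaf 179357 6
 Tr.leaf) 179359 5
 Tr.leaf) 179393 6
 (Tr.node (Tr.node Tr.leaf 179395 6
 Tr.leaf) 179397 6
 Tr.leaf)) 179399 6
 (Tr.node (Tr.node (Tr.node Tr.leaf 179401 6
 Tr.leaf) 179403 6
 Tr.leaf) 179405 6
 (Tr.node Tr.leaf 179407 6
 Tr.leaf))) 179409 6
 (Tr.node (Tr.node (Tr.node (Tr.node Tr.leaf 179411 6
 Tr.leaf) 179413 6
 Tr.leaf) 179415 5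
 (Tr.node Tr.leaf 179417 6
 Tr.leaf)) 179419 6
 (Tr.node (Tr.node (Tr.node Tr.leaf 179421 6
 Tr.leaf) 179423 6
 Tr.leaf) 179489 6
 (Tr.node Tr.leaf 179491 6
 Tr.leaf)))))))))

/-- A subtree. -/
def tr2_s44 : Tr := (Tr.node (Tr.node (Tr.node (Tr.node (Tr.node (Tr.node (Tr.node (Tr.node (Tr.node (Tr.node Tr.leaf 179495 5
 Tr.leaf) 179497 6
 Tr.leaf) 179499 6
 (Tr.node (Tr.node Tr.leaf 179501 6
 Tr.leaf) 179503 5
 Tr.leaf)) 179505 6
 (Tr.node (Tr.node (Tr.node Tr.leaf 179507 6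
 Tr.leaf) 179509 6
 Tr.leaf) 179511 6
 (Tr.node Tr.leaf 179513 6
 Tr.leaf))) 179515 6
 (Tr.node (Tr.node (Tr.node (Tr.node Tr.leaf 179517 6
 Tr.leaf) 179519 6
 Tr.leaf) 179553 6
 (Tr.node (Tr.node Tr.leaf 179555 6
 Tr.leaf) 179557 6
 Tr.leaf)) 179559 5
 (Tr.node (Tr.node (Tr.node Tr.leaf 179561 6
 Tr.leaf) 179563 6
 Tr.leaf) 179565 6
 (Tr.node Tr.leaf 179567 6
 Tr.leaf)))) 179569 6
 (Tr.node (Tr.node (Tr.node (Tr.node (Tr.node Tr.leaf 179571 6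
 Tr.leaf) 179573 6
 Tr.leaf) 179575 5
 (Tr.node (Tr.node Tr.leaf 179577 5
 Tr.leaf) 179579 5
 Tr.leaf)) 179581 6
 (Tr.node (Tr.node (Tr.node Tr.leaf 179583 6
 Tr.leaf) 179585 6
 Tr.leaf) 179587 6
 (Tr.node Tr.leaf 179589 6
 Tr.leaf))) 179591 6
 (Tr.node (Tr.node (Tr.node (Tr.node Tr.leaf 179593 6
 Tr.leaf) 179595 6
 Tr.leaf) 179597 6
 (Tr.node Tr.leaf 179599 6
 Tr.leaf)) 179601 6
 (Tr.node (Tr.node (Tr.node Tr.leaf 179603 6
 Tr.leaf) 179605 6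
 Tr.leaf) 179607 6
 (Tr.node Tr.leaf 179609 6
 Tr.leaf))))) 179611 6
 (Tr.node (Tr.node (Tr.node (Tr.node (Tr.node (Tr.node Tr.leaf 179613 6
 Tr.leaf) 179615 5
 Tr.leaf) 179649 6
 (Tr.node (Tr.node Tr.leaf 179651 6
 Tr.leaf) 179653 6
 Tr.leaf)) 179655 6
 (Tr.node (Tr.node (Tr.node Tr.leaf 179657 5
 Tr.leaf) 179659 6
 Tr.leaf) 179661 6
 (Tr.node Tr.leaf 179663 6
 Tr.leaf))) 179665 6
 (Tr.node (Tr.node (Tr.node (Tr.node Tr.leaf 179667 6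
 Tr.leaf) 179669 6
 Tr.leaf) 179671 6
 (Tr.node (Tr.node Tr.leaf 179673 5
 Tr.leaf) 179675 6
 Tr.leaf)) 179677 5
 (Tr.node (Tr.node (Tr.node Tr.leaf 179679 6
 Tr.leaf) 180225 5
 Tr.leaf) 180226 4
 (Tr.node Tr.leaf 180228 4
 Tr.leaf)))) 180231 6
 (Tr.node (Tr.node (Tr.node (Tr.node (Tr.node Tr.leaf 180232 3
 Tr.leaf) 180235 6
 Tr.leaf) 180237 6
 (Tr.node (Tr.node Tr.leaf 180238 5
 Tr.leaf) 180240 6
 Tr.leaf)) 180243 6
 (Tr.node (Tr.node (Tr.node Tr.leaf 180245 6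
 Tr.leaf) 180246 6
 Tr.leaf) 180249 6
 (Tr.node Tr.leaf 180250 6
 Tr.leaf))) 180252 6
 (Tr.node (Tr.node (Tr.node (Tr.node Tr.leaf 180255 6
 Tr.leaf) 180257 6
 Tr.leaf) 180258 4
 (Tr.node Tr.leaf 180260 5
 Tr.leaf)) 180263 6
 (Tr.node (Tr.node (Tr.node Tr.leaf 180264 5
 Tr.leaf) 180267 6
 Tr.leaf) 180269 6
 (Tr.node Tr.leaf 180270 4
 Tr.leaf)))))) 180272 6
 (Tr.node (Tr.node (Tr.node (Tr.node (Tr.node (Tr.node (Tr.node Tr.leaf 180275 6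
 Tr.leaf) 180277 6
 Tr.leaf) 180278 6
 (Tr.node (Tr.node Tr.leaf 180281 4
 Tr.leaf) 180282 6
 Tr.leaf)) 180284 5
 (Tr.node (Tr.node (Tr.node Tr.leaf 180287 6
 Tr.leaf) 180289 6
 Tr.leaf) 180290 4
 (Tr.node Tr.leaf 180292 3
 Tr.leaf))) 180295 4
 (Tr.node (Tr.node (Tr.node (Tr.node Tr.leaf 180296 5
 Tr.leaf) 180299 4
 Tr.leaf) 180301 5
 (Tr.node (Tr.node Tr.leaf 180302 5
 Tr.leaf) 180304 6
 Tr.leaf)) 180307 6
 (Tr.node (Tr.node (Tr.node Tr.leaf 180309 6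
 Tr.leaf) 180310 6
 Tr.leaf) 180313 6
 (Tr.node Tr.leaf 180314 6
 Tr.leaf)))) 180316 5
 (Tr.node (Tr.node (Tr.node (Tr.node (Tr.node Tr.leaf 180319 6
 Tr.leaf) 180321 6
 Tr.leaf) 180322 5
 (Tr.node (Tr.node Tr.leaf 180324 5
 Tr.leaf) 180327 6
 Tr.leaf)) 180328 5
 (Tr.node (Tr.node (Tr.node Tr.leaf 180331 5
 Tr.leaf) 180333 6
 Tr.leaf) 180334 6
 (Tr.node Tr.leaf 180336 6
 Tr.leaf))) 180339 5
 (Tr.node (Tr.node (Tr.node (Tr.node Tr.leaf 180341 6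
 Tr.leaf) 180342 6
 Tr.leaf) 180345 5
 (Tr.node Tr.leaf 180346 4
 Tr.leaf)) 180348 6
 (Tr.node (Tr.node (Tr.node Tr.leaf 180351 6
 Tr.leaf) 180355 6
 Tr.leaf) 180357 5
 (Tr.node Tr.leaf 180358 5
 Tr.leaf))))) 180361 6
 (Tr.node (Tr.node (Tr.node (Tr.node (Tr.node (Tr.node Tr.leaf 180362 6
 Tr.leaf) 180364 5
 Tr.leaf) 180367 6
 (Tr.node (Tr.node Tr.leaf 180369 6
 Tr.leaf) 180370 5
 Tr.leaf)) 180372 6
 (Tr.node (Tr.node (Tr.node Tr.leaf 180375 6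
 Tr.leaf) 180376 6
 Tr.leaf) 180379 6
 (Tr.node Tr.leaf 180381 6
 Tr.leaf))) 180382 5
 (Tr.node (Tr.node (Tr.node (Tr.node Tr.leaf 180387 6
 Tr.leaf) 180389 6
 Tr.leaf) 180390 5
 (Tr.node Tr.leaf 180393 7
 Tr.leaf)) 180394 6
 (Tr.node (Tr.node (Tr.node Tr.leaf 180396 6
 Tr.leaf) 180399 6
 Tr.leaf) 180401 5
 (Tr.node Tr.leaf 180402 5
 Tr.leaf)))) 180404 5
 (Tr.node (Tr.node (Tr.node (Tr.node (Tr.node Tr.leaf 180407 5
 Tr.leaf) 180408 6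
 Tr.leaf) 180411 6
 (Tr.node (Tr.node Tr.leaf 180413 5
 Tr.leaf) 180414 6
 Tr.leaf)) 180419 4
 (Tr.node (Tr.node (Tr.node Tr.leaf 180421 4
 Tr.leaf) 180422 6
 Tr.leaf) 180425 6
 (Tr.node Tr.leaf 180426 5
 Tr.leaf))) 180428 6
 (Tr.node (Tr.node (Tr.node (Tr.node Tr.leaf 180431 6
 Tr.leaf) 180433 6
 Tr.leaf) 180434 6
 (Tr.node Tr.leaf 180436 5
 Tr.leaf)) 180439 6
 (Tr.node (Tr.node (Tr.node Tr.leaf 180440 6
 Tr.leaf) 180443 6
 Tr.leaf) 180445 6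
 (Tr.node Tr.leaf 180446 5
 Tr.leaf))))))) 180451 6
 (Tr.node (Tr.node (Tr.node (Tr.node (Tr.node (Tr.node (Tr.node (Tr.node Tr.leaf 180453 6
 Tr.leaf) 180454 5
 Tr.leaf) 180457 6
 (Tr.node (Tr.node Tr.leaf 180458 5
 Tr.leaf) 180460 4
 Tr.leaf)) 180463 6
 (Tr.node (Tr.node (Tr.node Tr.leaf 180465 5
 Tr.leaf) 180466 6
 Tr.leaf) 180468 6
 (Tr.node Tr.leaf 180471 6
 Tr.leaf))) 180472 6
 (Tr.node (Tr.node (Tr.node (Tr.node Tr.leaf 180475 6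
 Tr.leaf) 180477 7
 Tr.leaf) 180478 4
 (Tr.node (Tr.node Tr.leaf 180481 6
 Tr.leaf) 180482 4
 Tr.leaf)) 180484 5
 (Tr.node (Tr.node (Tr.node Tr.leaf 180487 6
 Tr.leaf) 180488 4
 Tr.leaf) 180491 5
 (Tr.node Tr.leaf 180493 6
 Tr.leaf)))) 180494 6
 (Tr.node (Tr.node (Tr.node (Tr.node (Tr.node Tr.leaf 180496 6
 Tr.leaf) 180499 6
 Tr.leaf) 180501 6
 (Tr.node (Tr.node Tr.leaf 180502 6
 Tr.leaf) 180505 6
 Tr.leaf)) 180506 3
 (Tr.node (Tr.node (Tr.node Tr.leaf 180508 6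
 Tr.leaf) 180511 6
 Tr.leaf) 180513 6
 (Tr.node Tr.leaf 180514 4
 Tr.leaf))) 180516 4
 (Tr.node (Tr.node (Tr.node (Tr.node Tr.leaf 180519 6
 Tr.leaf) 180520 4
 Tr.leaf) 180523 6
 (Tr.node Tr.leaf 180525 6
 Tr.leaf)) 180526 5
 (Tr.node (Tr.node (Tr.node Tr.leaf 180528 6
 Tr.leaf) 180531 6
 Tr.leaf) 180533 4
 (Tr.node Tr.leaf 180534 6
 Tr.leaf))))) 180537 6
 (Tr.node (Tr.node (Tr.node (Tr.node (Tr.node (Tr.node Tr.leaf 180538 6
 Tr.leaf) 180540 6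
 Tr.leaf) 180543 6
 (Tr.node (Tr.node Tr.leaf 180545 6
 Tr.leaf) 180546 4
 Tr.leaf)) 180548 4
 (Tr.node (Tr.node (Tr.node Tr.leaf 180551 6
 Tr.leaf) 180552 3
 Tr.leaf) 180555 6
 (Tr.node Tr.leaf 180557 6
 Tr.leaf))) 180558 6
 (Tr.node (Tr.node (Tr.node (Tr.node Tr.leaf 180560 6
 Tr.leaf) 180563 6
 Tr.leaf) 180565 6
 (Tr.node Tr.leaf 180566 5
 Tr.leaf)) 180569 5
 (Tr.node (Tr.node (Tr.node Tr.leaf 180570 6
 Tr.leaf) 180572 6
 Tr.leaf) 180575 6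
 (Tr.node Tr.leaf 180577 6
 Tr.leaf)))) 180578 5
 (Tr.node (Tr.node (Tr.node (Tr.node (Tr.node Tr.leaf 180580 4
 Tr.leaf) 180583 6
 Tr.leaf) 180584 4
 (Tr.node (Tr.node Tr.leaf 180587 4
 Tr.leaf) 180589 6
 Tr.leaf)) 180590 4
 (Tr.node (Tr.node (Tr.node Tr.leaf 180592 6
 Tr.leaf) 180595 6
 Tr.leaf) 180597 6
 (Tr.node Tr.leaf 180598 5
 Tr.leaf))) 180601 6
 (Tr.node (Tr.node (Tr.node (Tr.node Tr.leaf 180602 6
 Tr.leaf) 180604 6
 Tr.leaf) 180607 5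
 (Tr.node Tr.leaf 180611 6
 Tr.leaf)) 180613 6
 (Tr.node (Tr.node (Tr.node Tr.leaf 180614 5
 Tr.leaf) 180617 4
 Tr.leaf) 180618 4
 (Tr.node Tr.leaf 180620 4
 Tr.leaf)))))) 180623 6
 (Tr.node (Tr.node (Tr.node (Tr.node (Tr.node (Tr.node (Tr.node Tr.leaf 180625 6
 Tr.leaf) 180626 6
 Tr.leaf) 180628 7
 (Tr.node (Tr.node Tr.leaf 180631 5
 Tr.leaf) 180632 6
 Tr.leaf)) 180635 6
 (Tr.node (Tr.node (Tr.node Tr.leaf 180637 5
 Tr.leaf) 180638 6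
 Tr.leaf) 180643 6
 (Tr.node Tr.leaf 180645 6
 Tr.leaf))) 180646 6
 (Tr.node (Tr.node (Tr.node (Tr.node Tr.leaf 180649 6
 Tr.leaf) 180650 6
 Tr.leaf) 180652 6
 (Tr.node (Tr.node Tr.leaf 180655 6
 Tr.leaf) 180657 6
 Tr.leaf)) 180658 6
 (Tr.node (Tr.node (Tr.node Tr.leaf 180660 6
 Tr.leaf) 180663 6
 Tr.leaf) 180664 6
 (Tr.node Tr.leaf 180667 6
 Tr.leaf)))) 180669 6
 (Tr.node (Tr.node (Tr.node (Tr.node (Tr.node Tr.leaf 180670 6
 Tr.leaf) 180675 6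
 Tr.leaf) 180677 6
 (Tr.node (Tr.node Tr.leaf 180678 6
 Tr.leaf) 180681 5
 Tr.leaf)) 180682 6
 (Tr.node (Tr.node (Tr.node Tr.leaf 180684 6
 Tr.leaf) 180687 6
 Tr.leaf) 180689 6
 (Tr.node Tr.leaf 180690 6
 Tr.leaf))) 180692 4
 (Tr.node (Tr.node (Tr.node (Tr.node Tr.leaf 180695 5
 Tr.leaf) 180696 6
 Tr.leaf) 180699 5
 (Tr.node Tr.leaf 180701 5
 Tr.leaf)) 180702 6
 (Tr.node (Tr.node (Tr.node Tr.leaf 180707 4
 Tr.leaf) 180709 5
 Tr.leaf) 180710 4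
 (Tr.node Tr.leaf 180713 4
 Tr.leaf))))) 180714 6
 (Tr.node (Tr.node (Tr.node (Tr.node (Tr.node (Tr.node Tr.leaf 180716 4
 Tr.leaf) 180719 6
 Tr.leaf) 180721 6
 (Tr.node (Tr.node Tr.leaf 180722 6
 Tr.leaf) 180724 6
 Tr.leaf)) 180727 6
 (Tr.node (Tr.node (Tr.node Tr.leaf 180728 6
 Tr.leaf) 180731 6
 Tr.leaf) 180733 6
 (Tr.node Tr.leaf 180734 6
 Tr.leaf))) 181253 6
 (Tr.node (Tr.node (Tr.node (Tr.node Tr.leaf 181255 5
 Tr.leaf) 181257 6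
 Tr.leaf) 181259 6
 (Tr.node Tr.leaf 181265 6
 Tr.leaf)) 181267 5
 (Tr.node (Tr.node (Tr.node Tr.leaf 181277 6
 Tr.leaf) 181279 5
 Tr.leaf) 181285 6
 (Tr.node Tr.leaf 181287 6
 Tr.leaf)))) 181289 4
 (Tr.node (Tr.node (Tr.node (Tr.node (Tr.node Tr.leaf 181291 5
 Tr.leaf) 181297 6
 Tr.leaf) 181299 6
 (Tr.node (Tr.node Tr.leaf 181309 6
 Tr.leaf) 181311 6
 Tr.leaf)) 181317 5
 (Tr.node (Tr.node (Tr.node Tr.leaf 181319 6
 Tr.leaf) 181321 4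
 Tr.leaf) 181323 5
 (Tr.node Tr.leaf 181329 6
 Tr.leaf))) 181331 6
 (Tr.node (Tr.node (Tr.node (Tr.node Tr.leaf 181341 6
 Tr.leaf) 181343 6
 Tr.leaf) 181349 4
 (Tr.node Tr.leaf 181351 6
 Tr.leaf)) 181353 6
 (Tr.node (Tr.node (Tr.node Tr.leaf 181355 6
 Tr.leaf) 181361 6
 Tr.leaf) 181363 6
 (Tr.node Tr.leaf 181373 5
 Tr.leaf)))))))) 181375 6
 (Tr.node (Tr.node (Tr.node (Tr.node (Tr.node (Tr.node (Tr.node (Tr.node (Tr.node Tr.leaf 181377 5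
 Tr.leaf) 181379 6
 Tr.leaf) 181389 6
 (Tr.node (Tr.node Tr.leaf 181391 6
 Tr.leaf) 181397 6
 Tr.leaf)) 181399 6
 (Tr.node (Tr.node (Tr.node Tr.leaf 181401 6
 Tr.leaf) 181403 6
 Tr.leaf) 181409 4
 (Tr.node Tr.leaf 181411 6
 Tr.leaf))) 181421 6
 (Tr.node (Tr.node (Tr.node (Tr.node Tr.leaf 181423 7
 Tr.leaf) 181429 6
 Tr.leaf) 181431 5
 (Tr.node (Tr.node Tr.leaf 181433 6
 Tr.leaf) 181435 6
 Tr.leaf)) 181441 6
 (Tr.node (Tr.node (Tr.node Tr.leaf 181443 5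
 Tr.leaf) 181453 6
 Tr.leaf) 181455 6
 (Tr.node Tr.leaf 181461 6
 Tr.leaf)))) 181463 6
 (Tr.node (Tr.node (Tr.node (Tr.node (Tr.node Tr.leaf 181465 6
 Tr.leaf) 181467 6
 Tr.leaf) 181473 6
 (Tr.node (Tr.node Tr.leaf 181475 5
 Tr.leaf) 181485 6
 Tr.leaf)) 181487 6
 (Tr.node (Tr.node (Tr.node Tr.leaf 181493 6
 Tr.leaf) 181495 6
 Tr.leaf) 181497 6
 (Tr.node Tr.leaf 181499 6
 Tr.leaf))) 181509 4
 (Tr.node (Tr.node (Tr.node (Tr.node Tr.leaf 181511 7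
 Tr.leaf) 181513 7
 Tr.leaf) 181515 7
 (Tr.node Tr.leaf 181521 5
 Tr.leaf)) 181523 6
 (Tr.node (Tr.node (Tr.node Tr.leaf 181533 6
 Tr.leaf) 181535 6
 Tr.leaf) 181541 6
 (Tr.node Tr.leaf 181543 4
 Tr.leaf))))) 181545 6
 (Tr.node (Tr.node (Tr.node (Tr.node (Tr.node (Tr.node Tr.leaf 181547 7
 Tr.leaf) 181553 6
 Tr.leaf) 181555 7
 (Tr.node (Tr.node Tr.leaf 181565 6
 Tr.leaf) 181567 5
 Tr.leaf)) 181573 6
 (Tr.node (Tr.node (Tr.node Tr.leaf 181575 6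
 Tr.leaf) 181577 6
 Tr.leaf) 181579 6
 (Tr.node Tr.leaf 181585 6
 Tr.leaf))) 181587 6
 (Tr.node (Tr.node (Tr.node (Tr.node Tr.leaf 181597 6
 Tr.leaf) 181599 5
 Tr.leaf) 181605 6
 (Tr.node (Tr.node Tr.leaf 181607 6
 Tr.leaf) 181609 6
 Tr.leaf)) 181611 4
 (Tr.node (Tr.node (Tr.node Tr.leaf 181617 6
 Tr.leaf) 181619 6
 Tr.leaf) 181629 6
 (Tr.node Tr.leaf 181631 5
 Tr.leaf)))) 181633 5
 (Tr.node (Tr.node (Tr.node (Tr.node (Tr.node Tr.leaf 181635 6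
 Tr.leaf) 181645 6
 Tr.leaf) 181647 6
 (Tr.node (Tr.node Tr.leaf 181653 7
 Tr.leaf) 181655 6
 Tr.leaf)) 181657 6
 (Tr.node (Tr.node (Tr.node Tr.leaf 181659 6
 Tr.leaf) 181665 5
 Tr.leaf) 181667 6
 (Tr.node Tr.leaf 181677 6
 Tr.leaf))) 181679 6
 (Tr.node (Tr.node (Tr.node (Tr.node Tr.leaf 181685 6
 Tr.leaf) 181687 6
 Tr.leaf) 181689 6
 (Tr.node Tr.leaf 181691 6
 Tr.leaf)) 181697 6
 (Tr.node (Tr.node (Tr.node Tr.leaf 181699 6
 Tr.leaf) 181709 5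
 Tr.leaf) 181711 6
 (Tr.node Tr.leaf 181717 6
 Tr.leaf)))))) 181719 6
 (Tr.node (Tr.node (Tr.node (Tr.node (Tr.node (Tr.node (Tr.node Tr.leaf 181721 5
 Tr.leaf) 181723 6
 Tr.leaf) 181729 6
 (Tr.node (Tr.node Tr.leaf 181731 6
 Tr.leaf) 181741 5
 Tr.leaf)) 181743 6
 (Tr.node (Tr.node (Tr.node Tr.leaf 181749 6
 Tr.leaf) 181751 6
 Tr.leaf) 181753 6
 (Tr.node Tr.leaf 181755 6
 Tr.leaf))) 182275 4
 (Tr.node (Tr.node (Tr.node (Tr.node Tr.leaf 182279 4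
 Tr.leaf) 182281 6
 Tr.leaf) 182282 6
 (Tr.node (Tr.node Tr.leaf 182285 6
 Tr.leaf) 182286 5
 Tr.leaf)) 182289 6
 (Tr.node (Tr.node (Tr.node Tr.leaf 182290 4
 Tr.leaf) 182293 6
 Tr.leaf) 182294 6
 (Tr.node Tr.leaf 182299 6
 Tr.leaf)))) 182303 6
 (Tr.node (Tr.node (Tr.node (Tr.node (Tr.node Tr.leaf 182307 6
 Tr.leaf) 182311 6
 Tr.leaf) 182313 6
 (Tr.node (Tr.node Tr.leaf 182314 5
 Tr.leaf) 182317 6
 Tr.leaf)) 182318 4
 (Tr.node (Tr.node (Tr.node Tr.leaf 182321 5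
 Tr.leaf) 182322 6
 Tr.leaf) 182325 4
 (Tr.node Tr.leaf 182326 4
 Tr.leaf))) 182331 6
 (Tr.node (Tr.node (Tr.node (Tr.node Tr.leaf 182335 6
 Tr.leaf) 182339 4
 Tr.leaf) 182343 5
 (Tr.node Tr.leaf 182345 5
 Tr.leaf)) 182346 5
 (Tr.node (Tr.node (Tr.node Tr.leaf 182349 6
 Tr.leaf) 182350 5
 Tr.leaf) 182353 4
 (Tr.node Tr.leaf 182354 4
 Tr.leaf))))) 182357 6
 (Tr.node (Tr.node (Tr.node (Tr.node (Tr.node (Tr.node Tr.leaf 182358 6
 Tr.leaf) 182363 7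
 Tr.leaf) 182367 6
 (Tr.node (Tr.node Tr.leaf 182371 6
 Tr.leaf) 182375 6
 Tr.leaf)) 182377 6
 (Tr.node (Tr.node (Tr.node Tr.leaf 182378 6
 Tr.leaf) 182381 5
 Tr.leaf) 182382 6
 (Tr.node Tr.leaf 182385 6
 Tr.leaf))) 182386 6
 (Tr.node (Tr.node (Tr.node (Tr.node Tr.leaf 182389 6
 Tr.leaf) 182390 3
 Tr.leaf) 182395 6
 (Tr.node Tr.leaf 182399 6
 Tr.leaf)) 182401 6
 (Tr.node (Tr.node (Tr.node Tr.leaf 182402 6
 Tr.leaf) 182405 4
 Tr.leaf) 182406 6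
 (Tr.node Tr.leaf 182411 6
 Tr.leaf)))) 182415 6
 (Tr.node (Tr.node (Tr.node (Tr.node (Tr.node Tr.leaf 182419 6
 Tr.leaf) 182423 6
 Tr.leaf) 182425 6
 (Tr.node (Tr.node Tr.leaf 182426 6
 Tr.leaf) 182429 6
 Tr.leaf)) 182430 5
 (Tr.node (Tr.node (Tr.node Tr.leaf 182433 5
 Tr.leaf) 182434 6
 Tr.leaf) 182437 6
 (Tr.node Tr.leaf 182438 4
 Tr.leaf))) 182443 6
 (Tr.node (Tr.node (Tr.node (Tr.node Tr.leaf 182447 6
 Tr.leaf) 182451 6
 Tr.leaf) 182455 6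
 (Tr.node Tr.leaf 182457 6
 Tr.leaf)) 182458 5
 (Tr.node (Tr.node (Tr.node Tr.leaf 182461 5
 Tr.leaf) 182462 5
 Tr.leaf) 182465 6
 (Tr.node Tr.leaf 182466 3
 Tr.leaf))))))) 182469 6
 (Tr.node (Tr.node (Tr.node (Tr.node (Tr.node (Tr.node (Tr.node (Tr.node Tr.leaf 182470 6
 Tr.leaf) 182475 6
 Tr.leaf) 182479 6
 (Tr.node (Tr.node Tr.leaf 182483 6
 Tr.leaf) 182487 6
 Tr.leaf)) 182489 6
 (Tr.node (Tr.node (Tr.node Tr.leaf 182490 6
 Tr.leaf) 182493 6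
 Tr.leaf) 182494 6
 (Tr.node Tr.leaf 182497 7
 Tr.leaf))) 182498 6
 (Tr.node (Tr.node (Tr.node (Tr.node Tr.leaf 182501 6
 Tr.leaf) 182502 5
 Tr.leaf) 182507 5
 (Tr.node (Tr.node Tr.leaf 182511 6
 Tr.leaf) 182515 5
 Tr.leaf)) 182519 5
 (Tr.node (Tr.node (Tr.node Tr.leaf 182521 6
 Tr.leaf) 182522 5
 Tr.leaf) 182525 6
 (Tr.node Tr.leaf 182526 6
 Tr.leaf)))) 182531 6
 (Tr.node (Tr.node (Tr.node (Tr.node (Tr.node Tr.leaf 182535 6
 Tr.leaf) 182537 6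
 Tr.leaf) 182538 6
 (Tr.node (Tr.node Tr.leaf 182541 6
 Tr.leaf) 182542 5
 Tr.leaf)) 182545 5
 (Tr.node (Tr.node (Tr.node Tr.leaf 182546 3
 Tr.leaf) 182549 6
 Tr.leaf) 182550 6
 (Tr.node Tr.leaf 182555 6
 Tr.leaf))) 182559 5
 (Tr.node (Tr.node (Tr.node (Tr.node Tr.leaf 182563 5
 Tr.leaf) 182567 5
 Tr.leaf) 182569 6
 (Tr.node Tr.leaf 182570 6
 Tr.leaf)) 182573 6
 (Tr.node (Tr.node (Tr.node Tr.leaf 182574 5
 Tr.leaf) 182577 6
 Tr.leaf) 182578 6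
 (Tr.node Tr.leaf 182581 6
 Tr.leaf))))) 182582 4
 (Tr.node (Tr.node (Tr.node (Tr.node (Tr.node (Tr.node Tr.leaf 182587 6
 Tr.leaf) 182591 6
 Tr.leaf) 182595 6
 (Tr.node (Tr.node Tr.leaf 182599 6
 Tr.leaf) 182601 6
 Tr.leaf)) 182602 6
 (Tr.node (Tr.node (Tr.node Tr.leaf 182605 7
 Tr.leaf) 182606 6
 Tr.leaf) 182609 6
 (Tr.node Tr.leaf 182610 5
 Tr.leaf))) 182613 4
 (Tr.node (Tr.node (Tr.node (Tr.node Tr.leaf 182614 6
 Tr.leaf) 182619 6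
 Tr.leaf) 182623 6
 (Tr.node Tr.leaf 182627 6
 Tr.leaf)) 182631 6
 (Tr.node (Tr.node (Tr.node Tr.leaf 182633 6
 Tr.leaf) 182634 4
 Tr.leaf) 182637 6
 (Tr.node Tr.leaf 182638 5
 Tr.leaf)))) 182641 6
 (Tr.node (Tr.node (Tr.node (Tr.node (Tr.node Tr.leaf 182642 6
 Tr.leaf) 182645 6
 Tr.leaf) 182646 5
 (Tr.node (Tr.node Tr.leaf 182651 6
 Tr.leaf) 182655 6
 Tr.leaf)) 182657 6
 (Tr.node (Tr.node (Tr.node Tr.leaf 182658 6
 Tr.leaf) 182661 4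
 Tr.leaf) 182662 6
 (Tr.node Tr.leaf 182667 6
 Tr.leaf))) 182671 6
 (Tr.node (Tr.node (Tr.node (Tr.node Tr.leaf 182675 6
 Tr.leaf) 182679 7
 Tr.leaf) 182681 5
 (Tr.node Tr.leaf 182682 6
 Tr.leaf)) 182685 6
 (Tr.node (Tr.node (Tr.node Tr.leaf 182686 5
 Tr.leaf) 182689 5
 Tr.leaf) 182690 6
 (Tr.node Tr.leaf 182693 7
 Tr.leaf)))))) 182694 3
 (Tr.node (Tr.node (Tr.node (Tr.node (Tr.node (Tr.node (Tr.node Tr.leaf 182699 6
 Tr.leaf) 182703 6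
 Tr.leaf) 182707 6
 (Tr.node (Tr.node Tr.leaf 182711 6
 Tr.leaf) 182713 6
 Tr.leaf)) 182714 6
 (Tr.node (Tr.node (Tr.node Tr.leaf 182717 6
 Tr.leaf) 182718 6
 Tr.leaf) 182721 6
 (Tr.node Tr.leaf 182722 5
 Tr.leaf))) 182725 6
 (Tr.node (Tr.node (Tr.node (Tr.node Tr.leaf 182726 6
 Tr.leaf) 182731 6
 Tr.leaf) 182735 6
 (Tr.node (Tr.node Tr.leaf 182739 6
 Tr.leaf) 182743 6
 Tr.leaf)) 182745 6
 (Tr.node (Tr.node (Tr.node Tr.leaf 182746 5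
 Tr.leaf) 182749 5
 Tr.leaf) 182750 6
 (Tr.node Tr.leaf 182753 7
 Tr.leaf)))) 182754 6
 (Tr.node (Tr.node (Tr.node (Tr.node (Tr.node Tr.leaf 182757 5
 Tr.leaf) 182758 6
 Tr.leaf) 182763 6
 (Tr.node (Tr.node Tr.leaf 182767 6
 Tr.leaf) 182771 6
 Tr.leaf)) 182775 6
 (Tr.node (Tr.node (Tr.node Tr.leaf 182777 5
 Tr.leaf) 182778 6
 Tr.leaf) 182781 5
 (Tr.node Tr.leaf 182782 6
 Tr.leaf))) 183297 6
 (Tr.node (Tr.node (Tr.node (Tr.node Tr.leaf 183299 6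
 Tr.leaf) 183301 6
 Tr.leaf) 183303 6
 (Tr.node Tr.leaf 183321 5
 Tr.leaf)) 183323 5
 (Tr.node (Tr.node (Tr.node Tr.leaf 183325 6
 Tr.leaf) 183327 6
 Tr.leaf) 183329 4
 (Tr.node Tr.leaf 183331 6
 Tr.leaf))))) 183333 4
 (Tr.node (Tr.node (Tr.node (Tr.node (Tr.node (Tr.node Tr.leaf 183335 6
 Tr.leaf) 183353 6
 Tr.leaf) 183355 6
 (Tr.node (Tr.node Tr.leaf 183357 6
 Tr.leaf) 183359 6
 Tr.leaf)) 183361 7
 (Tr.node (Tr.node (Tr.node Tr.leaf 183363 6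
 Tr.leaf) 183365 5
 Tr.leaf) 183367 6
 (Tr.node Tr.leaf 183385 6
 Tr.leaf))) 183387 5
 (Tr.node (Tr.node (Tr.node (Tr.node Tr.leaf 183389 5
 Tr.leaf) 183391 6
 Tr.leaf) 183393 4
 (Tr.node Tr.leaf 183395 6
 Tr.leaf)) 183397 6
 (Tr.node (Tr.node (Tr.node Tr.leaf 183399 5
 Tr.leaf) 183417 6
 Tr.leaf) 183419 6
 (Tr.node Tr.leaf 183421 6
 Tr.leaf)))) 183423 6
 (Tr.node (Tr.node (Tr.node (Tr.node (Tr.node Tr.leaf 183433 6
 Tr.leaf) 183435 6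
 Tr.leaf) 183437 6
 (Tr.node (Tr.node Tr.leaf 183439 6
 Tr.leaf) 183441 6
 Tr.leaf)) 183443 6
 (Tr.node (Tr.node (Tr.node Tr.leaf 183445 6
 Tr.leaf) 183447 6
 Tr.leaf) 183465 6
 (Tr.node Tr.leaf 183467 6
 Tr.leaf))) 183469 6
 (Tr.node (Tr.node (Tr.node (Tr.node Tr.leaf 183471 6
 Tr.leaf) 183473 6
 Tr.leaf) 183475 6
 (Tr.node Tr.leaf 183477 5
 Tr.leaf)) 183479 6
 (Tr.node (Tr.node (Tr.node Tr.leaf 183497 6
 Tr.leaf) 183499 6
 Tr.leaf) 183501 6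
 (Tr.node Tr.leaf 183503 5
 Tr.leaf)))))))))

/-- A subtree. -/
def tr2_s45 : Tr := (Tr.node (Tr.node (Tr.node (Tr.node (Tr.node (Tr.node (Tr.node (Tr.node (Tr.node (Tr.node Tr.leaf 183507 6
 Tr.leaf) 183509 6
 Tr.leaf) 183511 6
 (Tr.node (Tr.node Tr.leaf 183529 5
 Tr.leaf) 183531 6
 Tr.leaf)) 183533 6
 (Tr.node (Tr.node (Tr.node Tr.leaf 183535 6
 Tr.leaf) 183537 5
 Tr.leaf) 183539 6
 (Tr.node Tr.leaf 183541 5
 Tr.leaf))) 183543 6
 (Tr.node (Tr.node (Tr.node (Tr.node Tr.leaf 183553 6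
 Tr.leaf) 183555 6
 Tr.leaf) 183557 5
 (Tr.node (Tr.node Tr.leaf 183559 6
 Tr.leaf) 183577 6
 Tr.leaf)) 183579 6
 (Tr.node (Tr.node (Tr.node Tr.leaf 183581 6
 Tr.leaf) 183583 5
 Tr.leaf) 183585 6
 (Tr.node Tr.leaf 183587 6
 Tr.leaf)))) 183589 6
 (Tr.node (Tr.node (Tr.node (Tr.node (Tr.node Tr.leaf 183591 4
 Tr.leaf) 183609 6
 Tr.leaf) 183611 6
 (Tr.node (Tr.node Tr.leaf 183613 6
 Tr.leaf) 183615 5
 Tr.leaf)) 183617 4
 (Tr.node (Tr.node (Tr.node Tr.leaf 183619 6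
 Tr.leaf) 183621 4
 Tr.leaf) 183623 6
 (Tr.node Tr.leaf 183641 5
 Tr.leaf))) 183643 6
 (Tr.node (Tr.node (Tr.node (Tr.node Tr.leaf 183645 5
 Tr.leaf) 183647 6
 Tr.leaf) 183649 6
 (Tr.node Tr.leaf 183651 5
 Tr.leaf)) 183653 5
 (Tr.node (Tr.node (Tr.node Tr.leaf 183655 4
 Tr.leaf) 183673 6
 Tr.leaf) 183675 5
 (Tr.node Tr.leaf 183677 6
 Tr.leaf))))) 183679 6
 (Tr.node (Tr.node (Tr.node (Tr.node (Tr.node (Tr.node Tr.leaf 183689 6
 Tr.leaf) 183691 5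
 Tr.leaf) 183693 5
 (Tr.node (Tr.node Tr.leaf 183695 6
 Tr.leaf) 183697 6
 Tr.leaf)) 183699 5
 (Tr.node (Tr.node (Tr.node Tr.leaf 183701 6
 Tr.leaf) 183703 6
 Tr.leaf) 183721 6
 (Tr.node Tr.leaf 183723 5
 Tr.leaf))) 183725 5
 (Tr.node (Tr.node (Tr.node (Tr.node Tr.leaf 183727 6
 Tr.leaf) 183729 6
 Tr.leaf) 183731 6
 (Tr.node (Tr.node Tr.leaf 183733 6
 Tr.leaf) 183735 6
 Tr.leaf)) 183753 6
 (Tr.node (Tr.node (Tr.node Tr.leaf 183755 6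
 Tr.leaf) 183757 6
 Tr.leaf) 183759 6
 (Tr.node Tr.leaf 183761 5
 Tr.leaf)))) 183763 6
 (Tr.node (Tr.node (Tr.node (Tr.node (Tr.node Tr.leaf 183765 6
 Tr.leaf) 183767 6
 Tr.leaf) 183785 6
 (Tr.node (Tr.node Tr.leaf 183787 6
 Tr.leaf) 183789 6
 Tr.leaf)) 183791 6
 (Tr.node (Tr.node (Tr.node Tr.leaf 183793 6
 Tr.leaf) 183795 6
 Tr.leaf) 183797 6
 (Tr.node Tr.leaf 183799 6
 Tr.leaf))) 184323 6
 (Tr.node (Tr.node (Tr.node (Tr.node Tr.leaf 184325 5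
 Tr.leaf) 184326 6
 Tr.leaf) 184331 4
 (Tr.node Tr.leaf 184333 5
 Tr.leaf)) 184334 4
 (Tr.node (Tr.node (Tr.node Tr.leaf 184337 5
 Tr.leaf) 184338 4
 Tr.leaf) 184340 4
 (Tr.node Tr.leaf 184343 6
 Tr.leaf)))))) 184345 6
 (Tr.node (Tr.node (Tr.node (Tr.node (Tr.node (Tr.node (Tr.node Tr.leaf 184346 5
 Tr.leaf) 184348 6
 Tr.leaf) 184351 6
 (Tr.node (Tr.node Tr.leaf 184355 6
 Tr.leaf) 184357 6
 Tr.leaf)) 184358 6
 (Tr.node (Tr.node (Tr.node Tr.leaf 184363 5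
 Tr.leaf) 184365 5
 Tr.leaf) 184366 6
 (Tr.node Tr.leaf 184369 6
 Tr.leaf))) 184370 6
 (Tr.node (Tr.node (Tr.node (Tr.node Tr.leaf 184372 5
 Tr.leaf) 184375 6
 Tr.leaf) 184377 5
 (Tr.node (Tr.node Tr.leaf 184378 5
 Tr.leaf) 184380 6
 Tr.leaf)) 184383 6
 (Tr.node (Tr.node (Tr.node Tr.leaf 184387 6
 Tr.leaf) 184389 6
 Tr.leaf) 184390 5
 (Tr.node Tr.leaf 184395 7
 Tr.leaf)))) 184397 6
 (Tr.node (Tr.node (Tr.node (Tr.node (Tr.node Tr.leaf 184398 7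
 Tr.leaf) 184401 6
 Tr.leaf) 184402 6
 (Tr.node (Tr.node Tr.leaf 184404 5
 Tr.leaf) 184407 5
 Tr.leaf)) 184409 5
 (Tr.node (Tr.node (Tr.node Tr.leaf 184410 3
 Tr.leaf) 184412 6
 Tr.leaf) 184415 6
 (Tr.node Tr.leaf 184419 6
 Tr.leaf))) 184421 6
 (Tr.node (Tr.node (Tr.node (Tr.node Tr.leaf 184422 5
 Tr.leaf) 184427 6
 Tr.leaf) 184429 6
 (Tr.node Tr.leaf 184430 6
 Tr.leaf)) 184433 6
 (Tr.node (Tr.node (Tr.node Tr.leaf 184434 6
 Tr.leaf) 184436 5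
 Tr.leaf) 184439 6
 (Tr.node Tr.leaf 184441 6
 Tr.leaf))))) 184442 6
 (Tr.node (Tr.node (Tr.node (Tr.node (Tr.node (Tr.node Tr.leaf 184444 5
 Tr.leaf) 184447 5
 Tr.leaf) 184449 5
 (Tr.node (Tr.node Tr.leaf 184450 5
 Tr.leaf) 184452 3
 Tr.leaf)) 184455 6
 (Tr.node (Tr.node (Tr.node Tr.leaf 184457 4
 Tr.leaf) 184458 6
 Tr.leaf) 184460 5
 (Tr.node Tr.leaf 184463 6
 Tr.leaf))) 184467 6
 (Tr.node (Tr.node (Tr.node (Tr.node Tr.leaf 184469 6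
 Tr.leaf) 184470 6
 Tr.leaf) 184475 6
 (Tr.node Tr.leaf 184477 6
 Tr.leaf)) 184478 6
 (Tr.node (Tr.node (Tr.node Tr.leaf 184481 6
 Tr.leaf) 184482 6
 Tr.leaf) 184484 5
 (Tr.node Tr.leaf 184487 6
 Tr.leaf)))) 184489 4
 (Tr.node (Tr.node (Tr.node (Tr.node (Tr.node Tr.leaf 184490 4
 Tr.leaf) 184492 6
 Tr.leaf) 184495 6
 (Tr.node (Tr.node Tr.leaf 184499 6
 Tr.leaf) 184501 5
 Tr.leaf)) 184502 5
 (Tr.node (Tr.node (Tr.node Tr.leaf 184507 6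
 Tr.leaf) 184509 5
 Tr.leaf) 184510 5
 (Tr.node Tr.leaf 184513 6
 Tr.leaf))) 184514 6
 (Tr.node (Tr.node (Tr.node (Tr.node Tr.leaf 184516 6
 Tr.leaf) 184519 6
 Tr.leaf) 184521 4
 (Tr.node Tr.leaf 184522 4
 Tr.leaf)) 184524 6
 (Tr.node (Tr.node (Tr.node Tr.leaf 184527 5
 Tr.leaf) 184531 6
 Tr.leaf) 184533 6
 (Tr.node Tr.leaf 184534 6
 Tr.leaf))))))) 184539 6
 (Tr.node (Tr.node (Tr.node (Tr.node (Tr.node (Tr.node (Tr.node (Tr.node Tr.leaf 184541 6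
 Tr.leaf) 184542 6
 Tr.leaf) 184545 6
 (Tr.node (Tr.node Tr.leaf 184546 6
 Tr.leaf) 184548 4
 Tr.leaf)) 184551 6
 (Tr.node (Tr.node (Tr.node Tr.leaf 184553 6
 Tr.leaf) 184554 6
 Tr.leaf) 184556 5
 (Tr.node Tr.leaf 184559 6
 Tr.leaf))) 184563 6
 (Tr.node (Tr.node (Tr.node (Tr.node Tr.leaf 184565 6
 Tr.leaf) 184566 5
 Tr.leaf) 184571 6
 (Tr.node (Tr.node Tr.leaf 184573 5
 Tr.leaf) 184574 5
 Tr.leaf)) 184579 5
 (Tr.node (Tr.node (Tr.node Tr.leaf 184581 6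
 Tr.leaf) 184582 4
 Tr.leaf) 184587 7
 (Tr.node Tr.leaf 184589 6
 Tr.leaf)))) 184590 6
 (Tr.node (Tr.node (Tr.node (Tr.node (Tr.node Tr.leaf 184593 6
 Tr.leaf) 184594 6
 Tr.leaf) 184596 6
 (Tr.node (Tr.node Tr.leaf 184599 6
 Tr.leaf) 184601 6
 Tr.leaf)) 184602 6
 (Tr.node (Tr.node (Tr.node Tr.leaf 184604 5
 Tr.leaf) 184607 6
 Tr.leaf) 184611 6
 (Tr.node Tr.leaf 184613 6
 Tr.leaf))) 184614 6
 (Tr.node (Tr.node (Tr.node (Tr.node Tr.leaf 184619 4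
 Tr.leaf) 184621 5
 Tr.leaf) 184622 4
 (Tr.node Tr.leaf 184625 4
 Tr.leaf)) 184626 3
 (Tr.node (Tr.node (Tr.node Tr.leaf 184628 6
 Tr.leaf) 184631 5
 Tr.leaf) 184633 4
 (Tr.node Tr.leaf 184634 6
 Tr.leaf))))) 184636 4
 (Tr.node (Tr.node (Tr.node (Tr.node (Tr.node (Tr.node Tr.leaf 184639 6
 Tr.leaf) 184643 5
 Tr.leaf) 184645 5
 (Tr.node (Tr.node Tr.leaf 184646 6
 Tr.leaf) 184651 5
 Tr.leaf)) 184653 6
 (Tr.node (Tr.node (Tr.node Tr.leaf 184654 5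
 Tr.leaf) 184657 6
 Tr.leaf) 184658 5
 (Tr.node Tr.leaf 184660 6
 Tr.leaf))) 184663 5
 (Tr.node (Tr.node (Tr.node (Tr.node Tr.leaf 184665 7
 Tr.leaf) 184666 5
 Tr.leaf) 184668 5
 (Tr.node Tr.leaf 184671 6
 Tr.leaf)) 184675 6
 (Tr.node (Tr.node (Tr.node Tr.leaf 184677 6
 Tr.leaf) 184678 5
 Tr.leaf) 184683 6
 (Tr.node Tr.leaf 184685 6
 Tr.leaf)))) 184686 6
 (Tr.node (Tr.node (Tr.node (Tr.node (Tr.node Tr.leaf 184689 6
 Tr.leaf) 184690 6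
 Tr.leaf) 184692 6
 (Tr.node (Tr.node Tr.leaf 184695 6
 Tr.leaf) 184697 6
 Tr.leaf)) 184698 5
 (Tr.node (Tr.node (Tr.node Tr.leaf 184700 3
 Tr.leaf) 184703 6
 Tr.leaf) 184705 6
 (Tr.node Tr.leaf 184706 5
 Tr.leaf))) 184708 4
 (Tr.node (Tr.node (Tr.node (Tr.node Tr.leaf 184711 6
 Tr.leaf) 184713 6
 Tr.leaf) 184714 6
 (Tr.node Tr.leaf 184716 5
 Tr.leaf)) 184719 6
 (Tr.node (Tr.node (Tr.node Tr.leaf 184723 6
 Tr.leaf) 184725 6
 Tr.leaf) 184726 5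
 (Tr.node Tr.leaf 184731 6
 Tr.leaf)))))) 184733 6
 (Tr.node (Tr.node (Tr.node (Tr.node (Tr.node (Tr.node (Tr.node Tr.leaf 184734 6
 Tr.leaf) 184737 6
 Tr.leaf) 184738 4
 (Tr.node (Tr.node Tr.leaf 184740 6
 Tr.leaf) 184743 6
 Tr.leaf)) 184745 6
 (Tr.node (Tr.node (Tr.node Tr.leaf 184746 5
 Tr.leaf) 184748 6
 Tr.leaf) 184751 6
 (Tr.node Tr.leaf 184755 6
 Tr.leaf))) 184757 6
 (Tr.node (Tr.node (Tr.node (Tr.node Tr.leaf 184758 6
 Tr.leaf) 184763 6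
 Tr.leaf) 184765 6
 (Tr.node (Tr.node Tr.leaf 184766 6
 Tr.leaf) 184769 5
 Tr.leaf)) 184770 5
 (Tr.node (Tr.node (Tr.node Tr.leaf 184772 6
 Tr.leaf) 184775 5
 Tr.leaf) 184777 6
 (Tr.node Tr.leaf 184778 6
 Tr.leaf)))) 184780 6
 (Tr.node (Tr.node (Tr.node (Tr.node (Tr.node Tr.leaf 184783 5
 Tr.leaf) 184787 6
 Tr.leaf) 184789 5
 (Tr.node (Tr.node Tr.leaf 184790 5
 Tr.leaf) 184795 6
 Tr.leaf)) 184797 6
 (Tr.node (Tr.node (Tr.node Tr.leaf 184798 5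
 Tr.leaf) 184801 6
 Tr.leaf) 184802 6
 (Tr.node Tr.leaf 184804 5
 Tr.leaf))) 184807 5
 (Tr.node (Tr.node (Tr.node (Tr.node Tr.leaf 184809 5
 Tr.leaf) 184810 4
 Tr.leaf) 184812 3
 (Tr.node Tr.leaf 184815 6
 Tr.leaf)) 184819 6
 (Tr.node (Tr.node (Tr.node Tr.leaf 184821 6
 Tr.leaf) 184822 6
 Tr.leaf) 184827 6
 (Tr.node Tr.leaf 184829 6
 Tr.leaf))))) 184830 6
 (Tr.node (Tr.node (Tr.node (Tr.node (Tr.node (Tr.node Tr.leaf 185345 6
 Tr.leaf) 185347 5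
 Tr.leaf) 185353 4
 (Tr.node (Tr.node Tr.leaf 185355 5
 Tr.leaf) 185365 6
 Tr.leaf)) 185367 5
 (Tr.node (Tr.node (Tr.node Tr.leaf 185373 6
 Tr.leaf) 185375 6
 Tr.leaf) 185377 6
 (Tr.node Tr.leaf 185379 6
 Tr.leaf))) 185385 6
 (Tr.node (Tr.node (Tr.node (Tr.node Tr.leaf 185387 6
 Tr.leaf) 185397 6
 Tr.leaf) 185399 6
 (Tr.node Tr.leaf 185405 6
 Tr.leaf)) 185407 6
 (Tr.node (Tr.node (Tr.node Tr.leaf 185409 6
 Tr.leaf) 185411 6
 Tr.leaf) 185417 7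
 (Tr.node Tr.leaf 185419 4
 Tr.leaf)))) 185429 6
 (Tr.node (Tr.node (Tr.node (Tr.node (Tr.node Tr.leaf 185431 5
 Tr.leaf) 185437 5
 Tr.leaf) 185439 6
 (Tr.node (Tr.node Tr.leaf 185441 4
 Tr.leaf) 185443 4
 Tr.leaf)) 185449 6
 (Tr.node (Tr.node (Tr.node Tr.leaf 185451 6
 Tr.leaf) 185461 5
 Tr.leaf) 185463 6
 (Tr.node Tr.leaf 185469 6
 Tr.leaf))) 185471 5
 (Tr.node (Tr.node (Tr.node (Tr.node Tr.leaf 185477 6
 Tr.leaf) 185479 6
 Tr.leaf) 185485 6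
 (Tr.node Tr.leaf 185487 6
 Tr.leaf)) 185489 6
 (Tr.node (Tr.node (Tr.node Tr.leaf 185491 6
 Tr.leaf) 185497 7
 Tr.leaf) 185499 6
 (Tr.node Tr.leaf 185509 6
 Tr.leaf)))))))) 185511 6
 (Tr.node (Tr.node (Tr.node (Tr.node (Tr.node (Tr.node (Tr.node (Tr.node (Tr.node Tr.leaf 185517 6
 Tr.leaf) 185519 6
 Tr.leaf) 185521 5
 (Tr.node (Tr.node Tr.leaf 185523 6
 Tr.leaf) 185529 6
 Tr.leaf)) 185531 6
 (Tr.node (Tr.node (Tr.node Tr.leaf 185541 5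
 Tr.leaf) 185543 6
 Tr.leaf) 185549 6
 (Tr.node Tr.leaf 185551 6
 Tr.leaf))) 185553 6
 (Tr.node (Tr.node (Tr.node (Tr.node Tr.leaf 185555 6
 Tr.leaf) 185561 6
 Tr.leaf) 185563 6
 (Tr.node (Tr.node Tr.leaf 185573 6
 Tr.leaf) 185575 5
 Tr.leaf)) 185581 6
 (Tr.node (Tr.node (Tr.node Tr.leaf 185583 6
 Tr.leaf) 185585 5
 Tr.leaf) 185587 5
 (Tr.node Tr.leaf 185593 7
 Tr.leaf)))) 185595 5
 (Tr.node (Tr.node (Tr.node (Tr.node (Tr.node Tr.leaf 185601 4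
 Tr.leaf) 185603 4
 Tr.leaf) 185609 6
 (Tr.node (Tr.node Tr.leaf 185611 6
 Tr.leaf) 185621 6
 Tr.leaf)) 185623 5
 (Tr.node (Tr.node (Tr.node Tr.leaf 185629 6
 Tr.leaf) 185631 6
 Tr.leaf) 185633 4
 (Tr.node Tr.leaf 185635 6
 Tr.leaf))) 185641 5
 (Tr.node (Tr.node (Tr.node (Tr.node Tr.leaf 185643 4
 Tr.leaf) 185653 6
 Tr.leaf) 185655 6
 (Tr.node Tr.leaf 185661 6
 Tr.leaf)) 185663 6
 (Tr.node (Tr.node (Tr.node Tr.leaf 185665 6
 Tr.leaf) 185667 6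
 Tr.leaf) 185673 4
 (Tr.node Tr.leaf 185675 4
 Tr.leaf))))) 185685 5
 (Tr.node (Tr.node (Tr.node (Tr.node (Tr.node (Tr.node Tr.leaf 185687 6
 Tr.leaf) 185693 5
 Tr.leaf) 185695 6
 (Tr.node (Tr.node Tr.leaf 185697 6
 Tr.leaf) 185699 6
 Tr.leaf)) 185705 5
 (Tr.node (Tr.node (Tr.node Tr.leaf 185707 6
 Tr.leaf) 185717 5
 Tr.leaf) 185719 5
 (Tr.node Tr.leaf 185725 6
 Tr.leaf))) 185727 6
 (Tr.node (Tr.node (Tr.node (Tr.node Tr.leaf 185733 6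
 Tr.leaf) 185735 5
 Tr.leaf) 185741 6
 (Tr.node Tr.leaf 185743 6
 Tr.leaf)) 185745 5
 (Tr.node (Tr.node (Tr.node Tr.leaf 185747 5
 Tr.leaf) 185753 6
 Tr.leaf) 185755 6
 (Tr.node Tr.leaf 185765 6
 Tr.leaf)))) 185767 5
 (Tr.node (Tr.node (Tr.node (Tr.node (Tr.node Tr.leaf 185773 6
 Tr.leaf) 185775 6
 Tr.leaf) 185777 6
 (Tr.node (Tr.node Tr.leaf 185779 6
 Tr.leaf) 185785 6
 Tr.leaf)) 185787 6
 (Tr.node (Tr.node (Tr.node Tr.leaf 185797 6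
 Tr.leaf) 185799 5
 Tr.leaf) 185805 5
 (Tr.node Tr.leaf 185807 6
 Tr.leaf))) 185809 5
 (Tr.node (Tr.node (Tr.node (Tr.node Tr.leaf 185811 5
 Tr.leaf) 185817 5
 Tr.leaf) 185819 5
 (Tr.node Tr.leaf 185829 5
 Tr.leaf)) 185831 6
 (Tr.node (Tr.node (Tr.node Tr.leaf 185837 5
 Tr.leaf) 185839 6
 Tr.leaf) 185841 6
 (Tr.node Tr.leaf 185843 6
 Tr.leaf)))))) 185849 6
 (Tr.node (Tr.node (Tr.node (Tr.node (Tr.node (Tr.node (Tr.node Tr.leaf 185851 6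
 Tr.leaf) 186369 5
 Tr.leaf) 186370 6
 (Tr.node (Tr.node Tr.leaf 186373 6
 Tr.leaf) 186374 5
 Tr.leaf)) 186377 5
 (Tr.node (Tr.node (Tr.node Tr.leaf 186378 4
 Tr.leaf) 186381 6
 Tr.leaf) 186382 4
 (Tr.node Tr.leaf 186387 6
 Tr.leaf))) 186391 6
 (Tr.node (Tr.node (Tr.node (Tr.node Tr.leaf 186395 6
 Tr.leaf) 186399 5
 Tr.leaf) 186401 6
 (Tr.node (Tr.node Tr.leaf 186402 6
 Tr.leaf) 186405 6
 Tr.leaf)) 186406 6
 (Tr.node (Tr.node (Tr.node Tr.leaf 186409 6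
 Tr.leaf) 186410 6
 Tr.leaf) 186413 6
 (Tr.node Tr.leaf 186414 6
 Tr.leaf)))) 186419 6
 (Tr.node (Tr.node (Tr.node (Tr.node (Tr.node Tr.leaf 186423 6
 Tr.leaf) 186427 5
 Tr.leaf) 186431 5
 (Tr.node (Tr.node Tr.leaf 186433 7
 Tr.leaf) 186434 5
 Tr.leaf)) 186437 6
 (Tr.node (Tr.node (Tr.node Tr.leaf 186438 5
 Tr.leaf) 186441 6
 Tr.leaf) 186442 5
 (Tr.node Tr.leaf 186445 5
 Tr.leaf))) 186446 6
 (Tr.node (Tr.node (Tr.node (Tr.node Tr.leaf 186451 5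
 Tr.leaf) 186455 6
 Tr.leaf) 186459 6
 (Tr.node Tr.leaf 186463 5
 Tr.leaf)) 186465 6
 (Tr.node (Tr.node (Tr.node Tr.leaf 186466 4
 Tr.leaf) 186469 6
 Tr.leaf) 186470 4
 (Tr.node Tr.leaf 186473 6
 Tr.leaf))))) 186474 6
 (Tr.node (Tr.node (Tr.node (Tr.node (Tr.node (Tr.node Tr.leaf 186477 6
 Tr.leaf) 186478 6
 Tr.leaf) 186483 5
 (Tr.node (Tr.node Tr.leaf 186487 6
 Tr.leaf) 186491 6
 Tr.leaf)) 186495 5
 (Tr.node (Tr.node (Tr.node Tr.leaf 186499 6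
 Tr.leaf) 186503 5
 Tr.leaf) 186507 6
 (Tr.node Tr.leaf 186511 6
 Tr.leaf))) 186513 7
 (Tr.node (Tr.node (Tr.node (Tr.node Tr.leaf 186514 6
 Tr.leaf) 186517 6
 Tr.leaf) 186518 5
 (Tr.node Tr.leaf 186521 6
 Tr.leaf)) 186522 6
 (Tr.node (Tr.node (Tr.node Tr.leaf 186525 6
 Tr.leaf) 186526 5
 Tr.leaf) 186531 5
 (Tr.node Tr.leaf 186535 6
 Tr.leaf)))) 186539 5
 (Tr.node (Tr.node (Tr.node (Tr.node (Tr.node Tr.leaf 186543 5
 Tr.leaf) 186545 5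
 Tr.leaf) 186546 5
 (Tr.node (Tr.node Tr.leaf 186549 6
 Tr.leaf) 186550 5
 Tr.leaf)) 186553 6
 (Tr.node (Tr.node (Tr.node Tr.leaf 186554 5
 Tr.leaf) 186557 7
 Tr.leaf) 186558 5
 (Tr.node Tr.leaf 186563 6
 Tr.leaf))) 186567 5
 (Tr.node (Tr.node (Tr.node (Tr.node Tr.leaf 186571 6
 Tr.leaf) 186575 7
 Tr.leaf) 186577 6
 (Tr.node Tr.leaf 186578 6
 Tr.leaf)) 186581 6
 (Tr.node (Tr.node (Tr.node Tr.leaf 186582 6
 Tr.leaf) 186585 5
 Tr.leaf) 186586 7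
 (Tr.node Tr.leaf 186589 6
 Tr.leaf))))))) 186590 6
 (Tr.node (Tr.node (Tr.node (Tr.node (Tr.node (Tr.node (Tr.node (Tr.node Tr.leaf 186595 6
 Tr.leaf) 186599 6
 Tr.leaf) 186603 6
 (Tr.node (Tr.node Tr.leaf 186607 6
 Tr.leaf) 186609 6
 Tr.leaf)) 186610 5
 (Tr.node (Tr.node (Tr.node Tr.leaf 186613 6
 Tr.leaf) 186614 5
 Tr.leaf) 186617 6
 (Tr.node Tr.leaf 186618 5
 Tr.leaf))) 186621 5
 (Tr.node (Tr.node (Tr.node (Tr.node Tr.leaf 186622 5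
 Tr.leaf) 186625 5
 Tr.leaf) 186626 4
 (Tr.node (Tr.node Tr.leaf 186629 6
 Tr.leaf) 186630 5
 Tr.leaf)) 186633 6
 (Tr.node (Tr.node (Tr.node Tr.leaf 186634 5
 Tr.leaf) 186637 6
 Tr.leaf) 186638 5
 (Tr.node Tr.leaf 186643 7
 Tr.leaf)))) 186647 6
 (Tr.node (Tr.node (Tr.node (Tr.node (Tr.node Tr.leaf 186651 5
 Tr.leaf) 186655 6
 Tr.leaf) 186657 5
 (Tr.node (Tr.node Tr.leaf 186658 6
 Tr.leaf) 186661 6
 Tr.leaf)) 186662 5
 (Tr.node (Tr.node (Tr.node Tr.leaf 186665 6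
 Tr.leaf) 186666 5
 Tr.leaf) 186669 5
 (Tr.node Tr.leaf 186670 4
 Tr.leaf))) 186675 7
 (Tr.node (Tr.node (Tr.node (Tr.node Tr.leaf 186679 6
 Tr.leaf) 186683 6
 Tr.leaf) 186687 6
 (Tr.node Tr.leaf 186689 6
 Tr.leaf)) 186690 6
 (Tr.node (Tr.node (Tr.node Tr.leaf 186693 6
 Tr.leaf) 186694 7
 Tr.leaf) 186697 6
 (Tr.node Tr.leaf 186698 5
 Tr.leaf))))) 186701 5
 (Tr.node (Tr.node (Tr.node (Tr.node (Tr.node (Tr.node Tr.leaf 186702 4
 Tr.leaf) 186707 6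
 Tr.leaf) 186711 6
 (Tr.node (Tr.node Tr.leaf 186715 6
 Tr.leaf) 186719 6
 Tr.leaf)) 186721 6
 (Tr.node (Tr.node (Tr.node Tr.leaf 186722 5
 Tr.leaf) 186725 7
 Tr.leaf) 186726 5
 (Tr.node Tr.leaf 186729 6
 Tr.leaf))) 186730 5
 (Tr.node (Tr.node (Tr.node (Tr.node Tr.leaf 186733 5
 Tr.leaf) 186734 6
 Tr.leaf) 186739 6
 (Tr.node Tr.leaf 186743 6
 Tr.leaf)) 186747 5
 (Tr.node (Tr.node (Tr.node Tr.leaf 186751 6
 Tr.leaf) 186755 5
 Tr.leaf) 186759 6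
 (Tr.node Tr.leaf 186763 5
 Tr.leaf)))) 186767 6
 (Tr.node (Tr.node (Tr.node (Tr.node (Tr.node Tr.leaf 186769 5
 Tr.leaf) 186770 5
 Tr.leaf) 186773 6
 (Tr.node (Tr.node Tr.leaf 186774 5
 Tr.leaf) 186777 6
 Tr.leaf)) 186778 5
 (Tr.node (Tr.node (Tr.node Tr.leaf 186781 6
 Tr.leaf) 186782 5
 Tr.leaf) 186787 5
 (Tr.node Tr.leaf 186791 6
 Tr.leaf))) 186795 5
 (Tr.node (Tr.node (Tr.node (Tr.node Tr.leaf 186799 6
 Tr.leaf) 186801 6
 Tr.leaf) 186802 6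
 (Tr.node Tr.leaf 186805 5
 Tr.leaf)) 186806 7
 (Tr.node (Tr.node (Tr.node Tr.leaf 186809 6
 Tr.leaf) 186810 5
 Tr.leaf) 186813 6
 (Tr.node Tr.leaf 186814 6
 Tr.leaf)))))) 186819 6
 (Tr.node (Tr.node (Tr.node (Tr.node (Tr.node (Tr.node (Tr.node Tr.leaf 186823 6
 Tr.leaf) 186827 6
 Tr.leaf) 186831 6
 (Tr.node (Tr.node Tr.leaf 186833 6
 Tr.leaf) 186834 5
 Tr.leaf)) 186837 5
 (Tr.node (Tr.node (Tr.node Tr.leaf 186838 5
 Tr.leaf) 186841 6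
 Tr.leaf) 186842 5
 (Tr.node Tr.leaf 186845 5
 Tr.leaf))) 186846 5
 (Tr.node (Tr.node (Tr.node (Tr.node Tr.leaf 186851 6
 Tr.leaf) 186855 5
 Tr.leaf) 186859 6
 (Tr.node (Tr.node Tr.leaf 186863 6
 Tr.leaf) 186865 6
 Tr.leaf)) 186866 6
 (Tr.node (Tr.node (Tr.node Tr.leaf 186869 6
 Tr.leaf) 186870 6
 Tr.leaf) 186873 6
 (Tr.node Tr.leaf 186874 5
 Tr.leaf)))) 186877 6
 (Tr.node (Tr.node (Tr.node (Tr.node (Tr.node Tr.leaf 186878 6
 Tr.leaf) 187409 6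
 Tr.leaf) 187411 6
 (Tr.node (Tr.node Tr.leaf 187413 5
 Tr.leaf) 187415 6
 Tr.leaf)) 187417 6
 (Tr.node (Tr.node (Tr.node Tr.leaf 187419 6
 Tr.leaf) 187421 6
 Tr.leaf) 187423 5
 (Tr.node Tr.leaf 187441 6
 Tr.leaf))) 187443 6
 (Tr.node (Tr.node (Tr.node (Tr.node Tr.leaf 187445 6
 Tr.leaf) 187447 6
 Tr.leaf) 187449 6
 (Tr.node Tr.leaf 187451 6
 Tr.leaf)) 187453 6
 (Tr.node (Tr.node (Tr.node Tr.leaf 187455 6
 Tr.leaf) 187473 6
 Tr.leaf) 187475 6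
 (Tr.node Tr.leaf 187477 6
 Tr.leaf))))) 187479 6
 (Tr.node (Tr.node (Tr.node (Tr.node (Tr.node (Tr.node Tr.leaf 187481 6
 Tr.leaf) 187483 6
 Tr.leaf) 187485 6
 (Tr.node (Tr.node Tr.leaf 187487 6
 Tr.leaf) 187505 6
 Tr.leaf)) 187507 6
 (Tr.node (Tr.node (Tr.node Tr.leaf 187509 6
 Tr.leaf) 187511 6
 Tr.leaf) 187513 6
 (Tr.node Tr.leaf 187515 7
 Tr.leaf))) 187517 6
 (Tr.node (Tr.node (Tr.node (Tr.node Tr.leaf 187519 6
 Tr.leaf) 187521 6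
 Tr.leaf) 187523 6
 (Tr.node Tr.leaf 187525 6
 Tr.leaf)) 187527 5
 (Tr.node (Tr.node (Tr.node Tr.leaf 187529 6
 Tr.leaf) 187531 6
 Tr.leaf) 187533 6
 (Tr.node Tr.leaf 187535 6
 Tr.leaf)))) 187553 6
 (Tr.node (Tr.node (Tr.node (Tr.node (Tr.node Tr.leaf 187555 6
 Tr.leaf) 187557 7
 Tr.leaf) 187559 6
 (Tr.node (Tr.node Tr.leaf 187561 5
 Tr.leaf) 187563 6
 Tr.leaf)) 187565 6
 (Tr.node (Tr.node (Tr.node Tr.leaf 187567 6
 Tr.leaf) 187585 6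
 Tr.leaf) 187587 6
 (Tr.node Tr.leaf 187589 6
 Tr.leaf))) 187591 5
 (Tr.node (Tr.node (Tr.node (Tr.node Tr.leaf 187593 6
 Tr.leaf) 187595 6
 Tr.leaf) 187597 6
 (Tr.node Tr.leaf 187599 6
 Tr.leaf)) 187617 6
 (Tr.node (Tr.node (Tr.node Tr.leaf 187619 6
 Tr.leaf) 187621 6
 Tr.leaf) 187623 6
 (Tr.node Tr.leaf 187625 6
 Tr.leaf)))))))))

/-- A subtree. -/
def tr2_s46 : Tr := (Tr.node (Tr.node (Tr.node (Tr.node (Tr.node (Tr.node (Tr.node (Tr.node (Tr.node (Tr.node Tr.leaf 187629 6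
 Tr.leaf) 187631 6
 Tr.leaf) 187665 6
 (Tr.node (Tr.node Tr.leaf 187667 6
 Tr.leaf) 187669 6
 Tr.leaf)) 187671 6
 (Tr.node (Tr.node (Tr.node Tr.leaf 187673 6
 Tr.leaf) 187675 6
 Tr.leaf) 187677 6
 (Tr.node Tr.leaf 187679 6
 Tr.leaf))) 187697 6
 (Tr.node (Tr.node (Tr.node (Tr.node Tr.leaf 187699 6
 Tr.leaf) 187701 6
 Tr.leaf) 187703 6
 (Tr.node (Tr.node Tr.leaf 187705 6
 Tr.leaf) 187707 6
 Tr.leaf)) 187709 6
 (Tr.node (Tr.node (Tr.node Tr.leaf 187711 6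
 Tr.leaf) 187729 6
 Tr.leaf) 187731 6
 (Tr.node Tr.leaf 187733 6
 Tr.leaf)))) 187735 6
 (Tr.node (Tr.node (Tr.node (Tr.node (Tr.node Tr.leaf 187737 6
 Tr.leaf) 187739 6
 Tr.leaf) 187741 6
 (Tr.node (Tr.node Tr.leaf 187743 5
 Tr.leaf) 187761 6
 Tr.leaf)) 187763 6
 (Tr.node (Tr.node (Tr.node Tr.leaf 187765 6
 Tr.leaf) 187767 6
 Tr.leaf) 187769 5
 (Tr.node Tr.leaf 187771 6
 Tr.leaf))) 187773 6
 (Tr.node (Tr.node (Tr.node (Tr.node Tr.leaf 187775 6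
 Tr.leaf) 187777 5
 Tr.leaf) 187779 6
 (Tr.node Tr.leaf 187781 6
 Tr.leaf)) 187783 6
 (Tr.node (Tr.node (Tr.node Tr.leaf 187785 5
 Tr.leaf) 187787 6
 Tr.leaf) 187789 7
 (Tr.node Tr.leaf 187791 6
 Tr.leaf))))) 187809 6
 (Tr.node (Tr.node (Tr.node (Tr.node (Tr.node (Tr.node Tr.leaf 187811 6
 Tr.leaf) 187813 6
 Tr.leaf) 187815 6
 (Tr.node (Tr.node Tr.leaf 187817 6
 Tr.leaf) 187819 6
 Tr.leaf)) 187821 6
 (Tr.node (Tr.node (Tr.node Tr.leaf 187823 6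
 Tr.leaf) 187841 6
 Tr.leaf) 187843 6
 (Tr.node Tr.leaf 187845 6
 Tr.leaf))) 187847 6
 (Tr.node (Tr.node (Tr.node (Tr.node Tr.leaf 187849 6
 Tr.leaf) 187851 6
 Tr.leaf) 187853 6
 (Tr.node (Tr.node Tr.leaf 187855 6
 Tr.leaf) 187873 6
 Tr.leaf)) 187875 6
 (Tr.node (Tr.node (Tr.node Tr.leaf 187877 6
 Tr.leaf) 187879 6
 Tr.leaf) 187881 6
 (Tr.node Tr.leaf 187883 5
 Tr.leaf)))) 187885 5
 (Tr.node (Tr.node (Tr.node (Tr.node (Tr.node Tr.leaf 187887 6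
 Tr.leaf) 188419 7
 Tr.leaf) 188421 6
 (Tr.node (Tr.node Tr.leaf 188422 6
 Tr.leaf) 188425 6
 Tr.leaf)) 188426 6
 (Tr.node (Tr.node (Tr.node Tr.leaf 188428 5
 Tr.leaf) 188431 6
 Tr.leaf) 188435 6
 (Tr.node Tr.leaf 188437 6
 Tr.leaf))) 188438 6
 (Tr.node (Tr.node (Tr.node (Tr.node Tr.leaf 188441 6
 Tr.leaf) 188442 6
 Tr.leaf) 188444 6
 (Tr.node Tr.leaf 188447 6
 Tr.leaf)) 188451 6
 (Tr.node (Tr.node (Tr.node Tr.leaf 188453 6
 Tr.leaf) 188454 6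
 Tr.leaf) 188457 6
 (Tr.node Tr.leaf 188458 6
 Tr.leaf)))))) 188460 4
 (Tr.node (Tr.node (Tr.node (Tr.node (Tr.node (Tr.node (Tr.node Tr.leaf 188463 6
 Tr.leaf) 188467 5
 Tr.leaf) 188469 6
 (Tr.node (Tr.node Tr.leaf 188470 4
 Tr.leaf) 188473 6
 Tr.leaf)) 188474 6
 (Tr.node (Tr.node (Tr.node Tr.leaf 188476 6
 Tr.leaf) 188479 6
 Tr.leaf) 188483 5
 (Tr.node Tr.leaf 188485 5
 Tr.leaf))) 188486 4
 (Tr.node (Tr.node (Tr.node (Tr.node Tr.leaf 188489 6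
 Tr.leaf) 188490 6
 Tr.leaf) 188492 4
 (Tr.node (Tr.node Tr.leaf 188495 6
 Tr.leaf) 188499 6
 Tr.leaf)) 188501 6
 (Tr.node (Tr.node (Tr.node Tr.leaf 188502 5
 Tr.leaf) 188505 4
 Tr.leaf) 188506 6
 (Tr.node Tr.leaf 188508 6
 Tr.leaf)))) 188511 6
 (Tr.node (Tr.node (Tr.node (Tr.node (Tr.node Tr.leaf 188515 6
 Tr.leaf) 188517 6
 Tr.leaf) 188518 6
 (Tr.node (Tr.node Tr.leaf 188521 4
 Tr.leaf) 188522 4
 Tr.leaf)) 188524 3
 (Tr.node (Tr.node (Tr.node Tr.leaf 188527 6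
 Tr.leaf) 188531 6
 Tr.leaf) 188533 6
 (Tr.node Tr.leaf 188534 5
 Tr.leaf))) 188537 5
 (Tr.node (Tr.node (Tr.node (Tr.node Tr.leaf 188538 5
 Tr.leaf) 188540 6
 Tr.leaf) 188543 6
 (Tr.node Tr.leaf 188545 6
 Tr.leaf)) 188546 6
 (Tr.node (Tr.node (Tr.node Tr.leaf 188548 6
 Tr.leaf) 188551 7
 Tr.leaf) 188552 6
 (Tr.node Tr.leaf 188555 6
 Tr.leaf))))) 188557 6
 (Tr.node (Tr.node (Tr.node (Tr.node (Tr.node (Tr.node Tr.leaf 188558 5
 Tr.leaf) 188561 4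
 Tr.leaf) 188562 6
 (Tr.node (Tr.node Tr.leaf 188564 6
 Tr.leaf) 188567 6
 Tr.leaf)) 188568 6
 (Tr.node (Tr.node (Tr.node Tr.leaf 188571 6
 Tr.leaf) 188573 6
 Tr.leaf) 188574 5
 (Tr.node Tr.leaf 188577 6
 Tr.leaf))) 188578 6
 (Tr.node (Tr.node (Tr.node (Tr.node Tr.leaf 188580 6
 Tr.leaf) 188583 6
 Tr.leaf) 188584 6
 (Tr.node Tr.leaf 188587 5
 Tr.leaf)) 188589 6
 (Tr.node (Tr.node (Tr.node Tr.leaf 188590 6
 Tr.leaf) 188593 6
 Tr.leaf) 188594 7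
 (Tr.node Tr.leaf 188596 5
 Tr.leaf)))) 188599 6
 (Tr.node (Tr.node (Tr.node (Tr.node (Tr.node Tr.leaf 188600 6
 Tr.leaf) 188603 6
 Tr.leaf) 188605 6
 (Tr.node (Tr.node Tr.leaf 188606 5
 Tr.leaf) 188609 6
 Tr.leaf)) 188610 4
 (Tr.node (Tr.node (Tr.node Tr.leaf 188612 4
 Tr.leaf) 188615 6
 Tr.leaf) 188616 6
 (Tr.node Tr.leaf 188619 6
 Tr.leaf))) 188621 6
 (Tr.node (Tr.node (Tr.node (Tr.node Tr.leaf 188622 6
 Tr.leaf) 188625 4
 Tr.leaf) 188626 5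
 (Tr.node Tr.leaf 188628 4
 Tr.leaf)) 188631 6
 (Tr.node (Tr.node (Tr.node Tr.leaf 188632 6
 Tr.leaf) 188635 6
 Tr.leaf) 188637 6
 (Tr.node Tr.leaf 188638 6
 Tr.leaf))))))) 188641 6
 (Tr.node (Tr.node (Tr.node (Tr.node (Tr.node (Tr.node (Tr.node (Tr.node Tr.leaf 188642 5
 Tr.leaf) 188644 6
 Tr.leaf) 188647 5
 (Tr.node (Tr.node Tr.leaf 188648 6
 Tr.leaf) 188651 5
 Tr.leaf)) 188653 6
 (Tr.node (Tr.node (Tr.node Tr.leaf 188654 6
 Tr.leaf) 188657 6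
 Tr.leaf) 188658 5
 (Tr.node Tr.leaf 188660 6
 Tr.leaf))) 188663 6
 (Tr.node (Tr.node (Tr.node (Tr.node Tr.leaf 188664 6
 Tr.leaf) 188667 5
 Tr.leaf) 188669 5
 (Tr.node (Tr.node Tr.leaf 188670 5
 Tr.leaf) 188675 6
 Tr.leaf)) 188677 4
 (Tr.node (Tr.node (Tr.node Tr.leaf 188678 3
 Tr.leaf) 188681 4
 Tr.leaf) 188682 4
 (Tr.node Tr.leaf 188684 6
 Tr.leaf)))) 188687 6
 (Tr.node (Tr.node (Tr.node (Tr.node (Tr.node Tr.leaf 188691 6
 Tr.leaf) 188693 5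
 Tr.leaf) 188694 6
 (Tr.node (Tr.node Tr.leaf 188697 5
 Tr.leaf) 188698 6
 Tr.leaf)) 188700 3
 (Tr.node (Tr.node (Tr.node Tr.leaf 188703 6
 Tr.leaf) 188707 6
 Tr.leaf) 188709 4
 (Tr.node Tr.leaf 188710 6
 Tr.leaf))) 188713 6
 (Tr.node (Tr.node (Tr.node (Tr.node Tr.leaf 188714 6
 Tr.leaf) 188716 6
 Tr.leaf) 188719 6
 (Tr.node Tr.leaf 188723 6
 Tr.leaf)) 188725 5
 (Tr.node (Tr.node (Tr.node Tr.leaf 188726 5
 Tr.leaf) 188729 6
 Tr.leaf) 188730 6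
 (Tr.node Tr.leaf 188732 6
 Tr.leaf))))) 188735 6
 (Tr.node (Tr.node (Tr.node (Tr.node (Tr.node (Tr.node Tr.leaf 188739 5
 Tr.leaf) 188741 6
 Tr.leaf) 188742 4
 (Tr.node (Tr.node Tr.leaf 188745 7
 Tr.leaf) 188746 6
 Tr.leaf)) 188748 6
 (Tr.node (Tr.node (Tr.node Tr.leaf 188751 6
 Tr.leaf) 188755 6
 Tr.leaf) 188757 6
 (Tr.node Tr.leaf 188758 6
 Tr.leaf))) 188761 6
 (Tr.node (Tr.node (Tr.node (Tr.node Tr.leaf 188762 6
 Tr.leaf) 188764 4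
 Tr.leaf) 188767 6
 (Tr.node Tr.leaf 188771 6
 Tr.leaf)) 188773 6
 (Tr.node (Tr.node (Tr.node Tr.leaf 188774 6
 Tr.leaf) 188777 4
 Tr.leaf) 188778 6
 (Tr.node Tr.leaf 188780 5
 Tr.leaf)))) 188783 6
 (Tr.node (Tr.node (Tr.node (Tr.node (Tr.node Tr.leaf 188787 6
 Tr.leaf) 188789 5
 Tr.leaf) 188790 4
 (Tr.node (Tr.node Tr.leaf 188793 6
 Tr.leaf) 188794 6
 Tr.leaf)) 188796 4
 (Tr.node (Tr.node (Tr.node Tr.leaf 188799 5
 Tr.leaf) 188801 4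
 Tr.leaf) 188802 4
 (Tr.node Tr.leaf 188804 6
 Tr.leaf))) 188807 6
 (Tr.node (Tr.node (Tr.node (Tr.node Tr.leaf 188808 6
 Tr.leaf) 188811 6
 Tr.leaf) 188813 6
 (Tr.node Tr.leaf 188814 5
 Tr.leaf)) 188817 6
 (Tr.node (Tr.node (Tr.node Tr.leaf 188818 6
 Tr.leaf) 188820 6
 Tr.leaf) 188823 5
 (Tr.node Tr.leaf 188824 6
 Tr.leaf)))))) 188827 6
 (Tr.node (Tr.node (Tr.node (Tr.node (Tr.node (Tr.node (Tr.node Tr.leaf 188829 6
 Tr.leaf) 188830 6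
 Tr.leaf) 188833 6
 (Tr.node (Tr.node Tr.leaf 188834 4
 Tr.leaf) 188836 6
 Tr.leaf)) 188839 5
 (Tr.node (Tr.node (Tr.node Tr.leaf 188840 6
 Tr.leaf) 188843 5
 Tr.leaf) 188845 6
 (Tr.node Tr.leaf 188846 6
 Tr.leaf))) 188849 6
 (Tr.node (Tr.node (Tr.node (Tr.node Tr.leaf 188850 6
 Tr.leaf) 188852 6
 Tr.leaf) 188855 6
 (Tr.node (Tr.node Tr.leaf 188856 6
 Tr.leaf) 188859 6
 Tr.leaf)) 188861 6
 (Tr.node (Tr.node (Tr.node Tr.leaf 188862 5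
 Tr.leaf) 188865 6
 Tr.leaf) 188866 6
 (Tr.node Tr.leaf 188868 4
 Tr.leaf)))) 188871 6
 (Tr.node (Tr.node (Tr.node (Tr.node (Tr.node Tr.leaf 188872 6
 Tr.leaf) 188875 6
 Tr.leaf) 188877 6
 (Tr.node (Tr.node Tr.leaf 188878 5
 Tr.leaf) 188881 6
 Tr.leaf)) 188882 5
 (Tr.node (Tr.node (Tr.node Tr.leaf 188884 5
 Tr.leaf) 188887 7
 Tr.leaf) 188888 6
 (Tr.node Tr.leaf 188891 6
 Tr.leaf))) 188893 5
 (Tr.node (Tr.node (Tr.node (Tr.node Tr.leaf 188894 5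
 Tr.leaf) 188897 6
 Tr.leaf) 188898 6
 (Tr.node Tr.leaf 188900 6
 Tr.leaf)) 188903 6
 (Tr.node (Tr.node (Tr.node Tr.leaf 188904 6
 Tr.leaf) 188907 6
 Tr.leaf) 188909 5
 (Tr.node Tr.leaf 188910 6
 Tr.leaf))))) 188913 4
 (Tr.node (Tr.node (Tr.node (Tr.node (Tr.node (Tr.node Tr.leaf 188914 4
 Tr.leaf) 188916 6
 Tr.leaf) 188919 6
 (Tr.node (Tr.node Tr.leaf 188920 6
 Tr.leaf) 188923 6
 Tr.leaf)) 188925 6
 (Tr.node (Tr.node (Tr.node Tr.leaf 188926 6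
 Tr.leaf) 189441 5
 Tr.leaf) 189443 5
 (Tr.node Tr.leaf 189453 6
 Tr.leaf))) 189455 5
 (Tr.node (Tr.node (Tr.node (Tr.node Tr.leaf 189457 5
 Tr.leaf) 189459 6
 Tr.leaf) 189469 6
 (Tr.node Tr.leaf 189471 6
 Tr.leaf)) 189473 6
 (Tr.node (Tr.node (Tr.node Tr.leaf 189475 6
 Tr.leaf) 189485 6
 Tr.leaf) 189487 6
 (Tr.node Tr.leaf 189489 6
 Tr.leaf)))) 189491 6
 (Tr.node (Tr.node (Tr.node (Tr.node (Tr.node Tr.leaf 189501 6
 Tr.leaf) 189503 6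
 Tr.leaf) 189505 6
 (Tr.node (Tr.node Tr.leaf 189507 5
 Tr.leaf) 189517 5
 Tr.leaf)) 189519 6
 (Tr.node (Tr.node (Tr.node Tr.leaf 189521 6
 Tr.leaf) 189523 6
 Tr.leaf) 189533 7
 (Tr.node Tr.leaf 189535 6
 Tr.leaf))) 189537 6
 (Tr.node (Tr.node (Tr.node (Tr.node Tr.leaf 189539 6
 Tr.leaf) 189549 6
 Tr.leaf) 189551 5
 (Tr.node Tr.leaf 189553 6
 Tr.leaf)) 189555 5
 (Tr.node (Tr.node (Tr.node Tr.leaf 189565 6
 Tr.leaf) 189567 6
 Tr.leaf) 189573 6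
 (Tr.node Tr.leaf 189575 6
 Tr.leaf)))))))) 189577 6
 (Tr.node (Tr.node (Tr.node (Tr.node (Tr.node (Tr.node (Tr.node (Tr.node (Tr.node Tr.leaf 189579 6
 Tr.leaf) 189589 6
 Tr.leaf) 189591 6
 (Tr.node (Tr.node Tr.leaf 189593 6
 Tr.leaf) 189595 6
 Tr.leaf)) 189605 6
 (Tr.node (Tr.node (Tr.node Tr.leaf 189607 6
 Tr.leaf) 189609 5
 Tr.leaf) 189611 6
 (Tr.node Tr.leaf 189621 5
 Tr.leaf))) 189623 5
 (Tr.node (Tr.node (Tr.node (Tr.node Tr.leaf 189625 6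
 Tr.leaf) 189627 5
 Tr.leaf) 189637 6
 (Tr.node (Tr.node Tr.leaf 189639 7
 Tr.leaf) 189641 5
 Tr.leaf)) 189643 5
 (Tr.node (Tr.node (Tr.node Tr.leaf 189653 5
 Tr.leaf) 189655 6
 Tr.leaf) 189657 5
 (Tr.node Tr.leaf 189659 5
 Tr.leaf)))) 189669 6
 (Tr.node (Tr.node (Tr.node (Tr.node (Tr.node Tr.leaf 189671 6
 Tr.leaf) 189673 6
 Tr.leaf) 189675 6
 (Tr.node (Tr.node Tr.leaf 189685 5
 Tr.leaf) 189687 6
 Tr.leaf)) 189689 5
 (Tr.node (Tr.node (Tr.node Tr.leaf 189691 6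
 Tr.leaf) 189697 7
 Tr.leaf) 189699 6
 (Tr.node Tr.leaf 189709 6
 Tr.leaf))) 189711 5
 (Tr.node (Tr.node (Tr.node (Tr.node Tr.leaf 189713 6
 Tr.leaf) 189715 6
 Tr.leaf) 189725 5
 (Tr.node Tr.leaf 189727 6
 Tr.leaf)) 189729 6
 (Tr.node (Tr.node (Tr.node Tr.leaf 189731 6
 Tr.leaf) 189741 6
 Tr.leaf) 189743 6
 (Tr.node Tr.leaf 189745 5
 Tr.leaf))))) 189747 5
 (Tr.node (Tr.node (Tr.node (Tr.node (Tr.node (Tr.node Tr.leaf 189757 6
 Tr.leaf) 189759 5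
 Tr.leaf) 189761 6
 (Tr.node (Tr.node Tr.leaf 189763 6
 Tr.leaf) 189773 6
 Tr.leaf)) 189775 6
 (Tr.node (Tr.node (Tr.node Tr.leaf 189777 6
 Tr.leaf) 189779 6
 Tr.leaf) 189789 6
 (Tr.node Tr.leaf 189791 6
 Tr.leaf))) 189793 6
 (Tr.node (Tr.node (Tr.node (Tr.node Tr.leaf 189795 7
 Tr.leaf) 189805 6
 Tr.leaf) 189807 6
 (Tr.node Tr.leaf 189809 6
 Tr.leaf)) 189811 5
 (Tr.node (Tr.node (Tr.node Tr.leaf 189821 5
 Tr.leaf) 189823 7
 Tr.leaf) 189829 5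
 (Tr.node Tr.leaf 189831 6
 Tr.leaf)))) 189833 6
 (Tr.node (Tr.node (Tr.node (Tr.node (Tr.node Tr.leaf 189835 6
 Tr.leaf) 189845 6
 Tr.leaf) 189847 6
 (Tr.node (Tr.node Tr.leaf 189849 6
 Tr.leaf) 189851 6
 Tr.leaf)) 189861 6
 (Tr.node (Tr.node (Tr.node Tr.leaf 189863 6
 Tr.leaf) 189865 6
 Tr.leaf) 189867 6
 (Tr.node Tr.leaf 189877 5
 Tr.leaf))) 189879 5
 (Tr.node (Tr.node (Tr.node (Tr.node Tr.leaf 189881 7
 Tr.leaf) 189883 7
 Tr.leaf) 189893 6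
 (Tr.node Tr.leaf 189895 5
 Tr.leaf)) 189897 6
 (Tr.node (Tr.node (Tr.node Tr.leaf 189899 6
 Tr.leaf) 189909 6
 Tr.leaf) 189911 5
 (Tr.node Tr.leaf 189913 6
 Tr.leaf)))))) 189915 6
 (Tr.node (Tr.node (Tr.node (Tr.node (Tr.node (Tr.node (Tr.node Tr.leaf 189925 6
 Tr.leaf) 189927 6
 Tr.leaf) 189929 5
 (Tr.node (Tr.node Tr.leaf 189931 5
 Tr.leaf) 189941 5
 Tr.leaf)) 189943 6
 (Tr.node (Tr.node (Tr.node Tr.leaf 189945 6
 Tr.leaf) 189947 6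
 Tr.leaf) 190465 6
 (Tr.node Tr.leaf 190466 6
 Tr.leaf))) 190469 4
 (Tr.node (Tr.node (Tr.node (Tr.node Tr.leaf 190470 5
 Tr.leaf) 190475 6
 Tr.leaf) 190479 6
 (Tr.node (Tr.node Tr.leaf 190481 7
 Tr.leaf) 190482 6
 Tr.leaf)) 190485 4
 (Tr.node (Tr.node (Tr.node Tr.leaf 190486 3
 Tr.leaf) 190491 6
 Tr.leaf) 190495 6
 (Tr.node Tr.leaf 190497 6
 Tr.leaf)))) 190498 5
 (Tr.node (Tr.node (Tr.node (Tr.node (Tr.node Tr.leaf 190501 4
 Tr.leaf) 190502 5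
 Tr.leaf) 190507 6
 (Tr.node (Tr.node Tr.leaf 190511 6
 Tr.leaf) 190513 5
 Tr.leaf)) 190514 6
 (Tr.node (Tr.node (Tr.node Tr.leaf 190517 6
 Tr.leaf) 190518 6
 Tr.leaf) 190523 6
 (Tr.node Tr.leaf 190527 5
 Tr.leaf))) 190529 6
 (Tr.node (Tr.node (Tr.node (Tr.node Tr.leaf 190530 5
 Tr.leaf) 190533 6
 Tr.leaf) 190534 6
 (Tr.node Tr.leaf 190539 6
 Tr.leaf)) 190543 6
 (Tr.node (Tr.node (Tr.node Tr.leaf 190545 4
 Tr.leaf) 190546 6
 Tr.leaf) 190549 6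
 (Tr.node Tr.leaf 190550 5
 Tr.leaf))))) 190555 6
 (Tr.node (Tr.node (Tr.node (Tr.node (Tr.node (Tr.node Tr.leaf 190559 6
 Tr.leaf) 190561 4
 Tr.leaf) 190562 5
 (Tr.node (Tr.node Tr.leaf 190565 6
 Tr.leaf) 190566 6
 Tr.leaf)) 190571 5
 (Tr.node (Tr.node (Tr.node Tr.leaf 190575 6
 Tr.leaf) 190577 4
 Tr.leaf) 190578 6
 (Tr.node Tr.leaf 190581 5
 Tr.leaf))) 190582 6
 (Tr.node (Tr.node (Tr.node (Tr.node Tr.leaf 190587 6
 Tr.leaf) 190591 6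
 Tr.leaf) 190595 6
 (Tr.node Tr.leaf 190599 6
 Tr.leaf)) 190601 6
 (Tr.node (Tr.node (Tr.node Tr.leaf 190602 6
 Tr.leaf) 190605 6
 Tr.leaf) 190606 5
 (Tr.node Tr.leaf 190611 5
 Tr.leaf)))) 190615 6
 (Tr.node (Tr.node (Tr.node (Tr.node (Tr.node Tr.leaf 190617 6
 Tr.leaf) 190618 6
 Tr.leaf) 190621 6
 (Tr.node (Tr.node Tr.leaf 190622 5
 Tr.leaf) 190627 6
 Tr.leaf)) 190631 5
 (Tr.node (Tr.node (Tr.node Tr.leaf 190633 6
 Tr.leaf) 190634 6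
 Tr.leaf) 190637 6
 (Tr.node Tr.leaf 190638 6
 Tr.leaf))) 190643 6
 (Tr.node (Tr.node (Tr.node (Tr.node Tr.leaf 190647 6
 Tr.leaf) 190649 5
 Tr.leaf) 190650 6
 (Tr.node Tr.leaf 190653 6
 Tr.leaf)) 190654 5
 (Tr.node (Tr.node (Tr.node Tr.leaf 190659 6
 Tr.leaf) 190663 6
 Tr.leaf) 190665 6
 (Tr.node Tr.leaf 190666 6
 Tr.leaf))))))) 190669 6
 (Tr.node (Tr.node (Tr.node (Tr.node (Tr.node (Tr.node (Tr.node (Tr.node Tr.leaf 190670 5
 Tr.leaf) 190675 5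
 Tr.leaf) 190679 5
 (Tr.node (Tr.node Tr.leaf 190681 6
 Tr.leaf) 190682 5
 Tr.leaf)) 190685 6
 (Tr.node (Tr.node (Tr.node Tr.leaf 190686 5
 Tr.leaf) 190691 6
 Tr.leaf) 190695 6
 (Tr.node Tr.leaf 190697 5
 Tr.leaf))) 190698 5
 (Tr.node (Tr.node (Tr.node (Tr.node Tr.leaf 190701 6
 Tr.leaf) 190702 6
 Tr.leaf) 190707 6
 (Tr.node (Tr.node Tr.leaf 190711 6
 Tr.leaf) 190713 6
 Tr.leaf)) 190714 5
 (Tr.node (Tr.node (Tr.node Tr.leaf 190717 5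
 Tr.leaf) 190718 5
 Tr.leaf) 190721 7
 (Tr.node Tr.leaf 190722 6
 Tr.leaf)))) 190725 6
 (Tr.node (Tr.node (Tr.node (Tr.node (Tr.node Tr.leaf 190726 5
 Tr.leaf) 190731 6
 Tr.leaf) 190735 6
 (Tr.node (Tr.node Tr.leaf 190737 6
 Tr.leaf) 190738 6
 Tr.leaf)) 190741 6
 (Tr.node (Tr.node (Tr.node Tr.leaf 190742 6
 Tr.leaf) 190747 6
 Tr.leaf) 190751 6
 (Tr.node Tr.leaf 190753 6
 Tr.leaf))) 190754 4
 (Tr.node (Tr.node (Tr.node (Tr.node Tr.leaf 190757 7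
 Tr.leaf) 190758 6
 Tr.leaf) 190763 6
 (Tr.node Tr.leaf 190767 6
 Tr.leaf)) 190769 6
 (Tr.node (Tr.node (Tr.node Tr.leaf 190770 6
 Tr.leaf) 190773 5
 Tr.leaf) 190774 5
 (Tr.node Tr.leaf 190779 6
 Tr.leaf))))) 190783 5
 (Tr.node (Tr.node (Tr.node (Tr.node (Tr.node (Tr.node Tr.leaf 190785 6
 Tr.leaf) 190786 6
 Tr.leaf) 190789 6
 (Tr.node (Tr.node Tr.leaf 190790 6
 Tr.leaf) 190795 5
 Tr.leaf)) 190799 6
 (Tr.node (Tr.node (Tr.node Tr.leaf 190801 6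
 Tr.leaf) 190802 6
 Tr.leaf) 190805 4
 (Tr.node Tr.leaf 190806 4
 Tr.leaf))) 190811 6
 (Tr.node (Tr.node (Tr.node (Tr.node Tr.leaf 190815 6
 Tr.leaf) 190817 6
 Tr.leaf) 190818 3
 (Tr.node Tr.leaf 190821 4
 Tr.leaf)) 190822 6
 (Tr.node (Tr.node (Tr.node Tr.leaf 190827 6
 Tr.leaf) 190831 6
 Tr.leaf) 190833 6
 (Tr.node Tr.leaf 190834 5
 Tr.leaf)))) 190837 5
 (Tr.node (Tr.node (Tr.node (Tr.node (Tr.node Tr.leaf 190838 6
 Tr.leaf) 190843 6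
 Tr.leaf) 190847 6
 (Tr.node (Tr.node Tr.leaf 190851 6
 Tr.leaf) 190855 6
 Tr.leaf)) 190857 6
 (Tr.node (Tr.node (Tr.node Tr.leaf 190858 6
 Tr.leaf) 190861 6
 Tr.leaf) 190862 5
 (Tr.node Tr.leaf 190867 6
 Tr.leaf))) 190871 6
 (Tr.node (Tr.node (Tr.node (Tr.node Tr.leaf 190873 6
 Tr.leaf) 190874 6
 Tr.leaf) 190877 6
 (Tr.node Tr.leaf 190878 6
 Tr.leaf)) 190883 6
 (Tr.node (Tr.node (Tr.node Tr.leaf 190887 6
 Tr.leaf) 190889 5
 Tr.leaf) 190890 6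
 (Tr.node Tr.leaf 190893 6
 Tr.leaf)))))) 190894 5
 (Tr.node (Tr.node (Tr.node (Tr.node (Tr.node (Tr.node (Tr.node Tr.leaf 190899 6
 Tr.leaf) 190903 6
 Tr.leaf) 190905 6
 (Tr.node (Tr.node Tr.leaf 190906 6
 Tr.leaf) 190909 6
 Tr.leaf)) 190910 5
 (Tr.node (Tr.node (Tr.node Tr.leaf 190915 5
 Tr.leaf) 190919 5
 Tr.leaf) 190921 6
 (Tr.node Tr.leaf 190922 5
 Tr.leaf))) 190925 6
 (Tr.node (Tr.node (Tr.node (Tr.node Tr.leaf 190926 6
 Tr.leaf) 190931 6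
 Tr.leaf) 190935 6
 (Tr.node (Tr.node Tr.leaf 190937 5
 Tr.leaf) 190938 4
 Tr.leaf)) 190941 5
 (Tr.node (Tr.node (Tr.node Tr.leaf 190942 6
 Tr.leaf) 190947 6
 Tr.leaf) 190951 6
 (Tr.node Tr.leaf 190953 6
 Tr.leaf)))) 190954 5
 (Tr.node (Tr.node (Tr.node (Tr.node (Tr.node Tr.leaf 190957 5
 Tr.leaf) 190958 6
 Tr.leaf) 190963 6
 (Tr.node (Tr.node Tr.leaf 190967 6
 Tr.leaf) 190969 6
 Tr.leaf)) 190970 6
 (Tr.node (Tr.node (Tr.node Tr.leaf 190973 6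
 Tr.leaf) 190974 5
 Tr.leaf) 191497 6
 (Tr.node Tr.leaf 191499 6
 Tr.leaf))) 191501 5
 (Tr.node (Tr.node (Tr.node (Tr.node Tr.leaf 191503 5
 Tr.leaf) 191513 6
 Tr.leaf) 191515 6
 (Tr.node Tr.leaf 191517 6
 Tr.leaf)) 191519 6
 (Tr.node (Tr.node (Tr.node Tr.leaf 191529 6
 Tr.leaf) 191531 5
 Tr.leaf) 191533 6
 (Tr.node Tr.leaf 191535 5
 Tr.leaf))))) 191545 5
 (Tr.node (Tr.node (Tr.node (Tr.node (Tr.node (Tr.node Tr.leaf 191547 6
 Tr.leaf) 191549 6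
 Tr.leaf) 191551 6
 (Tr.node (Tr.node Tr.leaf 191561 5
 Tr.leaf) 191563 5
 Tr.leaf)) 191565 6
 (Tr.node (Tr.node (Tr.node Tr.leaf 191567 6
 Tr.leaf) 191577 6
 Tr.leaf) 191579 6
 (Tr.node Tr.leaf 191581 6
 Tr.leaf))) 191583 6
 (Tr.node (Tr.node (Tr.node (Tr.node Tr.leaf 191593 5
 Tr.leaf) 191595 4
 Tr.leaf) 191597 6
 (Tr.node Tr.leaf 191599 6
 Tr.leaf)) 191609 6
 (Tr.node (Tr.node (Tr.node Tr.leaf 191611 6
 Tr.leaf) 191613 6
 Tr.leaf) 191615 6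
 (Tr.node Tr.leaf 191617 6
 Tr.leaf)))) 191619 6
 (Tr.node (Tr.node (Tr.node (Tr.node (Tr.node Tr.leaf 191621 6
 Tr.leaf) 191623 6
 Tr.leaf) 191633 6
 (Tr.node (Tr.node Tr.leaf 191635 6
 Tr.leaf) 191637 6
 Tr.leaf)) 191639 5
 (Tr.node (Tr.node (Tr.node Tr.leaf 191649 5
 Tr.leaf) 191651 6
 Tr.leaf) 191653 6
 (Tr.node Tr.leaf 191655 6
 Tr.leaf))) 191665 5
 (Tr.node (Tr.node (Tr.node (Tr.node Tr.leaf 191667 5
 Tr.leaf) 191669 6
 Tr.leaf) 191671 6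
 (Tr.node Tr.leaf 191681 6
 Tr.leaf)) 191683 6
 (Tr.node (Tr.node (Tr.node Tr.leaf 191685 5
 Tr.leaf) 191687 6
 Tr.leaf) 191697 6
 (Tr.node Tr.leaf 191699 5
 Tr.leaf)))))))))

/-- A subtree. -/
def tr2_s47 : Tr := (Tr.node (Tr.node (Tr.node (Tr.node (Tr.node (Tr.node (Tr.node (Tr.node (Tr.node (Tr.node Tr.leaf 191703 6
 Tr.leaf) 191713 6
 Tr.leaf) 191715 6
 (Tr.node (Tr.node Tr.leaf 191717 6
 Tr.leaf) 191719 5
 Tr.leaf)) 191729 6
 (Tr.node (Tr.node (Tr.node Tr.leaf 191731 6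
 Tr.leaf) 191733 6
 Tr.leaf) 191735 5
 (Tr.node Tr.leaf 191753 6
 Tr.leaf))) 191755 6
 (Tr.node (Tr.node (Tr.node (Tr.node Tr.leaf 191757 6
 Tr.leaf) 191759 6
 Tr.leaf) 191769 6
 (Tr.node (Tr.node Tr.leaf 191771 5
 Tr.leaf) 191773 6
 Tr.leaf)) 191775 6
 (Tr.node (Tr.node (Tr.node Tr.leaf 191785 6
 Tr.leaf) 191787 6
 Tr.leaf) 191789 6
 (Tr.node Tr.leaf 191791 5
 Tr.leaf)))) 191801 4
 (Tr.node (Tr.node (Tr.node (Tr.node (Tr.node Tr.leaf 191803 6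
 Tr.leaf) 191805 5
 Tr.leaf) 191807 5
 (Tr.node (Tr.node Tr.leaf 191817 5
 Tr.leaf) 191819 4
 Tr.leaf)) 191821 6
 (Tr.node (Tr.node (Tr.node Tr.leaf 191823 6
 Tr.leaf) 191833 6
 Tr.leaf) 191835 6
 (Tr.node Tr.leaf 191837 6
 Tr.leaf))) 191839 6
 (Tr.node (Tr.node (Tr.node (Tr.node Tr.leaf 191849 6
 Tr.leaf) 191851 6
 Tr.leaf) 191853 5
 (Tr.node Tr.leaf 191855 6
 Tr.leaf)) 191865 5
 (Tr.node (Tr.node (Tr.node Tr.leaf 191867 5
 Tr.leaf) 191869 5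
 Tr.leaf) 191871 6
 (Tr.node Tr.leaf 191873 5
 Tr.leaf))))) 191875 6
 (Tr.node (Tr.node (Tr.node (Tr.node (Tr.node (Tr.node Tr.leaf 191877 5
 Tr.leaf) 191879 6
 Tr.leaf) 191889 5
 (Tr.node (Tr.node Tr.leaf 191891 6
 Tr.leaf) 191893 6
 Tr.leaf)) 191895 6
 (Tr.node (Tr.node (Tr.node Tr.leaf 191905 6
 Tr.leaf) 191907 6
 Tr.leaf) 191909 6
 (Tr.node Tr.leaf 191911 6
 Tr.leaf))) 191921 5
 (Tr.node (Tr.node (Tr.node (Tr.node Tr.leaf 191923 5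
 Tr.leaf) 191925 6
 Tr.leaf) 191927 6
 (Tr.node (Tr.node Tr.leaf 191937 6
 Tr.leaf) 191939 5
 Tr.leaf)) 191941 5
 (Tr.node (Tr.node (Tr.node Tr.leaf 191943 5
 Tr.leaf) 191953 5
 Tr.leaf) 191955 6
 (Tr.node Tr.leaf 191957 6
 Tr.leaf)))) 191959 5
 (Tr.node (Tr.node (Tr.node (Tr.node (Tr.node Tr.leaf 191969 6
 Tr.leaf) 191971 6
 Tr.leaf) 191973 6
 (Tr.node (Tr.node Tr.leaf 191975 6
 Tr.leaf) 191985 6
 Tr.leaf)) 191987 6
 (Tr.node (Tr.node (Tr.node Tr.leaf 191989 6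
 Tr.leaf) 191991 5
 Tr.leaf) 192513 4
 (Tr.node Tr.leaf 192514 6
 Tr.leaf))) 192516 5
 (Tr.node (Tr.node (Tr.node (Tr.node Tr.leaf 192519 6
 Tr.leaf) 192521 4
 Tr.leaf) 192522 5
 (Tr.node Tr.leaf 192524 6
 Tr.leaf)) 192527 5
 (Tr.node (Tr.node (Tr.node Tr.leaf 192529 4
 Tr.leaf) 192530 3
 Tr.leaf) 192532 6
 (Tr.node Tr.leaf 192535 6
 Tr.leaf)))))) 192537 5
 (Tr.node (Tr.node (Tr.node (Tr.node (Tr.node (Tr.node (Tr.node Tr.leaf 192538 6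
 Tr.leaf) 192540 4
 Tr.leaf) 192543 6
 (Tr.node (Tr.node Tr.leaf 192545 6
 Tr.leaf) 192546 6
 Tr.leaf)) 192548 6
 (Tr.node (Tr.node (Tr.node Tr.leaf 192551 6
 Tr.leaf) 192553 6
 Tr.leaf) 192554 5
 (Tr.node Tr.leaf 192556 6
 Tr.leaf))) 192559 5
 (Tr.node (Tr.node (Tr.node (Tr.node Tr.leaf 192561 6
 Tr.leaf) 192562 6
 Tr.leaf) 192564 6
 (Tr.node (Tr.node Tr.leaf 192567 6
 Tr.leaf) 192569 5
 Tr.leaf)) 192570 3
 (Tr.node (Tr.node (Tr.node Tr.leaf 192572 3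
 Tr.leaf) 192575 6
 Tr.leaf) 192577 6
 (Tr.node Tr.leaf 192578 5
 Tr.leaf)))) 192580 6
 (Tr.node (Tr.node (Tr.node (Tr.node (Tr.node Tr.leaf 192583 5
 Tr.leaf) 192585 5
 Tr.leaf) 192586 5
 (Tr.node (Tr.node Tr.leaf 192588 5
 Tr.leaf) 192591 5
 Tr.leaf)) 192593 6
 (Tr.node (Tr.node (Tr.node Tr.leaf 192594 6
 Tr.leaf) 192596 5
 Tr.leaf) 192599 5
 (Tr.node Tr.leaf 192601 4
 Tr.leaf))) 192602 4
 (Tr.node (Tr.node (Tr.node (Tr.node Tr.leaf 192604 4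
 Tr.leaf) 192607 6
 Tr.leaf) 192609 4
 (Tr.node Tr.leaf 192610 6
 Tr.leaf)) 192612 6
 (Tr.node (Tr.node (Tr.node Tr.leaf 192615 6
 Tr.leaf) 192617 6
 Tr.leaf) 192618 6
 (Tr.node Tr.leaf 192620 6
 Tr.leaf))))) 192623 6
 (Tr.node (Tr.node (Tr.node (Tr.node (Tr.node (Tr.node Tr.leaf 192625 6
 Tr.leaf) 192626 6
 Tr.leaf) 192628 6
 (Tr.node (Tr.node Tr.leaf 192631 5
 Tr.leaf) 192633 5
 Tr.leaf)) 192634 5
 (Tr.node (Tr.node (Tr.node Tr.leaf 192636 5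
 Tr.leaf) 192639 6
 Tr.leaf) 192643 6
 (Tr.node Tr.leaf 192645 5
 Tr.leaf))) 192646 6
 (Tr.node (Tr.node (Tr.node (Tr.node Tr.leaf 192651 6
 Tr.leaf) 192653 6
 Tr.leaf) 192654 6
 (Tr.node Tr.leaf 192659 6
 Tr.leaf)) 192661 6
 (Tr.node (Tr.node (Tr.node Tr.leaf 192662 5
 Tr.leaf) 192667 5
 Tr.leaf) 192669 6
 (Tr.node Tr.leaf 192670 6
 Tr.leaf)))) 192675 6
 (Tr.node (Tr.node (Tr.node (Tr.node (Tr.node Tr.leaf 192677 6
 Tr.leaf) 192678 6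
 Tr.leaf) 192683 6
 (Tr.node (Tr.node Tr.leaf 192685 5
 Tr.leaf) 192686 6
 Tr.leaf)) 192691 6
 (Tr.node (Tr.node (Tr.node Tr.leaf 192693 5
 Tr.leaf) 192694 5
 Tr.leaf) 192699 6
 (Tr.node Tr.leaf 192701 5
 Tr.leaf))) 192702 5
 (Tr.node (Tr.node (Tr.node (Tr.node Tr.leaf 192707 6
 Tr.leaf) 192709 6
 Tr.leaf) 192710 6
 (Tr.node Tr.leaf 192715 6
 Tr.leaf)) 192717 6
 (Tr.node (Tr.node (Tr.node Tr.leaf 192718 6
 Tr.leaf) 192723 6
 Tr.leaf) 192725 6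
 (Tr.node Tr.leaf 192726 6
 Tr.leaf))))))) 192731 7
 (Tr.node (Tr.node (Tr.node (Tr.node (Tr.node (Tr.node (Tr.node (Tr.node Tr.leaf 192733 5
 Tr.leaf) 192734 5
 Tr.leaf) 192739 5
 (Tr.node (Tr.node Tr.leaf 192741 5
 Tr.leaf) 192742 6
 Tr.leaf)) 192747 5
 (Tr.node (Tr.node (Tr.node Tr.leaf 192749 6
 Tr.leaf) 192750 5
 Tr.leaf) 192755 5
 (Tr.node Tr.leaf 192757 6
 Tr.leaf))) 192758 5
 (Tr.node (Tr.node (Tr.node (Tr.node Tr.leaf 192763 6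
 Tr.leaf) 192765 6
 Tr.leaf) 192766 5
 (Tr.node (Tr.node Tr.leaf 192769 4
 Tr.leaf) 192770 6
 Tr.leaf)) 192772 5
 (Tr.node (Tr.node (Tr.node Tr.leaf 192775 6
 Tr.leaf) 192777 6
 Tr.leaf) 192778 6
 (Tr.node Tr.leaf 192780 6
 Tr.leaf)))) 192783 6
 (Tr.node (Tr.node (Tr.node (Tr.node (Tr.node Tr.leaf 192785 6
 Tr.leaf) 192786 6
 Tr.leaf) 192788 6
 (Tr.node (Tr.node Tr.leaf 192791 5
 Tr.leaf) 192793 6
 Tr.leaf)) 192794 5
 (Tr.node (Tr.node (Tr.node Tr.leaf 192796 5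
 Tr.leaf) 192799 6
 Tr.leaf) 192801 5
 (Tr.node Tr.leaf 192802 4
 Tr.leaf))) 192804 3
 (Tr.node (Tr.node (Tr.node (Tr.node Tr.leaf 192807 6
 Tr.leaf) 192809 6
 Tr.leaf) 192810 5
 (Tr.node Tr.leaf 192812 6
 Tr.leaf)) 192815 6
 (Tr.node (Tr.node (Tr.node Tr.leaf 192817 5
 Tr.leaf) 192818 5
 Tr.leaf) 192820 5
 (Tr.node Tr.leaf 192823 6
 Tr.leaf))))) 192825 6
 (Tr.node (Tr.node (Tr.node (Tr.node (Tr.node (Tr.node Tr.leaf 192826 5
 Tr.leaf) 192828 6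
 Tr.leaf) 192831 5
 (Tr.node (Tr.node Tr.leaf 192833 5
 Tr.leaf) 192834 3
 Tr.leaf)) 192836 3
 (Tr.node (Tr.node (Tr.node Tr.leaf 192839 5
 Tr.leaf) 192841 6
 Tr.leaf) 192842 6
 (Tr.node Tr.leaf 192844 6
 Tr.leaf))) 192847 6
 (Tr.node (Tr.node (Tr.node (Tr.node Tr.leaf 192849 5
 Tr.leaf) 192850 5
 Tr.leaf) 192852 6
 (Tr.node Tr.leaf 192855 6
 Tr.leaf)) 192857 4
 (Tr.node (Tr.node (Tr.node Tr.leaf 192858 6
 Tr.leaf) 192860 6
 Tr.leaf) 192863 6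
 (Tr.node Tr.leaf 192865 6
 Tr.leaf)))) 192866 6
 (Tr.node (Tr.node (Tr.node (Tr.node (Tr.node Tr.leaf 192868 6
 Tr.leaf) 192871 6
 Tr.leaf) 192873 4
 (Tr.node (Tr.node Tr.leaf 192874 4
 Tr.leaf) 192876 6
 Tr.leaf)) 192879 7
 (Tr.node (Tr.node (Tr.node Tr.leaf 192881 6
 Tr.leaf) 192882 5
 Tr.leaf) 192884 6
 (Tr.node Tr.leaf 192887 5
 Tr.leaf))) 192889 5
 (Tr.node (Tr.node (Tr.node (Tr.node Tr.leaf 192890 4
 Tr.leaf) 192892 5
 Tr.leaf) 192895 6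
 (Tr.node Tr.leaf 192899 6
 Tr.leaf)) 192901 6
 (Tr.node (Tr.node (Tr.node Tr.leaf 192902 5
 Tr.leaf) 192907 6
 Tr.leaf) 192909 6
 (Tr.node Tr.leaf 192910 5
 Tr.leaf)))))) 192915 6
 (Tr.node (Tr.node (Tr.node (Tr.node (Tr.node (Tr.node (Tr.node Tr.leaf 192917 5
 Tr.leaf) 192918 6
 Tr.leaf) 192923 6
 (Tr.node (Tr.node Tr.leaf 192925 6
 Tr.leaf) 192926 6
 Tr.leaf)) 192931 6
 (Tr.node (Tr.node (Tr.node Tr.leaf 192933 5
 Tr.leaf) 192934 5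
 Tr.leaf) 192939 6
 (Tr.node Tr.leaf 192941 6
 Tr.leaf))) 192942 4
 (Tr.node (Tr.node (Tr.node (Tr.node Tr.leaf 192947 6
 Tr.leaf) 192949 6
 Tr.leaf) 192950 5
 (Tr.node (Tr.node Tr.leaf 192955 6
 Tr.leaf) 192957 6
 Tr.leaf)) 192958 5
 (Tr.node (Tr.node (Tr.node Tr.leaf 192963 6
 Tr.leaf) 192965 6
 Tr.leaf) 192966 5
 (Tr.node Tr.leaf 192971 5
 Tr.leaf)))) 192973 6
 (Tr.node (Tr.node (Tr.node (Tr.node (Tr.node Tr.leaf 192974 5
 Tr.leaf) 192979 5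
 Tr.leaf) 192981 6
 (Tr.node (Tr.node Tr.leaf 192982 6
 Tr.leaf) 192987 6
 Tr.leaf)) 192989 6
 (Tr.node (Tr.node (Tr.node Tr.leaf 192990 5
 Tr.leaf) 192995 6
 Tr.leaf) 192997 6
 (Tr.node Tr.leaf 192998 5
 Tr.leaf))) 193003 6
 (Tr.node (Tr.node (Tr.node (Tr.node Tr.leaf 193005 5
 Tr.leaf) 193006 5
 Tr.leaf) 193011 6
 (Tr.node Tr.leaf 193013 6
 Tr.leaf)) 193014 6
 (Tr.node (Tr.node (Tr.node Tr.leaf 193019 6
 Tr.leaf) 193021 6
 Tr.leaf) 193022 6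
 (Tr.node Tr.leaf 193541 6
 Tr.leaf))))) 193543 5
 (Tr.node (Tr.node (Tr.node (Tr.node (Tr.node (Tr.node Tr.leaf 193549 5
 Tr.leaf) 193551 6
 Tr.leaf) 193557 6
 (Tr.node (Tr.node Tr.leaf 193559 6
 Tr.leaf) 193565 6
 Tr.leaf)) 193567 6
 (Tr.node (Tr.node (Tr.node Tr.leaf 193573 6
 Tr.leaf) 193575 6
 Tr.leaf) 193581 6
 (Tr.node Tr.leaf 193583 5
 Tr.leaf))) 193589 6
 (Tr.node (Tr.node (Tr.node (Tr.node Tr.leaf 193591 6
 Tr.leaf) 193597 6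
 Tr.leaf) 193599 6
 (Tr.node Tr.leaf 193605 6
 Tr.leaf)) 193607 5
 (Tr.node (Tr.node (Tr.node Tr.leaf 193613 5
 Tr.leaf) 193615 4
 Tr.leaf) 193621 6
 (Tr.node Tr.leaf 193623 6
 Tr.leaf)))) 193629 6
 (Tr.node (Tr.node (Tr.node (Tr.node (Tr.node Tr.leaf 193631 5
 Tr.leaf) 193637 6
 Tr.leaf) 193639 6
 (Tr.node (Tr.node Tr.leaf 193645 6
 Tr.leaf) 193647 6
 Tr.leaf)) 193653 6
 (Tr.node (Tr.node (Tr.node Tr.leaf 193655 6
 Tr.leaf) 193661 6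
 Tr.leaf) 193663 6
 (Tr.node Tr.leaf 193665 5
 Tr.leaf))) 193667 6
 (Tr.node (Tr.node (Tr.node (Tr.node Tr.leaf 193673 5
 Tr.leaf) 193675 5
 Tr.leaf) 193681 5
 (Tr.node Tr.leaf 193683 6
 Tr.leaf)) 193689 6
 (Tr.node (Tr.node (Tr.node Tr.leaf 193691 5
 Tr.leaf) 193697 5
 Tr.leaf) 193699 6
 (Tr.node Tr.leaf 193705 6
 Tr.leaf)))))))) 193707 6
 (Tr.node (Tr.node (Tr.node (Tr.node (Tr.node (Tr.node (Tr.node (Tr.node (Tr.node Tr.leaf 193713 6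
 Tr.leaf) 193715 5
 Tr.leaf) 193721 5
 (Tr.node (Tr.node Tr.leaf 193723 6
 Tr.leaf) 193729 6
 Tr.leaf)) 193731 6
 (Tr.node (Tr.node (Tr.node Tr.leaf 193737 6
 Tr.leaf) 193739 5
 Tr.leaf) 193745 6
 (Tr.node Tr.leaf 193747 6
 Tr.leaf))) 193753 6
 (Tr.node (Tr.node (Tr.node (Tr.node Tr.leaf 193755 5
 Tr.leaf) 193761 6
 Tr.leaf) 193763 6
 (Tr.node (Tr.node Tr.leaf 193769 5
 Tr.leaf) 193771 5
 Tr.leaf)) 193777 5
 (Tr.node (Tr.node (Tr.node Tr.leaf 193779 6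
 Tr.leaf) 193785 6
 Tr.leaf) 193787 6
 (Tr.node Tr.leaf 193797 6
 Tr.leaf)))) 193799 5
 (Tr.node (Tr.node (Tr.node (Tr.node (Tr.node Tr.leaf 193805 6
 Tr.leaf) 193807 6
 Tr.leaf) 193813 6
 (Tr.node (Tr.node Tr.leaf 193815 5
 Tr.leaf) 193821 4
 Tr.leaf)) 193823 5
 (Tr.node (Tr.node (Tr.node Tr.leaf 193829 6
 Tr.leaf) 193831 6
 Tr.leaf) 193837 4
 (Tr.node Tr.leaf 193839 6
 Tr.leaf))) 193845 6
 (Tr.node (Tr.node (Tr.node (Tr.node Tr.leaf 193847 5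
 Tr.leaf) 193853 5
 Tr.leaf) 193855 6
 (Tr.node Tr.leaf 193861 5
 Tr.leaf)) 193863 6
 (Tr.node (Tr.node (Tr.node Tr.leaf 193869 6
 Tr.leaf) 193871 6
 Tr.leaf) 193877 6
 (Tr.node Tr.leaf 193879 6
 Tr.leaf))))) 193885 5
 (Tr.node (Tr.node (Tr.node (Tr.node (Tr.node (Tr.node Tr.leaf 193887 6
 Tr.leaf) 193893 6
 Tr.leaf) 193895 6
 (Tr.node (Tr.node Tr.leaf 193901 5
 Tr.leaf) 193903 6
 Tr.leaf)) 193909 6
 (Tr.node (Tr.node (Tr.node Tr.leaf 193911 5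
 Tr.leaf) 193917 5
 Tr.leaf) 193919 6
 (Tr.node Tr.leaf 193921 6
 Tr.leaf))) 193923 6
 (Tr.node (Tr.node (Tr.node (Tr.node Tr.leaf 193929 6
 Tr.leaf) 193931 6
 Tr.leaf) 193937 5
 (Tr.node Tr.leaf 193939 6
 Tr.leaf)) 193945 6
 (Tr.node (Tr.node (Tr.node Tr.leaf 193947 6
 Tr.leaf) 193953 5
 Tr.leaf) 193955 6
 (Tr.node Tr.leaf 193961 5
 Tr.leaf)))) 193963 5
 (Tr.node (Tr.node (Tr.node (Tr.node (Tr.node Tr.leaf 193969 6
 Tr.leaf) 193971 6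
 Tr.leaf) 193977 6
 (Tr.node (Tr.node Tr.leaf 193979 6
 Tr.leaf) 193985 6
 Tr.leaf)) 193987 6
 (Tr.node (Tr.node (Tr.node Tr.leaf 193993 6
 Tr.leaf) 193995 6
 Tr.leaf) 194001 6
 (Tr.node Tr.leaf 194003 6
 Tr.leaf))) 194009 6
 (Tr.node (Tr.node (Tr.node (Tr.node Tr.leaf 194011 5
 Tr.leaf) 194017 5
 Tr.leaf) 194019 5
 (Tr.node Tr.leaf 194025 6
 Tr.leaf)) 194027 5
 (Tr.node (Tr.node (Tr.node Tr.leaf 194033 5
 Tr.leaf) 194035 6
 Tr.leaf) 194041 6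
 (Tr.node Tr.leaf 194043 6
 Tr.leaf)))))) 194563 6
 (Tr.node (Tr.node (Tr.node (Tr.node (Tr.node (Tr.node (Tr.node Tr.leaf 194567 5
 Tr.leaf) 194571 6
 Tr.leaf) 194575 5
 (Tr.node (Tr.node Tr.leaf 194579 6
 Tr.leaf) 194583 6
 Tr.leaf)) 194587 6
 (Tr.node (Tr.node (Tr.node Tr.leaf 194591 6
 Tr.leaf) 194595 6
 Tr.leaf) 194599 6
 (Tr.node Tr.leaf 194603 6
 Tr.leaf))) 194607 6
 (Tr.node (Tr.node (Tr.node (Tr.node Tr.leaf 194611 5
 Tr.leaf) 194615 6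
 Tr.leaf) 194619 5
 (Tr.node (Tr.node Tr.leaf 194623 6
 Tr.leaf) 194627 5
 Tr.leaf)) 194631 6
 (Tr.node (Tr.node (Tr.node Tr.leaf 194635 5
 Tr.leaf) 194639 5
 Tr.leaf) 194643 5
 (Tr.node Tr.leaf 194647 6
 Tr.leaf)))) 194651 6
 (Tr.node (Tr.node (Tr.node (Tr.node (Tr.node Tr.leaf 194655 6
 Tr.leaf) 194659 6
 Tr.leaf) 194663 6
 (Tr.node (Tr.node Tr.leaf 194667 5
 Tr.leaf) 194671 6
 Tr.leaf)) 194675 5
 (Tr.node (Tr.node (Tr.node Tr.leaf 194679 6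
 Tr.leaf) 194683 6
 Tr.leaf) 194687 6
 (Tr.node Tr.leaf 194689 6
 Tr.leaf))) 194690 6
 (Tr.node (Tr.node (Tr.node (Tr.node Tr.leaf 194693 6
 Tr.leaf) 194694 5
 Tr.leaf) 194697 6
 (Tr.node Tr.leaf 194698 4
 Tr.leaf)) 194701 5
 (Tr.node (Tr.node (Tr.node Tr.leaf 194702 6
 Tr.leaf) 194705 5
 Tr.leaf) 194706 6
 (Tr.node Tr.leaf 194709 6
 Tr.leaf))))) 194710 5
 (Tr.node (Tr.node (Tr.node (Tr.node (Tr.node (Tr.node Tr.leaf 194713 6
 Tr.leaf) 194714 5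
 Tr.leaf) 194717 6
 (Tr.node (Tr.node Tr.leaf 194718 5
 Tr.leaf) 194721 5
 Tr.leaf)) 194722 6
 (Tr.node (Tr.node (Tr.node Tr.leaf 194725 5
 Tr.leaf) 194726 6
 Tr.leaf) 194729 6
 (Tr.node Tr.leaf 194730 5
 Tr.leaf))) 194733 6
 (Tr.node (Tr.node (Tr.node (Tr.node Tr.leaf 194734 5
 Tr.leaf) 194737 6
 Tr.leaf) 194738 5
 (Tr.node Tr.leaf 194741 6
 Tr.leaf)) 194742 6
 (Tr.node (Tr.node (Tr.node Tr.leaf 194745 6
 Tr.leaf) 194746 5
 Tr.leaf) 194749 6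
 (Tr.node Tr.leaf 194750 5
 Tr.leaf)))) 194753 6
 (Tr.node (Tr.node (Tr.node (Tr.node (Tr.node Tr.leaf 194754 5
 Tr.leaf) 194757 6
 Tr.leaf) 194758 6
 (Tr.node (Tr.node Tr.leaf 194761 6
 Tr.leaf) 194762 6
 Tr.leaf)) 194765 4
 (Tr.node (Tr.node (Tr.node Tr.leaf 194766 6
 Tr.leaf) 194769 6
 Tr.leaf) 194770 5
 (Tr.node Tr.leaf 194773 6
 Tr.leaf))) 194774 5
 (Tr.node (Tr.node (Tr.node (Tr.node Tr.leaf 194777 6
 Tr.leaf) 194778 5
 Tr.leaf) 194781 5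
 (Tr.node Tr.leaf 194782 5
 Tr.leaf)) 194785 5
 (Tr.node (Tr.node (Tr.node Tr.leaf 194786 5
 Tr.leaf) 194789 6
 Tr.leaf) 194790 4
 (Tr.node Tr.leaf 194793 6
 Tr.leaf))))))) 194794 6
 (Tr.node (Tr.node (Tr.node (Tr.node (Tr.node (Tr.node (Tr.node (Tr.node Tr.leaf 194797 5
 Tr.leaf) 194798 5
 Tr.leaf) 194801 6
 (Tr.node (Tr.node Tr.leaf 194802 5
 Tr.leaf) 194805 5
 Tr.leaf)) 194806 5
 (Tr.node (Tr.node (Tr.node Tr.leaf 194809 6
 Tr.leaf) 194810 5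
 Tr.leaf) 194813 6
 (Tr.node Tr.leaf 194814 6
 Tr.leaf))) 194819 6
 (Tr.node (Tr.node (Tr.node (Tr.node Tr.leaf 194823 6
 Tr.leaf) 194827 6
 Tr.leaf) 194831 5
 (Tr.node (Tr.node Tr.leaf 194835 6
 Tr.leaf) 194839 6
 Tr.leaf)) 194843 5
 (Tr.node (Tr.node (Tr.node Tr.leaf 194847 6
 Tr.leaf) 194851 6
 Tr.leaf) 194855 6
 (Tr.node Tr.leaf 194859 5
 Tr.leaf)))) 194863 6
 (Tr.node (Tr.node (Tr.node (Tr.node (Tr.node Tr.leaf 194867 6
 Tr.leaf) 194871 5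
 Tr.leaf) 194875 6
 (Tr.node (Tr.node Tr.leaf 194879 5
 Tr.leaf) 194883 5
 Tr.leaf)) 194887 6
 (Tr.node (Tr.node (Tr.node Tr.leaf 194891 6
 Tr.leaf) 194895 5
 Tr.leaf) 194899 6
 (Tr.node Tr.leaf 194903 6
 Tr.leaf))) 194907 6
 (Tr.node (Tr.node (Tr.node (Tr.node Tr.leaf 194911 6
 Tr.leaf) 194915 5
 Tr.leaf) 194919 6
 (Tr.node Tr.leaf 194923 6
 Tr.leaf)) 194927 5
 (Tr.node (Tr.node (Tr.node Tr.leaf 194931 5
 Tr.leaf) 194935 6
 Tr.leaf) 194939 5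
 (Tr.node Tr.leaf 194943 5
 Tr.leaf))))) 194945 6
 (Tr.node (Tr.node (Tr.node (Tr.node (Tr.node (Tr.node Tr.leaf 194946 6
 Tr.leaf) 194949 5
 Tr.leaf) 194950 5
 (Tr.node (Tr.node Tr.leaf 194953 6
 Tr.leaf) 194954 5
 Tr.leaf)) 194957 6
 (Tr.node (Tr.node (Tr.node Tr.leaf 194958 5
 Tr.leaf) 194961 5
 Tr.leaf) 194962 6
 (Tr.node Tr.leaf 194965 5
 Tr.leaf))) 194966 6
 (Tr.node (Tr.node (Tr.node (Tr.node Tr.leaf 194969 6
 Tr.leaf) 194970 6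
 Tr.leaf) 194973 6
 (Tr.node Tr.leaf 194974 5
 Tr.leaf)) 194977 5
 (Tr.node (Tr.node (Tr.node Tr.leaf 194978 5
 Tr.leaf) 194981 4
 Tr.leaf) 194982 5
 (Tr.node Tr.leaf 194985 6
 Tr.leaf)))) 194986 5
 (Tr.node (Tr.node (Tr.node (Tr.node (Tr.node Tr.leaf 194989 6
 Tr.leaf) 194990 5
 Tr.leaf) 194993 6
 (Tr.node (Tr.node Tr.leaf 194994 5
 Tr.leaf) 194997 6
 Tr.leaf)) 194998 6
 (Tr.node (Tr.node (Tr.node Tr.leaf 195001 6
 Tr.leaf) 195002 6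
 Tr.leaf) 195005 6
 (Tr.node Tr.leaf 195006 6
 Tr.leaf))) 195009 6
 (Tr.node (Tr.node (Tr.node (Tr.node Tr.leaf 195010 5
 Tr.leaf) 195013 6
 Tr.leaf) 195014 5
 (Tr.node Tr.leaf 195017 5
 Tr.leaf)) 195018 5
 (Tr.node (Tr.node (Tr.node Tr.leaf 195021 6
 Tr.leaf) 195022 6
 Tr.leaf) 195025 6
 (Tr.node Tr.leaf 195026 5
 Tr.leaf)))))) 195029 5
 (Tr.node (Tr.node (Tr.node (Tr.node (Tr.node (Tr.node (Tr.node Tr.leaf 195030 6
 Tr.leaf) 195033 6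
 Tr.leaf) 195034 6
 (Tr.node (Tr.node Tr.leaf 195037 5
 Tr.leaf) 195038 6
 Tr.leaf)) 195041 4
 (Tr.node (Tr.node (Tr.node Tr.leaf 195042 5
 Tr.leaf) 195045 6
 Tr.leaf) 195046 5
 (Tr.node Tr.leaf 195049 6
 Tr.leaf))) 195050 5
 (Tr.node (Tr.node (Tr.node (Tr.node Tr.leaf 195053 5
 Tr.leaf) 195054 5
 Tr.leaf) 195057 6
 (Tr.node (Tr.node Tr.leaf 195058 5
 Tr.leaf) 195061 6
 Tr.leaf)) 195062 6
 (Tr.node (Tr.node (Tr.node Tr.leaf 195065 6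
 Tr.leaf) 195066 6
 Tr.leaf) 195069 6
 (Tr.node Tr.leaf 195070 6
 Tr.leaf)))) 195585 6
 (Tr.node (Tr.node (Tr.node (Tr.node (Tr.node Tr.leaf 195587 6
 Tr.leaf) 195589 5
 Tr.leaf) 195591 5
 (Tr.node (Tr.node Tr.leaf 195593 6
 Tr.leaf) 195595 6
 Tr.leaf)) 195597 6
 (Tr.node (Tr.node (Tr.node Tr.leaf 195599 5
 Tr.leaf) 195601 6
 Tr.leaf) 195603 6
 (Tr.node Tr.leaf 195605 6
 Tr.leaf))) 195607 6
 (Tr.node (Tr.node (Tr.node (Tr.node Tr.leaf 195609 6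
 Tr.leaf) 195611 6
 Tr.leaf) 195613 6
 (Tr.node Tr.leaf 195615 5
 Tr.leaf)) 195617 6
 (Tr.node (Tr.node (Tr.node Tr.leaf 195619 6
 Tr.leaf) 195621 5
 Tr.leaf) 195623 6
 (Tr.node Tr.leaf 195625 6
 Tr.leaf))))) 195627 6
 (Tr.node (Tr.node (Tr.node (Tr.node (Tr.node (Tr.node Tr.leaf 195629 6
 Tr.leaf) 195631 6
 Tr.leaf) 195633 5
 (Tr.node (Tr.node Tr.leaf 195635 5
 Tr.leaf) 195637 6
 Tr.leaf)) 195639 6
 (Tr.node (Tr.node (Tr.node Tr.leaf 195641 6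
 Tr.leaf) 195643 6
 Tr.leaf) 195645 5
 (Tr.node Tr.leaf 195647 6
 Tr.leaf))) 195649 6
 (Tr.node (Tr.node (Tr.node (Tr.node Tr.leaf 195651 7
 Tr.leaf) 195653 6
 Tr.leaf) 195655 5
 (Tr.node Tr.leaf 195657 6
 Tr.leaf)) 195659 6
 (Tr.node (Tr.node (Tr.node Tr.leaf 195661 6
 Tr.leaf) 195663 6
 Tr.leaf) 195665 6
 (Tr.node Tr.leaf 195667 5
 Tr.leaf)))) 195669 6
 (Tr.node (Tr.node (Tr.node (Tr.node (Tr.node Tr.leaf 195671 6
 Tr.leaf) 195673 5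
 Tr.leaf) 195675 6
 (Tr.node (Tr.node Tr.leaf 195677 6
 Tr.leaf) 195679 5
 Tr.leaf)) 195681 6
 (Tr.node (Tr.node (Tr.node Tr.leaf 195683 6
 Tr.leaf) 195685 6
 Tr.leaf) 195687 6
 (Tr.node Tr.leaf 195689 6
 Tr.leaf))) 195691 6
 (Tr.node (Tr.node (Tr.node (Tr.node Tr.leaf 195693 6
 Tr.leaf) 195695 6
 Tr.leaf) 195697 6
 (Tr.node Tr.leaf 195699 6
 Tr.leaf)) 195701 6
 (Tr.node (Tr.node (Tr.node Tr.leaf 195703 6
 Tr.leaf) 195705 6
 Tr.leaf) 195707 6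
 (Tr.node Tr.leaf 195709 6
 Tr.leaf)))))))))

/-- A subtree. -/
def tr2_s48 : Tr := (Tr.node (Tr.node (Tr.node (Tr.node (Tr.node (Tr.node (Tr.node (Tr.node (Tr.node (Tr.node Tr.leaf 195841 6
 Tr.leaf) 195843 6
 Tr.leaf) 195845 6
 (Tr.node (Tr.node Tr.leaf 195847 6
 Tr.leaf) 195849 6
 Tr.leaf)) 195851 6
 (Tr.node (Tr.node (Tr.node Tr.leaf 195853 6
 Tr.leaf) 195855 6
 Tr.leaf) 195857 7
 (Tr.node Tr.leaf 195859 6
 Tr.leaf))) 195861 6
 (Tr.node (Tr.node (Tr.node (Tr.node Tr.leaf 195863 6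
 Tr.leaf) 195865 6
 Tr.leaf) 195867 6
 (Tr.node (Tr.node Tr.leaf 195869 6
 Tr.leaf) 195871 6
 Tr.leaf)) 195873 6
 (Tr.node (Tr.node (Tr.node Tr.leaf 195875 6
 Tr.leaf) 195877 6
 Tr.leaf) 195879 6
 (Tr.node Tr.leaf 195881 6
 Tr.leaf)))) 195883 6
 (Tr.node (Tr.node (Tr.node (Tr.node (Tr.node Tr.leaf 195885 6
 Tr.leaf) 195887 6
 Tr.leaf) 195889 6
 (Tr.node (Tr.node Tr.leaf 195891 5
 Tr.leaf) 195893 5
 Tr.leaf)) 195895 5
 (Tr.node (Tr.node (Tr.node Tr.leaf 195897 6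
 Tr.leaf) 195899 6
 Tr.leaf) 195901 6
 (Tr.node Tr.leaf 195903 6
 Tr.leaf))) 195905 6
 (Tr.node (Tr.node (Tr.node (Tr.node Tr.leaf 195907 6
 Tr.leaf) 195909 6
 Tr.leaf) 195911 6
 (Tr.node Tr.leaf 195913 6
 Tr.leaf)) 195915 6
 (Tr.node (Tr.node (Tr.node Tr.leaf 195917 6
 Tr.leaf) 195919 6
 Tr.leaf) 195921 6
 (Tr.node Tr.leaf 195923 6
 Tr.leaf))))) 195925 6
 (Tr.node (Tr.node (Tr.node (Tr.node (Tr.node (Tr.node Tr.leaf 195927 6
 Tr.leaf) 195929 6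
 Tr.leaf) 195931 6
 (Tr.node (Tr.node Tr.leaf 195933 6
 Tr.leaf) 195935 6
 Tr.leaf)) 195937 6
 (Tr.node (Tr.node (Tr.node Tr.leaf 195939 6
 Tr.leaf) 195941 6
 Tr.leaf) 195943 6
 (Tr.node Tr.leaf 195945 6
 Tr.leaf))) 195947 6
 (Tr.node (Tr.node (Tr.node (Tr.node Tr.leaf 195949 6
 Tr.leaf) 195951 6
 Tr.leaf) 195953 6
 (Tr.node (Tr.node Tr.leaf 195955 6
 Tr.leaf) 195957 6
 Tr.leaf)) 195959 5
 (Tr.node (Tr.node (Tr.node Tr.leaf 195961 6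
 Tr.leaf) 195963 6
 Tr.leaf) 195965 6
 (Tr.node Tr.leaf 195967 6
 Tr.leaf)))) 196611 6
 (Tr.node (Tr.node (Tr.node (Tr.node (Tr.node Tr.leaf 196613 5
 Tr.leaf) 196614 5
 Tr.leaf) 196617 5
 (Tr.node (Tr.node Tr.leaf 196618 5
 Tr.leaf) 196620 4
 Tr.leaf)) 196623 6
 (Tr.node (Tr.node (Tr.node Tr.leaf 196625 3
 Tr.leaf) 196626 4
 Tr.leaf) 196628 6
 (Tr.node Tr.leaf 196631 5
 Tr.leaf))) 196632 6
 (Tr.node (Tr.node (Tr.node (Tr.node Tr.leaf 196635 5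
 Tr.leaf) 196637 5
 Tr.leaf) 196638 5
 (Tr.node Tr.leaf 196641 3
 Tr.leaf)) 196642 6
 (Tr.node (Tr.node (Tr.node Tr.leaf 196644 4
 Tr.leaf) 196647 4
 Tr.leaf) 196648 5
 (Tr.node Tr.leaf 196651 6
 Tr.leaf)))))) 196653 7
 (Tr.node (Tr.node (Tr.node (Tr.node (Tr.node (Tr.node (Tr.node Tr.leaf 196654 5
 Tr.leaf) 196656 3
 Tr.leaf) 196659 6
 (Tr.node (Tr.node Tr.leaf 196661 6
 Tr.leaf) 196662 6
 Tr.leaf)) 196665 6
 (Tr.node (Tr.node (Tr.node Tr.leaf 196666 6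
 Tr.leaf) 196668 5
 Tr.leaf) 196671 6
 (Tr.node Tr.leaf 196673 4
 Tr.leaf))) 196674 4
 (Tr.node (Tr.node (Tr.node (Tr.node Tr.leaf 196676 5
 Tr.leaf) 196679 5
 Tr.leaf) 196680 4
 (Tr.node (Tr.node Tr.leaf 196683 5
 Tr.leaf) 196685 6
 Tr.leaf)) 196686 6
 (Tr.node (Tr.node (Tr.node Tr.leaf 196688 4
 Tr.leaf) 196691 6
 Tr.leaf) 196693 6
 (Tr.node Tr.leaf 196694 5
 Tr.leaf)))) 196697 5
 (Tr.node (Tr.node (Tr.node (Tr.node (Tr.node Tr.leaf 196698 6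
 Tr.leaf) 196700 5
 Tr.leaf) 196703 6
 (Tr.node (Tr.node Tr.leaf 196704 5
 Tr.leaf) 196707 5
 Tr.leaf)) 196709 4
 (Tr.node (Tr.node (Tr.node Tr.leaf 196710 5
 Tr.leaf) 196713 4
 Tr.leaf) 196714 5
 (Tr.node Tr.leaf 196716 6
 Tr.leaf))) 196719 6
 (Tr.node (Tr.node (Tr.node (Tr.node Tr.leaf 196721 6
 Tr.leaf) 196722 6
 Tr.leaf) 196724 5
 (Tr.node Tr.leaf 196727 6
 Tr.leaf)) 196728 6
 (Tr.node (Tr.node (Tr.node Tr.leaf 196731 6
 Tr.leaf) 196733 6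
 Tr.leaf) 196734 6
 (Tr.node Tr.leaf 196739 6
 Tr.leaf))))) 196741 6
 (Tr.node (Tr.node (Tr.node (Tr.node (Tr.node (Tr.node Tr.leaf 196742 4
 Tr.leaf) 196745 3
 Tr.leaf) 196746 5
 (Tr.node (Tr.node Tr.leaf 196748 4
 Tr.leaf) 196751 6
 Tr.leaf)) 196753 3
 (Tr.node (Tr.node (Tr.node Tr.leaf 196754 5
 Tr.leaf) 196756 6
 Tr.leaf) 196759 4
 (Tr.node Tr.leaf 196760 6
 Tr.leaf))) 196763 5
 (Tr.node (Tr.node (Tr.node (Tr.node Tr.leaf 196765 5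
 Tr.leaf) 196766 6
 Tr.leaf) 196769 4
 (Tr.node Tr.leaf 196770 6
 Tr.leaf)) 196772 4
 (Tr.node (Tr.node (Tr.node Tr.leaf 196775 4
 Tr.leaf) 196776 6
 Tr.leaf) 196779 5
 (Tr.node Tr.leaf 196781 5
 Tr.leaf)))) 196782 6
 (Tr.node (Tr.node (Tr.node (Tr.node (Tr.node Tr.leaf 196784 3
 Tr.leaf) 196787 6
 Tr.leaf) 196789 6
 (Tr.node (Tr.node Tr.leaf 196790 5
 Tr.leaf) 196793 6
 Tr.leaf)) 196794 5
 (Tr.node (Tr.node (Tr.node Tr.leaf 196796 4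
 Tr.leaf) 196799 4
 Tr.leaf) 196801 4
 (Tr.node Tr.leaf 196802 5
 Tr.leaf))) 196804 4
 (Tr.node (Tr.node (Tr.node (Tr.node Tr.leaf 196807 6
 Tr.leaf) 196808 4
 Tr.leaf) 196811 6
 (Tr.node Tr.leaf 196813 6
 Tr.leaf)) 196814 5
 (Tr.node (Tr.node (Tr.node Tr.leaf 196816 5
 Tr.leaf) 196819 6
 Tr.leaf) 196821 6
 (Tr.node Tr.leaf 196822 5
 Tr.leaf))))))) 196825 6
 (Tr.node (Tr.node (Tr.node (Tr.node (Tr.node (Tr.node (Tr.node (Tr.node Tr.leaf 196826 5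
 Tr.leaf) 196828 6
 Tr.leaf) 196831 6
 (Tr.node (Tr.node Tr.leaf 196832 4
 Tr.leaf) 196835 6
 Tr.leaf)) 196837 6
 (Tr.node (Tr.node (Tr.node Tr.leaf 196838 5
 Tr.leaf) 196841 6
 Tr.leaf) 196842 6
 (Tr.node Tr.leaf 196844 5
 Tr.leaf))) 196847 6
 (Tr.node (Tr.node (Tr.node (Tr.node Tr.leaf 196849 6
 Tr.leaf) 196850 5
 Tr.leaf) 196852 5
 (Tr.node (Tr.node Tr.leaf 196855 5
 Tr.leaf) 196856 5
 Tr.leaf)) 196859 6
 (Tr.node (Tr.node (Tr.node Tr.leaf 196861 6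
 Tr.leaf) 196862 5
 Tr.leaf) 196867 6
 (Tr.node Tr.leaf 196869 6
 Tr.leaf)))) 196870 4
 (Tr.node (Tr.node (Tr.node (Tr.node (Tr.node Tr.leaf 196873 3
 Tr.leaf) 196874 3
 Tr.leaf) 196876 3
 (Tr.node (Tr.node Tr.leaf 196879 6
 Tr.leaf) 196881 4
 Tr.leaf)) 196882 4
 (Tr.node (Tr.node (Tr.node Tr.leaf 196884 6
 Tr.leaf) 196887 5
 Tr.leaf) 196888 6
 (Tr.node Tr.leaf 196891 6
 Tr.leaf))) 196893 5
 (Tr.node (Tr.node (Tr.node (Tr.node Tr.leaf 196894 6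
 Tr.leaf) 196897 3
 Tr.leaf) 196898 6
 (Tr.node Tr.leaf 196900 4
 Tr.leaf)) 196903 5
 (Tr.node (Tr.node (Tr.node Tr.leaf 196904 6
 Tr.leaf) 196907 5
 Tr.leaf) 196909 6
 (Tr.node Tr.leaf 196910 6
 Tr.leaf))))) 196912 3
 (Tr.node (Tr.node (Tr.node (Tr.node (Tr.node (Tr.node Tr.leaf 196915 4
 Tr.leaf) 196917 4
 Tr.leaf) 196918 5
 (Tr.node (Tr.node Tr.leaf 196921 6
 Tr.leaf) 196922 5
 Tr.leaf)) 196924 5
 (Tr.node (Tr.node (Tr.node Tr.leaf 196927 4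
 Tr.leaf) 196929 4
 Tr.leaf) 196930 5
 (Tr.node Tr.leaf 196932 4
 Tr.leaf))) 196935 7
 (Tr.node (Tr.node (Tr.node (Tr.node Tr.leaf 196936 4
 Tr.leaf) 196939 5
 Tr.leaf) 196941 5
 (Tr.node Tr.leaf 196942 6
 Tr.leaf)) 196944 5
 (Tr.node (Tr.node (Tr.node Tr.leaf 196947 4
 Tr.leaf) 196949 4
 Tr.leaf) 196950 5
 (Tr.node Tr.leaf 196953 6
 Tr.leaf)))) 196954 5
 (Tr.node (Tr.node (Tr.node (Tr.node (Tr.node Tr.leaf 196956 6
 Tr.leaf) 196959 6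
 Tr.leaf) 196960 4
 (Tr.node (Tr.node Tr.leaf 196963 4
 Tr.leaf) 196965 4
 Tr.leaf)) 196966 5
 (Tr.node (Tr.node (Tr.node Tr.leaf 196969 6
 Tr.leaf) 196970 6
 Tr.leaf) 196972 5
 (Tr.node Tr.leaf 196975 6
 Tr.leaf))) 196977 6
 (Tr.node (Tr.node (Tr.node (Tr.node Tr.leaf 196978 4
 Tr.leaf) 196980 4
 Tr.leaf) 196983 5
 (Tr.node Tr.leaf 196984 5
 Tr.leaf)) 196987 6
 (Tr.node (Tr.node (Tr.node Tr.leaf 196989 6
 Tr.leaf) 196990 6
 Tr.leaf) 196995 5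
 (Tr.node Tr.leaf 196997 6
 Tr.leaf)))))) 196998 5
 (Tr.node (Tr.node (Tr.node (Tr.node (Tr.node (Tr.node (Tr.node Tr.leaf 197001 5
 Tr.leaf) 197002 4
 Tr.leaf) 197004 4
 (Tr.node (Tr.node Tr.leaf 197007 6
 Tr.leaf) 197009 4
 Tr.leaf)) 197010 5
 (Tr.node (Tr.node (Tr.node Tr.leaf 197012 6
 Tr.leaf) 197015 4
 Tr.leaf) 197016 5
 (Tr.node Tr.leaf 197019 6
 Tr.leaf))) 197021 6
 (Tr.node (Tr.node (Tr.node (Tr.node Tr.leaf 197022 6
 Tr.leaf) 197025 4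
 Tr.leaf) 197026 6
 (Tr.node (Tr.node Tr.leaf 197028 4
 Tr.leaf) 197031 5
 Tr.leaf)) 197032 6
 (Tr.node (Tr.node (Tr.node Tr.leaf 197035 5
 Tr.leaf) 197037 5
 Tr.leaf) 197038 4
 (Tr.node Tr.leaf 197040 3
 Tr.leaf)))) 197043 6
 (Tr.node (Tr.node (Tr.node (Tr.node (Tr.node Tr.leaf 197045 6
 Tr.leaf) 197046 6
 Tr.leaf) 197049 6
 (Tr.node (Tr.node Tr.leaf 197050 5
 Tr.leaf) 197052 6
 Tr.leaf)) 197055 6
 (Tr.node (Tr.node (Tr.node Tr.leaf 197057 5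
 Tr.leaf) 197058 4
 Tr.leaf) 197060 4
 (Tr.node Tr.leaf 197063 5
 Tr.leaf))) 197064 4
 (Tr.node (Tr.node (Tr.node (Tr.node Tr.leaf 197067 6
 Tr.leaf) 197069 4
 Tr.leaf) 197070 6
 (Tr.node Tr.leaf 197072 4
 Tr.leaf)) 197075 5
 (Tr.node (Tr.node (Tr.node Tr.leaf 197077 4
 Tr.leaf) 197078 5
 Tr.leaf) 197081 4
 (Tr.node Tr.leaf 197082 6
 Tr.leaf))))) 197084 5
 (Tr.node (Tr.node (Tr.node (Tr.node (Tr.node (Tr.node Tr.leaf 197087 6
 Tr.leaf) 197088 4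
 Tr.leaf) 197091 6
 (Tr.node (Tr.node Tr.leaf 197093 6
 Tr.leaf) 197094 5
 Tr.leaf)) 197097 5
 (Tr.node (Tr.node (Tr.node Tr.leaf 197098 5
 Tr.leaf) 197100 6
 Tr.leaf) 197103 6
 (Tr.node Tr.leaf 197105 6
 Tr.leaf))) 197106 5
 (Tr.node (Tr.node (Tr.node (Tr.node Tr.leaf 197108 6
 Tr.leaf) 197111 6
 Tr.leaf) 197112 6
 (Tr.node Tr.leaf 197115 6
 Tr.leaf)) 197117 6
 (Tr.node (Tr.node (Tr.node Tr.leaf 197118 6
 Tr.leaf) 197633 5
 Tr.leaf) 197635 6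
 (Tr.node Tr.leaf 197645 6
 Tr.leaf)))) 197647 4
 (Tr.node (Tr.node (Tr.node (Tr.node (Tr.node Tr.leaf 197653 6
 Tr.leaf) 197655 6
 Tr.leaf) 197657 6
 (Tr.node (Tr.node Tr.leaf 197659 4
 Tr.leaf) 197669 6
 Tr.leaf)) 197671 6
 (Tr.node (Tr.node (Tr.node Tr.leaf 197673 6
 Tr.leaf) 197675 6
 Tr.leaf) 197681 6
 (Tr.node Tr.leaf 197683 6
 Tr.leaf))) 197693 6
 (Tr.node (Tr.node (Tr.node (Tr.node Tr.leaf 197695 6
 Tr.leaf) 197701 6
 Tr.leaf) 197703 5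
 (Tr.node Tr.leaf 197705 6
 Tr.leaf)) 197707 4
 (Tr.node (Tr.node (Tr.node Tr.leaf 197713 5
 Tr.leaf) 197715 4
 Tr.leaf) 197725 6
 (Tr.node Tr.leaf 197727 6
 Tr.leaf)))))))) 197729 6
 (Tr.node (Tr.node (Tr.node (Tr.node (Tr.node (Tr.node (Tr.node (Tr.node (Tr.node Tr.leaf 197731 6
 Tr.leaf) 197741 6
 Tr.leaf) 197743 6
 (Tr.node (Tr.node Tr.leaf 197749 6
 Tr.leaf) 197751 6
 Tr.leaf)) 197753 6
 (Tr.node (Tr.node (Tr.node Tr.leaf 197755 6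
 Tr.leaf) 197761 6
 Tr.leaf) 197763 6
 (Tr.node Tr.leaf 197773 5
 Tr.leaf))) 197775 6
 (Tr.node (Tr.node (Tr.node (Tr.node Tr.leaf 197781 4
 Tr.leaf) 197783 5
 Tr.leaf) 197785 6
 (Tr.node (Tr.node Tr.leaf 197787 6
 Tr.leaf) 197797 6
 Tr.leaf)) 197799 5
 (Tr.node (Tr.node (Tr.node Tr.leaf 197801 6
 Tr.leaf) 197803 6
 Tr.leaf) 197809 6
 (Tr.node Tr.leaf 197811 6
 Tr.leaf)))) 197821 6
 (Tr.node (Tr.node (Tr.node (Tr.node (Tr.node Tr.leaf 197823 5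
 Tr.leaf) 197829 6
 Tr.leaf) 197831 6
 (Tr.node (Tr.node Tr.leaf 197833 6
 Tr.leaf) 197835 6
 Tr.leaf)) 197841 6
 (Tr.node (Tr.node (Tr.node Tr.leaf 197843 6
 Tr.leaf) 197853 6
 Tr.leaf) 197855 6
 (Tr.node Tr.leaf 197857 6
 Tr.leaf))) 197859 6
 (Tr.node (Tr.node (Tr.node (Tr.node Tr.leaf 197869 6
 Tr.leaf) 197871 6
 Tr.leaf) 197877 5
 (Tr.node Tr.leaf 197879 5
 Tr.leaf)) 197881 5
 (Tr.node (Tr.node (Tr.node Tr.leaf 197883 5
 Tr.leaf) 197889 6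
 Tr.leaf) 197891 6
 (Tr.node Tr.leaf 197901 6
 Tr.leaf))))) 197903 5
 (Tr.node (Tr.node (Tr.node (Tr.node (Tr.node (Tr.node Tr.leaf 197909 7
 Tr.leaf) 197911 6
 Tr.leaf) 197913 6
 (Tr.node (Tr.node Tr.leaf 197915 6
 Tr.leaf) 197925 4
 Tr.leaf)) 197927 5
 (Tr.node (Tr.node (Tr.node Tr.leaf 197929 6
 Tr.leaf) 197931 5
 Tr.leaf) 197937 5
 (Tr.node Tr.leaf 197939 5
 Tr.leaf))) 197949 6
 (Tr.node (Tr.node (Tr.node (Tr.node Tr.leaf 197951 6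
 Tr.leaf) 197957 6
 Tr.leaf) 197959 6
 (Tr.node (Tr.node Tr.leaf 197961 6
 Tr.leaf) 197963 6
 Tr.leaf)) 197969 6
 (Tr.node (Tr.node (Tr.node Tr.leaf 197971 6
 Tr.leaf) 197981 6
 Tr.leaf) 197983 6
 (Tr.node Tr.leaf 197985 6
 Tr.leaf)))) 197987 6
 (Tr.node (Tr.node (Tr.node (Tr.node (Tr.node Tr.leaf 197997 6
 Tr.leaf) 197999 6
 Tr.leaf) 198005 5
 (Tr.node (Tr.node Tr.leaf 198007 7
 Tr.leaf) 198009 5
 Tr.leaf)) 198011 6
 (Tr.node (Tr.node (Tr.node Tr.leaf 198017 6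
 Tr.leaf) 198019 6
 Tr.leaf) 198029 6
 (Tr.node Tr.leaf 198031 4
 Tr.leaf))) 198037 6
 (Tr.node (Tr.node (Tr.node (Tr.node Tr.leaf 198039 4
 Tr.leaf) 198041 6
 Tr.leaf) 198043 4
 (Tr.node Tr.leaf 198053 6
 Tr.leaf)) 198055 6
 (Tr.node (Tr.node (Tr.node Tr.leaf 198057 6
 Tr.leaf) 198059 6
 Tr.leaf) 198065 6
 (Tr.node Tr.leaf 198067 6
 Tr.leaf)))))) 198077 6
 (Tr.node (Tr.node (Tr.node (Tr.node (Tr.node (Tr.node (Tr.node Tr.leaf 198079 6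
 Tr.leaf) 198085 6
 Tr.leaf) 198087 6
 (Tr.node (Tr.node Tr.leaf 198089 6
 Tr.leaf) 198091 6
 Tr.leaf)) 198097 6
 (Tr.node (Tr.node (Tr.node Tr.leaf 198099 5
 Tr.leaf) 198109 6
 Tr.leaf) 198111 6
 (Tr.node Tr.leaf 198113 4
 Tr.leaf))) 198115 6
 (Tr.node (Tr.node (Tr.node (Tr.node Tr.leaf 198125 6
 Tr.leaf) 198127 5
 Tr.leaf) 198133 6
 (Tr.node (Tr.node Tr.leaf 198135 6
 Tr.leaf) 198137 6
 Tr.leaf)) 198139 6
 (Tr.node (Tr.node (Tr.node Tr.leaf 198657 6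
 Tr.leaf) 198658 4
 Tr.leaf) 198661 6
 (Tr.node Tr.leaf 198662 4
 Tr.leaf)))) 198667 5
 (Tr.node (Tr.node (Tr.node (Tr.node (Tr.node Tr.leaf 198671 6
 Tr.leaf) 198675 6
 Tr.leaf) 198679 6
 (Tr.node (Tr.node Tr.leaf 198681 6
 Tr.leaf) 198682 6
 Tr.leaf)) 198685 6
 (Tr.node (Tr.node (Tr.node Tr.leaf 198686 6
 Tr.leaf) 198691 5
 Tr.leaf) 198695 6
 (Tr.node Tr.leaf 198697 4
 Tr.leaf))) 198698 6
 (Tr.node (Tr.node (Tr.node (Tr.node Tr.leaf 198701 6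
 Tr.leaf) 198702 6
 Tr.leaf) 198705 6
 (Tr.node Tr.leaf 198706 6
 Tr.leaf)) 198709 6
 (Tr.node (Tr.node (Tr.node Tr.leaf 198710 6
 Tr.leaf) 198715 6
 Tr.leaf) 198719 6
 (Tr.node Tr.leaf 198723 6
 Tr.leaf))))) 198727 6
 (Tr.node (Tr.node (Tr.node (Tr.node (Tr.node (Tr.node Tr.leaf 198729 6
 Tr.leaf) 198730 4
 Tr.leaf) 198733 6
 (Tr.node (Tr.node Tr.leaf 198734 5
 Tr.leaf) 198737 6
 Tr.leaf)) 198738 6
 (Tr.node (Tr.node (Tr.node Tr.leaf 198741 4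
 Tr.leaf) 198742 6
 Tr.leaf) 198747 5
 (Tr.node Tr.leaf 198751 6
 Tr.leaf))) 198753 5
 (Tr.node (Tr.node (Tr.node (Tr.node Tr.leaf 198754 4
 Tr.leaf) 198757 6
 Tr.leaf) 198758 6
 (Tr.node Tr.leaf 198763 6
 Tr.leaf)) 198767 6
 (Tr.node (Tr.node (Tr.node Tr.leaf 198771 6
 Tr.leaf) 198775 6
 Tr.leaf) 198777 6
 (Tr.node Tr.leaf 198778 6
 Tr.leaf)))) 198781 6
 (Tr.node (Tr.node (Tr.node (Tr.node (Tr.node Tr.leaf 198782 6
 Tr.leaf) 198785 6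
 Tr.leaf) 198786 3
 (Tr.node (Tr.node Tr.leaf 198789 6
 Tr.leaf) 198790 4
 Tr.leaf)) 198795 6
 (Tr.node (Tr.node (Tr.node Tr.leaf 198799 5
 Tr.leaf) 198803 5
 Tr.leaf) 198807 5
 (Tr.node Tr.leaf 198809 6
 Tr.leaf))) 198810 6
 (Tr.node (Tr.node (Tr.node (Tr.node Tr.leaf 198813 5
 Tr.leaf) 198814 3
 Tr.leaf) 198819 5
 (Tr.node Tr.leaf 198823 4
 Tr.leaf)) 198825 6
 (Tr.node (Tr.node (Tr.node Tr.leaf 198826 6
 Tr.leaf) 198829 6
 Tr.leaf) 198830 4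
 (Tr.node Tr.leaf 198833 6
 Tr.leaf))))))) 198834 6
 (Tr.node (Tr.node (Tr.node (Tr.node (Tr.node (Tr.node (Tr.node (Tr.node Tr.leaf 198837 6
 Tr.leaf) 198838 6
 Tr.leaf) 198843 5
 (Tr.node (Tr.node Tr.leaf 198847 6
 Tr.leaf) 198851 6
 Tr.leaf)) 198855 6
 (Tr.node (Tr.node (Tr.node Tr.leaf 198857 6
 Tr.leaf) 198858 6
 Tr.leaf) 198861 6
 (Tr.node Tr.leaf 198862 6
 Tr.leaf))) 198865 6
 (Tr.node (Tr.node (Tr.node (Tr.node Tr.leaf 198866 6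
 Tr.leaf) 198869 6
 Tr.leaf) 198870 6
 (Tr.node (Tr.node Tr.leaf 198875 6
 Tr.leaf) 198879 6
 Tr.leaf)) 198881 6
 (Tr.node (Tr.node (Tr.node Tr.leaf 198882 6
 Tr.leaf) 198885 6
 Tr.leaf) 198886 3
 (Tr.node Tr.leaf 198891 6
 Tr.leaf)))) 198895 6
 (Tr.node (Tr.node (Tr.node (Tr.node (Tr.node Tr.leaf 198899 6
 Tr.leaf) 198903 5
 Tr.leaf) 198905 5
 (Tr.node (Tr.node Tr.leaf 198906 6
 Tr.leaf) 198909 5
 Tr.leaf)) 198910 6
 (Tr.node (Tr.node (Tr.node Tr.leaf 198913 6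
 Tr.leaf) 198914 5
 Tr.leaf) 198917 6
 (Tr.node Tr.leaf 198918 5
 Tr.leaf))) 198923 5
 (Tr.node (Tr.node (Tr.node (Tr.node Tr.leaf 198927 6
 Tr.leaf) 198931 6
 Tr.leaf) 198935 4
 (Tr.node Tr.leaf 198937 6
 Tr.leaf)) 198938 3
 (Tr.node (Tr.node (Tr.node Tr.leaf 198941 6
 Tr.leaf) 198942 6
 Tr.leaf) 198947 5
 (Tr.node Tr.leaf 198951 6
 Tr.leaf))))) 198953 6
 (Tr.node (Tr.node (Tr.node (Tr.node (Tr.node (Tr.node Tr.leaf 198954 6
 Tr.leaf) 198957 6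
 Tr.leaf) 198958 6
 (Tr.node (Tr.node Tr.leaf 198961 5
 Tr.leaf) 198962 6
 Tr.leaf)) 198965 4
 (Tr.node (Tr.node (Tr.node Tr.leaf 198966 6
 Tr.leaf) 198971 6
 Tr.leaf) 198975 6
 (Tr.node Tr.leaf 198979 6
 Tr.leaf))) 198983 6
 (Tr.node (Tr.node (Tr.node (Tr.node Tr.leaf 198985 6
 Tr.leaf) 198986 6
 Tr.leaf) 198989 6
 (Tr.node Tr.leaf 198990 4
 Tr.leaf)) 198993 6
 (Tr.node (Tr.node (Tr.node Tr.leaf 198994 6
 Tr.leaf) 198997 6
 Tr.leaf) 198998 5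
 (Tr.node Tr.leaf 199003 5
 Tr.leaf)))) 199007 6
 (Tr.node (Tr.node (Tr.node (Tr.node (Tr.node Tr.leaf 199009 6
 Tr.leaf) 199010 3
 Tr.leaf) 199013 6
 (Tr.node (Tr.node Tr.leaf 199014 6
 Tr.leaf) 199019 6
 Tr.leaf)) 199023 5
 (Tr.node (Tr.node (Tr.node Tr.leaf 199027 7
 Tr.leaf) 199031 5
 Tr.leaf) 199033 6
 (Tr.node Tr.leaf 199034 4
 Tr.leaf))) 199037 5
 (Tr.node (Tr.node (Tr.node (Tr.node Tr.leaf 199038 6
 Tr.leaf) 199041 6
 Tr.leaf) 199042 5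
 (Tr.node Tr.leaf 199045 5
 Tr.leaf)) 199046 3
 (Tr.node (Tr.node (Tr.node Tr.leaf 199051 5
 Tr.leaf) 199055 6
 Tr.leaf) 199059 7
 (Tr.node Tr.leaf 199063 6
 Tr.leaf)))))) 199065 6
 (Tr.node (Tr.node (Tr.node (Tr.node (Tr.node (Tr.node (Tr.node Tr.leaf 199066 6
 Tr.leaf) 199069 6
 Tr.leaf) 199070 6
 (Tr.node (Tr.node Tr.leaf 199075 6
 Tr.leaf) 199079 6
 Tr.leaf)) 199081 4
 (Tr.node (Tr.node (Tr.node Tr.leaf 199082 5
 Tr.leaf) 199085 6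
 Tr.leaf) 199086 6
 (Tr.node Tr.leaf 199089 6
 Tr.leaf))) 199090 6
 (Tr.node (Tr.node (Tr.node (Tr.node Tr.leaf 199093 6
 Tr.leaf) 199094 6
 Tr.leaf) 199099 6
 (Tr.node (Tr.node Tr.leaf 199103 6
 Tr.leaf) 199107 5
 Tr.leaf)) 199111 6
 (Tr.node (Tr.node (Tr.node Tr.leaf 199113 4
 Tr.leaf) 199114 4
 Tr.leaf) 199117 6
 (Tr.node Tr.leaf 199118 5
 Tr.leaf)))) 199121 6
 (Tr.node (Tr.node (Tr.node (Tr.node (Tr.node Tr.leaf 199122 5
 Tr.leaf) 199125 6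
 Tr.leaf) 199126 6
 (Tr.node (Tr.node Tr.leaf 199131 6
 Tr.leaf) 199135 6
 Tr.leaf)) 199137 5
 (Tr.node (Tr.node (Tr.node Tr.leaf 199138 6
 Tr.leaf) 199141 5
 Tr.leaf) 199142 6
 (Tr.node Tr.leaf 199147 6
 Tr.leaf))) 199151 6
 (Tr.node (Tr.node (Tr.node (Tr.node Tr.leaf 199155 6
 Tr.leaf) 199159 6
 Tr.leaf) 199161 6
 (Tr.node Tr.leaf 199162 5
 Tr.leaf)) 199165 6
 (Tr.node (Tr.node (Tr.node Tr.leaf 199166 5
 Tr.leaf) 199689 6
 Tr.leaf) 199691 6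
 (Tr.node Tr.leaf 199693 4
 Tr.leaf))))) 199695 7
 (Tr.node (Tr.node (Tr.node (Tr.node (Tr.node (Tr.node Tr.leaf 199697 5
 Tr.leaf) 199699 6
 Tr.leaf) 199701 4
 (Tr.node (Tr.node Tr.leaf 199703 4
 Tr.leaf) 199713 5
 Tr.leaf)) 199715 6
 (Tr.node (Tr.node (Tr.node Tr.leaf 199717 6
 Tr.leaf) 199719 5
 Tr.leaf) 199737 6
 (Tr.node Tr.leaf 199739 6
 Tr.leaf))) 199741 6
 (Tr.node (Tr.node (Tr.node (Tr.node Tr.leaf 199743 6
 Tr.leaf) 199745 5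
 Tr.leaf) 199747 6
 (Tr.node Tr.leaf 199749 5
 Tr.leaf)) 199751 6
 (Tr.node (Tr.node (Tr.node Tr.leaf 199769 6
 Tr.leaf) 199771 6
 Tr.leaf) 199773 6
 (Tr.node Tr.leaf 199775 5
 Tr.leaf)))) 199785 6
 (Tr.node (Tr.node (Tr.node (Tr.node (Tr.node Tr.leaf 199787 5
 Tr.leaf) 199789 6
 Tr.leaf) 199791 6
 (Tr.node (Tr.node Tr.leaf 199793 6
 Tr.leaf) 199795 6
 Tr.leaf)) 199797 6
 (Tr.node (Tr.node (Tr.node Tr.leaf 199799 6
 Tr.leaf) 199817 5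
 Tr.leaf) 199819 5
 (Tr.node Tr.leaf 199821 7
 Tr.leaf))) 199823 5
 (Tr.node (Tr.node (Tr.node (Tr.node Tr.leaf 199825 6
 Tr.leaf) 199827 5
 Tr.leaf) 199829 6
 (Tr.node Tr.leaf 199831 6
 Tr.leaf)) 199841 6
 (Tr.node (Tr.node (Tr.node Tr.leaf 199843 6
 Tr.leaf) 199845 6
 Tr.leaf) 199847 7
 (Tr.node Tr.leaf 199865 6
 Tr.leaf)))))))))

/-- A subtree. -/
def tr2_s49 : Tr := (Tr.node (Tr.node (Tr.node (Tr.node (Tr.node (Tr.node (Tr.node (Tr.node (Tr.node (Tr.node Tr.leaf 199869 6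
 Tr.leaf) 199871 6
 Tr.leaf) 199873 6
 (Tr.node (Tr.node Tr.leaf 199875 5
 Tr.leaf) 199877 6
 Tr.leaf)) 199879 6
 (Tr.node (Tr.node (Tr.node Tr.leaf 199897 6
 Tr.leaf) 199899 5
 Tr.leaf) 199901 6
 (Tr.node Tr.leaf 199903 5
 Tr.leaf))) 199913 6
 (Tr.node (Tr.node (Tr.node (Tr.node Tr.leaf 199915 5
 Tr.leaf) 199917 6
 Tr.leaf) 199919 6
 (Tr.node (Tr.node Tr.leaf 199921 6
 Tr.leaf) 199923 5
 Tr.leaf)) 199925 6
 (Tr.node (Tr.node (Tr.node Tr.leaf 199927 6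
 Tr.leaf) 199945 6
 Tr.leaf) 199947 6
 (Tr.node Tr.leaf 199949 5
 Tr.leaf)))) 199951 6
 (Tr.node (Tr.node (Tr.node (Tr.node (Tr.node Tr.leaf 199953 6
 Tr.leaf) 199955 6
 Tr.leaf) 199957 4
 (Tr.node (Tr.node Tr.leaf 199959 6
 Tr.leaf) 199969 6
 Tr.leaf)) 199971 6
 (Tr.node (Tr.node (Tr.node Tr.leaf 199973 5
 Tr.leaf) 199975 6
 Tr.leaf) 199993 6
 (Tr.node Tr.leaf 199995 6
 Tr.leaf))) 199997 6
 (Tr.node (Tr.node (Tr.node (Tr.node Tr.leaf 199999 6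
 Tr.leaf) 200001 6
 Tr.leaf) 200003 6
 (Tr.node Tr.leaf 200005 5
 Tr.leaf)) 200007 6
 (Tr.node (Tr.node (Tr.node Tr.leaf 200025 6
 Tr.leaf) 200027 6
 Tr.leaf) 200029 6
 (Tr.node Tr.leaf 200031 6
 Tr.leaf))))) 200041 6
 (Tr.node (Tr.node (Tr.node (Tr.node (Tr.node (Tr.node Tr.leaf 200043 6
 Tr.leaf) 200045 6
 Tr.leaf) 200047 5
 (Tr.node (Tr.node Tr.leaf 200049 5
 Tr.leaf) 200051 6
 Tr.leaf)) 200053 5
 (Tr.node (Tr.node (Tr.node Tr.leaf 200055 5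
 Tr.leaf) 200073 6
 Tr.leaf) 200075 6
 (Tr.node Tr.leaf 200077 4
 Tr.leaf))) 200079 6
 (Tr.node (Tr.node (Tr.node (Tr.node Tr.leaf 200081 6
 Tr.leaf) 200083 6
 Tr.leaf) 200085 6
 (Tr.node (Tr.node Tr.leaf 200087 5
 Tr.leaf) 200097 4
 Tr.leaf)) 200099 6
 (Tr.node (Tr.node (Tr.node Tr.leaf 200101 4
 Tr.leaf) 200103 6
 Tr.leaf) 200121 6
 (Tr.node Tr.leaf 200123 6
 Tr.leaf)))) 200125 6
 (Tr.node (Tr.node (Tr.node (Tr.node (Tr.node Tr.leaf 200127 6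
 Tr.leaf) 200129 6
 Tr.leaf) 200131 6
 (Tr.node (Tr.node Tr.leaf 200133 5
 Tr.leaf) 200135 6
 Tr.leaf)) 200153 6
 (Tr.node (Tr.node (Tr.node Tr.leaf 200155 5
 Tr.leaf) 200157 6
 Tr.leaf) 200159 6
 (Tr.node Tr.leaf 200169 5
 Tr.leaf))) 200171 6
 (Tr.node (Tr.node (Tr.node (Tr.node Tr.leaf 200173 6
 Tr.leaf) 200175 6
 Tr.leaf) 200177 6
 (Tr.node Tr.leaf 200179 6
 Tr.leaf)) 200181 6
 (Tr.node (Tr.node (Tr.node Tr.leaf 200183 6
 Tr.leaf) 200705 5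
 Tr.leaf) 200706 4
 (Tr.node Tr.leaf 200708 4
 Tr.leaf)))))) 200711 6
 (Tr.node (Tr.node (Tr.node (Tr.node (Tr.node (Tr.node (Tr.node Tr.leaf 200713 3
 Tr.leaf) 200714 4
 Tr.leaf) 200716 5
 (Tr.node (Tr.node Tr.leaf 200719 5
 Tr.leaf) 200723 6
 Tr.leaf)) 200725 6
 (Tr.node (Tr.node (Tr.node Tr.leaf 200726 3
 Tr.leaf) 200731 6
 Tr.leaf) 200733 6
 (Tr.node Tr.leaf 200734 4
 Tr.leaf))) 200739 6
 (Tr.node (Tr.node (Tr.node (Tr.node Tr.leaf 200741 4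
 Tr.leaf) 200742 3
 Tr.leaf) 200747 6
 (Tr.node (Tr.node Tr.leaf 200749 6
 Tr.leaf) 200750 4
 Tr.leaf)) 200753 6
 (Tr.node (Tr.node (Tr.node Tr.leaf 200754 6
 Tr.leaf) 200756 6
 Tr.leaf) 200759 6
 (Tr.node Tr.leaf 200761 6
 Tr.leaf)))) 200762 5
 (Tr.node (Tr.node (Tr.node (Tr.node (Tr.node Tr.leaf 200764 6
 Tr.leaf) 200767 6
 Tr.leaf) 200771 5
 (Tr.node (Tr.node Tr.leaf 200773 4
 Tr.leaf) 200774 6
 Tr.leaf)) 200779 5
 (Tr.node (Tr.node (Tr.node Tr.leaf 200781 6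
 Tr.leaf) 200782 6
 Tr.leaf) 200785 5
 (Tr.node Tr.leaf 200786 6
 Tr.leaf))) 200788 6
 (Tr.node (Tr.node (Tr.node (Tr.node Tr.leaf 200791 6
 Tr.leaf) 200793 5
 Tr.leaf) 200794 6
 (Tr.node Tr.leaf 200796 5
 Tr.leaf)) 200799 6
 (Tr.node (Tr.node (Tr.node Tr.leaf 200801 6
 Tr.leaf) 200802 6
 Tr.leaf) 200804 6
 (Tr.node Tr.leaf 200807 6
 Tr.leaf))))) 200809 5
 (Tr.node (Tr.node (Tr.node (Tr.node (Tr.node (Tr.node Tr.leaf 200810 4
 Tr.leaf) 200812 6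
 Tr.leaf) 200815 6
 (Tr.node (Tr.node Tr.leaf 200819 6
 Tr.leaf) 200821 6
 Tr.leaf)) 200822 6
 (Tr.node (Tr.node (Tr.node Tr.leaf 200827 6
 Tr.leaf) 200829 6
 Tr.leaf) 200830 6
 (Tr.node Tr.leaf 200833 4
 Tr.leaf))) 200834 4
 (Tr.node (Tr.node (Tr.node (Tr.node Tr.leaf 200836 5
 Tr.leaf) 200839 4
 Tr.leaf) 200841 4
 (Tr.node Tr.leaf 200842 4
 Tr.leaf)) 200844 4
 (Tr.node (Tr.node (Tr.node Tr.leaf 200847 4
 Tr.leaf) 200851 6
 Tr.leaf) 200853 6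
 (Tr.node Tr.leaf 200854 6
 Tr.leaf)))) 200859 5
 (Tr.node (Tr.node (Tr.node (Tr.node (Tr.node Tr.leaf 200861 6
 Tr.leaf) 200862 6
 Tr.leaf) 200867 6
 (Tr.node (Tr.node Tr.leaf 200869 4
 Tr.leaf) 200870 6
 Tr.leaf)) 200875 6
 (Tr.node (Tr.node (Tr.node Tr.leaf 200877 6
 Tr.leaf) 200878 6
 Tr.leaf) 200881 4
 (Tr.node Tr.leaf 200882 6
 Tr.leaf))) 200884 6
 (Tr.node (Tr.node (Tr.node (Tr.node Tr.leaf 200887 5
 Tr.leaf) 200889 5
 Tr.leaf) 200890 6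
 (Tr.node Tr.leaf 200892 6
 Tr.leaf)) 200895 5
 (Tr.node (Tr.node (Tr.node Tr.leaf 200899 4
 Tr.leaf) 200901 6
 Tr.leaf) 200902 4
 (Tr.node Tr.leaf 200907 6
 Tr.leaf))))))) 200909 5
 (Tr.node (Tr.node (Tr.node (Tr.node (Tr.node (Tr.node (Tr.node (Tr.node Tr.leaf 200910 5
 Tr.leaf) 200913 5
 Tr.leaf) 200914 6
 (Tr.node (Tr.node Tr.leaf 200916 3
 Tr.leaf) 200919 6
 Tr.leaf)) 200921 6
 (Tr.node (Tr.node (Tr.node Tr.leaf 200922 6
 Tr.leaf) 200924 6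
 Tr.leaf) 200927 6
 (Tr.node Tr.leaf 200929 6
 Tr.leaf))) 200930 6
 (Tr.node (Tr.node (Tr.node (Tr.node Tr.leaf 200932 6
 Tr.leaf) 200935 6
 Tr.leaf) 200937 6
 (Tr.node (Tr.node Tr.leaf 200938 4
 Tr.leaf) 200940 6
 Tr.leaf)) 200943 6
 (Tr.node (Tr.node (Tr.node Tr.leaf 200947 6
 Tr.leaf) 200949 6
 Tr.leaf) 200950 5
 (Tr.node Tr.leaf 200955 6
 Tr.leaf)))) 200957 6
 (Tr.node (Tr.node (Tr.node (Tr.node (Tr.node Tr.leaf 200958 5
 Tr.leaf) 200961 4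
 Tr.leaf) 200962 4
 (Tr.node (Tr.node Tr.leaf 200964 4
 Tr.leaf) 200967 6
 Tr.leaf)) 200969 4
 (Tr.node (Tr.node (Tr.node Tr.leaf 200970 4
 Tr.leaf) 200972 4
 Tr.leaf) 200975 6
 (Tr.node Tr.leaf 200979 6
 Tr.leaf))) 200981 6
 (Tr.node (Tr.node (Tr.node (Tr.node Tr.leaf 200982 6
 Tr.leaf) 200987 4
 Tr.leaf) 200989 6
 (Tr.node Tr.leaf 200990 6
 Tr.leaf)) 200995 6
 (Tr.node (Tr.node (Tr.node Tr.leaf 200997 4
 Tr.leaf) 200998 6
 Tr.leaf) 201003 6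
 (Tr.node Tr.leaf 201005 6
 Tr.leaf))))) 201006 6
 (Tr.node (Tr.node (Tr.node (Tr.node (Tr.node (Tr.node Tr.leaf 201009 6
 Tr.leaf) 201010 6
 Tr.leaf) 201012 4
 (Tr.node (Tr.node Tr.leaf 201015 6
 Tr.leaf) 201017 6
 Tr.leaf)) 201018 4
 (Tr.node (Tr.node (Tr.node Tr.leaf 201020 6
 Tr.leaf) 201023 6
 Tr.leaf) 201027 4
 (Tr.node Tr.leaf 201029 6
 Tr.leaf))) 201030 6
 (Tr.node (Tr.node (Tr.node (Tr.node Tr.leaf 201035 6
 Tr.leaf) 201037 5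
 Tr.leaf) 201038 6
 (Tr.node Tr.leaf 201041 6
 Tr.leaf)) 201042 5
 (Tr.node (Tr.node (Tr.node Tr.leaf 201044 6
 Tr.leaf) 201047 6
 Tr.leaf) 201049 4
 (Tr.node Tr.leaf 201050 6
 Tr.leaf)))) 201052 3
 (Tr.node (Tr.node (Tr.node (Tr.node (Tr.node Tr.leaf 201055 5
 Tr.leaf) 201057 4
 Tr.leaf) 201058 4
 (Tr.node (Tr.node Tr.leaf 201060 6
 Tr.leaf) 201063 5
 Tr.leaf)) 201065 6
 (Tr.node (Tr.node (Tr.node Tr.leaf 201066 6
 Tr.leaf) 201068 5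
 Tr.leaf) 201071 6
 (Tr.node Tr.leaf 201075 5
 Tr.leaf))) 201077 6
 (Tr.node (Tr.node (Tr.node (Tr.node Tr.leaf 201078 6
 Tr.leaf) 201083 6
 Tr.leaf) 201085 5
 (Tr.node Tr.leaf 201086 6
 Tr.leaf)) 201089 3
 (Tr.node (Tr.node (Tr.node Tr.leaf 201090 4
 Tr.leaf) 201092 5
 Tr.leaf) 201095 5
 (Tr.node Tr.leaf 201097 5
 Tr.leaf)))))) 201098 4
 (Tr.node (Tr.node (Tr.node (Tr.node (Tr.node (Tr.node (Tr.node Tr.leaf 201100 4
 Tr.leaf) 201103 6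
 Tr.leaf) 201107 6
 (Tr.node (Tr.node Tr.leaf 201109 6
 Tr.leaf) 201110 4
 Tr.leaf)) 201115 4
 (Tr.node (Tr.node (Tr.node Tr.leaf 201117 6
 Tr.leaf) 201118 3
 Tr.leaf) 201123 6
 (Tr.node Tr.leaf 201125 6
 Tr.leaf))) 201126 4
 (Tr.node (Tr.node (Tr.node (Tr.node Tr.leaf 201131 6
 Tr.leaf) 201133 6
 Tr.leaf) 201134 4
 (Tr.node (Tr.node Tr.leaf 201137 6
 Tr.leaf) 201138 6
 Tr.leaf)) 201140 5
 (Tr.node (Tr.node (Tr.node Tr.leaf 201143 6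
 Tr.leaf) 201145 7
 Tr.leaf) 201146 6
 (Tr.node Tr.leaf 201148 6
 Tr.leaf)))) 201151 6
 (Tr.node (Tr.node (Tr.node (Tr.node (Tr.node Tr.leaf 201155 6
 Tr.leaf) 201157 5
 Tr.leaf) 201158 6
 (Tr.node (Tr.node Tr.leaf 201163 4
 Tr.leaf) 201165 5
 Tr.leaf)) 201166 6
 (Tr.node (Tr.node (Tr.node Tr.leaf 201169 6
 Tr.leaf) 201170 6
 Tr.leaf) 201172 5
 (Tr.node Tr.leaf 201175 6
 Tr.leaf))) 201177 6
 (Tr.node (Tr.node (Tr.node (Tr.node Tr.leaf 201178 6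
 Tr.leaf) 201180 6
 Tr.leaf) 201183 5
 (Tr.node Tr.leaf 201185 6
 Tr.leaf)) 201186 5
 (Tr.node (Tr.node (Tr.node Tr.leaf 201188 6
 Tr.leaf) 201191 6
 Tr.leaf) 201193 4
 (Tr.node Tr.leaf 201194 6
 Tr.leaf))))) 201196 6
 (Tr.node (Tr.node (Tr.node (Tr.node (Tr.node (Tr.node Tr.leaf 201199 6
 Tr.leaf) 201203 6
 Tr.leaf) 201205 6
 (Tr.node (Tr.node Tr.leaf 201206 6
 Tr.leaf) 201211 6
 Tr.leaf)) 201213 6
 (Tr.node (Tr.node (Tr.node Tr.leaf 201214 6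
 Tr.leaf) 201733 6
 Tr.leaf) 201735 4
 (Tr.node Tr.leaf 201741 6
 Tr.leaf))) 201743 5
 (Tr.node (Tr.node (Tr.node (Tr.node Tr.leaf 201745 5
 Tr.leaf) 201747 6
 Tr.leaf) 201753 6
 (Tr.node Tr.leaf 201755 5
 Tr.leaf)) 201761 6
 (Tr.node (Tr.node (Tr.node Tr.leaf 201763 6
 Tr.leaf) 201769 5
 Tr.leaf) 201771 6
 (Tr.node Tr.leaf 201781 6
 Tr.leaf)))) 201783 6
 (Tr.node (Tr.node (Tr.node (Tr.node (Tr.node Tr.leaf 201789 6
 Tr.leaf) 201791 6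
 Tr.leaf) 201793 6
 (Tr.node (Tr.node Tr.leaf 201795 5
 Tr.leaf) 201801 5
 Tr.leaf)) 201803 6
 (Tr.node (Tr.node (Tr.node Tr.leaf 201813 6
 Tr.leaf) 201815 6
 Tr.leaf) 201821 6
 (Tr.node Tr.leaf 201823 6
 Tr.leaf))) 201829 6
 (Tr.node (Tr.node (Tr.node (Tr.node Tr.leaf 201831 6
 Tr.leaf) 201837 5
 Tr.leaf) 201839 6
 (Tr.node Tr.leaf 201841 6
 Tr.leaf)) 201843 6
 (Tr.node (Tr.node (Tr.node Tr.leaf 201849 6
 Tr.leaf) 201851 6
 Tr.leaf) 201861 7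
 (Tr.node Tr.leaf 201863 6
 Tr.leaf)))))))) 201869 7
 (Tr.node (Tr.node (Tr.node (Tr.node (Tr.node (Tr.node (Tr.node (Tr.node (Tr.node Tr.leaf 201871 6
 Tr.leaf) 201873 5
 Tr.leaf) 201875 6
 (Tr.node (Tr.node Tr.leaf 201881 6
 Tr.leaf) 201883 6
 Tr.leaf)) 201889 5
 (Tr.node (Tr.node (Tr.node Tr.leaf 201891 6
 Tr.leaf) 201897 6
 Tr.leaf) 201899 6
 (Tr.node Tr.leaf 201909 6
 Tr.leaf))) 201911 5
 (Tr.node (Tr.node (Tr.node (Tr.node Tr.leaf 201917 6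
 Tr.leaf) 201919 6
 Tr.leaf) 201921 4
 (Tr.node (Tr.node Tr.leaf 201923 6
 Tr.leaf) 201929 7
 Tr.leaf)) 201931 6
 (Tr.node (Tr.node (Tr.node Tr.leaf 201941 6
 Tr.leaf) 201943 5
 Tr.leaf) 201949 6
 (Tr.node Tr.leaf 201951 6
 Tr.leaf)))) 201957 6
 (Tr.node (Tr.node (Tr.node (Tr.node (Tr.node Tr.leaf 201959 6
 Tr.leaf) 201965 6
 Tr.leaf) 201967 5
 (Tr.node (Tr.node Tr.leaf 201969 7
 Tr.leaf) 201971 6
 Tr.leaf)) 201977 6
 (Tr.node (Tr.node (Tr.node Tr.leaf 201979 6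
 Tr.leaf) 201989 4
 Tr.leaf) 201991 6
 (Tr.node Tr.leaf 201997 5
 Tr.leaf))) 201999 6
 (Tr.node (Tr.node (Tr.node (Tr.node Tr.leaf 202001 4
 Tr.leaf) 202003 6
 Tr.leaf) 202009 6
 (Tr.node Tr.leaf 202011 5
 Tr.leaf)) 202017 6
 (Tr.node (Tr.node (Tr.node Tr.leaf 202019 6
 Tr.leaf) 202025 6
 Tr.leaf) 202027 6
 (Tr.node Tr.leaf 202037 6
 Tr.leaf))))) 202039 6
 (Tr.node (Tr.node (Tr.node (Tr.node (Tr.node (Tr.node Tr.leaf 202045 6
 Tr.leaf) 202047 6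
 Tr.leaf) 202049 6
 (Tr.node (Tr.node Tr.leaf 202051 4
 Tr.leaf) 202057 6
 Tr.leaf)) 202059 6
 (Tr.node (Tr.node (Tr.node Tr.leaf 202069 6
 Tr.leaf) 202071 6
 Tr.leaf) 202077 7
 (Tr.node Tr.leaf 202079 6
 Tr.leaf))) 202085 6
 (Tr.node (Tr.node (Tr.node (Tr.node Tr.leaf 202087 5
 Tr.leaf) 202093 6
 Tr.leaf) 202095 6
 (Tr.node Tr.leaf 202097 6
 Tr.leaf)) 202099 6
 (Tr.node (Tr.node (Tr.node Tr.leaf 202105 5
 Tr.leaf) 202107 6
 Tr.leaf) 202117 6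
 (Tr.node Tr.leaf 202119 6
 Tr.leaf)))) 202125 7
 (Tr.node (Tr.node (Tr.node (Tr.node (Tr.node Tr.leaf 202127 4
 Tr.leaf) 202129 5
 Tr.leaf) 202131 6
 (Tr.node (Tr.node Tr.leaf 202137 6
 Tr.leaf) 202139 6
 Tr.leaf)) 202145 6
 (Tr.node (Tr.node (Tr.node Tr.leaf 202147 6
 Tr.leaf) 202153 7
 Tr.leaf) 202155 6
 (Tr.node Tr.leaf 202165 6
 Tr.leaf))) 202167 6
 (Tr.node (Tr.node (Tr.node (Tr.node Tr.leaf 202173 6
 Tr.leaf) 202175 6
 Tr.leaf) 202177 6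
 (Tr.node Tr.leaf 202179 6
 Tr.leaf)) 202185 4
 (Tr.node (Tr.node (Tr.node Tr.leaf 202187 6
 Tr.leaf) 202197 6
 Tr.leaf) 202199 5
 (Tr.node Tr.leaf 202205 6
 Tr.leaf)))))) 202207 6
 (Tr.node (Tr.node (Tr.node (Tr.node (Tr.node (Tr.node (Tr.node Tr.leaf 202213 6
 Tr.leaf) 202215 6
 Tr.leaf) 202221 5
 (Tr.node (Tr.node Tr.leaf 202223 5
 Tr.leaf) 202225 6
 Tr.leaf)) 202227 6
 (Tr.node (Tr.node (Tr.node Tr.leaf 202233 6
 Tr.leaf) 202235 6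
 Tr.leaf) 202755 5
 (Tr.node Tr.leaf 202759 6
 Tr.leaf))) 202763 6
 (Tr.node (Tr.node (Tr.node (Tr.node Tr.leaf 202767 6
 Tr.leaf) 202769 6
 Tr.leaf) 202770 5
 (Tr.node (Tr.node Tr.leaf 202773 7
 Tr.leaf) 202774 6
 Tr.leaf)) 202777 5
 (Tr.node (Tr.node (Tr.node Tr.leaf 202778 6
 Tr.leaf) 202781 6
 Tr.leaf) 202782 6
 (Tr.node Tr.leaf 202785 6
 Tr.leaf)))) 202786 6
 (Tr.node (Tr.node (Tr.node (Tr.node (Tr.node Tr.leaf 202789 6
 Tr.leaf) 202790 6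
 Tr.leaf) 202793 6
 (Tr.node (Tr.node Tr.leaf 202794 5
 Tr.leaf) 202797 5
 Tr.leaf)) 202798 6
 (Tr.node (Tr.node (Tr.node Tr.leaf 202803 6
 Tr.leaf) 202807 6
 Tr.leaf) 202811 6
 (Tr.node Tr.leaf 202815 6
 Tr.leaf))) 202817 6
 (Tr.node (Tr.node (Tr.node (Tr.node Tr.leaf 202818 5
 Tr.leaf) 202821 4
 Tr.leaf) 202822 5
 (Tr.node Tr.leaf 202825 6
 Tr.leaf)) 202826 5
 (Tr.node (Tr.node (Tr.node Tr.leaf 202829 6
 Tr.leaf) 202830 6
 Tr.leaf) 202835 5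
 (Tr.node Tr.leaf 202839 5
 Tr.leaf))))) 202843 6
 (Tr.node (Tr.node (Tr.node (Tr.node (Tr.node (Tr.node Tr.leaf 202847 6
 Tr.leaf) 202851 6
 Tr.leaf) 202855 6
 (Tr.node (Tr.node Tr.leaf 202859 5
 Tr.leaf) 202863 6
 Tr.leaf)) 202865 6
 (Tr.node (Tr.node (Tr.node Tr.leaf 202866 6
 Tr.leaf) 202869 6
 Tr.leaf) 202870 6
 (Tr.node Tr.leaf 202873 6
 Tr.leaf))) 202874 6
 (Tr.node (Tr.node (Tr.node (Tr.node Tr.leaf 202877 6
 Tr.leaf) 202878 6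
 Tr.leaf) 202883 7
 (Tr.node Tr.leaf 202887 6
 Tr.leaf)) 202891 7
 (Tr.node (Tr.node (Tr.node Tr.leaf 202895 6
 Tr.leaf) 202897 6
 Tr.leaf) 202898 6
 (Tr.node Tr.leaf 202901 6
 Tr.leaf)))) 202902 5
 (Tr.node (Tr.node (Tr.node (Tr.node (Tr.node Tr.leaf 202905 6
 Tr.leaf) 202906 6
 Tr.leaf) 202909 5
 (Tr.node (Tr.node Tr.leaf 202910 4
 Tr.leaf) 202913 6
 Tr.leaf)) 202914 6
 (Tr.node (Tr.node (Tr.node Tr.leaf 202917 6
 Tr.leaf) 202918 5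
 Tr.leaf) 202921 6
 (Tr.node Tr.leaf 202922 6
 Tr.leaf))) 202925 4
 (Tr.node (Tr.node (Tr.node (Tr.node Tr.leaf 202926 3
 Tr.leaf) 202931 6
 Tr.leaf) 202935 6
 (Tr.node Tr.leaf 202939 5
 Tr.leaf)) 202943 6
 (Tr.node (Tr.node (Tr.node Tr.leaf 202945 6
 Tr.leaf) 202946 6
 Tr.leaf) 202949 6
 (Tr.node Tr.leaf 202950 6
 Tr.leaf))))))) 202953 6
 (Tr.node (Tr.node (Tr.node (Tr.node (Tr.node (Tr.node (Tr.node (Tr.node Tr.leaf 202954 5
 Tr.leaf) 202957 4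
 Tr.leaf) 202958 6
 (Tr.node (Tr.node Tr.leaf 202963 5
 Tr.leaf) 202967 6
 Tr.leaf)) 202971 6
 (Tr.node (Tr.node (Tr.node Tr.leaf 202975 6
 Tr.leaf) 202979 6
 Tr.leaf) 202983 6
 (Tr.node Tr.leaf 202987 5
 Tr.leaf))) 202991 6
 (Tr.node (Tr.node (Tr.node (Tr.node Tr.leaf 202993 6
 Tr.leaf) 202994 6
 Tr.leaf) 202997 6
 (Tr.node (Tr.node Tr.leaf 202998 5
 Tr.leaf) 203001 6
 Tr.leaf)) 203002 5
 (Tr.node (Tr.node (Tr.node Tr.leaf 203005 7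
 Tr.leaf) 203006 6
 Tr.leaf) 203011 7
 (Tr.node Tr.leaf 203015 4
 Tr.leaf)))) 203019 6
 (Tr.node (Tr.node (Tr.node (Tr.node (Tr.node Tr.leaf 203023 4
 Tr.leaf) 203025 6
 Tr.leaf) 203026 5
 (Tr.node (Tr.node Tr.leaf 203029 6
 Tr.leaf) 203030 6
 Tr.leaf)) 203033 6
 (Tr.node (Tr.node (Tr.node Tr.leaf 203034 4
 Tr.leaf) 203037 6
 Tr.leaf) 203038 5
 (Tr.node Tr.leaf 203041 5
 Tr.leaf))) 203042 3
 (Tr.node (Tr.node (Tr.node (Tr.node Tr.leaf 203045 6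
 Tr.leaf) 203046 6
 Tr.leaf) 203049 6
 (Tr.node Tr.leaf 203050 4
 Tr.leaf)) 203053 4
 (Tr.node (Tr.node (Tr.node Tr.leaf 203054 6
 Tr.leaf) 203059 6
 Tr.leaf) 203063 6
 (Tr.node Tr.leaf 203067 6
 Tr.leaf))))) 203071 6
 (Tr.node (Tr.node (Tr.node (Tr.node (Tr.node (Tr.node Tr.leaf 203073 6
 Tr.leaf) 203074 6
 Tr.leaf) 203077 6
 (Tr.node (Tr.node Tr.leaf 203078 5
 Tr.leaf) 203081 4
 Tr.leaf)) 203082 7
 (Tr.node (Tr.node (Tr.node Tr.leaf 203085 6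
 Tr.leaf) 203086 5
 Tr.leaf) 203091 6
 (Tr.node Tr.leaf 203095 6
 Tr.leaf))) 203099 5
 (Tr.node (Tr.node (Tr.node (Tr.node Tr.leaf 203103 6
 Tr.leaf) 203107 6
 Tr.leaf) 203111 7
 (Tr.node Tr.leaf 203115 6
 Tr.leaf)) 203119 6
 (Tr.node (Tr.node (Tr.node Tr.leaf 203121 6
 Tr.leaf) 203122 6
 Tr.leaf) 203125 5
 (Tr.node Tr.leaf 203126 5
 Tr.leaf)))) 203129 6
 (Tr.node (Tr.node (Tr.node (Tr.node (Tr.node Tr.leaf 203130 5
 Tr.leaf) 203133 6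
 Tr.leaf) 203134 5
 (Tr.node (Tr.node Tr.leaf 203139 5
 Tr.leaf) 203143 6
 Tr.leaf)) 203147 5
 (Tr.node (Tr.node (Tr.node Tr.leaf 203151 6
 Tr.leaf) 203153 6
 Tr.leaf) 203154 6
 (Tr.node Tr.leaf 203157 6
 Tr.leaf))) 203158 6
 (Tr.node (Tr.node (Tr.node (Tr.node Tr.leaf 203161 6
 Tr.leaf) 203162 5
 Tr.leaf) 203165 6
 (Tr.node Tr.leaf 203166 6
 Tr.leaf)) 203169 5
 (Tr.node (Tr.node (Tr.node Tr.leaf 203170 6
 Tr.leaf) 203173 6
 Tr.leaf) 203174 6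
 (Tr.node Tr.leaf 203177 6
 Tr.leaf)))))) 203178 6
 (Tr.node (Tr.node (Tr.node (Tr.node (Tr.node (Tr.node (Tr.node Tr.leaf 203181 4
 Tr.leaf) 203182 6
 Tr.leaf) 203187 6
 (Tr.node (Tr.node Tr.leaf 203191 6
 Tr.leaf) 203195 6
 Tr.leaf)) 203199 6
 (Tr.node (Tr.node (Tr.node Tr.leaf 203201 6
 Tr.leaf) 203202 5
 Tr.leaf) 203205 5
 (Tr.node Tr.leaf 203206 5
 Tr.leaf))) 203209 5
 (Tr.node (Tr.node (Tr.node (Tr.node Tr.leaf 203210 4
 Tr.leaf) 203213 6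
 Tr.leaf) 203214 6
 (Tr.node (Tr.node Tr.leaf 203219 6
 Tr.leaf) 203223 5
 Tr.leaf)) 203227 6
 (Tr.node (Tr.node (Tr.node Tr.leaf 203231 6
 Tr.leaf) 203235 6
 Tr.leaf) 203239 6
 (Tr.node Tr.leaf 203243 6
 Tr.leaf)))) 203247 6
 (Tr.node (Tr.node (Tr.node (Tr.node (Tr.node Tr.leaf 203249 6
 Tr.leaf) 203250 6
 Tr.leaf) 203253 6
 (Tr.node (Tr.node Tr.leaf 203254 6
 Tr.leaf) 203257 6
 Tr.leaf)) 203258 5
 (Tr.node (Tr.node (Tr.node Tr.leaf 203261 6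
 Tr.leaf) 203262 6
 Tr.leaf) 203777 6
 (Tr.node Tr.leaf 203779 6
 Tr.leaf))) 203781 4
 (Tr.node (Tr.node (Tr.node (Tr.node Tr.leaf 203783 7
 Tr.leaf) 203785 5
 Tr.leaf) 203787 6
 (Tr.node Tr.leaf 203789 5
 Tr.leaf)) 203791 4
 (Tr.node (Tr.node (Tr.node Tr.leaf 203825 6
 Tr.leaf) 203827 6
 Tr.leaf) 203829 7
 (Tr.node Tr.leaf 203831 6
 Tr.leaf))))) 203833 6
 (Tr.node (Tr.node (Tr.node (Tr.node (Tr.node (Tr.node Tr.leaf 203835 6
 Tr.leaf) 203837 6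
 Tr.leaf) 203839 6
 (Tr.node (Tr.node Tr.leaf 203857 6
 Tr.leaf) 203859 5
 Tr.leaf)) 203861 6
 (Tr.node (Tr.node (Tr.node Tr.leaf 203863 6
 Tr.leaf) 203865 6
 Tr.leaf) 203867 6
 (Tr.node Tr.leaf 203869 6
 Tr.leaf))) 203871 6
 (Tr.node (Tr.node (Tr.node (Tr.node Tr.leaf 203873 6
 Tr.leaf) 203875 6
 Tr.leaf) 203877 6
 (Tr.node Tr.leaf 203879 5
 Tr.leaf)) 203881 5
 (Tr.node (Tr.node (Tr.node Tr.leaf 203883 5
 Tr.leaf) 203885 6
 Tr.leaf) 203887 6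
 (Tr.node Tr.leaf 203905 4
 Tr.leaf)))) 203907 6
 (Tr.node (Tr.node (Tr.node (Tr.node (Tr.node Tr.leaf 203909 6
 Tr.leaf) 203911 4
 Tr.leaf) 203913 4
 (Tr.node (Tr.node Tr.leaf 203915 6
 Tr.leaf) 203917 6
 Tr.leaf)) 203919 4
 (Tr.node (Tr.node (Tr.node Tr.leaf 203953 5
 Tr.leaf) 203955 5
 Tr.leaf) 203957 6
 (Tr.node Tr.leaf 203959 5
 Tr.leaf))) 203961 5
 (Tr.node (Tr.node (Tr.node (Tr.node Tr.leaf 203963 5
 Tr.leaf) 203965 6
 Tr.leaf) 203967 5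
 (Tr.node Tr.leaf 203985 6
 Tr.leaf)) 203987 6
 (Tr.node (Tr.node (Tr.node Tr.leaf 203989 6
 Tr.leaf) 203991 5
 Tr.leaf) 203993 5
 (Tr.node Tr.leaf 203995 5
 Tr.leaf)))))))))

/-- A subtree. -/
def tr2_s50 : Tr := (Tr.node (Tr.node (Tr.node (Tr.node (Tr.node (Tr.node (Tr.node (Tr.node (Tr.node (Tr.node Tr.leaf 203999 6
 Tr.leaf) 204001 6
 Tr.leaf) 204003 5
 (Tr.node (Tr.node Tr.leaf 204005 6
 Tr.leaf) 204007 5
 Tr.leaf)) 204009 5
 (Tr.node (Tr.node (Tr.node Tr.leaf 204011 6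
 Tr.leaf) 204013 6
 Tr.leaf) 204015 6
 (Tr.node Tr.leaf 204033 6
 Tr.leaf))) 204035 4
 (Tr.node (Tr.node (Tr.node (Tr.node Tr.leaf 204037 6
 Tr.leaf) 204039 6
 Tr.leaf) 204041 6
 (Tr.node (Tr.node Tr.leaf 204043 4
 Tr.leaf) 204045 6
 Tr.leaf)) 204047 6
 (Tr.node (Tr.node (Tr.node Tr.leaf 204081 5
 Tr.leaf) 204083 5
 Tr.leaf) 204085 6
 (Tr.node Tr.leaf 204087 7
 Tr.leaf)))) 204089 6
 (Tr.node (Tr.node (Tr.node (Tr.node (Tr.node Tr.leaf 204091 5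
 Tr.leaf) 204093 6
 Tr.leaf) 204095 5
 (Tr.node (Tr.node Tr.leaf 204113 6
 Tr.leaf) 204115 6
 Tr.leaf)) 204117 6
 (Tr.node (Tr.node (Tr.node Tr.leaf 204119 6
 Tr.leaf) 204121 6
 Tr.leaf) 204123 5
 (Tr.node Tr.leaf 204125 6
 Tr.leaf))) 204127 6
 (Tr.node (Tr.node (Tr.node (Tr.node Tr.leaf 204129 6
 Tr.leaf) 204131 5
 Tr.leaf) 204133 6
 (Tr.node Tr.leaf 204135 6
 Tr.leaf)) 204137 6
 (Tr.node (Tr.node (Tr.node Tr.leaf 204139 6
 Tr.leaf) 204141 6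
 Tr.leaf) 204143 5
 (Tr.node Tr.leaf 204161 4
 Tr.leaf))))) 204163 6
 (Tr.node (Tr.node (Tr.node (Tr.node (Tr.node (Tr.node Tr.leaf 204165 5
 Tr.leaf) 204167 5
 Tr.leaf) 204169 6
 (Tr.node (Tr.node Tr.leaf 204171 6
 Tr.leaf) 204173 4
 Tr.leaf)) 204175 6
 (Tr.node (Tr.node (Tr.node Tr.leaf 204209 6
 Tr.leaf) 204211 6
 Tr.leaf) 204213 6
 (Tr.node Tr.leaf 204215 6
 Tr.leaf))) 204217 6
 (Tr.node (Tr.node (Tr.node (Tr.node Tr.leaf 204219 6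
 Tr.leaf) 204221 6
 Tr.leaf) 204223 6
 (Tr.node (Tr.node Tr.leaf 204241 6
 Tr.leaf) 204243 5
 Tr.leaf)) 204245 6
 (Tr.node (Tr.node (Tr.node Tr.leaf 204247 5
 Tr.leaf) 204249 5
 Tr.leaf) 204251 6
 (Tr.node Tr.leaf 204253 6
 Tr.leaf)))) 204255 6
 (Tr.node (Tr.node (Tr.node (Tr.node (Tr.node Tr.leaf 204257 6
 Tr.leaf) 204259 5
 Tr.leaf) 204261 6
 (Tr.node (Tr.node Tr.leaf 204263 6
 Tr.leaf) 204265 6
 Tr.leaf)) 204267 5
 (Tr.node (Tr.node (Tr.node Tr.leaf 204269 6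
 Tr.leaf) 204271 6
 Tr.leaf) 204801 3
 (Tr.node Tr.leaf 204802 4
 Tr.leaf))) 204804 6
 (Tr.node (Tr.node (Tr.node (Tr.node Tr.leaf 204807 4
 Tr.leaf) 204808 6
 Tr.leaf) 204811 4
 (Tr.node Tr.leaf 204813 5
 Tr.leaf)) 204814 2
 (Tr.node (Tr.node (Tr.node Tr.leaf 204817 3
 Tr.leaf) 204818 4
 Tr.leaf) 204820 6
 (Tr.node Tr.leaf 204823 5
 Tr.leaf)))))) 204824 5
 (Tr.node (Tr.node (Tr.node (Tr.node (Tr.node (Tr.node (Tr.node Tr.leaf 204827 6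
 Tr.leaf) 204829 6
 Tr.leaf) 204830 5
 (Tr.node (Tr.node Tr.leaf 204835 4
 Tr.leaf) 204837 4
 Tr.leaf)) 204838 6
 (Tr.node (Tr.node (Tr.node Tr.leaf 204841 6
 Tr.leaf) 204842 5
 Tr.leaf) 204844 6
 (Tr.node Tr.leaf 204847 6
 Tr.leaf))) 204851 7
 (Tr.node (Tr.node (Tr.node (Tr.node Tr.leaf 204853 6
 Tr.leaf) 204854 6
 Tr.leaf) 204857 4
 (Tr.node (Tr.node Tr.leaf 204858 5
 Tr.leaf) 204860 5
 Tr.leaf)) 204863 5
 (Tr.node (Tr.node (Tr.node Tr.leaf 204867 6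
 Tr.leaf) 204869 6
 Tr.leaf) 204870 2
 (Tr.node Tr.leaf 204873 5
 Tr.leaf)))) 204874 3
 (Tr.node (Tr.node (Tr.node (Tr.node (Tr.node Tr.leaf 204876 3
 Tr.leaf) 204879 6
 Tr.leaf) 204883 4
 (Tr.node (Tr.node Tr.leaf 204885 6
 Tr.leaf) 204886 5
 Tr.leaf)) 204889 6
 (Tr.node (Tr.node (Tr.node Tr.leaf 204890 6
 Tr.leaf) 204892 5
 Tr.leaf) 204895 6
 (Tr.node Tr.leaf 204897 6
 Tr.leaf))) 204898 7
 (Tr.node (Tr.node (Tr.node (Tr.node Tr.leaf 204900 4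
 Tr.leaf) 204903 6
 Tr.leaf) 204904 6
 (Tr.node Tr.leaf 204907 5
 Tr.leaf)) 204909 6
 (Tr.node (Tr.node (Tr.node Tr.leaf 204910 6
 Tr.leaf) 204913 4
 Tr.leaf) 204914 5
 (Tr.node Tr.leaf 204916 4
 Tr.leaf))))) 204919 6
 (Tr.node (Tr.node (Tr.node (Tr.node (Tr.node (Tr.node Tr.leaf 204920 5
 Tr.leaf) 204923 6
 Tr.leaf) 204925 6
 (Tr.node (Tr.node Tr.leaf 204926 5
 Tr.leaf) 204929 4
 Tr.leaf)) 204930 4
 (Tr.node (Tr.node (Tr.node Tr.leaf 204932 6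
 Tr.leaf) 204935 7
 Tr.leaf) 204936 5
 (Tr.node Tr.leaf 204939 6
 Tr.leaf))) 204941 6
 (Tr.node (Tr.node (Tr.node (Tr.node Tr.leaf 204942 5
 Tr.leaf) 204945 3
 Tr.leaf) 204946 4
 (Tr.node Tr.leaf 204948 5
 Tr.leaf)) 204951 6
 (Tr.node (Tr.node (Tr.node Tr.leaf 204952 6
 Tr.leaf) 204955 6
 Tr.leaf) 204957 6
 (Tr.node Tr.leaf 204958 5
 Tr.leaf)))) 204963 6
 (Tr.node (Tr.node (Tr.node (Tr.node (Tr.node Tr.leaf 204965 6
 Tr.leaf) 204966 6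
 Tr.leaf) 204969 5
 (Tr.node (Tr.node Tr.leaf 204970 4
 Tr.leaf) 204972 5
 Tr.leaf)) 204975 5
 (Tr.node (Tr.node (Tr.node Tr.leaf 204979 4
 Tr.leaf) 204981 4
 Tr.leaf) 204982 5
 (Tr.node Tr.leaf 204985 6
 Tr.leaf))) 204986 4
 (Tr.node (Tr.node (Tr.node (Tr.node Tr.leaf 204988 5
 Tr.leaf) 204991 6
 Tr.leaf) 204995 6
 (Tr.node Tr.leaf 204997 5
 Tr.leaf)) 204998 4
 (Tr.node (Tr.node (Tr.node Tr.leaf 205001 7
 Tr.leaf) 205002 5
 Tr.leaf) 205004 5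
 (Tr.node Tr.leaf 205007 6
 Tr.leaf))))))) 205011 4
 (Tr.node (Tr.node (Tr.node (Tr.node (Tr.node (Tr.node (Tr.node (Tr.node Tr.leaf 205013 6
 Tr.leaf) 205014 6
 Tr.leaf) 205017 5
 (Tr.node (Tr.node Tr.leaf 205018 5
 Tr.leaf) 205020 6
 Tr.leaf)) 205023 6
 (Tr.node (Tr.node (Tr.node Tr.leaf 205025 6
 Tr.leaf) 205026 5
 Tr.leaf) 205028 5
 (Tr.node Tr.leaf 205031 5
 Tr.leaf))) 205032 6
 (Tr.node (Tr.node (Tr.node (Tr.node Tr.leaf 205035 5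
 Tr.leaf) 205037 5
 Tr.leaf) 205038 6
 (Tr.node (Tr.node Tr.leaf 205041 6
 Tr.leaf) 205042 4
 Tr.leaf)) 205044 5
 (Tr.node (Tr.node (Tr.node Tr.leaf 205047 6
 Tr.leaf) 205048 6
 Tr.leaf) 205051 6
 (Tr.node Tr.leaf 205053 5
 Tr.leaf)))) 205054 5
 (Tr.node (Tr.node (Tr.node (Tr.node (Tr.node Tr.leaf 205057 3
 Tr.leaf) 205058 5
 Tr.leaf) 205060 6
 (Tr.node (Tr.node Tr.leaf 205063 6
 Tr.leaf) 205064 6
 Tr.leaf)) 205067 5
 (Tr.node (Tr.node (Tr.node Tr.leaf 205069 6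
 Tr.leaf) 205070 5
 Tr.leaf) 205073 3
 (Tr.node Tr.leaf 205074 4
 Tr.leaf))) 205076 5
 (Tr.node (Tr.node (Tr.node (Tr.node Tr.leaf 205079 7
 Tr.leaf) 205080 6
 Tr.leaf) 205083 5
 (Tr.node Tr.leaf 205085 5
 Tr.leaf)) 205086 5
 (Tr.node (Tr.node (Tr.node Tr.leaf 205091 6
 Tr.leaf) 205093 6
 Tr.leaf) 205094 5
 (Tr.node Tr.leaf 205097 5
 Tr.leaf))))) 205098 5
 (Tr.node (Tr.node (Tr.node (Tr.node (Tr.node (Tr.node Tr.leaf 205100 4
 Tr.leaf) 205103 5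
 Tr.leaf) 205107 6
 (Tr.node (Tr.node Tr.leaf 205109 5
 Tr.leaf) 205110 6
 Tr.leaf)) 205113 6
 (Tr.node (Tr.node (Tr.node Tr.leaf 205114 5
 Tr.leaf) 205116 5
 Tr.leaf) 205119 5
 (Tr.node Tr.leaf 205123 6
 Tr.leaf))) 205125 5
 (Tr.node (Tr.node (Tr.node (Tr.node Tr.leaf 205126 6
 Tr.leaf) 205129 5
 Tr.leaf) 205130 5
 (Tr.node Tr.leaf 205132 4
 Tr.leaf)) 205135 6
 (Tr.node (Tr.node (Tr.node Tr.leaf 205139 6
 Tr.leaf) 205141 6
 Tr.leaf) 205142 5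
 (Tr.node Tr.leaf 205145 6
 Tr.leaf)))) 205146 5
 (Tr.node (Tr.node (Tr.node (Tr.node (Tr.node Tr.leaf 205148 5
 Tr.leaf) 205151 6
 Tr.leaf) 205153 4
 (Tr.node (Tr.node Tr.leaf 205154 5
 Tr.leaf) 205156 5
 Tr.leaf)) 205159 6
 (Tr.node (Tr.node (Tr.node Tr.leaf 205160 5
 Tr.leaf) 205163 6
 Tr.leaf) 205165 5
 (Tr.node Tr.leaf 205166 6
 Tr.leaf))) 205169 6
 (Tr.node (Tr.node (Tr.node (Tr.node Tr.leaf 205170 5
 Tr.leaf) 205172 4
 Tr.leaf) 205175 5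
 (Tr.node Tr.leaf 205176 6
 Tr.leaf)) 205179 5
 (Tr.node (Tr.node (Tr.node Tr.leaf 205181 5
 Tr.leaf) 205182 6
 Tr.leaf) 205185 3
 (Tr.node Tr.leaf 205186 4
 Tr.leaf)))))) 205188 6
 (Tr.node (Tr.node (Tr.node (Tr.node (Tr.node (Tr.node (Tr.node Tr.leaf 205191 5
 Tr.leaf) 205192 6
 Tr.leaf) 205195 4
 (Tr.node (Tr.node Tr.leaf 205197 6
 Tr.leaf) 205198 4
 Tr.leaf)) 205201 3
 (Tr.node (Tr.node (Tr.node Tr.leaf 205202 3
 Tr.leaf) 205204 6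
 Tr.leaf) 205207 5
 (Tr.node Tr.leaf 205208 6
 Tr.leaf))) 205211 6
 (Tr.node (Tr.node (Tr.node (Tr.node Tr.leaf 205213 5
 Tr.leaf) 205214 3
 Tr.leaf) 205219 4
 (Tr.node (Tr.node Tr.leaf 205221 5
 Tr.leaf) 205222 5
 Tr.leaf)) 205225 6
 (Tr.node (Tr.node (Tr.node Tr.leaf 205226 4
 Tr.leaf) 205228 4
 Tr.leaf) 205231 5
 (Tr.node Tr.leaf 205235 6
 Tr.leaf)))) 205237 6
 (Tr.node (Tr.node (Tr.node (Tr.node (Tr.node Tr.leaf 205238 6
 Tr.leaf) 205241 5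
 Tr.leaf) 205242 4
 (Tr.node (Tr.node Tr.leaf 205244 6
 Tr.leaf) 205247 6
 Tr.leaf)) 205251 6
 (Tr.node (Tr.node (Tr.node Tr.leaf 205253 5
 Tr.leaf) 205254 5
 Tr.leaf) 205257 6
 (Tr.node Tr.leaf 205258 6
 Tr.leaf))) 205260 5
 (Tr.node (Tr.node (Tr.node (Tr.node Tr.leaf 205263 6
 Tr.leaf) 205267 6
 Tr.leaf) 205269 4
 (Tr.node Tr.leaf 205270 3
 Tr.leaf)) 205273 5
 (Tr.node (Tr.node (Tr.node Tr.leaf 205274 2
 Tr.leaf) 205276 2
 Tr.leaf) 205279 6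
 (Tr.node Tr.leaf 205281 6
 Tr.leaf))))) 205282 5
 (Tr.node (Tr.node (Tr.node (Tr.node (Tr.node (Tr.node Tr.leaf 205284 5
 Tr.leaf) 205287 6
 Tr.leaf) 205288 5
 (Tr.node (Tr.node Tr.leaf 205291 6
 Tr.leaf) 205293 5
 Tr.leaf)) 205294 6
 (Tr.node (Tr.node (Tr.node Tr.leaf 205297 4
 Tr.leaf) 205298 6
 Tr.leaf) 205300 5
 (Tr.node Tr.leaf 205303 5
 Tr.leaf))) 205304 6
 (Tr.node (Tr.node (Tr.node (Tr.node Tr.leaf 205307 6
 Tr.leaf) 205309 6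
 Tr.leaf) 205310 6
 (Tr.node Tr.leaf 205829 6
 Tr.leaf)) 205831 4
 (Tr.node (Tr.node (Tr.node Tr.leaf 205833 5
 Tr.leaf) 205835 6
 Tr.leaf) 205845 7
 (Tr.node Tr.leaf 205847 6
 Tr.leaf)))) 205849 4
 (Tr.node (Tr.node (Tr.node (Tr.node (Tr.node Tr.leaf 205851 6
 Tr.leaf) 205857 5
 Tr.leaf) 205859 4
 (Tr.node (Tr.node Tr.leaf 205869 7
 Tr.leaf) 205871 6
 Tr.leaf)) 205873 6
 (Tr.node (Tr.node (Tr.node Tr.leaf 205875 6
 Tr.leaf) 205885 6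
 Tr.leaf) 205887 6
 (Tr.node Tr.leaf 205889 5
 Tr.leaf))) 205891 6
 (Tr.node (Tr.node (Tr.node (Tr.node Tr.leaf 205901 6
 Tr.leaf) 205903 6
 Tr.leaf) 205905 6
 (Tr.node Tr.leaf 205907 6
 Tr.leaf)) 205917 5
 (Tr.node (Tr.node (Tr.node Tr.leaf 205919 6
 Tr.leaf) 205925 6
 Tr.leaf) 205927 6
 (Tr.node Tr.leaf 205929 5
 Tr.leaf)))))))) 205931 6
 (Tr.node (Tr.node (Tr.node (Tr.node (Tr.node (Tr.node (Tr.node (Tr.node (Tr.node Tr.leaf 205941 6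
 Tr.leaf) 205943 6
 Tr.leaf) 205945 6
 (Tr.node (Tr.node Tr.leaf 205947 6
 Tr.leaf) 205957 6
 Tr.leaf)) 205959 6
 (Tr.node (Tr.node (Tr.node Tr.leaf 205961 6
 Tr.leaf) 205963 5
 Tr.leaf) 205973 5
 (Tr.node Tr.leaf 205975 6
 Tr.leaf))) 205977 6
 (Tr.node (Tr.node (Tr.node (Tr.node Tr.leaf 205979 6
 Tr.leaf) 205985 5
 Tr.leaf) 205987 6
 (Tr.node (Tr.node Tr.leaf 205997 6
 Tr.leaf) 205999 5
 Tr.leaf)) 206001 6
 (Tr.node (Tr.node (Tr.node Tr.leaf 206003 5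
 Tr.leaf) 206013 6
 Tr.leaf) 206015 5
 (Tr.node Tr.leaf 206017 5
 Tr.leaf)))) 206019 6
 (Tr.node (Tr.node (Tr.node (Tr.node (Tr.node Tr.leaf 206029 5
 Tr.leaf) 206031 6
 Tr.leaf) 206033 6
 (Tr.node (Tr.node Tr.leaf 206035 5
 Tr.leaf) 206045 6
 Tr.leaf)) 206047 6
 (Tr.node (Tr.node (Tr.node Tr.leaf 206053 6
 Tr.leaf) 206055 5
 Tr.leaf) 206057 6
 (Tr.node Tr.leaf 206059 6
 Tr.leaf))) 206069 6
 (Tr.node (Tr.node (Tr.node (Tr.node Tr.leaf 206071 6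
 Tr.leaf) 206073 6
 Tr.leaf) 206075 5
 (Tr.node Tr.leaf 206085 5
 Tr.leaf)) 206087 5
 (Tr.node (Tr.node (Tr.node Tr.leaf 206089 6
 Tr.leaf) 206091 6
 Tr.leaf) 206101 6
 (Tr.node Tr.leaf 206103 5
 Tr.leaf))))) 206105 6
 (Tr.node (Tr.node (Tr.node (Tr.node (Tr.node (Tr.node Tr.leaf 206107 6
 Tr.leaf) 206113 6
 Tr.leaf) 206115 6
 (Tr.node (Tr.node Tr.leaf 206125 6
 Tr.leaf) 206127 5
 Tr.leaf)) 206129 6
 (Tr.node (Tr.node (Tr.node Tr.leaf 206131 6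
 Tr.leaf) 206141 6
 Tr.leaf) 206143 5
 (Tr.node Tr.leaf 206145 5
 Tr.leaf))) 206147 4
 (Tr.node (Tr.node (Tr.node (Tr.node Tr.leaf 206157 6
 Tr.leaf) 206159 6
 Tr.leaf) 206161 6
 (Tr.node (Tr.node Tr.leaf 206163 6
 Tr.leaf) 206173 5
 Tr.leaf)) 206175 6
 (Tr.node (Tr.node (Tr.node Tr.leaf 206181 6
 Tr.leaf) 206183 6
 Tr.leaf) 206185 6
 (Tr.node Tr.leaf 206187 6
 Tr.leaf)))) 206197 6
 (Tr.node (Tr.node (Tr.node (Tr.node (Tr.node Tr.leaf 206199 6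
 Tr.leaf) 206201 6
 Tr.leaf) 206203 6
 (Tr.node (Tr.node Tr.leaf 206213 6
 Tr.leaf) 206215 6
 Tr.leaf)) 206217 6
 (Tr.node (Tr.node (Tr.node Tr.leaf 206219 6
 Tr.leaf) 206229 6
 Tr.leaf) 206231 6
 (Tr.node Tr.leaf 206233 5
 Tr.leaf))) 206235 6
 (Tr.node (Tr.node (Tr.node (Tr.node Tr.leaf 206241 4
 Tr.leaf) 206243 5
 Tr.leaf) 206253 7
 (Tr.node Tr.leaf 206255 6
 Tr.leaf)) 206257 6
 (Tr.node (Tr.node (Tr.node Tr.leaf 206259 6
 Tr.leaf) 206269 6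
 Tr.leaf) 206271 5
 (Tr.node Tr.leaf 206273 6
 Tr.leaf)))))) 206275 6
 (Tr.node (Tr.node (Tr.node (Tr.node (Tr.node (Tr.node (Tr.node Tr.leaf 206285 6
 Tr.leaf) 206287 6
 Tr.leaf) 206289 4
 (Tr.node (Tr.node Tr.leaf 206291 6
 Tr.leaf) 206301 5
 Tr.leaf)) 206303 7
 (Tr.node (Tr.node (Tr.node Tr.leaf 206309 5
 Tr.leaf) 206311 5
 Tr.leaf) 206313 6
 (Tr.node Tr.leaf 206315 5
 Tr.leaf))) 206325 6
 (Tr.node (Tr.node (Tr.node (Tr.node Tr.leaf 206327 6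
 Tr.leaf) 206329 6
 Tr.leaf) 206331 5
 (Tr.node (Tr.node Tr.leaf 206851 7
 Tr.leaf) 206855 6
 Tr.leaf)) 206857 6
 (Tr.node (Tr.node (Tr.node Tr.leaf 206858 6
 Tr.leaf) 206861 6
 Tr.leaf) 206862 6
 (Tr.node Tr.leaf 206867 5
 Tr.leaf)))) 206871 6
 (Tr.node (Tr.node (Tr.node (Tr.node (Tr.node Tr.leaf 206873 6
 Tr.leaf) 206874 6
 Tr.leaf) 206877 6
 (Tr.node (Tr.node Tr.leaf 206878 6
 Tr.leaf) 206881 4
 Tr.leaf)) 206882 6
 (Tr.node (Tr.node (Tr.node Tr.leaf 206885 6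
 Tr.leaf) 206886 6
 Tr.leaf) 206891 6
 (Tr.node Tr.leaf 206895 6
 Tr.leaf))) 206897 6
 (Tr.node (Tr.node (Tr.node (Tr.node Tr.leaf 206898 6
 Tr.leaf) 206901 7
 Tr.leaf) 206902 6
 (Tr.node Tr.leaf 206907 5
 Tr.leaf)) 206911 5
 (Tr.node (Tr.node (Tr.node Tr.leaf 206913 5
 Tr.leaf) 206914 5
 Tr.leaf) 206917 5
 (Tr.node Tr.leaf 206918 5
 Tr.leaf))))) 206923 5
 (Tr.node (Tr.node (Tr.node (Tr.node (Tr.node (Tr.node Tr.leaf 206927 6
 Tr.leaf) 206929 6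
 Tr.leaf) 206930 5
 (Tr.node (Tr.node Tr.leaf 206933 5
 Tr.leaf) 206934 6
 Tr.leaf)) 206939 6
 (Tr.node (Tr.node (Tr.node Tr.leaf 206943 6
 Tr.leaf) 206947 6
 Tr.leaf) 206951 6
 (Tr.node Tr.leaf 206953 6
 Tr.leaf))) 206954 6
 (Tr.node (Tr.node (Tr.node (Tr.node Tr.leaf 206957 6
 Tr.leaf) 206958 5
 Tr.leaf) 206963 5
 (Tr.node Tr.leaf 206967 6
 Tr.leaf)) 206969 6
 (Tr.node (Tr.node (Tr.node Tr.leaf 206970 6
 Tr.leaf) 206973 5
 Tr.leaf) 206974 6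
 (Tr.node Tr.leaf 206979 6
 Tr.leaf)))) 206983 6
 (Tr.node (Tr.node (Tr.node (Tr.node (Tr.node Tr.leaf 206985 6
 Tr.leaf) 206986 6
 Tr.leaf) 206989 6
 (Tr.node (Tr.node Tr.leaf 206990 5
 Tr.leaf) 206995 7
 Tr.leaf)) 206999 5
 (Tr.node (Tr.node (Tr.node Tr.leaf 207001 5
 Tr.leaf) 207002 6
 Tr.leaf) 207005 6
 (Tr.node Tr.leaf 207006 5
 Tr.leaf))) 207009 6
 (Tr.node (Tr.node (Tr.node (Tr.node Tr.leaf 207010 6
 Tr.leaf) 207013 6
 Tr.leaf) 207014 6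
 (Tr.node Tr.leaf 207019 6
 Tr.leaf)) 207023 6
 (Tr.node (Tr.node (Tr.node Tr.leaf 207025 6
 Tr.leaf) 207026 6
 Tr.leaf) 207029 5
 (Tr.node Tr.leaf 207030 6
 Tr.leaf))))))) 207035 6
 (Tr.node (Tr.node (Tr.node (Tr.node (Tr.node (Tr.node (Tr.node (Tr.node Tr.leaf 207039 6
 Tr.leaf) 207041 6
 Tr.leaf) 207042 4
 (Tr.node (Tr.node Tr.leaf 207045 4
 Tr.leaf) 207046 4
 Tr.leaf)) 207051 6
 (Tr.node (Tr.node (Tr.node Tr.leaf 207055 6
 Tr.leaf) 207057 6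
 Tr.leaf) 207058 6
 (Tr.node Tr.leaf 207061 4
 Tr.leaf))) 207062 6
 (Tr.node (Tr.node (Tr.node (Tr.node Tr.leaf 207067 5
 Tr.leaf) 207071 6
 Tr.leaf) 207075 5
 (Tr.node (Tr.node Tr.leaf 207079 6
 Tr.leaf) 207081 6
 Tr.leaf)) 207082 5
 (Tr.node (Tr.node (Tr.node Tr.leaf 207085 5
 Tr.leaf) 207086 6
 Tr.leaf) 207091 6
 (Tr.node Tr.leaf 207095 6
 Tr.leaf)))) 207097 6
 (Tr.node (Tr.node (Tr.node (Tr.node (Tr.node Tr.leaf 207098 5
 Tr.leaf) 207101 6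
 Tr.leaf) 207102 5
 (Tr.node (Tr.node Tr.leaf 207107 5
 Tr.leaf) 207111 6
 Tr.leaf)) 207113 6
 (Tr.node (Tr.node (Tr.node Tr.leaf 207114 6
 Tr.leaf) 207117 5
 Tr.leaf) 207118 6
 (Tr.node Tr.leaf 207123 4
 Tr.leaf))) 207127 6
 (Tr.node (Tr.node (Tr.node (Tr.node Tr.leaf 207129 6
 Tr.leaf) 207130 4
 Tr.leaf) 207133 6
 (Tr.node Tr.leaf 207134 6
 Tr.leaf)) 207137 6
 (Tr.node (Tr.node (Tr.node Tr.leaf 207138 6
 Tr.leaf) 207141 6
 Tr.leaf) 207142 6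
 (Tr.node Tr.leaf 207147 5
 Tr.leaf))))) 207151 6
 (Tr.node (Tr.node (Tr.node (Tr.node (Tr.node (Tr.node Tr.leaf 207153 6
 Tr.leaf) 207154 6
 Tr.leaf) 207157 6
 (Tr.node (Tr.node Tr.leaf 207158 6
 Tr.leaf) 207163 5
 Tr.leaf)) 207167 5
 (Tr.node (Tr.node (Tr.node Tr.leaf 207169 6
 Tr.leaf) 207170 6
 Tr.leaf) 207173 6
 (Tr.node Tr.leaf 207174 6
 Tr.leaf))) 207179 6
 (Tr.node (Tr.node (Tr.node (Tr.node Tr.leaf 207183 6
 Tr.leaf) 207185 6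
 Tr.leaf) 207186 4
 (Tr.node Tr.leaf 207189 6
 Tr.leaf)) 207190 4
 (Tr.node (Tr.node (Tr.node Tr.leaf 207195 6
 Tr.leaf) 207199 6
 Tr.leaf) 207203 5
 (Tr.node Tr.leaf 207207 6
 Tr.leaf)))) 207209 6
 (Tr.node (Tr.node (Tr.node (Tr.node (Tr.node Tr.leaf 207210 6
 Tr.leaf) 207213 6
 Tr.leaf) 207214 5
 (Tr.node (Tr.node Tr.leaf 207219 6
 Tr.leaf) 207223 6
 Tr.leaf)) 207225 5
 (Tr.node (Tr.node (Tr.node Tr.leaf 207226 6
 Tr.leaf) 207229 6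
 Tr.leaf) 207230 6
 (Tr.node Tr.leaf 207235 5
 Tr.leaf))) 207239 6
 (Tr.node (Tr.node (Tr.node (Tr.node Tr.leaf 207241 6
 Tr.leaf) 207242 6
 Tr.leaf) 207245 6
 (Tr.node Tr.leaf 207246 6
 Tr.leaf)) 207251 6
 (Tr.node (Tr.node (Tr.node Tr.leaf 207255 6
 Tr.leaf) 207257 5
 Tr.leaf) 207258 6
 (Tr.node Tr.leaf 207261 7
 Tr.leaf)))))) 207262 6
 (Tr.node (Tr.node (Tr.node (Tr.node (Tr.node (Tr.node (Tr.node Tr.leaf 207265 5
 Tr.leaf) 207266 6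
 Tr.leaf) 207269 4
 (Tr.node (Tr.node Tr.leaf 207270 6
 Tr.leaf) 207275 6
 Tr.leaf)) 207279 6
 (Tr.node (Tr.node (Tr.node Tr.leaf 207281 6
 Tr.leaf) 207282 6
 Tr.leaf) 207285 6
 (Tr.node Tr.leaf 207286 6
 Tr.leaf))) 207291 6
 (Tr.node (Tr.node (Tr.node (Tr.node Tr.leaf 207295 6
 Tr.leaf) 207297 6
 Tr.leaf) 207298 6
 (Tr.node (Tr.node Tr.leaf 207301 6
 Tr.leaf) 207302 6
 Tr.leaf)) 207307 6
 (Tr.node (Tr.node (Tr.node Tr.leaf 207311 6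
 Tr.leaf) 207313 5
 Tr.leaf) 207314 4
 (Tr.node Tr.leaf 207317 7
 Tr.leaf)))) 207318 6
 (Tr.node (Tr.node (Tr.node (Tr.node (Tr.node Tr.leaf 207323 6
 Tr.leaf) 207327 6
 Tr.leaf) 207331 6
 (Tr.node (Tr.node Tr.leaf 207335 6
 Tr.leaf) 207337 6
 Tr.leaf)) 207338 6
 (Tr.node (Tr.node (Tr.node Tr.leaf 207341 6
 Tr.leaf) 207342 5
 Tr.leaf) 207347 6
 (Tr.node Tr.leaf 207351 6
 Tr.leaf))) 207353 6
 (Tr.node (Tr.node (Tr.node (Tr.node Tr.leaf 207354 6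
 Tr.leaf) 207357 7
 Tr.leaf) 207358 6
 (Tr.node Tr.leaf 207873 5
 Tr.leaf)) 207875 6
 (Tr.node (Tr.node (Tr.node Tr.leaf 207877 6
 Tr.leaf) 207879 5
 Tr.leaf) 207889 4
 (Tr.node Tr.leaf 207891 6
 Tr.leaf))))) 207893 6
 (Tr.node (Tr.node (Tr.node (Tr.node (Tr.node (Tr.node Tr.leaf 207895 5
 Tr.leaf) 207913 6
 Tr.leaf) 207915 6
 (Tr.node (Tr.node Tr.leaf 207917 6
 Tr.leaf) 207919 6
 Tr.leaf)) 207929 6
 (Tr.node (Tr.node (Tr.node Tr.leaf 207931 6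
 Tr.leaf) 207933 6
 Tr.leaf) 207935 6
 (Tr.node Tr.leaf 207945 6
 Tr.leaf))) 207947 5
 (Tr.node (Tr.node (Tr.node (Tr.node Tr.leaf 207949 5
 Tr.leaf) 207951 6
 Tr.leaf) 207961 7
 (Tr.node Tr.leaf 207963 6
 Tr.leaf)) 207965 6
 (Tr.node (Tr.node (Tr.node Tr.leaf 207967 6
 Tr.leaf) 207969 6
 Tr.leaf) 207971 6
 (Tr.node Tr.leaf 207973 6
 Tr.leaf)))) 207975 6
 (Tr.node (Tr.node (Tr.node (Tr.node (Tr.node Tr.leaf 207985 5
 Tr.leaf) 207987 6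
 Tr.leaf) 207989 6
 (Tr.node (Tr.node Tr.leaf 207991 5
 Tr.leaf) 208001 4
 Tr.leaf)) 208003 4
 (Tr.node (Tr.node (Tr.node Tr.leaf 208005 6
 Tr.leaf) 208007 6
 Tr.leaf) 208017 6
 (Tr.node Tr.leaf 208019 5
 Tr.leaf))) 208021 6
 (Tr.node (Tr.node (Tr.node (Tr.node Tr.leaf 208023 4
 Tr.leaf) 208041 6
 Tr.leaf) 208043 5
 (Tr.node Tr.leaf 208045 6
 Tr.leaf)) 208047 6
 (Tr.node (Tr.node (Tr.node Tr.leaf 208057 5
 Tr.leaf) 208059 6
 Tr.leaf) 208061 6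
 (Tr.node Tr.leaf 208063 6
 Tr.leaf)))))))))

/-- A subtree. -/
def tr2_s51 : Tr := (Tr.node (Tr.node (Tr.node (Tr.node (Tr.node (Tr.node (Tr.node (Tr.node (Tr.node (Tr.node Tr.leaf 208075 6
 Tr.leaf) 208077 6
 Tr.leaf) 208079 6
 (Tr.node (Tr.node Tr.leaf 208089 6
 Tr.leaf) 208091 5
 Tr.leaf)) 208093 6
 (Tr.node (Tr.node (Tr.node Tr.leaf 208095 6
 Tr.leaf) 208097 6
 Tr.leaf) 208099 6
 (Tr.node Tr.leaf 208101 6
 Tr.leaf))) 208103 5
 (Tr.node (Tr.node (Tr.node (Tr.node Tr.leaf 208113 6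
 Tr.leaf) 208115 6
 Tr.leaf) 208117 6
 (Tr.node (Tr.node Tr.leaf 208119 6
 Tr.leaf) 208129 5
 Tr.leaf)) 208131 6
 (Tr.node (Tr.node (Tr.node Tr.leaf 208133 5
 Tr.leaf) 208135 6
 Tr.leaf) 208145 6
 (Tr.node Tr.leaf 208147 4
 Tr.leaf)))) 208149 5
 (Tr.node (Tr.node (Tr.node (Tr.node (Tr.node Tr.leaf 208151 6
 Tr.leaf) 208169 5
 Tr.leaf) 208171 5
 (Tr.node (Tr.node Tr.leaf 208173 6
 Tr.leaf) 208175 6
 Tr.leaf)) 208185 5
 (Tr.node (Tr.node (Tr.node Tr.leaf 208187 5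
 Tr.leaf) 208189 6
 Tr.leaf) 208191 6
 (Tr.node Tr.leaf 208201 6
 Tr.leaf))) 208203 5
 (Tr.node (Tr.node (Tr.node (Tr.node Tr.leaf 208205 6
 Tr.leaf) 208207 5
 Tr.leaf) 208217 6
 (Tr.node Tr.leaf 208219 6
 Tr.leaf)) 208221 5
 (Tr.node (Tr.node (Tr.node Tr.leaf 208223 6
 Tr.leaf) 208225 6
 Tr.leaf) 208227 6
 (Tr.node Tr.leaf 208229 6
 Tr.leaf))))) 208231 5
 (Tr.node (Tr.node (Tr.node (Tr.node (Tr.node (Tr.node Tr.leaf 208241 6
 Tr.leaf) 208243 5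
 Tr.leaf) 208245 5
 (Tr.node (Tr.node Tr.leaf 208247 6
 Tr.leaf) 208257 5
 Tr.leaf)) 208259 6
 (Tr.node (Tr.node (Tr.node Tr.leaf 208261 5
 Tr.leaf) 208263 4
 Tr.leaf) 208273 5
 (Tr.node Tr.leaf 208275 6
 Tr.leaf))) 208277 4
 (Tr.node (Tr.node (Tr.node (Tr.node Tr.leaf 208279 4
 Tr.leaf) 208297 7
 Tr.leaf) 208299 6
 (Tr.node (Tr.node Tr.leaf 208301 5
 Tr.leaf) 208303 6
 Tr.leaf)) 208313 6
 (Tr.node (Tr.node (Tr.node Tr.leaf 208315 6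
 Tr.leaf) 208317 5
 Tr.leaf) 208319 6
 (Tr.node Tr.leaf 208329 6
 Tr.leaf)))) 208331 5
 (Tr.node (Tr.node (Tr.node (Tr.node (Tr.node Tr.leaf 208333 6
 Tr.leaf) 208335 6
 Tr.leaf) 208345 5
 (Tr.node (Tr.node Tr.leaf 208347 5
 Tr.leaf) 208349 5
 Tr.leaf)) 208351 6
 (Tr.node (Tr.node (Tr.node Tr.leaf 208353 5
 Tr.leaf) 208355 6
 Tr.leaf) 208357 6
 (Tr.node Tr.leaf 208359 6
 Tr.leaf))) 208369 6
 (Tr.node (Tr.node (Tr.node (Tr.node Tr.leaf 208371 6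
 Tr.leaf) 208373 6
 Tr.leaf) 208375 5
 (Tr.node Tr.leaf 208899 6
 Tr.leaf)) 208901 7
 (Tr.node (Tr.node (Tr.node Tr.leaf 208902 6
 Tr.leaf) 208907 5
 Tr.leaf) 208909 5
 (Tr.node Tr.leaf 208910 4
 Tr.leaf)))))) 208915 4
 (Tr.node (Tr.node (Tr.node (Tr.node (Tr.node (Tr.node (Tr.node Tr.leaf 208917 6
 Tr.leaf) 208918 3
 Tr.leaf) 208923 6
 (Tr.node (Tr.node Tr.leaf 208925 5
 Tr.leaf) 208926 4
 Tr.leaf)) 208929 6
 (Tr.node (Tr.node (Tr.node Tr.leaf 208930 6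
 Tr.leaf) 208932 6
 Tr.leaf) 208935 7
 (Tr.node Tr.leaf 208937 6
 Tr.leaf))) 208938 4
 (Tr.node (Tr.node (Tr.node (Tr.node Tr.leaf 208940 4
 Tr.leaf) 208943 6
 Tr.leaf) 208945 4
 (Tr.node (Tr.node Tr.leaf 208946 6
 Tr.leaf) 208948 4
 Tr.leaf)) 208951 6
 (Tr.node (Tr.node (Tr.node Tr.leaf 208953 6
 Tr.leaf) 208954 4
 Tr.leaf) 208956 6
 (Tr.node Tr.leaf 208959 6
 Tr.leaf)))) 208961 6
 (Tr.node (Tr.node (Tr.node (Tr.node (Tr.node Tr.leaf 208962 5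
 Tr.leaf) 208964 6
 Tr.leaf) 208967 6
 (Tr.node (Tr.node Tr.leaf 208969 6
 Tr.leaf) 208970 4
 Tr.leaf)) 208972 6
 (Tr.node (Tr.node (Tr.node Tr.leaf 208975 6
 Tr.leaf) 208977 4
 Tr.leaf) 208978 6
 (Tr.node Tr.leaf 208980 4
 Tr.leaf))) 208983 6
 (Tr.node (Tr.node (Tr.node (Tr.node Tr.leaf 208985 7
 Tr.leaf) 208986 6
 Tr.leaf) 208988 6
 (Tr.node Tr.leaf 208991 6
 Tr.leaf)) 208995 6
 (Tr.node (Tr.node (Tr.node Tr.leaf 208997 6
 Tr.leaf) 208998 5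
 Tr.leaf) 209003 6
 (Tr.node Tr.leaf 209005 6
 Tr.leaf))))) 209006 6
 (Tr.node (Tr.node (Tr.node (Tr.node (Tr.node (Tr.node Tr.leaf 209011 6
 Tr.leaf) 209013 6
 Tr.leaf) 209014 5
 (Tr.node (Tr.node Tr.leaf 209019 6
 Tr.leaf) 209021 6
 Tr.leaf)) 209022 5
 (Tr.node (Tr.node (Tr.node Tr.leaf 209027 6
 Tr.leaf) 209029 6
 Tr.leaf) 209030 6
 (Tr.node Tr.leaf 209035 6
 Tr.leaf))) 209037 6
 (Tr.node (Tr.node (Tr.node (Tr.node Tr.leaf 209038 6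
 Tr.leaf) 209043 4
 Tr.leaf) 209045 6
 (Tr.node Tr.leaf 209046 6
 Tr.leaf)) 209051 6
 (Tr.node (Tr.node (Tr.node Tr.leaf 209053 6
 Tr.leaf) 209054 6
 Tr.leaf) 209057 6
 (Tr.node Tr.leaf 209058 6
 Tr.leaf)))) 209060 6
 (Tr.node (Tr.node (Tr.node (Tr.node (Tr.node Tr.leaf 209063 6
 Tr.leaf) 209065 6
 Tr.leaf) 209066 6
 (Tr.node (Tr.node Tr.leaf 209068 5
 Tr.leaf) 209071 5
 Tr.leaf)) 209073 6
 (Tr.node (Tr.node (Tr.node Tr.leaf 209074 6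
 Tr.leaf) 209076 4
 Tr.leaf) 209079 5
 (Tr.node Tr.leaf 209081 6
 Tr.leaf))) 209082 6
 (Tr.node (Tr.node (Tr.node (Tr.node Tr.leaf 209084 6
 Tr.leaf) 209087 6
 Tr.leaf) 209089 6
 (Tr.node Tr.leaf 209090 4
 Tr.leaf)) 209092 6
 (Tr.node (Tr.node (Tr.node Tr.leaf 209095 6
 Tr.leaf) 209097 4
 Tr.leaf) 209098 3
 (Tr.node Tr.leaf 209100 4
 Tr.leaf))))))) 209103 6
 (Tr.node (Tr.node (Tr.node (Tr.node (Tr.node (Tr.node (Tr.node (Tr.node Tr.leaf 209105 6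
 Tr.leaf) 209106 6
 Tr.leaf) 209108 6
 (Tr.node (Tr.node Tr.leaf 209111 6
 Tr.leaf) 209113 4
 Tr.leaf)) 209114 5
 (Tr.node (Tr.node (Tr.node Tr.leaf 209116 6
 Tr.leaf) 209119 6
 Tr.leaf) 209123 6
 (Tr.node Tr.leaf 209125 5
 Tr.leaf))) 209126 6
 (Tr.node (Tr.node (Tr.node (Tr.node Tr.leaf 209131 6
 Tr.leaf) 209133 5
 Tr.leaf) 209134 6
 (Tr.node (Tr.node Tr.leaf 209139 6
 Tr.leaf) 209141 5
 Tr.leaf)) 209142 6
 (Tr.node (Tr.node (Tr.node Tr.leaf 209147 5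
 Tr.leaf) 209149 6
 Tr.leaf) 209150 6
 (Tr.node Tr.leaf 209155 6
 Tr.leaf)))) 209157 6
 (Tr.node (Tr.node (Tr.node (Tr.node (Tr.node Tr.leaf 209158 6
 Tr.leaf) 209163 6
 Tr.leaf) 209165 6
 (Tr.node (Tr.node Tr.leaf 209166 5
 Tr.leaf) 209171 5
 Tr.leaf)) 209173 6
 (Tr.node (Tr.node (Tr.node Tr.leaf 209174 6
 Tr.leaf) 209179 6
 Tr.leaf) 209181 6
 (Tr.node Tr.leaf 209182 6
 Tr.leaf))) 209185 4
 (Tr.node (Tr.node (Tr.node (Tr.node Tr.leaf 209186 6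
 Tr.leaf) 209188 6
 Tr.leaf) 209191 6
 (Tr.node Tr.leaf 209193 4
 Tr.leaf)) 209194 4
 (Tr.node (Tr.node (Tr.node Tr.leaf 209196 5
 Tr.leaf) 209199 6
 Tr.leaf) 209201 6
 (Tr.node Tr.leaf 209202 6
 Tr.leaf))))) 209204 6
 (Tr.node (Tr.node (Tr.node (Tr.node (Tr.node (Tr.node Tr.leaf 209207 5
 Tr.leaf) 209209 6
 Tr.leaf) 209210 5
 (Tr.node (Tr.node Tr.leaf 209212 5
 Tr.leaf) 209215 7
 Tr.leaf)) 209217 6
 (Tr.node (Tr.node (Tr.node Tr.leaf 209218 6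
 Tr.leaf) 209220 6
 Tr.leaf) 209223 6
 (Tr.node Tr.leaf 209225 4
 Tr.leaf))) 209226 6
 (Tr.node (Tr.node (Tr.node (Tr.node Tr.leaf 209228 6
 Tr.leaf) 209231 6
 Tr.leaf) 209233 5
 (Tr.node Tr.leaf 209234 3
 Tr.leaf)) 209236 6
 (Tr.node (Tr.node (Tr.node Tr.leaf 209239 6
 Tr.leaf) 209241 6
 Tr.leaf) 209242 4
 (Tr.node Tr.leaf 209244 6
 Tr.leaf)))) 209247 6
 (Tr.node (Tr.node (Tr.node (Tr.node (Tr.node Tr.leaf 209251 6
 Tr.leaf) 209253 6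
 Tr.leaf) 209254 5
 (Tr.node (Tr.node Tr.leaf 209259 6
 Tr.leaf) 209261 6
 Tr.leaf)) 209262 6
 (Tr.node (Tr.node (Tr.node Tr.leaf 209267 6
 Tr.leaf) 209269 6
 Tr.leaf) 209270 6
 (Tr.node Tr.leaf 209275 5
 Tr.leaf))) 209277 6
 (Tr.node (Tr.node (Tr.node (Tr.node Tr.leaf 209278 5
 Tr.leaf) 209283 6
 Tr.leaf) 209285 5
 (Tr.node Tr.leaf 209286 4
 Tr.leaf)) 209291 6
 (Tr.node (Tr.node (Tr.node Tr.leaf 209293 6
 Tr.leaf) 209294 5
 Tr.leaf) 209299 5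
 (Tr.node Tr.leaf 209301 6
 Tr.leaf)))))) 209302 5
 (Tr.node (Tr.node (Tr.node (Tr.node (Tr.node (Tr.node (Tr.node Tr.leaf 209307 5
 Tr.leaf) 209309 6
 Tr.leaf) 209310 4
 (Tr.node (Tr.node Tr.leaf 209313 6
 Tr.leaf) 209314 5
 Tr.leaf)) 209316 7
 (Tr.node (Tr.node (Tr.node Tr.leaf 209319 6
 Tr.leaf) 209321 6
 Tr.leaf) 209322 6
 (Tr.node Tr.leaf 209324 5
 Tr.leaf))) 209327 6
 (Tr.node (Tr.node (Tr.node (Tr.node Tr.leaf 209329 6
 Tr.leaf) 209330 6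
 Tr.leaf) 209332 6
 (Tr.node (Tr.node Tr.leaf 209335 6
 Tr.leaf) 209337 4
 Tr.leaf)) 209338 6
 (Tr.node (Tr.node (Tr.node Tr.leaf 209340 4
 Tr.leaf) 209343 6
 Tr.leaf) 209345 6
 (Tr.node Tr.leaf 209346 6
 Tr.leaf)))) 209348 6
 (Tr.node (Tr.node (Tr.node (Tr.node (Tr.node Tr.leaf 209351 6
 Tr.leaf) 209353 5
 Tr.leaf) 209354 6
 (Tr.node (Tr.node Tr.leaf 209356 5
 Tr.leaf) 209359 6
 Tr.leaf)) 209361 6
 (Tr.node (Tr.node (Tr.node Tr.leaf 209362 6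
 Tr.leaf) 209364 6
 Tr.leaf) 209367 6
 (Tr.node Tr.leaf 209369 6
 Tr.leaf))) 209370 4
 (Tr.node (Tr.node (Tr.node (Tr.node Tr.leaf 209372 6
 Tr.leaf) 209375 5
 Tr.leaf) 209379 6
 (Tr.node Tr.leaf 209381 6
 Tr.leaf)) 209382 5
 (Tr.node (Tr.node (Tr.node Tr.leaf 209387 5
 Tr.leaf) 209389 5
 Tr.leaf) 209390 5
 (Tr.node Tr.leaf 209395 6
 Tr.leaf))))) 209397 6
 (Tr.node (Tr.node (Tr.node (Tr.node (Tr.node (Tr.node Tr.leaf 209398 5
 Tr.leaf) 209403 6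
 Tr.leaf) 209405 6
 (Tr.node (Tr.node Tr.leaf 209406 6
 Tr.leaf) 209921 6
 Tr.leaf)) 209923 4
 (Tr.node (Tr.node (Tr.node Tr.leaf 209929 6
 Tr.leaf) 209931 6
 Tr.leaf) 209937 7
 (Tr.node Tr.leaf 209939 6
 Tr.leaf))) 209945 6
 (Tr.node (Tr.node (Tr.node (Tr.node Tr.leaf 209947 6
 Tr.leaf) 209957 6
 Tr.leaf) 209959 6
 (Tr.node Tr.leaf 209965 6
 Tr.leaf)) 209967 6
 (Tr.node (Tr.node (Tr.node Tr.leaf 209973 6
 Tr.leaf) 209975 6
 Tr.leaf) 209981 5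
 (Tr.node Tr.leaf 209983 5
 Tr.leaf)))) 209989 6
 (Tr.node (Tr.node (Tr.node (Tr.node (Tr.node Tr.leaf 209991 6
 Tr.leaf) 209997 6
 Tr.leaf) 209999 6
 (Tr.node (Tr.node Tr.leaf 210005 6
 Tr.leaf) 210007 6
 Tr.leaf)) 210013 5
 (Tr.node (Tr.node (Tr.node Tr.leaf 210015 6
 Tr.leaf) 210017 6
 Tr.leaf) 210019 6
 (Tr.node Tr.leaf 210025 6
 Tr.leaf))) 210027 6
 (Tr.node (Tr.node (Tr.node (Tr.node Tr.leaf 210033 6
 Tr.leaf) 210035 6
 Tr.leaf) 210041 6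
 (Tr.node Tr.leaf 210043 6
 Tr.leaf)) 210049 6
 (Tr.node (Tr.node (Tr.node Tr.leaf 210051 4
 Tr.leaf) 210057 4
 Tr.leaf) 210059 6
 (Tr.node Tr.leaf 210065 6
 Tr.leaf)))))))) 210067 7
 (Tr.node (Tr.node (Tr.node (Tr.node (Tr.node (Tr.node (Tr.node (Tr.node (Tr.node Tr.leaf 210073 6
 Tr.leaf) 210075 4
 Tr.leaf) 210085 6
 (Tr.node (Tr.node Tr.leaf 210087 5
 Tr.leaf) 210093 6
 Tr.leaf)) 210095 6
 (Tr.node (Tr.node (Tr.node Tr.leaf 210101 6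
 Tr.leaf) 210103 6
 Tr.leaf) 210109 6
 (Tr.node Tr.leaf 210111 6
 Tr.leaf))) 210117 6
 (Tr.node (Tr.node (Tr.node (Tr.node Tr.leaf 210119 6
 Tr.leaf) 210125 5
 Tr.leaf) 210127 6
 (Tr.node (Tr.node Tr.leaf 210133 6
 Tr.leaf) 210135 6
 Tr.leaf)) 210141 6
 (Tr.node (Tr.node (Tr.node Tr.leaf 210143 6
 Tr.leaf) 210145 6
 Tr.leaf) 210147 6
 (Tr.node Tr.leaf 210153 5
 Tr.leaf)))) 210155 6
 (Tr.node (Tr.node (Tr.node (Tr.node (Tr.node Tr.leaf 210161 5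
 Tr.leaf) 210163 6
 Tr.leaf) 210169 6
 (Tr.node (Tr.node Tr.leaf 210171 5
 Tr.leaf) 210177 7
 Tr.leaf)) 210179 4
 (Tr.node (Tr.node (Tr.node Tr.leaf 210185 4
 Tr.leaf) 210187 6
 Tr.leaf) 210193 6
 (Tr.node Tr.leaf 210195 6
 Tr.leaf))) 210201 6
 (Tr.node (Tr.node (Tr.node (Tr.node Tr.leaf 210203 4
 Tr.leaf) 210213 5
 Tr.leaf) 210215 6
 (Tr.node Tr.leaf 210221 5
 Tr.leaf)) 210223 5
 (Tr.node (Tr.node (Tr.node Tr.leaf 210229 6
 Tr.leaf) 210231 6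
 Tr.leaf) 210237 6
 (Tr.node Tr.leaf 210239 6
 Tr.leaf))))) 210245 6
 (Tr.node (Tr.node (Tr.node (Tr.node (Tr.node (Tr.node Tr.leaf 210247 6
 Tr.leaf) 210253 6
 Tr.leaf) 210255 6
 (Tr.node (Tr.node Tr.leaf 210261 6
 Tr.leaf) 210263 6
 Tr.leaf)) 210269 6
 (Tr.node (Tr.node (Tr.node Tr.leaf 210271 6
 Tr.leaf) 210273 6
 Tr.leaf) 210275 6
 (Tr.node Tr.leaf 210281 6
 Tr.leaf))) 210283 6
 (Tr.node (Tr.node (Tr.node (Tr.node Tr.leaf 210289 6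
 Tr.leaf) 210291 6
 Tr.leaf) 210297 5
 (Tr.node Tr.leaf 210299 5
 Tr.leaf)) 210305 5
 (Tr.node (Tr.node (Tr.node Tr.leaf 210307 6
 Tr.leaf) 210313 4
 Tr.leaf) 210315 5
 (Tr.node Tr.leaf 210321 6
 Tr.leaf)))) 210323 5
 (Tr.node (Tr.node (Tr.node (Tr.node (Tr.node Tr.leaf 210329 6
 Tr.leaf) 210331 5
 Tr.leaf) 210341 6
 (Tr.node (Tr.node Tr.leaf 210343 6
 Tr.leaf) 210349 6
 Tr.leaf)) 210351 6
 (Tr.node (Tr.node (Tr.node Tr.leaf 210357 6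
 Tr.leaf) 210359 6
 Tr.leaf) 210365 6
 (Tr.node Tr.leaf 210367 6
 Tr.leaf))) 210373 6
 (Tr.node (Tr.node (Tr.node (Tr.node Tr.leaf 210375 5
 Tr.leaf) 210381 6
 Tr.leaf) 210383 6
 (Tr.node Tr.leaf 210389 6
 Tr.leaf)) 210391 5
 (Tr.node (Tr.node (Tr.node Tr.leaf 210397 6
 Tr.leaf) 210399 6
 Tr.leaf) 210401 5
 (Tr.node Tr.leaf 210403 6
 Tr.leaf)))))) 210409 6
 (Tr.node (Tr.node (Tr.node (Tr.node (Tr.node (Tr.node (Tr.node Tr.leaf 210411 5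
 Tr.leaf) 210417 6
 Tr.leaf) 210419 6
 (Tr.node (Tr.node Tr.leaf 210425 6
 Tr.leaf) 210427 6
 Tr.leaf)) 210945 5
 (Tr.node (Tr.node (Tr.node Tr.leaf 210946 5
 Tr.leaf) 210949 5
 Tr.leaf) 210950 5
 (Tr.node Tr.leaf 210953 6
 Tr.leaf))) 210954 5
 (Tr.node (Tr.node (Tr.node (Tr.node Tr.leaf 210957 5
 Tr.leaf) 210958 5
 Tr.leaf) 210961 7
 (Tr.node (Tr.node Tr.leaf 210962 6
 Tr.leaf) 210965 6
 Tr.leaf)) 210966 6
 (Tr.node (Tr.node (Tr.node Tr.leaf 210969 6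
 Tr.leaf) 210970 5
 Tr.leaf) 210973 6
 (Tr.node Tr.leaf 210974 6
 Tr.leaf)))) 210979 6
 (Tr.node (Tr.node (Tr.node (Tr.node (Tr.node Tr.leaf 210983 6
 Tr.leaf) 210987 6
 Tr.leaf) 210991 7
 (Tr.node (Tr.node Tr.leaf 210995 5
 Tr.leaf) 210999 6
 Tr.leaf)) 211003 6
 (Tr.node (Tr.node (Tr.node Tr.leaf 211007 5
 Tr.leaf) 211011 6
 Tr.leaf) 211015 5
 (Tr.node Tr.leaf 211019 5
 Tr.leaf))) 211023 6
 (Tr.node (Tr.node (Tr.node (Tr.node Tr.leaf 211027 6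
 Tr.leaf) 211031 5
 Tr.leaf) 211035 6
 (Tr.node Tr.leaf 211039 6
 Tr.leaf)) 211041 6
 (Tr.node (Tr.node (Tr.node Tr.leaf 211042 6
 Tr.leaf) 211045 6
 Tr.leaf) 211046 5
 (Tr.node Tr.leaf 211049 5
 Tr.leaf))))) 211050 5
 (Tr.node (Tr.node (Tr.node (Tr.node (Tr.node (Tr.node Tr.leaf 211053 5
 Tr.leaf) 211054 6
 Tr.leaf) 211057 6
 (Tr.node (Tr.node Tr.leaf 211058 6
 Tr.leaf) 211061 6
 Tr.leaf)) 211062 5
 (Tr.node (Tr.node (Tr.node Tr.leaf 211065 6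
 Tr.leaf) 211066 5
 Tr.leaf) 211069 6
 (Tr.node Tr.leaf 211070 6
 Tr.leaf))) 211073 6
 (Tr.node (Tr.node (Tr.node (Tr.node Tr.leaf 211074 6
 Tr.leaf) 211077 6
 Tr.leaf) 211078 4
 (Tr.node Tr.leaf 211081 6
 Tr.leaf)) 211082 5
 (Tr.node (Tr.node (Tr.node Tr.leaf 211085 6
 Tr.leaf) 211086 4
 Tr.leaf) 211089 6
 (Tr.node Tr.leaf 211090 6
 Tr.leaf)))) 211093 6
 (Tr.node (Tr.node (Tr.node (Tr.node (Tr.node Tr.leaf 211094 3
 Tr.leaf) 211097 6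
 Tr.leaf) 211098 6
 (Tr.node (Tr.node Tr.leaf 211101 7
 Tr.leaf) 211102 5
 Tr.leaf)) 211107 6
 (Tr.node (Tr.node (Tr.node Tr.leaf 211111 6
 Tr.leaf) 211115 6
 Tr.leaf) 211119 6
 (Tr.node Tr.leaf 211123 6
 Tr.leaf))) 211127 6
 (Tr.node (Tr.node (Tr.node (Tr.node Tr.leaf 211131 6
 Tr.leaf) 211135 6
 Tr.leaf) 211139 6
 (Tr.node Tr.leaf 211143 6
 Tr.leaf)) 211147 6
 (Tr.node (Tr.node (Tr.node Tr.leaf 211151 5
 Tr.leaf) 211155 6
 Tr.leaf) 211159 6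
 (Tr.node Tr.leaf 211163 6
 Tr.leaf))))))) 211167 6
 (Tr.node (Tr.node (Tr.node (Tr.node (Tr.node (Tr.node (Tr.node (Tr.node Tr.leaf 211169 5
 Tr.leaf) 211170 5
 Tr.leaf) 211173 6
 (Tr.node (Tr.node Tr.leaf 211174 5
 Tr.leaf) 211177 6
 Tr.leaf)) 211178 5
 (Tr.node (Tr.node (Tr.node Tr.leaf 211181 6
 Tr.leaf) 211182 7
 Tr.leaf) 211185 6
 (Tr.node Tr.leaf 211186 6
 Tr.leaf))) 211189 6
 (Tr.node (Tr.node (Tr.node (Tr.node Tr.leaf 211190 5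
 Tr.leaf) 211193 5
 Tr.leaf) 211194 5
 (Tr.node (Tr.node Tr.leaf 211197 5
 Tr.leaf) 211198 6
 Tr.leaf)) 211201 5
 (Tr.node (Tr.node (Tr.node Tr.leaf 211202 4
 Tr.leaf) 211205 6
 Tr.leaf) 211206 6
 (Tr.node Tr.leaf 211209 6
 Tr.leaf)))) 211210 3
 (Tr.node (Tr.node (Tr.node (Tr.node (Tr.node Tr.leaf 211213 6
 Tr.leaf) 211214 6
 Tr.leaf) 211217 6
 (Tr.node (Tr.node Tr.leaf 211218 4
 Tr.leaf) 211221 6
 Tr.leaf)) 211222 6
 (Tr.node (Tr.node (Tr.node Tr.leaf 211225 6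
 Tr.leaf) 211226 5
 Tr.leaf) 211229 6
 (Tr.node Tr.leaf 211230 6
 Tr.leaf))) 211235 6
 (Tr.node (Tr.node (Tr.node (Tr.node Tr.leaf 211239 6
 Tr.leaf) 211243 5
 Tr.leaf) 211247 6
 (Tr.node Tr.leaf 211251 6
 Tr.leaf)) 211255 6
 (Tr.node (Tr.node (Tr.node Tr.leaf 211259 6
 Tr.leaf) 211263 5
 Tr.leaf) 211267 6
 (Tr.node Tr.leaf 211271 6
 Tr.leaf))))) 211275 7
 (Tr.node (Tr.node (Tr.node (Tr.node (Tr.node (Tr.node Tr.leaf 211279 6
 Tr.leaf) 211283 5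
 Tr.leaf) 211287 6
 (Tr.node (Tr.node Tr.leaf 211291 6
 Tr.leaf) 211295 6
 Tr.leaf)) 211297 6
 (Tr.node (Tr.node (Tr.node Tr.leaf 211298 6
 Tr.leaf) 211301 6
 Tr.leaf) 211302 5
 (Tr.node Tr.leaf 211305 5
 Tr.leaf))) 211306 5
 (Tr.node (Tr.node (Tr.node (Tr.node Tr.leaf 211309 5
 Tr.leaf) 211310 5
 Tr.leaf) 211313 6
 (Tr.node Tr.leaf 211314 7
 Tr.leaf)) 211317 6
 (Tr.node (Tr.node (Tr.node Tr.leaf 211318 5
 Tr.leaf) 211321 6
 Tr.leaf) 211322 5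
 (Tr.node Tr.leaf 211325 6
 Tr.leaf)))) 211326 5
 (Tr.node (Tr.node (Tr.node (Tr.node (Tr.node Tr.leaf 211329 6
 Tr.leaf) 211330 5
 Tr.leaf) 211333 6
 (Tr.node (Tr.node Tr.leaf 211334 6
 Tr.leaf) 211337 6
 Tr.leaf)) 211338 6
 (Tr.node (Tr.node (Tr.node Tr.leaf 211341 5
 Tr.leaf) 211342 6
 Tr.leaf) 211345 5
 (Tr.node Tr.leaf 211346 5
 Tr.leaf))) 211349 5
 (Tr.node (Tr.node (Tr.node (Tr.node Tr.leaf 211350 5
 Tr.leaf) 211353 6
 Tr.leaf) 211354 5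
 (Tr.node Tr.leaf 211357 5
 Tr.leaf)) 211358 5
 (Tr.node (Tr.node (Tr.node Tr.leaf 211363 5
 Tr.leaf) 211367 5
 Tr.leaf) 211371 5
 (Tr.node Tr.leaf 211375 6
 Tr.leaf)))))) 211379 5
 (Tr.node (Tr.node (Tr.node (Tr.node (Tr.node (Tr.node (Tr.node Tr.leaf 211383 5
 Tr.leaf) 211387 5
 Tr.leaf) 211391 6
 (Tr.node (Tr.node Tr.leaf 211395 6
 Tr.leaf) 211399 6
 Tr.leaf)) 211403 6
 (Tr.node (Tr.node (Tr.node Tr.leaf 211407 6
 Tr.leaf) 211411 6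
 Tr.leaf) 211415 5
 (Tr.node Tr.leaf 211419 5
 Tr.leaf))) 211423 7
 (Tr.node (Tr.node (Tr.node (Tr.node Tr.leaf 211425 6
 Tr.leaf) 211426 5
 Tr.leaf) 211429 5
 (Tr.node (Tr.node Tr.leaf 211430 5
 Tr.leaf) 211433 5
 Tr.leaf)) 211434 5
 (Tr.node (Tr.node (Tr.node Tr.leaf 211437 6
 Tr.leaf) 211438 6
 Tr.leaf) 211441 7
 (Tr.node Tr.leaf 211442 6
 Tr.leaf)))) 211445 7
 (Tr.node (Tr.node (Tr.node (Tr.node (Tr.node Tr.leaf 211446 5
 Tr.leaf) 211449 6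
 Tr.leaf) 211450 5
 (Tr.node (Tr.node Tr.leaf 211453 6
 Tr.leaf) 211454 6
 Tr.leaf)) 212001 6
 (Tr.node (Tr.node (Tr.node Tr.leaf 212003 6
 Tr.leaf) 212005 6
 Tr.leaf) 212007 6
 (Tr.node Tr.leaf 212009 6
 Tr.leaf))) 212011 5
 (Tr.node (Tr.node (Tr.node (Tr.node Tr.leaf 212013 6
 Tr.leaf) 212015 6
 Tr.leaf) 212017 5
 (Tr.node Tr.leaf 212019 5
 Tr.leaf)) 212021 6
 (Tr.node (Tr.node (Tr.node Tr.leaf 212023 6
 Tr.leaf) 212025 6
 Tr.leaf) 212027 5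
 (Tr.node Tr.leaf 212029 5
 Tr.leaf))))) 212031 5
 (Tr.node (Tr.node (Tr.node (Tr.node (Tr.node (Tr.node Tr.leaf 212033 6
 Tr.leaf) 212035 5
 Tr.leaf) 212037 6
 (Tr.node (Tr.node Tr.leaf 212039 5
 Tr.leaf) 212041 5
 Tr.leaf)) 212043 6
 (Tr.node (Tr.node (Tr.node Tr.leaf 212045 5
 Tr.leaf) 212047 6
 Tr.leaf) 212049 6
 (Tr.node Tr.leaf 212051 6
 Tr.leaf))) 212053 6
 (Tr.node (Tr.node (Tr.node (Tr.node Tr.leaf 212055 6
 Tr.leaf) 212057 5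
 Tr.leaf) 212059 6
 (Tr.node Tr.leaf 212061 4
 Tr.leaf)) 212063 6
 (Tr.node (Tr.node (Tr.node Tr.leaf 212129 5
 Tr.leaf) 212131 6
 Tr.leaf) 212133 6
 (Tr.node Tr.leaf 212135 6
 Tr.leaf)))) 212137 6
 (Tr.node (Tr.node (Tr.node (Tr.node (Tr.node Tr.leaf 212139 6
 Tr.leaf) 212141 6
 Tr.leaf) 212143 5
 (Tr.node (Tr.node Tr.leaf 212145 6
 Tr.leaf) 212147 6
 Tr.leaf)) 212149 6
 (Tr.node (Tr.node (Tr.node Tr.leaf 212151 6
 Tr.leaf) 212153 6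
 Tr.leaf) 212155 6
 (Tr.node Tr.leaf 212157 6
 Tr.leaf))) 212159 6
 (Tr.node (Tr.node (Tr.node (Tr.node Tr.leaf 212161 6
 Tr.leaf) 212163 6
 Tr.leaf) 212165 5
 (Tr.node Tr.leaf 212167 5
 Tr.leaf)) 212169 5
 (Tr.node (Tr.node (Tr.node Tr.leaf 212171 6
 Tr.leaf) 212173 4
 Tr.leaf) 212175 6
 (Tr.node Tr.leaf 212177 6
 Tr.leaf)))))))))

/-- A subtree. -/
def tr2_s52 : Tr := (Tr.node (Tr.node (Tr.node (Tr.node (Tr.node (Tr.node (Tr.node (Tr.node (Tr.node (Tr.node Tr.leaf 212181 6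
 Tr.leaf) 212183 5
 Tr.leaf) 212185 6
 (Tr.node (Tr.node Tr.leaf 212187 5
 Tr.leaf) 212189 6
 Tr.leaf)) 212191 6
 (Tr.node (Tr.node (Tr.node Tr.leaf 212257 6
 Tr.leaf) 212259 6
 Tr.leaf) 212261 6
 (Tr.node Tr.leaf 212263 5
 Tr.leaf))) 212265 6
 (Tr.node (Tr.node (Tr.node (Tr.node Tr.leaf 212267 6
 Tr.leaf) 212269 5
 Tr.leaf) 212271 6
 (Tr.node (Tr.node Tr.leaf 212273 5
 Tr.leaf) 212275 6
 Tr.leaf)) 212277 6
 (Tr.node (Tr.node (Tr.node Tr.leaf 212279 6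
 Tr.leaf) 212281 5
 Tr.leaf) 212283 6
 (Tr.node Tr.leaf 212285 6
 Tr.leaf)))) 212287 5
 (Tr.node (Tr.node (Tr.node (Tr.node (Tr.node Tr.leaf 212289 6
 Tr.leaf) 212291 6
 Tr.leaf) 212293 6
 (Tr.node (Tr.node Tr.leaf 212295 6
 Tr.leaf) 212297 6
 Tr.leaf)) 212299 6
 (Tr.node (Tr.node (Tr.node Tr.leaf 212301 6
 Tr.leaf) 212303 6
 Tr.leaf) 212305 6
 (Tr.node Tr.leaf 212307 6
 Tr.leaf))) 212309 5
 (Tr.node (Tr.node (Tr.node (Tr.node Tr.leaf 212311 6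
 Tr.leaf) 212313 6
 Tr.leaf) 212315 6
 (Tr.node Tr.leaf 212317 6
 Tr.leaf)) 212319 6
 (Tr.node (Tr.node (Tr.node Tr.leaf 212385 5
 Tr.leaf) 212387 6
 Tr.leaf) 212389 5
 (Tr.node Tr.leaf 212391 6
 Tr.leaf))))) 212393 6
 (Tr.node (Tr.node (Tr.node (Tr.node (Tr.node (Tr.node Tr.leaf 212395 6
 Tr.leaf) 212397 6
 Tr.leaf) 212399 5
 (Tr.node (Tr.node Tr.leaf 212401 5
 Tr.leaf) 212403 6
 Tr.leaf)) 212405 5
 (Tr.node (Tr.node (Tr.node Tr.leaf 212407 6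
 Tr.leaf) 212409 6
 Tr.leaf) 212411 6
 (Tr.node Tr.leaf 212413 6
 Tr.leaf))) 212415 5
 (Tr.node (Tr.node (Tr.node (Tr.node Tr.leaf 212417 5
 Tr.leaf) 212419 6
 Tr.leaf) 212421 6
 (Tr.node (Tr.node Tr.leaf 212423 6
 Tr.leaf) 212425 6
 Tr.leaf)) 212427 6
 (Tr.node (Tr.node (Tr.node Tr.leaf 212429 6
 Tr.leaf) 212431 6
 Tr.leaf) 212433 4
 (Tr.node Tr.leaf 212435 5
 Tr.leaf)))) 212437 6
 (Tr.node (Tr.node (Tr.node (Tr.node (Tr.node Tr.leaf 212439 5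
 Tr.leaf) 212441 5
 Tr.leaf) 212443 5
 (Tr.node (Tr.node Tr.leaf 212445 5
 Tr.leaf) 212447 6
 Tr.leaf)) 212993 3
 (Tr.node (Tr.node (Tr.node Tr.leaf 212994 6
 Tr.leaf) 212996 3
 Tr.leaf) 212999 5
 (Tr.node Tr.leaf 213000 6
 Tr.leaf))) 213003 5
 (Tr.node (Tr.node (Tr.node (Tr.node Tr.leaf 213005 6
 Tr.leaf) 213006 3
 Tr.leaf) 213008 4
 (Tr.node Tr.leaf 213011 6
 Tr.leaf)) 213013 6
 (Tr.node (Tr.node (Tr.node Tr.leaf 213014 6
 Tr.leaf) 213017 4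
 Tr.leaf) 213018 6
 (Tr.node Tr.leaf 213020 4
 Tr.leaf)))))) 213023 6
 (Tr.node (Tr.node (Tr.node (Tr.node (Tr.node (Tr.node (Tr.node Tr.leaf 213025 3
 Tr.leaf) 213026 6
 Tr.leaf) 213028 5
 (Tr.node (Tr.node Tr.leaf 213031 5
 Tr.leaf) 213032 6
 Tr.leaf)) 213035 6
 (Tr.node (Tr.node (Tr.node Tr.leaf 213037 5
 Tr.leaf) 213038 4
 Tr.leaf) 213040 3
 (Tr.node Tr.leaf 213043 5
 Tr.leaf))) 213045 4
 (Tr.node (Tr.node (Tr.node (Tr.node Tr.leaf 213046 5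
 Tr.leaf) 213049 6
 Tr.leaf) 213050 4
 (Tr.node (Tr.node Tr.leaf 213052 5
 Tr.leaf) 213055 5
 Tr.leaf)) 213059 4
 (Tr.node (Tr.node (Tr.node Tr.leaf 213061 6
 Tr.leaf) 213062 3
 Tr.leaf) 213065 4
 (Tr.node Tr.leaf 213066 2
 Tr.leaf)))) 213068 2
 (Tr.node (Tr.node (Tr.node (Tr.node (Tr.node Tr.leaf 213071 6
 Tr.leaf) 213073 4
 Tr.leaf) 213074 5
 (Tr.node (Tr.node Tr.leaf 213076 7
 Tr.leaf) 213079 5
 Tr.leaf)) 213080 6
 (Tr.node (Tr.node (Tr.node Tr.leaf 213083 6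
 Tr.leaf) 213085 6
 Tr.leaf) 213086 6
 (Tr.node Tr.leaf 213091 5
 Tr.leaf))) 213093 6
 (Tr.node (Tr.node (Tr.node (Tr.node Tr.leaf 213094 5
 Tr.leaf) 213097 6
 Tr.leaf) 213098 5
 (Tr.node Tr.leaf 213100 6
 Tr.leaf)) 213103 6
 (Tr.node (Tr.node (Tr.node Tr.leaf 213105 6
 Tr.leaf) 213106 5
 Tr.leaf) 213108 5
 (Tr.node Tr.leaf 213111 6
 Tr.leaf))))) 213112 5
 (Tr.node (Tr.node (Tr.node (Tr.node (Tr.node (Tr.node Tr.leaf 213115 5
 Tr.leaf) 213117 6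
 Tr.leaf) 213118 6
 (Tr.node (Tr.node Tr.leaf 213121 3
 Tr.leaf) 213122 5
 Tr.leaf)) 213124 4
 (Tr.node (Tr.node (Tr.node Tr.leaf 213127 6
 Tr.leaf) 213128 6
 Tr.leaf) 213131 6
 (Tr.node Tr.leaf 213133 6
 Tr.leaf))) 213134 5
 (Tr.node (Tr.node (Tr.node (Tr.node Tr.leaf 213136 3
 Tr.leaf) 213139 4
 Tr.leaf) 213141 4
 (Tr.node Tr.leaf 213142 5
 Tr.leaf)) 213145 6
 (Tr.node (Tr.node (Tr.node Tr.leaf 213146 5
 Tr.leaf) 213148 4
 Tr.leaf) 213151 6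
 (Tr.node Tr.leaf 213153 3
 Tr.leaf)))) 213154 6
 (Tr.node (Tr.node (Tr.node (Tr.node (Tr.node Tr.leaf 213156 5
 Tr.leaf) 213159 6
 Tr.leaf) 213160 5
 (Tr.node (Tr.node Tr.leaf 213163 5
 Tr.leaf) 213165 6
 Tr.leaf)) 213166 5
 (Tr.node (Tr.node (Tr.node Tr.leaf 213168 2
 Tr.leaf) 213171 6
 Tr.leaf) 213173 6
 (Tr.node Tr.leaf 213174 6
 Tr.leaf))) 213177 5
 (Tr.node (Tr.node (Tr.node (Tr.node Tr.leaf 213178 5
 Tr.leaf) 213180 4
 Tr.leaf) 213183 5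
 (Tr.node Tr.leaf 213187 6
 Tr.leaf)) 213189 4
 (Tr.node (Tr.node (Tr.node Tr.leaf 213190 6
 Tr.leaf) 213193 5
 Tr.leaf) 213194 5
 (Tr.node Tr.leaf 213196 5
 Tr.leaf))))))) 213199 6
 (Tr.node (Tr.node (Tr.node (Tr.node (Tr.node (Tr.node (Tr.node (Tr.node Tr.leaf 213201 7
 Tr.leaf) 213202 5
 Tr.leaf) 213204 5
 (Tr.node (Tr.node Tr.leaf 213207 6
 Tr.leaf) 213208 6
 Tr.leaf)) 213211 5
 (Tr.node (Tr.node (Tr.node Tr.leaf 213213 6
 Tr.leaf) 213214 5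
 Tr.leaf) 213219 5
 (Tr.node Tr.leaf 213221 6
 Tr.leaf))) 213222 5
 (Tr.node (Tr.node (Tr.node (Tr.node Tr.leaf 213225 7
 Tr.leaf) 213226 5
 Tr.leaf) 213228 5
 (Tr.node (Tr.node Tr.leaf 213231 6
 Tr.leaf) 213233 6
 Tr.leaf)) 213234 5
 (Tr.node (Tr.node (Tr.node Tr.leaf 213236 5
 Tr.leaf) 213239 5
 Tr.leaf) 213240 6
 (Tr.node Tr.leaf 213243 5
 Tr.leaf)))) 213245 5
 (Tr.node (Tr.node (Tr.node (Tr.node (Tr.node Tr.leaf 213246 6
 Tr.leaf) 213249 4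
 Tr.leaf) 213250 5
 (Tr.node (Tr.node Tr.leaf 213252 4
 Tr.leaf) 213255 7
 Tr.leaf)) 213256 6
 (Tr.node (Tr.node (Tr.node Tr.leaf 213259 6
 Tr.leaf) 213261 5
 Tr.leaf) 213262 5
 (Tr.node Tr.leaf 213264 2
 Tr.leaf))) 213267 5
 (Tr.node (Tr.node (Tr.node (Tr.node Tr.leaf 213269 6
 Tr.leaf) 213270 6
 Tr.leaf) 213273 6
 (Tr.node Tr.leaf 213274 5
 Tr.leaf)) 213276 5
 (Tr.node (Tr.node (Tr.node Tr.leaf 213279 5
 Tr.leaf) 213281 3
 Tr.leaf) 213282 6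
 (Tr.node Tr.leaf 213284 4
 Tr.leaf))))) 213287 6
 (Tr.node (Tr.node (Tr.node (Tr.node (Tr.node (Tr.node Tr.leaf 213288 6
 Tr.leaf) 213291 6
 Tr.leaf) 213293 5
 (Tr.node (Tr.node Tr.leaf 213294 5
 Tr.leaf) 213296 3
 Tr.leaf)) 213299 6
 (Tr.node (Tr.node (Tr.node Tr.leaf 213301 6
 Tr.leaf) 213302 5
 Tr.leaf) 213305 5
 (Tr.node Tr.leaf 213306 4
 Tr.leaf))) 213308 5
 (Tr.node (Tr.node (Tr.node (Tr.node Tr.leaf 213311 5
 Tr.leaf) 213315 6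
 Tr.leaf) 213317 6
 (Tr.node Tr.leaf 213318 5
 Tr.leaf)) 213321 7
 (Tr.node (Tr.node (Tr.node Tr.leaf 213322 5
 Tr.leaf) 213324 4
 Tr.leaf) 213327 6
 (Tr.node Tr.leaf 213329 6
 Tr.leaf)))) 213330 4
 (Tr.node (Tr.node (Tr.node (Tr.node (Tr.node Tr.leaf 213332 5
 Tr.leaf) 213335 5
 Tr.leaf) 213336 6
 (Tr.node (Tr.node Tr.leaf 213339 5
 Tr.leaf) 213341 5
 Tr.leaf)) 213342 6
 (Tr.node (Tr.node (Tr.node Tr.leaf 213347 4
 Tr.leaf) 213349 6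
 Tr.leaf) 213350 6
 (Tr.node Tr.leaf 213353 5
 Tr.leaf))) 213354 4
 (Tr.node (Tr.node (Tr.node (Tr.node Tr.leaf 213356 5
 Tr.leaf) 213359 6
 Tr.leaf) 213361 4
 (Tr.node Tr.leaf 213362 4
 Tr.leaf)) 213364 5
 (Tr.node (Tr.node (Tr.node Tr.leaf 213367 6
 Tr.leaf) 213368 5
 Tr.leaf) 213371 5
 (Tr.node Tr.leaf 213373 6
 Tr.leaf)))))) 213374 6
 (Tr.node (Tr.node (Tr.node (Tr.node (Tr.node (Tr.node (Tr.node Tr.leaf 213377 3
 Tr.leaf) 213378 6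
 Tr.leaf) 213380 5
 (Tr.node (Tr.node Tr.leaf 213383 5
 Tr.leaf) 213384 5
 Tr.leaf)) 213387 6
 (Tr.node (Tr.node (Tr.node Tr.leaf 213389 6
 Tr.leaf) 213390 6
 Tr.leaf) 213392 3
 (Tr.node Tr.leaf 213395 6
 Tr.leaf))) 213397 6
 (Tr.node (Tr.node (Tr.node (Tr.node Tr.leaf 213398 6
 Tr.leaf) 213401 4
 Tr.leaf) 213402 5
 (Tr.node (Tr.node Tr.leaf 213404 5
 Tr.leaf) 213407 5
 Tr.leaf)) 213409 3
 (Tr.node (Tr.node (Tr.node Tr.leaf 213410 6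
 Tr.leaf) 213412 4
 Tr.leaf) 213415 5
 (Tr.node Tr.leaf 213416 6
 Tr.leaf)))) 213419 5
 (Tr.node (Tr.node (Tr.node (Tr.node (Tr.node Tr.leaf 213421 4
 Tr.leaf) 213422 2
 Tr.leaf) 213424 4
 (Tr.node (Tr.node Tr.leaf 213427 5
 Tr.leaf) 213429 4
 Tr.leaf)) 213430 6
 (Tr.node (Tr.node (Tr.node Tr.leaf 213433 6
 Tr.leaf) 213434 6
 Tr.leaf) 213436 5
 (Tr.node Tr.leaf 213439 6
 Tr.leaf))) 213443 6
 (Tr.node (Tr.node (Tr.node (Tr.node Tr.leaf 213445 4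
 Tr.leaf) 213446 5
 Tr.leaf) 213449 6
 (Tr.node Tr.leaf 213450 5
 Tr.leaf)) 213452 6
 (Tr.node (Tr.node (Tr.node Tr.leaf 213455 6
 Tr.leaf) 213457 4
 Tr.leaf) 213458 4
 (Tr.node Tr.leaf 213460 4
 Tr.leaf))))) 213463 6
 (Tr.node (Tr.node (Tr.node (Tr.node (Tr.node (Tr.node Tr.leaf 213464 5
 Tr.leaf) 213467 6
 Tr.leaf) 213469 6
 (Tr.node (Tr.node Tr.leaf 213470 5
 Tr.leaf) 213475 6
 Tr.leaf)) 213477 6
 (Tr.node (Tr.node (Tr.node Tr.leaf 213478 2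
 Tr.leaf) 213481 5
 Tr.leaf) 213482 3
 (Tr.node Tr.leaf 213484 3
 Tr.leaf))) 213487 6
 (Tr.node (Tr.node (Tr.node (Tr.node Tr.leaf 213489 6
 Tr.leaf) 213490 4
 Tr.leaf) 213492 6
 (Tr.node Tr.leaf 213495 6
 Tr.leaf)) 213496 6
 (Tr.node (Tr.node (Tr.node Tr.leaf 213499 6
 Tr.leaf) 213501 5
 Tr.leaf) 213502 6
 (Tr.node Tr.leaf 214021 6
 Tr.leaf)))) 214023 6
 (Tr.node (Tr.node (Tr.node (Tr.node (Tr.node Tr.leaf 214025 7
 Tr.leaf) 214027 5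
 Tr.leaf) 214033 6
 (Tr.node (Tr.node Tr.leaf 214035 6
 Tr.leaf) 214045 6
 Tr.leaf)) 214047 6
 (Tr.node (Tr.node (Tr.node Tr.leaf 214053 6
 Tr.leaf) 214055 4
 Tr.leaf) 214057 6
 (Tr.node Tr.leaf 214059 6
 Tr.leaf))) 214065 4
 (Tr.node (Tr.node (Tr.node (Tr.node Tr.leaf 214067 4
 Tr.leaf) 214077 6
 Tr.leaf) 214079 6
 (Tr.node Tr.leaf 214081 6
 Tr.leaf)) 214083 5
 (Tr.node (Tr.node (Tr.node Tr.leaf 214093 6
 Tr.leaf) 214095 6
 Tr.leaf) 214101 6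
 (Tr.node Tr.leaf 214103 6
 Tr.leaf)))))))) 214105 7
 (Tr.node (Tr.node (Tr.node (Tr.node (Tr.node (Tr.node (Tr.node (Tr.node (Tr.node Tr.leaf 214107 6
 Tr.leaf) 214113 6
 Tr.leaf) 214115 6
 (Tr.node (Tr.node Tr.leaf 214125 6
 Tr.leaf) 214127 6
 Tr.leaf)) 214133 6
 (Tr.node (Tr.node (Tr.node Tr.leaf 214135 6
 Tr.leaf) 214137 6
 Tr.leaf) 214139 6
 (Tr.node Tr.leaf 214149 4
 Tr.leaf))) 214151 7
 (Tr.node (Tr.node (Tr.node (Tr.node Tr.leaf 214153 6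
 Tr.leaf) 214155 5
 Tr.leaf) 214161 4
 (Tr.node (Tr.node Tr.leaf 214163 6
 Tr.leaf) 214173 6
 Tr.leaf)) 214175 6
 (Tr.node (Tr.node (Tr.node Tr.leaf 214181 5
 Tr.leaf) 214183 6
 Tr.leaf) 214185 6
 (Tr.node Tr.leaf 214187 6
 Tr.leaf)))) 214193 6
 (Tr.node (Tr.node (Tr.node (Tr.node (Tr.node Tr.leaf 214195 6
 Tr.leaf) 214205 6
 Tr.leaf) 214207 6
 (Tr.node (Tr.node Tr.leaf 214209 4
 Tr.leaf) 214211 6
 Tr.leaf)) 214221 6
 (Tr.node (Tr.node (Tr.node Tr.leaf 214223 6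
 Tr.leaf) 214229 6
 Tr.leaf) 214231 6
 (Tr.node Tr.leaf 214233 6
 Tr.leaf))) 214235 6
 (Tr.node (Tr.node (Tr.node (Tr.node Tr.leaf 214241 5
 Tr.leaf) 214243 6
 Tr.leaf) 214253 6
 (Tr.node Tr.leaf 214255 6
 Tr.leaf)) 214261 6
 (Tr.node (Tr.node (Tr.node Tr.leaf 214263 5
 Tr.leaf) 214265 5
 Tr.leaf) 214267 7
 (Tr.node Tr.leaf 214277 6
 Tr.leaf))))) 214279 4
 (Tr.node (Tr.node (Tr.node (Tr.node (Tr.node (Tr.node Tr.leaf 214281 6
 Tr.leaf) 214283 6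
 Tr.leaf) 214289 6
 (Tr.node (Tr.node Tr.leaf 214291 6
 Tr.leaf) 214301 5
 Tr.leaf)) 214303 5
 (Tr.node (Tr.node (Tr.node Tr.leaf 214309 6
 Tr.leaf) 214311 5
 Tr.leaf) 214313 5
 (Tr.node Tr.leaf 214315 6
 Tr.leaf))) 214321 6
 (Tr.node (Tr.node (Tr.node (Tr.node Tr.leaf 214323 6
 Tr.leaf) 214333 6
 Tr.leaf) 214335 5
 (Tr.node (Tr.node Tr.leaf 214337 6
 Tr.leaf) 214339 6
 Tr.leaf)) 214349 6
 (Tr.node (Tr.node (Tr.node Tr.leaf 214351 6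
 Tr.leaf) 214357 6
 Tr.leaf) 214359 6
 (Tr.node Tr.leaf 214361 6
 Tr.leaf)))) 214363 5
 (Tr.node (Tr.node (Tr.node (Tr.node (Tr.node Tr.leaf 214369 6
 Tr.leaf) 214371 6
 Tr.leaf) 214381 6
 (Tr.node (Tr.node Tr.leaf 214383 6
 Tr.leaf) 214389 6
 Tr.leaf)) 214391 5
 (Tr.node (Tr.node (Tr.node Tr.leaf 214393 6
 Tr.leaf) 214395 6
 Tr.leaf) 214405 6
 (Tr.node Tr.leaf 214407 4
 Tr.leaf))) 214409 6
 (Tr.node (Tr.node (Tr.node (Tr.node Tr.leaf 214411 6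
 Tr.leaf) 214417 6
 Tr.leaf) 214419 6
 (Tr.node Tr.leaf 214429 5
 Tr.leaf)) 214431 6
 (Tr.node (Tr.node (Tr.node Tr.leaf 214437 6
 Tr.leaf) 214439 6
 Tr.leaf) 214441 6
 (Tr.node Tr.leaf 214443 6
 Tr.leaf)))))) 214449 6
 (Tr.node (Tr.node (Tr.node (Tr.node (Tr.node (Tr.node (Tr.node Tr.leaf 214451 4
 Tr.leaf) 214461 6
 Tr.leaf) 214463 6
 (Tr.node (Tr.node Tr.leaf 214465 4
 Tr.leaf) 214467 6
 Tr.leaf)) 214477 6
 (Tr.node (Tr.node (Tr.node Tr.leaf 214479 6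
 Tr.leaf) 214485 6
 Tr.leaf) 214487 5
 (Tr.node Tr.leaf 214489 5
 Tr.leaf))) 214491 6
 (Tr.node (Tr.node (Tr.node (Tr.node Tr.leaf 214497 5
 Tr.leaf) 214499 5
 Tr.leaf) 214509 6
 (Tr.node (Tr.node Tr.leaf 214511 5
 Tr.leaf) 214517 6
 Tr.leaf)) 214519 6
 (Tr.node (Tr.node (Tr.node Tr.leaf 214521 6
 Tr.leaf) 214523 6
 Tr.leaf) 215043 6
 (Tr.node Tr.leaf 215047 6
 Tr.leaf)))) 215049 6
 (Tr.node (Tr.node (Tr.node (Tr.node (Tr.node Tr.leaf 215050 5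
 Tr.leaf) 215053 4
 Tr.leaf) 215054 5
 (Tr.node (Tr.node Tr.leaf 215057 6
 Tr.leaf) 215058 6
 Tr.leaf)) 215061 6
 (Tr.node (Tr.node (Tr.node Tr.leaf 215062 6
 Tr.leaf) 215067 5
 Tr.leaf) 215071 6
 (Tr.node Tr.leaf 215075 6
 Tr.leaf))) 215079 6
 (Tr.node (Tr.node (Tr.node (Tr.node Tr.leaf 215081 6
 Tr.leaf) 215082 5
 Tr.leaf) 215085 6
 (Tr.node Tr.leaf 215086 6
 Tr.leaf)) 215089 5
 (Tr.node (Tr.node (Tr.node Tr.leaf 215090 6
 Tr.leaf) 215093 4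
 Tr.leaf) 215094 6
 (Tr.node Tr.leaf 215099 6
 Tr.leaf))))) 215103 6
 (Tr.node (Tr.node (Tr.node (Tr.node (Tr.node (Tr.node Tr.leaf 215105 6
 Tr.leaf) 215106 5
 Tr.leaf) 215109 5
 (Tr.node (Tr.node Tr.leaf 215110 5
 Tr.leaf) 215115 7
 Tr.leaf)) 215119 5
 (Tr.node (Tr.node (Tr.node Tr.leaf 215123 6
 Tr.leaf) 215127 6
 Tr.leaf) 215129 5
 (Tr.node Tr.leaf 215130 5
 Tr.leaf))) 215133 6
 (Tr.node (Tr.node (Tr.node (Tr.node Tr.leaf 215134 6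
 Tr.leaf) 215137 6
 Tr.leaf) 215138 6
 (Tr.node Tr.leaf 215141 6
 Tr.leaf)) 215142 5
 (Tr.node (Tr.node (Tr.node Tr.leaf 215147 6
 Tr.leaf) 215151 6
 Tr.leaf) 215155 5
 (Tr.node Tr.leaf 215159 5
 Tr.leaf)))) 215161 5
 (Tr.node (Tr.node (Tr.node (Tr.node (Tr.node Tr.leaf 215162 5
 Tr.leaf) 215165 6
 Tr.leaf) 215166 5
 (Tr.node (Tr.node Tr.leaf 215171 6
 Tr.leaf) 215175 5
 Tr.leaf)) 215177 6
 (Tr.node (Tr.node (Tr.node Tr.leaf 215178 6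
 Tr.leaf) 215181 6
 Tr.leaf) 215182 5
 (Tr.node Tr.leaf 215185 4
 Tr.leaf))) 215186 6
 (Tr.node (Tr.node (Tr.node (Tr.node Tr.leaf 215189 6
 Tr.leaf) 215190 6
 Tr.leaf) 215195 6
 (Tr.node Tr.leaf 215199 6
 Tr.leaf)) 215203 6
 (Tr.node (Tr.node (Tr.node Tr.leaf 215207 5
 Tr.leaf) 215209 5
 Tr.leaf) 215210 6
 (Tr.node Tr.leaf 215213 6
 Tr.leaf))))))) 215214 4
 (Tr.node (Tr.node (Tr.node (Tr.node (Tr.node (Tr.node (Tr.node (Tr.node Tr.leaf 215217 6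
 Tr.leaf) 215218 6
 Tr.leaf) 215221 5
 (Tr.node (Tr.node Tr.leaf 215222 6
 Tr.leaf) 215227 5
 Tr.leaf)) 215231 6
 (Tr.node (Tr.node (Tr.node Tr.leaf 215233 5
 Tr.leaf) 215234 5
 Tr.leaf) 215237 6
 (Tr.node Tr.leaf 215238 6
 Tr.leaf))) 215243 6
 (Tr.node (Tr.node (Tr.node (Tr.node Tr.leaf 215247 6
 Tr.leaf) 215251 6
 Tr.leaf) 215255 6
 (Tr.node (Tr.node Tr.leaf 215257 5
 Tr.leaf) 215258 5
 Tr.leaf)) 215261 6
 (Tr.node (Tr.node (Tr.node Tr.leaf 215262 5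
 Tr.leaf) 215265 6
 Tr.leaf) 215266 5
 (Tr.node Tr.leaf 215269 4
 Tr.leaf)))) 215270 6
 (Tr.node (Tr.node (Tr.node (Tr.node (Tr.node Tr.leaf 215275 5
 Tr.leaf) 215279 5
 Tr.leaf) 215283 5
 (Tr.node (Tr.node Tr.leaf 215287 6
 Tr.leaf) 215289 6
 Tr.leaf)) 215290 6
 (Tr.node (Tr.node (Tr.node Tr.leaf 215293 6
 Tr.leaf) 215294 6
 Tr.leaf) 215299 6
 (Tr.node Tr.leaf 215303 6
 Tr.leaf))) 215305 6
 (Tr.node (Tr.node (Tr.node (Tr.node Tr.leaf 215306 3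
 Tr.leaf) 215309 6
 Tr.leaf) 215310 6
 (Tr.node Tr.leaf 215313 6
 Tr.leaf)) 215314 6
 (Tr.node (Tr.node (Tr.node Tr.leaf 215317 7
 Tr.leaf) 215318 6
 Tr.leaf) 215323 5
 (Tr.node Tr.leaf 215327 6
 Tr.leaf))))) 215331 4
 (Tr.node (Tr.node (Tr.node (Tr.node (Tr.node (Tr.node Tr.leaf 215335 4
 Tr.leaf) 215337 6
 Tr.leaf) 215338 4
 (Tr.node (Tr.node Tr.leaf 215341 6
 Tr.leaf) 215342 6
 Tr.leaf)) 215345 6
 (Tr.node (Tr.node (Tr.node Tr.leaf 215346 6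
 Tr.leaf) 215349 6
 Tr.leaf) 215350 6
 (Tr.node Tr.leaf 215355 5
 Tr.leaf))) 215359 5
 (Tr.node (Tr.node (Tr.node (Tr.node Tr.leaf 215361 6
 Tr.leaf) 215362 6
 Tr.leaf) 215365 6
 (Tr.node Tr.leaf 215366 6
 Tr.leaf)) 215371 6
 (Tr.node (Tr.node (Tr.node Tr.leaf 215375 6
 Tr.leaf) 215379 6
 Tr.leaf) 215383 6
 (Tr.node Tr.leaf 215385 6
 Tr.leaf)))) 215386 6
 (Tr.node (Tr.node (Tr.node (Tr.node (Tr.node Tr.leaf 215389 6
 Tr.leaf) 215390 5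
 Tr.leaf) 215393 4
 (Tr.node (Tr.node Tr.leaf 215394 6
 Tr.leaf) 215397 5
 Tr.leaf)) 215398 5
 (Tr.node (Tr.node (Tr.node Tr.leaf 215403 6
 Tr.leaf) 215407 6
 Tr.leaf) 215411 6
 (Tr.node Tr.leaf 215415 6
 Tr.leaf))) 215417 6
 (Tr.node (Tr.node (Tr.node (Tr.node Tr.leaf 215418 6
 Tr.leaf) 215421 6
 Tr.leaf) 215422 5
 (Tr.node Tr.leaf 215427 6
 Tr.leaf)) 215431 7
 (Tr.node (Tr.node (Tr.node Tr.leaf 215433 6
 Tr.leaf) 215434 6
 Tr.leaf) 215437 5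
 (Tr.node Tr.leaf 215438 6
 Tr.leaf)))))) 215441 6
 (Tr.node (Tr.node (Tr.node (Tr.node (Tr.node (Tr.node (Tr.node Tr.leaf 215442 6
 Tr.leaf) 215445 6
 Tr.leaf) 215446 6
 (Tr.node (Tr.node Tr.leaf 215451 5
 Tr.leaf) 215455 6
 Tr.leaf)) 215459 5
 (Tr.node (Tr.node (Tr.node Tr.leaf 215463 6
 Tr.leaf) 215465 6
 Tr.leaf) 215466 5
 (Tr.node Tr.leaf 215469 5
 Tr.leaf))) 215470 5
 (Tr.node (Tr.node (Tr.node (Tr.node Tr.leaf 215473 5
 Tr.leaf) 215474 6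
 Tr.leaf) 215477 5
 (Tr.node (Tr.node Tr.leaf 215478 6
 Tr.leaf) 215483 6
 Tr.leaf)) 215487 6
 (Tr.node (Tr.node (Tr.node Tr.leaf 215489 6
 Tr.leaf) 215490 4
 Tr.leaf) 215493 6
 (Tr.node Tr.leaf 215494 6
 Tr.leaf)))) 215499 6
 (Tr.node (Tr.node (Tr.node (Tr.node (Tr.node Tr.leaf 215503 5
 Tr.leaf) 215507 6
 Tr.leaf) 215511 6
 (Tr.node (Tr.node Tr.leaf 215513 6
 Tr.leaf) 215514 6
 Tr.leaf)) 215517 6
 (Tr.node (Tr.node (Tr.node Tr.leaf 215518 6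
 Tr.leaf) 215521 6
 Tr.leaf) 215522 5
 (Tr.node Tr.leaf 215525 5
 Tr.leaf))) 215526 5
 (Tr.node (Tr.node (Tr.node (Tr.node Tr.leaf 215531 6
 Tr.leaf) 215535 6
 Tr.leaf) 215539 6
 (Tr.node Tr.leaf 215543 6
 Tr.leaf)) 215545 5
 (Tr.node (Tr.node (Tr.node Tr.leaf 215546 6
 Tr.leaf) 215549 5
 Tr.leaf) 215550 6
 (Tr.node Tr.leaf 216065 4
 Tr.leaf))))) 216067 6
 (Tr.node (Tr.node (Tr.node (Tr.node (Tr.node (Tr.node Tr.leaf 216069 4
 Tr.leaf) 216071 5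
 Tr.leaf) 216089 6
 (Tr.node (Tr.node Tr.leaf 216091 6
 Tr.leaf) 216093 6
 Tr.leaf)) 216095 6
 (Tr.node (Tr.node (Tr.node Tr.leaf 216097 4
 Tr.leaf) 216099 6
 Tr.leaf) 216101 5
 (Tr.node Tr.leaf 216103 4
 Tr.leaf))) 216121 6
 (Tr.node (Tr.node (Tr.node (Tr.node Tr.leaf 216123 6
 Tr.leaf) 216125 5
 Tr.leaf) 216127 7
 (Tr.node Tr.leaf 216137 6
 Tr.leaf)) 216139 5
 (Tr.node (Tr.node (Tr.node Tr.leaf 216141 5
 Tr.leaf) 216143 5
 Tr.leaf) 216145 5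
 (Tr.node Tr.leaf 216147 6
 Tr.leaf)))) 216149 6
 (Tr.node (Tr.node (Tr.node (Tr.node (Tr.node Tr.leaf 216151 6
 Tr.leaf) 216169 6
 Tr.leaf) 216171 5
 (Tr.node (Tr.node Tr.leaf 216173 6
 Tr.leaf) 216175 6
 Tr.leaf)) 216177 6
 (Tr.node (Tr.node (Tr.node Tr.leaf 216179 6
 Tr.leaf) 216181 6
 Tr.leaf) 216183 5
 (Tr.node Tr.leaf 216193 4
 Tr.leaf))) 216195 5
 (Tr.node (Tr.node (Tr.node (Tr.node Tr.leaf 216197 6
 Tr.leaf) 216199 6
 Tr.leaf) 216217 6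
 (Tr.node Tr.leaf 216219 6
 Tr.leaf)) 216221 6
 (Tr.node (Tr.node (Tr.node Tr.leaf 216223 5
 Tr.leaf) 216225 6
 Tr.leaf) 216227 5
 (Tr.node Tr.leaf 216229 6
 Tr.leaf)))))))))

/-- A subtree. -/
def tr2_s53 : Tr := (Tr.node (Tr.node (Tr.node (Tr.node (Tr.node (Tr.node (Tr.node (Tr.node (Tr.node (Tr.node Tr.leaf 216249 6
 Tr.leaf) 216251 5
 Tr.leaf) 216253 6
 (Tr.node (Tr.node Tr.leaf 216255 6
 Tr.leaf) 216265 6
 Tr.leaf)) 216267 5
 (Tr.node (Tr.node (Tr.node Tr.leaf 216269 6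
 Tr.leaf) 216271 6
 Tr.leaf) 216273 6
 (Tr.node Tr.leaf 216275 6
 Tr.leaf))) 216277 6
 (Tr.node (Tr.node (Tr.node (Tr.node Tr.leaf 216279 6
 Tr.leaf) 216297 5
 Tr.leaf) 216299 6
 (Tr.node (Tr.node Tr.leaf 216301 6
 Tr.leaf) 216303 6
 Tr.leaf)) 216305 5
 (Tr.node (Tr.node (Tr.node Tr.leaf 216307 6
 Tr.leaf) 216309 6
 Tr.leaf) 216311 6
 (Tr.node Tr.leaf 216321 6
 Tr.leaf)))) 216323 4
 (Tr.node (Tr.node (Tr.node (Tr.node (Tr.node Tr.leaf 216325 6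
 Tr.leaf) 216327 6
 Tr.leaf) 216345 6
 (Tr.node (Tr.node Tr.leaf 216347 5
 Tr.leaf) 216349 6
 Tr.leaf)) 216351 5
 (Tr.node (Tr.node (Tr.node Tr.leaf 216353 6
 Tr.leaf) 216355 6
 Tr.leaf) 216357 5
 (Tr.node Tr.leaf 216359 5
 Tr.leaf))) 216377 6
 (Tr.node (Tr.node (Tr.node (Tr.node Tr.leaf 216379 5
 Tr.leaf) 216381 6
 Tr.leaf) 216383 6
 (Tr.node Tr.leaf 216393 6
 Tr.leaf)) 216395 6
 (Tr.node (Tr.node (Tr.node Tr.leaf 216397 5
 Tr.leaf) 216399 6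
 Tr.leaf) 216401 6
 (Tr.node Tr.leaf 216403 5
 Tr.leaf))))) 216405 5
 (Tr.node (Tr.node (Tr.node (Tr.node (Tr.node (Tr.node Tr.leaf 216407 6
 Tr.leaf) 216425 6
 Tr.leaf) 216427 5
 (Tr.node (Tr.node Tr.leaf 216429 6
 Tr.leaf) 216431 6
 Tr.leaf)) 216433 5
 (Tr.node (Tr.node (Tr.node Tr.leaf 216435 6
 Tr.leaf) 216437 5
 Tr.leaf) 216439 6
 (Tr.node Tr.leaf 216449 5
 Tr.leaf))) 216451 6
 (Tr.node (Tr.node (Tr.node (Tr.node Tr.leaf 216453 6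
 Tr.leaf) 216455 4
 Tr.leaf) 216473 6
 (Tr.node (Tr.node Tr.leaf 216475 6
 Tr.leaf) 216477 6
 Tr.leaf)) 216479 6
 (Tr.node (Tr.node (Tr.node Tr.leaf 216481 5
 Tr.leaf) 216483 6
 Tr.leaf) 216485 6
 (Tr.node Tr.leaf 216487 5
 Tr.leaf)))) 216505 6
 (Tr.node (Tr.node (Tr.node (Tr.node (Tr.node Tr.leaf 216507 6
 Tr.leaf) 216509 6
 Tr.leaf) 216511 6
 (Tr.node (Tr.node Tr.leaf 216521 6
 Tr.leaf) 216523 6
 Tr.leaf)) 216525 6
 (Tr.node (Tr.node (Tr.node Tr.leaf 216527 7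
 Tr.leaf) 216529 5
 Tr.leaf) 216531 6
 (Tr.node Tr.leaf 216533 6
 Tr.leaf))) 216535 5
 (Tr.node (Tr.node (Tr.node (Tr.node Tr.leaf 216553 6
 Tr.leaf) 216555 5
 Tr.leaf) 216557 5
 (Tr.node Tr.leaf 216559 6
 Tr.leaf)) 216561 6
 (Tr.node (Tr.node (Tr.node Tr.leaf 216563 6
 Tr.leaf) 216565 6
 Tr.leaf) 216567 6
 (Tr.node Tr.leaf 217091 6
 Tr.leaf)))))) 217093 5
 (Tr.node (Tr.node (Tr.node (Tr.node (Tr.node (Tr.node (Tr.node Tr.leaf 217094 4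
 Tr.leaf) 217099 6
 Tr.leaf) 217101 5
 (Tr.node (Tr.node Tr.leaf 217102 5
 Tr.leaf) 217105 4
 Tr.leaf)) 217106 4
 (Tr.node (Tr.node (Tr.node Tr.leaf 217108 6
 Tr.leaf) 217111 6
 Tr.leaf) 217113 6
 (Tr.node Tr.leaf 217114 6
 Tr.leaf))) 217116 6
 (Tr.node (Tr.node (Tr.node (Tr.node Tr.leaf 217119 6
 Tr.leaf) 217123 6
 Tr.leaf) 217125 6
 (Tr.node (Tr.node Tr.leaf 217126 5
 Tr.leaf) 217131 5
 Tr.leaf)) 217133 6
 (Tr.node (Tr.node (Tr.node Tr.leaf 217134 3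
 Tr.leaf) 217137 6
 Tr.leaf) 217138 5
 (Tr.node Tr.leaf 217140 6
 Tr.leaf)))) 217143 6
 (Tr.node (Tr.node (Tr.node (Tr.node (Tr.node Tr.leaf 217145 6
 Tr.leaf) 217146 6
 Tr.leaf) 217148 5
 (Tr.node (Tr.node Tr.leaf 217151 6
 Tr.leaf) 217153 7
 Tr.leaf)) 217154 6
 (Tr.node (Tr.node (Tr.node Tr.leaf 217156 5
 Tr.leaf) 217159 5
 Tr.leaf) 217161 6
 (Tr.node Tr.leaf 217162 6
 Tr.leaf))) 217164 5
 (Tr.node (Tr.node (Tr.node (Tr.node Tr.leaf 217167 6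
 Tr.leaf) 217171 6
 Tr.leaf) 217173 6
 (Tr.node Tr.leaf 217174 6
 Tr.leaf)) 217179 6
 (Tr.node (Tr.node (Tr.node Tr.leaf 217181 6
 Tr.leaf) 217182 5
 Tr.leaf) 217185 5
 (Tr.node Tr.leaf 217186 6
 Tr.leaf))))) 217188 6
 (Tr.node (Tr.node (Tr.node (Tr.node (Tr.node (Tr.node Tr.leaf 217191 6
 Tr.leaf) 217193 6
 Tr.leaf) 217194 6
 (Tr.node (Tr.node Tr.leaf 217196 6
 Tr.leaf) 217199 6
 Tr.leaf)) 217203 5
 (Tr.node (Tr.node (Tr.node Tr.leaf 217205 5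
 Tr.leaf) 217206 6
 Tr.leaf) 217211 6
 (Tr.node Tr.leaf 217213 6
 Tr.leaf))) 217214 5
 (Tr.node (Tr.node (Tr.node (Tr.node Tr.leaf 217219 6
 Tr.leaf) 217221 6
 Tr.leaf) 217222 6
 (Tr.node Tr.leaf 217227 6
 Tr.leaf)) 217229 5
 (Tr.node (Tr.node (Tr.node Tr.leaf 217230 6
 Tr.leaf) 217233 6
 Tr.leaf) 217234 6
 (Tr.node Tr.leaf 217236 6
 Tr.leaf)))) 217239 6
 (Tr.node (Tr.node (Tr.node (Tr.node (Tr.node Tr.leaf 217241 7
 Tr.leaf) 217242 5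
 Tr.leaf) 217244 6
 (Tr.node (Tr.node Tr.leaf 217247 5
 Tr.leaf) 217251 6
 Tr.leaf)) 217253 6
 (Tr.node (Tr.node (Tr.node Tr.leaf 217254 6
 Tr.leaf) 217259 6
 Tr.leaf) 217261 6
 (Tr.node Tr.leaf 217262 6
 Tr.leaf))) 217265 6
 (Tr.node (Tr.node (Tr.node (Tr.node Tr.leaf 217266 5
 Tr.leaf) 217268 6
 Tr.leaf) 217271 5
 (Tr.node Tr.leaf 217273 6
 Tr.leaf)) 217274 6
 (Tr.node (Tr.node (Tr.node Tr.leaf 217276 6
 Tr.leaf) 217279 6
 Tr.leaf) 217281 5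
 (Tr.node Tr.leaf 217282 6
 Tr.leaf))))))) 217284 5
 (Tr.node (Tr.node (Tr.node (Tr.node (Tr.node (Tr.node (Tr.node (Tr.node Tr.leaf 217287 6
 Tr.leaf) 217289 6
 Tr.leaf) 217290 6
 (Tr.node (Tr.node Tr.leaf 217292 6
 Tr.leaf) 217295 6
 Tr.leaf)) 217299 5
 (Tr.node (Tr.node (Tr.node Tr.leaf 217301 5
 Tr.leaf) 217302 6
 Tr.leaf) 217307 5
 (Tr.node Tr.leaf 217309 6
 Tr.leaf))) 217310 6
 (Tr.node (Tr.node (Tr.node (Tr.node Tr.leaf 217313 4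
 Tr.leaf) 217314 4
 Tr.leaf) 217316 4
 (Tr.node (Tr.node Tr.leaf 217319 6
 Tr.leaf) 217321 6
 Tr.leaf)) 217322 6
 (Tr.node (Tr.node (Tr.node Tr.leaf 217324 4
 Tr.leaf) 217327 6
 Tr.leaf) 217331 5
 (Tr.node Tr.leaf 217333 6
 Tr.leaf)))) 217334 6
 (Tr.node (Tr.node (Tr.node (Tr.node (Tr.node Tr.leaf 217339 5
 Tr.leaf) 217341 6
 Tr.leaf) 217342 6
 (Tr.node (Tr.node Tr.leaf 217347 6
 Tr.leaf) 217349 6
 Tr.leaf)) 217350 6
 (Tr.node (Tr.node (Tr.node Tr.leaf 217355 6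
 Tr.leaf) 217357 4
 Tr.leaf) 217358 6
 (Tr.node Tr.leaf 217361 6
 Tr.leaf))) 217362 5
 (Tr.node (Tr.node (Tr.node (Tr.node Tr.leaf 217364 5
 Tr.leaf) 217367 6
 Tr.leaf) 217369 6
 (Tr.node Tr.leaf 217370 6
 Tr.leaf)) 217372 6
 (Tr.node (Tr.node (Tr.node Tr.leaf 217375 5
 Tr.leaf) 217379 6
 Tr.leaf) 217381 6
 (Tr.node Tr.leaf 217382 5
 Tr.leaf))))) 217387 6
 (Tr.node (Tr.node (Tr.node (Tr.node (Tr.node (Tr.node Tr.leaf 217389 6
 Tr.leaf) 217390 6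
 Tr.leaf) 217393 5
 (Tr.node (Tr.node Tr.leaf 217394 5
 Tr.leaf) 217396 4
 Tr.leaf)) 217399 6
 (Tr.node (Tr.node (Tr.node Tr.leaf 217401 4
 Tr.leaf) 217402 6
 Tr.leaf) 217404 6
 (Tr.node Tr.leaf 217407 6
 Tr.leaf))) 217409 6
 (Tr.node (Tr.node (Tr.node (Tr.node Tr.leaf 217410 6
 Tr.leaf) 217412 4
 Tr.leaf) 217415 6
 (Tr.node Tr.leaf 217417 6
 Tr.leaf)) 217418 5
 (Tr.node (Tr.node (Tr.node Tr.leaf 217420 4
 Tr.leaf) 217423 6
 Tr.leaf) 217427 6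
 (Tr.node Tr.leaf 217429 5
 Tr.leaf)))) 217430 5
 (Tr.node (Tr.node (Tr.node (Tr.node (Tr.node Tr.leaf 217435 6
 Tr.leaf) 217437 6
 Tr.leaf) 217438 6
 (Tr.node (Tr.node Tr.leaf 217441 5
 Tr.leaf) 217442 6
 Tr.leaf)) 217444 6
 (Tr.node (Tr.node (Tr.node Tr.leaf 217447 6
 Tr.leaf) 217449 6
 Tr.leaf) 217450 6
 (Tr.node Tr.leaf 217452 6
 Tr.leaf))) 217455 6
 (Tr.node (Tr.node (Tr.node (Tr.node Tr.leaf 217459 6
 Tr.leaf) 217461 6
 Tr.leaf) 217462 6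
 (Tr.node Tr.leaf 217467 6
 Tr.leaf)) 217469 6
 (Tr.node (Tr.node (Tr.node Tr.leaf 217470 5
 Tr.leaf) 217475 5
 Tr.leaf) 217477 6
 (Tr.node Tr.leaf 217478 3
 Tr.leaf)))))) 217483 6
 (Tr.node (Tr.node (Tr.node (Tr.node (Tr.node (Tr.node (Tr.node Tr.leaf 217485 4
 Tr.leaf) 217486 3
 Tr.leaf) 217489 6
 (Tr.node (Tr.node Tr.leaf 217490 7
 Tr.leaf) 217492 5
 Tr.leaf)) 217495 6
 (Tr.node (Tr.node (Tr.node Tr.leaf 217497 5
 Tr.leaf) 217498 5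
 Tr.leaf) 217500 7
 (Tr.node Tr.leaf 217503 6
 Tr.leaf))) 217507 5
 (Tr.node (Tr.node (Tr.node (Tr.node Tr.leaf 217509 5
 Tr.leaf) 217510 5
 Tr.leaf) 217515 7
 (Tr.node (Tr.node Tr.leaf 217517 7
 Tr.leaf) 217518 5
 Tr.leaf)) 217521 6
 (Tr.node (Tr.node (Tr.node Tr.leaf 217522 5
 Tr.leaf) 217524 4
 Tr.leaf) 217527 6
 (Tr.node Tr.leaf 217529 6
 Tr.leaf)))) 217530 6
 (Tr.node (Tr.node (Tr.node (Tr.node (Tr.node Tr.leaf 217532 6
 Tr.leaf) 217535 7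
 Tr.leaf) 217537 7
 (Tr.node (Tr.node Tr.leaf 217538 6
 Tr.leaf) 217540 6
 Tr.leaf)) 217543 5
 (Tr.node (Tr.node (Tr.node Tr.leaf 217545 5
 Tr.leaf) 217546 5
 Tr.leaf) 217548 6
 (Tr.node Tr.leaf 217551 6
 Tr.leaf))) 217555 6
 (Tr.node (Tr.node (Tr.node (Tr.node Tr.leaf 217557 6
 Tr.leaf) 217558 5
 Tr.leaf) 217563 6
 (Tr.node Tr.leaf 217565 6
 Tr.leaf)) 217566 5
 (Tr.node (Tr.node (Tr.node Tr.leaf 217569 6
 Tr.leaf) 217570 6
 Tr.leaf) 217572 4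
 (Tr.node Tr.leaf 217575 6
 Tr.leaf))))) 217577 6
 (Tr.node (Tr.node (Tr.node (Tr.node (Tr.node (Tr.node Tr.leaf 217578 6
 Tr.leaf) 217580 6
 Tr.leaf) 217583 6
 (Tr.node (Tr.node Tr.leaf 217587 6
 Tr.leaf) 217589 6
 Tr.leaf)) 217590 6
 (Tr.node (Tr.node (Tr.node Tr.leaf 217595 6
 Tr.leaf) 217597 6
 Tr.leaf) 217598 6
 (Tr.node Tr.leaf 218113 5
 Tr.leaf))) 218115 6
 (Tr.node (Tr.node (Tr.node (Tr.node Tr.leaf 218121 5
 Tr.leaf) 218123 5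
 Tr.leaf) 218133 6
 (Tr.node Tr.leaf 218135 5
 Tr.leaf)) 218141 6
 (Tr.node (Tr.node (Tr.node Tr.leaf 218143 5
 Tr.leaf) 218145 5
 Tr.leaf) 218147 6
 (Tr.node Tr.leaf 218153 6
 Tr.leaf)))) 218155 6
 (Tr.node (Tr.node (Tr.node (Tr.node (Tr.node Tr.leaf 218165 6
 Tr.leaf) 218167 5
 Tr.leaf) 218173 6
 (Tr.node (Tr.node Tr.leaf 218175 5
 Tr.leaf) 218181 6
 Tr.leaf)) 218183 5
 (Tr.node (Tr.node (Tr.node Tr.leaf 218189 5
 Tr.leaf) 218191 6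
 Tr.leaf) 218193 6
 (Tr.node Tr.leaf 218195 6
 Tr.leaf))) 218201 6
 (Tr.node (Tr.node (Tr.node (Tr.node Tr.leaf 218203 7
 Tr.leaf) 218213 6
 Tr.leaf) 218215 7
 (Tr.node Tr.leaf 218221 6
 Tr.leaf)) 218223 6
 (Tr.node (Tr.node (Tr.node Tr.leaf 218225 6
 Tr.leaf) 218227 5
 Tr.leaf) 218233 6
 (Tr.node Tr.leaf 218235 6
 Tr.leaf)))))))) 218241 7
 (Tr.node (Tr.node (Tr.node (Tr.node (Tr.node (Tr.node (Tr.node (Tr.node (Tr.node Tr.leaf 218243 6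
 Tr.leaf) 218249 6
 Tr.leaf) 218251 6
 (Tr.node (Tr.node Tr.leaf 218261 6
 Tr.leaf) 218263 6
 Tr.leaf)) 218269 6
 (Tr.node (Tr.node (Tr.node Tr.leaf 218271 6
 Tr.leaf) 218273 6
 Tr.leaf) 218275 6
 (Tr.node Tr.leaf 218281 6
 Tr.leaf))) 218283 6
 (Tr.node (Tr.node (Tr.node (Tr.node Tr.leaf 218293 6
 Tr.leaf) 218295 6
 Tr.leaf) 218301 6
 (Tr.node (Tr.node Tr.leaf 218303 6
 Tr.leaf) 218309 6
 Tr.leaf)) 218311 6
 (Tr.node (Tr.node (Tr.node Tr.leaf 218317 5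
 Tr.leaf) 218319 6
 Tr.leaf) 218321 5
 (Tr.node Tr.leaf 218323 6
 Tr.leaf)))) 218329 6
 (Tr.node (Tr.node (Tr.node (Tr.node (Tr.node Tr.leaf 218331 5
 Tr.leaf) 218341 5
 Tr.leaf) 218343 6
 (Tr.node (Tr.node Tr.leaf 218349 6
 Tr.leaf) 218351 6
 Tr.leaf)) 218353 6
 (Tr.node (Tr.node (Tr.node Tr.leaf 218355 6
 Tr.leaf) 218361 6
 Tr.leaf) 218363 5
 (Tr.node Tr.leaf 218369 6
 Tr.leaf))) 218371 6
 (Tr.node (Tr.node (Tr.node (Tr.node Tr.leaf 218377 6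
 Tr.leaf) 218379 6
 Tr.leaf) 218389 5
 (Tr.node Tr.leaf 218391 6
 Tr.leaf)) 218397 6
 (Tr.node (Tr.node (Tr.node Tr.leaf 218399 6
 Tr.leaf) 218401 6
 Tr.leaf) 218403 6
 (Tr.node Tr.leaf 218409 6
 Tr.leaf))))) 218411 5
 (Tr.node (Tr.node (Tr.node (Tr.node (Tr.node (Tr.node Tr.leaf 218421 6
 Tr.leaf) 218423 5
 Tr.leaf) 218429 5
 (Tr.node (Tr.node Tr.leaf 218431 6
 Tr.leaf) 218437 6
 Tr.leaf)) 218439 6
 (Tr.node (Tr.node (Tr.node Tr.leaf 218445 6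
 Tr.leaf) 218447 5
 Tr.leaf) 218449 6
 (Tr.node Tr.leaf 218451 6
 Tr.leaf))) 218457 6
 (Tr.node (Tr.node (Tr.node (Tr.node Tr.leaf 218459 6
 Tr.leaf) 218469 6
 Tr.leaf) 218471 6
 (Tr.node Tr.leaf 218477 6
 Tr.leaf)) 218479 6
 (Tr.node (Tr.node (Tr.node Tr.leaf 218481 5
 Tr.leaf) 218483 5
 Tr.leaf) 218489 5
 (Tr.node Tr.leaf 218491 6
 Tr.leaf)))) 218497 6
 (Tr.node (Tr.node (Tr.node (Tr.node (Tr.node Tr.leaf 218499 6
 Tr.leaf) 218505 6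
 Tr.leaf) 218507 7
 (Tr.node (Tr.node Tr.leaf 218517 6
 Tr.leaf) 218519 5
 Tr.leaf)) 218525 6
 (Tr.node (Tr.node (Tr.node Tr.leaf 218527 5
 Tr.leaf) 218529 5
 Tr.leaf) 218531 6
 (Tr.node Tr.leaf 218537 5
 Tr.leaf))) 218539 5
 (Tr.node (Tr.node (Tr.node (Tr.node Tr.leaf 218549 7
 Tr.leaf) 218551 6
 Tr.leaf) 218557 7
 (Tr.node Tr.leaf 218559 6
 Tr.leaf)) 218565 6
 (Tr.node (Tr.node (Tr.node Tr.leaf 218567 6
 Tr.leaf) 218573 6
 Tr.leaf) 218575 6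
 (Tr.node Tr.leaf 218577 6
 Tr.leaf)))))) 218579 6
 (Tr.node (Tr.node (Tr.node (Tr.node (Tr.node (Tr.node (Tr.node Tr.leaf 218585 6
 Tr.leaf) 218587 6
 Tr.leaf) 218597 6
 (Tr.node (Tr.node Tr.leaf 218599 5
 Tr.leaf) 218605 5
 Tr.leaf)) 218607 7
 (Tr.node (Tr.node (Tr.node Tr.leaf 218609 5
 Tr.leaf) 218611 5
 Tr.leaf) 218617 5
 (Tr.node Tr.leaf 218619 6
 Tr.leaf))) 219137 4
 (Tr.node (Tr.node (Tr.node (Tr.node Tr.leaf 219138 6
 Tr.leaf) 219141 6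
 Tr.leaf) 219142 5
 (Tr.node (Tr.node Tr.leaf 219145 5
 Tr.leaf) 219146 5
 Tr.leaf)) 219149 6
 (Tr.node (Tr.node (Tr.node Tr.leaf 219150 6
 Tr.leaf) 219155 6
 Tr.leaf) 219159 6
 (Tr.node Tr.leaf 219163 6
 Tr.leaf)))) 219167 5
 (Tr.node (Tr.node (Tr.node (Tr.node (Tr.node Tr.leaf 219169 5
 Tr.leaf) 219170 6
 Tr.leaf) 219173 4
 (Tr.node (Tr.node Tr.leaf 219174 6
 Tr.leaf) 219177 6
 Tr.leaf)) 219178 6
 (Tr.node (Tr.node (Tr.node Tr.leaf 219181 5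
 Tr.leaf) 219182 6
 Tr.leaf) 219187 6
 (Tr.node Tr.leaf 219191 6
 Tr.leaf))) 219195 6
 (Tr.node (Tr.node (Tr.node (Tr.node Tr.leaf 219199 6
 Tr.leaf) 219203 6
 Tr.leaf) 219207 6
 (Tr.node Tr.leaf 219211 6
 Tr.leaf)) 219215 6
 (Tr.node (Tr.node (Tr.node Tr.leaf 219217 6
 Tr.leaf) 219218 5
 Tr.leaf) 219221 6
 (Tr.node Tr.leaf 219222 6
 Tr.leaf))))) 219225 6
 (Tr.node (Tr.node (Tr.node (Tr.node (Tr.node (Tr.node Tr.leaf 219226 5
 Tr.leaf) 219229 6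
 Tr.leaf) 219230 7
 (Tr.node (Tr.node Tr.leaf 219235 6
 Tr.leaf) 219239 6
 Tr.leaf)) 219243 5
 (Tr.node (Tr.node (Tr.node Tr.leaf 219247 6
 Tr.leaf) 219249 6
 Tr.leaf) 219250 5
 (Tr.node Tr.leaf 219253 5
 Tr.leaf))) 219254 5
 (Tr.node (Tr.node (Tr.node (Tr.node Tr.leaf 219257 6
 Tr.leaf) 219258 5
 Tr.leaf) 219261 5
 (Tr.node Tr.leaf 219262 6
 Tr.leaf)) 219265 5
 (Tr.node (Tr.node (Tr.node Tr.leaf 219266 6
 Tr.leaf) 219269 6
 Tr.leaf) 219270 3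
 (Tr.node Tr.leaf 219273 6
 Tr.leaf)))) 219274 6
 (Tr.node (Tr.node (Tr.node (Tr.node (Tr.node Tr.leaf 219277 6
 Tr.leaf) 219278 5
 Tr.leaf) 219283 6
 (Tr.node (Tr.node Tr.leaf 219287 6
 Tr.leaf) 219291 6
 Tr.leaf)) 219295 6
 (Tr.node (Tr.node (Tr.node Tr.leaf 219297 6
 Tr.leaf) 219298 6
 Tr.leaf) 219301 4
 (Tr.node Tr.leaf 219302 4
 Tr.leaf))) 219305 4
 (Tr.node (Tr.node (Tr.node (Tr.node Tr.leaf 219306 5
 Tr.leaf) 219309 7
 Tr.leaf) 219310 5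
 (Tr.node Tr.leaf 219315 6
 Tr.leaf)) 219319 6
 (Tr.node (Tr.node (Tr.node Tr.leaf 219323 5
 Tr.leaf) 219327 6
 Tr.leaf) 219331 6
 (Tr.node Tr.leaf 219335 6
 Tr.leaf))))))) 219339 6
 (Tr.node (Tr.node (Tr.node (Tr.node (Tr.node (Tr.node (Tr.node (Tr.node Tr.leaf 219343 6
 Tr.leaf) 219345 5
 Tr.leaf) 219346 6
 (Tr.node (Tr.node Tr.leaf 219349 6
 Tr.leaf) 219350 5
 Tr.leaf)) 219353 6
 (Tr.node (Tr.node (Tr.node Tr.leaf 219354 5
 Tr.leaf) 219357 5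
 Tr.leaf) 219358 6
 (Tr.node Tr.leaf 219363 6
 Tr.leaf))) 219367 5
 (Tr.node (Tr.node (Tr.node (Tr.node Tr.leaf 219371 5
 Tr.leaf) 219375 6
 Tr.leaf) 219377 6
 (Tr.node (Tr.node Tr.leaf 219378 6
 Tr.leaf) 219381 5
 Tr.leaf)) 219382 5
 (Tr.node (Tr.node (Tr.node Tr.leaf 219385 6
 Tr.leaf) 219386 6
 Tr.leaf) 219389 6
 (Tr.node Tr.leaf 219390 6
 Tr.leaf)))) 219393 4
 (Tr.node (Tr.node (Tr.node (Tr.node (Tr.node Tr.leaf 219394 5
 Tr.leaf) 219397 6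
 Tr.leaf) 219398 6
 (Tr.node (Tr.node Tr.leaf 219401 6
 Tr.leaf) 219402 5
 Tr.leaf)) 219405 6
 (Tr.node (Tr.node (Tr.node Tr.leaf 219406 6
 Tr.leaf) 219411 6
 Tr.leaf) 219415 6
 (Tr.node Tr.leaf 219419 6
 Tr.leaf))) 219423 6
 (Tr.node (Tr.node (Tr.node (Tr.node Tr.leaf 219425 6
 Tr.leaf) 219426 5
 Tr.leaf) 219429 5
 (Tr.node Tr.leaf 219430 6
 Tr.leaf)) 219433 4
 (Tr.node (Tr.node (Tr.node Tr.leaf 219434 4
 Tr.leaf) 219437 6
 Tr.leaf) 219438 6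
 (Tr.node Tr.leaf 219443 5
 Tr.leaf))))) 219447 5
 (Tr.node (Tr.node (Tr.node (Tr.node (Tr.node (Tr.node Tr.leaf 219451 6
 Tr.leaf) 219455 6
 Tr.leaf) 219459 6
 (Tr.node (Tr.node Tr.leaf 219463 6
 Tr.leaf) 219467 6
 Tr.leaf)) 219471 6
 (Tr.node (Tr.node (Tr.node Tr.leaf 219473 5
 Tr.leaf) 219474 6
 Tr.leaf) 219477 5
 (Tr.node Tr.leaf 219478 4
 Tr.leaf))) 219481 6
 (Tr.node (Tr.node (Tr.node (Tr.node Tr.leaf 219482 6
 Tr.leaf) 219485 6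
 Tr.leaf) 219486 6
 (Tr.node Tr.leaf 219491 6
 Tr.leaf)) 219495 6
 (Tr.node (Tr.node (Tr.node Tr.leaf 219499 5
 Tr.leaf) 219503 6
 Tr.leaf) 219505 6
 (Tr.node Tr.leaf 219506 5
 Tr.leaf)))) 219509 6
 (Tr.node (Tr.node (Tr.node (Tr.node (Tr.node Tr.leaf 219510 5
 Tr.leaf) 219513 6
 Tr.leaf) 219514 5
 (Tr.node (Tr.node Tr.leaf 219517 6
 Tr.leaf) 219518 6
 Tr.leaf)) 219521 6
 (Tr.node (Tr.node (Tr.node Tr.leaf 219522 6
 Tr.leaf) 219525 6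
 Tr.leaf) 219526 6
 (Tr.node Tr.leaf 219529 6
 Tr.leaf))) 219530 5
 (Tr.node (Tr.node (Tr.node (Tr.node Tr.leaf 219533 6
 Tr.leaf) 219534 6
 Tr.leaf) 219539 5
 (Tr.node Tr.leaf 219543 5
 Tr.leaf)) 219547 6
 (Tr.node (Tr.node (Tr.node Tr.leaf 219551 6
 Tr.leaf) 219553 6
 Tr.leaf) 219554 6
 (Tr.node Tr.leaf 219557 6
 Tr.leaf)))))) 219558 5
 (Tr.node (Tr.node (Tr.node (Tr.node (Tr.node (Tr.node (Tr.node Tr.leaf 219561 4
 Tr.leaf) 219562 5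
 Tr.leaf) 219565 6
 (Tr.node (Tr.node Tr.leaf 219566 6
 Tr.leaf) 219571 6
 Tr.leaf)) 219575 6
 (Tr.node (Tr.node (Tr.node Tr.leaf 219579 6
 Tr.leaf) 219583 6
 Tr.leaf) 219587 6
 (Tr.node Tr.leaf 219591 5
 Tr.leaf))) 219595 6
 (Tr.node (Tr.node (Tr.node (Tr.node Tr.leaf 219599 6
 Tr.leaf) 219601 6
 Tr.leaf) 219602 6
 (Tr.node (Tr.node Tr.leaf 219605 6
 Tr.leaf) 219606 5
 Tr.leaf)) 219609 6
 (Tr.node (Tr.node (Tr.node Tr.leaf 219610 5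
 Tr.leaf) 219613 5
 Tr.leaf) 219614 6
 (Tr.node Tr.leaf 219619 6
 Tr.leaf)))) 219623 6
 (Tr.node (Tr.node (Tr.node (Tr.node (Tr.node Tr.leaf 219627 6
 Tr.leaf) 219631 6
 Tr.leaf) 219633 6
 (Tr.node (Tr.node Tr.leaf 219634 5
 Tr.leaf) 219637 6
 Tr.leaf)) 219638 6
 (Tr.node (Tr.node (Tr.node Tr.leaf 219641 6
 Tr.leaf) 219642 5
 Tr.leaf) 219645 5
 (Tr.node Tr.leaf 219646 6
 Tr.leaf))) 220177 5
 (Tr.node (Tr.node (Tr.node (Tr.node Tr.leaf 220179 6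
 Tr.leaf) 220181 5
 Tr.leaf) 220183 6
 (Tr.node Tr.leaf 220185 6
 Tr.leaf)) 220187 6
 (Tr.node (Tr.node (Tr.node Tr.leaf 220189 5
 Tr.leaf) 220191 5
 Tr.leaf) 220209 5
 (Tr.node Tr.leaf 220211 6
 Tr.leaf))))) 220213 6
 (Tr.node (Tr.node (Tr.node (Tr.node (Tr.node (Tr.node Tr.leaf 220215 6
 Tr.leaf) 220217 6
 Tr.leaf) 220219 6
 (Tr.node (Tr.node Tr.leaf 220221 5
 Tr.leaf) 220223 5
 Tr.leaf)) 220225 6
 (Tr.node (Tr.node (Tr.node Tr.leaf 220227 6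
 Tr.leaf) 220229 5
 Tr.leaf) 220231 5
 (Tr.node Tr.leaf 220233 5
 Tr.leaf))) 220235 5
 (Tr.node (Tr.node (Tr.node (Tr.node Tr.leaf 220237 6
 Tr.leaf) 220239 4
 Tr.leaf) 220257 6
 (Tr.node Tr.leaf 220259 6
 Tr.leaf)) 220261 6
 (Tr.node (Tr.node (Tr.node Tr.leaf 220263 6
 Tr.leaf) 220265 6
 Tr.leaf) 220267 6
 (Tr.node Tr.leaf 220269 6
 Tr.leaf)))) 220271 5
 (Tr.node (Tr.node (Tr.node (Tr.node (Tr.node Tr.leaf 220305 6
 Tr.leaf) 220307 6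
 Tr.leaf) 220309 6
 (Tr.node (Tr.node Tr.leaf 220311 6
 Tr.leaf) 220313 6
 Tr.leaf)) 220315 6
 (Tr.node (Tr.node (Tr.node Tr.leaf 220317 6
 Tr.leaf) 220319 6
 Tr.leaf) 220337 5
 (Tr.node Tr.leaf 220339 6
 Tr.leaf))) 220341 6
 (Tr.node (Tr.node (Tr.node (Tr.node Tr.leaf 220343 6
 Tr.leaf) 220345 6
 Tr.leaf) 220347 6
 (Tr.node Tr.leaf 220349 6
 Tr.leaf)) 220351 5
 (Tr.node (Tr.node (Tr.node Tr.leaf 220353 6
 Tr.leaf) 220355 5
 Tr.leaf) 220357 6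
 (Tr.node Tr.leaf 220359 6
 Tr.leaf)))))))))

/-- A subtree. -/
def tr2_s54 : Tr := (Tr.node (Tr.node (Tr.node (Tr.node (Tr.node (Tr.node (Tr.node (Tr.node (Tr.node (Tr.node Tr.leaf 220363 6
 Tr.leaf) 220365 6
 Tr.leaf) 220367 6
 (Tr.node (Tr.node Tr.leaf 220385 6
 Tr.leaf) 220387 6
 Tr.leaf)) 220389 4
 (Tr.node (Tr.node (Tr.node Tr.leaf 220391 5
 Tr.leaf) 220393 5
 Tr.leaf) 220395 6
 (Tr.node Tr.leaf 220397 5
 Tr.leaf))) 220399 6
 (Tr.node (Tr.node (Tr.node (Tr.node Tr.leaf 220433 5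
 Tr.leaf) 220435 6
 Tr.leaf) 220437 6
 (Tr.node (Tr.node Tr.leaf 220439 5
 Tr.leaf) 220441 6
 Tr.leaf)) 220443 6
 (Tr.node (Tr.node (Tr.node Tr.leaf 220445 6
 Tr.leaf) 220447 5
 Tr.leaf) 220465 6
 (Tr.node Tr.leaf 220467 5
 Tr.leaf)))) 220469 5
 (Tr.node (Tr.node (Tr.node (Tr.node (Tr.node Tr.leaf 220471 6
 Tr.leaf) 220473 5
 Tr.leaf) 220475 6
 (Tr.node (Tr.node Tr.leaf 220477 6
 Tr.leaf) 220479 6
 Tr.leaf)) 220481 6
 (Tr.node (Tr.node (Tr.node Tr.leaf 220483 6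
 Tr.leaf) 220485 6
 Tr.leaf) 220487 6
 (Tr.node Tr.leaf 220489 6
 Tr.leaf))) 220491 6
 (Tr.node (Tr.node (Tr.node (Tr.node Tr.leaf 220493 5
 Tr.leaf) 220495 6
 Tr.leaf) 220513 6
 (Tr.node Tr.leaf 220515 6
 Tr.leaf)) 220517 6
 (Tr.node (Tr.node (Tr.node Tr.leaf 220519 6
 Tr.leaf) 220521 6
 Tr.leaf) 220523 6
 (Tr.node Tr.leaf 220525 6
 Tr.leaf))))) 220527 6
 (Tr.node (Tr.node (Tr.node (Tr.node (Tr.node (Tr.node Tr.leaf 220561 5
 Tr.leaf) 220563 5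
 Tr.leaf) 220565 5
 (Tr.node (Tr.node Tr.leaf 220567 6
 Tr.leaf) 220569 6
 Tr.leaf)) 220571 5
 (Tr.node (Tr.node (Tr.node Tr.leaf 220573 5
 Tr.leaf) 220575 5
 Tr.leaf) 220593 6
 (Tr.node Tr.leaf 220595 5
 Tr.leaf))) 220597 6
 (Tr.node (Tr.node (Tr.node (Tr.node Tr.leaf 220599 6
 Tr.leaf) 220601 6
 Tr.leaf) 220603 6
 (Tr.node (Tr.node Tr.leaf 220605 6
 Tr.leaf) 220607 6
 Tr.leaf)) 220609 6
 (Tr.node (Tr.node (Tr.node Tr.leaf 220611 6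
 Tr.leaf) 220613 4
 Tr.leaf) 220615 5
 (Tr.node Tr.leaf 220617 6
 Tr.leaf)))) 220619 6
 (Tr.node (Tr.node (Tr.node (Tr.node (Tr.node Tr.leaf 220621 6
 Tr.leaf) 220623 6
 Tr.leaf) 220641 6
 (Tr.node (Tr.node Tr.leaf 220643 6
 Tr.leaf) 220645 5
 Tr.leaf)) 220647 5
 (Tr.node (Tr.node (Tr.node Tr.leaf 220649 5
 Tr.leaf) 220651 5
 Tr.leaf) 220653 6
 (Tr.node Tr.leaf 220655 6
 Tr.leaf))) 221187 6
 (Tr.node (Tr.node (Tr.node (Tr.node Tr.leaf 221189 6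
 Tr.leaf) 221190 6
 Tr.leaf) 221193 6
 (Tr.node Tr.leaf 221194 6
 Tr.leaf)) 221196 6
 (Tr.node (Tr.node (Tr.node Tr.leaf 221199 6
 Tr.leaf) 221203 5
 Tr.leaf) 221205 6
 (Tr.node Tr.leaf 221206 6
 Tr.leaf)))))) 221209 6
 (Tr.node (Tr.node (Tr.node (Tr.node (Tr.node (Tr.node (Tr.node Tr.leaf 221210 6
 Tr.leaf) 221212 5
 Tr.leaf) 221215 6
 (Tr.node (Tr.node Tr.leaf 221219 6
 Tr.leaf) 221221 6
 Tr.leaf)) 221222 7
 (Tr.node (Tr.node (Tr.node Tr.leaf 221225 5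
 Tr.leaf) 221226 5
 Tr.leaf) 221228 6
 (Tr.node Tr.leaf 221231 5
 Tr.leaf))) 221235 6
 (Tr.node (Tr.node (Tr.node (Tr.node Tr.leaf 221237 6
 Tr.leaf) 221238 7
 Tr.leaf) 221241 6
 (Tr.node (Tr.node Tr.leaf 221242 5
 Tr.leaf) 221244 6
 Tr.leaf)) 221247 6
 (Tr.node (Tr.node (Tr.node Tr.leaf 221249 6
 Tr.leaf) 221250 6
 Tr.leaf) 221252 6
 (Tr.node Tr.leaf 221255 6
 Tr.leaf)))) 221256 6
 (Tr.node (Tr.node (Tr.node (Tr.node (Tr.node Tr.leaf 221259 6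
 Tr.leaf) 221261 6
 Tr.leaf) 221262 7
 (Tr.node (Tr.node Tr.leaf 221265 6
 Tr.leaf) 221266 5
 Tr.leaf)) 221268 6
 (Tr.node (Tr.node (Tr.node Tr.leaf 221271 6
 Tr.leaf) 221272 7
 Tr.leaf) 221275 5
 (Tr.node Tr.leaf 221277 6
 Tr.leaf))) 221278 6
 (Tr.node (Tr.node (Tr.node (Tr.node Tr.leaf 221281 6
 Tr.leaf) 221282 6
 Tr.leaf) 221284 5
 (Tr.node Tr.leaf 221287 6
 Tr.leaf)) 221288 6
 (Tr.node (Tr.node (Tr.node Tr.leaf 221291 6
 Tr.leaf) 221293 6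
 Tr.leaf) 221294 6
 (Tr.node Tr.leaf 221297 6
 Tr.leaf))))) 221298 5
 (Tr.node (Tr.node (Tr.node (Tr.node (Tr.node (Tr.node Tr.leaf 221300 6
 Tr.leaf) 221303 6
 Tr.leaf) 221304 6
 (Tr.node (Tr.node Tr.leaf 221307 6
 Tr.leaf) 221309 6
 Tr.leaf)) 221310 6
 (Tr.node (Tr.node (Tr.node Tr.leaf 221315 6
 Tr.leaf) 221317 6
 Tr.leaf) 221318 7
 (Tr.node Tr.leaf 221321 6
 Tr.leaf))) 221322 5
 (Tr.node (Tr.node (Tr.node (Tr.node Tr.leaf 221324 6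
 Tr.leaf) 221327 6
 Tr.leaf) 221331 6
 (Tr.node Tr.leaf 221333 6
 Tr.leaf)) 221334 6
 (Tr.node (Tr.node (Tr.node Tr.leaf 221337 6
 Tr.leaf) 221338 6
 Tr.leaf) 221340 6
 (Tr.node Tr.leaf 221343 6
 Tr.leaf)))) 221347 6
 (Tr.node (Tr.node (Tr.node (Tr.node (Tr.node Tr.leaf 221349 6
 Tr.leaf) 221350 6
 Tr.leaf) 221353 6
 (Tr.node (Tr.node Tr.leaf 221354 7
 Tr.leaf) 221356 6
 Tr.leaf)) 221359 6
 (Tr.node (Tr.node (Tr.node Tr.leaf 221363 6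
 Tr.leaf) 221365 6
 Tr.leaf) 221366 6
 (Tr.node Tr.leaf 221369 6
 Tr.leaf))) 221370 6
 (Tr.node (Tr.node (Tr.node (Tr.node Tr.leaf 221372 5
 Tr.leaf) 221375 6
 Tr.leaf) 221377 5
 (Tr.node Tr.leaf 221378 6
 Tr.leaf)) 221380 5
 (Tr.node (Tr.node (Tr.node Tr.leaf 221383 5
 Tr.leaf) 221384 6
 Tr.leaf) 221387 6
 (Tr.node Tr.leaf 221389 6
 Tr.leaf))))))) 221390 6
 (Tr.node (Tr.node (Tr.node (Tr.node (Tr.node (Tr.node (Tr.node (Tr.node Tr.leaf 221393 6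
 Tr.leaf) 221394 5
 Tr.leaf) 221396 5
 (Tr.node (Tr.node Tr.leaf 221399 6
 Tr.leaf) 221400 7
 Tr.leaf)) 221403 6
 (Tr.node (Tr.node (Tr.node Tr.leaf 221405 6
 Tr.leaf) 221406 6
 Tr.leaf) 221409 6
 (Tr.node Tr.leaf 221410 6
 Tr.leaf))) 221412 7
 (Tr.node (Tr.node (Tr.node (Tr.node Tr.leaf 221415 6
 Tr.leaf) 221416 6
 Tr.leaf) 221419 6
 (Tr.node (Tr.node Tr.leaf 221421 6
 Tr.leaf) 221422 6
 Tr.leaf)) 221425 4
 (Tr.node (Tr.node (Tr.node Tr.leaf 221426 4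
 Tr.leaf) 221428 6
 Tr.leaf) 221431 5
 (Tr.node Tr.leaf 221432 6
 Tr.leaf)))) 221435 6
 (Tr.node (Tr.node (Tr.node (Tr.node (Tr.node Tr.leaf 221437 6
 Tr.leaf) 221438 6
 Tr.leaf) 221443 6
 (Tr.node (Tr.node Tr.leaf 221445 5
 Tr.leaf) 221446 6
 Tr.leaf)) 221449 6
 (Tr.node (Tr.node (Tr.node Tr.leaf 221450 6
 Tr.leaf) 221452 5
 Tr.leaf) 221455 6
 (Tr.node Tr.leaf 221459 6
 Tr.leaf))) 221461 6
 (Tr.node (Tr.node (Tr.node (Tr.node Tr.leaf 221462 6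
 Tr.leaf) 221465 6
 Tr.leaf) 221466 6
 (Tr.node Tr.leaf 221468 7
 Tr.leaf)) 221471 6
 (Tr.node (Tr.node (Tr.node Tr.leaf 221475 6
 Tr.leaf) 221477 6
 Tr.leaf) 221478 6
 (Tr.node Tr.leaf 221481 6
 Tr.leaf))))) 221482 5
 (Tr.node (Tr.node (Tr.node (Tr.node (Tr.node (Tr.node Tr.leaf 221484 5
 Tr.leaf) 221487 6
 Tr.leaf) 221491 4
 (Tr.node (Tr.node Tr.leaf 221493 6
 Tr.leaf) 221494 6
 Tr.leaf)) 221497 6
 (Tr.node (Tr.node (Tr.node Tr.leaf 221498 4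
 Tr.leaf) 221500 6
 Tr.leaf) 221503 6
 (Tr.node Tr.leaf 221505 6
 Tr.leaf))) 221506 5
 (Tr.node (Tr.node (Tr.node (Tr.node Tr.leaf 221508 6
 Tr.leaf) 221511 6
 Tr.leaf) 221512 7
 (Tr.node Tr.leaf 221515 6
 Tr.leaf)) 221517 5
 (Tr.node (Tr.node (Tr.node Tr.leaf 221518 6
 Tr.leaf) 221521 6
 Tr.leaf) 221522 7
 (Tr.node Tr.leaf 221524 6
 Tr.leaf)))) 221527 6
 (Tr.node (Tr.node (Tr.node (Tr.node (Tr.node Tr.leaf 221528 6
 Tr.leaf) 221531 6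
 Tr.leaf) 221533 6
 (Tr.node (Tr.node Tr.leaf 221534 6
 Tr.leaf) 221537 6
 Tr.leaf)) 221538 6
 (Tr.node (Tr.node (Tr.node Tr.leaf 221540 6
 Tr.leaf) 221543 6
 Tr.leaf) 221544 7
 (Tr.node Tr.leaf 221547 6
 Tr.leaf))) 221549 6
 (Tr.node (Tr.node (Tr.node (Tr.node Tr.leaf 221550 6
 Tr.leaf) 221553 6
 Tr.leaf) 221554 6
 (Tr.node Tr.leaf 221556 5
 Tr.leaf)) 221559 6
 (Tr.node (Tr.node (Tr.node Tr.leaf 221560 6
 Tr.leaf) 221563 5
 Tr.leaf) 221565 6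
 (Tr.node Tr.leaf 221566 6
 Tr.leaf)))))) 221571 6
 (Tr.node (Tr.node (Tr.node (Tr.node (Tr.node (Tr.node (Tr.node Tr.leaf 221573 6
 Tr.leaf) 221574 7
 Tr.leaf) 221577 6
 (Tr.node (Tr.node Tr.leaf 221578 6
 Tr.leaf) 221580 5
 Tr.leaf)) 221583 6
 (Tr.node (Tr.node (Tr.node Tr.leaf 221587 6
 Tr.leaf) 221589 4
 Tr.leaf) 221590 6
 (Tr.node Tr.leaf 221593 6
 Tr.leaf))) 221594 5
 (Tr.node (Tr.node (Tr.node (Tr.node Tr.leaf 221596 6
 Tr.leaf) 221599 6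
 Tr.leaf) 221603 6
 (Tr.node (Tr.node Tr.leaf 221605 6
 Tr.leaf) 221606 6
 Tr.leaf)) 221609 4
 (Tr.node (Tr.node (Tr.node Tr.leaf 221610 6
 Tr.leaf) 221612 4
 Tr.leaf) 221615 5
 (Tr.node Tr.leaf 221619 6
 Tr.leaf)))) 221621 6
 (Tr.node (Tr.node (Tr.node (Tr.node (Tr.node Tr.leaf 221622 6
 Tr.leaf) 221625 6
 Tr.leaf) 221626 6
 (Tr.node (Tr.node Tr.leaf 221628 6
 Tr.leaf) 221631 7
 Tr.leaf)) 221633 6
 (Tr.node (Tr.node (Tr.node Tr.leaf 221634 6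
 Tr.leaf) 221636 5
 Tr.leaf) 221639 6
 (Tr.node Tr.leaf 221640 6
 Tr.leaf))) 221643 6
 (Tr.node (Tr.node (Tr.node (Tr.node Tr.leaf 221645 6
 Tr.leaf) 221646 6
 Tr.leaf) 221649 6
 (Tr.node Tr.leaf 221650 6
 Tr.leaf)) 221652 4
 (Tr.node (Tr.node (Tr.node Tr.leaf 221655 6
 Tr.leaf) 221656 6
 Tr.leaf) 221659 6
 (Tr.node Tr.leaf 221661 5
 Tr.leaf))))) 221662 6
 (Tr.node (Tr.node (Tr.node (Tr.node (Tr.node (Tr.node Tr.leaf 221665 6
 Tr.leaf) 221666 5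
 Tr.leaf) 221668 6
 (Tr.node (Tr.node Tr.leaf 221671 6
 Tr.leaf) 221672 6
 Tr.leaf)) 221675 6
 (Tr.node (Tr.node (Tr.node Tr.leaf 221677 6
 Tr.leaf) 221678 6
 Tr.leaf) 221681 6
 (Tr.node Tr.leaf 221682 6
 Tr.leaf))) 221684 6
 (Tr.node (Tr.node (Tr.node (Tr.node Tr.leaf 221687 7
 Tr.leaf) 221688 6
 Tr.leaf) 221691 7
 (Tr.node Tr.leaf 221693 7
 Tr.leaf)) 221694 7
 (Tr.node (Tr.node (Tr.node Tr.leaf 222209 6
 Tr.leaf) 222211 6
 Tr.leaf) 222221 6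
 (Tr.node Tr.leaf 222223 6
 Tr.leaf)))) 222225 4
 (Tr.node (Tr.node (Tr.node (Tr.node (Tr.node Tr.leaf 222227 6
 Tr.leaf) 222237 6
 Tr.leaf) 222239 6
 (Tr.node (Tr.node Tr.leaf 222241 6
 Tr.leaf) 222243 6
 Tr.leaf)) 222253 6
 (Tr.node (Tr.node (Tr.node Tr.leaf 222255 5
 Tr.leaf) 222257 6
 Tr.leaf) 222259 6
 (Tr.node Tr.leaf 222269 6
 Tr.leaf))) 222271 6
 (Tr.node (Tr.node (Tr.node (Tr.node Tr.leaf 222277 6
 Tr.leaf) 222279 6
 Tr.leaf) 222281 6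
 (Tr.node Tr.leaf 222283 6
 Tr.leaf)) 222293 6
 (Tr.node (Tr.node (Tr.node Tr.leaf 222295 6
 Tr.leaf) 222297 6
 Tr.leaf) 222299 6
 (Tr.node Tr.leaf 222309 6
 Tr.leaf)))))))) 222311 6
 (Tr.node (Tr.node (Tr.node (Tr.node (Tr.node (Tr.node (Tr.node (Tr.node (Tr.node Tr.leaf 222313 6
 Tr.leaf) 222315 6
 Tr.leaf) 222325 6
 (Tr.node (Tr.node Tr.leaf 222327 6
 Tr.leaf) 222329 6
 Tr.leaf)) 222331 6
 (Tr.node (Tr.node (Tr.node Tr.leaf 222337 6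
 Tr.leaf) 222339 6
 Tr.leaf) 222349 6
 (Tr.node Tr.leaf 222351 6
 Tr.leaf))) 222353 6
 (Tr.node (Tr.node (Tr.node (Tr.node Tr.leaf 222355 6
 Tr.leaf) 222365 6
 Tr.leaf) 222367 6
 (Tr.node (Tr.node Tr.leaf 222369 4
 Tr.leaf) 222371 5
 Tr.leaf)) 222381 6
 (Tr.node (Tr.node (Tr.node Tr.leaf 222383 6
 Tr.leaf) 222385 7
 Tr.leaf) 222387 7
 (Tr.node Tr.leaf 222397 6
 Tr.leaf)))) 222399 5
 (Tr.node (Tr.node (Tr.node (Tr.node (Tr.node Tr.leaf 222405 6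
 Tr.leaf) 222407 6
 Tr.leaf) 222409 6
 (Tr.node (Tr.node Tr.leaf 222411 6
 Tr.leaf) 222421 6
 Tr.leaf)) 222423 6
 (Tr.node (Tr.node (Tr.node Tr.leaf 222425 7
 Tr.leaf) 222427 6
 Tr.leaf) 222437 6
 (Tr.node Tr.leaf 222439 6
 Tr.leaf))) 222441 6
 (Tr.node (Tr.node (Tr.node (Tr.node Tr.leaf 222443 6
 Tr.leaf) 222453 5
 Tr.leaf) 222455 6
 (Tr.node Tr.leaf 222457 6
 Tr.leaf)) 222459 6
 (Tr.node (Tr.node (Tr.node Tr.leaf 222465 4
 Tr.leaf) 222467 4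
 Tr.leaf) 222477 6
 (Tr.node Tr.leaf 222479 6
 Tr.leaf))))) 222481 6
 (Tr.node (Tr.node (Tr.node (Tr.node (Tr.node (Tr.node Tr.leaf 222483 6
 Tr.leaf) 222493 6
 Tr.leaf) 222495 6
 (Tr.node (Tr.node Tr.leaf 222497 6
 Tr.leaf) 222499 6
 Tr.leaf)) 222509 6
 (Tr.node (Tr.node (Tr.node Tr.leaf 222511 6
 Tr.leaf) 222513 6
 Tr.leaf) 222515 4
 (Tr.node Tr.leaf 222525 6
 Tr.leaf))) 222527 6
 (Tr.node (Tr.node (Tr.node (Tr.node Tr.leaf 222533 6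
 Tr.leaf) 222535 7
 Tr.leaf) 222537 5
 (Tr.node Tr.leaf 222539 5
 Tr.leaf)) 222549 6
 (Tr.node (Tr.node (Tr.node Tr.leaf 222551 6
 Tr.leaf) 222553 6
 Tr.leaf) 222555 6
 (Tr.node Tr.leaf 222565 6
 Tr.leaf)))) 222567 6
 (Tr.node (Tr.node (Tr.node (Tr.node (Tr.node Tr.leaf 222569 6
 Tr.leaf) 222571 6
 Tr.leaf) 222581 6
 (Tr.node (Tr.node Tr.leaf 222583 6
 Tr.leaf) 222585 6
 Tr.leaf)) 222587 6
 (Tr.node (Tr.node (Tr.node Tr.leaf 222593 6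
 Tr.leaf) 222595 6
 Tr.leaf) 222605 6
 (Tr.node Tr.leaf 222607 6
 Tr.leaf))) 222609 4
 (Tr.node (Tr.node (Tr.node (Tr.node Tr.leaf 222611 4
 Tr.leaf) 222621 6
 Tr.leaf) 222623 6
 (Tr.node Tr.leaf 222625 6
 Tr.leaf)) 222627 6
 (Tr.node (Tr.node (Tr.node Tr.leaf 222637 6
 Tr.leaf) 222639 6
 Tr.leaf) 222641 6
 (Tr.node Tr.leaf 222643 6
 Tr.leaf)))))) 222653 6
 (Tr.node (Tr.node (Tr.node (Tr.node (Tr.node (Tr.node (Tr.node Tr.leaf 222655 6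
 Tr.leaf) 222661 6
 Tr.leaf) 222663 6
 (Tr.node (Tr.node Tr.leaf 222665 6
 Tr.leaf) 222667 6
 Tr.leaf)) 222677 6
 (Tr.node (Tr.node (Tr.node Tr.leaf 222679 6
 Tr.leaf) 222681 5
 Tr.leaf) 222683 6
 (Tr.node Tr.leaf 222693 6
 Tr.leaf))) 222695 6
 (Tr.node (Tr.node (Tr.node (Tr.node Tr.leaf 222697 6
 Tr.leaf) 222699 6
 Tr.leaf) 222709 6
 (Tr.node (Tr.node Tr.leaf 222711 6
 Tr.leaf) 222713 6
 Tr.leaf)) 222715 6
 (Tr.node (Tr.node (Tr.node Tr.leaf 223233 6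
 Tr.leaf) 223234 5
 Tr.leaf) 223237 6
 (Tr.node Tr.leaf 223238 6
 Tr.leaf)))) 223243 6
 (Tr.node (Tr.node (Tr.node (Tr.node (Tr.node Tr.leaf 223247 6
 Tr.leaf) 223249 4
 Tr.leaf) 223250 6
 (Tr.node (Tr.node Tr.leaf 223253 4
 Tr.leaf) 223254 6
 Tr.leaf)) 223259 6
 (Tr.node (Tr.node (Tr.node Tr.leaf 223263 7
 Tr.leaf) 223265 6
 Tr.leaf) 223266 6
 (Tr.node Tr.leaf 223269 6
 Tr.leaf))) 223270 6
 (Tr.node (Tr.node (Tr.node (Tr.node Tr.leaf 223275 6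
 Tr.leaf) 223279 6
 Tr.leaf) 223281 6
 (Tr.node Tr.leaf 223282 6
 Tr.leaf)) 223285 6
 (Tr.node (Tr.node (Tr.node Tr.leaf 223286 6
 Tr.leaf) 223291 6
 Tr.leaf) 223295 6
 (Tr.node Tr.leaf 223299 6
 Tr.leaf))))) 223303 6
 (Tr.node (Tr.node (Tr.node (Tr.node (Tr.node (Tr.node Tr.leaf 223305 6
 Tr.leaf) 223306 6
 Tr.leaf) 223309 6
 (Tr.node (Tr.node Tr.leaf 223310 6
 Tr.leaf) 223315 6
 Tr.leaf)) 223319 6
 (Tr.node (Tr.node (Tr.node Tr.leaf 223321 5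
 Tr.leaf) 223322 6
 Tr.leaf) 223325 5
 (Tr.node Tr.leaf 223326 6
 Tr.leaf))) 223331 6
 (Tr.node (Tr.node (Tr.node (Tr.node Tr.leaf 223335 6
 Tr.leaf) 223337 6
 Tr.leaf) 223338 6
 (Tr.node Tr.leaf 223341 6
 Tr.leaf)) 223342 5
 (Tr.node (Tr.node (Tr.node Tr.leaf 223347 6
 Tr.leaf) 223351 6
 Tr.leaf) 223353 6
 (Tr.node Tr.leaf 223354 5
 Tr.leaf)))) 223357 6
 (Tr.node (Tr.node (Tr.node (Tr.node (Tr.node Tr.leaf 223358 5
 Tr.leaf) 223361 6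
 Tr.leaf) 223362 6
 (Tr.node (Tr.node Tr.leaf 223365 6
 Tr.leaf) 223366 6
 Tr.leaf)) 223371 6
 (Tr.node (Tr.node (Tr.node Tr.leaf 223375 6
 Tr.leaf) 223377 6
 Tr.leaf) 223378 6
 (Tr.node Tr.leaf 223381 6
 Tr.leaf))) 223382 7
 (Tr.node (Tr.node (Tr.node (Tr.node Tr.leaf 223387 6
 Tr.leaf) 223391 6
 Tr.leaf) 223393 4
 (Tr.node Tr.leaf 223394 6
 Tr.leaf)) 223397 5
 (Tr.node (Tr.node (Tr.node Tr.leaf 223398 6
 Tr.leaf) 223403 6
 Tr.leaf) 223407 6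
 (Tr.node Tr.leaf 223409 6
 Tr.leaf))))))) 223410 6
 (Tr.node (Tr.node (Tr.node (Tr.node (Tr.node (Tr.node (Tr.node (Tr.node Tr.leaf 223413 6
 Tr.leaf) 223414 6
 Tr.leaf) 223419 6
 (Tr.node (Tr.node Tr.leaf 223423 6
 Tr.leaf) 223427 6
 Tr.leaf)) 223431 5
 (Tr.node (Tr.node (Tr.node Tr.leaf 223433 6
 Tr.leaf) 223434 5
 Tr.leaf) 223437 6
 (Tr.node Tr.leaf 223438 5
 Tr.leaf))) 223443 6
 (Tr.node (Tr.node (Tr.node (Tr.node Tr.leaf 223447 6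
 Tr.leaf) 223449 6
 Tr.leaf) 223450 6
 (Tr.node (Tr.node Tr.leaf 223453 6
 Tr.leaf) 223454 6
 Tr.leaf)) 223459 6
 (Tr.node (Tr.node (Tr.node Tr.leaf 223463 6
 Tr.leaf) 223465 6
 Tr.leaf) 223466 5
 (Tr.node Tr.leaf 223469 6
 Tr.leaf)))) 223470 5
 (Tr.node (Tr.node (Tr.node (Tr.node (Tr.node Tr.leaf 223475 6
 Tr.leaf) 223479 6
 Tr.leaf) 223481 6
 (Tr.node (Tr.node Tr.leaf 223482 6
 Tr.leaf) 223485 6
 Tr.leaf)) 223486 6
 (Tr.node (Tr.node (Tr.node Tr.leaf 223489 4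
 Tr.leaf) 223490 6
 Tr.leaf) 223493 6
 (Tr.node Tr.leaf 223494 6
 Tr.leaf))) 223499 6
 (Tr.node (Tr.node (Tr.node (Tr.node Tr.leaf 223503 6
 Tr.leaf) 223505 6
 Tr.leaf) 223506 6
 (Tr.node Tr.leaf 223509 6
 Tr.leaf)) 223510 6
 (Tr.node (Tr.node (Tr.node Tr.leaf 223515 6
 Tr.leaf) 223519 6
 Tr.leaf) 223521 6
 (Tr.node Tr.leaf 223522 7
 Tr.leaf))))) 223525 6
 (Tr.node (Tr.node (Tr.node (Tr.node (Tr.node (Tr.node Tr.leaf 223526 6
 Tr.leaf) 223531 6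
 Tr.leaf) 223535 6
 (Tr.node (Tr.node Tr.leaf 223537 4
 Tr.leaf) 223538 6
 Tr.leaf)) 223541 4
 (Tr.node (Tr.node (Tr.node Tr.leaf 223542 6
 Tr.leaf) 223547 6
 Tr.leaf) 223551 6
 (Tr.node Tr.leaf 223555 6
 Tr.leaf))) 223559 6
 (Tr.node (Tr.node (Tr.node (Tr.node Tr.leaf 223561 6
 Tr.leaf) 223562 6
 Tr.leaf) 223565 6
 (Tr.node Tr.leaf 223566 6
 Tr.leaf)) 223571 6
 (Tr.node (Tr.node (Tr.node Tr.leaf 223575 6
 Tr.leaf) 223577 6
 Tr.leaf) 223578 6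
 (Tr.node Tr.leaf 223581 6
 Tr.leaf)))) 223582 6
 (Tr.node (Tr.node (Tr.node (Tr.node (Tr.node Tr.leaf 223587 6
 Tr.leaf) 223591 6
 Tr.leaf) 223593 7
 (Tr.node (Tr.node Tr.leaf 223594 6
 Tr.leaf) 223597 6
 Tr.leaf)) 223598 6
 (Tr.node (Tr.node (Tr.node Tr.leaf 223603 6
 Tr.leaf) 223607 6
 Tr.leaf) 223609 5
 (Tr.node Tr.leaf 223610 6
 Tr.leaf))) 223613 6
 (Tr.node (Tr.node (Tr.node (Tr.node Tr.leaf 223614 6
 Tr.leaf) 223617 6
 Tr.leaf) 223618 6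
 (Tr.node Tr.leaf 223621 6
 Tr.leaf)) 223622 6
 (Tr.node (Tr.node (Tr.node Tr.leaf 223627 6
 Tr.leaf) 223631 6
 Tr.leaf) 223633 6
 (Tr.node Tr.leaf 223634 6
 Tr.leaf)))))) 223637 4
 (Tr.node (Tr.node (Tr.node (Tr.node (Tr.node (Tr.node (Tr.node Tr.leaf 223638 6
 Tr.leaf) 223643 6
 Tr.leaf) 223647 6
 (Tr.node (Tr.node Tr.leaf 223649 7
 Tr.leaf) 223650 6
 Tr.leaf)) 223653 7
 (Tr.node (Tr.node (Tr.node Tr.leaf 223654 6
 Tr.leaf) 223659 5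
 Tr.leaf) 223663 6
 (Tr.node Tr.leaf 223665 6
 Tr.leaf))) 223666 6
 (Tr.node (Tr.node (Tr.node (Tr.node Tr.leaf 223669 6
 Tr.leaf) 223670 5
 Tr.leaf) 223675 6
 (Tr.node (Tr.node Tr.leaf 223679 6
 Tr.leaf) 223683 6
 Tr.leaf)) 223687 6
 (Tr.node (Tr.node (Tr.node Tr.leaf 223689 6
 Tr.leaf) 223690 7
 Tr.leaf) 223693 6
 (Tr.node Tr.leaf 223694 6
 Tr.leaf)))) 223699 6
 (Tr.node (Tr.node (Tr.node (Tr.node (Tr.node Tr.leaf 223703 6
 Tr.leaf) 223705 6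
 Tr.leaf) 223706 6
 (Tr.node (Tr.node Tr.leaf 223709 6
 Tr.leaf) 223710 5
 Tr.leaf)) 223715 6
 (Tr.node (Tr.node (Tr.node Tr.leaf 223719 5
 Tr.leaf) 223721 6
 Tr.leaf) 223722 6
 (Tr.node Tr.leaf 223725 6
 Tr.leaf))) 223726 5
 (Tr.node (Tr.node (Tr.node (Tr.node Tr.leaf 223731 6
 Tr.leaf) 223735 6
 Tr.leaf) 223737 6
 (Tr.node Tr.leaf 223738 6
 Tr.leaf)) 223741 6
 (Tr.node (Tr.node (Tr.node Tr.leaf 223742 6
 Tr.leaf) 224265 6
 Tr.leaf) 224267 6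
 (Tr.node Tr.leaf 224269 6
 Tr.leaf))))) 224271 6
 (Tr.node (Tr.node (Tr.node (Tr.node (Tr.node (Tr.node Tr.leaf 224281 6
 Tr.leaf) 224283 6
 Tr.leaf) 224285 6
 (Tr.node (Tr.node Tr.leaf 224287 6
 Tr.leaf) 224297 6
 Tr.leaf)) 224299 6
 (Tr.node (Tr.node (Tr.node Tr.leaf 224301 5
 Tr.leaf) 224303 6
 Tr.leaf) 224313 6
 (Tr.node Tr.leaf 224315 6
 Tr.leaf))) 224317 6
 (Tr.node (Tr.node (Tr.node (Tr.node Tr.leaf 224319 6
 Tr.leaf) 224321 6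
 Tr.leaf) 224323 6
 (Tr.node Tr.leaf 224325 6
 Tr.leaf)) 224327 6
 (Tr.node (Tr.node (Tr.node Tr.leaf 224337 5
 Tr.leaf) 224339 6
 Tr.leaf) 224341 6
 (Tr.node Tr.leaf 224343 6
 Tr.leaf)))) 224353 5
 (Tr.node (Tr.node (Tr.node (Tr.node (Tr.node Tr.leaf 224355 5
 Tr.leaf) 224357 6
 Tr.leaf) 224359 6
 (Tr.node (Tr.node Tr.leaf 224369 6
 Tr.leaf) 224371 6
 Tr.leaf)) 224373 6
 (Tr.node (Tr.node (Tr.node Tr.leaf 224375 6
 Tr.leaf) 224393 5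
 Tr.leaf) 224395 6
 (Tr.node Tr.leaf 224397 5
 Tr.leaf))) 224399 6
 (Tr.node (Tr.node (Tr.node (Tr.node Tr.leaf 224409 6
 Tr.leaf) 224411 6
 Tr.leaf) 224413 6
 (Tr.node Tr.leaf 224415 6
 Tr.leaf)) 224425 6
 (Tr.node (Tr.node (Tr.node Tr.leaf 224427 6
 Tr.leaf) 224429 5
 Tr.leaf) 224431 6
 (Tr.node Tr.leaf 224441 6
 Tr.leaf)))))))))

/-- A subtree. -/
def tr2_s55 : Tr := (Tr.node (Tr.node (Tr.node (Tr.node (Tr.node (Tr.node (Tr.node (Tr.node (Tr.node (Tr.node Tr.leaf 224445 5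
 Tr.leaf) 224447 6
 Tr.leaf) 224449 6
 (Tr.node (Tr.node Tr.leaf 224451 5
 Tr.leaf) 224453 6
 Tr.leaf)) 224455 6
 (Tr.node (Tr.node (Tr.node Tr.leaf 224465 6
 Tr.leaf) 224467 6
 Tr.leaf) 224469 6
 (Tr.node Tr.leaf 224471 6
 Tr.leaf))) 224481 6
 (Tr.node (Tr.node (Tr.node (Tr.node Tr.leaf 224483 5
 Tr.leaf) 224485 6
 Tr.leaf) 224487 6
 (Tr.node (Tr.node Tr.leaf 224497 6
 Tr.leaf) 224499 6
 Tr.leaf)) 224501 6
 (Tr.node (Tr.node (Tr.node Tr.leaf 224503 6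
 Tr.leaf) 224521 5
 Tr.leaf) 224523 6
 (Tr.node Tr.leaf 224525 6
 Tr.leaf)))) 224527 6
 (Tr.node (Tr.node (Tr.node (Tr.node (Tr.node Tr.leaf 224537 5
 Tr.leaf) 224539 5
 Tr.leaf) 224541 6
 (Tr.node (Tr.node Tr.leaf 224543 6
 Tr.leaf) 224553 6
 Tr.leaf)) 224555 6
 (Tr.node (Tr.node (Tr.node Tr.leaf 224557 6
 Tr.leaf) 224559 6
 Tr.leaf) 224569 6
 (Tr.node Tr.leaf 224571 6
 Tr.leaf))) 224573 6
 (Tr.node (Tr.node (Tr.node (Tr.node Tr.leaf 224575 6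
 Tr.leaf) 224577 6
 Tr.leaf) 224579 6
 (Tr.node Tr.leaf 224581 6
 Tr.leaf)) 224583 6
 (Tr.node (Tr.node (Tr.node Tr.leaf 224593 5
 Tr.leaf) 224595 6
 Tr.leaf) 224597 5
 (Tr.node Tr.leaf 224599 6
 Tr.leaf))))) 224609 6
 (Tr.node (Tr.node (Tr.node (Tr.node (Tr.node (Tr.node Tr.leaf 224611 6
 Tr.leaf) 224613 6
 Tr.leaf) 224615 6
 (Tr.node (Tr.node Tr.leaf 224625 6
 Tr.leaf) 224627 6
 Tr.leaf)) 224629 6
 (Tr.node (Tr.node (Tr.node Tr.leaf 224631 6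
 Tr.leaf) 224649 6
 Tr.leaf) 224651 6
 (Tr.node Tr.leaf 224653 6
 Tr.leaf))) 224655 6
 (Tr.node (Tr.node (Tr.node (Tr.node Tr.leaf 224665 6
 Tr.leaf) 224667 6
 Tr.leaf) 224669 6
 (Tr.node (Tr.node Tr.leaf 224671 6
 Tr.leaf) 224681 6
 Tr.leaf)) 224683 6
 (Tr.node (Tr.node (Tr.node Tr.leaf 224685 6
 Tr.leaf) 224687 6
 Tr.leaf) 224697 6
 (Tr.node Tr.leaf 224699 6
 Tr.leaf)))) 224701 6
 (Tr.node (Tr.node (Tr.node (Tr.node (Tr.node Tr.leaf 224703 7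
 Tr.leaf) 224705 6
 Tr.leaf) 224707 6
 (Tr.node (Tr.node Tr.leaf 224709 6
 Tr.leaf) 224711 6
 Tr.leaf)) 224721 6
 (Tr.node (Tr.node (Tr.node Tr.leaf 224723 6
 Tr.leaf) 224725 6
 Tr.leaf) 224727 6
 (Tr.node Tr.leaf 224737 6
 Tr.leaf))) 224739 5
 (Tr.node (Tr.node (Tr.node (Tr.node Tr.leaf 224741 6
 Tr.leaf) 224743 6
 Tr.leaf) 224753 6
 (Tr.node Tr.leaf 224755 6
 Tr.leaf)) 224757 6
 (Tr.node (Tr.node (Tr.node Tr.leaf 224759 7
 Tr.leaf) 225281 6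
 Tr.leaf) 225282 5
 (Tr.node Tr.leaf 225284 6
 Tr.leaf)))))) 225287 6
 (Tr.node (Tr.node (Tr.node (Tr.node (Tr.node (Tr.node (Tr.node Tr.leaf 225289 6
 Tr.leaf) 225290 6
 Tr.leaf) 225292 5
 (Tr.node (Tr.node Tr.leaf 225295 6
 Tr.leaf) 225297 6
 Tr.leaf)) 225298 4
 (Tr.node (Tr.node (Tr.node Tr.leaf 225300 3
 Tr.leaf) 225303 6
 Tr.leaf) 225305 6
 (Tr.node Tr.leaf 225306 6
 Tr.leaf))) 225308 6
 (Tr.node (Tr.node (Tr.node (Tr.node Tr.leaf 225311 6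
 Tr.leaf) 225313 4
 Tr.leaf) 225314 6
 (Tr.node (Tr.node Tr.leaf 225316 6
 Tr.leaf) 225319 6
 Tr.leaf)) 225321 6
 (Tr.node (Tr.node (Tr.node Tr.leaf 225322 6
 Tr.leaf) 225324 5
 Tr.leaf) 225327 6
 (Tr.node Tr.leaf 225329 6
 Tr.leaf)))) 225330 6
 (Tr.node (Tr.node (Tr.node (Tr.node (Tr.node Tr.leaf 225332 5
 Tr.leaf) 225335 7
 Tr.leaf) 225337 6
 (Tr.node (Tr.node Tr.leaf 225338 6
 Tr.leaf) 225340 6
 Tr.leaf)) 225343 6
 (Tr.node (Tr.node (Tr.node Tr.leaf 225347 6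
 Tr.leaf) 225349 6
 Tr.leaf) 225350 6
 (Tr.node Tr.leaf 225355 6
 Tr.leaf))) 225357 6
 (Tr.node (Tr.node (Tr.node (Tr.node Tr.leaf 225358 6
 Tr.leaf) 225363 6
 Tr.leaf) 225365 6
 (Tr.node Tr.leaf 225366 6
 Tr.leaf)) 225371 6
 (Tr.node (Tr.node (Tr.node Tr.leaf 225373 6
 Tr.leaf) 225374 5
 Tr.leaf) 225379 6
 (Tr.node Tr.leaf 225381 6
 Tr.leaf))))) 225382 6
 (Tr.node (Tr.node (Tr.node (Tr.node (Tr.node (Tr.node Tr.leaf 225387 6
 Tr.leaf) 225389 6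
 Tr.leaf) 225390 6
 (Tr.node (Tr.node Tr.leaf 225395 6
 Tr.leaf) 225397 6
 Tr.leaf)) 225398 6
 (Tr.node (Tr.node (Tr.node Tr.leaf 225403 6
 Tr.leaf) 225405 6
 Tr.leaf) 225406 6
 (Tr.node Tr.leaf 225409 4
 Tr.leaf))) 225410 6
 (Tr.node (Tr.node (Tr.node (Tr.node Tr.leaf 225412 6
 Tr.leaf) 225415 5
 Tr.leaf) 225417 4
 (Tr.node Tr.leaf 225418 4
 Tr.leaf)) 225420 4
 (Tr.node (Tr.node (Tr.node Tr.leaf 225423 5
 Tr.leaf) 225425 6
 Tr.leaf) 225426 6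
 (Tr.node Tr.leaf 225428 5
 Tr.leaf)))) 225431 6
 (Tr.node (Tr.node (Tr.node (Tr.node (Tr.node Tr.leaf 225433 6
 Tr.leaf) 225434 5
 Tr.leaf) 225436 6
 (Tr.node (Tr.node Tr.leaf 225439 6
 Tr.leaf) 225441 6
 Tr.leaf)) 225442 4
 (Tr.node (Tr.node (Tr.node Tr.leaf 225444 6
 Tr.leaf) 225447 6
 Tr.leaf) 225449 6
 (Tr.node Tr.leaf 225450 6
 Tr.leaf))) 225452 5
 (Tr.node (Tr.node (Tr.node (Tr.node Tr.leaf 225455 6
 Tr.leaf) 225457 4
 Tr.leaf) 225458 4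
 (Tr.node Tr.leaf 225460 4
 Tr.leaf)) 225463 5
 (Tr.node (Tr.node (Tr.node Tr.leaf 225465 4
 Tr.leaf) 225466 6
 Tr.leaf) 225468 7
 (Tr.node Tr.leaf 225471 6
 Tr.leaf))))))) 225475 6
 (Tr.node (Tr.node (Tr.node (Tr.node (Tr.node (Tr.node (Tr.node (Tr.node Tr.leaf 225477 6
 Tr.leaf) 225478 6
 Tr.leaf) 225483 7
 (Tr.node (Tr.node Tr.leaf 225485 6
 Tr.leaf) 225486 6
 Tr.leaf)) 225491 6
 (Tr.node (Tr.node (Tr.node Tr.leaf 225493 6
 Tr.leaf) 225494 5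
 Tr.leaf) 225499 6
 (Tr.node Tr.leaf 225501 6
 Tr.leaf))) 225502 5
 (Tr.node (Tr.node (Tr.node (Tr.node Tr.leaf 225507 6
 Tr.leaf) 225509 6
 Tr.leaf) 225510 6
 (Tr.node (Tr.node Tr.leaf 225515 6
 Tr.leaf) 225517 6
 Tr.leaf)) 225518 6
 (Tr.node (Tr.node (Tr.node Tr.leaf 225523 6
 Tr.leaf) 225525 6
 Tr.leaf) 225526 6
 (Tr.node Tr.leaf 225531 6
 Tr.leaf)))) 225533 6
 (Tr.node (Tr.node (Tr.node (Tr.node (Tr.node Tr.leaf 225534 6
 Tr.leaf) 225537 6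
 Tr.leaf) 225538 5
 (Tr.node (Tr.node Tr.leaf 225540 6
 Tr.leaf) 225543 6
 Tr.leaf)) 225545 6
 (Tr.node (Tr.node (Tr.node Tr.leaf 225546 6
 Tr.leaf) 225548 6
 Tr.leaf) 225551 6
 (Tr.node Tr.leaf 225553 4
 Tr.leaf))) 225554 4
 (Tr.node (Tr.node (Tr.node (Tr.node Tr.leaf 225556 6
 Tr.leaf) 225559 6
 Tr.leaf) 225561 5
 (Tr.node Tr.leaf 225562 6
 Tr.leaf)) 225564 5
 (Tr.node (Tr.node (Tr.node Tr.leaf 225567 6
 Tr.leaf) 225569 6
 Tr.leaf) 225570 6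
 (Tr.node Tr.leaf 225572 6
 Tr.leaf))))) 225575 6
 (Tr.node (Tr.node (Tr.node (Tr.node (Tr.node (Tr.node Tr.leaf 225577 6
 Tr.leaf) 225578 6
 Tr.leaf) 225580 6
 (Tr.node (Tr.node Tr.leaf 225583 6
 Tr.leaf) 225585 7
 Tr.leaf)) 225586 6
 (Tr.node (Tr.node (Tr.node Tr.leaf 225588 6
 Tr.leaf) 225591 6
 Tr.leaf) 225593 7
 (Tr.node Tr.leaf 225594 6
 Tr.leaf))) 225596 4
 (Tr.node (Tr.node (Tr.node (Tr.node Tr.leaf 225599 6
 Tr.leaf) 225603 6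
 Tr.leaf) 225605 6
 (Tr.node Tr.leaf 225606 5
 Tr.leaf)) 225611 6
 (Tr.node (Tr.node (Tr.node Tr.leaf 225613 5
 Tr.leaf) 225614 5
 Tr.leaf) 225619 6
 (Tr.node Tr.leaf 225621 6
 Tr.leaf)))) 225622 5
 (Tr.node (Tr.node (Tr.node (Tr.node (Tr.node Tr.leaf 225627 6
 Tr.leaf) 225629 6
 Tr.leaf) 225630 5
 (Tr.node (Tr.node Tr.leaf 225635 6
 Tr.leaf) 225637 6
 Tr.leaf)) 225638 7
 (Tr.node (Tr.node (Tr.node Tr.leaf 225643 6
 Tr.leaf) 225645 6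
 Tr.leaf) 225646 6
 (Tr.node Tr.leaf 225651 5
 Tr.leaf))) 225653 6
 (Tr.node (Tr.node (Tr.node (Tr.node Tr.leaf 225654 6
 Tr.leaf) 225659 6
 Tr.leaf) 225661 5
 (Tr.node Tr.leaf 225662 5
 Tr.leaf)) 225665 6
 (Tr.node (Tr.node (Tr.node Tr.leaf 225666 6
 Tr.leaf) 225668 6
 Tr.leaf) 225671 6
 (Tr.node Tr.leaf 225673 6
 Tr.leaf)))))) 225674 5
 (Tr.node (Tr.node (Tr.node (Tr.node (Tr.node (Tr.node (Tr.node Tr.leaf 225676 6
 Tr.leaf) 225679 6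
 Tr.leaf) 225681 6
 (Tr.node (Tr.node Tr.leaf 225682 6
 Tr.leaf) 225684 6
 Tr.leaf)) 225687 6
 (Tr.node (Tr.node (Tr.node Tr.leaf 225689 6
 Tr.leaf) 225690 3
 Tr.leaf) 225692 4
 (Tr.node Tr.leaf 225695 6
 Tr.leaf))) 225697 6
 (Tr.node (Tr.node (Tr.node (Tr.node Tr.leaf 225698 4
 Tr.leaf) 225700 6
 Tr.leaf) 225703 6
 (Tr.node (Tr.node Tr.leaf 225705 4
 Tr.leaf) 225706 6
 Tr.leaf)) 225708 6
 (Tr.node (Tr.node (Tr.node Tr.leaf 225711 6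
 Tr.leaf) 225713 6
 Tr.leaf) 225714 5
 (Tr.node Tr.leaf 225716 6
 Tr.leaf)))) 225719 6
 (Tr.node (Tr.node (Tr.node (Tr.node (Tr.node Tr.leaf 225721 6
 Tr.leaf) 225722 6
 Tr.leaf) 225724 5
 (Tr.node (Tr.node Tr.leaf 225727 6
 Tr.leaf) 225731 6
 Tr.leaf)) 225733 6
 (Tr.node (Tr.node (Tr.node Tr.leaf 225734 6
 Tr.leaf) 225739 6
 Tr.leaf) 225741 6
 (Tr.node Tr.leaf 225742 6
 Tr.leaf))) 225747 6
 (Tr.node (Tr.node (Tr.node (Tr.node Tr.leaf 225749 6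
 Tr.leaf) 225750 6
 Tr.leaf) 225755 6
 (Tr.node Tr.leaf 225757 6
 Tr.leaf)) 225758 6
 (Tr.node (Tr.node (Tr.node Tr.leaf 225763 6
 Tr.leaf) 225765 6
 Tr.leaf) 225766 6
 (Tr.node Tr.leaf 225771 6
 Tr.leaf))))) 225773 6
 (Tr.node (Tr.node (Tr.node (Tr.node (Tr.node (Tr.node Tr.leaf 225774 5
 Tr.leaf) 225779 6
 Tr.leaf) 225781 6
 (Tr.node (Tr.node Tr.leaf 225782 6
 Tr.leaf) 225787 6
 Tr.leaf)) 225789 6
 (Tr.node (Tr.node (Tr.node Tr.leaf 225790 6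
 Tr.leaf) 226309 6
 Tr.leaf) 226311 6
 (Tr.node Tr.leaf 226317 5
 Tr.leaf))) 226319 6
 (Tr.node (Tr.node (Tr.node (Tr.node Tr.leaf 226325 6
 Tr.leaf) 226327 6
 Tr.leaf) 226333 6
 (Tr.node Tr.leaf 226335 6
 Tr.leaf)) 226341 6
 (Tr.node (Tr.node (Tr.node Tr.leaf 226343 6
 Tr.leaf) 226349 6
 Tr.leaf) 226351 5
 (Tr.node Tr.leaf 226357 6
 Tr.leaf)))) 226359 6
 (Tr.node (Tr.node (Tr.node (Tr.node (Tr.node Tr.leaf 226365 6
 Tr.leaf) 226367 6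
 Tr.leaf) 226369 6
 (Tr.node (Tr.node Tr.leaf 226371 6
 Tr.leaf) 226377 6
 Tr.leaf)) 226379 6
 (Tr.node (Tr.node (Tr.node Tr.leaf 226385 5
 Tr.leaf) 226387 6
 Tr.leaf) 226393 6
 (Tr.node Tr.leaf 226395 6
 Tr.leaf))) 226401 6
 (Tr.node (Tr.node (Tr.node (Tr.node Tr.leaf 226403 6
 Tr.leaf) 226409 6
 Tr.leaf) 226411 6
 (Tr.node Tr.leaf 226417 6
 Tr.leaf)) 226419 6
 (Tr.node (Tr.node (Tr.node Tr.leaf 226425 7
 Tr.leaf) 226427 6
 Tr.leaf) 226437 6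
 (Tr.node Tr.leaf 226439 6
 Tr.leaf)))))))) 226445 6
 (Tr.node (Tr.node (Tr.node (Tr.node (Tr.node (Tr.node (Tr.node (Tr.node (Tr.node Tr.leaf 226447 6
 Tr.leaf) 226453 6
 Tr.leaf) 226455 6
 (Tr.node (Tr.node Tr.leaf 226461 6
 Tr.leaf) 226463 6
 Tr.leaf)) 226469 6
 (Tr.node (Tr.node (Tr.node Tr.leaf 226471 6
 Tr.leaf) 226477 6
 Tr.leaf) 226479 6
 (Tr.node Tr.leaf 226485 6
 Tr.leaf))) 226487 6
 (Tr.node (Tr.node (Tr.node (Tr.node Tr.leaf 226493 6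
 Tr.leaf) 226495 5
 Tr.leaf) 226497 6
 (Tr.node (Tr.node Tr.leaf 226499 6
 Tr.leaf) 226505 6
 Tr.leaf)) 226507 5
 (Tr.node (Tr.node (Tr.node Tr.leaf 226513 6
 Tr.leaf) 226515 6
 Tr.leaf) 226521 6
 (Tr.node Tr.leaf 226523 6
 Tr.leaf)))) 226529 6
 (Tr.node (Tr.node (Tr.node (Tr.node (Tr.node Tr.leaf 226531 6
 Tr.leaf) 226537 6
 Tr.leaf) 226539 5
 (Tr.node (Tr.node Tr.leaf 226545 6
 Tr.leaf) 226547 7
 Tr.leaf)) 226553 6
 (Tr.node (Tr.node (Tr.node Tr.leaf 226555 6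
 Tr.leaf) 226565 6
 Tr.leaf) 226567 7
 (Tr.node Tr.leaf 226573 6
 Tr.leaf))) 226575 6
 (Tr.node (Tr.node (Tr.node (Tr.node Tr.leaf 226581 5
 Tr.leaf) 226583 6
 Tr.leaf) 226589 6
 (Tr.node Tr.leaf 226591 6
 Tr.leaf)) 226597 6
 (Tr.node (Tr.node (Tr.node Tr.leaf 226599 6
 Tr.leaf) 226605 6
 Tr.leaf) 226607 6
 (Tr.node Tr.leaf 226613 6
 Tr.leaf))))) 226615 6
 (Tr.node (Tr.node (Tr.node (Tr.node (Tr.node (Tr.node Tr.leaf 226621 6
 Tr.leaf) 226623 6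
 Tr.leaf) 226625 5
 (Tr.node (Tr.node Tr.leaf 226627 6
 Tr.leaf) 226633 6
 Tr.leaf)) 226635 6
 (Tr.node (Tr.node (Tr.node Tr.leaf 226641 6
 Tr.leaf) 226643 6
 Tr.leaf) 226649 6
 (Tr.node Tr.leaf 226651 6
 Tr.leaf))) 226657 6
 (Tr.node (Tr.node (Tr.node (Tr.node Tr.leaf 226659 6
 Tr.leaf) 226665 6
 Tr.leaf) 226667 6
 (Tr.node Tr.leaf 226673 6
 Tr.leaf)) 226675 5
 (Tr.node (Tr.node (Tr.node Tr.leaf 226681 5
 Tr.leaf) 226683 6
 Tr.leaf) 226693 6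
 (Tr.node Tr.leaf 226695 6
 Tr.leaf)))) 226701 6
 (Tr.node (Tr.node (Tr.node (Tr.node (Tr.node Tr.leaf 226703 6
 Tr.leaf) 226709 6
 Tr.leaf) 226711 6
 (Tr.node (Tr.node Tr.leaf 226717 6
 Tr.leaf) 226719 6
 Tr.leaf)) 226725 6
 (Tr.node (Tr.node (Tr.node Tr.leaf 226727 6
 Tr.leaf) 226733 6
 Tr.leaf) 226735 6
 (Tr.node Tr.leaf 226741 6
 Tr.leaf))) 226743 6
 (Tr.node (Tr.node (Tr.node (Tr.node Tr.leaf 226749 6
 Tr.leaf) 226751 6
 Tr.leaf) 226753 6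
 (Tr.node Tr.leaf 226755 6
 Tr.leaf)) 226761 6
 (Tr.node (Tr.node (Tr.node Tr.leaf 226763 6
 Tr.leaf) 226769 6
 Tr.leaf) 226771 6
 (Tr.node Tr.leaf 226777 6
 Tr.leaf)))))) 226779 6
 (Tr.node (Tr.node (Tr.node (Tr.node (Tr.node (Tr.node (Tr.node Tr.leaf 226785 6
 Tr.leaf) 226787 6
 Tr.leaf) 226793 6
 (Tr.node (Tr.node Tr.leaf 226795 6
 Tr.leaf) 226801 6
 Tr.leaf)) 226803 6
 (Tr.node (Tr.node (Tr.node Tr.leaf 226809 5
 Tr.leaf) 226811 6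
 Tr.leaf) 227331 6
 (Tr.node Tr.leaf 227335 6
 Tr.leaf))) 227339 6
 (Tr.node (Tr.node (Tr.node (Tr.node Tr.leaf 227343 6
 Tr.leaf) 227347 6
 Tr.leaf) 227351 6
 (Tr.node (Tr.node Tr.leaf 227355 6
 Tr.leaf) 227359 5
 Tr.leaf)) 227363 5
 (Tr.node (Tr.node (Tr.node Tr.leaf 227367 6
 Tr.leaf) 227371 6
 Tr.leaf) 227375 6
 (Tr.node Tr.leaf 227379 6
 Tr.leaf)))) 227383 6
 (Tr.node (Tr.node (Tr.node (Tr.node (Tr.node Tr.leaf 227387 6
 Tr.leaf) 227391 6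
 Tr.leaf) 227393 6
 (Tr.node (Tr.node Tr.leaf 227394 6
 Tr.leaf) 227397 5
 Tr.leaf)) 227398 5
 (Tr.node (Tr.node (Tr.node Tr.leaf 227401 6
 Tr.leaf) 227402 6
 Tr.leaf) 227405 6
 (Tr.node Tr.leaf 227406 6
 Tr.leaf))) 227409 6
 (Tr.node (Tr.node (Tr.node (Tr.node Tr.leaf 227410 5
 Tr.leaf) 227413 6
 Tr.leaf) 227414 6
 (Tr.node Tr.leaf 227417 6
 Tr.leaf)) 227418 6
 (Tr.node (Tr.node (Tr.node Tr.leaf 227421 6
 Tr.leaf) 227422 6
 Tr.leaf) 227425 6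
 (Tr.node Tr.leaf 227426 6
 Tr.leaf))))) 227429 6
 (Tr.node (Tr.node (Tr.node (Tr.node (Tr.node (Tr.node Tr.leaf 227430 5
 Tr.leaf) 227433 6
 Tr.leaf) 227434 6
 (Tr.node (Tr.node Tr.leaf 227437 6
 Tr.leaf) 227438 6
 Tr.leaf)) 227441 6
 (Tr.node (Tr.node (Tr.node Tr.leaf 227442 6
 Tr.leaf) 227445 6
 Tr.leaf) 227446 6
 (Tr.node Tr.leaf 227449 6
 Tr.leaf))) 227450 5
 (Tr.node (Tr.node (Tr.node (Tr.node Tr.leaf 227453 6
 Tr.leaf) 227454 6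
 Tr.leaf) 227459 5
 (Tr.node Tr.leaf 227463 6
 Tr.leaf)) 227467 6
 (Tr.node (Tr.node (Tr.node Tr.leaf 227471 6
 Tr.leaf) 227475 6
 Tr.leaf) 227479 6
 (Tr.node Tr.leaf 227483 6
 Tr.leaf)))) 227487 6
 (Tr.node (Tr.node (Tr.node (Tr.node (Tr.node Tr.leaf 227491 6
 Tr.leaf) 227495 6
 Tr.leaf) 227499 6
 (Tr.node (Tr.node Tr.leaf 227503 6
 Tr.leaf) 227507 6
 Tr.leaf)) 227511 6
 (Tr.node (Tr.node (Tr.node Tr.leaf 227515 6
 Tr.leaf) 227519 6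
 Tr.leaf) 227521 6
 (Tr.node Tr.leaf 227522 6
 Tr.leaf))) 227525 6
 (Tr.node (Tr.node (Tr.node (Tr.node Tr.leaf 227526 5
 Tr.leaf) 227529 7
 Tr.leaf) 227530 5
 (Tr.node Tr.leaf 227533 6
 Tr.leaf)) 227534 6
 (Tr.node (Tr.node (Tr.node Tr.leaf 227537 6
 Tr.leaf) 227538 6
 Tr.leaf) 227541 6
 (Tr.node Tr.leaf 227542 6
 Tr.leaf))))))) 227545 6
 (Tr.node (Tr.node (Tr.node (Tr.node (Tr.node (Tr.node (Tr.node (Tr.node Tr.leaf 227546 5
 Tr.leaf) 227549 6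
 Tr.leaf) 227550 6
 (Tr.node (Tr.node Tr.leaf 227553 5
 Tr.leaf) 227554 6
 Tr.leaf)) 227557 6
 (Tr.node (Tr.node (Tr.node Tr.leaf 227558 5
 Tr.leaf) 227561 6
 Tr.leaf) 227562 6
 (Tr.node Tr.leaf 227565 6
 Tr.leaf))) 227566 6
 (Tr.node (Tr.node (Tr.node (Tr.node Tr.leaf 227569 6
 Tr.leaf) 227570 7
 Tr.leaf) 227573 6
 (Tr.node (Tr.node Tr.leaf 227574 6
 Tr.leaf) 227577 6
 Tr.leaf)) 227578 6
 (Tr.node (Tr.node (Tr.node Tr.leaf 227581 6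
 Tr.leaf) 227582 5
 Tr.leaf) 227587 6
 (Tr.node Tr.leaf 227591 6
 Tr.leaf)))) 227595 6
 (Tr.node (Tr.node (Tr.node (Tr.node (Tr.node Tr.leaf 227599 6
 Tr.leaf) 227603 6
 Tr.leaf) 227607 6
 (Tr.node (Tr.node Tr.leaf 227611 6
 Tr.leaf) 227615 5
 Tr.leaf)) 227619 6
 (Tr.node (Tr.node (Tr.node Tr.leaf 227623 7
 Tr.leaf) 227627 6
 Tr.leaf) 227631 6
 (Tr.node Tr.leaf 227635 6
 Tr.leaf))) 227639 6
 (Tr.node (Tr.node (Tr.node (Tr.node Tr.leaf 227643 7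
 Tr.leaf) 227647 6
 Tr.leaf) 227649 6
 (Tr.node Tr.leaf 227650 6
 Tr.leaf)) 227653 6
 (Tr.node (Tr.node (Tr.node Tr.leaf 227654 6
 Tr.leaf) 227657 6
 Tr.leaf) 227658 5
 (Tr.node Tr.leaf 227661 5
 Tr.leaf))))) 227662 5
 (Tr.node (Tr.node (Tr.node (Tr.node (Tr.node (Tr.node Tr.leaf 227665 6
 Tr.leaf) 227666 6
 Tr.leaf) 227669 6
 (Tr.node (Tr.node Tr.leaf 227670 5
 Tr.leaf) 227673 6
 Tr.leaf)) 227674 5
 (Tr.node (Tr.node (Tr.node Tr.leaf 227677 6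
 Tr.leaf) 227678 6
 Tr.leaf) 227681 6
 (Tr.node Tr.leaf 227682 6
 Tr.leaf))) 227685 6
 (Tr.node (Tr.node (Tr.node (Tr.node Tr.leaf 227686 6
 Tr.leaf) 227689 6
 Tr.leaf) 227690 6
 (Tr.node Tr.leaf 227693 6
 Tr.leaf)) 227694 6
 (Tr.node (Tr.node (Tr.node Tr.leaf 227697 6
 Tr.leaf) 227698 6
 Tr.leaf) 227701 6
 (Tr.node Tr.leaf 227702 5
 Tr.leaf)))) 227705 6
 (Tr.node (Tr.node (Tr.node (Tr.node (Tr.node Tr.leaf 227706 5
 Tr.leaf) 227709 5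
 Tr.leaf) 227710 6
 (Tr.node (Tr.node Tr.leaf 227715 6
 Tr.leaf) 227719 6
 Tr.leaf)) 227723 6
 (Tr.node (Tr.node (Tr.node Tr.leaf 227727 6
 Tr.leaf) 227731 6
 Tr.leaf) 227735 6
 (Tr.node Tr.leaf 227739 6
 Tr.leaf))) 227743 6
 (Tr.node (Tr.node (Tr.node (Tr.node Tr.leaf 227747 6
 Tr.leaf) 227751 5
 Tr.leaf) 227755 5
 (Tr.node Tr.leaf 227759 6
 Tr.leaf)) 227763 6
 (Tr.node (Tr.node (Tr.node Tr.leaf 227767 5
 Tr.leaf) 227771 6
 Tr.leaf) 227775 6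
 (Tr.node Tr.leaf 227777 6
 Tr.leaf)))))) 227778 6
 (Tr.node (Tr.node (Tr.node (Tr.node (Tr.node (Tr.node (Tr.node Tr.leaf 227781 6
 Tr.leaf) 227782 6
 Tr.leaf) 227785 6
 (Tr.node (Tr.node Tr.leaf 227786 6
 Tr.leaf) 227789 6
 Tr.leaf)) 227790 6
 (Tr.node (Tr.node (Tr.node Tr.leaf 227793 6
 Tr.leaf) 227794 6
 Tr.leaf) 227797 6
 (Tr.node Tr.leaf 227798 5
 Tr.leaf))) 227801 6
 (Tr.node (Tr.node (Tr.node (Tr.node Tr.leaf 227802 6
 Tr.leaf) 227805 6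
 Tr.leaf) 227806 6
 (Tr.node (Tr.node Tr.leaf 227809 6
 Tr.leaf) 227810 5
 Tr.leaf)) 227813 6
 (Tr.node (Tr.node (Tr.node Tr.leaf 227814 6
 Tr.leaf) 227817 6
 Tr.leaf) 227818 5
 (Tr.node Tr.leaf 227821 6
 Tr.leaf)))) 227822 6
 (Tr.node (Tr.node (Tr.node (Tr.node (Tr.node Tr.leaf 227825 6
 Tr.leaf) 227826 6
 Tr.leaf) 227829 6
 (Tr.node (Tr.node Tr.leaf 227830 5
 Tr.leaf) 227833 6
 Tr.leaf)) 227834 6
 (Tr.node (Tr.node (Tr.node Tr.leaf 227837 6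
 Tr.leaf) 227838 6
 Tr.leaf) 228353 6
 (Tr.node Tr.leaf 228355 6
 Tr.leaf))) 228357 6
 (Tr.node (Tr.node (Tr.node (Tr.node Tr.leaf 228359 6
 Tr.leaf) 228361 6
 Tr.leaf) 228363 5
 (Tr.node Tr.leaf 228365 6
 Tr.leaf)) 228367 6
 (Tr.node (Tr.node (Tr.node Tr.leaf 228369 6
 Tr.leaf) 228371 6
 Tr.leaf) 228373 6
 (Tr.node Tr.leaf 228375 6
 Tr.leaf))))) 228377 6
 (Tr.node (Tr.node (Tr.node (Tr.node (Tr.node (Tr.node Tr.leaf 228379 6
 Tr.leaf) 228381 6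
 Tr.leaf) 228383 6
 (Tr.node (Tr.node Tr.leaf 228385 6
 Tr.leaf) 228387 6
 Tr.leaf)) 228389 6
 (Tr.node (Tr.node (Tr.node Tr.leaf 228391 6
 Tr.leaf) 228393 6
 Tr.leaf) 228395 5
 (Tr.node Tr.leaf 228397 6
 Tr.leaf))) 228399 5
 (Tr.node (Tr.node (Tr.node (Tr.node Tr.leaf 228401 6
 Tr.leaf) 228403 5
 Tr.leaf) 228405 6
 (Tr.node Tr.leaf 228407 6
 Tr.leaf)) 228409 6
 (Tr.node (Tr.node (Tr.node Tr.leaf 228411 6
 Tr.leaf) 228413 6
 Tr.leaf) 228415 6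
 (Tr.node Tr.leaf 228481 5
 Tr.leaf)))) 228483 6
 (Tr.node (Tr.node (Tr.node (Tr.node (Tr.node Tr.leaf 228485 6
 Tr.leaf) 228487 6
 Tr.leaf) 228489 6
 (Tr.node (Tr.node Tr.leaf 228491 6
 Tr.leaf) 228493 6
 Tr.leaf)) 228495 5
 (Tr.node (Tr.node (Tr.node Tr.leaf 228497 6
 Tr.leaf) 228499 6
 Tr.leaf) 228501 6
 (Tr.node Tr.leaf 228503 6
 Tr.leaf))) 228505 6
 (Tr.node (Tr.node (Tr.node (Tr.node Tr.leaf 228507 6
 Tr.leaf) 228509 6
 Tr.leaf) 228511 6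
 (Tr.node Tr.leaf 228513 5
 Tr.leaf)) 228515 6
 (Tr.node (Tr.node (Tr.node Tr.leaf 228517 6
 Tr.leaf) 228519 6
 Tr.leaf) 228521 6
 (Tr.node Tr.leaf 228523 6
 Tr.leaf)))))))))

/-- A subtree. -/
def tr2_s56 : Tr := (Tr.node (Tr.node (Tr.node (Tr.node (Tr.node (Tr.node (Tr.node (Tr.node (Tr.node (Tr.node Tr.leaf 228527 5
 Tr.leaf) 228529 5
 Tr.leaf) 228531 6
 (Tr.node (Tr.node Tr.leaf 228533 6
 Tr.leaf) 228535 5
 Tr.leaf)) 228537 6
 (Tr.node (Tr.node (Tr.node Tr.leaf 228539 6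
 Tr.leaf) 228541 6
 Tr.leaf) 228543 5
 (Tr.node Tr.leaf 228609 6
 Tr.leaf))) 228611 6
 (Tr.node (Tr.node (Tr.node (Tr.node Tr.leaf 228613 6
 Tr.leaf) 228615 6
 Tr.leaf) 228617 6
 (Tr.node (Tr.node Tr.leaf 228619 6
 Tr.leaf) 228621 6
 Tr.leaf)) 228623 6
 (Tr.node (Tr.node (Tr.node Tr.leaf 228625 6
 Tr.leaf) 228627 6
 Tr.leaf) 228629 6
 (Tr.node Tr.leaf 228631 6
 Tr.leaf)))) 228633 6
 (Tr.node (Tr.node (Tr.node (Tr.node (Tr.node Tr.leaf 228635 5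
 Tr.leaf) 228637 6
 Tr.leaf) 228639 6
 (Tr.node (Tr.node Tr.leaf 228641 6
 Tr.leaf) 228643 6
 Tr.leaf)) 228645 6
 (Tr.node (Tr.node (Tr.node Tr.leaf 228647 6
 Tr.leaf) 228649 6
 Tr.leaf) 228651 6
 (Tr.node Tr.leaf 228653 6
 Tr.leaf))) 228655 6
 (Tr.node (Tr.node (Tr.node (Tr.node Tr.leaf 228657 6
 Tr.leaf) 228659 6
 Tr.leaf) 228661 6
 (Tr.node Tr.leaf 228663 6
 Tr.leaf)) 228665 6
 (Tr.node (Tr.node (Tr.node Tr.leaf 228667 6
 Tr.leaf) 228669 6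
 Tr.leaf) 228671 6
 (Tr.node Tr.leaf 228737 6
 Tr.leaf))))) 228739 6
 (Tr.node (Tr.node (Tr.node (Tr.node (Tr.node (Tr.node Tr.leaf 228741 6
 Tr.leaf) 228743 6
 Tr.leaf) 228745 6
 (Tr.node (Tr.node Tr.leaf 228747 5
 Tr.leaf) 228749 6
 Tr.leaf)) 228751 7
 (Tr.node (Tr.node (Tr.node Tr.leaf 228753 6
 Tr.leaf) 228755 6
 Tr.leaf) 228757 6
 (Tr.node Tr.leaf 228759 6
 Tr.leaf))) 228761 6
 (Tr.node (Tr.node (Tr.node (Tr.node Tr.leaf 228763 6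
 Tr.leaf) 228765 6
 Tr.leaf) 228767 6
 (Tr.node (Tr.node Tr.leaf 228769 5
 Tr.leaf) 228771 5
 Tr.leaf)) 228773 6
 (Tr.node (Tr.node (Tr.node Tr.leaf 228775 6
 Tr.leaf) 228777 6
 Tr.leaf) 228779 6
 (Tr.node Tr.leaf 228781 6
 Tr.leaf)))) 228783 6
 (Tr.node (Tr.node (Tr.node (Tr.node (Tr.node Tr.leaf 228785 6
 Tr.leaf) 228787 5
 Tr.leaf) 228789 6
 (Tr.node (Tr.node Tr.leaf 228791 6
 Tr.leaf) 228793 7
 Tr.leaf)) 228795 6
 (Tr.node (Tr.node (Tr.node Tr.leaf 228797 6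
 Tr.leaf) 228799 6
 Tr.leaf) 229377 4
 (Tr.node Tr.leaf 229378 4
 Tr.leaf))) 229380 4
 (Tr.node (Tr.node (Tr.node (Tr.node Tr.leaf 229383 5
 Tr.leaf) 229384 4
 Tr.leaf) 229387 6
 (Tr.node Tr.leaf 229389 6
 Tr.leaf)) 229390 7
 (Tr.node (Tr.node (Tr.node Tr.leaf 229392 4
 Tr.leaf) 229395 6
 Tr.leaf) 229397 6
 (Tr.node Tr.leaf 229398 6
 Tr.leaf)))))) 229401 5
 (Tr.node (Tr.node (Tr.node (Tr.node (Tr.node (Tr.node (Tr.node Tr.leaf 229402 6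
 Tr.leaf) 229404 4
 Tr.leaf) 229407 6
 (Tr.node (Tr.node Tr.leaf 229408 4
 Tr.leaf) 229411 6
 Tr.leaf)) 229413 6
 (Tr.node (Tr.node (Tr.node Tr.leaf 229414 6
 Tr.leaf) 229417 4
 Tr.leaf) 229418 5
 (Tr.node Tr.leaf 229420 6
 Tr.leaf))) 229423 6
 (Tr.node (Tr.node (Tr.node (Tr.node Tr.leaf 229425 6
 Tr.leaf) 229426 5
 Tr.leaf) 229428 6
 (Tr.node (Tr.node Tr.leaf 229431 6
 Tr.leaf) 229432 6
 Tr.leaf)) 229435 6
 (Tr.node (Tr.node (Tr.node Tr.leaf 229437 7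
 Tr.leaf) 229438 6
 Tr.leaf) 229441 4
 (Tr.node Tr.leaf 229442 4
 Tr.leaf)))) 229444 3
 (Tr.node (Tr.node (Tr.node (Tr.node (Tr.node Tr.leaf 229447 6
 Tr.leaf) 229448 5
 Tr.leaf) 229451 4
 (Tr.node (Tr.node Tr.leaf 229453 6
 Tr.leaf) 229454 6
 Tr.leaf)) 229456 4
 (Tr.node (Tr.node (Tr.node Tr.leaf 229459 6
 Tr.leaf) 229461 4
 Tr.leaf) 229462 3
 (Tr.node Tr.leaf 229465 6
 Tr.leaf))) 229466 4
 (Tr.node (Tr.node (Tr.node (Tr.node Tr.leaf 229468 6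
 Tr.leaf) 229471 6
 Tr.leaf) 229472 4
 (Tr.node Tr.leaf 229475 6
 Tr.leaf)) 229477 6
 (Tr.node (Tr.node (Tr.node Tr.leaf 229478 3
 Tr.leaf) 229481 6
 Tr.leaf) 229482 6
 (Tr.node Tr.leaf 229484 6
 Tr.leaf))))) 229487 6
 (Tr.node (Tr.node (Tr.node (Tr.node (Tr.node (Tr.node Tr.leaf 229489 6
 Tr.leaf) 229490 6
 Tr.leaf) 229492 6
 (Tr.node (Tr.node Tr.leaf 229495 6
 Tr.leaf) 229496 6
 Tr.leaf)) 229499 6
 (Tr.node (Tr.node (Tr.node Tr.leaf 229501 6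
 Tr.leaf) 229502 6
 Tr.leaf) 229505 5
 (Tr.node Tr.leaf 229506 4
 Tr.leaf))) 229508 4
 (Tr.node (Tr.node (Tr.node (Tr.node Tr.leaf 229511 6
 Tr.leaf) 229512 5
 Tr.leaf) 229515 6
 (Tr.node Tr.leaf 229517 6
 Tr.leaf)) 229518 4
 (Tr.node (Tr.node (Tr.node Tr.leaf 229520 4
 Tr.leaf) 229523 4
 Tr.leaf) 229525 7
 (Tr.node Tr.leaf 229526 6
 Tr.leaf)))) 229529 6
 (Tr.node (Tr.node (Tr.node (Tr.node (Tr.node Tr.leaf 229530 6
 Tr.leaf) 229532 6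
 Tr.leaf) 229535 6
 (Tr.node (Tr.node Tr.leaf 229536 4
 Tr.leaf) 229539 4
 Tr.leaf)) 229541 5
 (Tr.node (Tr.node (Tr.node Tr.leaf 229542 4
 Tr.leaf) 229545 6
 Tr.leaf) 229546 5
 (Tr.node Tr.leaf 229548 3
 Tr.leaf))) 229551 6
 (Tr.node (Tr.node (Tr.node (Tr.node Tr.leaf 229553 4
 Tr.leaf) 229554 4
 Tr.leaf) 229556 6
 (Tr.node Tr.leaf 229559 6
 Tr.leaf)) 229560 6
 (Tr.node (Tr.node (Tr.node Tr.leaf 229563 6
 Tr.leaf) 229565 6
 Tr.leaf) 229566 5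
 (Tr.node Tr.leaf 229569 4
 Tr.leaf))))))) 229570 4
 (Tr.node (Tr.node (Tr.node (Tr.node (Tr.node (Tr.node (Tr.node (Tr.node Tr.leaf 229572 5
 Tr.leaf) 229575 6
 Tr.leaf) 229576 4
 (Tr.node (Tr.node Tr.leaf 229579 6
 Tr.leaf) 229581 6
 Tr.leaf)) 229582 4
 (Tr.node (Tr.node (Tr.node Tr.leaf 229584 4
 Tr.leaf) 229587 5
 Tr.leaf) 229589 4
 (Tr.node Tr.leaf 229590 5
 Tr.leaf))) 229593 5
 (Tr.node (Tr.node (Tr.node (Tr.node Tr.leaf 229594 4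
 Tr.leaf) 229596 4
 Tr.leaf) 229599 6
 (Tr.node (Tr.node Tr.leaf 229600 5
 Tr.leaf) 229603 6
 Tr.leaf)) 229605 5
 (Tr.node (Tr.node (Tr.node Tr.leaf 229606 6
 Tr.leaf) 229609 6
 Tr.leaf) 229610 6
 (Tr.node Tr.leaf 229612 6
 Tr.leaf)))) 229615 6
 (Tr.node (Tr.node (Tr.node (Tr.node (Tr.node Tr.leaf 229617 5
 Tr.leaf) 229618 6
 Tr.leaf) 229620 4
 (Tr.node (Tr.node Tr.leaf 229623 6
 Tr.leaf) 229624 6
 Tr.leaf)) 229627 6
 (Tr.node (Tr.node (Tr.node Tr.leaf 229629 6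
 Tr.leaf) 229630 5
 Tr.leaf) 229633 5
 (Tr.node Tr.leaf 229634 4
 Tr.leaf))) 229636 4
 (Tr.node (Tr.node (Tr.node (Tr.node Tr.leaf 229639 6
 Tr.leaf) 229640 5
 Tr.leaf) 229643 6
 (Tr.node Tr.leaf 229645 6
 Tr.leaf)) 229646 6
 (Tr.node (Tr.node (Tr.node Tr.leaf 229648 4
 Tr.leaf) 229651 5
 Tr.leaf) 229653 6
 (Tr.node Tr.leaf 229654 6
 Tr.leaf))))) 229657 6
 (Tr.node (Tr.node (Tr.node (Tr.node (Tr.node (Tr.node Tr.leaf 229658 3
 Tr.leaf) 229660 5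
 Tr.leaf) 229663 6
 (Tr.node (Tr.node Tr.leaf 229664 4
 Tr.leaf) 229667 6
 Tr.leaf)) 229669 6
 (Tr.node (Tr.node (Tr.node Tr.leaf 229670 5
 Tr.leaf) 229673 6
 Tr.leaf) 229674 5
 (Tr.node Tr.leaf 229676 6
 Tr.leaf))) 229679 6
 (Tr.node (Tr.node (Tr.node (Tr.node Tr.leaf 229681 5
 Tr.leaf) 229682 6
 Tr.leaf) 229684 5
 (Tr.node Tr.leaf 229687 6
 Tr.leaf)) 229688 6
 (Tr.node (Tr.node (Tr.node Tr.leaf 229691 5
 Tr.leaf) 229693 6
 Tr.leaf) 229694 5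
 (Tr.node Tr.leaf 229697 4
 Tr.leaf)))) 229698 4
 (Tr.node (Tr.node (Tr.node (Tr.node (Tr.node Tr.leaf 229700 4
 Tr.leaf) 229703 6
 Tr.leaf) 229704 4
 (Tr.node (Tr.node Tr.leaf 229707 6
 Tr.leaf) 229709 6
 Tr.leaf)) 229710 6
 (Tr.node (Tr.node (Tr.node Tr.leaf 229712 4
 Tr.leaf) 229715 6
 Tr.leaf) 229717 6
 (Tr.node Tr.leaf 229718 5
 Tr.leaf))) 229721 6
 (Tr.node (Tr.node (Tr.node (Tr.node Tr.leaf 229722 6
 Tr.leaf) 229724 5
 Tr.leaf) 229727 6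
 (Tr.node Tr.leaf 229728 5
 Tr.leaf)) 229731 6
 (Tr.node (Tr.node (Tr.node Tr.leaf 229733 5
 Tr.leaf) 229734 5
 Tr.leaf) 229737 5
 (Tr.node Tr.leaf 229738 5
 Tr.leaf)))))) 229740 3
 (Tr.node (Tr.node (Tr.node (Tr.node (Tr.node (Tr.node (Tr.node Tr.leaf 229743 6
 Tr.leaf) 229745 5
 Tr.leaf) 229746 5
 (Tr.node (Tr.node Tr.leaf 229748 6
 Tr.leaf) 229751 6
 Tr.leaf)) 229752 6
 (Tr.node (Tr.node (Tr.node Tr.leaf 229755 6
 Tr.leaf) 229757 5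
 Tr.leaf) 229758 6
 (Tr.node Tr.leaf 229761 4
 Tr.leaf))) 229762 3
 (Tr.node (Tr.node (Tr.node (Tr.node Tr.leaf 229764 5
 Tr.leaf) 229767 6
 Tr.leaf) 229768 4
 (Tr.node (Tr.node Tr.leaf 229771 6
 Tr.leaf) 229773 4
 Tr.leaf)) 229774 6
 (Tr.node (Tr.node (Tr.node Tr.leaf 229776 4
 Tr.leaf) 229779 7
 Tr.leaf) 229781 6
 (Tr.node Tr.leaf 229782 3
 Tr.leaf)))) 229785 6
 (Tr.node (Tr.node (Tr.node (Tr.node (Tr.node Tr.leaf 229786 5
 Tr.leaf) 229788 6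
 Tr.leaf) 229791 6
 (Tr.node (Tr.node Tr.leaf 229792 5
 Tr.leaf) 229795 4
 Tr.leaf)) 229797 6
 (Tr.node (Tr.node (Tr.node Tr.leaf 229798 4
 Tr.leaf) 229801 6
 Tr.leaf) 229802 6
 (Tr.node Tr.leaf 229804 5
 Tr.leaf))) 229807 6
 (Tr.node (Tr.node (Tr.node (Tr.node Tr.leaf 229809 6
 Tr.leaf) 229810 6
 Tr.leaf) 229812 6
 (Tr.node Tr.leaf 229815 6
 Tr.leaf)) 229816 6
 (Tr.node (Tr.node (Tr.node Tr.leaf 229819 6
 Tr.leaf) 229821 6
 Tr.leaf) 229822 6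
 (Tr.node Tr.leaf 229825 4
 Tr.leaf))))) 229826 5
 (Tr.node (Tr.node (Tr.node (Tr.node (Tr.node (Tr.node Tr.leaf 229828 4
 Tr.leaf) 229831 5
 Tr.leaf) 229832 4
 (Tr.node (Tr.node Tr.leaf 229835 6
 Tr.leaf) 229837 6
 Tr.leaf)) 229838 6
 (Tr.node (Tr.node (Tr.node Tr.leaf 229840 5
 Tr.leaf) 229843 6
 Tr.leaf) 229845 6
 (Tr.node Tr.leaf 229846 6
 Tr.leaf))) 229849 4
 (Tr.node (Tr.node (Tr.node (Tr.node Tr.leaf 229850 6
 Tr.leaf) 229852 6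
 Tr.leaf) 229855 6
 (Tr.node Tr.leaf 229856 4
 Tr.leaf)) 229859 6
 (Tr.node (Tr.node (Tr.node Tr.leaf 229861 6
 Tr.leaf) 229862 6
 Tr.leaf) 229865 6
 (Tr.node Tr.leaf 229866 4
 Tr.leaf)))) 229868 6
 (Tr.node (Tr.node (Tr.node (Tr.node (Tr.node Tr.leaf 229871 6
 Tr.leaf) 229873 7
 Tr.leaf) 229874 6
 (Tr.node (Tr.node Tr.leaf 229876 5
 Tr.leaf) 229879 6
 Tr.leaf)) 229880 6
 (Tr.node (Tr.node (Tr.node Tr.leaf 229883 6
 Tr.leaf) 229885 6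
 Tr.leaf) 229886 6
 (Tr.node Tr.leaf 230405 6
 Tr.leaf))) 230407 5
 (Tr.node (Tr.node (Tr.node (Tr.node Tr.leaf 230409 4
 Tr.leaf) 230411 4
 Tr.leaf) 230417 6
 (Tr.node Tr.leaf 230419 6
 Tr.leaf)) 230429 6
 (Tr.node (Tr.node (Tr.node Tr.leaf 230431 6
 Tr.leaf) 230433 6
 Tr.leaf) 230435 4
 (Tr.node Tr.leaf 230445 6
 Tr.leaf)))))))) 230447 7
 (Tr.node (Tr.node (Tr.node (Tr.node (Tr.node (Tr.node (Tr.node (Tr.node (Tr.node Tr.leaf 230453 6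
 Tr.leaf) 230455 6
 Tr.leaf) 230457 6
 (Tr.node (Tr.node Tr.leaf 230459 6
 Tr.leaf) 230469 6
 Tr.leaf)) 230471 6
 (Tr.node (Tr.node (Tr.node Tr.leaf 230473 4
 Tr.leaf) 230475 5
 Tr.leaf) 230481 4
 (Tr.node Tr.leaf 230483 6
 Tr.leaf))) 230493 6
 (Tr.node (Tr.node (Tr.node (Tr.node Tr.leaf 230495 6
 Tr.leaf) 230497 6
 Tr.leaf) 230499 6
 (Tr.node (Tr.node Tr.leaf 230509 6
 Tr.leaf) 230511 6
 Tr.leaf)) 230517 6
 (Tr.node (Tr.node (Tr.node Tr.leaf 230519 6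
 Tr.leaf) 230521 6
 Tr.leaf) 230523 6
 (Tr.node Tr.leaf 230533 6
 Tr.leaf)))) 230535 6
 (Tr.node (Tr.node (Tr.node (Tr.node (Tr.node Tr.leaf 230537 6
 Tr.leaf) 230539 6
 Tr.leaf) 230545 6
 (Tr.node (Tr.node Tr.leaf 230547 6
 Tr.leaf) 230557 6
 Tr.leaf)) 230559 6
 (Tr.node (Tr.node (Tr.node Tr.leaf 230561 5
 Tr.leaf) 230563 6
 Tr.leaf) 230573 6
 (Tr.node Tr.leaf 230575 6
 Tr.leaf))) 230581 5
 (Tr.node (Tr.node (Tr.node (Tr.node Tr.leaf 230583 6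
 Tr.leaf) 230585 6
 Tr.leaf) 230587 6
 (Tr.node Tr.leaf 230597 6
 Tr.leaf)) 230599 7
 (Tr.node (Tr.node (Tr.node Tr.leaf 230601 6
 Tr.leaf) 230603 6
 Tr.leaf) 230609 4
 (Tr.node Tr.leaf 230611 6
 Tr.leaf))))) 230621 6
 (Tr.node (Tr.node (Tr.node (Tr.node (Tr.node (Tr.node Tr.leaf 230623 6
 Tr.leaf) 230625 6
 Tr.leaf) 230627 4
 (Tr.node (Tr.node Tr.leaf 230637 5
 Tr.leaf) 230639 6
 Tr.leaf)) 230645 6
 (Tr.node (Tr.node (Tr.node Tr.leaf 230647 5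
 Tr.leaf) 230649 7
 Tr.leaf) 230651 6
 (Tr.node Tr.leaf 230661 6
 Tr.leaf))) 230663 6
 (Tr.node (Tr.node (Tr.node (Tr.node Tr.leaf 230665 6
 Tr.leaf) 230667 6
 Tr.leaf) 230673 5
 (Tr.node (Tr.node Tr.leaf 230675 7
 Tr.leaf) 230685 6
 Tr.leaf)) 230687 5
 (Tr.node (Tr.node (Tr.node Tr.leaf 230689 5
 Tr.leaf) 230691 6
 Tr.leaf) 230701 6
 (Tr.node Tr.leaf 230703 6
 Tr.leaf)))) 230709 6
 (Tr.node (Tr.node (Tr.node (Tr.node (Tr.node Tr.leaf 230711 6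
 Tr.leaf) 230713 6
 Tr.leaf) 230715 5
 (Tr.node (Tr.node Tr.leaf 230725 6
 Tr.leaf) 230727 5
 Tr.leaf)) 230729 6
 (Tr.node (Tr.node (Tr.node Tr.leaf 230731 6
 Tr.leaf) 230737 6
 Tr.leaf) 230739 6
 (Tr.node Tr.leaf 230749 6
 Tr.leaf))) 230751 6
 (Tr.node (Tr.node (Tr.node (Tr.node Tr.leaf 230753 4
 Tr.leaf) 230755 6
 Tr.leaf) 230765 6
 (Tr.node Tr.leaf 230767 6
 Tr.leaf)) 230773 5
 (Tr.node (Tr.node (Tr.node Tr.leaf 230775 6
 Tr.leaf) 230777 6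
 Tr.leaf) 230779 5
 (Tr.node Tr.leaf 230789 6
 Tr.leaf)))))) 230791 6
 (Tr.node (Tr.node (Tr.node (Tr.node (Tr.node (Tr.node (Tr.node Tr.leaf 230793 5
 Tr.leaf) 230795 6
 Tr.leaf) 230801 5
 (Tr.node (Tr.node Tr.leaf 230803 7
 Tr.leaf) 230813 6
 Tr.leaf)) 230815 6
 (Tr.node (Tr.node (Tr.node Tr.leaf 230817 6
 Tr.leaf) 230819 6
 Tr.leaf) 230829 6
 (Tr.node Tr.leaf 230831 6
 Tr.leaf))) 230837 6
 (Tr.node (Tr.node (Tr.node (Tr.node Tr.leaf 230839 5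
 Tr.leaf) 230841 6
 Tr.leaf) 230843 6
 (Tr.node (Tr.node Tr.leaf 230853 6
 Tr.leaf) 230855 6
 Tr.leaf)) 230857 5
 (Tr.node (Tr.node (Tr.node Tr.leaf 230859 6
 Tr.leaf) 230865 7
 Tr.leaf) 230867 5
 (Tr.node Tr.leaf 230877 6
 Tr.leaf)))) 230879 6
 (Tr.node (Tr.node (Tr.node (Tr.node (Tr.node Tr.leaf 230881 6
 Tr.leaf) 230883 6
 Tr.leaf) 230893 6
 (Tr.node (Tr.node Tr.leaf 230895 6
 Tr.leaf) 230901 6
 Tr.leaf)) 230903 5
 (Tr.node (Tr.node (Tr.node Tr.leaf 230905 6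
 Tr.leaf) 230907 6
 Tr.leaf) 231427 6
 (Tr.node Tr.leaf 231431 6
 Tr.leaf))) 231433 6
 (Tr.node (Tr.node (Tr.node (Tr.node Tr.leaf 231434 5
 Tr.leaf) 231437 5
 Tr.leaf) 231438 5
 (Tr.node Tr.leaf 231441 6
 Tr.leaf)) 231442 6
 (Tr.node (Tr.node (Tr.node Tr.leaf 231445 6
 Tr.leaf) 231446 6
 Tr.leaf) 231451 6
 (Tr.node Tr.leaf 231455 6
 Tr.leaf))))) 231457 4
 (Tr.node (Tr.node (Tr.node (Tr.node (Tr.node (Tr.node Tr.leaf 231458 5
 Tr.leaf) 231461 6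
 Tr.leaf) 231462 5
 (Tr.node (Tr.node Tr.leaf 231467 6
 Tr.leaf) 231471 6
 Tr.leaf)) 231475 5
 (Tr.node (Tr.node (Tr.node Tr.leaf 231479 6
 Tr.leaf) 231481 6
 Tr.leaf) 231482 6
 (Tr.node Tr.leaf 231485 6
 Tr.leaf))) 231486 6
 (Tr.node (Tr.node (Tr.node (Tr.node Tr.leaf 231491 6
 Tr.leaf) 231495 6
 Tr.leaf) 231497 6
 (Tr.node Tr.leaf 231498 4
 Tr.leaf)) 231501 5
 (Tr.node (Tr.node (Tr.node Tr.leaf 231502 6
 Tr.leaf) 231505 6
 Tr.leaf) 231506 4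
 (Tr.node Tr.leaf 231509 6
 Tr.leaf)))) 231510 6
 (Tr.node (Tr.node (Tr.node (Tr.node (Tr.node Tr.leaf 231515 6
 Tr.leaf) 231519 6
 Tr.leaf) 231521 6
 (Tr.node (Tr.node Tr.leaf 231522 6
 Tr.leaf) 231525 5
 Tr.leaf)) 231526 6
 (Tr.node (Tr.node (Tr.node Tr.leaf 231531 6
 Tr.leaf) 231535 6
 Tr.leaf) 231539 5
 (Tr.node Tr.leaf 231543 6
 Tr.leaf))) 231545 6
 (Tr.node (Tr.node (Tr.node (Tr.node Tr.leaf 231546 6
 Tr.leaf) 231549 6
 Tr.leaf) 231550 6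
 (Tr.node Tr.leaf 231555 7
 Tr.leaf)) 231559 6
 (Tr.node (Tr.node (Tr.node Tr.leaf 231561 6
 Tr.leaf) 231562 6
 Tr.leaf) 231565 6
 (Tr.node Tr.leaf 231566 5
 Tr.leaf))))))) 231569 4
 (Tr.node (Tr.node (Tr.node (Tr.node (Tr.node (Tr.node (Tr.node (Tr.node Tr.leaf 231570 6
 Tr.leaf) 231573 6
 Tr.leaf) 231574 6
 (Tr.node (Tr.node Tr.leaf 231579 6
 Tr.leaf) 231583 5
 Tr.leaf)) 231585 7
 (Tr.node (Tr.node (Tr.node Tr.leaf 231586 6
 Tr.leaf) 231589 5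
 Tr.leaf) 231590 6
 (Tr.node Tr.leaf 231595 6
 Tr.leaf))) 231599 6
 (Tr.node (Tr.node (Tr.node (Tr.node Tr.leaf 231603 5
 Tr.leaf) 231607 6
 Tr.leaf) 231609 6
 (Tr.node (Tr.node Tr.leaf 231610 6
 Tr.leaf) 231613 7
 Tr.leaf)) 231614 5
 (Tr.node (Tr.node (Tr.node Tr.leaf 231619 6
 Tr.leaf) 231623 5
 Tr.leaf) 231625 6
 (Tr.node Tr.leaf 231626 6
 Tr.leaf)))) 231629 6
 (Tr.node (Tr.node (Tr.node (Tr.node (Tr.node Tr.leaf 231630 6
 Tr.leaf) 231633 7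
 Tr.leaf) 231634 5
 (Tr.node (Tr.node Tr.leaf 231637 5
 Tr.leaf) 231638 3
 Tr.leaf)) 231643 6
 (Tr.node (Tr.node (Tr.node Tr.leaf 231647 6
 Tr.leaf) 231649 7
 Tr.leaf) 231650 5
 (Tr.node Tr.leaf 231653 6
 Tr.leaf))) 231654 6
 (Tr.node (Tr.node (Tr.node (Tr.node Tr.leaf 231659 6
 Tr.leaf) 231663 6
 Tr.leaf) 231667 6
 (Tr.node Tr.leaf 231671 5
 Tr.leaf)) 231673 6
 (Tr.node (Tr.node (Tr.node Tr.leaf 231674 5
 Tr.leaf) 231677 6
 Tr.leaf) 231678 6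
 (Tr.node Tr.leaf 231683 6
 Tr.leaf))))) 231687 6
 (Tr.node (Tr.node (Tr.node (Tr.node (Tr.node (Tr.node Tr.leaf 231689 6
 Tr.leaf) 231690 6
 Tr.leaf) 231693 6
 (Tr.node (Tr.node Tr.leaf 231694 4
 Tr.leaf) 231697 6
 Tr.leaf)) 231698 3
 (Tr.node (Tr.node (Tr.node Tr.leaf 231701 4
 Tr.leaf) 231702 4
 Tr.leaf) 231707 6
 (Tr.node Tr.leaf 231711 6
 Tr.leaf))) 231713 6
 (Tr.node (Tr.node (Tr.node (Tr.node Tr.leaf 231714 6
 Tr.leaf) 231717 6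
 Tr.leaf) 231718 4
 (Tr.node Tr.leaf 231723 6
 Tr.leaf)) 231727 6
 (Tr.node (Tr.node (Tr.node Tr.leaf 231731 6
 Tr.leaf) 231735 5
 Tr.leaf) 231737 5
 (Tr.node Tr.leaf 231738 6
 Tr.leaf)))) 231741 6
 (Tr.node (Tr.node (Tr.node (Tr.node (Tr.node Tr.leaf 231742 5
 Tr.leaf) 231747 6
 Tr.leaf) 231751 6
 (Tr.node (Tr.node Tr.leaf 231753 6
 Tr.leaf) 231754 6
 Tr.leaf)) 231757 6
 (Tr.node (Tr.node (Tr.node Tr.leaf 231758 5
 Tr.leaf) 231761 6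
 Tr.leaf) 231762 6
 (Tr.node Tr.leaf 231765 5
 Tr.leaf))) 231766 6
 (Tr.node (Tr.node (Tr.node (Tr.node Tr.leaf 231771 6
 Tr.leaf) 231775 6
 Tr.leaf) 231777 6
 (Tr.node Tr.leaf 231778 6
 Tr.leaf)) 231781 4
 (Tr.node (Tr.node (Tr.node Tr.leaf 231782 5
 Tr.leaf) 231787 5
 Tr.leaf) 231791 6
 (Tr.node Tr.leaf 231795 6
 Tr.leaf)))))) 231799 6
 (Tr.node (Tr.node (Tr.node (Tr.node (Tr.node (Tr.node (Tr.node Tr.leaf 231801 5
 Tr.leaf) 231802 5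
 Tr.leaf) 231805 6
 (Tr.node (Tr.node Tr.leaf 231806 5
 Tr.leaf) 231811 6
 Tr.leaf)) 231815 6
 (Tr.node (Tr.node (Tr.node Tr.leaf 231817 5
 Tr.leaf) 231818 5
 Tr.leaf) 231821 4
 (Tr.node Tr.leaf 231822 5
 Tr.leaf))) 231825 6
 (Tr.node (Tr.node (Tr.node (Tr.node Tr.leaf 231826 5
 Tr.leaf) 231829 6
 Tr.leaf) 231830 5
 (Tr.node (Tr.node Tr.leaf 231835 6
 Tr.leaf) 231839 6
 Tr.leaf)) 231841 6
 (Tr.node (Tr.node (Tr.node Tr.leaf 231842 6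
 Tr.leaf) 231845 4
 Tr.leaf) 231846 5
 (Tr.node Tr.leaf 231851 6
 Tr.leaf)))) 231855 6
 (Tr.node (Tr.node (Tr.node (Tr.node (Tr.node Tr.leaf 231859 6
 Tr.leaf) 231863 6
 Tr.leaf) 231865 6
 (Tr.node (Tr.node Tr.leaf 231866 6
 Tr.leaf) 231869 6
 Tr.leaf)) 231870 5
 (Tr.node (Tr.node (Tr.node Tr.leaf 231875 5
 Tr.leaf) 231879 6
 Tr.leaf) 231881 5
 (Tr.node Tr.leaf 231882 4
 Tr.leaf))) 231885 5
 (Tr.node (Tr.node (Tr.node (Tr.node Tr.leaf 231886 6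
 Tr.leaf) 231889 4
 Tr.leaf) 231890 6
 (Tr.node Tr.leaf 231893 6
 Tr.leaf)) 231894 6
 (Tr.node (Tr.node (Tr.node Tr.leaf 231899 7
 Tr.leaf) 231903 6
 Tr.leaf) 231905 7
 (Tr.node Tr.leaf 231906 5
 Tr.leaf))))) 231909 6
 (Tr.node (Tr.node (Tr.node (Tr.node (Tr.node (Tr.node Tr.leaf 231910 6
 Tr.leaf) 231915 6
 Tr.leaf) 231919 6
 (Tr.node (Tr.node Tr.leaf 231923 6
 Tr.leaf) 231927 6
 Tr.leaf)) 231929 6
 (Tr.node (Tr.node (Tr.node Tr.leaf 231930 6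
 Tr.leaf) 231933 6
 Tr.leaf) 231934 6
 (Tr.node Tr.leaf 232449 5
 Tr.leaf))) 232451 7
 (Tr.node (Tr.node (Tr.node (Tr.node Tr.leaf 232453 5
 Tr.leaf) 232455 6
 Tr.leaf) 232473 6
 (Tr.node Tr.leaf 232475 6
 Tr.leaf)) 232477 6
 (Tr.node (Tr.node (Tr.node Tr.leaf 232479 6
 Tr.leaf) 232489 6
 Tr.leaf) 232491 5
 (Tr.node Tr.leaf 232493 6
 Tr.leaf)))) 232495 6
 (Tr.node (Tr.node (Tr.node (Tr.node (Tr.node Tr.leaf 232497 7
 Tr.leaf) 232499 6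
 Tr.leaf) 232501 6
 (Tr.node (Tr.node Tr.leaf 232503 5
 Tr.leaf) 232513 6
 Tr.leaf)) 232515 6
 (Tr.node (Tr.node (Tr.node Tr.leaf 232517 6
 Tr.leaf) 232519 5
 Tr.leaf) 232537 5
 (Tr.node Tr.leaf 232539 5
 Tr.leaf))) 232541 6
 (Tr.node (Tr.node (Tr.node (Tr.node Tr.leaf 232543 7
 Tr.leaf) 232553 6
 Tr.leaf) 232555 6
 (Tr.node Tr.leaf 232557 5
 Tr.leaf)) 232559 5
 (Tr.node (Tr.node (Tr.node Tr.leaf 232561 6
 Tr.leaf) 232563 6
 Tr.leaf) 232565 6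
 (Tr.node Tr.leaf 232567 6
 Tr.leaf)))))))))

/-- A subtree. -/
def tr2_s57 : Tr := (Tr.node (Tr.node (Tr.node (Tr.node (Tr.node (Tr.node (Tr.node (Tr.node (Tr.node (Tr.node Tr.leaf 232579 6
 Tr.leaf) 232581 6
 Tr.leaf) 232583 6
 (Tr.node (Tr.node Tr.leaf 232601 5
 Tr.leaf) 232603 6
 Tr.leaf)) 232605 5
 (Tr.node (Tr.node (Tr.node Tr.leaf 232607 6
 Tr.leaf) 232617 7
 Tr.leaf) 232619 6
 (Tr.node Tr.leaf 232621 5
 Tr.leaf))) 232623 6
 (Tr.node (Tr.node (Tr.node (Tr.node Tr.leaf 232625 5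
 Tr.leaf) 232627 6
 Tr.leaf) 232629 6
 (Tr.node (Tr.node Tr.leaf 232631 6
 Tr.leaf) 232641 6
 Tr.leaf)) 232643 6
 (Tr.node (Tr.node (Tr.node Tr.leaf 232645 6
 Tr.leaf) 232647 5
 Tr.leaf) 232665 6
 (Tr.node Tr.leaf 232667 6
 Tr.leaf)))) 232669 6
 (Tr.node (Tr.node (Tr.node (Tr.node (Tr.node Tr.leaf 232671 6
 Tr.leaf) 232681 6
 Tr.leaf) 232683 6
 (Tr.node (Tr.node Tr.leaf 232685 6
 Tr.leaf) 232687 6
 Tr.leaf)) 232689 6
 (Tr.node (Tr.node (Tr.node Tr.leaf 232691 5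
 Tr.leaf) 232693 6
 Tr.leaf) 232695 5
 (Tr.node Tr.leaf 232705 6
 Tr.leaf))) 232707 6
 (Tr.node (Tr.node (Tr.node (Tr.node Tr.leaf 232709 6
 Tr.leaf) 232711 6
 Tr.leaf) 232729 5
 (Tr.node Tr.leaf 232731 6
 Tr.leaf)) 232733 5
 (Tr.node (Tr.node (Tr.node Tr.leaf 232735 6
 Tr.leaf) 232745 6
 Tr.leaf) 232747 5
 (Tr.node Tr.leaf 232749 5
 Tr.leaf))))) 232751 6
 (Tr.node (Tr.node (Tr.node (Tr.node (Tr.node (Tr.node Tr.leaf 232753 5
 Tr.leaf) 232755 6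
 Tr.leaf) 232757 6
 (Tr.node (Tr.node Tr.leaf 232759 6
 Tr.leaf) 232769 6
 Tr.leaf)) 232771 6
 (Tr.node (Tr.node (Tr.node Tr.leaf 232773 6
 Tr.leaf) 232775 6
 Tr.leaf) 232793 6
 (Tr.node Tr.leaf 232795 6
 Tr.leaf))) 232797 5
 (Tr.node (Tr.node (Tr.node (Tr.node Tr.leaf 232799 6
 Tr.leaf) 232809 6
 Tr.leaf) 232811 6
 (Tr.node (Tr.node Tr.leaf 232813 5
 Tr.leaf) 232815 5
 Tr.leaf)) 232817 6
 (Tr.node (Tr.node (Tr.node Tr.leaf 232819 6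
 Tr.leaf) 232821 7
 Tr.leaf) 232823 5
 (Tr.node Tr.leaf 232833 5
 Tr.leaf)))) 232835 6
 (Tr.node (Tr.node (Tr.node (Tr.node (Tr.node Tr.leaf 232837 6
 Tr.leaf) 232839 6
 Tr.leaf) 232857 5
 (Tr.node (Tr.node Tr.leaf 232859 6
 Tr.leaf) 232861 5
 Tr.leaf)) 232863 6
 (Tr.node (Tr.node (Tr.node Tr.leaf 232873 7
 Tr.leaf) 232875 6
 Tr.leaf) 232877 6
 (Tr.node Tr.leaf 232879 5
 Tr.leaf))) 232881 6
 (Tr.node (Tr.node (Tr.node (Tr.node Tr.leaf 232883 6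
 Tr.leaf) 232885 6
 Tr.leaf) 232887 6
 (Tr.node Tr.leaf 232897 6
 Tr.leaf)) 232899 7
 (Tr.node (Tr.node (Tr.node Tr.leaf 232901 5
 Tr.leaf) 232903 5
 Tr.leaf) 232921 6
 (Tr.node Tr.leaf 232923 5
 Tr.leaf)))))) 232925 6
 (Tr.node (Tr.node (Tr.node (Tr.node (Tr.node (Tr.node (Tr.node Tr.leaf 232927 6
 Tr.leaf) 232937 6
 Tr.leaf) 232939 6
 (Tr.node (Tr.node Tr.leaf 232941 6
 Tr.leaf) 232943 6
 Tr.leaf)) 232945 5
 (Tr.node (Tr.node (Tr.node Tr.leaf 232947 6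
 Tr.leaf) 232949 6
 Tr.leaf) 232951 6
 (Tr.node Tr.leaf 233475 6
 Tr.leaf))) 233477 6
 (Tr.node (Tr.node (Tr.node (Tr.node Tr.leaf 233478 6
 Tr.leaf) 233483 6
 Tr.leaf) 233485 5
 (Tr.node (Tr.node Tr.leaf 233486 5
 Tr.leaf) 233489 6
 Tr.leaf)) 233490 6
 (Tr.node (Tr.node (Tr.node Tr.leaf 233492 6
 Tr.leaf) 233495 6
 Tr.leaf) 233497 6
 (Tr.node Tr.leaf 233498 6
 Tr.leaf)))) 233500 6
 (Tr.node (Tr.node (Tr.node (Tr.node (Tr.node Tr.leaf 233503 6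
 Tr.leaf) 233505 6
 Tr.leaf) 233506 6
 (Tr.node (Tr.node Tr.leaf 233508 6
 Tr.leaf) 233511 7
 Tr.leaf)) 233513 6
 (Tr.node (Tr.node (Tr.node Tr.leaf 233514 6
 Tr.leaf) 233516 6
 Tr.leaf) 233519 5
 (Tr.node Tr.leaf 233523 6
 Tr.leaf))) 233525 6
 (Tr.node (Tr.node (Tr.node (Tr.node Tr.leaf 233526 6
 Tr.leaf) 233531 7
 Tr.leaf) 233533 6
 (Tr.node Tr.leaf 233534 5
 Tr.leaf)) 233539 6
 (Tr.node (Tr.node (Tr.node Tr.leaf 233541 4
 Tr.leaf) 233542 5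
 Tr.leaf) 233547 6
 (Tr.node Tr.leaf 233549 6
 Tr.leaf))))) 233550 6
 (Tr.node (Tr.node (Tr.node (Tr.node (Tr.node (Tr.node Tr.leaf 233553 4
 Tr.leaf) 233554 3
 Tr.leaf) 233556 3
 (Tr.node (Tr.node Tr.leaf 233559 6
 Tr.leaf) 233561 6
 Tr.leaf)) 233562 6
 (Tr.node (Tr.node (Tr.node Tr.leaf 233564 5
 Tr.leaf) 233567 6
 Tr.leaf) 233569 5
 (Tr.node Tr.leaf 233570 3
 Tr.leaf))) 233572 3
 (Tr.node (Tr.node (Tr.node (Tr.node Tr.leaf 233575 6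
 Tr.leaf) 233577 6
 Tr.leaf) 233578 6
 (Tr.node Tr.leaf 233580 4
 Tr.leaf)) 233583 6
 (Tr.node (Tr.node (Tr.node Tr.leaf 233587 6
 Tr.leaf) 233589 6
 Tr.leaf) 233590 6
 (Tr.node Tr.leaf 233595 6
 Tr.leaf)))) 233597 6
 (Tr.node (Tr.node (Tr.node (Tr.node (Tr.node Tr.leaf 233598 6
 Tr.leaf) 233603 4
 Tr.leaf) 233605 6
 (Tr.node (Tr.node Tr.leaf 233606 4
 Tr.leaf) 233611 6
 Tr.leaf)) 233613 6
 (Tr.node (Tr.node (Tr.node Tr.leaf 233614 5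
 Tr.leaf) 233617 6
 Tr.leaf) 233618 6
 (Tr.node Tr.leaf 233620 6
 Tr.leaf))) 233623 6
 (Tr.node (Tr.node (Tr.node (Tr.node Tr.leaf 233625 5
 Tr.leaf) 233626 6
 Tr.leaf) 233628 5
 (Tr.node Tr.leaf 233631 6
 Tr.leaf)) 233633 4
 (Tr.node (Tr.node (Tr.node Tr.leaf 233634 6
 Tr.leaf) 233636 4
 Tr.leaf) 233639 6
 (Tr.node Tr.leaf 233641 6
 Tr.leaf))))))) 233642 6
 (Tr.node (Tr.node (Tr.node (Tr.node (Tr.node (Tr.node (Tr.node (Tr.node Tr.leaf 233644 5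
 Tr.leaf) 233647 5
 Tr.leaf) 233651 5
 (Tr.node (Tr.node Tr.leaf 233653 6
 Tr.leaf) 233654 5
 Tr.leaf)) 233659 6
 (Tr.node (Tr.node (Tr.node Tr.leaf 233661 6
 Tr.leaf) 233662 5
 Tr.leaf) 233667 6
 (Tr.node Tr.leaf 233669 7
 Tr.leaf))) 233670 5
 (Tr.node (Tr.node (Tr.node (Tr.node Tr.leaf 233675 6
 Tr.leaf) 233677 4
 Tr.leaf) 233678 5
 (Tr.node (Tr.node Tr.leaf 233681 6
 Tr.leaf) 233682 5
 Tr.leaf)) 233684 6
 (Tr.node (Tr.node (Tr.node Tr.leaf 233687 5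
 Tr.leaf) 233689 5
 Tr.leaf) 233690 4
 (Tr.node Tr.leaf 233692 6
 Tr.leaf)))) 233695 6
 (Tr.node (Tr.node (Tr.node (Tr.node (Tr.node Tr.leaf 233697 4
 Tr.leaf) 233698 5
 Tr.leaf) 233700 6
 (Tr.node (Tr.node Tr.leaf 233703 6
 Tr.leaf) 233705 7
 Tr.leaf)) 233706 6
 (Tr.node (Tr.node (Tr.node Tr.leaf 233708 6
 Tr.leaf) 233711 6
 Tr.leaf) 233715 6
 (Tr.node Tr.leaf 233717 6
 Tr.leaf))) 233718 5
 (Tr.node (Tr.node (Tr.node (Tr.node Tr.leaf 233723 6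
 Tr.leaf) 233725 5
 Tr.leaf) 233726 5
 (Tr.node Tr.leaf 233731 6
 Tr.leaf)) 233733 6
 (Tr.node (Tr.node (Tr.node Tr.leaf 233734 6
 Tr.leaf) 233739 6
 Tr.leaf) 233741 4
 (Tr.node Tr.leaf 233742 6
 Tr.leaf))))) 233745 5
 (Tr.node (Tr.node (Tr.node (Tr.node (Tr.node (Tr.node Tr.leaf 233746 6
 Tr.leaf) 233748 6
 Tr.leaf) 233751 6
 (Tr.node (Tr.node Tr.leaf 233753 4
 Tr.leaf) 233754 4
 Tr.leaf)) 233756 6
 (Tr.node (Tr.node (Tr.node Tr.leaf 233759 6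
 Tr.leaf) 233761 6
 Tr.leaf) 233762 6
 (Tr.node Tr.leaf 233764 5
 Tr.leaf))) 233767 6
 (Tr.node (Tr.node (Tr.node (Tr.node Tr.leaf 233769 5
 Tr.leaf) 233770 4
 Tr.leaf) 233772 6
 (Tr.node Tr.leaf 233775 5
 Tr.leaf)) 233779 6
 (Tr.node (Tr.node (Tr.node Tr.leaf 233781 6
 Tr.leaf) 233782 6
 Tr.leaf) 233787 5
 (Tr.node Tr.leaf 233789 5
 Tr.leaf)))) 233790 5
 (Tr.node (Tr.node (Tr.node (Tr.node (Tr.node Tr.leaf 233795 5
 Tr.leaf) 233797 6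
 Tr.leaf) 233798 6
 (Tr.node (Tr.node Tr.leaf 233803 6
 Tr.leaf) 233805 6
 Tr.leaf)) 233806 6
 (Tr.node (Tr.node (Tr.node Tr.leaf 233809 6
 Tr.leaf) 233810 6
 Tr.leaf) 233812 4
 (Tr.node Tr.leaf 233815 5
 Tr.leaf))) 233817 6
 (Tr.node (Tr.node (Tr.node (Tr.node Tr.leaf 233818 5
 Tr.leaf) 233820 6
 Tr.leaf) 233823 6
 (Tr.node Tr.leaf 233825 4
 Tr.leaf)) 233826 6
 (Tr.node (Tr.node (Tr.node Tr.leaf 233828 4
 Tr.leaf) 233831 6
 Tr.leaf) 233833 5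
 (Tr.node Tr.leaf 233834 6
 Tr.leaf)))))) 233836 5
 (Tr.node (Tr.node (Tr.node (Tr.node (Tr.node (Tr.node (Tr.node Tr.leaf 233839 6
 Tr.leaf) 233843 6
 Tr.leaf) 233845 5
 (Tr.node (Tr.node Tr.leaf 233846 5
 Tr.leaf) 233851 6
 Tr.leaf)) 233853 6
 (Tr.node (Tr.node (Tr.node Tr.leaf 233854 5
 Tr.leaf) 233859 6
 Tr.leaf) 233861 6
 (Tr.node Tr.leaf 233862 7
 Tr.leaf))) 233867 5
 (Tr.node (Tr.node (Tr.node (Tr.node Tr.leaf 233869 6
 Tr.leaf) 233870 5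
 Tr.leaf) 233873 6
 (Tr.node (Tr.node Tr.leaf 233874 4
 Tr.leaf) 233876 6
 Tr.leaf)) 233879 6
 (Tr.node (Tr.node (Tr.node Tr.leaf 233881 6
 Tr.leaf) 233882 4
 Tr.leaf) 233884 4
 (Tr.node Tr.leaf 233887 6
 Tr.leaf)))) 233889 6
 (Tr.node (Tr.node (Tr.node (Tr.node (Tr.node Tr.leaf 233890 5
 Tr.leaf) 233892 5
 Tr.leaf) 233895 6
 (Tr.node (Tr.node Tr.leaf 233897 4
 Tr.leaf) 233898 3
 Tr.leaf)) 233900 3
 (Tr.node (Tr.node (Tr.node Tr.leaf 233903 6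
 Tr.leaf) 233907 6
 Tr.leaf) 233909 6
 (Tr.node Tr.leaf 233910 6
 Tr.leaf))) 233915 6
 (Tr.node (Tr.node (Tr.node (Tr.node Tr.leaf 233917 6
 Tr.leaf) 233918 6
 Tr.leaf) 233923 5
 (Tr.node Tr.leaf 233925 6
 Tr.leaf)) 233926 5
 (Tr.node (Tr.node (Tr.node Tr.leaf 233931 6
 Tr.leaf) 233933 6
 Tr.leaf) 233934 7
 (Tr.node Tr.leaf 233937 6
 Tr.leaf))))) 233938 6
 (Tr.node (Tr.node (Tr.node (Tr.node (Tr.node (Tr.node Tr.leaf 233940 6
 Tr.leaf) 233943 5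
 Tr.leaf) 233945 7
 (Tr.node (Tr.node Tr.leaf 233946 6
 Tr.leaf) 233948 6
 Tr.leaf)) 233951 7
 (Tr.node (Tr.node (Tr.node Tr.leaf 233953 7
 Tr.leaf) 233954 6
 Tr.leaf) 233956 6
 (Tr.node Tr.leaf 233959 6
 Tr.leaf))) 233961 6
 (Tr.node (Tr.node (Tr.node (Tr.node Tr.leaf 233962 6
 Tr.leaf) 233964 6
 Tr.leaf) 233967 6
 (Tr.node Tr.leaf 233971 6
 Tr.leaf)) 233973 6
 (Tr.node (Tr.node (Tr.node Tr.leaf 233974 5
 Tr.leaf) 233979 6
 Tr.leaf) 233981 6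
 (Tr.node Tr.leaf 233982 6
 Tr.leaf)))) 234497 6
 (Tr.node (Tr.node (Tr.node (Tr.node (Tr.node Tr.leaf 234499 7
 Tr.leaf) 234505 6
 Tr.leaf) 234507 6
 (Tr.node (Tr.node Tr.leaf 234517 6
 Tr.leaf) 234519 6
 Tr.leaf)) 234525 6
 (Tr.node (Tr.node (Tr.node Tr.leaf 234527 6
 Tr.leaf) 234533 5
 Tr.leaf) 234535 6
 (Tr.node Tr.leaf 234541 5
 Tr.leaf))) 234543 5
 (Tr.node (Tr.node (Tr.node (Tr.node Tr.leaf 234545 6
 Tr.leaf) 234547 6
 Tr.leaf) 234553 6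
 (Tr.node Tr.leaf 234555 6
 Tr.leaf)) 234561 6
 (Tr.node (Tr.node (Tr.node Tr.leaf 234563 5
 Tr.leaf) 234569 6
 Tr.leaf) 234571 6
 (Tr.node Tr.leaf 234581 6
 Tr.leaf)))))))) 234583 6
 (Tr.node (Tr.node (Tr.node (Tr.node (Tr.node (Tr.node (Tr.node (Tr.node (Tr.node Tr.leaf 234589 6
 Tr.leaf) 234591 5
 Tr.leaf) 234597 6
 (Tr.node (Tr.node Tr.leaf 234599 5
 Tr.leaf) 234605 6
 Tr.leaf)) 234607 6
 (Tr.node (Tr.node (Tr.node Tr.leaf 234609 6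
 Tr.leaf) 234611 6
 Tr.leaf) 234617 6
 (Tr.node Tr.leaf 234619 6
 Tr.leaf))) 234625 6
 (Tr.node (Tr.node (Tr.node (Tr.node Tr.leaf 234627 4
 Tr.leaf) 234633 6
 Tr.leaf) 234635 6
 (Tr.node (Tr.node Tr.leaf 234645 6
 Tr.leaf) 234647 6
 Tr.leaf)) 234653 5
 (Tr.node (Tr.node (Tr.node Tr.leaf 234655 6
 Tr.leaf) 234661 6
 Tr.leaf) 234663 5
 (Tr.node Tr.leaf 234669 6
 Tr.leaf)))) 234671 6
 (Tr.node (Tr.node (Tr.node (Tr.node (Tr.node Tr.leaf 234673 6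
 Tr.leaf) 234675 5
 Tr.leaf) 234681 5
 (Tr.node (Tr.node Tr.leaf 234683 6
 Tr.leaf) 234689 5
 Tr.leaf)) 234691 4
 (Tr.node (Tr.node (Tr.node Tr.leaf 234697 6
 Tr.leaf) 234699 6
 Tr.leaf) 234709 5
 (Tr.node Tr.leaf 234711 6
 Tr.leaf))) 234717 6
 (Tr.node (Tr.node (Tr.node (Tr.node Tr.leaf 234719 6
 Tr.leaf) 234725 6
 Tr.leaf) 234727 5
 (Tr.node Tr.leaf 234733 5
 Tr.leaf)) 234735 6
 (Tr.node (Tr.node (Tr.node Tr.leaf 234737 6
 Tr.leaf) 234739 6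
 Tr.leaf) 234745 6
 (Tr.node Tr.leaf 234747 6
 Tr.leaf))))) 234753 4
 (Tr.node (Tr.node (Tr.node (Tr.node (Tr.node (Tr.node Tr.leaf 234755 4
 Tr.leaf) 234761 6
 Tr.leaf) 234763 6
 (Tr.node (Tr.node Tr.leaf 234773 6
 Tr.leaf) 234775 5
 Tr.leaf)) 234781 6
 (Tr.node (Tr.node (Tr.node Tr.leaf 234783 6
 Tr.leaf) 234789 6
 Tr.leaf) 234791 6
 (Tr.node Tr.leaf 234797 6
 Tr.leaf))) 234799 6
 (Tr.node (Tr.node (Tr.node (Tr.node Tr.leaf 234801 6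
 Tr.leaf) 234803 5
 Tr.leaf) 234809 6
 (Tr.node Tr.leaf 234811 6
 Tr.leaf)) 234817 4
 (Tr.node (Tr.node (Tr.node Tr.leaf 234819 6
 Tr.leaf) 234825 6
 Tr.leaf) 234827 5
 (Tr.node Tr.leaf 234837 6
 Tr.leaf)))) 234839 6
 (Tr.node (Tr.node (Tr.node (Tr.node (Tr.node Tr.leaf 234845 6
 Tr.leaf) 234847 6
 Tr.leaf) 234853 6
 (Tr.node (Tr.node Tr.leaf 234855 6
 Tr.leaf) 234861 6
 Tr.leaf)) 234863 6
 (Tr.node (Tr.node (Tr.node Tr.leaf 234865 5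
 Tr.leaf) 234867 5
 Tr.leaf) 234873 6
 (Tr.node Tr.leaf 234875 6
 Tr.leaf))) 234881 6
 (Tr.node (Tr.node (Tr.node (Tr.node Tr.leaf 234883 6
 Tr.leaf) 234889 6
 Tr.leaf) 234891 5
 (Tr.node Tr.leaf 234901 6
 Tr.leaf)) 234903 6
 (Tr.node (Tr.node (Tr.node Tr.leaf 234909 5
 Tr.leaf) 234911 6
 Tr.leaf) 234917 6
 (Tr.node Tr.leaf 234919 6
 Tr.leaf)))))) 234925 6
 (Tr.node (Tr.node (Tr.node (Tr.node (Tr.node (Tr.node (Tr.node Tr.leaf 234927 5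
 Tr.leaf) 234929 6
 Tr.leaf) 234931 6
 (Tr.node (Tr.node Tr.leaf 234937 6
 Tr.leaf) 234939 6
 Tr.leaf)) 234945 6
 (Tr.node (Tr.node (Tr.node Tr.leaf 234947 5
 Tr.leaf) 234953 4
 Tr.leaf) 234955 4
 (Tr.node Tr.leaf 234965 5
 Tr.leaf))) 234967 6
 (Tr.node (Tr.node (Tr.node (Tr.node Tr.leaf 234973 6
 Tr.leaf) 234975 6
 Tr.leaf) 234981 6
 (Tr.node (Tr.node Tr.leaf 234983 6
 Tr.leaf) 234989 5
 Tr.leaf)) 234991 6
 (Tr.node (Tr.node (Tr.node Tr.leaf 234993 6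
 Tr.leaf) 234995 6
 Tr.leaf) 235001 6
 (Tr.node Tr.leaf 235003 6
 Tr.leaf)))) 235521 5
 (Tr.node (Tr.node (Tr.node (Tr.node (Tr.node Tr.leaf 235522 4
 Tr.leaf) 235525 4
 Tr.leaf) 235526 6
 (Tr.node (Tr.node Tr.leaf 235529 5
 Tr.leaf) 235530 4
 Tr.leaf)) 235533 6
 (Tr.node (Tr.node (Tr.node Tr.leaf 235534 5
 Tr.leaf) 235539 6
 Tr.leaf) 235543 5
 (Tr.node Tr.leaf 235547 5
 Tr.leaf))) 235551 6
 (Tr.node (Tr.node (Tr.node (Tr.node Tr.leaf 235555 6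
 Tr.leaf) 235559 6
 Tr.leaf) 235563 6
 (Tr.node Tr.leaf 235567 5
 Tr.leaf)) 235569 6
 (Tr.node (Tr.node (Tr.node Tr.leaf 235570 5
 Tr.leaf) 235573 6
 Tr.leaf) 235574 6
 (Tr.node Tr.leaf 235577 6
 Tr.leaf))))) 235578 5
 (Tr.node (Tr.node (Tr.node (Tr.node (Tr.node (Tr.node Tr.leaf 235581 6
 Tr.leaf) 235582 5
 Tr.leaf) 235585 4
 (Tr.node (Tr.node Tr.leaf 235586 4
 Tr.leaf) 235589 6
 Tr.leaf)) 235590 5
 (Tr.node (Tr.node (Tr.node Tr.leaf 235593 6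
 Tr.leaf) 235594 4
 Tr.leaf) 235597 6
 (Tr.node Tr.leaf 235598 5
 Tr.leaf))) 235603 5
 (Tr.node (Tr.node (Tr.node (Tr.node Tr.leaf 235607 6
 Tr.leaf) 235611 6
 Tr.leaf) 235615 6
 (Tr.node Tr.leaf 235619 6
 Tr.leaf)) 235623 5
 (Tr.node (Tr.node (Tr.node Tr.leaf 235627 6
 Tr.leaf) 235631 6
 Tr.leaf) 235633 6
 (Tr.node Tr.leaf 235634 6
 Tr.leaf)))) 235637 6
 (Tr.node (Tr.node (Tr.node (Tr.node (Tr.node Tr.leaf 235638 6
 Tr.leaf) 235641 6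
 Tr.leaf) 235642 6
 (Tr.node (Tr.node Tr.leaf 235645 6
 Tr.leaf) 235646 5
 Tr.leaf)) 235649 6
 (Tr.node (Tr.node (Tr.node Tr.leaf 235650 6
 Tr.leaf) 235653 6
 Tr.leaf) 235654 6
 (Tr.node Tr.leaf 235657 4
 Tr.leaf))) 235658 5
 (Tr.node (Tr.node (Tr.node (Tr.node Tr.leaf 235661 4
 Tr.leaf) 235662 6
 Tr.leaf) 235667 6
 (Tr.node Tr.leaf 235671 5
 Tr.leaf)) 235675 6
 (Tr.node (Tr.node (Tr.node Tr.leaf 235679 6
 Tr.leaf) 235683 6
 Tr.leaf) 235687 6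
 (Tr.node Tr.leaf 235691 6
 Tr.leaf))))))) 235695 5
 (Tr.node (Tr.node (Tr.node (Tr.node (Tr.node (Tr.node (Tr.node (Tr.node Tr.leaf 235697 6
 Tr.leaf) 235698 6
 Tr.leaf) 235701 6
 (Tr.node (Tr.node Tr.leaf 235702 4
 Tr.leaf) 235705 6
 Tr.leaf)) 235706 5
 (Tr.node (Tr.node (Tr.node Tr.leaf 235709 6
 Tr.leaf) 235710 5
 Tr.leaf) 235713 6
 (Tr.node Tr.leaf 235714 6
 Tr.leaf))) 235717 6
 (Tr.node (Tr.node (Tr.node (Tr.node Tr.leaf 235718 6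
 Tr.leaf) 235721 4
 Tr.leaf) 235722 6
 (Tr.node (Tr.node Tr.leaf 235725 6
 Tr.leaf) 235726 7
 Tr.leaf)) 235731 6
 (Tr.node (Tr.node (Tr.node Tr.leaf 235735 6
 Tr.leaf) 235739 5
 Tr.leaf) 235743 6
 (Tr.node Tr.leaf 235747 6
 Tr.leaf)))) 235751 5
 (Tr.node (Tr.node (Tr.node (Tr.node (Tr.node Tr.leaf 235755 6
 Tr.leaf) 235759 6
 Tr.leaf) 235761 6
 (Tr.node (Tr.node Tr.leaf 235762 5
 Tr.leaf) 235765 5
 Tr.leaf)) 235766 5
 (Tr.node (Tr.node (Tr.node Tr.leaf 235769 5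
 Tr.leaf) 235770 5
 Tr.leaf) 235773 6
 (Tr.node Tr.leaf 235774 6
 Tr.leaf))) 235777 5
 (Tr.node (Tr.node (Tr.node (Tr.node Tr.leaf 235778 6
 Tr.leaf) 235781 6
 Tr.leaf) 235782 5
 (Tr.node Tr.leaf 235785 6
 Tr.leaf)) 235786 6
 (Tr.node (Tr.node (Tr.node Tr.leaf 235789 4
 Tr.leaf) 235790 4
 Tr.leaf) 235795 6
 (Tr.node Tr.leaf 235799 6
 Tr.leaf))))) 235803 6
 (Tr.node (Tr.node (Tr.node (Tr.node (Tr.node (Tr.node Tr.leaf 235807 6
 Tr.leaf) 235811 6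
 Tr.leaf) 235815 6
 (Tr.node (Tr.node Tr.leaf 235819 6
 Tr.leaf) 235823 6
 Tr.leaf)) 235825 5
 (Tr.node (Tr.node (Tr.node Tr.leaf 235826 5
 Tr.leaf) 235829 6
 Tr.leaf) 235830 6
 (Tr.node Tr.leaf 235833 5
 Tr.leaf))) 235834 5
 (Tr.node (Tr.node (Tr.node (Tr.node Tr.leaf 235837 6
 Tr.leaf) 235838 5
 Tr.leaf) 235841 7
 (Tr.node Tr.leaf 235842 7
 Tr.leaf)) 235845 6
 (Tr.node (Tr.node (Tr.node Tr.leaf 235846 5
 Tr.leaf) 235849 4
 Tr.leaf) 235850 6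
 (Tr.node Tr.leaf 235853 4
 Tr.leaf)))) 235854 3
 (Tr.node (Tr.node (Tr.node (Tr.node (Tr.node Tr.leaf 235859 6
 Tr.leaf) 235863 6
 Tr.leaf) 235867 6
 (Tr.node (Tr.node Tr.leaf 235871 6
 Tr.leaf) 235875 6
 Tr.leaf)) 235879 6
 (Tr.node (Tr.node (Tr.node Tr.leaf 235883 5
 Tr.leaf) 235887 6
 Tr.leaf) 235889 6
 (Tr.node Tr.leaf 235890 5
 Tr.leaf))) 235893 6
 (Tr.node (Tr.node (Tr.node (Tr.node Tr.leaf 235894 5
 Tr.leaf) 235897 6
 Tr.leaf) 235898 6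
 (Tr.node Tr.leaf 235901 6
 Tr.leaf)) 235902 5
 (Tr.node (Tr.node (Tr.node Tr.leaf 235905 6
 Tr.leaf) 235906 5
 Tr.leaf) 235909 6
 (Tr.node Tr.leaf 235910 5
 Tr.leaf)))))) 235913 5
 (Tr.node (Tr.node (Tr.node (Tr.node (Tr.node (Tr.node (Tr.node Tr.leaf 235914 4
 Tr.leaf) 235917 7
 Tr.leaf) 235918 5
 (Tr.node (Tr.node Tr.leaf 235923 6
 Tr.leaf) 235927 6
 Tr.leaf)) 235931 5
 (Tr.node (Tr.node (Tr.node Tr.leaf 235935 6
 Tr.leaf) 235939 6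
 Tr.leaf) 235943 6
 (Tr.node Tr.leaf 235947 6
 Tr.leaf))) 235951 5
 (Tr.node (Tr.node (Tr.node (Tr.node Tr.leaf 235953 6
 Tr.leaf) 235954 6
 Tr.leaf) 235957 6
 (Tr.node (Tr.node Tr.leaf 235958 6
 Tr.leaf) 235961 6
 Tr.leaf)) 235962 6
 (Tr.node (Tr.node (Tr.node Tr.leaf 235965 6
 Tr.leaf) 235966 6
 Tr.leaf) 235969 6
 (Tr.node Tr.leaf 235970 5
 Tr.leaf)))) 235973 7
 (Tr.node (Tr.node (Tr.node (Tr.node (Tr.node Tr.leaf 235974 5
 Tr.leaf) 235977 6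
 Tr.leaf) 235978 5
 (Tr.node (Tr.node Tr.leaf 235981 6
 Tr.leaf) 235982 5
 Tr.leaf)) 235987 5
 (Tr.node (Tr.node (Tr.node Tr.leaf 235991 6
 Tr.leaf) 235995 6
 Tr.leaf) 235999 6
 (Tr.node Tr.leaf 236003 6
 Tr.leaf))) 236007 6
 (Tr.node (Tr.node (Tr.node (Tr.node Tr.leaf 236011 6
 Tr.leaf) 236015 6
 Tr.leaf) 236017 6
 (Tr.node Tr.leaf 236018 6
 Tr.leaf)) 236021 6
 (Tr.node (Tr.node (Tr.node Tr.leaf 236022 6
 Tr.leaf) 236025 6
 Tr.leaf) 236026 6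
 (Tr.node Tr.leaf 236029 6
 Tr.leaf))))) 236030 6
 (Tr.node (Tr.node (Tr.node (Tr.node (Tr.node (Tr.node Tr.leaf 236561 6
 Tr.leaf) 236563 6
 Tr.leaf) 236565 6
 (Tr.node (Tr.node Tr.leaf 236567 6
 Tr.leaf) 236569 6
 Tr.leaf)) 236571 6
 (Tr.node (Tr.node (Tr.node Tr.leaf 236573 6
 Tr.leaf) 236575 6
 Tr.leaf) 236577 6
 (Tr.node Tr.leaf 236579 6
 Tr.leaf))) 236581 6
 (Tr.node (Tr.node (Tr.node (Tr.node Tr.leaf 236583 6
 Tr.leaf) 236585 6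
 Tr.leaf) 236587 6
 (Tr.node Tr.leaf 236589 6
 Tr.leaf)) 236591 6
 (Tr.node (Tr.node (Tr.node Tr.leaf 236625 6
 Tr.leaf) 236627 6
 Tr.leaf) 236629 6
 (Tr.node Tr.leaf 236631 6
 Tr.leaf)))) 236633 5
 (Tr.node (Tr.node (Tr.node (Tr.node (Tr.node Tr.leaf 236635 5
 Tr.leaf) 236637 6
 Tr.leaf) 236639 6
 (Tr.node (Tr.node Tr.leaf 236641 5
 Tr.leaf) 236643 6
 Tr.leaf)) 236645 6
 (Tr.node (Tr.node (Tr.node Tr.leaf 236647 6
 Tr.leaf) 236649 6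
 Tr.leaf) 236651 6
 (Tr.node Tr.leaf 236653 5
 Tr.leaf))) 236655 6
 (Tr.node (Tr.node (Tr.node (Tr.node Tr.leaf 236689 5
 Tr.leaf) 236691 6
 Tr.leaf) 236693 5
 (Tr.node Tr.leaf 236695 6
 Tr.leaf)) 236697 6
 (Tr.node (Tr.node (Tr.node Tr.leaf 236699 6
 Tr.leaf) 236701 6
 Tr.leaf) 236703 6
 (Tr.node Tr.leaf 236705 6
 Tr.leaf)))))))))

/-- A subtree. -/
def tr2_s58 : Tr := (Tr.node (Tr.node (Tr.node (Tr.node (Tr.node (Tr.node (Tr.node (Tr.node (Tr.node (Tr.node Tr.leaf 236709 6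
 Tr.leaf) 236711 6
 Tr.leaf) 236713 6
 (Tr.node (Tr.node Tr.leaf 236715 6
 Tr.leaf) 236717 6
 Tr.leaf)) 236719 6
 (Tr.node (Tr.node (Tr.node Tr.leaf 236753 6
 Tr.leaf) 236755 6
 Tr.leaf) 236757 7
 (Tr.node Tr.leaf 236759 6
 Tr.leaf))) 236761 6
 (Tr.node (Tr.node (Tr.node (Tr.node Tr.leaf 236763 6
 Tr.leaf) 236765 6
 Tr.leaf) 236767 6
 (Tr.node (Tr.node Tr.leaf 236769 6
 Tr.leaf) 236771 6
 Tr.leaf)) 236773 6
 (Tr.node (Tr.node (Tr.node Tr.leaf 236775 6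
 Tr.leaf) 236777 6
 Tr.leaf) 236779 6
 (Tr.node Tr.leaf 236781 6
 Tr.leaf)))) 236783 5
 (Tr.node (Tr.node (Tr.node (Tr.node (Tr.node Tr.leaf 236817 6
 Tr.leaf) 236819 6
 Tr.leaf) 236821 5
 (Tr.node (Tr.node Tr.leaf 236823 6
 Tr.leaf) 236825 6
 Tr.leaf)) 236827 6
 (Tr.node (Tr.node (Tr.node Tr.leaf 236829 6
 Tr.leaf) 236831 6
 Tr.leaf) 236833 6
 (Tr.node Tr.leaf 236835 6
 Tr.leaf))) 236837 6
 (Tr.node (Tr.node (Tr.node (Tr.node Tr.leaf 236839 6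
 Tr.leaf) 236841 6
 Tr.leaf) 236843 6
 (Tr.node Tr.leaf 236845 6
 Tr.leaf)) 236847 7
 (Tr.node (Tr.node (Tr.node Tr.leaf 236881 7
 Tr.leaf) 236883 6
 Tr.leaf) 236885 6
 (Tr.node Tr.leaf 236887 6
 Tr.leaf))))) 236889 6
 (Tr.node (Tr.node (Tr.node (Tr.node (Tr.node (Tr.node Tr.leaf 236891 6
 Tr.leaf) 236893 6
 Tr.leaf) 236895 6
 (Tr.node (Tr.node Tr.leaf 236897 6
 Tr.leaf) 236899 6
 Tr.leaf)) 236901 6
 (Tr.node (Tr.node (Tr.node Tr.leaf 236903 6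
 Tr.leaf) 236905 6
 Tr.leaf) 236907 6
 (Tr.node Tr.leaf 236909 6
 Tr.leaf))) 236911 6
 (Tr.node (Tr.node (Tr.node (Tr.node Tr.leaf 236945 6
 Tr.leaf) 236947 6
 Tr.leaf) 236949 6
 (Tr.node (Tr.node Tr.leaf 236951 6
 Tr.leaf) 236953 6
 Tr.leaf)) 236955 6
 (Tr.node (Tr.node (Tr.node Tr.leaf 236957 6
 Tr.leaf) 236959 5
 Tr.leaf) 236961 6
 (Tr.node Tr.leaf 236963 6
 Tr.leaf)))) 236965 6
 (Tr.node (Tr.node (Tr.node (Tr.node (Tr.node Tr.leaf 236967 5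
 Tr.leaf) 236969 6
 Tr.leaf) 236971 6
 (Tr.node (Tr.node Tr.leaf 236973 6
 Tr.leaf) 236975 6
 Tr.leaf)) 237009 6
 (Tr.node (Tr.node (Tr.node Tr.leaf 237011 6
 Tr.leaf) 237013 6
 Tr.leaf) 237015 5
 (Tr.node Tr.leaf 237017 6
 Tr.leaf))) 237019 6
 (Tr.node (Tr.node (Tr.node (Tr.node Tr.leaf 237021 6
 Tr.leaf) 237023 6
 Tr.leaf) 237025 6
 (Tr.node Tr.leaf 237027 6
 Tr.leaf)) 237029 6
 (Tr.node (Tr.node (Tr.node Tr.leaf 237031 6
 Tr.leaf) 237033 6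
 Tr.leaf) 237035 6
 (Tr.node Tr.leaf 237037 6
 Tr.leaf)))))) 237039 6
 (Tr.node (Tr.node (Tr.node (Tr.node (Tr.node (Tr.node (Tr.node Tr.leaf 237571 6
 Tr.leaf) 237573 6
 Tr.leaf) 237574 5
 (Tr.node (Tr.node Tr.leaf 237577 6
 Tr.leaf) 237578 5
 Tr.leaf)) 237580 5
 (Tr.node (Tr.node (Tr.node Tr.leaf 237583 7
 Tr.leaf) 237587 5
 Tr.leaf) 237589 6
 (Tr.node Tr.leaf 237590 4
 Tr.leaf))) 237593 6
 (Tr.node (Tr.node (Tr.node (Tr.node Tr.leaf 237594 5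
 Tr.leaf) 237596 6
 Tr.leaf) 237599 6
 (Tr.node (Tr.node Tr.leaf 237601 6
 Tr.leaf) 237602 6
 Tr.leaf)) 237604 6
 (Tr.node (Tr.node (Tr.node Tr.leaf 237607 5
 Tr.leaf) 237608 6
 Tr.leaf) 237611 6
 (Tr.node Tr.leaf 237613 5
 Tr.leaf)))) 237614 5
 (Tr.node (Tr.node (Tr.node (Tr.node (Tr.node Tr.leaf 237617 4
 Tr.leaf) 237618 7
 Tr.leaf) 237620 6
 (Tr.node (Tr.node Tr.leaf 237623 5
 Tr.leaf) 237624 6
 Tr.leaf)) 237627 6
 (Tr.node (Tr.node (Tr.node Tr.leaf 237629 6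
 Tr.leaf) 237630 5
 Tr.leaf) 237635 5
 (Tr.node Tr.leaf 237637 4
 Tr.leaf))) 237638 5
 (Tr.node (Tr.node (Tr.node (Tr.node Tr.leaf 237641 6
 Tr.leaf) 237642 5
 Tr.leaf) 237644 5
 (Tr.node Tr.leaf 237647 5
 Tr.leaf)) 237651 6
 (Tr.node (Tr.node (Tr.node Tr.leaf 237653 6
 Tr.leaf) 237654 6
 Tr.leaf) 237657 5
 (Tr.node Tr.leaf 237658 6
 Tr.leaf))))) 237660 5
 (Tr.node (Tr.node (Tr.node (Tr.node (Tr.node (Tr.node Tr.leaf 237663 6
 Tr.leaf) 237665 6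
 Tr.leaf) 237666 4
 (Tr.node (Tr.node Tr.leaf 237668 6
 Tr.leaf) 237671 6
 Tr.leaf)) 237672 6
 (Tr.node (Tr.node (Tr.node Tr.leaf 237675 6
 Tr.leaf) 237677 6
 Tr.leaf) 237678 6
 (Tr.node Tr.leaf 237681 6
 Tr.leaf))) 237682 6
 (Tr.node (Tr.node (Tr.node (Tr.node Tr.leaf 237684 6
 Tr.leaf) 237687 6
 Tr.leaf) 237688 6
 (Tr.node Tr.leaf 237691 6
 Tr.leaf)) 237693 6
 (Tr.node (Tr.node (Tr.node Tr.leaf 237694 5
 Tr.leaf) 237699 6
 Tr.leaf) 237701 6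
 (Tr.node Tr.leaf 237702 6
 Tr.leaf)))) 237705 6
 (Tr.node (Tr.node (Tr.node (Tr.node (Tr.node Tr.leaf 237706 6
 Tr.leaf) 237708 3
 Tr.leaf) 237711 6
 (Tr.node (Tr.node Tr.leaf 237715 6
 Tr.leaf) 237717 6
 Tr.leaf)) 237718 4
 (Tr.node (Tr.node (Tr.node Tr.leaf 237721 6
 Tr.leaf) 237722 4
 Tr.leaf) 237724 6
 (Tr.node Tr.leaf 237727 6
 Tr.leaf))) 237729 6
 (Tr.node (Tr.node (Tr.node (Tr.node Tr.leaf 237730 6
 Tr.leaf) 237732 6
 Tr.leaf) 237735 6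
 (Tr.node Tr.leaf 237736 6
 Tr.leaf)) 237739 6
 (Tr.node (Tr.node (Tr.node Tr.leaf 237741 5
 Tr.leaf) 237742 6
 Tr.leaf) 237745 6
 (Tr.node Tr.leaf 237746 6
 Tr.leaf))))))) 237748 6
 (Tr.node (Tr.node (Tr.node (Tr.node (Tr.node (Tr.node (Tr.node (Tr.node Tr.leaf 237751 6
 Tr.leaf) 237752 6
 Tr.leaf) 237755 6
 (Tr.node (Tr.node Tr.leaf 237757 5
 Tr.leaf) 237758 6
 Tr.leaf)) 237763 6
 (Tr.node (Tr.node (Tr.node Tr.leaf 237765 6
 Tr.leaf) 237766 6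
 Tr.leaf) 237769 6
 (Tr.node Tr.leaf 237770 6
 Tr.leaf))) 237772 6
 (Tr.node (Tr.node (Tr.node (Tr.node Tr.leaf 237775 6
 Tr.leaf) 237779 6
 Tr.leaf) 237781 5
 (Tr.node (Tr.node Tr.leaf 237782 6
 Tr.leaf) 237785 7
 Tr.leaf)) 237786 6
 (Tr.node (Tr.node (Tr.node Tr.leaf 237788 6
 Tr.leaf) 237791 5
 Tr.leaf) 237793 7
 (Tr.node Tr.leaf 237794 5
 Tr.leaf)))) 237796 5
 (Tr.node (Tr.node (Tr.node (Tr.node (Tr.node Tr.leaf 237799 6
 Tr.leaf) 237800 6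
 Tr.leaf) 237803 6
 (Tr.node (Tr.node Tr.leaf 237805 6
 Tr.leaf) 237806 5
 Tr.leaf)) 237809 6
 (Tr.node (Tr.node (Tr.node Tr.leaf 237810 6
 Tr.leaf) 237812 4
 Tr.leaf) 237815 6
 (Tr.node Tr.leaf 237816 6
 Tr.leaf))) 237819 6
 (Tr.node (Tr.node (Tr.node (Tr.node Tr.leaf 237821 6
 Tr.leaf) 237822 6
 Tr.leaf) 237827 6
 (Tr.node Tr.leaf 237829 6
 Tr.leaf)) 237830 6
 (Tr.node (Tr.node (Tr.node Tr.leaf 237833 6
 Tr.leaf) 237834 6
 Tr.leaf) 237836 5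
 (Tr.node Tr.leaf 237839 6
 Tr.leaf))))) 237843 6
 (Tr.node (Tr.node (Tr.node (Tr.node (Tr.node (Tr.node Tr.leaf 237845 5
 Tr.leaf) 237846 6
 Tr.leaf) 237849 6
 (Tr.node (Tr.node Tr.leaf 237850 5
 Tr.leaf) 237852 6
 Tr.leaf)) 237855 5
 (Tr.node (Tr.node (Tr.node Tr.leaf 237857 5
 Tr.leaf) 237858 4
 Tr.leaf) 237860 5
 (Tr.node Tr.leaf 237863 5
 Tr.leaf))) 237864 6
 (Tr.node (Tr.node (Tr.node (Tr.node Tr.leaf 237867 5
 Tr.leaf) 237869 6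
 Tr.leaf) 237870 5
 (Tr.node Tr.leaf 237873 6
 Tr.leaf)) 237874 6
 (Tr.node (Tr.node (Tr.node Tr.leaf 237876 6
 Tr.leaf) 237879 6
 Tr.leaf) 237880 6
 (Tr.node Tr.leaf 237883 5
 Tr.leaf)))) 237885 5
 (Tr.node (Tr.node (Tr.node (Tr.node (Tr.node Tr.leaf 237886 6
 Tr.leaf) 237891 6
 Tr.leaf) 237893 6
 (Tr.node (Tr.node Tr.leaf 237894 5
 Tr.leaf) 237897 6
 Tr.leaf)) 237898 5
 (Tr.node (Tr.node (Tr.node Tr.leaf 237900 6
 Tr.leaf) 237903 6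
 Tr.leaf) 237907 4
 (Tr.node Tr.leaf 237909 6
 Tr.leaf))) 237910 6
 (Tr.node (Tr.node (Tr.node (Tr.node Tr.leaf 237913 5
 Tr.leaf) 237914 6
 Tr.leaf) 237916 4
 (Tr.node Tr.leaf 237919 5
 Tr.leaf)) 237921 4
 (Tr.node (Tr.node (Tr.node Tr.leaf 237922 5
 Tr.leaf) 237924 7
 Tr.leaf) 237927 6
 (Tr.node Tr.leaf 237928 6
 Tr.leaf)))))) 237931 5
 (Tr.node (Tr.node (Tr.node (Tr.node (Tr.node (Tr.node (Tr.node Tr.leaf 237933 6
 Tr.leaf) 237934 5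
 Tr.leaf) 237937 5
 (Tr.node (Tr.node Tr.leaf 237938 5
 Tr.leaf) 237940 6
 Tr.leaf)) 237943 6
 (Tr.node (Tr.node (Tr.node Tr.leaf 237944 6
 Tr.leaf) 237947 6
 Tr.leaf) 237949 6
 (Tr.node Tr.leaf 237950 6
 Tr.leaf))) 237955 4
 (Tr.node (Tr.node (Tr.node (Tr.node Tr.leaf 237957 6
 Tr.leaf) 237958 6
 Tr.leaf) 237961 4
 (Tr.node (Tr.node Tr.leaf 237962 6
 Tr.leaf) 237964 4
 Tr.leaf)) 237967 6
 (Tr.node (Tr.node (Tr.node Tr.leaf 237971 6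
 Tr.leaf) 237973 6
 Tr.leaf) 237974 5
 (Tr.node Tr.leaf 237977 5
 Tr.leaf)))) 237978 5
 (Tr.node (Tr.node (Tr.node (Tr.node (Tr.node Tr.leaf 237980 5
 Tr.leaf) 237983 6
 Tr.leaf) 237985 6
 (Tr.node (Tr.node Tr.leaf 237986 4
 Tr.leaf) 237988 5
 Tr.leaf)) 237991 6
 (Tr.node (Tr.node (Tr.node Tr.leaf 237992 6
 Tr.leaf) 237995 6
 Tr.leaf) 237997 5
 (Tr.node Tr.leaf 237998 6
 Tr.leaf))) 238001 5
 (Tr.node (Tr.node (Tr.node (Tr.node Tr.leaf 238002 6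
 Tr.leaf) 238004 6
 Tr.leaf) 238007 5
 (Tr.node Tr.leaf 238008 6
 Tr.leaf)) 238011 6
 (Tr.node (Tr.node (Tr.node Tr.leaf 238013 6
 Tr.leaf) 238014 6
 Tr.leaf) 238019 5
 (Tr.node Tr.leaf 238021 6
 Tr.leaf))))) 238022 4
 (Tr.node (Tr.node (Tr.node (Tr.node (Tr.node (Tr.node Tr.leaf 238025 4
 Tr.leaf) 238026 5
 Tr.leaf) 238028 6
 (Tr.node (Tr.node Tr.leaf 238031 6
 Tr.leaf) 238035 5
 Tr.leaf)) 238037 5
 (Tr.node (Tr.node (Tr.node Tr.leaf 238038 5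
 Tr.leaf) 238041 6
 Tr.leaf) 238042 5
 (Tr.node Tr.leaf 238044 5
 Tr.leaf))) 238047 6
 (Tr.node (Tr.node (Tr.node (Tr.node Tr.leaf 238049 6
 Tr.leaf) 238050 6
 Tr.leaf) 238052 5
 (Tr.node Tr.leaf 238055 6
 Tr.leaf)) 238056 6
 (Tr.node (Tr.node (Tr.node Tr.leaf 238059 6
 Tr.leaf) 238061 5
 Tr.leaf) 238062 5
 (Tr.node Tr.leaf 238065 5
 Tr.leaf)))) 238066 4
 (Tr.node (Tr.node (Tr.node (Tr.node (Tr.node Tr.leaf 238068 4
 Tr.leaf) 238071 5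
 Tr.leaf) 238072 6
 (Tr.node (Tr.node Tr.leaf 238075 6
 Tr.leaf) 238077 6
 Tr.leaf)) 238078 6
 (Tr.node (Tr.node (Tr.node Tr.leaf 238593 6
 Tr.leaf) 238595 4
 Tr.leaf) 238605 6
 (Tr.node Tr.leaf 238607 5
 Tr.leaf))) 238609 4
 (Tr.node (Tr.node (Tr.node (Tr.node Tr.leaf 238611 6
 Tr.leaf) 238621 6
 Tr.leaf) 238623 6
 (Tr.node Tr.leaf 238629 6
 Tr.leaf)) 238631 6
 (Tr.node (Tr.node (Tr.node Tr.leaf 238633 6
 Tr.leaf) 238635 6
 Tr.leaf) 238645 6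
 (Tr.node Tr.leaf 238647 6
 Tr.leaf)))))))) 238649 6
 (Tr.node (Tr.node (Tr.node (Tr.node (Tr.node (Tr.node (Tr.node (Tr.node (Tr.node Tr.leaf 238651 6
 Tr.leaf) 238657 6
 Tr.leaf) 238659 4
 (Tr.node (Tr.node Tr.leaf 238669 5
 Tr.leaf) 238671 6
 Tr.leaf)) 238673 6
 (Tr.node (Tr.node (Tr.node Tr.leaf 238675 5
 Tr.leaf) 238685 6
 Tr.leaf) 238687 6
 (Tr.node Tr.leaf 238693 6
 Tr.leaf))) 238695 6
 (Tr.node (Tr.node (Tr.node (Tr.node Tr.leaf 238697 5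
 Tr.leaf) 238699 6
 Tr.leaf) 238709 6
 (Tr.node (Tr.node Tr.leaf 238711 6
 Tr.leaf) 238713 6
 Tr.leaf)) 238715 6
 (Tr.node (Tr.node (Tr.node Tr.leaf 238721 5
 Tr.leaf) 238723 4
 Tr.leaf) 238733 6
 (Tr.node Tr.leaf 238735 5
 Tr.leaf)))) 238737 5
 (Tr.node (Tr.node (Tr.node (Tr.node (Tr.node Tr.leaf 238739 6
 Tr.leaf) 238749 6
 Tr.leaf) 238751 6
 (Tr.node (Tr.node Tr.leaf 238757 5
 Tr.leaf) 238759 5
 Tr.leaf)) 238761 6
 (Tr.node (Tr.node (Tr.node Tr.leaf 238763 5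
 Tr.leaf) 238773 6
 Tr.leaf) 238775 6
 (Tr.node Tr.leaf 238777 6
 Tr.leaf))) 238779 6
 (Tr.node (Tr.node (Tr.node (Tr.node Tr.leaf 238785 6
 Tr.leaf) 238787 7
 Tr.leaf) 238797 7
 (Tr.node Tr.leaf 238799 6
 Tr.leaf)) 238801 6
 (Tr.node (Tr.node (Tr.node Tr.leaf 238803 4
 Tr.leaf) 238813 6
 Tr.leaf) 238815 7
 (Tr.node Tr.leaf 238821 6
 Tr.leaf))))) 238823 6
 (Tr.node (Tr.node (Tr.node (Tr.node (Tr.node (Tr.node Tr.leaf 238825 6
 Tr.leaf) 238827 5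
 Tr.leaf) 238837 6
 (Tr.node (Tr.node Tr.leaf 238839 6
 Tr.leaf) 238841 6
 Tr.leaf)) 238843 6
 (Tr.node (Tr.node (Tr.node Tr.leaf 238849 6
 Tr.leaf) 238851 6
 Tr.leaf) 238861 6
 (Tr.node Tr.leaf 238863 5
 Tr.leaf))) 238865 6
 (Tr.node (Tr.node (Tr.node (Tr.node Tr.leaf 238867 4
 Tr.leaf) 238877 6
 Tr.leaf) 238879 5
 (Tr.node Tr.leaf 238885 6
 Tr.leaf)) 238887 5
 (Tr.node (Tr.node (Tr.node Tr.leaf 238889 5
 Tr.leaf) 238891 6
 Tr.leaf) 238901 5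
 (Tr.node Tr.leaf 238903 5
 Tr.leaf)))) 238905 6
 (Tr.node (Tr.node (Tr.node (Tr.node (Tr.node Tr.leaf 238907 5
 Tr.leaf) 238913 4
 Tr.leaf) 238915 6
 (Tr.node (Tr.node Tr.leaf 238925 5
 Tr.leaf) 238927 6
 Tr.leaf)) 238929 6
 (Tr.node (Tr.node (Tr.node Tr.leaf 238931 5
 Tr.leaf) 238941 6
 Tr.leaf) 238943 6
 (Tr.node Tr.leaf 238949 5
 Tr.leaf))) 238951 6
 (Tr.node (Tr.node (Tr.node (Tr.node Tr.leaf 238953 6
 Tr.leaf) 238955 5
 Tr.leaf) 238965 6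
 (Tr.node Tr.leaf 238967 6
 Tr.leaf)) 238969 6
 (Tr.node (Tr.node (Tr.node Tr.leaf 238971 5
 Tr.leaf) 238977 6
 Tr.leaf) 238979 6
 (Tr.node Tr.leaf 238989 6
 Tr.leaf)))))) 238991 5
 (Tr.node (Tr.node (Tr.node (Tr.node (Tr.node (Tr.node (Tr.node Tr.leaf 238993 4
 Tr.leaf) 238995 4
 Tr.leaf) 239005 6
 (Tr.node (Tr.node Tr.leaf 239007 5
 Tr.leaf) 239013 5
 Tr.leaf)) 239015 6
 (Tr.node (Tr.node (Tr.node Tr.leaf 239017 5
 Tr.leaf) 239019 5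
 Tr.leaf) 239029 6
 (Tr.node Tr.leaf 239031 6
 Tr.leaf))) 239033 6
 (Tr.node (Tr.node (Tr.node (Tr.node Tr.leaf 239035 6
 Tr.leaf) 239041 4
 Tr.leaf) 239043 6
 (Tr.node (Tr.node Tr.leaf 239053 5
 Tr.leaf) 239055 6
 Tr.leaf)) 239057 6
 (Tr.node (Tr.node (Tr.node Tr.leaf 239059 6
 Tr.leaf) 239069 5
 Tr.leaf) 239071 6
 (Tr.node Tr.leaf 239077 6
 Tr.leaf)))) 239079 5
 (Tr.node (Tr.node (Tr.node (Tr.node (Tr.node Tr.leaf 239081 5
 Tr.leaf) 239083 6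
 Tr.leaf) 239093 6
 (Tr.node (Tr.node Tr.leaf 239095 6
 Tr.leaf) 239097 6
 Tr.leaf)) 239099 6
 (Tr.node (Tr.node (Tr.node Tr.leaf 239617 4
 Tr.leaf) 239618 5
 Tr.leaf) 239621 5
 (Tr.node Tr.leaf 239622 6
 Tr.leaf))) 239627 6
 (Tr.node (Tr.node (Tr.node (Tr.node Tr.leaf 239631 6
 Tr.leaf) 239633 5
 Tr.leaf) 239634 4
 (Tr.node Tr.leaf 239637 6
 Tr.leaf)) 239638 5
 (Tr.node (Tr.node (Tr.node Tr.leaf 239643 6
 Tr.leaf) 239647 6
 Tr.leaf) 239651 6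
 (Tr.node Tr.leaf 239655 6
 Tr.leaf))))) 239657 6
 (Tr.node (Tr.node (Tr.node (Tr.node (Tr.node (Tr.node Tr.leaf 239658 5
 Tr.leaf) 239661 6
 Tr.leaf) 239662 5
 (Tr.node (Tr.node Tr.leaf 239667 5
 Tr.leaf) 239671 6
 Tr.leaf)) 239673 6
 (Tr.node (Tr.node (Tr.node Tr.leaf 239674 6
 Tr.leaf) 239677 6
 Tr.leaf) 239678 5
 (Tr.node Tr.leaf 239681 6
 Tr.leaf))) 239682 6
 (Tr.node (Tr.node (Tr.node (Tr.node Tr.leaf 239685 6
 Tr.leaf) 239686 5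
 Tr.leaf) 239691 6
 (Tr.node Tr.leaf 239695 6
 Tr.leaf)) 239697 6
 (Tr.node (Tr.node (Tr.node Tr.leaf 239698 6
 Tr.leaf) 239701 6
 Tr.leaf) 239702 6
 (Tr.node Tr.leaf 239707 6
 Tr.leaf)))) 239711 6
 (Tr.node (Tr.node (Tr.node (Tr.node (Tr.node Tr.leaf 239715 6
 Tr.leaf) 239719 6
 Tr.leaf) 239721 6
 (Tr.node (Tr.node Tr.leaf 239722 6
 Tr.leaf) 239725 5
 Tr.leaf)) 239726 7
 (Tr.node (Tr.node (Tr.node Tr.leaf 239731 6
 Tr.leaf) 239735 5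
 Tr.leaf) 239737 6
 (Tr.node Tr.leaf 239738 5
 Tr.leaf))) 239741 6
 (Tr.node (Tr.node (Tr.node (Tr.node Tr.leaf 239742 6
 Tr.leaf) 239745 4
 Tr.leaf) 239746 5
 (Tr.node Tr.leaf 239749 6
 Tr.leaf)) 239750 6
 (Tr.node (Tr.node (Tr.node Tr.leaf 239755 6
 Tr.leaf) 239759 6
 Tr.leaf) 239761 6
 (Tr.node Tr.leaf 239762 6
 Tr.leaf))))))) 239765 6
 (Tr.node (Tr.node (Tr.node (Tr.node (Tr.node (Tr.node (Tr.node (Tr.node Tr.leaf 239766 3
 Tr.leaf) 239771 6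
 Tr.leaf) 239775 6
 (Tr.node (Tr.node Tr.leaf 239779 5
 Tr.leaf) 239783 6
 Tr.leaf)) 239785 6
 (Tr.node (Tr.node (Tr.node Tr.leaf 239786 6
 Tr.leaf) 239789 6
 Tr.leaf) 239790 6
 (Tr.node Tr.leaf 239795 6
 Tr.leaf))) 239799 6
 (Tr.node (Tr.node (Tr.node (Tr.node Tr.leaf 239801 5
 Tr.leaf) 239802 6
 Tr.leaf) 239805 6
 (Tr.node (Tr.node Tr.leaf 239806 5
 Tr.leaf) 239809 6
 Tr.leaf)) 239810 6
 (Tr.node (Tr.node (Tr.node Tr.leaf 239813 6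
 Tr.leaf) 239814 6
 Tr.leaf) 239819 6
 (Tr.node Tr.leaf 239823 6
 Tr.leaf)))) 239825 6
 (Tr.node (Tr.node (Tr.node (Tr.node (Tr.node Tr.leaf 239826 6
 Tr.leaf) 239829 6
 Tr.leaf) 239830 6
 (Tr.node (Tr.node Tr.leaf 239835 5
 Tr.leaf) 239839 6
 Tr.leaf)) 239843 5
 (Tr.node (Tr.node (Tr.node Tr.leaf 239847 6
 Tr.leaf) 239849 6
 Tr.leaf) 239850 4
 (Tr.node Tr.leaf 239853 6
 Tr.leaf))) 239854 6
 (Tr.node (Tr.node (Tr.node (Tr.node Tr.leaf 239859 6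
 Tr.leaf) 239863 5
 Tr.leaf) 239865 5
 (Tr.node Tr.leaf 239866 5
 Tr.leaf)) 239869 6
 (Tr.node (Tr.node (Tr.node Tr.leaf 239870 6
 Tr.leaf) 239873 5
 Tr.leaf) 239874 6
 (Tr.node Tr.leaf 239877 6
 Tr.leaf))))) 239878 6
 (Tr.node (Tr.node (Tr.node (Tr.node (Tr.node (Tr.node Tr.leaf 239883 6
 Tr.leaf) 239887 5
 Tr.leaf) 239889 6
 (Tr.node (Tr.node Tr.leaf 239890 6
 Tr.leaf) 239893 4
 Tr.leaf)) 239894 6
 (Tr.node (Tr.node (Tr.node Tr.leaf 239899 6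
 Tr.leaf) 239903 5
 Tr.leaf) 239907 6
 (Tr.node Tr.leaf 239911 6
 Tr.leaf))) 239913 6
 (Tr.node (Tr.node (Tr.node (Tr.node Tr.leaf 239914 5
 Tr.leaf) 239917 6
 Tr.leaf) 239918 5
 (Tr.node Tr.leaf 239923 6
 Tr.leaf)) 239927 6
 (Tr.node (Tr.node (Tr.node Tr.leaf 239929 6
 Tr.leaf) 239930 6
 Tr.leaf) 239933 5
 (Tr.node Tr.leaf 239934 6
 Tr.leaf)))) 239937 4
 (Tr.node (Tr.node (Tr.node (Tr.node (Tr.node Tr.leaf 239938 3
 Tr.leaf) 239941 5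
 Tr.leaf) 239942 5
 (Tr.node (Tr.node Tr.leaf 239947 6
 Tr.leaf) 239951 6
 Tr.leaf)) 239953 4
 (Tr.node (Tr.node (Tr.node Tr.leaf 239954 6
 Tr.leaf) 239957 7
 Tr.leaf) 239958 6
 (Tr.node Tr.leaf 239963 5
 Tr.leaf))) 239967 6
 (Tr.node (Tr.node (Tr.node (Tr.node Tr.leaf 239971 5
 Tr.leaf) 239975 5
 Tr.leaf) 239977 6
 (Tr.node Tr.leaf 239978 5
 Tr.leaf)) 239981 6
 (Tr.node (Tr.node (Tr.node Tr.leaf 239982 6
 Tr.leaf) 239987 5
 Tr.leaf) 239991 6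
 (Tr.node Tr.leaf 239993 6
 Tr.leaf)))))) 239994 5
 (Tr.node (Tr.node (Tr.node (Tr.node (Tr.node (Tr.node (Tr.node Tr.leaf 239997 6
 Tr.leaf) 239998 6
 Tr.leaf) 240001 6
 (Tr.node (Tr.node Tr.leaf 240002 6
 Tr.leaf) 240005 4
 Tr.leaf)) 240006 6
 (Tr.node (Tr.node (Tr.node Tr.leaf 240011 6
 Tr.leaf) 240015 5
 Tr.leaf) 240017 6
 (Tr.node Tr.leaf 240018 5
 Tr.leaf))) 240021 4
 (Tr.node (Tr.node (Tr.node (Tr.node Tr.leaf 240022 6
 Tr.leaf) 240027 6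
 Tr.leaf) 240031 6
 (Tr.node (Tr.node Tr.leaf 240035 6
 Tr.leaf) 240039 6
 Tr.leaf)) 240041 5
 (Tr.node (Tr.node (Tr.node Tr.leaf 240042 5
 Tr.leaf) 240045 6
 Tr.leaf) 240046 5
 (Tr.node Tr.leaf 240051 6
 Tr.leaf)))) 240055 6
 (Tr.node (Tr.node (Tr.node (Tr.node (Tr.node Tr.leaf 240057 6
 Tr.leaf) 240058 5
 Tr.leaf) 240061 6
 (Tr.node (Tr.node Tr.leaf 240062 5
 Tr.leaf) 240065 5
 Tr.leaf)) 240066 4
 (Tr.node (Tr.node (Tr.node Tr.leaf 240069 6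
 Tr.leaf) 240070 5
 Tr.leaf) 240075 6
 (Tr.node Tr.leaf 240079 6
 Tr.leaf))) 240081 6
 (Tr.node (Tr.node (Tr.node (Tr.node Tr.leaf 240082 6
 Tr.leaf) 240085 6
 Tr.leaf) 240086 5
 (Tr.node Tr.leaf 240091 6
 Tr.leaf)) 240095 6
 (Tr.node (Tr.node (Tr.node Tr.leaf 240099 6
 Tr.leaf) 240103 6
 Tr.leaf) 240105 5
 (Tr.node Tr.leaf 240106 5
 Tr.leaf))))) 240109 6
 (Tr.node (Tr.node (Tr.node (Tr.node (Tr.node (Tr.node Tr.leaf 240110 6
 Tr.leaf) 240115 6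
 Tr.leaf) 240119 5
 (Tr.node (Tr.node Tr.leaf 240121 6
 Tr.leaf) 240122 6
 Tr.leaf)) 240125 6
 (Tr.node (Tr.node (Tr.node Tr.leaf 240126 6
 Tr.leaf) 240649 5
 Tr.leaf) 240651 6
 (Tr.node Tr.leaf 240653 5
 Tr.leaf))) 240655 5
 (Tr.node (Tr.node (Tr.node (Tr.node Tr.leaf 240665 6
 Tr.leaf) 240667 6
 Tr.leaf) 240669 6
 (Tr.node Tr.leaf 240671 6
 Tr.leaf)) 240673 6
 (Tr.node (Tr.node (Tr.node Tr.leaf 240675 6
 Tr.leaf) 240677 6
 Tr.leaf) 240679 6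
 (Tr.node Tr.leaf 240689 5
 Tr.leaf)))) 240691 6
 (Tr.node (Tr.node (Tr.node (Tr.node (Tr.node Tr.leaf 240693 6
 Tr.leaf) 240695 4
 Tr.leaf) 240713 5
 (Tr.node (Tr.node Tr.leaf 240715 5
 Tr.leaf) 240717 6
 Tr.leaf)) 240719 6
 (Tr.node (Tr.node (Tr.node Tr.leaf 240729 6
 Tr.leaf) 240731 5
 Tr.leaf) 240733 5
 (Tr.node Tr.leaf 240735 6
 Tr.leaf))) 240737 6
 (Tr.node (Tr.node (Tr.node (Tr.node Tr.leaf 240739 6
 Tr.leaf) 240741 6
 Tr.leaf) 240743 6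
 (Tr.node Tr.leaf 240753 6
 Tr.leaf)) 240755 4
 (Tr.node (Tr.node (Tr.node Tr.leaf 240757 6
 Tr.leaf) 240759 5
 Tr.leaf) 240777 6
 (Tr.node Tr.leaf 240779 6
 Tr.leaf)))))))))

/-- A subtree. -/
def tr2_s59 : Tr := (Tr.node (Tr.node (Tr.node (Tr.node (Tr.node (Tr.node (Tr.node (Tr.node (Tr.node (Tr.node Tr.leaf 240783 6
 Tr.leaf) 240793 5
 Tr.leaf) 240795 6
 (Tr.node (Tr.node Tr.leaf 240797 5
 Tr.leaf) 240799 6
 Tr.leaf)) 240801 5
 (Tr.node (Tr.node (Tr.node Tr.leaf 240803 5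
 Tr.leaf) 240805 6
 Tr.leaf) 240807 5
 (Tr.node Tr.leaf 240817 6
 Tr.leaf))) 240819 6
 (Tr.node (Tr.node (Tr.node (Tr.node Tr.leaf 240821 6
 Tr.leaf) 240823 5
 Tr.leaf) 240841 6
 (Tr.node (Tr.node Tr.leaf 240843 6
 Tr.leaf) 240845 5
 Tr.leaf)) 240847 6
 (Tr.node (Tr.node (Tr.node Tr.leaf 240857 6
 Tr.leaf) 240859 6
 Tr.leaf) 240861 6
 (Tr.node Tr.leaf 240863 6
 Tr.leaf)))) 240865 6
 (Tr.node (Tr.node (Tr.node (Tr.node (Tr.node Tr.leaf 240867 6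
 Tr.leaf) 240869 6
 Tr.leaf) 240871 5
 (Tr.node (Tr.node Tr.leaf 240881 5
 Tr.leaf) 240883 6
 Tr.leaf)) 240885 6
 (Tr.node (Tr.node (Tr.node Tr.leaf 240887 6
 Tr.leaf) 240905 6
 Tr.leaf) 240907 6
 (Tr.node Tr.leaf 240909 6
 Tr.leaf))) 240911 6
 (Tr.node (Tr.node (Tr.node (Tr.node Tr.leaf 240921 6
 Tr.leaf) 240923 6
 Tr.leaf) 240925 6
 (Tr.node Tr.leaf 240927 6
 Tr.leaf)) 240929 5
 (Tr.node (Tr.node (Tr.node Tr.leaf 240931 5
 Tr.leaf) 240933 6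
 Tr.leaf) 240935 6
 (Tr.node Tr.leaf 240945 5
 Tr.leaf))))) 240947 6
 (Tr.node (Tr.node (Tr.node (Tr.node (Tr.node (Tr.node Tr.leaf 240949 6
 Tr.leaf) 240951 5
 Tr.leaf) 240969 6
 (Tr.node (Tr.node Tr.leaf 240971 5
 Tr.leaf) 240973 6
 Tr.leaf)) 240975 5
 (Tr.node (Tr.node (Tr.node Tr.leaf 240985 5
 Tr.leaf) 240987 6
 Tr.leaf) 240989 6
 (Tr.node Tr.leaf 240991 6
 Tr.leaf))) 240993 6
 (Tr.node (Tr.node (Tr.node (Tr.node Tr.leaf 240995 6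
 Tr.leaf) 240997 6
 Tr.leaf) 240999 6
 (Tr.node (Tr.node Tr.leaf 241009 6
 Tr.leaf) 241011 5
 Tr.leaf)) 241013 6
 (Tr.node (Tr.node (Tr.node Tr.leaf 241015 5
 Tr.leaf) 241033 6
 Tr.leaf) 241035 6
 (Tr.node Tr.leaf 241037 6
 Tr.leaf)))) 241039 6
 (Tr.node (Tr.node (Tr.node (Tr.node (Tr.node Tr.leaf 241049 5
 Tr.leaf) 241051 6
 Tr.leaf) 241053 5
 (Tr.node (Tr.node Tr.leaf 241055 5
 Tr.leaf) 241057 5
 Tr.leaf)) 241059 6
 (Tr.node (Tr.node (Tr.node Tr.leaf 241061 6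
 Tr.leaf) 241063 6
 Tr.leaf) 241073 4
 (Tr.node Tr.leaf 241075 6
 Tr.leaf))) 241077 5
 (Tr.node (Tr.node (Tr.node (Tr.node Tr.leaf 241079 6
 Tr.leaf) 241097 6
 Tr.leaf) 241099 5
 (Tr.node Tr.leaf 241101 6
 Tr.leaf)) 241103 6
 (Tr.node (Tr.node (Tr.node Tr.leaf 241113 5
 Tr.leaf) 241115 5
 Tr.leaf) 241117 6
 (Tr.node Tr.leaf 241119 6
 Tr.leaf)))))) 241121 6
 (Tr.node (Tr.node (Tr.node (Tr.node (Tr.node (Tr.node (Tr.node Tr.leaf 241123 6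
 Tr.leaf) 241125 6
 Tr.leaf) 241127 5
 (Tr.node (Tr.node Tr.leaf 241137 6
 Tr.leaf) 241139 6
 Tr.leaf)) 241141 6
 (Tr.node (Tr.node (Tr.node Tr.leaf 241143 6
 Tr.leaf) 241665 4
 Tr.leaf) 241666 5
 (Tr.node Tr.leaf 241668 6
 Tr.leaf))) 241671 6
 (Tr.node (Tr.node (Tr.node (Tr.node Tr.leaf 241673 6
 Tr.leaf) 241674 6
 Tr.leaf) 241676 5
 (Tr.node (Tr.node Tr.leaf 241679 5
 Tr.leaf) 241681 4
 Tr.leaf)) 241682 5
 (Tr.node (Tr.node (Tr.node Tr.leaf 241684 6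
 Tr.leaf) 241687 6
 Tr.leaf) 241689 5
 (Tr.node Tr.leaf 241690 3
 Tr.leaf)))) 241692 3
 (Tr.node (Tr.node (Tr.node (Tr.node (Tr.node Tr.leaf 241695 5
 Tr.leaf) 241699 5
 Tr.leaf) 241701 6
 (Tr.node (Tr.node Tr.leaf 241702 6
 Tr.leaf) 241707 6
 Tr.leaf)) 241709 6
 (Tr.node (Tr.node (Tr.node Tr.leaf 241710 6
 Tr.leaf) 241715 6
 Tr.leaf) 241717 6
 (Tr.node Tr.leaf 241718 5
 Tr.leaf))) 241723 6
 (Tr.node (Tr.node (Tr.node (Tr.node Tr.leaf 241725 6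
 Tr.leaf) 241726 5
 Tr.leaf) 241729 4
 (Tr.node Tr.leaf 241730 6
 Tr.leaf)) 241732 5
 (Tr.node (Tr.node (Tr.node Tr.leaf 241735 5
 Tr.leaf) 241737 5
 Tr.leaf) 241738 5
 (Tr.node Tr.leaf 241740 5
 Tr.leaf))))) 241743 5
 (Tr.node (Tr.node (Tr.node (Tr.node (Tr.node (Tr.node Tr.leaf 241745 6
 Tr.leaf) 241746 6
 Tr.leaf) 241748 6
 (Tr.node (Tr.node Tr.leaf 241751 6
 Tr.leaf) 241753 6
 Tr.leaf)) 241754 6
 (Tr.node (Tr.node (Tr.node Tr.leaf 241756 6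
 Tr.leaf) 241759 6
 Tr.leaf) 241763 6
 (Tr.node Tr.leaf 241765 6
 Tr.leaf))) 241766 6
 (Tr.node (Tr.node (Tr.node (Tr.node Tr.leaf 241771 6
 Tr.leaf) 241773 6
 Tr.leaf) 241774 6
 (Tr.node Tr.leaf 241779 6
 Tr.leaf)) 241781 6
 (Tr.node (Tr.node (Tr.node Tr.leaf 241782 5
 Tr.leaf) 241787 6
 Tr.leaf) 241789 5
 (Tr.node Tr.leaf 241790 5
 Tr.leaf)))) 241793 6
 (Tr.node (Tr.node (Tr.node (Tr.node (Tr.node Tr.leaf 241794 6
 Tr.leaf) 241796 6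
 Tr.leaf) 241799 6
 (Tr.node (Tr.node Tr.leaf 241801 4
 Tr.leaf) 241802 6
 Tr.leaf)) 241804 6
 (Tr.node (Tr.node (Tr.node Tr.leaf 241807 6
 Tr.leaf) 241809 5
 Tr.leaf) 241810 3
 (Tr.node Tr.leaf 241812 4
 Tr.leaf))) 241815 6
 (Tr.node (Tr.node (Tr.node (Tr.node Tr.leaf 241817 6
 Tr.leaf) 241818 6
 Tr.leaf) 241820 6
 (Tr.node Tr.leaf 241823 6
 Tr.leaf)) 241827 6
 (Tr.node (Tr.node (Tr.node Tr.leaf 241829 6
 Tr.leaf) 241830 6
 Tr.leaf) 241835 5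
 (Tr.node Tr.leaf 241837 5
 Tr.leaf))))))) 241838 6
 (Tr.node (Tr.node (Tr.node (Tr.node (Tr.node (Tr.node (Tr.node (Tr.node Tr.leaf 241843 5
 Tr.leaf) 241845 6
 Tr.leaf) 241846 5
 (Tr.node (Tr.node Tr.leaf 241851 6
 Tr.leaf) 241853 6
 Tr.leaf)) 241854 5
 (Tr.node (Tr.node (Tr.node Tr.leaf 241857 6
 Tr.leaf) 241858 6
 Tr.leaf) 241860 5
 (Tr.node Tr.leaf 241863 5
 Tr.leaf))) 241865 6
 (Tr.node (Tr.node (Tr.node (Tr.node Tr.leaf 241866 6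
 Tr.leaf) 241868 6
 Tr.leaf) 241871 6
 (Tr.node (Tr.node Tr.leaf 241873 6
 Tr.leaf) 241874 6
 Tr.leaf)) 241876 5
 (Tr.node (Tr.node (Tr.node Tr.leaf 241879 6
 Tr.leaf) 241881 4
 Tr.leaf) 241882 6
 (Tr.node Tr.leaf 241884 4
 Tr.leaf)))) 241887 7
 (Tr.node (Tr.node (Tr.node (Tr.node (Tr.node Tr.leaf 241891 5
 Tr.leaf) 241893 6
 Tr.leaf) 241894 6
 (Tr.node (Tr.node Tr.leaf 241899 6
 Tr.leaf) 241901 5
 Tr.leaf)) 241902 5
 (Tr.node (Tr.node (Tr.node Tr.leaf 241907 6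
 Tr.leaf) 241909 6
 Tr.leaf) 241910 4
 (Tr.node Tr.leaf 241915 5
 Tr.leaf))) 241917 6
 (Tr.node (Tr.node (Tr.node (Tr.node Tr.leaf 241918 5
 Tr.leaf) 241921 4
 Tr.leaf) 241922 6
 (Tr.node Tr.leaf 241924 3
 Tr.leaf)) 241927 6
 (Tr.node (Tr.node (Tr.node Tr.leaf 241929 6
 Tr.leaf) 241930 5
 Tr.leaf) 241932 6
 (Tr.node Tr.leaf 241935 5
 Tr.leaf))))) 241937 6
 (Tr.node (Tr.node (Tr.node (Tr.node (Tr.node (Tr.node Tr.leaf 241938 6
 Tr.leaf) 241940 6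
 Tr.leaf) 241943 5
 (Tr.node (Tr.node Tr.leaf 241945 5
 Tr.leaf) 241946 6
 Tr.leaf)) 241948 5
 (Tr.node (Tr.node (Tr.node Tr.leaf 241951 6
 Tr.leaf) 241955 6
 Tr.leaf) 241957 6
 (Tr.node Tr.leaf 241958 5
 Tr.leaf))) 241963 6
 (Tr.node (Tr.node (Tr.node (Tr.node Tr.leaf 241965 6
 Tr.leaf) 241966 6
 Tr.leaf) 241971 5
 (Tr.node Tr.leaf 241973 6
 Tr.leaf)) 241974 6
 (Tr.node (Tr.node (Tr.node Tr.leaf 241979 6
 Tr.leaf) 241981 5
 Tr.leaf) 241982 6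
 (Tr.node Tr.leaf 241985 5
 Tr.leaf)))) 241986 4
 (Tr.node (Tr.node (Tr.node (Tr.node (Tr.node Tr.leaf 241988 6
 Tr.leaf) 241991 6
 Tr.leaf) 241993 4
 (Tr.node (Tr.node Tr.leaf 241994 4
 Tr.leaf) 241996 4
 Tr.leaf)) 241999 6
 (Tr.node (Tr.node (Tr.node Tr.leaf 242001 6
 Tr.leaf) 242002 5
 Tr.leaf) 242004 5
 (Tr.node Tr.leaf 242007 6
 Tr.leaf))) 242009 4
 (Tr.node (Tr.node (Tr.node (Tr.node Tr.leaf 242010 6
 Tr.leaf) 242012 6
 Tr.leaf) 242015 6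
 (Tr.node Tr.leaf 242019 6
 Tr.leaf)) 242021 5
 (Tr.node (Tr.node (Tr.node Tr.leaf 242022 6
 Tr.leaf) 242027 5
 Tr.leaf) 242029 7
 (Tr.node Tr.leaf 242030 5
 Tr.leaf)))))) 242035 6
 (Tr.node (Tr.node (Tr.node (Tr.node (Tr.node (Tr.node (Tr.node Tr.leaf 242037 6
 Tr.leaf) 242038 6
 Tr.leaf) 242043 6
 (Tr.node (Tr.node Tr.leaf 242045 6
 Tr.leaf) 242046 5
 Tr.leaf)) 242049 6
 (Tr.node (Tr.node (Tr.node Tr.leaf 242050 6
 Tr.leaf) 242052 6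
 Tr.leaf) 242055 6
 (Tr.node Tr.leaf 242057 6
 Tr.leaf))) 242058 6
 (Tr.node (Tr.node (Tr.node (Tr.node Tr.leaf 242060 6
 Tr.leaf) 242063 5
 Tr.leaf) 242065 5
 (Tr.node (Tr.node Tr.leaf 242066 5
 Tr.leaf) 242068 5
 Tr.leaf)) 242071 6
 (Tr.node (Tr.node (Tr.node Tr.leaf 242073 6
 Tr.leaf) 242074 6
 Tr.leaf) 242076 5
 (Tr.node Tr.leaf 242079 5
 Tr.leaf)))) 242083 5
 (Tr.node (Tr.node (Tr.node (Tr.node (Tr.node Tr.leaf 242085 6
 Tr.leaf) 242086 5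
 Tr.leaf) 242091 6
 (Tr.node (Tr.node Tr.leaf 242093 5
 Tr.leaf) 242094 5
 Tr.leaf)) 242099 6
 (Tr.node (Tr.node (Tr.node Tr.leaf 242101 6
 Tr.leaf) 242102 5
 Tr.leaf) 242107 6
 (Tr.node Tr.leaf 242109 6
 Tr.leaf))) 242110 6
 (Tr.node (Tr.node (Tr.node (Tr.node Tr.leaf 242113 5
 Tr.leaf) 242114 3
 Tr.leaf) 242116 3
 (Tr.node Tr.leaf 242119 6
 Tr.leaf)) 242121 5
 (Tr.node (Tr.node (Tr.node Tr.leaf 242122 5
 Tr.leaf) 242124 5
 Tr.leaf) 242127 6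
 (Tr.node Tr.leaf 242129 6
 Tr.leaf))))) 242130 6
 (Tr.node (Tr.node (Tr.node (Tr.node (Tr.node (Tr.node Tr.leaf 242132 5
 Tr.leaf) 242135 5
 Tr.leaf) 242137 5
 (Tr.node (Tr.node Tr.leaf 242138 5
 Tr.leaf) 242140 4
 Tr.leaf)) 242143 6
 (Tr.node (Tr.node (Tr.node Tr.leaf 242147 5
 Tr.leaf) 242149 6
 Tr.leaf) 242150 5
 (Tr.node Tr.leaf 242155 6
 Tr.leaf))) 242157 6
 (Tr.node (Tr.node (Tr.node (Tr.node Tr.leaf 242158 5
 Tr.leaf) 242163 6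
 Tr.leaf) 242165 6
 (Tr.node Tr.leaf 242166 5
 Tr.leaf)) 242171 6
 (Tr.node (Tr.node (Tr.node Tr.leaf 242173 6
 Tr.leaf) 242174 6
 Tr.leaf) 242693 6
 (Tr.node Tr.leaf 242695 5
 Tr.leaf)))) 242701 5
 (Tr.node (Tr.node (Tr.node (Tr.node (Tr.node Tr.leaf 242703 6
 Tr.leaf) 242709 6
 Tr.leaf) 242711 6
 (Tr.node (Tr.node Tr.leaf 242717 5
 Tr.leaf) 242719 6
 Tr.leaf)) 242721 6
 (Tr.node (Tr.node (Tr.node Tr.leaf 242723 6
 Tr.leaf) 242729 6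
 Tr.leaf) 242731 6
 (Tr.node Tr.leaf 242737 6
 Tr.leaf))) 242739 5
 (Tr.node (Tr.node (Tr.node (Tr.node Tr.leaf 242745 6
 Tr.leaf) 242747 6
 Tr.leaf) 242757 6
 (Tr.node Tr.leaf 242759 5
 Tr.leaf)) 242765 5
 (Tr.node (Tr.node (Tr.node Tr.leaf 242767 5
 Tr.leaf) 242773 6
 Tr.leaf) 242775 5
 (Tr.node Tr.leaf 242781 6
 Tr.leaf)))))))) 242783 5
 (Tr.node (Tr.node (Tr.node (Tr.node (Tr.node (Tr.node (Tr.node (Tr.node (Tr.node Tr.leaf 242785 6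
 Tr.leaf) 242787 5
 Tr.leaf) 242793 6
 (Tr.node (Tr.node Tr.leaf 242795 4
 Tr.leaf) 242801 6
 Tr.leaf)) 242803 6
 (Tr.node (Tr.node (Tr.node Tr.leaf 242809 5
 Tr.leaf) 242811 6
 Tr.leaf) 242821 6
 (Tr.node Tr.leaf 242823 6
 Tr.leaf))) 242829 6
 (Tr.node (Tr.node (Tr.node (Tr.node Tr.leaf 242831 6
 Tr.leaf) 242837 6
 Tr.leaf) 242839 6
 (Tr.node (Tr.node Tr.leaf 242845 5
 Tr.leaf) 242847 6
 Tr.leaf)) 242849 5
 (Tr.node (Tr.node (Tr.node Tr.leaf 242851 5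
 Tr.leaf) 242857 5
 Tr.leaf) 242859 6
 (Tr.node Tr.leaf 242865 5
 Tr.leaf)))) 242867 4
 (Tr.node (Tr.node (Tr.node (Tr.node (Tr.node Tr.leaf 242873 4
 Tr.leaf) 242875 6
 Tr.leaf) 242885 6
 (Tr.node (Tr.node Tr.leaf 242887 6
 Tr.leaf) 242893 5
 Tr.leaf)) 242895 6
 (Tr.node (Tr.node (Tr.node Tr.leaf 242901 5
 Tr.leaf) 242903 6
 Tr.leaf) 242909 6
 (Tr.node Tr.leaf 242911 5
 Tr.leaf))) 242913 6
 (Tr.node (Tr.node (Tr.node (Tr.node Tr.leaf 242915 6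
 Tr.leaf) 242921 6
 Tr.leaf) 242923 5
 (Tr.node Tr.leaf 242929 6
 Tr.leaf)) 242931 6
 (Tr.node (Tr.node (Tr.node Tr.leaf 242937 6
 Tr.leaf) 242939 5
 Tr.leaf) 242949 6
 (Tr.node Tr.leaf 242951 6
 Tr.leaf))))) 242957 5
 (Tr.node (Tr.node (Tr.node (Tr.node (Tr.node (Tr.node Tr.leaf 242959 6
 Tr.leaf) 242965 6
 Tr.leaf) 242967 6
 (Tr.node (Tr.node Tr.leaf 242973 6
 Tr.leaf) 242975 6
 Tr.leaf)) 242977 5
 (Tr.node (Tr.node (Tr.node Tr.leaf 242979 6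
 Tr.leaf) 242985 6
 Tr.leaf) 242987 6
 (Tr.node Tr.leaf 242993 5
 Tr.leaf))) 242995 5
 (Tr.node (Tr.node (Tr.node (Tr.node Tr.leaf 243001 6
 Tr.leaf) 243003 5
 Tr.leaf) 243013 6
 (Tr.node Tr.leaf 243015 6
 Tr.leaf)) 243021 6
 (Tr.node (Tr.node (Tr.node Tr.leaf 243023 6
 Tr.leaf) 243029 5
 Tr.leaf) 243031 6
 (Tr.node Tr.leaf 243037 6
 Tr.leaf)))) 243039 6
 (Tr.node (Tr.node (Tr.node (Tr.node (Tr.node Tr.leaf 243041 6
 Tr.leaf) 243043 6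
 Tr.leaf) 243049 6
 (Tr.node (Tr.node Tr.leaf 243051 5
 Tr.leaf) 243057 6
 Tr.leaf)) 243059 6
 (Tr.node (Tr.node (Tr.node Tr.leaf 243065 6
 Tr.leaf) 243067 5
 Tr.leaf) 243077 5
 (Tr.node Tr.leaf 243079 6
 Tr.leaf))) 243085 5
 (Tr.node (Tr.node (Tr.node (Tr.node Tr.leaf 243087 6
 Tr.leaf) 243093 6
 Tr.leaf) 243095 5
 (Tr.node Tr.leaf 243101 5
 Tr.leaf)) 243103 6
 (Tr.node (Tr.node (Tr.node Tr.leaf 243105 6
 Tr.leaf) 243107 6
 Tr.leaf) 243113 6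
 (Tr.node Tr.leaf 243115 5
 Tr.leaf)))))) 243121 6
 (Tr.node (Tr.node (Tr.node (Tr.node (Tr.node (Tr.node (Tr.node Tr.leaf 243123 6
 Tr.leaf) 243129 6
 Tr.leaf) 243131 6
 (Tr.node (Tr.node Tr.leaf 243141 5
 Tr.leaf) 243143 6
 Tr.leaf)) 243149 6
 (Tr.node (Tr.node (Tr.node Tr.leaf 243151 6
 Tr.leaf) 243157 6
 Tr.leaf) 243159 5
 (Tr.node Tr.leaf 243165 5
 Tr.leaf))) 243167 5
 (Tr.node (Tr.node (Tr.node (Tr.node Tr.leaf 243169 6
 Tr.leaf) 243171 6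
 Tr.leaf) 243177 6
 (Tr.node (Tr.node Tr.leaf 243179 6
 Tr.leaf) 243185 6
 Tr.leaf)) 243187 6
 (Tr.node (Tr.node (Tr.node Tr.leaf 243193 6
 Tr.leaf) 243195 6
 Tr.leaf) 243715 6
 (Tr.node Tr.leaf 243719 5
 Tr.leaf)))) 243723 6
 (Tr.node (Tr.node (Tr.node (Tr.node (Tr.node Tr.leaf 243727 5
 Tr.leaf) 243731 6
 Tr.leaf) 243735 5
 (Tr.node (Tr.node Tr.leaf 243739 5
 Tr.leaf) 243743 6
 Tr.leaf)) 243745 5
 (Tr.node (Tr.node (Tr.node Tr.leaf 243746 6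
 Tr.leaf) 243749 6
 Tr.leaf) 243750 6
 (Tr.node Tr.leaf 243753 6
 Tr.leaf))) 243754 6
 (Tr.node (Tr.node (Tr.node (Tr.node Tr.leaf 243757 6
 Tr.leaf) 243758 5
 Tr.leaf) 243761 6
 (Tr.node Tr.leaf 243762 6
 Tr.leaf)) 243765 6
 (Tr.node (Tr.node (Tr.node Tr.leaf 243766 6
 Tr.leaf) 243769 6
 Tr.leaf) 243770 5
 (Tr.node Tr.leaf 243773 6
 Tr.leaf))))) 243774 5
 (Tr.node (Tr.node (Tr.node (Tr.node (Tr.node (Tr.node Tr.leaf 243779 5
 Tr.leaf) 243783 6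
 Tr.leaf) 243787 5
 (Tr.node (Tr.node Tr.leaf 243791 4
 Tr.leaf) 243795 6
 Tr.leaf)) 243799 6
 (Tr.node (Tr.node (Tr.node Tr.leaf 243803 6
 Tr.leaf) 243807 6
 Tr.leaf) 243809 5
 (Tr.node Tr.leaf 243810 5
 Tr.leaf))) 243813 5
 (Tr.node (Tr.node (Tr.node (Tr.node Tr.leaf 243814 6
 Tr.leaf) 243817 6
 Tr.leaf) 243818 5
 (Tr.node Tr.leaf 243821 5
 Tr.leaf)) 243822 6
 (Tr.node (Tr.node (Tr.node Tr.leaf 243825 6
 Tr.leaf) 243826 5
 Tr.leaf) 243829 6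
 (Tr.node Tr.leaf 243830 5
 Tr.leaf)))) 243833 6
 (Tr.node (Tr.node (Tr.node (Tr.node (Tr.node Tr.leaf 243834 4
 Tr.leaf) 243837 6
 Tr.leaf) 243838 6
 (Tr.node (Tr.node Tr.leaf 243843 6
 Tr.leaf) 243847 6
 Tr.leaf)) 243851 6
 (Tr.node (Tr.node (Tr.node Tr.leaf 243855 6
 Tr.leaf) 243859 6
 Tr.leaf) 243863 6
 (Tr.node Tr.leaf 243867 6
 Tr.leaf))) 243871 6
 (Tr.node (Tr.node (Tr.node (Tr.node Tr.leaf 243873 5
 Tr.leaf) 243874 6
 Tr.leaf) 243877 6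
 (Tr.node Tr.leaf 243878 6
 Tr.leaf)) 243881 6
 (Tr.node (Tr.node (Tr.node Tr.leaf 243882 5
 Tr.leaf) 243885 6
 Tr.leaf) 243886 5
 (Tr.node Tr.leaf 243889 5
 Tr.leaf))))))) 243890 5
 (Tr.node (Tr.node (Tr.node (Tr.node (Tr.node (Tr.node (Tr.node (Tr.node Tr.leaf 243893 6
 Tr.leaf) 243894 5
 Tr.leaf) 243897 5
 (Tr.node (Tr.node Tr.leaf 243898 5
 Tr.leaf) 243901 5
 Tr.leaf)) 243902 5
 (Tr.node (Tr.node (Tr.node Tr.leaf 243907 6
 Tr.leaf) 243911 5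
 Tr.leaf) 243915 6
 (Tr.node Tr.leaf 243919 6
 Tr.leaf))) 243923 4
 (Tr.node (Tr.node (Tr.node (Tr.node Tr.leaf 243927 6
 Tr.leaf) 243931 5
 Tr.leaf) 243935 6
 (Tr.node (Tr.node Tr.leaf 243937 6
 Tr.leaf) 243938 5
 Tr.leaf)) 243941 6
 (Tr.node (Tr.node (Tr.node Tr.leaf 243942 5
 Tr.leaf) 243945 5
 Tr.leaf) 243946 6
 (Tr.node Tr.leaf 243949 5
 Tr.leaf)))) 243950 6
 (Tr.node (Tr.node (Tr.node (Tr.node (Tr.node Tr.leaf 243953 5
 Tr.leaf) 243954 5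
 Tr.leaf) 243957 5
 (Tr.node (Tr.node Tr.leaf 243958 5
 Tr.leaf) 243961 6
 Tr.leaf)) 243962 5
 (Tr.node (Tr.node (Tr.node Tr.leaf 243965 5
 Tr.leaf) 243966 5
 Tr.leaf) 243971 6
 (Tr.node Tr.leaf 243975 6
 Tr.leaf))) 243979 6
 (Tr.node (Tr.node (Tr.node (Tr.node Tr.leaf 243983 6
 Tr.leaf) 243987 6
 Tr.leaf) 243991 5
 (Tr.node Tr.leaf 243995 6
 Tr.leaf)) 243999 6
 (Tr.node (Tr.node (Tr.node Tr.leaf 244001 5
 Tr.leaf) 244002 6
 Tr.leaf) 244005 6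
 (Tr.node Tr.leaf 244006 5
 Tr.leaf))))) 244009 6
 (Tr.node (Tr.node (Tr.node (Tr.node (Tr.node (Tr.node Tr.leaf 244010 5
 Tr.leaf) 244013 6
 Tr.leaf) 244014 5
 (Tr.node (Tr.node Tr.leaf 244017 5
 Tr.leaf) 244018 6
 Tr.leaf)) 244021 6
 (Tr.node (Tr.node (Tr.node Tr.leaf 244022 6
 Tr.leaf) 244025 6
 Tr.leaf) 244026 6
 (Tr.node Tr.leaf 244029 6
 Tr.leaf))) 244030 5
 (Tr.node (Tr.node (Tr.node (Tr.node Tr.leaf 244035 6
 Tr.leaf) 244039 6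
 Tr.leaf) 244043 6
 (Tr.node Tr.leaf 244047 5
 Tr.leaf)) 244051 4
 (Tr.node (Tr.node (Tr.node Tr.leaf 244055 5
 Tr.leaf) 244059 5
 Tr.leaf) 244063 6
 (Tr.node Tr.leaf 244065 6
 Tr.leaf)))) 244066 5
 (Tr.node (Tr.node (Tr.node (Tr.node (Tr.node Tr.leaf 244069 5
 Tr.leaf) 244070 5
 Tr.leaf) 244073 6
 (Tr.node (Tr.node Tr.leaf 244074 5
 Tr.leaf) 244077 5
 Tr.leaf)) 244078 6
 (Tr.node (Tr.node (Tr.node Tr.leaf 244081 6
 Tr.leaf) 244082 5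
 Tr.leaf) 244085 6
 (Tr.node Tr.leaf 244086 5
 Tr.leaf))) 244089 6
 (Tr.node (Tr.node (Tr.node (Tr.node Tr.leaf 244090 6
 Tr.leaf) 244093 5
 Tr.leaf) 244094 5
 (Tr.node Tr.leaf 244099 6
 Tr.leaf)) 244103 6
 (Tr.node (Tr.node (Tr.node Tr.leaf 244107 6
 Tr.leaf) 244111 6
 Tr.leaf) 244115 6
 (Tr.node Tr.leaf 244119 5
 Tr.leaf)))))) 244123 6
 (Tr.node (Tr.node (Tr.node (Tr.node (Tr.node (Tr.node (Tr.node Tr.leaf 244127 5
 Tr.leaf) 244129 6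
 Tr.leaf) 244130 6
 (Tr.node (Tr.node Tr.leaf 244133 5
 Tr.leaf) 244134 6
 Tr.leaf)) 244137 5
 (Tr.node (Tr.node (Tr.node Tr.leaf 244138 5
 Tr.leaf) 244141 6
 Tr.leaf) 244142 5
 (Tr.node Tr.leaf 244145 6
 Tr.leaf))) 244146 5
 (Tr.node (Tr.node (Tr.node (Tr.node Tr.leaf 244149 6
 Tr.leaf) 244150 6
 Tr.leaf) 244153 5
 (Tr.node (Tr.node Tr.leaf 244154 5
 Tr.leaf) 244157 6
 Tr.leaf)) 244158 6
 (Tr.node (Tr.node (Tr.node Tr.leaf 244163 6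
 Tr.leaf) 244167 6
 Tr.leaf) 244171 6
 (Tr.node Tr.leaf 244175 6
 Tr.leaf)))) 244179 5
 (Tr.node (Tr.node (Tr.node (Tr.node (Tr.node Tr.leaf 244183 6
 Tr.leaf) 244187 5
 Tr.leaf) 244191 6
 (Tr.node (Tr.node Tr.leaf 244193 5
 Tr.leaf) 244194 5
 Tr.leaf)) 244197 6
 (Tr.node (Tr.node (Tr.node Tr.leaf 244198 5
 Tr.leaf) 244201 6
 Tr.leaf) 244202 5
 (Tr.node Tr.leaf 244205 6
 Tr.leaf))) 244206 4
 (Tr.node (Tr.node (Tr.node (Tr.node Tr.leaf 244209 6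
 Tr.leaf) 244210 5
 Tr.leaf) 244213 6
 (Tr.node Tr.leaf 244214 6
 Tr.leaf)) 244217 6
 (Tr.node (Tr.node (Tr.node Tr.leaf 244218 6
 Tr.leaf) 244221 6
 Tr.leaf) 244222 6
 (Tr.node Tr.leaf 244737 6
 Tr.leaf))))) 244739 5
 (Tr.node (Tr.node (Tr.node (Tr.node (Tr.node (Tr.node Tr.leaf 244741 6
 Tr.leaf) 244743 5
 Tr.leaf) 244745 6
 (Tr.node (Tr.node Tr.leaf 244747 6
 Tr.leaf) 244749 7
 Tr.leaf)) 244751 5
 (Tr.node (Tr.node (Tr.node Tr.leaf 244753 6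
 Tr.leaf) 244755 6
 Tr.leaf) 244757 6
 (Tr.node Tr.leaf 244759 6
 Tr.leaf))) 244761 6
 (Tr.node (Tr.node (Tr.node (Tr.node Tr.leaf 244763 6
 Tr.leaf) 244765 6
 Tr.leaf) 244767 6
 (Tr.node Tr.leaf 244801 6
 Tr.leaf)) 244803 6
 (Tr.node (Tr.node (Tr.node Tr.leaf 244805 6
 Tr.leaf) 244807 5
 Tr.leaf) 244809 6
 (Tr.node Tr.leaf 244811 6
 Tr.leaf)))) 244813 6
 (Tr.node (Tr.node (Tr.node (Tr.node (Tr.node Tr.leaf 244815 6
 Tr.leaf) 244817 6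
 Tr.leaf) 244819 6
 (Tr.node (Tr.node Tr.leaf 244821 6
 Tr.leaf) 244823 6
 Tr.leaf)) 244825 6
 (Tr.node (Tr.node (Tr.node Tr.leaf 244827 6
 Tr.leaf) 244829 6
 Tr.leaf) 244831 6
 (Tr.node Tr.leaf 244865 6
 Tr.leaf))) 244867 5
 (Tr.node (Tr.node (Tr.node (Tr.node Tr.leaf 244869 6
 Tr.leaf) 244871 6
 Tr.leaf) 244873 6
 (Tr.node Tr.leaf 244875 6
 Tr.leaf)) 244877 6
 (Tr.node (Tr.node (Tr.node Tr.leaf 244879 6
 Tr.leaf) 244881 6
 Tr.leaf) 244883 6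
 (Tr.node Tr.leaf 244885 6
 Tr.leaf)))))))))

/-- A subtree. -/
def tr2_s60 : Tr := (Tr.node (Tr.node (Tr.node (Tr.node (Tr.node (Tr.node (Tr.node (Tr.node (Tr.node (Tr.node Tr.leaf 244889 6
 Tr.leaf) 244891 6
 Tr.leaf) 244893 6
 (Tr.node (Tr.node Tr.leaf 244895 6
 Tr.leaf) 244929 6
 Tr.leaf)) 244931 6
 (Tr.node (Tr.node (Tr.node Tr.leaf 244933 6
 Tr.leaf) 244935 6
 Tr.leaf) 244937 6
 (Tr.node Tr.leaf 244939 6
 Tr.leaf))) 244941 6
 (Tr.node (Tr.node (Tr.node (Tr.node Tr.leaf 244943 6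
 Tr.leaf) 244945 6
 Tr.leaf) 244947 6
 (Tr.node (Tr.node Tr.leaf 244949 6
 Tr.leaf) 244951 6
 Tr.leaf)) 244953 6
 (Tr.node (Tr.node (Tr.node Tr.leaf 244955 6
 Tr.leaf) 244957 6
 Tr.leaf) 244959 6
 (Tr.node Tr.leaf 244993 6
 Tr.leaf)))) 244995 6
 (Tr.node (Tr.node (Tr.node (Tr.node (Tr.node Tr.leaf 244997 6
 Tr.leaf) 244999 6
 Tr.leaf) 245001 6
 (Tr.node (Tr.node Tr.leaf 245003 6
 Tr.leaf) 245005 5
 Tr.leaf)) 245007 6
 (Tr.node (Tr.node (Tr.node Tr.leaf 245009 7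
 Tr.leaf) 245011 6
 Tr.leaf) 245013 6
 (Tr.node Tr.leaf 245015 6
 Tr.leaf))) 245017 6
 (Tr.node (Tr.node (Tr.node (Tr.node Tr.leaf 245019 6
 Tr.leaf) 245021 6
 Tr.leaf) 245023 6
 (Tr.node Tr.leaf 245057 6
 Tr.leaf)) 245059 6
 (Tr.node (Tr.node (Tr.node Tr.leaf 245061 6
 Tr.leaf) 245063 5
 Tr.leaf) 245065 5
 (Tr.node Tr.leaf 245067 6
 Tr.leaf))))) 245069 6
 (Tr.node (Tr.node (Tr.node (Tr.node (Tr.node (Tr.node Tr.leaf 245071 5
 Tr.leaf) 245073 6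
 Tr.leaf) 245075 6
 (Tr.node (Tr.node Tr.leaf 245077 6
 Tr.leaf) 245079 6
 Tr.leaf)) 245081 6
 (Tr.node (Tr.node (Tr.node Tr.leaf 245083 6
 Tr.leaf) 245085 6
 Tr.leaf) 245087 6
 (Tr.node Tr.leaf 245121 5
 Tr.leaf))) 245123 6
 (Tr.node (Tr.node (Tr.node (Tr.node Tr.leaf 245125 5
 Tr.leaf) 245127 6
 Tr.leaf) 245129 6
 (Tr.node (Tr.node Tr.leaf 245131 6
 Tr.leaf) 245133 6
 Tr.leaf)) 245135 6
 (Tr.node (Tr.node (Tr.node Tr.leaf 245137 6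
 Tr.leaf) 245139 5
 Tr.leaf) 245141 5
 (Tr.node Tr.leaf 245143 5
 Tr.leaf)))) 245145 6
 (Tr.node (Tr.node (Tr.node (Tr.node (Tr.node Tr.leaf 245147 6
 Tr.leaf) 245149 6
 Tr.leaf) 245151 5
 (Tr.node (Tr.node Tr.leaf 245185 6
 Tr.leaf) 245187 5
 Tr.leaf)) 245189 6
 (Tr.node (Tr.node (Tr.node Tr.leaf 245191 6
 Tr.leaf) 245193 6
 Tr.leaf) 245195 6
 (Tr.node Tr.leaf 245197 6
 Tr.leaf))) 245199 6
 (Tr.node (Tr.node (Tr.node (Tr.node Tr.leaf 245201 6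
 Tr.leaf) 245203 6
 Tr.leaf) 245205 6
 (Tr.node Tr.leaf 245207 6
 Tr.leaf)) 245209 6
 (Tr.node (Tr.node (Tr.node Tr.leaf 245211 6
 Tr.leaf) 245213 6
 Tr.leaf) 245215 6
 (Tr.node Tr.leaf 245763 5
 Tr.leaf)))))) 245765 5
 (Tr.node (Tr.node (Tr.node (Tr.node (Tr.node (Tr.node (Tr.node Tr.leaf 245766 5
 Tr.leaf) 245769 6
 Tr.leaf) 245770 5
 (Tr.node (Tr.node Tr.leaf 245772 5
 Tr.leaf) 245775 6
 Tr.leaf)) 245777 5
 (Tr.node (Tr.node (Tr.node Tr.leaf 245778 4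
 Tr.leaf) 245780 5
 Tr.leaf) 245783 5
 (Tr.node Tr.leaf 245784 6
 Tr.leaf))) 245787 7
 (Tr.node (Tr.node (Tr.node (Tr.node Tr.leaf 245789 6
 Tr.leaf) 245790 6
 Tr.leaf) 245795 6
 (Tr.node (Tr.node Tr.leaf 245797 5
 Tr.leaf) 245798 3
 Tr.leaf)) 245801 5
 (Tr.node (Tr.node (Tr.node Tr.leaf 245802 6
 Tr.leaf) 245804 4
 Tr.leaf) 245807 6
 (Tr.node Tr.leaf 245809 6
 Tr.leaf)))) 245810 4
 (Tr.node (Tr.node (Tr.node (Tr.node (Tr.node Tr.leaf 245812 6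
 Tr.leaf) 245815 6
 Tr.leaf) 245816 6
 (Tr.node (Tr.node Tr.leaf 245819 6
 Tr.leaf) 245821 6
 Tr.leaf)) 245822 5
 (Tr.node (Tr.node (Tr.node Tr.leaf 245827 6
 Tr.leaf) 245829 6
 Tr.leaf) 245830 5
 (Tr.node Tr.leaf 245833 4
 Tr.leaf))) 245834 5
 (Tr.node (Tr.node (Tr.node (Tr.node Tr.leaf 245836 5
 Tr.leaf) 245839 6
 Tr.leaf) 245841 4
 (Tr.node Tr.leaf 245842 6
 Tr.leaf)) 245844 6
 (Tr.node (Tr.node (Tr.node Tr.leaf 245847 6
 Tr.leaf) 245848 6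
 Tr.leaf) 245851 6
 (Tr.node Tr.leaf 245853 6
 Tr.leaf))))) 245854 6
 (Tr.node (Tr.node (Tr.node (Tr.node (Tr.node (Tr.node Tr.leaf 245859 6
 Tr.leaf) 245861 4
 Tr.leaf) 245862 6
 (Tr.node (Tr.node Tr.leaf 245865 5
 Tr.leaf) 245866 5
 Tr.leaf)) 245868 6
 (Tr.node (Tr.node (Tr.node Tr.leaf 245871 6
 Tr.leaf) 245873 6
 Tr.leaf) 245874 5
 (Tr.node Tr.leaf 245876 4
 Tr.leaf))) 245879 6
 (Tr.node (Tr.node (Tr.node (Tr.node Tr.leaf 245880 6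
 Tr.leaf) 245883 5
 Tr.leaf) 245885 6
 (Tr.node Tr.leaf 245886 6
 Tr.leaf)) 245891 4
 (Tr.node (Tr.node (Tr.node Tr.leaf 245893 6
 Tr.leaf) 245894 6
 Tr.leaf) 245897 7
 (Tr.node Tr.leaf 245898 6
 Tr.leaf)))) 245900 6
 (Tr.node (Tr.node (Tr.node (Tr.node (Tr.node Tr.leaf 245903 5
 Tr.leaf) 245905 6
 Tr.leaf) 245906 4
 (Tr.node (Tr.node Tr.leaf 245908 6
 Tr.leaf) 245911 6
 Tr.leaf)) 245912 6
 (Tr.node (Tr.node (Tr.node Tr.leaf 245915 6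
 Tr.leaf) 245917 6
 Tr.leaf) 245918 6
 (Tr.node Tr.leaf 245923 6
 Tr.leaf))) 245925 6
 (Tr.node (Tr.node (Tr.node (Tr.node Tr.leaf 245926 6
 Tr.leaf) 245929 6
 Tr.leaf) 245930 6
 (Tr.node Tr.leaf 245932 6
 Tr.leaf)) 245935 5
 (Tr.node (Tr.node (Tr.node Tr.leaf 245937 6
 Tr.leaf) 245938 5
 Tr.leaf) 245940 5
 (Tr.node Tr.leaf 245943 6
 Tr.leaf))))))) 245944 6
 (Tr.node (Tr.node (Tr.node (Tr.node (Tr.node (Tr.node (Tr.node (Tr.node Tr.leaf 245947 6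
 Tr.leaf) 245949 6
 Tr.leaf) 245950 5
 (Tr.node (Tr.node Tr.leaf 245955 6
 Tr.leaf) 245957 6
 Tr.leaf)) 245958 4
 (Tr.node (Tr.node (Tr.node Tr.leaf 245961 6
 Tr.leaf) 245962 6
 Tr.leaf) 245964 5
 (Tr.node Tr.leaf 245967 6
 Tr.leaf))) 245969 6
 (Tr.node (Tr.node (Tr.node (Tr.node Tr.leaf 245970 7
 Tr.leaf) 245972 6
 Tr.leaf) 245975 6
 (Tr.node (Tr.node Tr.leaf 245976 6
 Tr.leaf) 245979 6
 Tr.leaf)) 245981 6
 (Tr.node (Tr.node (Tr.node Tr.leaf 245982 6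
 Tr.leaf) 245987 6
 Tr.leaf) 245989 6
 (Tr.node Tr.leaf 245990 6
 Tr.leaf)))) 245993 5
 (Tr.node (Tr.node (Tr.node (Tr.node (Tr.node Tr.leaf 245994 3
 Tr.leaf) 245996 6
 Tr.leaf) 245999 6
 (Tr.node (Tr.node Tr.leaf 246001 6
 Tr.leaf) 246002 6
 Tr.leaf)) 246004 6
 (Tr.node (Tr.node (Tr.node Tr.leaf 246007 6
 Tr.leaf) 246008 6
 Tr.leaf) 246011 5
 (Tr.node Tr.leaf 246013 6
 Tr.leaf))) 246014 6
 (Tr.node (Tr.node (Tr.node (Tr.node Tr.leaf 246019 6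
 Tr.leaf) 246021 5
 Tr.leaf) 246022 6
 (Tr.node Tr.leaf 246025 6
 Tr.leaf)) 246026 3
 (Tr.node (Tr.node (Tr.node Tr.leaf 246028 6
 Tr.leaf) 246031 5
 Tr.leaf) 246033 5
 (Tr.node Tr.leaf 246034 6
 Tr.leaf))))) 246036 5
 (Tr.node (Tr.node (Tr.node (Tr.node (Tr.node (Tr.node Tr.leaf 246039 6
 Tr.leaf) 246040 6
 Tr.leaf) 246043 6
 (Tr.node (Tr.node Tr.leaf 246045 6
 Tr.leaf) 246046 6
 Tr.leaf)) 246051 6
 (Tr.node (Tr.node (Tr.node Tr.leaf 246053 6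
 Tr.leaf) 246054 6
 Tr.leaf) 246057 6
 (Tr.node Tr.leaf 246058 6
 Tr.leaf))) 246060 6
 (Tr.node (Tr.node (Tr.node (Tr.node Tr.leaf 246063 6
 Tr.leaf) 246065 4
 Tr.leaf) 246066 6
 (Tr.node Tr.leaf 246068 5
 Tr.leaf)) 246071 6
 (Tr.node (Tr.node (Tr.node Tr.leaf 246072 6
 Tr.leaf) 246075 7
 Tr.leaf) 246077 5
 (Tr.node Tr.leaf 246078 5
 Tr.leaf)))) 246083 5
 (Tr.node (Tr.node (Tr.node (Tr.node (Tr.node Tr.leaf 246085 6
 Tr.leaf) 246086 6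
 Tr.leaf) 246089 6
 (Tr.node (Tr.node Tr.leaf 246090 6
 Tr.leaf) 246092 5
 Tr.leaf)) 246095 6
 (Tr.node (Tr.node (Tr.node Tr.leaf 246097 6
 Tr.leaf) 246098 6
 Tr.leaf) 246100 6
 (Tr.node Tr.leaf 246103 6
 Tr.leaf))) 246104 6
 (Tr.node (Tr.node (Tr.node (Tr.node Tr.leaf 246107 5
 Tr.leaf) 246109 5
 Tr.leaf) 246110 6
 (Tr.node Tr.leaf 246115 6
 Tr.leaf)) 246117 6
 (Tr.node (Tr.node (Tr.node Tr.leaf 246118 6
 Tr.leaf) 246121 6
 Tr.leaf) 246122 5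
 (Tr.node Tr.leaf 246124 6
 Tr.leaf)))))) 246127 6
 (Tr.node (Tr.node (Tr.node (Tr.node (Tr.node (Tr.node (Tr.node Tr.leaf 246129 5
 Tr.leaf) 246130 5
 Tr.leaf) 246132 4
 (Tr.node (Tr.node Tr.leaf 246135 5
 Tr.leaf) 246136 6
 Tr.leaf)) 246139 6
 (Tr.node (Tr.node (Tr.node Tr.leaf 246141 5
 Tr.leaf) 246142 5
 Tr.leaf) 246147 6
 (Tr.node Tr.leaf 246149 6
 Tr.leaf))) 246150 6
 (Tr.node (Tr.node (Tr.node (Tr.node Tr.leaf 246153 5
 Tr.leaf) 246154 6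
 Tr.leaf) 246156 6
 (Tr.node (Tr.node Tr.leaf 246159 6
 Tr.leaf) 246161 6
 Tr.leaf)) 246162 6
 (Tr.node (Tr.node (Tr.node Tr.leaf 246164 6
 Tr.leaf) 246167 6
 Tr.leaf) 246168 6
 (Tr.node Tr.leaf 246171 6
 Tr.leaf)))) 246173 6
 (Tr.node (Tr.node (Tr.node (Tr.node (Tr.node Tr.leaf 246174 5
 Tr.leaf) 246179 5
 Tr.leaf) 246181 4
 (Tr.node (Tr.node Tr.leaf 246182 5
 Tr.leaf) 246185 6
 Tr.leaf)) 246186 5
 (Tr.node (Tr.node (Tr.node Tr.leaf 246188 5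
 Tr.leaf) 246191 5
 Tr.leaf) 246193 6
 (Tr.node Tr.leaf 246194 6
 Tr.leaf))) 246196 4
 (Tr.node (Tr.node (Tr.node (Tr.node Tr.leaf 246199 6
 Tr.leaf) 246200 6
 Tr.leaf) 246203 6
 (Tr.node Tr.leaf 246205 6
 Tr.leaf)) 246206 5
 (Tr.node (Tr.node (Tr.node Tr.leaf 246211 6
 Tr.leaf) 246213 5
 Tr.leaf) 246214 3
 (Tr.node Tr.leaf 246217 6
 Tr.leaf))))) 246218 6
 (Tr.node (Tr.node (Tr.node (Tr.node (Tr.node (Tr.node Tr.leaf 246220 5
 Tr.leaf) 246223 6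
 Tr.leaf) 246225 5
 (Tr.node (Tr.node Tr.leaf 246226 6
 Tr.leaf) 246228 6
 Tr.leaf)) 246231 5
 (Tr.node (Tr.node (Tr.node Tr.leaf 246232 6
 Tr.leaf) 246235 5
 Tr.leaf) 246237 6
 (Tr.node Tr.leaf 246238 5
 Tr.leaf))) 246243 6
 (Tr.node (Tr.node (Tr.node (Tr.node Tr.leaf 246245 6
 Tr.leaf) 246246 5
 Tr.leaf) 246249 6
 (Tr.node Tr.leaf 246250 5
 Tr.leaf)) 246252 5
 (Tr.node (Tr.node (Tr.node Tr.leaf 246255 7
 Tr.leaf) 246257 6
 Tr.leaf) 246258 6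
 (Tr.node Tr.leaf 246260 6
 Tr.leaf)))) 246263 5
 (Tr.node (Tr.node (Tr.node (Tr.node (Tr.node Tr.leaf 246264 6
 Tr.leaf) 246267 5
 Tr.leaf) 246269 6
 (Tr.node (Tr.node Tr.leaf 246270 6
 Tr.leaf) 246785 6
 Tr.leaf)) 246787 6
 (Tr.node (Tr.node (Tr.node Tr.leaf 246797 6
 Tr.leaf) 246799 6
 Tr.leaf) 246805 6
 (Tr.node Tr.leaf 246807 6
 Tr.leaf))) 246809 6
 (Tr.node (Tr.node (Tr.node (Tr.node Tr.leaf 246811 6
 Tr.leaf) 246817 7
 Tr.leaf) 246819 4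
 (Tr.node Tr.leaf 246829 6
 Tr.leaf)) 246831 6
 (Tr.node (Tr.node (Tr.node Tr.leaf 246837 6
 Tr.leaf) 246839 6
 Tr.leaf) 246841 5
 (Tr.node Tr.leaf 246843 5
 Tr.leaf)))))))) 246849 4
 (Tr.node (Tr.node (Tr.node (Tr.node (Tr.node (Tr.node (Tr.node (Tr.node (Tr.node Tr.leaf 246851 6
 Tr.leaf) 246861 6
 Tr.leaf) 246863 6
 (Tr.node (Tr.node Tr.leaf 246869 6
 Tr.leaf) 246871 6
 Tr.leaf)) 246873 6
 (Tr.node (Tr.node (Tr.node Tr.leaf 246875 6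
 Tr.leaf) 246881 4
 Tr.leaf) 246883 6
 (Tr.node Tr.leaf 246893 6
 Tr.leaf))) 246895 6
 (Tr.node (Tr.node (Tr.node (Tr.node Tr.leaf 246901 6
 Tr.leaf) 246903 6
 Tr.leaf) 246905 6
 (Tr.node (Tr.node Tr.leaf 246907 5
 Tr.leaf) 246913 7
 Tr.leaf)) 246915 6
 (Tr.node (Tr.node (Tr.node Tr.leaf 246925 6
 Tr.leaf) 246927 5
 Tr.leaf) 246933 6
 (Tr.node Tr.leaf 246935 6
 Tr.leaf)))) 246937 6
 (Tr.node (Tr.node (Tr.node (Tr.node (Tr.node Tr.leaf 246939 5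
 Tr.leaf) 246945 6
 Tr.leaf) 246947 6
 (Tr.node (Tr.node Tr.leaf 246957 6
 Tr.leaf) 246959 6
 Tr.leaf)) 246965 6
 (Tr.node (Tr.node (Tr.node Tr.leaf 246967 5
 Tr.leaf) 246969 6
 Tr.leaf) 246971 6
 (Tr.node Tr.leaf 246977 6
 Tr.leaf))) 246979 6
 (Tr.node (Tr.node (Tr.node (Tr.node Tr.leaf 246989 6
 Tr.leaf) 246991 6
 Tr.leaf) 246997 6
 (Tr.node Tr.leaf 246999 6
 Tr.leaf)) 247001 6
 (Tr.node (Tr.node (Tr.node Tr.leaf 247003 5
 Tr.leaf) 247009 6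
 Tr.leaf) 247011 4
 (Tr.node Tr.leaf 247021 6
 Tr.leaf))))) 247023 6
 (Tr.node (Tr.node (Tr.node (Tr.node (Tr.node (Tr.node Tr.leaf 247029 6
 Tr.leaf) 247031 5
 Tr.leaf) 247033 6
 (Tr.node (Tr.node Tr.leaf 247035 6
 Tr.leaf) 247041 6
 Tr.leaf)) 247043 4
 (Tr.node (Tr.node (Tr.node Tr.leaf 247053 6
 Tr.leaf) 247055 5
 Tr.leaf) 247061 6
 (Tr.node Tr.leaf 247063 5
 Tr.leaf))) 247065 6
 (Tr.node (Tr.node (Tr.node (Tr.node Tr.leaf 247067 6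
 Tr.leaf) 247073 5
 Tr.leaf) 247075 4
 (Tr.node (Tr.node Tr.leaf 247085 6
 Tr.leaf) 247087 6
 Tr.leaf)) 247093 5
 (Tr.node (Tr.node (Tr.node Tr.leaf 247095 6
 Tr.leaf) 247097 6
 Tr.leaf) 247099 6
 (Tr.node Tr.leaf 247105 4
 Tr.leaf)))) 247107 6
 (Tr.node (Tr.node (Tr.node (Tr.node (Tr.node Tr.leaf 247117 6
 Tr.leaf) 247119 6
 Tr.leaf) 247125 6
 (Tr.node (Tr.node Tr.leaf 247127 6
 Tr.leaf) 247129 5
 Tr.leaf)) 247131 6
 (Tr.node (Tr.node (Tr.node Tr.leaf 247137 6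
 Tr.leaf) 247139 5
 Tr.leaf) 247149 5
 (Tr.node Tr.leaf 247151 6
 Tr.leaf))) 247157 6
 (Tr.node (Tr.node (Tr.node (Tr.node Tr.leaf 247159 5
 Tr.leaf) 247161 6
 Tr.leaf) 247163 6
 (Tr.node Tr.leaf 247169 6
 Tr.leaf)) 247171 6
 (Tr.node (Tr.node (Tr.node Tr.leaf 247181 6
 Tr.leaf) 247183 6
 Tr.leaf) 247189 5
 (Tr.node Tr.leaf 247191 6
 Tr.leaf)))))) 247193 6
 (Tr.node (Tr.node (Tr.node (Tr.node (Tr.node (Tr.node (Tr.node Tr.leaf 247195 6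
 Tr.leaf) 247201 6
 Tr.leaf) 247203 6
 (Tr.node (Tr.node Tr.leaf 247213 6
 Tr.leaf) 247215 6
 Tr.leaf)) 247221 6
 (Tr.node (Tr.node (Tr.node Tr.leaf 247223 6
 Tr.leaf) 247225 6
 Tr.leaf) 247227 6
 (Tr.node Tr.leaf 247233 7
 Tr.leaf))) 247235 4
 (Tr.node (Tr.node (Tr.node (Tr.node Tr.leaf 247245 6
 Tr.leaf) 247247 6
 Tr.leaf) 247253 6
 (Tr.node (Tr.node Tr.leaf 247255 5
 Tr.leaf) 247257 6
 Tr.leaf)) 247259 6
 (Tr.node (Tr.node (Tr.node Tr.leaf 247265 5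
 Tr.leaf) 247267 5
 Tr.leaf) 247277 5
 (Tr.node Tr.leaf 247279 6
 Tr.leaf)))) 247285 6
 (Tr.node (Tr.node (Tr.node (Tr.node (Tr.node Tr.leaf 247287 6
 Tr.leaf) 247289 6
 Tr.leaf) 247291 6
 (Tr.node (Tr.node Tr.leaf 247809 6
 Tr.leaf) 247810 4
 Tr.leaf)) 247813 6
 (Tr.node (Tr.node (Tr.node Tr.leaf 247814 6
 Tr.leaf) 247819 6
 Tr.leaf) 247823 5
 (Tr.node Tr.leaf 247827 6
 Tr.leaf))) 247831 5
 (Tr.node (Tr.node (Tr.node (Tr.node Tr.leaf 247833 6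
 Tr.leaf) 247834 6
 Tr.leaf) 247837 6
 (Tr.node Tr.leaf 247838 6
 Tr.leaf)) 247841 6
 (Tr.node (Tr.node (Tr.node Tr.leaf 247842 6
 Tr.leaf) 247845 4
 Tr.leaf) 247846 6
 (Tr.node Tr.leaf 247851 6
 Tr.leaf))))) 247855 5
 (Tr.node (Tr.node (Tr.node (Tr.node (Tr.node (Tr.node Tr.leaf 247859 5
 Tr.leaf) 247863 6
 Tr.leaf) 247865 6
 (Tr.node (Tr.node Tr.leaf 247866 5
 Tr.leaf) 247869 5
 Tr.leaf)) 247870 5
 (Tr.node (Tr.node (Tr.node Tr.leaf 247873 4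
 Tr.leaf) 247874 6
 Tr.leaf) 247877 4
 (Tr.node Tr.leaf 247878 6
 Tr.leaf))) 247883 5
 (Tr.node (Tr.node (Tr.node (Tr.node Tr.leaf 247887 6
 Tr.leaf) 247891 6
 Tr.leaf) 247895 6
 (Tr.node Tr.leaf 247897 6
 Tr.leaf)) 247898 5
 (Tr.node (Tr.node (Tr.node Tr.leaf 247901 6
 Tr.leaf) 247902 6
 Tr.leaf) 247905 6
 (Tr.node Tr.leaf 247906 4
 Tr.leaf)))) 247909 6
 (Tr.node (Tr.node (Tr.node (Tr.node (Tr.node Tr.leaf 247910 6
 Tr.leaf) 247915 5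
 Tr.leaf) 247919 6
 (Tr.node (Tr.node Tr.leaf 247923 6
 Tr.leaf) 247927 5
 Tr.leaf)) 247929 5
 (Tr.node (Tr.node (Tr.node Tr.leaf 247930 5
 Tr.leaf) 247933 6
 Tr.leaf) 247934 6
 (Tr.node Tr.leaf 247937 4
 Tr.leaf))) 247938 6
 (Tr.node (Tr.node (Tr.node (Tr.node Tr.leaf 247941 6
 Tr.leaf) 247942 3
 Tr.leaf) 247947 6
 (Tr.node Tr.leaf 247951 6
 Tr.leaf)) 247955 6
 (Tr.node (Tr.node (Tr.node Tr.leaf 247959 6
 Tr.leaf) 247961 6
 Tr.leaf) 247962 6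
 (Tr.node Tr.leaf 247965 6
 Tr.leaf))))))) 247966 5
 (Tr.node (Tr.node (Tr.node (Tr.node (Tr.node (Tr.node (Tr.node (Tr.node Tr.leaf 247969 6
 Tr.leaf) 247970 5
 Tr.leaf) 247973 6
 (Tr.node (Tr.node Tr.leaf 247974 6
 Tr.leaf) 247979 6
 Tr.leaf)) 247983 6
 (Tr.node (Tr.node (Tr.node Tr.leaf 247987 6
 Tr.leaf) 247991 6
 Tr.leaf) 247993 5
 (Tr.node Tr.leaf 247994 6
 Tr.leaf))) 247997 6
 (Tr.node (Tr.node (Tr.node (Tr.node Tr.leaf 247998 5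
 Tr.leaf) 248001 6
 Tr.leaf) 248002 6
 (Tr.node (Tr.node Tr.leaf 248005 5
 Tr.leaf) 248006 6
 Tr.leaf)) 248011 6
 (Tr.node (Tr.node (Tr.node Tr.leaf 248015 6
 Tr.leaf) 248019 6
 Tr.leaf) 248023 6
 (Tr.node Tr.leaf 248025 6
 Tr.leaf)))) 248026 5
 (Tr.node (Tr.node (Tr.node (Tr.node (Tr.node Tr.leaf 248029 6
 Tr.leaf) 248030 6
 Tr.leaf) 248033 4
 (Tr.node (Tr.node Tr.leaf 248034 6
 Tr.leaf) 248037 5
 Tr.leaf)) 248038 4
 (Tr.node (Tr.node (Tr.node Tr.leaf 248043 5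
 Tr.leaf) 248047 6
 Tr.leaf) 248051 5
 (Tr.node Tr.leaf 248055 5
 Tr.leaf))) 248057 5
 (Tr.node (Tr.node (Tr.node (Tr.node Tr.leaf 248058 5
 Tr.leaf) 248061 6
 Tr.leaf) 248062 6
 (Tr.node Tr.leaf 248065 5
 Tr.leaf)) 248066 3
 (Tr.node (Tr.node (Tr.node Tr.leaf 248069 6
 Tr.leaf) 248070 6
 Tr.leaf) 248075 6
 (Tr.node Tr.leaf 248079 7
 Tr.leaf))))) 248083 6
 (Tr.node (Tr.node (Tr.node (Tr.node (Tr.node (Tr.node Tr.leaf 248087 6
 Tr.leaf) 248089 5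
 Tr.leaf) 248090 6
 (Tr.node (Tr.node Tr.leaf 248093 6
 Tr.leaf) 248094 5
 Tr.leaf)) 248097 6
 (Tr.node (Tr.node (Tr.node Tr.leaf 248098 6
 Tr.leaf) 248101 4
 Tr.leaf) 248102 6
 (Tr.node Tr.leaf 248107 6
 Tr.leaf))) 248111 5
 (Tr.node (Tr.node (Tr.node (Tr.node Tr.leaf 248115 5
 Tr.leaf) 248119 5
 Tr.leaf) 248121 5
 (Tr.node Tr.leaf 248122 6
 Tr.leaf)) 248125 6
 (Tr.node (Tr.node (Tr.node Tr.leaf 248126 5
 Tr.leaf) 248129 4
 Tr.leaf) 248130 6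
 (Tr.node Tr.leaf 248133 7
 Tr.leaf)))) 248134 3
 (Tr.node (Tr.node (Tr.node (Tr.node (Tr.node Tr.leaf 248139 5
 Tr.leaf) 248143 6
 Tr.leaf) 248147 5
 (Tr.node (Tr.node Tr.leaf 248151 5
 Tr.leaf) 248153 5
 Tr.leaf)) 248154 5
 (Tr.node (Tr.node (Tr.node Tr.leaf 248157 6
 Tr.leaf) 248158 6
 Tr.leaf) 248161 6
 (Tr.node Tr.leaf 248162 4
 Tr.leaf))) 248165 6
 (Tr.node (Tr.node (Tr.node (Tr.node Tr.leaf 248166 6
 Tr.leaf) 248171 5
 Tr.leaf) 248175 6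
 (Tr.node Tr.leaf 248179 5
 Tr.leaf)) 248183 6
 (Tr.node (Tr.node (Tr.node Tr.leaf 248185 6
 Tr.leaf) 248186 5
 Tr.leaf) 248189 5
 (Tr.node Tr.leaf 248190 5
 Tr.leaf)))))) 248193 5
 (Tr.node (Tr.node (Tr.node (Tr.node (Tr.node (Tr.node (Tr.node Tr.leaf 248194 5
 Tr.leaf) 248197 6
 Tr.leaf) 248198 5
 (Tr.node (Tr.node Tr.leaf 248203 6
 Tr.leaf) 248207 6
 Tr.leaf)) 248211 6
 (Tr.node (Tr.node (Tr.node Tr.leaf 248215 6
 Tr.leaf) 248217 6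
 Tr.leaf) 248218 6
 (Tr.node Tr.leaf 248221 6
 Tr.leaf))) 248222 5
 (Tr.node (Tr.node (Tr.node (Tr.node Tr.leaf 248225 4
 Tr.leaf) 248226 4
 Tr.leaf) 248229 6
 (Tr.node (Tr.node Tr.leaf 248230 6
 Tr.leaf) 248235 6
 Tr.leaf)) 248239 5
 (Tr.node (Tr.node (Tr.node Tr.leaf 248243 6
 Tr.leaf) 248247 6
 Tr.leaf) 248249 6
 (Tr.node Tr.leaf 248250 6
 Tr.leaf)))) 248253 6
 (Tr.node (Tr.node (Tr.node (Tr.node (Tr.node Tr.leaf 248254 5
 Tr.leaf) 248257 6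
 Tr.leaf) 248258 6
 (Tr.node (Tr.node Tr.leaf 248261 4
 Tr.leaf) 248262 6
 Tr.leaf)) 248267 6
 (Tr.node (Tr.node (Tr.node Tr.leaf 248271 7
 Tr.leaf) 248275 6
 Tr.leaf) 248279 6
 (Tr.node Tr.leaf 248281 6
 Tr.leaf))) 248282 5
 (Tr.node (Tr.node (Tr.node (Tr.node Tr.leaf 248285 6
 Tr.leaf) 248286 6
 Tr.leaf) 248289 4
 (Tr.node Tr.leaf 248290 6
 Tr.leaf)) 248293 6
 (Tr.node (Tr.node (Tr.node Tr.leaf 248294 5
 Tr.leaf) 248299 5
 Tr.leaf) 248303 6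
 (Tr.node Tr.leaf 248307 6
 Tr.leaf))))) 248311 6
 (Tr.node (Tr.node (Tr.node (Tr.node (Tr.node (Tr.node Tr.leaf 248313 6
 Tr.leaf) 248314 5
 Tr.leaf) 248317 6
 (Tr.node (Tr.node Tr.leaf 248318 6
 Tr.leaf) 248841 6
 Tr.leaf)) 248843 5
 (Tr.node (Tr.node (Tr.node Tr.leaf 248845 6
 Tr.leaf) 248847 5
 Tr.leaf) 248849 6
 (Tr.node Tr.leaf 248851 6
 Tr.leaf))) 248853 6
 (Tr.node (Tr.node (Tr.node (Tr.node Tr.leaf 248855 6
 Tr.leaf) 248873 6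
 Tr.leaf) 248875 5
 (Tr.node Tr.leaf 248877 6
 Tr.leaf)) 248879 6
 (Tr.node (Tr.node (Tr.node Tr.leaf 248881 5
 Tr.leaf) 248883 6
 Tr.leaf) 248885 6
 (Tr.node Tr.leaf 248887 6
 Tr.leaf)))) 248905 5
 (Tr.node (Tr.node (Tr.node (Tr.node (Tr.node Tr.leaf 248907 6
 Tr.leaf) 248909 5
 Tr.leaf) 248911 5
 (Tr.node (Tr.node Tr.leaf 248913 6
 Tr.leaf) 248915 6
 Tr.leaf)) 248917 5
 (Tr.node (Tr.node (Tr.node Tr.leaf 248919 4
 Tr.leaf) 248937 6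
 Tr.leaf) 248939 6
 (Tr.node Tr.leaf 248941 6
 Tr.leaf))) 248943 6
 (Tr.node (Tr.node (Tr.node (Tr.node Tr.leaf 248945 6
 Tr.leaf) 248947 6
 Tr.leaf) 248949 6
 (Tr.node Tr.leaf 248951 5
 Tr.leaf)) 248969 6
 (Tr.node (Tr.node (Tr.node Tr.leaf 248971 5
 Tr.leaf) 248973 6
 Tr.leaf) 248975 6
 (Tr.node Tr.leaf 248977 6
 Tr.leaf)))))))))

/-- A subtree. -/
def tr2_s61 : Tr := (Tr.node (Tr.node (Tr.node (Tr.node (Tr.node (Tr.node (Tr.node (Tr.node (Tr.node (Tr.node Tr.leaf 248981 6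
 Tr.leaf) 248983 5
 Tr.leaf) 249001 6
 (Tr.node (Tr.node Tr.leaf 249003 6
 Tr.leaf) 249005 5
 Tr.leaf)) 249007 6
 (Tr.node (Tr.node (Tr.node Tr.leaf 249009 5
 Tr.leaf) 249011 6
 Tr.leaf) 249013 6
 (Tr.node Tr.leaf 249015 6
 Tr.leaf))) 249033 6
 (Tr.node (Tr.node (Tr.node (Tr.node Tr.leaf 249035 6
 Tr.leaf) 249037 5
 Tr.leaf) 249039 5
 (Tr.node (Tr.node Tr.leaf 249041 5
 Tr.leaf) 249043 6
 Tr.leaf)) 249045 6
 (Tr.node (Tr.node (Tr.node Tr.leaf 249047 6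
 Tr.leaf) 249065 6
 Tr.leaf) 249067 6
 (Tr.node Tr.leaf 249069 6
 Tr.leaf)))) 249071 6
 (Tr.node (Tr.node (Tr.node (Tr.node (Tr.node Tr.leaf 249073 5
 Tr.leaf) 249075 5
 Tr.leaf) 249077 6
 (Tr.node (Tr.node Tr.leaf 249079 5
 Tr.leaf) 249097 6
 Tr.leaf)) 249099 6
 (Tr.node (Tr.node (Tr.node Tr.leaf 249101 6
 Tr.leaf) 249103 5
 Tr.leaf) 249105 5
 (Tr.node Tr.leaf 249107 5
 Tr.leaf))) 249109 6
 (Tr.node (Tr.node (Tr.node (Tr.node Tr.leaf 249111 6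
 Tr.leaf) 249129 5
 Tr.leaf) 249131 5
 (Tr.node Tr.leaf 249133 5
 Tr.leaf)) 249135 6
 (Tr.node (Tr.node (Tr.node Tr.leaf 249137 6
 Tr.leaf) 249139 6
 Tr.leaf) 249141 6
 (Tr.node Tr.leaf 249143 6
 Tr.leaf))))) 249161 6
 (Tr.node (Tr.node (Tr.node (Tr.node (Tr.node (Tr.node Tr.leaf 249163 6
 Tr.leaf) 249165 6
 Tr.leaf) 249167 6
 (Tr.node (Tr.node Tr.leaf 249169 5
 Tr.leaf) 249171 6
 Tr.leaf)) 249173 6
 (Tr.node (Tr.node (Tr.node Tr.leaf 249175 5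
 Tr.leaf) 249193 6
 Tr.leaf) 249195 6
 (Tr.node Tr.leaf 249197 6
 Tr.leaf))) 249199 6
 (Tr.node (Tr.node (Tr.node (Tr.node Tr.leaf 249201 6
 Tr.leaf) 249203 5
 Tr.leaf) 249205 6
 (Tr.node (Tr.node Tr.leaf 249207 6
 Tr.leaf) 249225 6
 Tr.leaf)) 249227 5
 (Tr.node (Tr.node (Tr.node Tr.leaf 249229 5
 Tr.leaf) 249231 6
 Tr.leaf) 249233 5
 (Tr.node Tr.leaf 249235 4
 Tr.leaf)))) 249237 6
 (Tr.node (Tr.node (Tr.node (Tr.node (Tr.node Tr.leaf 249239 6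
 Tr.leaf) 249257 6
 Tr.leaf) 249259 5
 (Tr.node (Tr.node Tr.leaf 249261 6
 Tr.leaf) 249263 5
 Tr.leaf)) 249265 6
 (Tr.node (Tr.node (Tr.node Tr.leaf 249267 6
 Tr.leaf) 249269 6
 Tr.leaf) 249271 6
 (Tr.node Tr.leaf 249289 6
 Tr.leaf))) 249291 6
 (Tr.node (Tr.node (Tr.node (Tr.node Tr.leaf 249293 6
 Tr.leaf) 249295 5
 Tr.leaf) 249297 4
 (Tr.node Tr.leaf 249299 6
 Tr.leaf)) 249301 6
 (Tr.node (Tr.node (Tr.node Tr.leaf 249303 5
 Tr.leaf) 249321 5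
 Tr.leaf) 249323 6
 (Tr.node Tr.leaf 249325 5
 Tr.leaf)))))) 249327 5
 (Tr.node (Tr.node (Tr.node (Tr.node (Tr.node (Tr.node (Tr.node Tr.leaf 249329 6
 Tr.leaf) 249331 6
 Tr.leaf) 249333 6
 (Tr.node (Tr.node Tr.leaf 249335 6
 Tr.leaf) 249857 5
 Tr.leaf)) 249858 4
 (Tr.node (Tr.node (Tr.node Tr.leaf 249860 5
 Tr.leaf) 249863 6
 Tr.leaf) 249865 6
 (Tr.node Tr.leaf 249866 5
 Tr.leaf))) 249868 6
 (Tr.node (Tr.node (Tr.node (Tr.node Tr.leaf 249871 5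
 Tr.leaf) 249875 6
 Tr.leaf) 249877 6
 (Tr.node (Tr.node Tr.leaf 249878 6
 Tr.leaf) 249883 6
 Tr.leaf)) 249885 6
 (Tr.node (Tr.node (Tr.node Tr.leaf 249886 5
 Tr.leaf) 249889 5
 Tr.leaf) 249890 5
 (Tr.node Tr.leaf 249892 5
 Tr.leaf)))) 249895 6
 (Tr.node (Tr.node (Tr.node (Tr.node (Tr.node Tr.leaf 249897 5
 Tr.leaf) 249898 4
 Tr.leaf) 249900 4
 (Tr.node (Tr.node Tr.leaf 249903 6
 Tr.leaf) 249907 5
 Tr.leaf)) 249909 6
 (Tr.node (Tr.node (Tr.node Tr.leaf 249910 5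
 Tr.leaf) 249915 6
 Tr.leaf) 249917 6
 (Tr.node Tr.leaf 249918 5
 Tr.leaf))) 249921 6
 (Tr.node (Tr.node (Tr.node (Tr.node Tr.leaf 249922 5
 Tr.leaf) 249924 6
 Tr.leaf) 249927 5
 (Tr.node Tr.leaf 249929 5
 Tr.leaf)) 249930 5
 (Tr.node (Tr.node (Tr.node Tr.leaf 249932 5
 Tr.leaf) 249935 6
 Tr.leaf) 249939 6
 (Tr.node Tr.leaf 249941 6
 Tr.leaf))))) 249942 6
 (Tr.node (Tr.node (Tr.node (Tr.node (Tr.node (Tr.node Tr.leaf 249947 6
 Tr.leaf) 249949 6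
 Tr.leaf) 249950 5
 (Tr.node (Tr.node Tr.leaf 249953 6
 Tr.leaf) 249954 6
 Tr.leaf)) 249956 6
 (Tr.node (Tr.node (Tr.node Tr.leaf 249959 5
 Tr.leaf) 249961 6
 Tr.leaf) 249962 6
 (Tr.node Tr.leaf 249964 6
 Tr.leaf))) 249967 5
 (Tr.node (Tr.node (Tr.node (Tr.node Tr.leaf 249971 5
 Tr.leaf) 249973 6
 Tr.leaf) 249974 5
 (Tr.node Tr.leaf 249979 6
 Tr.leaf)) 249981 5
 (Tr.node (Tr.node (Tr.node Tr.leaf 249982 6
 Tr.leaf) 249985 4
 Tr.leaf) 249986 3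
 (Tr.node Tr.leaf 249988 6
 Tr.leaf)))) 249991 7
 (Tr.node (Tr.node (Tr.node (Tr.node (Tr.node Tr.leaf 249993 6
 Tr.leaf) 249994 5
 Tr.leaf) 249996 6
 (Tr.node (Tr.node Tr.leaf 249999 6
 Tr.leaf) 250003 6
 Tr.leaf)) 250005 5
 (Tr.node (Tr.node (Tr.node Tr.leaf 250006 5
 Tr.leaf) 250011 6
 Tr.leaf) 250013 6
 (Tr.node Tr.leaf 250014 4
 Tr.leaf))) 250017 6
 (Tr.node (Tr.node (Tr.node (Tr.node Tr.leaf 250018 6
 Tr.leaf) 250020 6
 Tr.leaf) 250023 6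
 (Tr.node Tr.leaf 250025 5
 Tr.leaf)) 250026 5
 (Tr.node (Tr.node (Tr.node Tr.leaf 250028 6
 Tr.leaf) 250031 5
 Tr.leaf) 250035 5
 (Tr.node Tr.leaf 250037 6
 Tr.leaf))))))) 250038 5
 (Tr.node (Tr.node (Tr.node (Tr.node (Tr.node (Tr.node (Tr.node (Tr.node Tr.leaf 250043 6
 Tr.leaf) 250045 5
 Tr.leaf) 250046 6
 (Tr.node (Tr.node Tr.leaf 250049 6
 Tr.leaf) 250050 6
 Tr.leaf)) 250052 5
 (Tr.node (Tr.node (Tr.node Tr.leaf 250055 6
 Tr.leaf) 250057 5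
 Tr.leaf) 250058 4
 (Tr.node Tr.leaf 250060 3
 Tr.leaf))) 250063 6
 (Tr.node (Tr.node (Tr.node (Tr.node Tr.leaf 250067 6
 Tr.leaf) 250069 6
 Tr.leaf) 250070 5
 (Tr.node (Tr.node Tr.leaf 250075 6
 Tr.leaf) 250077 5
 Tr.leaf)) 250078 5
 (Tr.node (Tr.node (Tr.node Tr.leaf 250081 4
 Tr.leaf) 250082 6
 Tr.leaf) 250084 6
 (Tr.node Tr.leaf 250087 6
 Tr.leaf)))) 250089 6
 (Tr.node (Tr.node (Tr.node (Tr.node (Tr.node Tr.leaf 250090 6
 Tr.leaf) 250092 6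
 Tr.leaf) 250095 6
 (Tr.node (Tr.node Tr.leaf 250099 5
 Tr.leaf) 250101 5
 Tr.leaf)) 250102 6
 (Tr.node (Tr.node (Tr.node Tr.leaf 250107 6
 Tr.leaf) 250109 6
 Tr.leaf) 250110 6
 (Tr.node Tr.leaf 250113 4
 Tr.leaf))) 250114 6
 (Tr.node (Tr.node (Tr.node (Tr.node Tr.leaf 250116 6
 Tr.leaf) 250119 6
 Tr.leaf) 250121 6
 (Tr.node Tr.leaf 250122 5
 Tr.leaf)) 250124 5
 (Tr.node (Tr.node (Tr.node Tr.leaf 250127 6
 Tr.leaf) 250131 6
 Tr.leaf) 250133 6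
 (Tr.node Tr.leaf 250134 5
 Tr.leaf))))) 250139 6
 (Tr.node (Tr.node (Tr.node (Tr.node (Tr.node (Tr.node Tr.leaf 250141 6
 Tr.leaf) 250142 6
 Tr.leaf) 250145 5
 (Tr.node (Tr.node Tr.leaf 250146 4
 Tr.leaf) 250148 3
 Tr.leaf)) 250151 6
 (Tr.node (Tr.node (Tr.node Tr.leaf 250153 5
 Tr.leaf) 250154 6
 Tr.leaf) 250156 4
 (Tr.node Tr.leaf 250159 6
 Tr.leaf))) 250163 7
 (Tr.node (Tr.node (Tr.node (Tr.node Tr.leaf 250165 5
 Tr.leaf) 250166 6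
 Tr.leaf) 250171 5
 (Tr.node Tr.leaf 250173 6
 Tr.leaf)) 250174 6
 (Tr.node (Tr.node (Tr.node Tr.leaf 250177 4
 Tr.leaf) 250178 4
 Tr.leaf) 250180 6
 (Tr.node Tr.leaf 250183 6
 Tr.leaf)))) 250185 6
 (Tr.node (Tr.node (Tr.node (Tr.node (Tr.node Tr.leaf 250186 6
 Tr.leaf) 250188 6
 Tr.leaf) 250191 6
 (Tr.node (Tr.node Tr.leaf 250195 5
 Tr.leaf) 250197 6
 Tr.leaf)) 250198 6
 (Tr.node (Tr.node (Tr.node Tr.leaf 250203 6
 Tr.leaf) 250205 5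
 Tr.leaf) 250206 6
 (Tr.node Tr.leaf 250209 6
 Tr.leaf))) 250210 6
 (Tr.node (Tr.node (Tr.node (Tr.node Tr.leaf 250212 5
 Tr.leaf) 250215 5
 Tr.leaf) 250217 4
 (Tr.node Tr.leaf 250218 3
 Tr.leaf)) 250220 6
 (Tr.node (Tr.node (Tr.node Tr.leaf 250223 6
 Tr.leaf) 250227 6
 Tr.leaf) 250229 6
 (Tr.node Tr.leaf 250230 6
 Tr.leaf)))))) 250235 6
 (Tr.node (Tr.node (Tr.node (Tr.node (Tr.node (Tr.node (Tr.node Tr.leaf 250237 6
 Tr.leaf) 250238 6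
 Tr.leaf) 250241 6
 (Tr.node (Tr.node Tr.leaf 250242 6
 Tr.leaf) 250244 6
 Tr.leaf)) 250247 6
 (Tr.node (Tr.node (Tr.node Tr.leaf 250249 6
 Tr.leaf) 250250 6
 Tr.leaf) 250252 6
 (Tr.node Tr.leaf 250255 6
 Tr.leaf))) 250259 5
 (Tr.node (Tr.node (Tr.node (Tr.node Tr.leaf 250261 6
 Tr.leaf) 250262 5
 Tr.leaf) 250267 6
 (Tr.node (Tr.node Tr.leaf 250269 6
 Tr.leaf) 250270 5
 Tr.leaf)) 250273 5
 (Tr.node (Tr.node (Tr.node Tr.leaf 250274 4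
 Tr.leaf) 250276 5
 Tr.leaf) 250279 5
 (Tr.node Tr.leaf 250281 4
 Tr.leaf)))) 250282 5
 (Tr.node (Tr.node (Tr.node (Tr.node (Tr.node Tr.leaf 250284 6
 Tr.leaf) 250287 5
 Tr.leaf) 250291 6
 (Tr.node (Tr.node Tr.leaf 250293 6
 Tr.leaf) 250294 6
 Tr.leaf)) 250299 5
 (Tr.node (Tr.node (Tr.node Tr.leaf 250301 6
 Tr.leaf) 250302 6
 Tr.leaf) 250305 5
 (Tr.node Tr.leaf 250306 4
 Tr.leaf))) 250308 4
 (Tr.node (Tr.node (Tr.node (Tr.node Tr.leaf 250311 5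
 Tr.leaf) 250313 4
 Tr.leaf) 250314 6
 (Tr.node Tr.leaf 250316 4
 Tr.leaf)) 250319 6
 (Tr.node (Tr.node (Tr.node Tr.leaf 250323 6
 Tr.leaf) 250325 6
 Tr.leaf) 250326 5
 (Tr.node Tr.leaf 250331 6
 Tr.leaf))))) 250333 6
 (Tr.node (Tr.node (Tr.node (Tr.node (Tr.node (Tr.node Tr.leaf 250334 5
 Tr.leaf) 250337 6
 Tr.leaf) 250338 5
 (Tr.node (Tr.node Tr.leaf 250340 6
 Tr.leaf) 250343 5
 Tr.leaf)) 250345 4
 (Tr.node (Tr.node (Tr.node Tr.leaf 250346 5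
 Tr.leaf) 250348 5
 Tr.leaf) 250351 6
 (Tr.node Tr.leaf 250355 6
 Tr.leaf))) 250357 6
 (Tr.node (Tr.node (Tr.node (Tr.node Tr.leaf 250358 6
 Tr.leaf) 250363 6
 Tr.leaf) 250365 5
 (Tr.node Tr.leaf 250366 5
 Tr.leaf)) 250885 6
 (Tr.node (Tr.node (Tr.node Tr.leaf 250887 5
 Tr.leaf) 250893 6
 Tr.leaf) 250895 5
 (Tr.node Tr.leaf 250897 6
 Tr.leaf)))) 250899 6
 (Tr.node (Tr.node (Tr.node (Tr.node (Tr.node Tr.leaf 250905 6
 Tr.leaf) 250907 6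
 Tr.leaf) 250917 6
 (Tr.node (Tr.node Tr.leaf 250919 6
 Tr.leaf) 250925 6
 Tr.leaf)) 250927 6
 (Tr.node (Tr.node (Tr.node Tr.leaf 250929 6
 Tr.leaf) 250931 6
 Tr.leaf) 250937 6
 (Tr.node Tr.leaf 250939 5
 Tr.leaf))) 250949 5
 (Tr.node (Tr.node (Tr.node (Tr.node Tr.leaf 250951 6
 Tr.leaf) 250957 5
 Tr.leaf) 250959 6
 (Tr.node Tr.leaf 250961 6
 Tr.leaf)) 250963 5
 (Tr.node (Tr.node (Tr.node Tr.leaf 250969 6
 Tr.leaf) 250971 6
 Tr.leaf) 250981 6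
 (Tr.node Tr.leaf 250983 6
 Tr.leaf)))))))) 250989 6
 (Tr.node (Tr.node (Tr.node (Tr.node (Tr.node (Tr.node (Tr.node (Tr.node (Tr.node Tr.leaf 250991 6
 Tr.leaf) 250993 6
 Tr.leaf) 250995 6
 (Tr.node (Tr.node Tr.leaf 251001 5
 Tr.leaf) 251003 6
 Tr.leaf)) 251013 6
 (Tr.node (Tr.node (Tr.node Tr.leaf 251015 5
 Tr.leaf) 251021 6
 Tr.leaf) 251023 4
 (Tr.node Tr.leaf 251025 5
 Tr.leaf))) 251027 6
 (Tr.node (Tr.node (Tr.node (Tr.node Tr.leaf 251033 6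
 Tr.leaf) 251035 5
 Tr.leaf) 251045 6
 (Tr.node (Tr.node Tr.leaf 251047 6
 Tr.leaf) 251053 5
 Tr.leaf)) 251055 6
 (Tr.node (Tr.node (Tr.node Tr.leaf 251057 5
 Tr.leaf) 251059 5
 Tr.leaf) 251065 6
 (Tr.node Tr.leaf 251067 6
 Tr.leaf)))) 251077 6
 (Tr.node (Tr.node (Tr.node (Tr.node (Tr.node Tr.leaf 251079 6
 Tr.leaf) 251085 6
 Tr.leaf) 251087 6
 (Tr.node (Tr.node Tr.leaf 251089 5
 Tr.leaf) 251091 5
 Tr.leaf)) 251097 6
 (Tr.node (Tr.node (Tr.node Tr.leaf 251099 5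
 Tr.leaf) 251109 6
 Tr.leaf) 251111 6
 (Tr.node Tr.leaf 251117 6
 Tr.leaf))) 251119 6
 (Tr.node (Tr.node (Tr.node (Tr.node Tr.leaf 251121 6
 Tr.leaf) 251123 6
 Tr.leaf) 251129 6
 (Tr.node Tr.leaf 251131 5
 Tr.leaf)) 251141 6
 (Tr.node (Tr.node (Tr.node Tr.leaf 251143 5
 Tr.leaf) 251149 5
 Tr.leaf) 251151 4
 (Tr.node Tr.leaf 251153 5
 Tr.leaf))))) 251155 6
 (Tr.node (Tr.node (Tr.node (Tr.node (Tr.node (Tr.node Tr.leaf 251161 6
 Tr.leaf) 251163 6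
 Tr.leaf) 251173 5
 (Tr.node (Tr.node Tr.leaf 251175 6
 Tr.leaf) 251181 6
 Tr.leaf)) 251183 6
 (Tr.node (Tr.node (Tr.node Tr.leaf 251185 5
 Tr.leaf) 251187 6
 Tr.leaf) 251193 5
 (Tr.node Tr.leaf 251195 6
 Tr.leaf))) 251205 6
 (Tr.node (Tr.node (Tr.node (Tr.node Tr.leaf 251207 6
 Tr.leaf) 251213 5
 Tr.leaf) 251215 6
 (Tr.node Tr.leaf 251217 6
 Tr.leaf)) 251219 6
 (Tr.node (Tr.node (Tr.node Tr.leaf 251225 6
 Tr.leaf) 251227 5
 Tr.leaf) 251237 6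
 (Tr.node Tr.leaf 251239 6
 Tr.leaf)))) 251245 6
 (Tr.node (Tr.node (Tr.node (Tr.node (Tr.node Tr.leaf 251247 6
 Tr.leaf) 251249 6
 Tr.leaf) 251251 6
 (Tr.node (Tr.node Tr.leaf 251257 6
 Tr.leaf) 251259 5
 Tr.leaf)) 251269 6
 (Tr.node (Tr.node (Tr.node Tr.leaf 251271 6
 Tr.leaf) 251277 6
 Tr.leaf) 251279 6
 (Tr.node Tr.leaf 251281 6
 Tr.leaf))) 251283 6
 (Tr.node (Tr.node (Tr.node (Tr.node Tr.leaf 251289 6
 Tr.leaf) 251291 6
 Tr.leaf) 251301 4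
 (Tr.node Tr.leaf 251303 5
 Tr.leaf)) 251309 6
 (Tr.node (Tr.node (Tr.node Tr.leaf 251311 5
 Tr.leaf) 251313 5
 Tr.leaf) 251315 6
 (Tr.node Tr.leaf 251321 5
 Tr.leaf)))))) 251323 6
 (Tr.node (Tr.node (Tr.node (Tr.node (Tr.node (Tr.node (Tr.node Tr.leaf 251333 6
 Tr.leaf) 251335 5
 Tr.leaf) 251341 5
 (Tr.node (Tr.node Tr.leaf 251343 6
 Tr.leaf) 251345 6
 Tr.leaf)) 251347 6
 (Tr.node (Tr.node (Tr.node Tr.leaf 251353 6
 Tr.leaf) 251355 6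
 Tr.leaf) 251365 5
 (Tr.node Tr.leaf 251367 5
 Tr.leaf))) 251373 5
 (Tr.node (Tr.node (Tr.node (Tr.node Tr.leaf 251375 6
 Tr.leaf) 251377 6
 Tr.leaf) 251379 6
 (Tr.node (Tr.node Tr.leaf 251385 6
 Tr.leaf) 251387 5
 Tr.leaf)) 251907 5
 (Tr.node (Tr.node (Tr.node Tr.leaf 251911 5
 Tr.leaf) 251915 5
 Tr.leaf) 251919 6
 (Tr.node Tr.leaf 251921 6
 Tr.leaf)))) 251922 6
 (Tr.node (Tr.node (Tr.node (Tr.node (Tr.node Tr.leaf 251925 6
 Tr.leaf) 251926 6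
 Tr.leaf) 251929 6
 (Tr.node (Tr.node Tr.leaf 251930 6
 Tr.leaf) 251933 6
 Tr.leaf)) 251934 6
 (Tr.node (Tr.node (Tr.node Tr.leaf 251939 6
 Tr.leaf) 251943 6
 Tr.leaf) 251947 6
 (Tr.node Tr.leaf 251951 6
 Tr.leaf))) 251953 5
 (Tr.node (Tr.node (Tr.node (Tr.node Tr.leaf 251954 6
 Tr.leaf) 251957 6
 Tr.leaf) 251958 5
 (Tr.node Tr.leaf 251961 6
 Tr.leaf)) 251962 5
 (Tr.node (Tr.node (Tr.node Tr.leaf 251965 6
 Tr.leaf) 251966 5
 Tr.leaf) 251971 6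
 (Tr.node Tr.leaf 251975 5
 Tr.leaf))))) 251979 5
 (Tr.node (Tr.node (Tr.node (Tr.node (Tr.node (Tr.node Tr.leaf 251983 6
 Tr.leaf) 251985 6
 Tr.leaf) 251986 6
 (Tr.node (Tr.node Tr.leaf 251989 6
 Tr.leaf) 251990 5
 Tr.leaf)) 251993 6
 (Tr.node (Tr.node (Tr.node Tr.leaf 251994 6
 Tr.leaf) 251997 6
 Tr.leaf) 251998 6
 (Tr.node Tr.leaf 252003 6
 Tr.leaf))) 252007 5
 (Tr.node (Tr.node (Tr.node (Tr.node Tr.leaf 252011 6
 Tr.leaf) 252015 5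
 Tr.leaf) 252017 5
 (Tr.node Tr.leaf 252018 5
 Tr.leaf)) 252021 6
 (Tr.node (Tr.node (Tr.node Tr.leaf 252022 5
 Tr.leaf) 252025 6
 Tr.leaf) 252026 6
 (Tr.node Tr.leaf 252029 6
 Tr.leaf)))) 252030 5
 (Tr.node (Tr.node (Tr.node (Tr.node (Tr.node Tr.leaf 252035 6
 Tr.leaf) 252039 6
 Tr.leaf) 252043 6
 (Tr.node (Tr.node Tr.leaf 252047 5
 Tr.leaf) 252049 5
 Tr.leaf)) 252050 5
 (Tr.node (Tr.node (Tr.node Tr.leaf 252053 6
 Tr.leaf) 252054 5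
 Tr.leaf) 252057 6
 (Tr.node Tr.leaf 252058 5
 Tr.leaf))) 252061 6
 (Tr.node (Tr.node (Tr.node (Tr.node Tr.leaf 252062 5
 Tr.leaf) 252067 6
 Tr.leaf) 252071 5
 (Tr.node Tr.leaf 252075 6
 Tr.leaf)) 252079 6
 (Tr.node (Tr.node (Tr.node Tr.leaf 252081 5
 Tr.leaf) 252082 5
 Tr.leaf) 252085 6
 (Tr.node Tr.leaf 252086 6
 Tr.leaf))))))) 252089 6
 (Tr.node (Tr.node (Tr.node (Tr.node (Tr.node (Tr.node (Tr.node (Tr.node Tr.leaf 252090 5
 Tr.leaf) 252093 6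
 Tr.leaf) 252094 5
 (Tr.node (Tr.node Tr.leaf 252099 6
 Tr.leaf) 252103 5
 Tr.leaf)) 252107 6
 (Tr.node (Tr.node (Tr.node Tr.leaf 252111 6
 Tr.leaf) 252113 6
 Tr.leaf) 252114 5
 (Tr.node Tr.leaf 252117 4
 Tr.leaf))) 252118 5
 (Tr.node (Tr.node (Tr.node (Tr.node Tr.leaf 252121 4
 Tr.leaf) 252122 5
 Tr.leaf) 252125 5
 (Tr.node (Tr.node Tr.leaf 252126 5
 Tr.leaf) 252131 6
 Tr.leaf)) 252135 6
 (Tr.node (Tr.node (Tr.node Tr.leaf 252139 6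
 Tr.leaf) 252143 6
 Tr.leaf) 252145 6
 (Tr.node Tr.leaf 252146 4
 Tr.leaf)))) 252149 5
 (Tr.node (Tr.node (Tr.node (Tr.node (Tr.node Tr.leaf 252150 5
 Tr.leaf) 252153 5
 Tr.leaf) 252154 6
 (Tr.node (Tr.node Tr.leaf 252157 5
 Tr.leaf) 252158 6
 Tr.leaf)) 252163 6
 (Tr.node (Tr.node (Tr.node Tr.leaf 252167 6
 Tr.leaf) 252171 6
 Tr.leaf) 252175 5
 (Tr.node Tr.leaf 252177 5
 Tr.leaf))) 252178 6
 (Tr.node (Tr.node (Tr.node (Tr.node Tr.leaf 252181 6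
 Tr.leaf) 252182 6
 Tr.leaf) 252185 6
 (Tr.node Tr.leaf 252186 5
 Tr.leaf)) 252189 6
 (Tr.node (Tr.node (Tr.node Tr.leaf 252190 6
 Tr.leaf) 252195 6
 Tr.leaf) 252199 6
 (Tr.node Tr.leaf 252203 6
 Tr.leaf))))) 252207 6
 (Tr.node (Tr.node (Tr.node (Tr.node (Tr.node (Tr.node Tr.leaf 252209 5
 Tr.leaf) 252210 5
 Tr.leaf) 252213 6
 (Tr.node (Tr.node Tr.leaf 252214 5
 Tr.leaf) 252217 6
 Tr.leaf)) 252218 5
 (Tr.node (Tr.node (Tr.node Tr.leaf 252221 6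
 Tr.leaf) 252222 5
 Tr.leaf) 252227 6
 (Tr.node Tr.leaf 252231 6
 Tr.leaf))) 252235 6
 (Tr.node (Tr.node (Tr.node (Tr.node Tr.leaf 252239 6
 Tr.leaf) 252241 5
 Tr.leaf) 252242 6
 (Tr.node Tr.leaf 252245 6
 Tr.leaf)) 252246 5
 (Tr.node (Tr.node (Tr.node Tr.leaf 252249 5
 Tr.leaf) 252250 6
 Tr.leaf) 252253 5
 (Tr.node Tr.leaf 252254 6
 Tr.leaf)))) 252259 6
 (Tr.node (Tr.node (Tr.node (Tr.node (Tr.node Tr.leaf 252263 5
 Tr.leaf) 252267 6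
 Tr.leaf) 252271 6
 (Tr.node (Tr.node Tr.leaf 252273 6
 Tr.leaf) 252274 5
 Tr.leaf)) 252277 6
 (Tr.node (Tr.node (Tr.node Tr.leaf 252278 5
 Tr.leaf) 252281 6
 Tr.leaf) 252282 5
 (Tr.node Tr.leaf 252285 5
 Tr.leaf))) 252286 5
 (Tr.node (Tr.node (Tr.node (Tr.node Tr.leaf 252291 5
 Tr.leaf) 252295 6
 Tr.leaf) 252299 5
 (Tr.node Tr.leaf 252303 6
 Tr.leaf)) 252305 6
 (Tr.node (Tr.node (Tr.node Tr.leaf 252306 6
 Tr.leaf) 252309 5
 Tr.leaf) 252310 5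
 (Tr.node Tr.leaf 252313 6
 Tr.leaf)))))) 252314 5
 (Tr.node (Tr.node (Tr.node (Tr.node (Tr.node (Tr.node (Tr.node Tr.leaf 252317 6
 Tr.leaf) 252318 5
 Tr.leaf) 252323 5
 (Tr.node (Tr.node Tr.leaf 252327 5
 Tr.leaf) 252331 5
 Tr.leaf)) 252335 6
 (Tr.node (Tr.node (Tr.node Tr.leaf 252337 4
 Tr.leaf) 252338 6
 Tr.leaf) 252341 6
 (Tr.node Tr.leaf 252342 6
 Tr.leaf))) 252345 5
 (Tr.node (Tr.node (Tr.node (Tr.node Tr.leaf 252346 6
 Tr.leaf) 252349 6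
 Tr.leaf) 252350 4
 (Tr.node (Tr.node Tr.leaf 252355 6
 Tr.leaf) 252359 6
 Tr.leaf)) 252363 6
 (Tr.node (Tr.node (Tr.node Tr.leaf 252367 6
 Tr.leaf) 252369 6
 Tr.leaf) 252370 5
 (Tr.node Tr.leaf 252373 6
 Tr.leaf)))) 252374 5
 (Tr.node (Tr.node (Tr.node (Tr.node (Tr.node Tr.leaf 252377 5
 Tr.leaf) 252378 5
 Tr.leaf) 252381 6
 (Tr.node (Tr.node Tr.leaf 252382 6
 Tr.leaf) 252387 6
 Tr.leaf)) 252391 5
 (Tr.node (Tr.node (Tr.node Tr.leaf 252395 5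
 Tr.leaf) 252399 6
 Tr.leaf) 252401 6
 (Tr.node Tr.leaf 252402 6
 Tr.leaf))) 252405 6
 (Tr.node (Tr.node (Tr.node (Tr.node Tr.leaf 252406 5
 Tr.leaf) 252409 6
 Tr.leaf) 252410 5
 (Tr.node Tr.leaf 252413 6
 Tr.leaf)) 252414 5
 (Tr.node (Tr.node (Tr.node Tr.leaf 252929 6
 Tr.leaf) 252931 6
 Tr.leaf) 252933 6
 (Tr.node Tr.leaf 252935 6
 Tr.leaf))))) 252937 6
 (Tr.node (Tr.node (Tr.node (Tr.node (Tr.node (Tr.node Tr.leaf 252939 7
 Tr.leaf) 252941 6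
 Tr.leaf) 252943 6
 (Tr.node (Tr.node Tr.leaf 252961 6
 Tr.leaf) 252963 6
 Tr.leaf)) 252965 6
 (Tr.node (Tr.node (Tr.node Tr.leaf 252967 5
 Tr.leaf) 252969 6
 Tr.leaf) 252971 5
 (Tr.node Tr.leaf 252973 6
 Tr.leaf))) 252975 6
 (Tr.node (Tr.node (Tr.node (Tr.node Tr.leaf 252993 5
 Tr.leaf) 252995 6
 Tr.leaf) 252997 6
 (Tr.node Tr.leaf 252999 6
 Tr.leaf)) 253001 5
 (Tr.node (Tr.node (Tr.node Tr.leaf 253003 5
 Tr.leaf) 253005 5
 Tr.leaf) 253007 6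
 (Tr.node Tr.leaf 253025 6
 Tr.leaf)))) 253027 6
 (Tr.node (Tr.node (Tr.node (Tr.node (Tr.node Tr.leaf 253029 6
 Tr.leaf) 253031 6
 Tr.leaf) 253033 6
 (Tr.node (Tr.node Tr.leaf 253035 6
 Tr.leaf) 253037 5
 Tr.leaf)) 253039 5
 (Tr.node (Tr.node (Tr.node Tr.leaf 253057 6
 Tr.leaf) 253059 6
 Tr.leaf) 253061 6
 (Tr.node Tr.leaf 253063 6
 Tr.leaf))) 253065 6
 (Tr.node (Tr.node (Tr.node (Tr.node Tr.leaf 253067 6
 Tr.leaf) 253069 6
 Tr.leaf) 253071 6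
 (Tr.node Tr.leaf 253089 7
 Tr.leaf)) 253091 6
 (Tr.node (Tr.node (Tr.node Tr.leaf 253093 6
 Tr.leaf) 253095 6
 Tr.leaf) 253097 6
 (Tr.node Tr.leaf 253099 6
 Tr.leaf)))))))))

/-- A subtree. -/
def tr2_s62 : Tr := (Tr.node (Tr.node (Tr.node (Tr.node (Tr.node (Tr.node (Tr.node (Tr.node (Tr.node (Tr.node Tr.leaf 253103 6
 Tr.leaf) 253121 6
 Tr.leaf) 253123 6
 (Tr.node (Tr.node Tr.leaf 253125 6
 Tr.leaf) 253127 6
 Tr.leaf)) 253129 6
 (Tr.node (Tr.node (Tr.node Tr.leaf 253131 6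
 Tr.leaf) 253133 6
 Tr.leaf) 253135 6
 (Tr.node Tr.leaf 253153 6
 Tr.leaf))) 253155 6
 (Tr.node (Tr.node (Tr.node (Tr.node Tr.leaf 253157 6
 Tr.leaf) 253159 6
 Tr.leaf) 253161 6
 (Tr.node (Tr.node Tr.leaf 253163 6
 Tr.leaf) 253165 6
 Tr.leaf)) 253167 6
 (Tr.node (Tr.node (Tr.node Tr.leaf 253185 6
 Tr.leaf) 253187 6
 Tr.leaf) 253189 6
 (Tr.node Tr.leaf 253191 6
 Tr.leaf)))) 253193 6
 (Tr.node (Tr.node (Tr.node (Tr.node (Tr.node Tr.leaf 253195 6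
 Tr.leaf) 253197 6
 Tr.leaf) 253199 6
 (Tr.node (Tr.node Tr.leaf 253217 5
 Tr.leaf) 253219 6
 Tr.leaf)) 253221 6
 (Tr.node (Tr.node (Tr.node Tr.leaf 253223 6
 Tr.leaf) 253225 5
 Tr.leaf) 253227 6
 (Tr.node Tr.leaf 253229 6
 Tr.leaf))) 253231 6
 (Tr.node (Tr.node (Tr.node (Tr.node Tr.leaf 253249 5
 Tr.leaf) 253251 6
 Tr.leaf) 253253 6
 (Tr.node Tr.leaf 253255 6
 Tr.leaf)) 253257 6
 (Tr.node (Tr.node (Tr.node Tr.leaf 253259 6
 Tr.leaf) 253261 6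
 Tr.leaf) 253263 6
 (Tr.node Tr.leaf 253281 6
 Tr.leaf))))) 253283 6
 (Tr.node (Tr.node (Tr.node (Tr.node (Tr.node (Tr.node Tr.leaf 253285 5
 Tr.leaf) 253287 6
 Tr.leaf) 253289 6
 (Tr.node (Tr.node Tr.leaf 253291 6
 Tr.leaf) 253293 6
 Tr.leaf)) 253295 6
 (Tr.node (Tr.node (Tr.node Tr.leaf 253313 6
 Tr.leaf) 253315 6
 Tr.leaf) 253317 6
 (Tr.node Tr.leaf 253319 6
 Tr.leaf))) 253321 6
 (Tr.node (Tr.node (Tr.node (Tr.node Tr.leaf 253323 6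
 Tr.leaf) 253325 6
 Tr.leaf) 253327 6
 (Tr.node (Tr.node Tr.leaf 253345 6
 Tr.leaf) 253347 6
 Tr.leaf)) 253349 6
 (Tr.node (Tr.node (Tr.node Tr.leaf 253351 6
 Tr.leaf) 253353 5
 Tr.leaf) 253355 6
 (Tr.node Tr.leaf 253357 6
 Tr.leaf)))) 253359 6
 (Tr.node (Tr.node (Tr.node (Tr.node (Tr.node Tr.leaf 253377 6
 Tr.leaf) 253379 6
 Tr.leaf) 253381 6
 (Tr.node (Tr.node Tr.leaf 253383 6
 Tr.leaf) 253385 6
 Tr.leaf)) 253387 6
 (Tr.node (Tr.node (Tr.node Tr.leaf 253389 6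
 Tr.leaf) 253391 6
 Tr.leaf) 253409 5
 (Tr.node Tr.leaf 253411 6
 Tr.leaf))) 253413 6
 (Tr.node (Tr.node (Tr.node (Tr.node Tr.leaf 253415 6
 Tr.leaf) 253417 5
 Tr.leaf) 253419 5
 (Tr.node Tr.leaf 253421 6
 Tr.leaf)) 253423 6
 (Tr.node (Tr.node (Tr.node Tr.leaf 253953 6
 Tr.leaf) 253954 6
 Tr.leaf) 253956 5
 (Tr.node Tr.leaf 253959 6
 Tr.leaf)))))) 253960 5
 (Tr.node (Tr.node (Tr.node (Tr.node (Tr.node (Tr.node (Tr.node Tr.leaf 253963 6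
 Tr.leaf) 253965 6
 Tr.leaf) 253966 6
 (Tr.node (Tr.node Tr.leaf 253969 6
 Tr.leaf) 253970 6
 Tr.leaf)) 253972 5
 (Tr.node (Tr.node (Tr.node Tr.leaf 253975 6
 Tr.leaf) 253976 6
 Tr.leaf) 253979 6
 (Tr.node Tr.leaf 253981 6
 Tr.leaf))) 253982 5
 (Tr.node (Tr.node (Tr.node (Tr.node Tr.leaf 253985 4
 Tr.leaf) 253986 6
 Tr.leaf) 253988 6
 (Tr.node (Tr.node Tr.leaf 253991 5
 Tr.leaf) 253992 6
 Tr.leaf)) 253995 6
 (Tr.node (Tr.node (Tr.node Tr.leaf 253997 6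
 Tr.leaf) 253998 6
 Tr.leaf) 254001 6
 (Tr.node Tr.leaf 254002 6
 Tr.leaf)))) 254004 6
 (Tr.node (Tr.node (Tr.node (Tr.node (Tr.node Tr.leaf 254007 6
 Tr.leaf) 254008 6
 Tr.leaf) 254011 6
 (Tr.node (Tr.node Tr.leaf 254013 6
 Tr.leaf) 254014 6
 Tr.leaf)) 254017 6
 (Tr.node (Tr.node (Tr.node Tr.leaf 254018 5
 Tr.leaf) 254020 6
 Tr.leaf) 254023 6
 (Tr.node Tr.leaf 254024 6
 Tr.leaf))) 254027 6
 (Tr.node (Tr.node (Tr.node (Tr.node Tr.leaf 254029 6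
 Tr.leaf) 254030 6
 Tr.leaf) 254033 6
 (Tr.node Tr.leaf 254034 6
 Tr.leaf)) 254036 6
 (Tr.node (Tr.node (Tr.node Tr.leaf 254039 6
 Tr.leaf) 254040 6
 Tr.leaf) 254043 5
 (Tr.node Tr.leaf 254045 6
 Tr.leaf))))) 254046 5
 (Tr.node (Tr.node (Tr.node (Tr.node (Tr.node (Tr.node Tr.leaf 254049 4
 Tr.leaf) 254050 4
 Tr.leaf) 254052 4
 (Tr.node (Tr.node Tr.leaf 254055 5
 Tr.leaf) 254056 6
 Tr.leaf)) 254059 6
 (Tr.node (Tr.node (Tr.node Tr.leaf 254061 7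
 Tr.leaf) 254062 6
 Tr.leaf) 254065 6
 (Tr.node Tr.leaf 254066 6
 Tr.leaf))) 254068 5
 (Tr.node (Tr.node (Tr.node (Tr.node Tr.leaf 254071 6
 Tr.leaf) 254072 7
 Tr.leaf) 254075 6
 (Tr.node Tr.leaf 254077 6
 Tr.leaf)) 254078 6
 (Tr.node (Tr.node (Tr.node Tr.leaf 254081 4
 Tr.leaf) 254082 6
 Tr.leaf) 254084 6
 (Tr.node Tr.leaf 254087 6
 Tr.leaf)))) 254088 6
 (Tr.node (Tr.node (Tr.node (Tr.node (Tr.node Tr.leaf 254091 6
 Tr.leaf) 254093 6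
 Tr.leaf) 254094 6
 (Tr.node (Tr.node Tr.leaf 254097 6
 Tr.leaf) 254098 6
 Tr.leaf)) 254100 6
 (Tr.node (Tr.node (Tr.node Tr.leaf 254103 6
 Tr.leaf) 254104 6
 Tr.leaf) 254107 6
 (Tr.node Tr.leaf 254109 6
 Tr.leaf))) 254110 7
 (Tr.node (Tr.node (Tr.node (Tr.node Tr.leaf 254113 6
 Tr.leaf) 254114 6
 Tr.leaf) 254116 4
 (Tr.node Tr.leaf 254119 6
 Tr.leaf)) 254120 6
 (Tr.node (Tr.node (Tr.node Tr.leaf 254123 6
 Tr.leaf) 254125 6
 Tr.leaf) 254126 6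
 (Tr.node Tr.leaf 254129 6
 Tr.leaf))))))) 254130 6
 (Tr.node (Tr.node (Tr.node (Tr.node (Tr.node (Tr.node (Tr.node (Tr.node Tr.leaf 254132 4
 Tr.leaf) 254135 6
 Tr.leaf) 254136 6
 (Tr.node (Tr.node Tr.leaf 254139 6
 Tr.leaf) 254141 6
 Tr.leaf)) 254142 6
 (Tr.node (Tr.node (Tr.node Tr.leaf 254145 6
 Tr.leaf) 254146 5
 Tr.leaf) 254148 6
 (Tr.node Tr.leaf 254151 6
 Tr.leaf))) 254152 6
 (Tr.node (Tr.node (Tr.node (Tr.node Tr.leaf 254155 6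
 Tr.leaf) 254157 6
 Tr.leaf) 254158 6
 (Tr.node (Tr.node Tr.leaf 254161 6
 Tr.leaf) 254162 6
 Tr.leaf)) 254164 6
 (Tr.node (Tr.node (Tr.node Tr.leaf 254167 6
 Tr.leaf) 254168 6
 Tr.leaf) 254171 6
 (Tr.node Tr.leaf 254173 6
 Tr.leaf)))) 254174 6
 (Tr.node (Tr.node (Tr.node (Tr.node (Tr.node Tr.leaf 254177 6
 Tr.leaf) 254178 5
 Tr.leaf) 254180 6
 (Tr.node (Tr.node Tr.leaf 254183 6
 Tr.leaf) 254184 6
 Tr.leaf)) 254187 6
 (Tr.node (Tr.node (Tr.node Tr.leaf 254189 6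
 Tr.leaf) 254190 6
 Tr.leaf) 254193 4
 (Tr.node Tr.leaf 254194 6
 Tr.leaf))) 254196 6
 (Tr.node (Tr.node (Tr.node (Tr.node Tr.leaf 254199 6
 Tr.leaf) 254200 6
 Tr.leaf) 254203 6
 (Tr.node Tr.leaf 254205 6
 Tr.leaf)) 254206 5
 (Tr.node (Tr.node (Tr.node Tr.leaf 254209 6
 Tr.leaf) 254210 3
 Tr.leaf) 254212 4
 (Tr.node Tr.leaf 254215 6
 Tr.leaf))))) 254216 6
 (Tr.node (Tr.node (Tr.node (Tr.node (Tr.node (Tr.node Tr.leaf 254219 6
 Tr.leaf) 254221 6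
 Tr.leaf) 254222 6
 (Tr.node (Tr.node Tr.leaf 254225 4
 Tr.leaf) 254226 6
 Tr.leaf)) 254228 4
 (Tr.node (Tr.node (Tr.node Tr.leaf 254231 6
 Tr.leaf) 254232 6
 Tr.leaf) 254235 6
 (Tr.node Tr.leaf 254237 6
 Tr.leaf))) 254238 5
 (Tr.node (Tr.node (Tr.node (Tr.node Tr.leaf 254241 6
 Tr.leaf) 254242 5
 Tr.leaf) 254244 6
 (Tr.node Tr.leaf 254247 6
 Tr.leaf)) 254248 6
 (Tr.node (Tr.node (Tr.node Tr.leaf 254251 6
 Tr.leaf) 254253 6
 Tr.leaf) 254254 5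
 (Tr.node Tr.leaf 254257 6
 Tr.leaf)))) 254258 6
 (Tr.node (Tr.node (Tr.node (Tr.node (Tr.node Tr.leaf 254260 6
 Tr.leaf) 254263 6
 Tr.leaf) 254264 6
 (Tr.node (Tr.node Tr.leaf 254267 6
 Tr.leaf) 254269 6
 Tr.leaf)) 254270 6
 (Tr.node (Tr.node (Tr.node Tr.leaf 254273 6
 Tr.leaf) 254274 6
 Tr.leaf) 254276 6
 (Tr.node Tr.leaf 254279 6
 Tr.leaf))) 254280 6
 (Tr.node (Tr.node (Tr.node (Tr.node Tr.leaf 254283 6
 Tr.leaf) 254285 6
 Tr.leaf) 254286 5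
 (Tr.node Tr.leaf 254289 5
 Tr.leaf)) 254290 5
 (Tr.node (Tr.node (Tr.node Tr.leaf 254292 6
 Tr.leaf) 254295 6
 Tr.leaf) 254296 6
 (Tr.node Tr.leaf 254299 6
 Tr.leaf)))))) 254301 6
 (Tr.node (Tr.node (Tr.node (Tr.node (Tr.node (Tr.node (Tr.node Tr.leaf 254302 5
 Tr.leaf) 254305 6
 Tr.leaf) 254306 6
 (Tr.node (Tr.node Tr.leaf 254308 5
 Tr.leaf) 254311 6
 Tr.leaf)) 254312 6
 (Tr.node (Tr.node (Tr.node Tr.leaf 254315 6
 Tr.leaf) 254317 6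
 Tr.leaf) 254318 5
 (Tr.node Tr.leaf 254321 6
 Tr.leaf))) 254322 4
 (Tr.node (Tr.node (Tr.node (Tr.node Tr.leaf 254324 3
 Tr.leaf) 254327 6
 Tr.leaf) 254328 6
 (Tr.node (Tr.node Tr.leaf 254331 6
 Tr.leaf) 254333 6
 Tr.leaf)) 254334 6
 (Tr.node (Tr.node (Tr.node Tr.leaf 254337 6
 Tr.leaf) 254338 5
 Tr.leaf) 254340 6
 (Tr.node Tr.leaf 254343 7
 Tr.leaf)))) 254344 7
 (Tr.node (Tr.node (Tr.node (Tr.node (Tr.node Tr.leaf 254347 6
 Tr.leaf) 254349 6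
 Tr.leaf) 254350 6
 (Tr.node (Tr.node Tr.leaf 254353 7
 Tr.leaf) 254354 6
 Tr.leaf)) 254356 6
 (Tr.node (Tr.node (Tr.node Tr.leaf 254359 6
 Tr.leaf) 254360 6
 Tr.leaf) 254363 6
 (Tr.node Tr.leaf 254365 5
 Tr.leaf))) 254366 6
 (Tr.node (Tr.node (Tr.node (Tr.node Tr.leaf 254369 4
 Tr.leaf) 254370 4
 Tr.leaf) 254372 4
 (Tr.node Tr.leaf 254375 5
 Tr.leaf)) 254376 6
 (Tr.node (Tr.node (Tr.node Tr.leaf 254379 6
 Tr.leaf) 254381 6
 Tr.leaf) 254382 6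
 (Tr.node Tr.leaf 254385 6
 Tr.leaf))))) 254386 6
 (Tr.node (Tr.node (Tr.node (Tr.node (Tr.node (Tr.node Tr.leaf 254388 5
 Tr.leaf) 254391 6
 Tr.leaf) 254392 6
 (Tr.node (Tr.node Tr.leaf 254395 6
 Tr.leaf) 254397 6
 Tr.leaf)) 254398 6
 (Tr.node (Tr.node (Tr.node Tr.leaf 254401 6
 Tr.leaf) 254402 6
 Tr.leaf) 254404 6
 (Tr.node Tr.leaf 254407 6
 Tr.leaf))) 254408 6
 (Tr.node (Tr.node (Tr.node (Tr.node Tr.leaf 254411 6
 Tr.leaf) 254413 6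
 Tr.leaf) 254414 6
 (Tr.node Tr.leaf 254417 7
 Tr.leaf)) 254418 4
 (Tr.node (Tr.node (Tr.node Tr.leaf 254420 6
 Tr.leaf) 254423 6
 Tr.leaf) 254424 6
 (Tr.node Tr.leaf 254427 5
 Tr.leaf)))) 254429 6
 (Tr.node (Tr.node (Tr.node (Tr.node (Tr.node Tr.leaf 254430 5
 Tr.leaf) 254433 4
 Tr.leaf) 254434 7
 (Tr.node (Tr.node Tr.leaf 254436 6
 Tr.leaf) 254439 6
 Tr.leaf)) 254440 6
 (Tr.node (Tr.node (Tr.node Tr.leaf 254443 6
 Tr.leaf) 254445 6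
 Tr.leaf) 254446 6
 (Tr.node Tr.leaf 254449 6
 Tr.leaf))) 254450 5
 (Tr.node (Tr.node (Tr.node (Tr.node Tr.leaf 254452 6
 Tr.leaf) 254455 6
 Tr.leaf) 254456 5
 (Tr.node Tr.leaf 254459 6
 Tr.leaf)) 254461 6
 (Tr.node (Tr.node (Tr.node Tr.leaf 254462 6
 Tr.leaf) 254981 6
 Tr.leaf) 254983 6
 (Tr.node Tr.leaf 254985 6
 Tr.leaf)))))))) 254987 5
 (Tr.node (Tr.node (Tr.node (Tr.node (Tr.node (Tr.node (Tr.node (Tr.node (Tr.node Tr.leaf 254997 6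
 Tr.leaf) 254999 6
 Tr.leaf) 255001 6
 (Tr.node (Tr.node Tr.leaf 255003 6
 Tr.leaf) 255013 5
 Tr.leaf)) 255015 6
 (Tr.node (Tr.node (Tr.node Tr.leaf 255017 6
 Tr.leaf) 255019 6
 Tr.leaf) 255029 6
 (Tr.node Tr.leaf 255031 6
 Tr.leaf))) 255033 6
 (Tr.node (Tr.node (Tr.node (Tr.node Tr.leaf 255035 6
 Tr.leaf) 255045 6
 Tr.leaf) 255047 6
 (Tr.node (Tr.node Tr.leaf 255049 6
 Tr.leaf) 255051 6
 Tr.leaf)) 255061 6
 (Tr.node (Tr.node (Tr.node Tr.leaf 255063 6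
 Tr.leaf) 255065 6
 Tr.leaf) 255067 5
 (Tr.node Tr.leaf 255077 6
 Tr.leaf)))) 255079 6
 (Tr.node (Tr.node (Tr.node (Tr.node (Tr.node Tr.leaf 255081 7
 Tr.leaf) 255083 6
 Tr.leaf) 255093 6
 (Tr.node (Tr.node Tr.leaf 255095 6
 Tr.leaf) 255097 6
 Tr.leaf)) 255099 6
 (Tr.node (Tr.node (Tr.node Tr.leaf 255109 5
 Tr.leaf) 255111 6
 Tr.leaf) 255113 6
 (Tr.node Tr.leaf 255115 6
 Tr.leaf))) 255125 6
 (Tr.node (Tr.node (Tr.node (Tr.node Tr.leaf 255127 7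
 Tr.leaf) 255129 6
 Tr.leaf) 255131 6
 (Tr.node Tr.leaf 255141 6
 Tr.leaf)) 255143 6
 (Tr.node (Tr.node (Tr.node Tr.leaf 255145 5
 Tr.leaf) 255147 6
 Tr.leaf) 255157 6
 (Tr.node Tr.leaf 255159 5
 Tr.leaf))))) 255161 6
 (Tr.node (Tr.node (Tr.node (Tr.node (Tr.node (Tr.node Tr.leaf 255163 6
 Tr.leaf) 255173 6
 Tr.leaf) 255175 6
 (Tr.node (Tr.node Tr.leaf 255177 6
 Tr.leaf) 255179 6
 Tr.leaf)) 255189 6
 (Tr.node (Tr.node (Tr.node Tr.leaf 255191 6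
 Tr.leaf) 255193 6
 Tr.leaf) 255195 6
 (Tr.node Tr.leaf 255205 6
 Tr.leaf))) 255207 6
 (Tr.node (Tr.node (Tr.node (Tr.node Tr.leaf 255209 6
 Tr.leaf) 255211 6
 Tr.leaf) 255221 5
 (Tr.node Tr.leaf 255223 6
 Tr.leaf)) 255225 6
 (Tr.node (Tr.node (Tr.node Tr.leaf 255227 6
 Tr.leaf) 255237 6
 Tr.leaf) 255239 6
 (Tr.node Tr.leaf 255241 6
 Tr.leaf)))) 255243 6
 (Tr.node (Tr.node (Tr.node (Tr.node (Tr.node Tr.leaf 255253 6
 Tr.leaf) 255255 6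
 Tr.leaf) 255257 6
 (Tr.node (Tr.node Tr.leaf 255259 6
 Tr.leaf) 255269 6
 Tr.leaf)) 255271 6
 (Tr.node (Tr.node (Tr.node Tr.leaf 255273 6
 Tr.leaf) 255275 6
 Tr.leaf) 255285 6
 (Tr.node Tr.leaf 255287 6
 Tr.leaf))) 255289 6
 (Tr.node (Tr.node (Tr.node (Tr.node Tr.leaf 255291 6
 Tr.leaf) 255301 6
 Tr.leaf) 255303 5
 (Tr.node Tr.leaf 255305 6
 Tr.leaf)) 255307 6
 (Tr.node (Tr.node (Tr.node Tr.leaf 255317 6
 Tr.leaf) 255319 5
 Tr.leaf) 255321 6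
 (Tr.node Tr.leaf 255323 6
 Tr.leaf)))))) 255333 6
 (Tr.node (Tr.node (Tr.node (Tr.node (Tr.node (Tr.node (Tr.node Tr.leaf 255335 6
 Tr.leaf) 255337 6
 Tr.leaf) 255339 6
 (Tr.node (Tr.node Tr.leaf 255349 6
 Tr.leaf) 255351 6
 Tr.leaf)) 255353 6
 (Tr.node (Tr.node (Tr.node Tr.leaf 255355 6
 Tr.leaf) 255365 6
 Tr.leaf) 255367 6
 (Tr.node Tr.leaf 255369 6
 Tr.leaf))) 255371 6
 (Tr.node (Tr.node (Tr.node (Tr.node Tr.leaf 255381 6
 Tr.leaf) 255383 6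
 Tr.leaf) 255385 6
 (Tr.node (Tr.node Tr.leaf 255387 6
 Tr.leaf) 255397 6
 Tr.leaf)) 255399 6
 (Tr.node (Tr.node (Tr.node Tr.leaf 255401 6
 Tr.leaf) 255403 6
 Tr.leaf) 255413 6
 (Tr.node Tr.leaf 255415 5
 Tr.leaf)))) 255417 6
 (Tr.node (Tr.node (Tr.node (Tr.node (Tr.node Tr.leaf 255419 6
 Tr.leaf) 255429 6
 Tr.leaf) 255431 6
 (Tr.node (Tr.node Tr.leaf 255433 6
 Tr.leaf) 255435 6
 Tr.leaf)) 255445 7
 (Tr.node (Tr.node (Tr.node Tr.leaf 255447 6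
 Tr.leaf) 255449 6
 Tr.leaf) 255451 5
 (Tr.node Tr.leaf 255461 6
 Tr.leaf))) 255463 6
 (Tr.node (Tr.node (Tr.node (Tr.node Tr.leaf 255465 6
 Tr.leaf) 255467 6
 Tr.leaf) 255477 6
 (Tr.node Tr.leaf 255479 6
 Tr.leaf)) 255481 6
 (Tr.node (Tr.node (Tr.node Tr.leaf 255483 6
 Tr.leaf) 256003 6
 Tr.leaf) 256007 6
 (Tr.node Tr.leaf 256009 6
 Tr.leaf))))) 256010 6
 (Tr.node (Tr.node (Tr.node (Tr.node (Tr.node (Tr.node Tr.leaf 256013 6
 Tr.leaf) 256014 6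
 Tr.leaf) 256019 6
 (Tr.node (Tr.node Tr.leaf 256023 7
 Tr.leaf) 256025 5
 Tr.leaf)) 256026 6
 (Tr.node (Tr.node (Tr.node Tr.leaf 256029 6
 Tr.leaf) 256030 5
 Tr.leaf) 256035 6
 (Tr.node Tr.leaf 256039 6
 Tr.leaf))) 256041 6
 (Tr.node (Tr.node (Tr.node (Tr.node Tr.leaf 256042 5
 Tr.leaf) 256045 6
 Tr.leaf) 256046 6
 (Tr.node Tr.leaf 256051 6
 Tr.leaf)) 256055 6
 (Tr.node (Tr.node (Tr.node Tr.leaf 256057 6
 Tr.leaf) 256058 6
 Tr.leaf) 256061 6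
 (Tr.node Tr.leaf 256062 5
 Tr.leaf)))) 256067 5
 (Tr.node (Tr.node (Tr.node (Tr.node (Tr.node Tr.leaf 256071 6
 Tr.leaf) 256073 6
 Tr.leaf) 256074 5
 (Tr.node (Tr.node Tr.leaf 256077 6
 Tr.leaf) 256078 6
 Tr.leaf)) 256083 6
 (Tr.node (Tr.node (Tr.node Tr.leaf 256087 6
 Tr.leaf) 256089 6
 Tr.leaf) 256090 5
 (Tr.node Tr.leaf 256093 6
 Tr.leaf))) 256094 6
 (Tr.node (Tr.node (Tr.node (Tr.node Tr.leaf 256099 6
 Tr.leaf) 256103 6
 Tr.leaf) 256105 6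
 (Tr.node Tr.leaf 256106 6
 Tr.leaf)) 256109 5
 (Tr.node (Tr.node (Tr.node Tr.leaf 256110 6
 Tr.leaf) 256115 6
 Tr.leaf) 256119 6
 (Tr.node Tr.leaf 256121 6
 Tr.leaf))))))) 256122 6
 (Tr.node (Tr.node (Tr.node (Tr.node (Tr.node (Tr.node (Tr.node (Tr.node Tr.leaf 256125 6
 Tr.leaf) 256126 6
 Tr.leaf) 256131 6
 (Tr.node (Tr.node Tr.leaf 256135 6
 Tr.leaf) 256137 6
 Tr.leaf)) 256138 6
 (Tr.node (Tr.node (Tr.node Tr.leaf 256141 6
 Tr.leaf) 256142 5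
 Tr.leaf) 256147 6
 (Tr.node Tr.leaf 256151 6
 Tr.leaf))) 256153 6
 (Tr.node (Tr.node (Tr.node (Tr.node Tr.leaf 256154 6
 Tr.leaf) 256157 6
 Tr.leaf) 256158 6
 (Tr.node (Tr.node Tr.leaf 256163 6
 Tr.leaf) 256167 6
 Tr.leaf)) 256169 6
 (Tr.node (Tr.node (Tr.node Tr.leaf 256170 6
 Tr.leaf) 256173 6
 Tr.leaf) 256174 5
 (Tr.node Tr.leaf 256179 6
 Tr.leaf)))) 256183 6
 (Tr.node (Tr.node (Tr.node (Tr.node (Tr.node Tr.leaf 256185 6
 Tr.leaf) 256186 6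
 Tr.leaf) 256189 6
 (Tr.node (Tr.node Tr.leaf 256190 6
 Tr.leaf) 256195 6
 Tr.leaf)) 256199 5
 (Tr.node (Tr.node (Tr.node Tr.leaf 256201 6
 Tr.leaf) 256202 6
 Tr.leaf) 256205 6
 (Tr.node Tr.leaf 256206 5
 Tr.leaf))) 256211 6
 (Tr.node (Tr.node (Tr.node (Tr.node Tr.leaf 256215 6
 Tr.leaf) 256217 6
 Tr.leaf) 256218 6
 (Tr.node Tr.leaf 256221 6
 Tr.leaf)) 256222 6
 (Tr.node (Tr.node (Tr.node Tr.leaf 256227 6
 Tr.leaf) 256231 6
 Tr.leaf) 256233 6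
 (Tr.node Tr.leaf 256234 5
 Tr.leaf))))) 256237 5
 (Tr.node (Tr.node (Tr.node (Tr.node (Tr.node (Tr.node Tr.leaf 256238 6
 Tr.leaf) 256243 6
 Tr.leaf) 256247 6
 (Tr.node (Tr.node Tr.leaf 256249 6
 Tr.leaf) 256250 5
 Tr.leaf)) 256253 6
 (Tr.node (Tr.node (Tr.node Tr.leaf 256254 6
 Tr.leaf) 256259 6
 Tr.leaf) 256263 6
 (Tr.node Tr.leaf 256265 5
 Tr.leaf))) 256266 6
 (Tr.node (Tr.node (Tr.node (Tr.node Tr.leaf 256269 6
 Tr.leaf) 256270 6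
 Tr.leaf) 256275 5
 (Tr.node Tr.leaf 256279 6
 Tr.leaf)) 256281 6
 (Tr.node (Tr.node (Tr.node Tr.leaf 256282 6
 Tr.leaf) 256285 6
 Tr.leaf) 256286 6
 (Tr.node Tr.leaf 256291 6
 Tr.leaf)))) 256295 6
 (Tr.node (Tr.node (Tr.node (Tr.node (Tr.node Tr.leaf 256297 6
 Tr.leaf) 256298 6
 Tr.leaf) 256301 6
 (Tr.node (Tr.node Tr.leaf 256302 5
 Tr.leaf) 256307 6
 Tr.leaf)) 256311 6
 (Tr.node (Tr.node (Tr.node Tr.leaf 256313 6
 Tr.leaf) 256314 7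
 Tr.leaf) 256317 6
 (Tr.node Tr.leaf 256318 6
 Tr.leaf))) 256323 6
 (Tr.node (Tr.node (Tr.node (Tr.node Tr.leaf 256327 6
 Tr.leaf) 256329 6
 Tr.leaf) 256330 5
 (Tr.node Tr.leaf 256333 6
 Tr.leaf)) 256334 6
 (Tr.node (Tr.node (Tr.node Tr.leaf 256339 6
 Tr.leaf) 256343 6
 Tr.leaf) 256345 6
 (Tr.node Tr.leaf 256346 5
 Tr.leaf)))))) 256349 6
 (Tr.node (Tr.node (Tr.node (Tr.node (Tr.node (Tr.node (Tr.node Tr.leaf 256350 6
 Tr.leaf) 256355 6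
 Tr.leaf) 256359 6
 (Tr.node (Tr.node Tr.leaf 256361 6
 Tr.leaf) 256362 6
 Tr.leaf)) 256365 6
 (Tr.node (Tr.node (Tr.node Tr.leaf 256366 6
 Tr.leaf) 256371 6
 Tr.leaf) 256375 6
 (Tr.node Tr.leaf 256377 6
 Tr.leaf))) 256378 6
 (Tr.node (Tr.node (Tr.node (Tr.node Tr.leaf 256381 6
 Tr.leaf) 256382 5
 Tr.leaf) 256387 6
 (Tr.node (Tr.node Tr.leaf 256391 6
 Tr.leaf) 256393 6
 Tr.leaf)) 256394 6
 (Tr.node (Tr.node (Tr.node Tr.leaf 256397 6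
 Tr.leaf) 256398 6
 Tr.leaf) 256403 6
 (Tr.node Tr.leaf 256407 6
 Tr.leaf)))) 256409 6
 (Tr.node (Tr.node (Tr.node (Tr.node (Tr.node Tr.leaf 256410 5
 Tr.leaf) 256413 5
 Tr.leaf) 256414 5
 (Tr.node (Tr.node Tr.leaf 256419 6
 Tr.leaf) 256423 6
 Tr.leaf)) 256425 6
 (Tr.node (Tr.node (Tr.node Tr.leaf 256426 6
 Tr.leaf) 256429 7
 Tr.leaf) 256430 5
 (Tr.node Tr.leaf 256435 6
 Tr.leaf))) 256439 6
 (Tr.node (Tr.node (Tr.node (Tr.node Tr.leaf 256441 6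
 Tr.leaf) 256442 6
 Tr.leaf) 256445 6
 (Tr.node Tr.leaf 256446 6
 Tr.leaf)) 256451 6
 (Tr.node (Tr.node (Tr.node Tr.leaf 256455 6
 Tr.leaf) 256457 7
 Tr.leaf) 256458 6
 (Tr.node Tr.leaf 256461 6
 Tr.leaf))))) 256462 6
 (Tr.node (Tr.node (Tr.node (Tr.node (Tr.node (Tr.node Tr.leaf 256467 6
 Tr.leaf) 256471 6
 Tr.leaf) 256473 5
 (Tr.node (Tr.node Tr.leaf 256474 6
 Tr.leaf) 256477 6
 Tr.leaf)) 256478 6
 (Tr.node (Tr.node (Tr.node Tr.leaf 256483 6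
 Tr.leaf) 256487 5
 Tr.leaf) 256489 6
 (Tr.node Tr.leaf 256490 5
 Tr.leaf))) 256493 6
 (Tr.node (Tr.node (Tr.node (Tr.node Tr.leaf 256494 6
 Tr.leaf) 256499 6
 Tr.leaf) 256503 6
 (Tr.node Tr.leaf 256505 5
 Tr.leaf)) 256506 5
 (Tr.node (Tr.node (Tr.node Tr.leaf 256509 6
 Tr.leaf) 256510 6
 Tr.leaf) 257025 6
 (Tr.node Tr.leaf 257027 6
 Tr.leaf)))) 257029 6
 (Tr.node (Tr.node (Tr.node (Tr.node (Tr.node Tr.leaf 257031 6
 Tr.leaf) 257041 6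
 Tr.leaf) 257043 6
 (Tr.node (Tr.node Tr.leaf 257045 6
 Tr.leaf) 257047 6
 Tr.leaf)) 257057 5
 (Tr.node (Tr.node (Tr.node Tr.leaf 257059 6
 Tr.leaf) 257061 6
 Tr.leaf) 257063 6
 (Tr.node Tr.leaf 257073 6
 Tr.leaf))) 257075 6
 (Tr.node (Tr.node (Tr.node (Tr.node Tr.leaf 257077 6
 Tr.leaf) 257079 6
 Tr.leaf) 257089 6
 (Tr.node Tr.leaf 257091 6
 Tr.leaf)) 257093 5
 (Tr.node (Tr.node (Tr.node Tr.leaf 257095 6
 Tr.leaf) 257105 6
 Tr.leaf) 257107 6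
 (Tr.node Tr.leaf 257109 6
 Tr.leaf)))))))))

/-- A subtree. -/
def tr2_s63 : Tr := (Tr.node (Tr.node (Tr.node (Tr.node (Tr.node (Tr.node (Tr.node (Tr.node (Tr.node (Tr.node Tr.leaf 257121 6
 Tr.leaf) 257123 6
 Tr.leaf) 257125 6
 (Tr.node (Tr.node Tr.leaf 257127 5
 Tr.leaf) 257137 6
 Tr.leaf)) 257139 6
 (Tr.node (Tr.node (Tr.node Tr.leaf 257141 5
 Tr.leaf) 257143 7
 Tr.leaf) 257153 6
 (Tr.node Tr.leaf 257155 6
 Tr.leaf))) 257157 6
 (Tr.node (Tr.node (Tr.node (Tr.node Tr.leaf 257159 6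
 Tr.leaf) 257169 6
 Tr.leaf) 257171 6
 (Tr.node (Tr.node Tr.leaf 257173 6
 Tr.leaf) 257175 6
 Tr.leaf)) 257185 5
 (Tr.node (Tr.node (Tr.node Tr.leaf 257187 6
 Tr.leaf) 257189 6
 Tr.leaf) 257191 6
 (Tr.node Tr.leaf 257201 5
 Tr.leaf)))) 257203 6
 (Tr.node (Tr.node (Tr.node (Tr.node (Tr.node Tr.leaf 257205 5
 Tr.leaf) 257207 6
 Tr.leaf) 257217 6
 (Tr.node (Tr.node Tr.leaf 257219 6
 Tr.leaf) 257221 5
 Tr.leaf)) 257223 5
 (Tr.node (Tr.node (Tr.node Tr.leaf 257233 6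
 Tr.leaf) 257235 6
 Tr.leaf) 257237 6
 (Tr.node Tr.leaf 257239 6
 Tr.leaf))) 257249 6
 (Tr.node (Tr.node (Tr.node (Tr.node Tr.leaf 257251 6
 Tr.leaf) 257253 6
 Tr.leaf) 257255 5
 (Tr.node Tr.leaf 257265 6
 Tr.leaf)) 257267 6
 (Tr.node (Tr.node (Tr.node Tr.leaf 257269 6
 Tr.leaf) 257271 6
 Tr.leaf) 257281 6
 (Tr.node Tr.leaf 257283 6
 Tr.leaf))))) 257285 6
 (Tr.node (Tr.node (Tr.node (Tr.node (Tr.node (Tr.node Tr.leaf 257287 6
 Tr.leaf) 257297 6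
 Tr.leaf) 257299 6
 (Tr.node (Tr.node Tr.leaf 257301 6
 Tr.leaf) 257303 6
 Tr.leaf)) 257313 6
 (Tr.node (Tr.node (Tr.node Tr.leaf 257315 6
 Tr.leaf) 257317 6
 Tr.leaf) 257319 6
 (Tr.node Tr.leaf 257329 6
 Tr.leaf))) 257331 6
 (Tr.node (Tr.node (Tr.node (Tr.node Tr.leaf 257333 6
 Tr.leaf) 257335 6
 Tr.leaf) 257345 6
 (Tr.node (Tr.node Tr.leaf 257347 6
 Tr.leaf) 257349 6
 Tr.leaf)) 257351 6
 (Tr.node (Tr.node (Tr.node Tr.leaf 257361 6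
 Tr.leaf) 257363 6
 Tr.leaf) 257365 5
 (Tr.node Tr.leaf 257367 6
 Tr.leaf)))) 257377 6
 (Tr.node (Tr.node (Tr.node (Tr.node (Tr.node Tr.leaf 257379 6
 Tr.leaf) 257381 6
 Tr.leaf) 257383 6
 (Tr.node (Tr.node Tr.leaf 257393 6
 Tr.leaf) 257395 6
 Tr.leaf)) 257397 6
 (Tr.node (Tr.node (Tr.node Tr.leaf 257399 6
 Tr.leaf) 257409 6
 Tr.leaf) 257411 6
 (Tr.node Tr.leaf 257413 5
 Tr.leaf))) 257415 6
 (Tr.node (Tr.node (Tr.node (Tr.node Tr.leaf 257425 6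
 Tr.leaf) 257427 6
 Tr.leaf) 257429 6
 (Tr.node Tr.leaf 257431 6
 Tr.leaf)) 257441 5
 (Tr.node (Tr.node (Tr.node Tr.leaf 257443 6
 Tr.leaf) 257445 6
 Tr.leaf) 257447 5
 (Tr.node Tr.leaf 257457 6
 Tr.leaf)))))) 257459 6
 (Tr.node (Tr.node (Tr.node (Tr.node (Tr.node (Tr.node (Tr.node Tr.leaf 257461 5
 Tr.leaf) 257463 6
 Tr.leaf) 257473 6
 (Tr.node (Tr.node Tr.leaf 257475 6
 Tr.leaf) 257477 6
 Tr.leaf)) 257479 6
 (Tr.node (Tr.node (Tr.node Tr.leaf 257489 6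
 Tr.leaf) 257491 6
 Tr.leaf) 257493 6
 (Tr.node Tr.leaf 257495 6
 Tr.leaf))) 257505 6
 (Tr.node (Tr.node (Tr.node (Tr.node Tr.leaf 257507 6
 Tr.leaf) 257509 6
 Tr.leaf) 257511 5
 (Tr.node (Tr.node Tr.leaf 257521 7
 Tr.leaf) 257523 6
 Tr.leaf)) 257525 6
 (Tr.node (Tr.node (Tr.node Tr.leaf 257527 6
 Tr.leaf) 258051 6
 Tr.leaf) 258053 6
 (Tr.node Tr.leaf 258054 6
 Tr.leaf)))) 258059 6
 (Tr.node (Tr.node (Tr.node (Tr.node (Tr.node Tr.leaf 258061 6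
 Tr.leaf) 258062 6
 Tr.leaf) 258067 6
 (Tr.node (Tr.node Tr.leaf 258069 5
 Tr.leaf) 258070 6
 Tr.leaf)) 258075 5
 (Tr.node (Tr.node (Tr.node Tr.leaf 258077 6
 Tr.leaf) 258078 6
 Tr.leaf) 258083 5
 (Tr.node Tr.leaf 258085 6
 Tr.leaf))) 258086 6
 (Tr.node (Tr.node (Tr.node (Tr.node Tr.leaf 258091 6
 Tr.leaf) 258093 6
 Tr.leaf) 258094 6
 (Tr.node Tr.leaf 258099 6
 Tr.leaf)) 258101 6
 (Tr.node (Tr.node (Tr.node Tr.leaf 258102 6
 Tr.leaf) 258107 6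
 Tr.leaf) 258109 6
 (Tr.node Tr.leaf 258110 7
 Tr.leaf))))) 258115 6
 (Tr.node (Tr.node (Tr.node (Tr.node (Tr.node (Tr.node Tr.leaf 258117 6
 Tr.leaf) 258118 6
 Tr.leaf) 258123 6
 (Tr.node (Tr.node Tr.leaf 258125 6
 Tr.leaf) 258126 6
 Tr.leaf)) 258131 6
 (Tr.node (Tr.node (Tr.node Tr.leaf 258133 5
 Tr.leaf) 258134 6
 Tr.leaf) 258139 6
 (Tr.node Tr.leaf 258141 6
 Tr.leaf))) 258142 5
 (Tr.node (Tr.node (Tr.node (Tr.node Tr.leaf 258147 6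
 Tr.leaf) 258149 6
 Tr.leaf) 258150 5
 (Tr.node Tr.leaf 258155 6
 Tr.leaf)) 258157 6
 (Tr.node (Tr.node (Tr.node Tr.leaf 258158 6
 Tr.leaf) 258163 6
 Tr.leaf) 258165 6
 (Tr.node Tr.leaf 258166 6
 Tr.leaf)))) 258171 6
 (Tr.node (Tr.node (Tr.node (Tr.node (Tr.node Tr.leaf 258173 6
 Tr.leaf) 258174 6
 Tr.leaf) 258179 6
 (Tr.node (Tr.node Tr.leaf 258181 5
 Tr.leaf) 258182 6
 Tr.leaf)) 258187 6
 (Tr.node (Tr.node (Tr.node Tr.leaf 258189 6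
 Tr.leaf) 258190 5
 Tr.leaf) 258195 6
 (Tr.node Tr.leaf 258197 6
 Tr.leaf))) 258198 6
 (Tr.node (Tr.node (Tr.node (Tr.node Tr.leaf 258203 6
 Tr.leaf) 258205 6
 Tr.leaf) 258206 6
 (Tr.node Tr.leaf 258211 5
 Tr.leaf)) 258213 5
 (Tr.node (Tr.node (Tr.node Tr.leaf 258214 6
 Tr.leaf) 258219 6
 Tr.leaf) 258221 5
 (Tr.node Tr.leaf 258222 5
 Tr.leaf))))))) 258227 6
 (Tr.node (Tr.node (Tr.node (Tr.node (Tr.node (Tr.node (Tr.node (Tr.node Tr.leaf 258229 6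
 Tr.leaf) 258230 6
 Tr.leaf) 258235 6
 (Tr.node (Tr.node Tr.leaf 258237 6
 Tr.leaf) 258238 6
 Tr.leaf)) 258243 6
 (Tr.node (Tr.node (Tr.node Tr.leaf 258245 6
 Tr.leaf) 258246 6
 Tr.leaf) 258251 6
 (Tr.node Tr.leaf 258253 6
 Tr.leaf))) 258254 6
 (Tr.node (Tr.node (Tr.node (Tr.node Tr.leaf 258259 6
 Tr.leaf) 258261 6
 Tr.leaf) 258262 6
 (Tr.node (Tr.node Tr.leaf 258267 6
 Tr.leaf) 258269 6
 Tr.leaf)) 258270 6
 (Tr.node (Tr.node (Tr.node Tr.leaf 258275 5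
 Tr.leaf) 258277 6
 Tr.leaf) 258278 5
 (Tr.node Tr.leaf 258283 6
 Tr.leaf)))) 258285 6
 (Tr.node (Tr.node (Tr.node (Tr.node (Tr.node Tr.leaf 258286 7
 Tr.leaf) 258291 6
 Tr.leaf) 258293 6
 (Tr.node (Tr.node Tr.leaf 258294 5
 Tr.leaf) 258299 6
 Tr.leaf)) 258301 6
 (Tr.node (Tr.node (Tr.node Tr.leaf 258302 5
 Tr.leaf) 258307 5
 Tr.leaf) 258309 6
 (Tr.node Tr.leaf 258310 6
 Tr.leaf))) 258315 5
 (Tr.node (Tr.node (Tr.node (Tr.node Tr.leaf 258317 6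
 Tr.leaf) 258318 6
 Tr.leaf) 258323 6
 (Tr.node Tr.leaf 258325 6
 Tr.leaf)) 258326 6
 (Tr.node (Tr.node (Tr.node Tr.leaf 258331 5
 Tr.leaf) 258333 6
 Tr.leaf) 258334 6
 (Tr.node Tr.leaf 258339 6
 Tr.leaf))))) 258341 6
 (Tr.node (Tr.node (Tr.node (Tr.node (Tr.node (Tr.node Tr.leaf 258342 6
 Tr.leaf) 258347 6
 Tr.leaf) 258349 6
 (Tr.node (Tr.node Tr.leaf 258350 6
 Tr.leaf) 258355 6
 Tr.leaf)) 258357 6
 (Tr.node (Tr.node (Tr.node Tr.leaf 258358 5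
 Tr.leaf) 258363 6
 Tr.leaf) 258365 6
 (Tr.node Tr.leaf 258366 6
 Tr.leaf))) 258371 6
 (Tr.node (Tr.node (Tr.node (Tr.node Tr.leaf 258373 5
 Tr.leaf) 258374 6
 Tr.leaf) 258379 6
 (Tr.node Tr.leaf 258381 6
 Tr.leaf)) 258382 5
 (Tr.node (Tr.node (Tr.node Tr.leaf 258387 6
 Tr.leaf) 258389 5
 Tr.leaf) 258390 6
 (Tr.node Tr.leaf 258395 6
 Tr.leaf)))) 258397 6
 (Tr.node (Tr.node (Tr.node (Tr.node (Tr.node Tr.leaf 258398 7
 Tr.leaf) 258403 6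
 Tr.leaf) 258405 6
 (Tr.node (Tr.node Tr.leaf 258406 6
 Tr.leaf) 258411 6
 Tr.leaf)) 258413 6
 (Tr.node (Tr.node (Tr.node Tr.leaf 258414 6
 Tr.leaf) 258419 6
 Tr.leaf) 258421 5
 (Tr.node Tr.leaf 258422 6
 Tr.leaf))) 258427 6
 (Tr.node (Tr.node (Tr.node (Tr.node Tr.leaf 258429 6
 Tr.leaf) 258430 6
 Tr.leaf) 258435 6
 (Tr.node Tr.leaf 258437 6
 Tr.leaf)) 258438 6
 (Tr.node (Tr.node (Tr.node Tr.leaf 258443 6
 Tr.leaf) 258445 6
 Tr.leaf) 258446 6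
 (Tr.node Tr.leaf 258451 6
 Tr.leaf)))))) 258453 6
 (Tr.node (Tr.node (Tr.node (Tr.node (Tr.node (Tr.node (Tr.node Tr.leaf 258454 5
 Tr.leaf) 258459 5
 Tr.leaf) 258461 6
 (Tr.node (Tr.node Tr.leaf 258462 6
 Tr.leaf) 258467 6
 Tr.leaf)) 258469 6
 (Tr.node (Tr.node (Tr.node Tr.leaf 258470 6
 Tr.leaf) 258475 6
 Tr.leaf) 258477 6
 (Tr.node Tr.leaf 258478 5
 Tr.leaf))) 258483 6
 (Tr.node (Tr.node (Tr.node (Tr.node Tr.leaf 258485 6
 Tr.leaf) 258486 6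
 Tr.leaf) 258491 6
 (Tr.node (Tr.node Tr.leaf 258493 6
 Tr.leaf) 258494 6
 Tr.leaf)) 258499 6
 (Tr.node (Tr.node (Tr.node Tr.leaf 258501 6
 Tr.leaf) 258502 7
 Tr.leaf) 258507 6
 (Tr.node Tr.leaf 258509 6
 Tr.leaf)))) 258510 6
 (Tr.node (Tr.node (Tr.node (Tr.node (Tr.node Tr.leaf 258515 6
 Tr.leaf) 258517 6
 Tr.leaf) 258518 6
 (Tr.node (Tr.node Tr.leaf 258523 6
 Tr.leaf) 258525 6
 Tr.leaf)) 258526 6
 (Tr.node (Tr.node (Tr.node Tr.leaf 258531 6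
 Tr.leaf) 258533 6
 Tr.leaf) 258534 6
 (Tr.node Tr.leaf 258539 6
 Tr.leaf))) 258541 6
 (Tr.node (Tr.node (Tr.node (Tr.node Tr.leaf 258542 5
 Tr.leaf) 258547 6
 Tr.leaf) 258549 6
 (Tr.node Tr.leaf 258550 6
 Tr.leaf)) 258555 7
 (Tr.node (Tr.node (Tr.node Tr.leaf 258557 7
 Tr.leaf) 258558 6
 Tr.leaf) 259073 6
 (Tr.node Tr.leaf 259075 6
 Tr.leaf))))) 259081 6
 (Tr.node (Tr.node (Tr.node (Tr.node (Tr.node (Tr.node Tr.leaf 259083 6
 Tr.leaf) 259089 6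
 Tr.leaf) 259091 6
 (Tr.node (Tr.node Tr.leaf 259097 6
 Tr.leaf) 259099 6
 Tr.leaf)) 259105 6
 (Tr.node (Tr.node (Tr.node Tr.leaf 259107 6
 Tr.leaf) 259113 6
 Tr.leaf) 259115 6
 (Tr.node Tr.leaf 259121 6
 Tr.leaf))) 259123 6
 (Tr.node (Tr.node (Tr.node (Tr.node Tr.leaf 259129 6
 Tr.leaf) 259131 6
 Tr.leaf) 259137 6
 (Tr.node Tr.leaf 259139 5
 Tr.leaf)) 259145 6
 (Tr.node (Tr.node (Tr.node Tr.leaf 259147 6
 Tr.leaf) 259153 6
 Tr.leaf) 259155 5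
 (Tr.node Tr.leaf 259161 6
 Tr.leaf)))) 259163 5
 (Tr.node (Tr.node (Tr.node (Tr.node (Tr.node Tr.leaf 259169 6
 Tr.leaf) 259171 6
 Tr.leaf) 259177 6
 (Tr.node (Tr.node Tr.leaf 259179 6
 Tr.leaf) 259185 6
 Tr.leaf)) 259187 6
 (Tr.node (Tr.node (Tr.node Tr.leaf 259193 6
 Tr.leaf) 259195 6
 Tr.leaf) 259201 6
 (Tr.node Tr.leaf 259203 6
 Tr.leaf))) 259209 6
 (Tr.node (Tr.node (Tr.node (Tr.node Tr.leaf 259211 6
 Tr.leaf) 259217 6
 Tr.leaf) 259219 6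
 (Tr.node Tr.leaf 259225 6
 Tr.leaf)) 259227 6
 (Tr.node (Tr.node (Tr.node Tr.leaf 259233 6
 Tr.leaf) 259235 6
 Tr.leaf) 259241 6
 (Tr.node Tr.leaf 259243 6
 Tr.leaf)))))))) 259249 6
 (Tr.node (Tr.node (Tr.node (Tr.node (Tr.node (Tr.node (Tr.node (Tr.node (Tr.node Tr.leaf 259251 6
 Tr.leaf) 259257 6
 Tr.leaf) 259259 6
 (Tr.node (Tr.node Tr.leaf 259265 6
 Tr.leaf) 259267 6
 Tr.leaf)) 259273 6
 (Tr.node (Tr.node (Tr.node Tr.leaf 259275 6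
 Tr.leaf) 259281 5
 Tr.leaf) 259283 6
 (Tr.node Tr.leaf 259289 6
 Tr.leaf))) 259291 6
 (Tr.node (Tr.node (Tr.node (Tr.node Tr.leaf 259297 6
 Tr.leaf) 259299 5
 Tr.leaf) 259305 6
 (Tr.node (Tr.node Tr.leaf 259307 6
 Tr.leaf) 259313 6
 Tr.leaf)) 259315 6
 (Tr.node (Tr.node (Tr.node Tr.leaf 259321 6
 Tr.leaf) 259323 6
 Tr.leaf) 259329 5
 (Tr.node Tr.leaf 259331 6
 Tr.leaf)))) 259337 6
 (Tr.node (Tr.node (Tr.node (Tr.node (Tr.node Tr.leaf 259339 6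
 Tr.leaf) 259345 5
 Tr.leaf) 259347 6
 (Tr.node (Tr.node Tr.leaf 259353 6
 Tr.leaf) 259355 6
 Tr.leaf)) 259361 6
 (Tr.node (Tr.node (Tr.node Tr.leaf 259363 6
 Tr.leaf) 259369 6
 Tr.leaf) 259371 6
 (Tr.node Tr.leaf 259377 5
 Tr.leaf))) 259379 6
 (Tr.node (Tr.node (Tr.node (Tr.node Tr.leaf 259385 6
 Tr.leaf) 259387 6
 Tr.leaf) 259393 6
 (Tr.node Tr.leaf 259395 6
 Tr.leaf)) 259401 6
 (Tr.node (Tr.node (Tr.node Tr.leaf 259403 5
 Tr.leaf) 259409 6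
 Tr.leaf) 259411 6
 (Tr.node Tr.leaf 259417 6
 Tr.leaf))))) 259419 5
 (Tr.node (Tr.node (Tr.node (Tr.node (Tr.node (Tr.node Tr.leaf 259425 6
 Tr.leaf) 259427 5
 Tr.leaf) 259433 6
 (Tr.node (Tr.node Tr.leaf 259435 7
 Tr.leaf) 259441 5
 Tr.leaf)) 259443 6
 (Tr.node (Tr.node (Tr.node Tr.leaf 259449 6
 Tr.leaf) 259451 6
 Tr.leaf) 259457 6
 (Tr.node Tr.leaf 259459 6
 Tr.leaf))) 259465 6
 (Tr.node (Tr.node (Tr.node (Tr.node Tr.leaf 259467 6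
 Tr.leaf) 259473 5
 Tr.leaf) 259475 6
 (Tr.node Tr.leaf 259481 6
 Tr.leaf)) 259483 6
 (Tr.node (Tr.node (Tr.node Tr.leaf 259489 6
 Tr.leaf) 259491 6
 Tr.leaf) 259497 6
 (Tr.node Tr.leaf 259499 6
 Tr.leaf)))) 259505 6
 (Tr.node (Tr.node (Tr.node (Tr.node (Tr.node Tr.leaf 259507 7
 Tr.leaf) 259513 6
 Tr.leaf) 259515 6
 (Tr.node (Tr.node Tr.leaf 259521 6
 Tr.leaf) 259523 6
 Tr.leaf)) 259529 6
 (Tr.node (Tr.node (Tr.node Tr.leaf 259531 6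
 Tr.leaf) 259537 6
 Tr.leaf) 259539 6
 (Tr.node Tr.leaf 259545 5
 Tr.leaf))) 259547 5
 (Tr.node (Tr.node (Tr.node (Tr.node Tr.leaf 259553 6
 Tr.leaf) 259555 6
 Tr.leaf) 259561 6
 (Tr.node Tr.leaf 259563 6
 Tr.leaf)) 259569 5
 (Tr.node (Tr.node (Tr.node Tr.leaf 259571 6
 Tr.leaf) 259577 6
 Tr.leaf) 259579 6
 (Tr.node Tr.leaf 260097 6
 Tr.leaf)))))) 260098 6
 (Tr.node (Tr.node (Tr.node (Tr.node (Tr.node (Tr.node (Tr.node Tr.leaf 260101 6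
 Tr.leaf) 260102 6
 Tr.leaf) 260105 6
 (Tr.node (Tr.node Tr.leaf 260106 6
 Tr.leaf) 260109 5
 Tr.leaf)) 260110 6
 (Tr.node (Tr.node (Tr.node Tr.leaf 260113 5
 Tr.leaf) 260114 6
 Tr.leaf) 260117 6
 (Tr.node Tr.leaf 260118 6
 Tr.leaf))) 260121 6
 (Tr.node (Tr.node (Tr.node (Tr.node Tr.leaf 260122 6
 Tr.leaf) 260125 6
 Tr.leaf) 260126 5
 (Tr.node (Tr.node Tr.leaf 260129 6
 Tr.leaf) 260130 5
 Tr.leaf)) 260133 6
 (Tr.node (Tr.node (Tr.node Tr.leaf 260134 6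
 Tr.leaf) 260137 6
 Tr.leaf) 260138 4
 (Tr.node Tr.leaf 260141 6
 Tr.leaf)))) 260142 5
 (Tr.node (Tr.node (Tr.node (Tr.node (Tr.node Tr.leaf 260145 6
 Tr.leaf) 260146 6
 Tr.leaf) 260149 6
 (Tr.node (Tr.node Tr.leaf 260150 6
 Tr.leaf) 260153 6
 Tr.leaf)) 260154 6
 (Tr.node (Tr.node (Tr.node Tr.leaf 260157 6
 Tr.leaf) 260158 6
 Tr.leaf) 260161 6
 (Tr.node Tr.leaf 260162 5
 Tr.leaf))) 260165 6
 (Tr.node (Tr.node (Tr.node (Tr.node Tr.leaf 260166 5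
 Tr.leaf) 260169 6
 Tr.leaf) 260170 6
 (Tr.node Tr.leaf 260173 6
 Tr.leaf)) 260174 6
 (Tr.node (Tr.node (Tr.node Tr.leaf 260177 6
 Tr.leaf) 260178 6
 Tr.leaf) 260181 6
 (Tr.node Tr.leaf 260182 5
 Tr.leaf))))) 260185 6
 (Tr.node (Tr.node (Tr.node (Tr.node (Tr.node (Tr.node Tr.leaf 260186 5
 Tr.leaf) 260189 5
 Tr.leaf) 260190 5
 (Tr.node (Tr.node Tr.leaf 260193 6
 Tr.leaf) 260194 5
 Tr.leaf)) 260197 6
 (Tr.node (Tr.node (Tr.node Tr.leaf 260198 6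
 Tr.leaf) 260201 6
 Tr.leaf) 260202 6
 (Tr.node Tr.leaf 260205 6
 Tr.leaf))) 260206 5
 (Tr.node (Tr.node (Tr.node (Tr.node Tr.leaf 260209 6
 Tr.leaf) 260210 6
 Tr.leaf) 260213 6
 (Tr.node Tr.leaf 260214 6
 Tr.leaf)) 260217 6
 (Tr.node (Tr.node (Tr.node Tr.leaf 260218 6
 Tr.leaf) 260221 6
 Tr.leaf) 260222 6
 (Tr.node Tr.leaf 260225 6
 Tr.leaf)))) 260226 5
 (Tr.node (Tr.node (Tr.node (Tr.node (Tr.node Tr.leaf 260229 6
 Tr.leaf) 260230 6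
 Tr.leaf) 260233 6
 (Tr.node (Tr.node Tr.leaf 260234 6
 Tr.leaf) 260237 6
 Tr.leaf)) 260238 5
 (Tr.node (Tr.node (Tr.node Tr.leaf 260241 6
 Tr.leaf) 260242 6
 Tr.leaf) 260245 6
 (Tr.node Tr.leaf 260246 6
 Tr.leaf))) 260249 6
 (Tr.node (Tr.node (Tr.node (Tr.node Tr.leaf 260250 5
 Tr.leaf) 260253 5
 Tr.leaf) 260254 6
 (Tr.node Tr.leaf 260257 6
 Tr.leaf)) 260258 6
 (Tr.node (Tr.node (Tr.node Tr.leaf 260261 6
 Tr.leaf) 260262 6
 Tr.leaf) 260265 6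
 (Tr.node Tr.leaf 260266 5
 Tr.leaf))))))) 260269 5
 (Tr.node (Tr.node (Tr.node (Tr.node (Tr.node (Tr.node (Tr.node (Tr.node Tr.leaf 260270 5
 Tr.leaf) 260273 6
 Tr.leaf) 260274 6
 (Tr.node (Tr.node Tr.leaf 260277 6
 Tr.leaf) 260278 6
 Tr.leaf)) 260281 6
 (Tr.node (Tr.node (Tr.node Tr.leaf 260282 6
 Tr.leaf) 260285 6
 Tr.leaf) 260286 4
 (Tr.node Tr.leaf 260289 6
 Tr.leaf))) 260290 5
 (Tr.node (Tr.node (Tr.node (Tr.node Tr.leaf 260293 6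
 Tr.leaf) 260294 6
 Tr.leaf) 260297 6
 (Tr.node (Tr.node Tr.leaf 260298 6
 Tr.leaf) 260301 6
 Tr.leaf)) 260302 6
 (Tr.node (Tr.node (Tr.node Tr.leaf 260305 6
 Tr.leaf) 260306 6
 Tr.leaf) 260309 6
 (Tr.node Tr.leaf 260310 6
 Tr.leaf)))) 260313 6
 (Tr.node (Tr.node (Tr.node (Tr.node (Tr.node Tr.leaf 260314 5
 Tr.leaf) 260317 7
 Tr.leaf) 260318 6
 (Tr.node (Tr.node Tr.leaf 260321 6
 Tr.leaf) 260322 5
 Tr.leaf)) 260325 6
 (Tr.node (Tr.node (Tr.node Tr.leaf 260326 5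
 Tr.leaf) 260329 6
 Tr.leaf) 260330 6
 (Tr.node Tr.leaf 260333 6
 Tr.leaf))) 260334 5
 (Tr.node (Tr.node (Tr.node (Tr.node Tr.leaf 260337 6
 Tr.leaf) 260338 6
 Tr.leaf) 260341 6
 (Tr.node Tr.leaf 260342 5
 Tr.leaf)) 260345 6
 (Tr.node (Tr.node (Tr.node Tr.leaf 260346 6
 Tr.leaf) 260349 6
 Tr.leaf) 260350 5
 (Tr.node Tr.leaf 260353 6
 Tr.leaf))))) 260354 6
 (Tr.node (Tr.node (Tr.node (Tr.node (Tr.node (Tr.node Tr.leaf 260357 6
 Tr.leaf) 260358 5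
 Tr.leaf) 260361 6
 (Tr.node (Tr.node Tr.leaf 260362 6
 Tr.leaf) 260365 5
 Tr.leaf)) 260366 5
 (Tr.node (Tr.node (Tr.node Tr.leaf 260369 5
 Tr.leaf) 260370 6
 Tr.leaf) 260373 6
 (Tr.node Tr.leaf 260374 5
 Tr.leaf))) 260377 6
 (Tr.node (Tr.node (Tr.node (Tr.node Tr.leaf 260378 5
 Tr.leaf) 260381 6
 Tr.leaf) 260382 6
 (Tr.node Tr.leaf 260385 6
 Tr.leaf)) 260386 6
 (Tr.node (Tr.node (Tr.node Tr.leaf 260389 6
 Tr.leaf) 260390 5
 Tr.leaf) 260393 5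
 (Tr.node Tr.leaf 260394 6
 Tr.leaf)))) 260397 6
 (Tr.node (Tr.node (Tr.node (Tr.node (Tr.node Tr.leaf 260398 5
 Tr.leaf) 260401 5
 Tr.leaf) 260402 5
 (Tr.node (Tr.node Tr.leaf 260405 6
 Tr.leaf) 260406 5
 Tr.leaf)) 260409 6
 (Tr.node (Tr.node (Tr.node Tr.leaf 260410 5
 Tr.leaf) 260413 6
 Tr.leaf) 260414 6
 (Tr.node Tr.leaf 260417 6
 Tr.leaf))) 260418 6
 (Tr.node (Tr.node (Tr.node (Tr.node Tr.leaf 260421 6
 Tr.leaf) 260422 5
 Tr.leaf) 260425 6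
 (Tr.node Tr.leaf 260426 6
 Tr.leaf)) 260429 5
 (Tr.node (Tr.node (Tr.node Tr.leaf 260430 6
 Tr.leaf) 260433 6
 Tr.leaf) 260434 5
 (Tr.node Tr.leaf 260437 6
 Tr.leaf)))))) 260438 5
 (Tr.node (Tr.node (Tr.node (Tr.node (Tr.node (Tr.node (Tr.node Tr.leaf 260441 6
 Tr.leaf) 260442 5
 Tr.leaf) 260445 5
 (Tr.node (Tr.node Tr.leaf 260446 6
 Tr.leaf) 260449 6
 Tr.leaf)) 260450 6
 (Tr.node (Tr.node (Tr.node Tr.leaf 260453 6
 Tr.leaf) 260454 6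
 Tr.leaf) 260457 6
 (Tr.node Tr.leaf 260458 6
 Tr.leaf))) 260461 6
 (Tr.node (Tr.node (Tr.node (Tr.node Tr.leaf 260462 6
 Tr.leaf) 260465 6
 Tr.leaf) 260466 5
 (Tr.node (Tr.node Tr.leaf 260469 6
 Tr.leaf) 260470 6
 Tr.leaf)) 260473 5
 (Tr.node (Tr.node (Tr.node Tr.leaf 260474 6
 Tr.leaf) 260477 5
 Tr.leaf) 260478 6
 (Tr.node Tr.leaf 260481 6
 Tr.leaf)))) 260482 5
 (Tr.node (Tr.node (Tr.node (Tr.node (Tr.node Tr.leaf 260485 6
 Tr.leaf) 260486 6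
 Tr.leaf) 260489 6
 (Tr.node (Tr.node Tr.leaf 260490 5
 Tr.leaf) 260493 6
 Tr.leaf)) 260494 5
 (Tr.node (Tr.node (Tr.node Tr.leaf 260497 5
 Tr.leaf) 260498 6
 Tr.leaf) 260501 6
 (Tr.node Tr.leaf 260502 6
 Tr.leaf))) 260505 5
 (Tr.node (Tr.node (Tr.node (Tr.node Tr.leaf 260506 5
 Tr.leaf) 260509 6
 Tr.leaf) 260510 5
 (Tr.node Tr.leaf 260513 6
 Tr.leaf)) 260514 6
 (Tr.node (Tr.node (Tr.node Tr.leaf 260517 6
 Tr.leaf) 260518 6
 Tr.leaf) 260521 6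
 (Tr.node Tr.leaf 260522 5
 Tr.leaf))))) 260525 6
 (Tr.node (Tr.node (Tr.node (Tr.node (Tr.node (Tr.node Tr.leaf 260526 6
 Tr.leaf) 260529 6
 Tr.leaf) 260530 6
 (Tr.node (Tr.node Tr.leaf 260533 7
 Tr.leaf) 260534 6
 Tr.leaf)) 260537 5
 (Tr.node (Tr.node (Tr.node Tr.leaf 260538 6
 Tr.leaf) 260541 6
 Tr.leaf) 260542 6
 (Tr.node Tr.leaf 260545 6
 Tr.leaf))) 260546 6
 (Tr.node (Tr.node (Tr.node (Tr.node Tr.leaf 260549 6
 Tr.leaf) 260550 6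
 Tr.leaf) 260553 6
 (Tr.node Tr.leaf 260554 6
 Tr.leaf)) 260557 6
 (Tr.node (Tr.node (Tr.node Tr.leaf 260558 5
 Tr.leaf) 260561 6
 Tr.leaf) 260562 5
 (Tr.node Tr.leaf 260565 6
 Tr.leaf)))) 260566 6
 (Tr.node (Tr.node (Tr.node (Tr.node (Tr.node Tr.leaf 260569 6
 Tr.leaf) 260570 5
 Tr.leaf) 260573 6
 (Tr.node (Tr.node Tr.leaf 260574 6
 Tr.leaf) 260577 6
 Tr.leaf)) 260578 6
 (Tr.node (Tr.node (Tr.node Tr.leaf 260581 6
 Tr.leaf) 260582 5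
 Tr.leaf) 260585 6
 (Tr.node Tr.leaf 260586 6
 Tr.leaf))) 260589 6
 (Tr.node (Tr.node (Tr.node (Tr.node Tr.leaf 260590 5
 Tr.leaf) 260593 6
 Tr.leaf) 260594 5
 (Tr.node Tr.leaf 260597 6
 Tr.leaf)) 260598 5
 (Tr.node (Tr.node (Tr.node Tr.leaf 260601 6
 Tr.leaf) 260602 6
 Tr.leaf) 260605 6
 (Tr.node Tr.leaf 260606 6
 Tr.leaf)))))))))

/-- The search tree. -/
def tr2 : Tr := (Tr.node (Tr.node (Tr.node (Tr.node (Tr.node (Tr.node tr2_s0 3493 6 tr2_s1) 7639 5 (Tr.node tr2_s2 11707 5 tr2_s3)) 15821 6 (Tr.node (Tr.node tr2_s4 19873 3 tr2_s5) 24003 5 (Tr.node tr2_s6 28077 5 tr2_s7))) 32167 6 (Tr.node (Tr.node (Tr.node tr2_s8 36227 6 tr2_s9) 40357 6 (Tr.node tr2_s10 44441 6 tr2_s11)) 48539 6 (Tr.node (Tr.node tr2_s12 52607 5 tr2_s13) 56737 6 (Tr.node tr2_s14 60803 7 tr2_s15)))) 64853 6 (Tr.node (Tr.node (Tr.node (Tr.node tr2_s16 68957 6 tr2_s17) 73071 6 (Tr.node tr2_s18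 77155 6 tr2_s19)) 81317 6 (Tr.node (Tr.node tr2_s20 85329 6 tr2_s21) 89451 6 (Tr.node tr2_s22 93525 5 tr2_s23))) 97599 5 (Tr.node (Tr.node (Tr.node tr2_s24 101683 6 tr2_s25) 105821 6 (Tr.node tr2_s26 109879 5 tr2_s27)) 114001 6 (Tr.node (Tr.node tr2_s28 118061 5 tr2_s29) 122183 6 (Tr.node tr2_s30 126257 5 tr2_s31))))) 130219 6 (Tr.node (Tr.node (Tr.node (Tr.node (Tr.node tr2_s32 134391 6 tr2_s33) 138529 5 (Tr.node tr2_s34 142605 5 tr2_s35)) 146711 4 (Tr.node (Tr.node tr2_s36 150771 5 tr2_s37) 154893 6 (Tr.node tr2_s38 158967 6 tr2_s39))) 163153 6 (Tr.node (Tr.node (Tr.node tr2_s40 167133 6 tr2_s41) 171247 6 (Tr.node tr2_s42 175331 6 tr2_s43)) 179493 5 (Tr.node (Tr.node tr2_s44 183505 6 tr2_s45) 187627 6 (Tr.node tr2_s46 191701 6 tr2_s47)))) 195711 6 (Tr.node (Tr.node (Tr.node (Tr.node tr2_s48 199867 6 tr2_s49) 203997 6 (Tr.node tr2_s50 208073 6 tr2_s51)) 212179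 6 (Tr.node (Tr.node tr2_s52 216231 4 tr2_s53) 220361 5 (Tr.node tr2_s54 224443 6 tr2_s55))) 228525 6 (Tr.node (Tr.node (Tr.node tr2_s56 232577 5 tr2_s57) 236707 6 (Tr.node tr2_s58 240781 6 tr2_s59)) 244887 6 (Tr.node (Tr.node tr2_s60 248979 6 tr2_s61) 253101 6 (Tr.node tr2_s62 257111 6 tr2_s63))))))

/-- Rows 0 to 1499. -/
def rows2_0 : List (ℕ × ℕ × ℕ × ℕ) := [(3, 2, 65, 29),
  (5, 2, 65, 28),
  (6, 1, 72, 28),
  (9, 1, 72, 24),
  (10, 2, 144, 34),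
  (12, 2, 144, 31),
  (15, 2, 65, 39),
  (17, 2, 65, 35),
  (18, 2, 32776, 25),
  (20, 3, 130, 32),
  (23, 3, 15, 19),
  (24, 3, 130, 29),
  (27, 4, 432, 26),
  (29, 6, 14337, 14),
  (30, 6, 12294, 6),
  (33, 2, 65, 34),
  (34, 3, 18, 35),
  (36, 2, 32840, 26),
  (39, 3, 15, 20),
  (40, 3, 18, 29),
  (43, 6, 16395, 17),
  (45, 4, 432, 25),
  (46, 6, 22562, 14),
  (48, 2, 144, 29),
  (51, 6, 24579, 6),
  (53, 6, 2101, 12),
  (54, 4, 196912, 24),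
  (57, 3, 71, 21),
  (58, 4, 34823, 22),
  (60, 4, 263, 21),
  (63, 4, 293, 37),
  (65, 1, 72, 21),
  (66, 2, 144, 35),
  (68, 2, 144, 32),
  (71, 2, 65, 42),
  (72, 0, 0, 0),
  (75, 2, 65, 37),
  (77, 2, 65, 38),
  (78, 3, 38918, 1),
  (80, 3, 18, 32),
  (83, 6, 8259, 14),
  (85, 3, 417, 22),
  (86, 4, 65585, 24),
  (89, 3, 75, 21),
  (90, 6, 41034, 13),
  (92, 4, 267, 21),
  (95, 6, 37981, 10),
  (96, 3, 130, 35),
  (99, 3, 401, 23),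
  (101, 6, 51201, 17),
  (102, 4, 141, 20),
  (105, 3, 77, 21),
  (106, 4, 8481, 19),
  (108, 6, 36972, 1),
  (111, 6, 7271, 12),
  (113, 4, 78, 21),
  (114, 4, 277, 23),
  (116, 4, 196897, 24),
  (119, 5, 149, 38),
  (120, 3, 15, 21),
  (123, 6, 58427, 15),
  (125, 6, 6261, 12),
  (126, 6, 61454, 12),
  (129, 2, 65, 32),
  (130, 2, 32776, 22),
  (132, 3, 18, 31),
  (135, 3, 71, 19),
  (136, 3, 130, 31),
  (139, 6, 70657, 13),
  (141, 3, 305, 25),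
  (142, 4, 99, 19),
  (144, 1, 72, 19),
  (147, 3, 77, 19),
  (149, 4, 78, 19),
  (150, 3, 75, 19),
  (153, 6, 4249, 10),
  (154, 4, 105, 19),
  (156, 4, 147505, 20),
  (159, 6, 5277, 10),
  (160, 1, 72, 32),
  (163, 3, 417, 23),
  (165, 3, 177, 25),
  (166, 6, 131085, 20),
  (169, 3, 417, 25),
  (170, 4, 34830, 22),
  (172, 3, 401, 25),
  (175, 4, 201, 41),
  (177, 2, 65, 40),
  (178, 4, 293, 23),
  (180, 6, 82100, 4),
  (183, 4, 89, 37),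
  (184, 4, 2063, 22),
  (187, 5, 149, 43),
  (189, 6, 30881, 14),
  (190, 3, 130, 41),
  (192, 3, 18, 28),
  (195, 4, 432, 23),
  (197, 6, 65605, 13),
  (198, 6, 67654, 16),
  (201, 3, 75, 24),
  (202, 6, 37066, 2),
  (204, 4, 131217, 20),
  (207, 6, 35983, 15),
  (209, 6, 73793, 2),
  (210, 4, 6217, 25),
  (212, 4, 169, 22),
  (215, 6, 108755, 11),
  (216, 4, 147632, 20),
  (219, 4, 293, 42),
  (221, 5, 149, 39),
  (222, 6, 112790, 10),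
  (225, 3, 177, 23),
  (226, 3, 305, 23),
  (228, 4, 38922, 26),
  (231, 4, 201, 43),
  (232, 6, 1073, 23),
  (235, 4, 89, 41),
  (237, 4, 89, 43),
  (238, 6, 120842, 26),
  (240, 6, 82000, 8),
  (243, 6, 24803, 14),
  (245, 4, 293, 43),
  (246, 3, 18, 37),
  (249, 4, 201, 42),
  (250, 3, 18, 41),
  (252, 3, 130, 42),
  (255, 5, 35247, 22),
  (257, 2, 65, 31),
  (258, 3, 130, 34),
  (260, 2, 32840, 23),
  (263, 3, 71, 20),
  (264, 3, 18, 34),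
  (267, 3, 177, 26),
  (269, 6, 131085, 16),
  (270, 4, 16769, 21),
  (272, 1, 72, 31),
  (275, 3, 305, 26),
  (277, 3, 401, 22),
  (278, 6, 4385, 26),
  (281, 3, 401, 26),
  (282, 3, 417, 26),
  (284, 4, 38926, 23),
  (287, 4, 89, 44),
  (288, 1, 72, 20),
  (291, 4, 78, 20),
  (293, 3, 75, 20),
  (294, 3, 77, 20),
  (297, 6, 147465, 1),
  (298, 4, 225, 26),
  (300, 4, 33865, 23),
  (303, 6, 152877, 10),
  (305, 2, 65, 41),
  (306, 6, 139298, 7),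
  (308, 4, 32845, 23),
  (311, 4, 201, 37),
  (312, 4, 449, 26),
  (315, 6, 147739, 17),
  (317, 5, 149, 40),
  (318, 3, 18, 44),
  (320, 3, 130, 28),
  (323, 6, 164865, 16),
  (325, 4, 432, 22),
  (326, 6, 163846, 3),
  (329, 3, 77, 24),
  (330, 4, 85, 24),
  (332, 6, 135244, 17),
  (335, 6, 39243, 11),
  (337, 3, 305, 22),
  (338, 4, 6218, 25),
  (340, 3, 177, 22),
  (343, 4, 89, 40),
  (344, 6, 16395, 21),
  (347, 4, 201, 40),
  (349, 4, 201, 44),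
  (350, 6, 6490, 25),
  (353, 6, 33121, 11),
  (354, 4, 74113, 19),
  (356, 4, 201, 20),
  (359, 6, 35171, 11),
  (360, 4, 213296, 19),
  (363, 5, 149, 42),
  (365, 4, 293, 39),
  (366, 6, 39274, 11),
  (368, 6, 49424, 5),
  (371, 4, 293, 40),
  (373, 6, 182545, 17),
  (374, 3, 130, 37),
  (377, 4, 89, 39),
  (378, 3, 18, 39),
  (380, 3, 130, 44),
  (383, 5, 34269, 23),
  (384, 2, 144, 28),
  (387, 6, 1411, 15),
  (389, 6, 196613, 3),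
  (390, 4, 213040, 21),
  (393, 4, 78, 24),
  (394, 4, 24721, 21),
  (396, 4, 275, 25),
  (399, 5, 149, 37),
  (401, 2, 65, 43),
  (402, 4, 4171, 25),
  (404, 6, 139396, 5),
  (407, 4, 201, 38),
  (408, 6, 139672, 7),
  (411, 6, 79121, 13),
  (413, 4, 293, 44),
  (414, 3, 130, 38),
  (417, 2, 65, 44),
  (418, 6, 82338, 8),
  (420, 4, 147, 25),
  (423, 4, 89, 38),
  (424, 6, 82184, 4),
  (427, 4, 293, 41),
  (429, 6, 196781, 16),
  (430, 3, 18, 38),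
  (432, 3, 213264, 8),
  (435, 6, 213267, 17),
  (437, 6, 90389, 13),
  (438, 6, 24982, 21),
  (441, 6, 204969, 16),
  (442, 6, 213274, 17),
  (444, 6, 204972, 16),
  (447, 5, 25047, 21),
  (449, 3, 15, 24),
  (450, 4, 23, 24),
  (452, 4, 5127, 26),
  (455, 4, 293, 38),
  (456, 3, 71, 24),
  (459, 6, 34187, 15),
  (461, 6, 203205, 12),
  (462, 6, 233542, 15),
  (464, 4, 57, 22),
  (467, 5, 149, 44),
  (469, 6, 74069, 13),
  (470, 3, 18, 40),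
  (473, 4, 89, 42),
  (474, 3, 130, 40),
  (476, 3, 18, 42),
  (479, 5, 6523, 25),
  (480, 4, 1095, 26),
  (483, 6, 230561, 16),
  (485, 5, 149, 41),
  (486, 3, 130, 43),
  (489, 4, 201, 39),
  (490, 3, 130, 39),
  (492, 3, 18, 43),
  (495, 5, 5367, 26),
  (497, 6, 155873, 14),
  (498, 6, 155874, 14),
  (500, 6, 90452, 13),
  (503, 5, 196927, 24),
  (504, 6, 147704, 20),
  (507, 5, 74221, 19),
  (509, 5, 147707, 20),
  (510, 6, 24991, 21),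
  (1025, 3, 4097, 28),
  (1027, 3, 32833, 29),
  (1037, 4, 7183, 5),
  (1039, 3, 15, 16),
  (1045, 4, 7183, 19),
  (1047, 4, 7169, 19),
  (1049, 5, 16784, 26),
  (1051, 5, 16816, 26),
  (1061, 5, 2059, 20),
  (1063, 4, 2063, 20),
  (1065, 6, 16395, 1),
  (1067, 6, 5153, 12),
  (1073, 5, 204811, 40),
  (1075, 6, 1073, 12),
  (1085, 6, 6199, 12),
  (1087, 6, 18495, 20),
  (1093, 4, 35911, 8),
  (1095, 3, 71, 13),
  (1097, 3, 75, 1),
  (1099, 3, 75, 2),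
  (1105, 6, 33809, 17),
  (1107, 6, 139298, 26),
  (1117, 6, 192892, 25),
  (1119, 4, 239766, 23),
  (1121, 4, 131217, 23),
  (1123, 4, 65740, 21),
  (1133, 6, 38955, 4),
  (1135, 6, 165329, 23),
  (1141, 5, 205195, 40),
  (1143, 6, 176170, 26),
  (1145, 6, 24667, 1),
  (1147, 6, 65743, 21),
  (1157, 4, 35911, 19),
  (1159, 4, 35841, 19),
  (1161, 6, 82338, 23),
  (1163, 6, 4385, 25),
  (1169, 4, 38989, 19),
  (1171, 4, 38913, 19),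
  (1181, 5, 377, 25),
  (1183, 6, 73871, 16),
  (1185, 4, 131233, 23),
  (1187, 4, 131489, 23),
  (1197, 6, 74069, 21),
  (1199, 6, 139642, 24),
  (1205, 5, 249, 25),
  (1207, 6, 205114, 24),
  (1209, 5, 489, 25),
  (1211, 4, 149566, 20),
  (1217, 5, 131248, 23),
  (1219, 5, 131504, 23),
  (1229, 5, 96298, 26),
  (1231, 6, 249860, 22),
  (1237, 6, 33257, 22),
  (1239, 5, 489, 22),
  (1241, 6, 38107, 10),
  (1243, 6, 111835, 11),
  (1253, 6, 36071, 8),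
  (1255, 4, 490, 22),
  (1257, 6, 35182, 22),
  (1259, 6, 139611, 24),
  (1265, 6, 73822, 21),
  (1267, 5, 213045, 43),
  (1277, 5, 260138, 26),
  (1279, 5, 213429, 43),
  (1285, 4, 33232, 22),
  (1287, 4, 2119, 20),
  (1289, 4, 16529, 26),
  (1291, 5, 16561, 26),
  (1297, 4, 16657, 26),
  (1299, 4, 16689, 26),
  (1309, 4, 378, 25),
  (1311, 5, 146435, 14),
  (1313, 5, 2122, 20),
  (1315, 5, 2126, 20),
  (1325, 5, 38187, 39),
  (1327, 6, 2518, 22),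
  (1333, 4, 250, 25),
  (1335, 6, 205116, 24),
  (1337, 4, 490, 25),
  (1339, 6, 205148, 24),
  (1345, 6, 131395, 12),
  (1347, 6, 2246, 20),
  (1357, 6, 21651, 26),
  (1359, 6, 39183, 5),
  (1365, 6, 82250, 21),
  (1367, 6, 73789, 24),
  (1369, 6, 81995, 21),
  (1371, 6, 6498, 25),
  (1381, 6, 33266, 22),
  (1383, 5, 38185, 39),
  (1385, 6, 81997, 21),
  (1387, 6, 2422, 22),
  (1393, 5, 204981, 40),
  (1395, 5, 371, 22),
  (1405, 5, 204837, 40),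
  (1407, 6, 205181, 24),
  (1409, 6, 197633, 3),
  (1411, 5, 90355, 41),
  (1421, 6, 119210, 23),
  (1423, 5, 35989, 37),
  (1429, 6, 90450, 21),
  (1431, 5, 473, 22),
  (1433, 5, 155829, 44),
  (1435, 6, 149622, 20),
  (1445, 6, 90452, 21),
  (1447, 4, 474, 22),
  (1449, 5, 427, 25),
  (1451, 5, 90405, 41),
  (1457, 5, 235, 25),
  (1459, 5, 347, 22),
  (1469, 6, 507, 25),
  (1471, 6, 89393, 7),
  (1477, 6, 21527, 26),
  (1479, 6, 90584, 21),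
  (1481, 6, 159812, 22),
  (1483, 6, 196939, 2),
  (1489, 4, 149730, 20),
  (1491, 5, 377, 22),
  (1501, 5, 243791, 9),
  (1503, 5, 260286, 23),
  (1505, 6, 90204, 21),
  (1507, 4, 378, 22),
  (1517, 6, 90461, 21),
  (1519, 5, 36175, 37),
  (1525, 6, 175351, 8),
  (1527, 6, 164349, 23),
  (1529, 6, 252285, 19),
  (1531, 6, 194705, 19),
  (2049, 3, 4097, 29),
  (2050, 2, 32776, 28),
  (2053, 3, 32833, 28),
  (2054, 2, 32776, 29),
  (2059, 4, 7183, 4),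
  (2063, 3, 15, 17),
  (2067, 4, 155656, 26),
  (2071, 4, 1039, 19),
  (2073, 6, 8221, 15),
  (2074, 5, 155766, 40),
  (2077, 6, 22530, 19),
  (2078, 6, 12294, 14),
  (2083, 4, 7183, 20),
  (2087, 4, 7169, 20),
  (2089, 5, 213424, 25),
  (2090, 6, 204824, 25),
  (2093, 5, 213008, 25),
  (2094, 6, 22562, 1),
  (2097, 6, 26625, 6),
  (2098, 3, 213264, 24),
  (2101, 5, 90355, 43),
  (2102, 4, 213296, 24),
  (2107, 6, 253960, 26),
  (2111, 6, 213368, 24),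
  (2115, 4, 35911, 7),
  (2119, 3, 71, 14),
  (2121, 3, 77, 2),
  (2122, 4, 34830, 8),
  (2125, 3, 77, 1),
  (2126, 4, 6218, 7),
  (2129, 4, 65825, 22),
  (2130, 4, 340, 23),
  (2133, 5, 65953, 22),
  (2134, 4, 81969, 24),
  (2139, 6, 100645, 22),
  (2143, 6, 37975, 7),
  (2145, 6, 82100, 25),
  (2146, 4, 337, 23),
  (2149, 6, 32913, 23),
  (2150, 5, 147761, 24),
  (2155, 5, 100646, 22),
  (2159, 6, 126978, 26),
  (2163, 6, 119028, 25),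
  (2167, 5, 35989, 38),
  (2169, 6, 237578, 26),
  (2170, 5, 78046, 38),
  (2173, 6, 24669, 1),
  (2174, 4, 242116, 25),
  (2179, 5, 1093, 19),
  (2183, 4, 1095, 19),
  (2185, 4, 8481, 25),
  (2186, 4, 139409, 21),
  (2189, 4, 16490, 24),
  (2190, 4, 139665, 21),
  (2193, 5, 38990, 19),
  (2194, 4, 1097, 19),
  (2197, 5, 38914, 19),
  (2198, 4, 1099, 19),
  (2203, 6, 4540, 26),
  (2207, 5, 38185, 42),
  (2209, 4, 8353, 25),
  (2210, 7, 139412, 21),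
  (2213, 4, 8369, 25),
  (2214, 7, 9283, 19),
  (2219, 6, 7343, 4),
  (2223, 4, 252, 26),
  (2227, 6, 213274, 24),
  (2231, 4, 380, 26),
  (2233, 6, 213322, 24),
  (2234, 5, 213330, 24),
  (2237, 4, 476, 26),
  (2238, 4, 492, 26),
  (2241, 6, 16395, 24),
  (2242, 6, 67654, 5),
  (2245, 6, 34945, 15),
  (2246, 5, 213038, 41),
  (2251, 6, 38085, 8),
  (2255, 6, 14649, 25),
  (2259, 5, 38187, 42),
  (2263, 6, 161794, 26),
  (2265, 6, 81995, 24),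
  (2266, 6, 215050, 26),
  (2269, 6, 210946, 26),
  (2270, 6, 158070, 23),
  (2275, 6, 147739, 24),
  (2279, 6, 139740, 21),
  (2281, 6, 108554, 26),
  (2282, 6, 147795, 24),
  (2285, 6, 139613, 21),
  (2286, 6, 35050, 13),
  (2289, 5, 245, 23),
  (2290, 6, 213267, 24),
  (2293, 5, 90405, 43),
  (2294, 6, 139678, 21),
  (2299, 6, 213339, 24),
  (2303, 5, 36175, 38),
  (2307, 4, 35911, 20),
  (2311, 4, 35841, 20),
  (2313, 6, 6401, 13),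
  (2314, 4, 147585, 21),
  (2317, 6, 139396, 22),
  (2318, 4, 147841, 21),
  (2321, 4, 65809, 22),
  (2322, 7, 332, 23),
  (2325, 4, 65937, 22),
  (2326, 7, 81972, 24),
  (2331, 6, 82012, 24),
  (2335, 6, 147907, 21),
  (2337, 4, 37963, 20),
  (2338, 4, 38989, 20),
  (2341, 4, 37889, 20),
  (2342, 4, 38913, 20),
  (2347, 6, 4345, 26),
  (2351, 5, 249, 26),
  (2355, 6, 213276, 24),
  (2359, 5, 377, 26),
  (2361, 4, 88126, 19),
  (2362, 5, 205186, 44),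
  (2365, 5, 473, 26),
  (2366, 5, 204818, 44),
  (2369, 5, 65840, 22),
  (2370, 6, 163846, 10),
  (2373, 5, 65968, 22),
  (2374, 6, 98480, 22),
  (2379, 6, 242138, 23),
  (2383, 4, 14650, 25),
  (2387, 4, 476, 23),
  (2391, 5, 175109, 16),
  (2393, 6, 81997, 24),
  (2394, 6, 5547, 26),
  (2397, 6, 80094, 23),
  (2398, 6, 147851, 21),
  (2403, 5, 473, 23),
  (2407, 6, 147559, 14),
  (2409, 6, 39277, 11),
  (2410, 6, 14730, 25),
  (2413, 6, 186733, 10),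
  (2414, 6, 34073, 23),
  (2417, 5, 155829, 40),
  (2418, 5, 204946, 44),
  (2421, 6, 145554, 19),
  (2422, 5, 12372, 39),
  (2427, 5, 193615, 9),
  (2431, 5, 14842, 25),
  (2433, 5, 204811, 44),
  (2434, 4, 213296, 21),
  (2437, 6, 2433, 15),
  (2438, 3, 82224, 21),
  (2443, 5, 205195, 44),
  (2447, 6, 176324, 22),
  (2451, 4, 492, 23),
  (2455, 6, 156114, 21),
  (2457, 5, 204981, 44),
  (2458, 6, 82006, 24),
  (2461, 5, 413, 26),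
  (2462, 6, 156051, 21),
  (2467, 5, 489, 23),
  (2471, 6, 156116, 21),
  (2473, 6, 147790, 24),
  (2474, 5, 90258, 43),
  (2477, 5, 213045, 41),
  (2478, 5, 90146, 43),
  (2481, 5, 237, 23),
  (2482, 5, 365, 23),
  (2485, 5, 349, 26),
  (2486, 5, 365, 26),
  (2491, 6, 146863, 4),
  (2495, 6, 12795, 25),
  (2499, 6, 34183, 15),
  (2503, 6, 16447, 24),
  (2505, 6, 196941, 2),
  (2506, 4, 67041, 19),
  (2509, 6, 16495, 24),
  (2510, 5, 106510, 37),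
  (2513, 4, 252, 23),
  (2514, 4, 380, 23),
  (2517, 6, 155994, 21),
  (2518, 5, 156058, 21),
  (2523, 5, 204837, 44),
  (2527, 6, 156123, 21),
  (2529, 5, 249, 23),
  (2530, 5, 377, 23),
  (2533, 4, 174226, 19),
  (2534, 5, 10322, 38),
  (2539, 5, 100670, 22),
  (2543, 5, 213429, 41),
  (2547, 6, 509, 23),
  (2551, 6, 118161, 5),
  (2553, 6, 128475, 20),
  (2554, 6, 213335, 24),
  (2557, 6, 242977, 20),
  (2558, 6, 156063, 21),
  (3081, 3, 15, 15),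
  (3083, 3, 15, 2),
  (3085, 3, 15, 1),
  (3087, 4, 7183, 3),
  (3089, 4, 6159, 19),
  (3091, 4, 7171, 19),
  (3093, 4, 7181, 19),
  (3095, 5, 6147, 19),
  (3105, 4, 5135, 20),
  (3107, 4, 7179, 20),
  (3109, 4, 7173, 20),
  (3111, 5, 5125, 20),
  (3129, 6, 31745, 6),
  (3131, 6, 31803, 3),
  (3133, 7, 23613, 19),
  (3135, 6, 7217, 12),
  (3137, 3, 71, 12),
  (3139, 3, 71, 2),
  (3141, 3, 71, 1),
  (3143, 4, 35911, 6),
  (3161, 4, 184700, 25),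
  (3163, 6, 93331, 20),
  (3165, 6, 196939, 21),
  (3167, 6, 188780, 25),
  (3177, 6, 122922, 26),
  (3179, 6, 158739, 19),
  (3181, 6, 196941, 21),
  (3183, 4, 110626, 26),
  (3185, 5, 60465, 3),
  (3187, 6, 196814, 21),
  (3189, 7, 196942, 21),
  (3191, 5, 60465, 15),
  (3201, 4, 34887, 19),
  (3203, 4, 35843, 19),
  (3205, 4, 35909, 19),
  (3207, 5, 34819, 19),
  (3225, 3, 90186, 24),
  (3227, 5, 248038, 23),
  (3229, 5, 139659, 43),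
  (3231, 6, 140581, 20),
  (3241, 6, 51319, 19),
  (3243, 6, 155994, 24),
  (3245, 6, 100814, 22),
  (3247, 3, 156026, 24),
  (3249, 5, 36881, 37),
  (3251, 6, 12513, 25),
  (3253, 6, 221482, 24),
  (3255, 4, 205270, 21),
  (3273, 6, 217284, 22),
  (3275, 6, 24667, 24),
  (3277, 6, 208133, 20),
  (3279, 4, 184452, 22),
  (3281, 6, 83335, 20),
  (3283, 5, 3285, 39),
  (3285, 4, 161826, 26),
  (3287, 3, 205274, 21),
  (3297, 6, 71055, 20),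
  (3299, 6, 43050, 26),
  (3301, 6, 205148, 21),
  (3303, 3, 205276, 21),
  (3321, 6, 256042, 26),
  (3323, 5, 36945, 37),
  (3325, 5, 36889, 37),
  (3327, 5, 139701, 43),
  (3329, 4, 33863, 20),
  (3331, 4, 35907, 20),
  (3333, 4, 35845, 20),
  (3335, 5, 33797, 20),
  (3353, 3, 90188, 24),
  (3355, 6, 90204, 24),
  (3357, 6, 72142, 23),
  (3359, 6, 42021, 20),
  (3369, 6, 84023, 19),
  (3371, 4, 67926, 22),
  (3373, 5, 3285, 42),
  (3375, 3, 156028, 24),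
  (3377, 4, 213062, 21),
  (3379, 6, 20857, 26),
  (3381, 6, 221484, 24),
  (3383, 5, 82085, 40),
  (3401, 4, 111066, 23),
  (3403, 6, 24669, 24),
  (3405, 6, 216357, 19),
  (3407, 6, 209114, 23),
  (3409, 3, 213066, 21),
  (3411, 6, 14434, 25),
  (3413, 6, 213322, 21),
  (3415, 6, 137347, 19),
  (3425, 3, 213068, 21),
  (3427, 5, 139659, 41),
  (3429, 5, 10426, 25),
  (3431, 6, 141459, 19),
  (3449, 5, 82197, 40),
  (3451, 5, 37057, 37),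
  (3453, 5, 37001, 37),
  (3455, 6, 14834, 25),
  (3465, 5, 204161, 6),
  (3467, 7, 24670, 24),
  (3469, 6, 24686, 24),
  (3471, 5, 204161, 12),
  (3473, 4, 90126, 24),
  (3475, 6, 221394, 21),
  (3477, 6, 98777, 22),
  (3479, 5, 82085, 44),
  (3489, 5, 36881, 38),
  (3491, 6, 221396, 21),
  (3493, 6, 164009, 23),
  (3495, 4, 155966, 24),
  (3513, 6, 88375, 7),
  (3515, 6, 216351, 17),
  (3517, 6, 146611, 8),
  (3519, 6, 145587, 8),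
  (3521, 6, 232449, 3),
  (3523, 7, 14371, 25),
  (3525, 6, 232901, 6),
  (3527, 6, 36225, 15),
  (3545, 5, 82197, 44),
  (3547, 5, 37001, 38),
  (3549, 5, 37057, 38),
  (3551, 6, 227582, 23),
  (3561, 6, 100734, 22),
  (3563, 5, 36889, 38),
  (3565, 5, 36945, 38),
  (3567, 5, 139701, 41),
  (3569, 6, 116119, 5),
  (3571, 6, 175525, 4),
  (3573, 6, 93527, 13),
  (3575, 6, 173477, 4),
  (4097, 2, 32776, 24),
  (4098, 3, 131104, 32),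
  (4100, 3, 65552, 31),
  (4103, 3, 15, 3),
  (4105, 2, 32840, 24),
  (4106, 3, 65552, 34),
  (4108, 3, 131104, 35),
  (4111, 3, 15, 6),
  (4115, 5, 65840, 26),
  (4117, 6, 139672, 26),
  (4118, 5, 188486, 39),
  (4123, 5, 65968, 26),
  (4125, 6, 2433, 22),
  (4126, 6, 12294, 12),
  (4131, 6, 5153, 16),
  (4133, 5, 131248, 25),
  (4134, 6, 22562, 8),
  (4139, 6, 82184, 25),
  (4141, 5, 131504, 25),
  (4142, 5, 155694, 43),
  (4145, 4, 35911, 21),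
  (4146, 4, 32775, 22),
  (4148, 4, 33863, 23),
  (4151, 6, 7231, 12),
  (4153, 4, 35841, 21),
  (4154, 4, 263, 23),
  (4156, 4, 32839, 23),
  (4159, 6, 31807, 15),
  (4163, 4, 37963, 7),
  (4165, 4, 38989, 8),
  (4166, 4, 6218, 5),
  (4171, 3, 75, 14),
  (4173, 3, 77, 13),
  (4174, 4, 34830, 1),
  (4177, 4, 37963, 21),
  (4178, 6, 213122, 26),
  (4180, 4, 165, 22),
  (4183, 5, 61812, 25),
  (4185, 4, 37889, 21),
  (4186, 6, 41034, 6),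
  (4188, 5, 24753, 20),
  (4191, 6, 33238, 23),
  (4193, 4, 38989, 21),
  (4194, 4, 24833, 19),
  (4196, 6, 36972, 15),
  (4199, 6, 33190, 22),
  (4201, 4, 38913, 21),
  (4202, 4, 24865, 19),
  (4204, 6, 204948, 25),
  (4207, 4, 61578, 26),
  (4211, 6, 1431, 23),
  (4213, 5, 423, 22),
  (4214, 6, 249994, 26),
  (4219, 5, 407, 23),
  (4221, 6, 24669, 13),
  (4222, 6, 34979, 22),
  (4227, 6, 65675, 11),
  (4229, 4, 131121, 25),
  (4230, 4, 205185, 21),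
  (4235, 6, 32858, 24),
  (4237, 5, 131377, 25),
  (4238, 4, 196625, 21),
  (4241, 6, 77825, 2),
  (4242, 5, 32781, 22),
  (4244, 4, 141, 22),
  (4247, 6, 215106, 23),
  (4249, 5, 90355, 44),
  (4250, 4, 294, 23),
  (4252, 4, 155697, 20),
  (4255, 6, 73871, 6),
  (4257, 4, 131233, 25),
  (4258, 5, 32782, 22),
  (4260, 4, 131217, 25),
  (4263, 6, 139279, 20),
  (4265, 4, 131489, 25),
  (4266, 4, 34826, 22),
  (4268, 5, 131473, 25),
  (4271, 6, 35210, 22),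
  (4275, 4, 229658, 24),
  (4277, 5, 155829, 43),
  (4278, 5, 155924, 43),
  (4283, 5, 423, 23),
  (4285, 6, 229738, 24),
  (4286, 5, 204930, 41),
  (4289, 4, 90114, 23),
  (4290, 5, 155766, 43),
  (4292, 4, 172, 22),
  (4295, 6, 137273, 25),
  (4297, 4, 32843, 24),
  (4298, 6, 37066, 13),
  (4300, 4, 139409, 20),
  (4303, 6, 36045, 8),
  (4307, 6, 137321, 25),
  (4309, 6, 211082, 26),
  (4310, 5, 78046, 39),
  (4315, 6, 155830, 20),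
  (4317, 5, 35989, 39),
  (4318, 4, 153738, 26),
  (4323, 6, 139406, 20),
  (4325, 4, 430, 22),
  (4326, 6, 34163, 23),
  (4331, 6, 24933, 19),
  (4333, 5, 120841, 17),
  (4334, 6, 24931, 19),
  (4337, 6, 155818, 20),
  (4338, 5, 205186, 41),
  (4340, 5, 204946, 41),
  (4343, 5, 126031, 9),
  (4345, 5, 183, 23),
  (4346, 5, 204818, 41),
  (4348, 5, 12372, 37),
  (4351, 5, 194698, 26),
  (4355, 4, 65585, 26),
  (4357, 6, 131085, 3),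
  (4358, 5, 197025, 21),
  (4363, 4, 8278, 20),
  (4365, 6, 6401, 11),
  (4366, 4, 213025, 21),
  (4369, 4, 65809, 26),
  (4370, 4, 65825, 26),
  (4372, 4, 6210, 23),
  (4375, 6, 202818, 23),
  (4377, 4, 65937, 26),
  (4378, 5, 65953, 26),
  (4380, 5, 32846, 23),
  (4383, 6, 82095, 19),
  (4385, 5, 204811, 41),
  (4386, 4, 90241, 19),
  (4388, 4, 33867, 23),
  (4391, 6, 147503, 3),
  (4393, 6, 4385, 11),
  (4394, 4, 90273, 19),
  (4396, 4, 32843, 23),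
  (4399, 6, 8287, 20),
  (4403, 6, 24686, 20),
  (4405, 5, 407, 22),
  (4406, 5, 41030, 39),
  (4411, 5, 213045, 40),
  (4413, 4, 229740, 24),
  (4414, 5, 90130, 44),
  (4417, 5, 32781, 24),
  (4418, 4, 82305, 19),
  (4420, 6, 135244, 4),
  (4423, 6, 36109, 5),
  (4425, 4, 32845, 24),
  (4426, 4, 82337, 19),
  (4428, 5, 213038, 40),
  (4431, 6, 70835, 26),
  (4435, 6, 38235, 7),
  (4437, 6, 24803, 20),
  (4438, 6, 24805, 20),
  (4443, 4, 414, 23),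
  (4445, 6, 82350, 19),
  (4446, 6, 6486, 16),
  (4451, 5, 205195, 41),
  (4453, 6, 35177, 11),
  (4454, 4, 164149, 24),
  (4459, 6, 137642, 25),
  (4461, 6, 164205, 24),
  (4462, 5, 106510, 42),
  (4465, 5, 311, 22),
  (4466, 5, 90258, 44),
  (4468, 5, 183, 22),
  (4471, 5, 137466, 25),
  (4473, 6, 90540, 19),
  (4474, 5, 90146, 44),
  (4476, 5, 10322, 39),
  (4479, 5, 213429, 40),
  (4481, 5, 32782, 24),
  (4482, 5, 73889, 21),
  (4484, 4, 139553, 21),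
  (4487, 6, 139335, 20),
  (4489, 5, 32846, 24),
  (4490, 4, 81969, 21),
  (4492, 4, 147505, 21),
  (4495, 6, 33258, 23),
  (4499, 6, 155750, 20),
  (4501, 5, 413, 22),
  (4502, 5, 200734, 15),
  (4507, 4, 430, 23),
  (4509, 5, 90405, 44),
  (4510, 4, 98422, 24),
  (4515, 5, 204981, 41),
  (4517, 4, 414, 22),
  (4518, 4, 164150, 24),
  (4523, 5, 427, 23),
  (4525, 6, 90342, 19),
  (4526, 6, 34970, 22),
  (4529, 5, 287, 22),
  (4530, 5, 204970, 7),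
  (4532, 6, 213276, 8),
  (4535, 6, 241127, 21),
  (4537, 5, 175, 23),
  (4538, 6, 205114, 5),
  (4540, 5, 213180, 4),
  (4543, 6, 248881, 21),
  (4547, 6, 225282, 23),
  (4549, 5, 38187, 38),
  (4550, 6, 159810, 23),
  (4555, 5, 38185, 38),
  (4557, 6, 33018, 23),
  (4558, 6, 94460, 22),
  (4561, 6, 155874, 20),
  (4562, 5, 155876, 20),
  (4564, 6, 155873, 20),
  (4567, 6, 155879, 20),
  (4569, 4, 190, 23),
  (4570, 4, 318, 23),
  (4572, 6, 82410, 19),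
  (4575, 5, 36175, 39),
  (4577, 4, 318, 22),
  (4578, 6, 139468, 20),
  (4580, 4, 190, 22),
  (4583, 5, 204837, 41),
  (4585, 6, 90596, 19),
  (4586, 6, 90593, 19),
  (4588, 5, 90594, 19),
  (4591, 6, 90599, 19),
  (4595, 6, 120187, 7),
  (4597, 6, 447, 22),
  (4598, 6, 155885, 20),
  (4603, 6, 67063, 26),
  (4605, 6, 178593, 4),
  (4606, 6, 90603, 19),
  (5125, 4, 7183, 8),
  (5127, 3, 15, 10),
  (5133, 4, 7183, 2),
  (5135, 3, 15, 13),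
  (5137, 5, 82192, 26),
  (5139, 3, 82224, 26),
  (5145, 3, 82320, 26),
  (5147, 5, 82352, 26),
  (5153, 5, 5521, 37),
  (5155, 6, 16395, 5),
  (5161, 6, 10266, 20),
  (5163, 6, 16395, 13),
  (5173, 5, 73971, 43),
  (5175, 5, 455, 22),
  (5181, 5, 5475, 37),
  (5183, 6, 15409, 19),
  (5185, 4, 37963, 8),
  (5187, 4, 37963, 6),
  (5193, 3, 75, 12),
  (5195, 3, 75, 13),
  (5205, 6, 33253, 22),
  (5207, 6, 485, 22),
  (5213, 6, 37975, 10),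
  (5215, 6, 106617, 24),
  (5221, 6, 33254, 22),
  (5223, 4, 486, 22),
  (5229, 6, 172393, 24),
  (5231, 6, 172409, 24),
  (5233, 6, 132247, 23),
  (5235, 6, 5241, 12),
  (5241, 5, 147629, 41),
  (5243, 5, 24715, 40),
  (5249, 6, 213250, 23),
  (5251, 6, 65675, 5),
  (5257, 6, 41034, 24),
  (5259, 5, 73943, 43),
  (5269, 5, 34155, 42),
  (5271, 6, 79879, 2),
  (5277, 5, 74123, 43),
  (5279, 7, 106618, 24),
  (5285, 5, 6493, 39),
  (5287, 5, 60465, 19),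
  (5293, 4, 172394, 24),
  (5295, 4, 135601, 25),
  (5297, 6, 35073, 38),
  (5299, 6, 237850, 24),
  (5305, 6, 82388, 26),
  (5307, 6, 33987, 42),
  (5317, 6, 33260, 22),
  (5319, 4, 492, 22),
  (5325, 6, 141459, 20),
  (5327, 6, 168081, 21),
  (5329, 6, 46283, 21),
  (5331, 5, 365, 22),
  (5337, 5, 6361, 39),
  (5339, 5, 34873, 38),
  (5345, 4, 125090, 26),
  (5347, 5, 112717, 21),
  (5353, 4, 141466, 20),
  (5355, 5, 34985, 38),
  (5365, 6, 260266, 26),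
  (5367, 4, 24657, 40),
  (5373, 4, 196745, 44),
  (5375, 6, 157887, 20),
  (5377, 5, 81937, 26),
  (5379, 4, 81969, 26),
  (5385, 4, 82065, 26),
  (5387, 4, 82097, 26),
  (5397, 5, 6381, 39),
  (5399, 6, 86321, 26),
  (5405, 6, 131450, 25),
  (5407, 4, 106620, 24),
  (5413, 6, 33238, 22),
  (5415, 4, 470, 22),
  (5421, 6, 86225, 26),
  (5423, 5, 172412, 24),
  (5425, 6, 131306, 25),
  (5427, 5, 196915, 44),
  (5433, 6, 131562, 25),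
  (5435, 5, 237916, 24),
  (5445, 6, 36169, 11),
  (5447, 6, 87091, 26),
  (5453, 6, 39183, 15),
  (5455, 6, 36169, 7),
  (5457, 4, 26850, 20),
  (5459, 6, 83251, 26),
  (5465, 6, 119969, 21),
  (5467, 5, 35097, 38),
  (5473, 5, 133290, 25),
  (5475, 4, 374, 22),
  (5481, 6, 35186, 22),
  (5483, 6, 2418, 22),
  (5493, 6, 204095, 19),
  (5495, 6, 162923, 14),
  (5501, 6, 220447, 19),
  (5503, 6, 26879, 20),
  (5509, 6, 33244, 22),
  (5511, 4, 476, 22),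
  (5517, 6, 242076, 22),
  (5519, 4, 164330, 23),
  (5521, 4, 157794, 20),
  (5523, 5, 196917, 44),
  (5529, 6, 120909, 19),
  (5531, 6, 131502, 23),
  (5537, 5, 147461, 41),
  (5539, 7, 108645, 21),
  (5545, 6, 35162, 22),
  (5547, 5, 5387, 37),
  (5557, 6, 175591, 21),
  (5559, 6, 479, 22),
  (5565, 6, 249009, 21),
  (5567, 6, 90399, 13),
  (5569, 4, 141506, 20),
  (5571, 4, 380, 22),
  (5577, 6, 230857, 6),
  (5579, 6, 192892, 22),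
  (5589, 6, 87319, 26),
  (5591, 6, 243051, 21),
  (5597, 6, 251057, 21),
  (5599, 6, 185521, 21),
  (5605, 6, 178669, 21),
  (5607, 5, 147493, 41),
  (5613, 5, 147717, 41),
  (5615, 6, 175281, 19),
  (5617, 6, 177403, 8),
  (5619, 6, 237855, 24),
  (5625, 6, 252253, 19),
  (5627, 6, 90459, 13),
  (6147, 4, 7183, 7),
  (6151, 3, 15, 11),
  (6155, 4, 7183, 1),
  (6159, 3, 15, 14),
  (6161, 6, 204936, 26),
  (6162, 6, 12294, 13),
  (6165, 6, 22562, 19),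
  (6166, 6, 12294, 8),
  (6169, 6, 8221, 8),
  (6170, 6, 12294, 7),
  (6173, 5, 73943, 40),
  (6174, 6, 10266, 10),
  (6177, 5, 82352, 25),
  (6178, 5, 197038, 43),
  (6181, 3, 213264, 25),
  (6182, 6, 20526, 14),
  (6185, 3, 213168, 25),
  (6186, 6, 22562, 3),
  (6189, 5, 82192, 25),
  (6190, 6, 22562, 16),
  (6195, 6, 23583, 20),
  (6199, 5, 6361, 38),
  (6203, 5, 455, 23),
  (6207, 5, 34873, 42),
  (6209, 4, 38989, 7),
  (6210, 3, 38918, 8),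
  (6213, 4, 38989, 6),
  (6214, 3, 131104, 44),
  (6217, 3, 77, 12),
  (6218, 3, 65552, 40),
  (6221, 3, 77, 14),
  (6222, 3, 38918, 3),
  (6227, 6, 239618, 23),
  (6231, 6, 114745, 24),
  (6235, 4, 470, 23),
  (6239, 6, 68657, 20),
  (6243, 6, 1491, 23),
  (6247, 6, 7275, 12),
  (6251, 6, 467, 23),
  (6255, 6, 25895, 19),
  (6257, 5, 34155, 37),
  (6258, 6, 39034, 15),
  (6261, 5, 74123, 40),
  (6262, 4, 249986, 26),
  (6265, 6, 59465, 6),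
  (6266, 5, 343, 23),
  (6269, 7, 145458, 19),
  (6270, 5, 63542, 3),
  (6273, 5, 139297, 25),
  (6274, 4, 74113, 21),
  (6277, 4, 139313, 25),
  (6278, 5, 204929, 21),
  (6281, 4, 139553, 25),
  (6282, 5, 196881, 21),
  (6285, 4, 139569, 25),
  (6286, 4, 65809, 21),
  (6291, 4, 114714, 24),
  (6295, 6, 78999, 1),
  (6299, 4, 486, 23),
  (6303, 6, 33190, 23),
  (6307, 4, 180506, 24),
  (6311, 6, 146705, 20),
  (6315, 6, 143785, 25),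
  (6319, 5, 35097, 42),
  (6321, 4, 246026, 24),
  (6322, 5, 24754, 41),
  (6325, 6, 175175, 21),
  (6326, 6, 65900, 26),
  (6329, 5, 196917, 43),
  (6330, 6, 88094, 17),
  (6333, 6, 66012, 26),
  (6334, 5, 24706, 41),
  (6339, 6, 38023, 15),
  (6343, 6, 36045, 10),
  (6347, 6, 145705, 25),
  (6351, 6, 38023, 4),
  (6353, 6, 124930, 23),
  (6354, 6, 110750, 10),
  (6357, 6, 124994, 23),
  (6358, 5, 180516, 42),
  (6361, 4, 246, 23),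
  (6362, 4, 374, 23),
  (6365, 4, 145538, 26),
  (6366, 5, 110806, 11),
  (6369, 5, 6381, 38),
  (6370, 6, 1395, 23),
  (6373, 6, 65966, 22),
  (6374, 5, 73750, 40),
  (6377, 6, 141729, 25),
  (6378, 5, 73862, 40),
  (6381, 4, 174130, 19),
  (6382, 6, 25955, 19),
  (6387, 6, 145641, 25),
  (6391, 6, 212273, 20),
  (6395, 6, 97679, 20),
  (6399, 6, 204081, 20),
  (6401, 5, 5521, 39),
  (6402, 5, 65953, 21),
  (6405, 6, 49196, 24),
  (6406, 5, 196769, 21),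
  (6409, 6, 131085, 8),
  (6410, 4, 213281, 21),
  (6413, 6, 131085, 14),
  (6414, 4, 82209, 21),
  (6419, 4, 143466, 25),
  (6423, 4, 114748, 24),
  (6427, 5, 60487, 20),
  (6431, 5, 34985, 42),
  (6435, 6, 69753, 26),
  (6439, 5, 147629, 44),
  (6443, 6, 6439, 11),
  (6447, 5, 24715, 41),
  (6449, 6, 35073, 42),
  (6450, 6, 55389, 20),
  (6453, 6, 139506, 25),
  (6454, 6, 65897, 26),
  (6457, 6, 88094, 19),
  (6458, 6, 157742, 14),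
  (6461, 6, 33987, 37),
  (6462, 5, 143834, 25),
  (6467, 6, 241666, 23),
  (6471, 6, 83335, 19),
  (6475, 4, 474, 23),
  (6479, 6, 83367, 19),
  (6481, 5, 6493, 38),
  (6482, 6, 145482, 25),
  (6485, 4, 153762, 19),
  (6486, 5, 196742, 43),
  (6489, 5, 185633, 21),
  (6490, 5, 86026, 39),
  (6493, 4, 68017, 22),
  (6494, 6, 145754, 25),
  (6497, 5, 73971, 40),
  (6498, 5, 184334, 10),
  (6501, 5, 5475, 39),
  (6502, 5, 98486, 22),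
  (6505, 5, 219, 23),
  (6506, 5, 147500, 44),
  (6509, 6, 55585, 21),
  (6510, 6, 184390, 2),
  (6515, 6, 145642, 25),
  (6519, 4, 196745, 43),
  (6523, 4, 24657, 41),
  (6527, 6, 246141, 24),
  (6531, 5, 98588, 22),
  (6535, 6, 249922, 23),
  (6539, 4, 490, 23),
  (6543, 6, 33194, 23),
  (6545, 5, 147461, 44),
  (6546, 5, 74130, 40),
  (6549, 6, 120898, 23),
  (6550, 5, 34838, 42),
  (6553, 7, 58691, 20),
  (6554, 5, 34898, 42),
  (6557, 5, 5387, 39),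
  (6558, 5, 12380, 42),
  (6561, 6, 65822, 22),
  (6562, 6, 39261, 20),
  (6565, 6, 65950, 22),
  (6566, 5, 196882, 43),
  (6569, 5, 196915, 43),
  (6570, 5, 45068, 38),
  (6573, 5, 43186, 19),
  (6574, 6, 180598, 24),
  (6579, 6, 89407, 7),
  (6583, 6, 240871, 21),
  (6587, 6, 91373, 19),
  (6591, 6, 155823, 14),
  (6593, 6, 126978, 23),
  (6594, 5, 235594, 15),
  (6597, 6, 141363, 25),
  (6598, 5, 147722, 44),
  (6601, 4, 250, 23),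
  (6602, 4, 378, 23),
  (6605, 5, 166050, 19),
  (6606, 6, 39302, 12),
  (6611, 6, 118231, 20),
  (6615, 5, 147717, 44),
  (6619, 5, 147493, 44),
  (6623, 6, 120113, 21),
  (6627, 6, 113133, 21),
  (6631, 6, 243949, 21),
  (6635, 6, 252175, 17),
  (6639, 6, 180607, 24),
  (6641, 6, 120283, 20),
  (6642, 6, 121309, 20),
  (6645, 6, 242993, 20),
  (6646, 5, 178658, 13),
  (6649, 6, 255, 23),
  (6650, 6, 129454, 8),
  (6653, 6, 155885, 14),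
  (6654, 6, 89393, 21),
  (7169, 3, 4097, 42),
  (7171, 3, 15, 5),
  (7173, 3, 15, 4),
  (7175, 4, 7183, 6),
  (7177, 3, 15, 12),
  (7179, 3, 15, 8),
  (7181, 3, 15, 7),
  (7183, 3, 32833, 39),
  (7217, 5, 2337, 37),
  (7219, 6, 5181, 12),
  (7221, 6, 15413, 20),
  (7223, 6, 31793, 15),
  (7225, 5, 63, 12),
  (7227, 6, 167297, 21),
  (7229, 6, 23581, 19),
  (7231, 5, 1171, 38),
  (7249, 6, 83095, 20),
  (7251, 5, 33141, 39),
  (7253, 4, 239938, 23),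
  (7255, 6, 7257, 12),
  (7257, 5, 16621, 43),
  (7259, 6, 8239, 44),
  (7261, 6, 100833, 22),
  (7263, 4, 188524, 25),
  (7265, 5, 123050, 26),
  (7267, 6, 16447, 43),
  (7269, 6, 165011, 23),
  (7271, 5, 8523, 44),
  (7273, 6, 38951, 4),
  (7275, 5, 32947, 39),
  (7277, 4, 100834, 22),
  (7279, 6, 141363, 19),
  (7313, 4, 248066, 23),
  (7315, 5, 122906, 24),
  (7317, 6, 142645, 20),
  (7319, 5, 238659, 21),
  (7321, 6, 86428, 26),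
  (7323, 5, 122970, 24),
  (7325, 6, 99729, 21),
  (7327, 6, 78999, 11),
  (7329, 5, 86108, 26),
  (7331, 6, 65870, 22),
  (7333, 5, 33117, 39),
  (7335, 7, 65998, 22),
  (7337, 6, 13583, 20),
  (7339, 5, 175, 8),
  (7341, 6, 138517, 20),
  (7343, 5, 65737, 41),
  (7361, 4, 92330, 26),
  (7363, 6, 65900, 22),
  (7365, 6, 208149, 20),
  (7367, 6, 66028, 22),
  (7369, 6, 4345, 42),
  (7371, 4, 184812, 22),
  (7373, 4, 30882, 26),
  (7375, 6, 37265, 21),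
  (7409, 6, 87455, 20),
  (7411, 5, 126011, 3),
  (7413, 5, 16677, 43),
  (7415, 5, 4289, 42),
  (7417, 5, 4297, 42),
  (7419, 5, 16645, 43),
  (7421, 6, 111861, 11),
  (7423, 6, 112815, 16),
  (7441, 5, 8265, 44),
  (7443, 5, 287, 5),
  (7445, 6, 72749, 19),
  (7447, 7, 122940, 24),
  (7449, 7, 131278, 23),
  (7451, 6, 131534, 23),
  (7453, 5, 32939, 39),
  (7455, 4, 143730, 25),
  (7457, 6, 152871, 2),
  (7459, 4, 188700, 24),
  (7461, 6, 166117, 21),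
  (7463, 6, 143538, 25),
  (7465, 5, 248225, 21),
  (7467, 5, 188764, 24),
  (7469, 6, 188780, 24),
  (7471, 4, 68050, 22),
  (7489, 6, 37353, 21),
  (7491, 4, 102761, 21),
  (7493, 4, 141370, 25),
  (7495, 6, 4465, 42),
  (7497, 6, 131290, 23),
  (7499, 6, 33171, 39),
  (7501, 7, 141626, 25),
  (7503, 4, 254324, 22),
  (7537, 6, 183675, 10),
  (7539, 5, 131365, 40),
  (7541, 6, 42365, 11),
  (7543, 5, 65633, 41),
  (7545, 5, 32857, 39),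
  (7547, 5, 191819, 6),
  (7549, 5, 4355, 42),
  (7551, 6, 145587, 19),
  (7553, 6, 131141, 40),
  (7555, 6, 36179, 20),
  (7557, 4, 98780, 22),
  (7559, 6, 66012, 22),
  (7561, 6, 131306, 23),
  (7563, 6, 36003, 19),
  (7565, 4, 164010, 23),
  (7567, 6, 16429, 43),
  (7601, 6, 8271, 44),
  (7603, 6, 82335, 5),
  (7605, 6, 254254, 24),
  (7607, 6, 82301, 26),
  (7609, 6, 139755, 25),
  (7611, 6, 139455, 8),
  (7613, 6, 254318, 24),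
  (7615, 6, 16495, 43),
  (7633, 5, 8613, 44),
  (7635, 6, 4123, 42),
  (7637, 6, 144589, 14),
  (7639, 5, 4177, 42),
  (7641, 5, 33097, 39),
  (7643, 6, 126403, 20),
  (7645, 6, 2089, 37),
  (7647, 6, 54705, 21),
  (7649, 6, 47597, 21),
  (7651, 6, 248875, 3),
  (7653, 6, 2373, 37),
  (7655, 5, 32905, 39),
  (7657, 5, 4201, 42),
  (7659, 6, 32899, 39),
  (7661, 6, 121265, 21),
  (7663, 5, 251151, 17),
  (8193, 3, 4097, 31),
  (8194, 2, 32840, 25),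
  (8196, 3, 16420, 34),
  (8199, 4, 4103, 19),
  (8200, 2, 65538, 29),
  (8203, 5, 131248, 26),
  (8205, 6, 8221, 16),
  (8206, 6, 12294, 15),
  (8209, 3, 32833, 35),
  (8210, 1, 72, 25),
  (8212, 2, 65538, 32),
  (8215, 4, 4111, 19),
  (8216, 3, 16420, 28),
  (8219, 5, 131504, 26),
  (8221, 5, 90355, 37),
  (8222, 6, 10266, 17),
  (8227, 6, 1073, 8),
  (8229, 6, 12294, 19),
  (8230, 4, 197040, 24),
  (8233, 4, 33184, 25),
  (8234, 4, 3139, 22),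
  (8236, 4, 35905, 23),
  (8239, 5, 63, 20),
  (8243, 6, 1073, 16),
  (8245, 6, 16395, 20),
  (8246, 5, 131504, 24),
  (8249, 4, 1095, 21),
  (8250, 5, 33861, 22),
  (8252, 4, 35909, 23),
  (8255, 5, 90405, 37),
  (8259, 5, 204811, 42),
  (8261, 4, 213409, 22),
  (8262, 4, 90114, 37),
  (8265, 4, 1097, 21),
  (8266, 6, 36882, 10),
  (8268, 3, 177, 20),
  (8271, 5, 183, 20),
  (8275, 6, 33809, 16),
  (8277, 4, 212993, 22),
  (8278, 3, 177, 24),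
  (8281, 4, 1099, 21),
  (8282, 6, 41034, 4),
  (8284, 4, 205202, 42),
  (8287, 5, 249, 24),
  (8289, 5, 38990, 21),
  (8290, 4, 172, 20),
  (8292, 4, 169, 20),
  (8295, 5, 175, 20),
  (8296, 5, 1037, 21),
  (8299, 4, 190, 20),
  (8301, 5, 155829, 39),
  (8302, 6, 39034, 11),
  (8305, 5, 38914, 21),
  (8306, 5, 131473, 24),
  (8308, 4, 131489, 24),
  (8311, 4, 61706, 26),
  (8312, 4, 1039, 21),
  (8315, 6, 250276, 25),
  (8317, 6, 254388, 25),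
  (8318, 5, 63542, 1),
  (8323, 5, 4165, 19),
  (8325, 5, 4166, 19),
  (8326, 5, 4163, 19),
  (8329, 6, 77825, 7),
  (8330, 4, 6217, 22),
  (8332, 4, 131121, 20),
  (8335, 6, 246182, 23),
  (8339, 4, 4173, 19),
  (8341, 5, 4174, 19),
  (8342, 4, 4171, 19),
  (8345, 6, 131476, 26),
  (8346, 4, 36933, 22),
  (8348, 4, 147473, 20),
  (8351, 4, 250, 24),
  (8353, 3, 177, 8),
  (8354, 4, 5195, 22),
  (8356, 5, 188486, 40),
  (8359, 6, 197050, 24),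
  (8360, 4, 7179, 22),
  (8363, 6, 3489, 23),
  (8365, 6, 197098, 24),
  (8366, 6, 197106, 24),
  (8369, 3, 177, 4),
  (8370, 4, 37953, 22),
  (8372, 6, 90148, 3),
  (8375, 6, 37113, 25),
  (8376, 5, 5125, 22),
  (8379, 6, 131546, 24),
  (8381, 6, 6329, 4),
  (8382, 4, 135652, 26),
  (8385, 6, 32913, 15),
  (8386, 4, 38921, 25),
  (8388, 4, 131233, 20),
  (8391, 6, 254388, 23),
  (8392, 5, 131248, 20),
  (8395, 5, 204981, 42),
  (8397, 4, 211210, 26),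
  (8398, 5, 110662, 15),
  (8401, 6, 36882, 21),
  (8402, 4, 147, 24),
  (8404, 4, 147585, 20),
  (8407, 5, 213045, 38),
  (8408, 4, 147600, 20),
  (8411, 5, 219, 24),
  (8413, 5, 235, 24),
  (8414, 6, 110606, 3),
  (8419, 6, 34033, 8),
  (8421, 6, 218539, 22),
  (8422, 5, 41030, 40),
  (8425, 6, 3249, 23),
  (8426, 4, 248066, 26),
  (8428, 5, 155924, 39),
  (8431, 6, 220651, 22),
  (8435, 6, 12621, 19),
  (8437, 6, 90181, 13),
  (8438, 5, 90130, 37),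
  (8441, 6, 147610, 20),
  (8442, 5, 122906, 17),
  (8444, 5, 204930, 42),
  (8447, 6, 250949, 22),
  (8451, 4, 131121, 26),
  (8453, 4, 205201, 22),
  (8454, 7, 135201, 26),
  (8457, 4, 131217, 26),
  (8458, 4, 131233, 26)]

theorem chk_rows2_0 : rows2_0.all (rowBP tr2 gensLitP 72) = true := by decide +kernel

/-- Rows 1500 to 2999. -/
def rows2_1 : List (ℕ × ℕ × ℕ × ℕ) := [(8460, 3, 36878, 23),
  (8463, 6, 233870, 23),
  (8467, 4, 16454, 20),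
  (8469, 4, 204801, 22),
  (8470, 7, 135236, 23),
  (8473, 5, 131473, 26),
  (8474, 4, 131489, 26),
  (8476, 4, 38922, 23),
  (8479, 4, 252, 24),
  (8481, 3, 305, 11),
  (8482, 6, 155938, 1),
  (8484, 4, 34889, 23),
  (8487, 6, 35273, 23),
  (8488, 4, 3081, 23),
  (8491, 5, 38187, 41),
  (8493, 6, 77990, 19),
  (8494, 6, 36169, 23),
  (8497, 4, 155953, 10),
  (8498, 5, 213038, 38),
  (8500, 4, 34893, 23),
  (8503, 6, 37114, 25),
  (8504, 4, 3085, 23),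
  (8507, 6, 16478, 20),
  (8509, 5, 35989, 40),
  (8510, 6, 37338, 25),
  (8513, 4, 155953, 22),
  (8514, 4, 38922, 25),
  (8516, 4, 90289, 22),
  (8519, 5, 231, 20),
  (8520, 7, 12318, 23),
  (8523, 4, 246, 20),
  (8525, 6, 110750, 23),
  (8526, 5, 245, 20),
  (8529, 4, 155649, 22),
  (8530, 3, 38986, 25),
  (8532, 4, 90113, 22),
  (8535, 6, 39034, 25),
  (8536, 7, 16592, 20),
  (8539, 6, 39274, 25),
  (8541, 5, 237, 24),
  (8542, 5, 245, 24),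
  (8547, 6, 39082, 25),
  (8549, 5, 235, 20),
  (8550, 5, 237, 20),
  (8553, 4, 250, 20),
  (8554, 4, 252, 20),
  (8556, 5, 204946, 42),
  (8559, 6, 17869, 21),
  (8563, 6, 16590, 20),
  (8565, 6, 35058, 25),
  (8566, 5, 10322, 40),
  (8569, 6, 155721, 1),
  (8570, 5, 39370, 25),
  (8572, 5, 12372, 43),
  (8575, 6, 158795, 1),
  (8577, 3, 401, 15),
  (8578, 4, 36875, 25),
  (8580, 6, 204948, 16),
  (8583, 5, 208263, 12),
  (8584, 5, 155766, 39),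
  (8587, 6, 65758, 24),
  (8589, 6, 33075, 25),
  (8590, 5, 184622, 23),
  (8593, 4, 205201, 12),
  (8594, 4, 150, 24),
  (8596, 6, 204948, 4),
  (8599, 4, 190, 24),
  (8600, 6, 204824, 6),
  (8603, 5, 38185, 41),
  (8605, 6, 196765, 16),
  (8606, 4, 246, 24),
  (8611, 6, 155827, 14),
  (8613, 4, 174438, 21),
  (8614, 6, 35177, 23),
  (8617, 6, 25685, 21),
  (8618, 6, 197078, 24),
  (8620, 5, 78046, 40),
  (8623, 6, 36329, 23),
  (8627, 6, 78029, 19),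
  (8629, 6, 131502, 24),
  (8630, 6, 147533, 20),
  (8633, 6, 213305, 2),
  (8634, 6, 147548, 20),
  (8636, 4, 135621, 26),
  (8639, 5, 36175, 40),
  (8643, 5, 205195, 42),
  (8645, 6, 35221, 15),
  (8646, 5, 90258, 37),
  (8649, 6, 94398, 23),
  (8650, 6, 160062, 23),
  (8652, 5, 205186, 42),
  (8655, 6, 242135, 6),
  (8659, 6, 118834, 21),
  (8661, 5, 175, 24),
  (8662, 5, 90146, 37),
  (8665, 6, 35171, 25),
  (8666, 6, 39243, 25),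
  (8668, 5, 204818, 42),
  (8671, 6, 255, 24),
  (8673, 6, 131306, 20),
  (8674, 4, 80046, 21),
  (8676, 6, 78274, 19),
  (8679, 5, 244206, 21),
  (8680, 6, 74104, 10),
  (8683, 5, 204837, 42),
  (8685, 5, 155781, 39),
  (8686, 6, 36217, 23),
  (8689, 5, 78284, 19),
  (8690, 5, 106510, 44),
  (8692, 6, 147657, 20),
  (8695, 5, 213429, 38),
  (8696, 6, 35267, 25),
  (8699, 6, 39403, 25),
  (8701, 5, 78318, 19),
  (8702, 6, 39387, 25),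
  (9221, 5, 3087, 19),
  (9223, 4, 7177, 19),
  (9225, 4, 147600, 26),
  (9227, 4, 147632, 26),
  (9237, 5, 7175, 19),
  (9239, 4, 3081, 19),
  (9241, 4, 147856, 26),
  (9243, 4, 147888, 26),
  (9249, 6, 1073, 11),
  (9251, 6, 24579, 5),
  (9261, 6, 31793, 14),
  (9263, 6, 6199, 8),
  (9265, 6, 24579, 1),
  (9267, 6, 139672, 24),
  (9277, 6, 167109, 23),
  (9279, 5, 63, 16),
  (9281, 6, 155938, 26),
  (9283, 6, 204948, 23),
  (9293, 5, 248225, 22),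
  (9295, 3, 156028, 25),
  (9297, 6, 8259, 1),
  (9299, 6, 49196, 25),
  (9309, 6, 18579, 20),
  (9311, 6, 37975, 6),
  (9317, 6, 94460, 25),
  (9319, 4, 90364, 25),
  (9321, 6, 254242, 26),
  (9323, 4, 213484, 25),
  (9333, 6, 127164, 25),
  (9335, 6, 142361, 19),
  (9337, 6, 134293, 23),
  (9339, 6, 157721, 19),
  (9345, 4, 34893, 19),
  (9347, 4, 38921, 19),
  (9357, 6, 75089, 21),
  (9359, 6, 73978, 24),
  (9361, 4, 38981, 19),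
  (9363, 5, 34825, 19),
  (9373, 4, 117154, 23),
  (9375, 6, 151988, 26),
  (9381, 4, 174534, 21),
  (9383, 4, 151668, 26),
  (9385, 7, 147668, 26),
  (9387, 3, 205274, 24),
  (9397, 6, 166117, 23),
  (9399, 5, 93313, 1),
  (9401, 6, 139722, 24),
  (9403, 6, 147956, 26),
  (9413, 4, 162090, 26),
  (9415, 5, 241994, 21),
  (9417, 6, 65755, 1),
  (9419, 6, 39201, 25),
  (9429, 6, 149635, 20),
  (9431, 6, 249857, 22),
  (9433, 6, 35177, 25),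
  (9435, 6, 184325, 22),
  (9441, 5, 133290, 20),
  (9443, 6, 39073, 25),
  (9453, 7, 75101, 21),
  (9455, 6, 125963, 17),
  (9457, 5, 59682, 26),
  (9459, 6, 107747, 11),
  (9469, 6, 95303, 13),
  (9471, 6, 112938, 26),
  (9473, 4, 147473, 26),
  (9475, 4, 147505, 26),
  (9485, 7, 102798, 23),
  (9487, 6, 233614, 23),
  (9489, 5, 147729, 26),
  (9491, 5, 147761, 26),
  (9501, 6, 8428, 24),
  (9503, 6, 8444, 24),
  (9509, 4, 166374, 21),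
  (9511, 6, 37042, 25),
  (9513, 6, 33194, 25),
  (9515, 3, 205276, 24),
  (9525, 6, 139692, 24),
  (9527, 6, 155959, 10),
  (9529, 6, 33258, 25),
  (9531, 6, 139740, 24),
  (9541, 7, 34874, 25),
  (9543, 5, 343, 13),
  (9545, 6, 78238, 23),
  (9547, 5, 177491, 6),
  (9557, 6, 34938, 25),
  (9559, 6, 39026, 25),
  (9561, 4, 80282, 23),
  (9563, 6, 39266, 25),
  (9569, 6, 189747, 22),
  (9571, 6, 205213, 24),
  (9581, 6, 205293, 24),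
  (9583, 6, 2303, 20),
  (9585, 6, 35050, 25),
  (9587, 6, 189441, 22),
  (9597, 6, 35322, 25),
  (9599, 6, 178279, 8),
  (9605, 6, 151573, 26),
  (9607, 6, 242137, 22),
  (9609, 6, 196763, 1),
  (9611, 6, 37155, 25),
  (9621, 5, 217412, 23),
  (9623, 4, 86340, 23),
  (9625, 6, 8398, 24),
  (9627, 6, 196763, 16),
  (9633, 4, 43238, 21),
  (9635, 4, 205214, 24),
  (9645, 6, 162993, 14),
  (9647, 6, 91605, 21),
  (9649, 6, 33003, 25),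
  (9651, 6, 139678, 24),
  (9661, 6, 96563, 7),
  (9663, 5, 196799, 16),
  (9665, 6, 73871, 24),
  (9667, 6, 192889, 22),
  (9677, 6, 260537, 22),
  (9679, 6, 243159, 6),
  (9681, 7, 238593, 3),
  (9683, 5, 53426, 21),
  (9693, 6, 242701, 3),
  (9695, 6, 39283, 25),
  (9701, 6, 205231, 24),
  (9703, 6, 158963, 14),
  (9705, 6, 194027, 10),
  (9707, 6, 250939, 3),
  (9717, 6, 252082, 21),
  (9719, 6, 247255, 6),
  (9721, 5, 35307, 25),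
  (9723, 6, 112107, 11),
  (10243, 5, 5125, 19),
  (10247, 4, 5127, 19),
  (10249, 6, 98502, 23),
  (10250, 5, 209370, 42),
  (10253, 6, 14337, 12),
  (10254, 6, 10266, 13),
  (10259, 5, 5133, 19),
  (10263, 4, 5135, 19),
  (10265, 6, 14337, 13),
  (10266, 5, 8606, 44),
  (10269, 6, 8221, 17),
  (10270, 6, 12294, 5),
  (10273, 6, 213384, 24),
  (10274, 4, 213392, 24),
  (10277, 6, 165958, 21),
  (10278, 5, 213424, 24),
  (10283, 6, 31807, 20),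
  (10287, 6, 7217, 8),
  (10289, 6, 2101, 4),
  (10290, 4, 147856, 24),
  (10293, 6, 10266, 19),
  (10294, 4, 147888, 24),
  (10299, 6, 147928, 24),
  (10303, 6, 31777, 20),
  (10305, 5, 147873, 22),
  (10306, 4, 82065, 24),
  (10309, 4, 213281, 22),
  (10310, 4, 82097, 24),
  (10315, 6, 238038, 23),
  (10319, 4, 205270, 23),
  (10321, 4, 213121, 22),
  (10322, 4, 16529, 24),
  (10325, 4, 147585, 22),
  (10326, 5, 16561, 24),
  (10331, 6, 16601, 24),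
  (10335, 4, 192804, 25),
  (10339, 5, 86260, 25),
  (10343, 6, 89089, 20),
  (10345, 6, 36981, 8),
  (10346, 4, 246026, 26),
  (10349, 6, 213481, 24),
  (10350, 6, 36113, 23),
  (10355, 7, 35889, 16),
  (10359, 6, 35221, 23),
  (10361, 5, 153910, 19),
  (10362, 7, 260470, 40),
  (10365, 5, 110850, 26),
  (10366, 6, 30842, 16),
  (10369, 4, 34894, 19),
  (10370, 5, 5185, 19),
  (10373, 4, 38922, 19),
  (10374, 5, 5187, 19),
  (10379, 6, 246246, 23),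
  (10383, 3, 213478, 23),
  (10385, 4, 38982, 19),
  (10386, 4, 5193, 19),
  (10389, 4, 34826, 19),
  (10390, 4, 5195, 19),
  (10395, 6, 16602, 24),
  (10399, 6, 16634, 24),
  (10403, 6, 213402, 24),
  (10407, 5, 93313, 5),
  (10409, 6, 138635, 22),
  (10410, 4, 135404, 26),
  (10413, 4, 213482, 24),
  (10414, 3, 90302, 8),
  (10419, 4, 231698, 21),
  (10423, 6, 100626, 21),
  (10425, 6, 80045, 11),
  (10426, 4, 190, 13),
  (10429, 6, 131548, 26),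
  (10430, 5, 92334, 9),
  (10435, 6, 33943, 15),
  (10439, 6, 82107, 24),
  (10441, 6, 182638, 19),
  (10442, 4, 215306, 26),
  (10445, 3, 90358, 23),
  (10446, 4, 156022, 23),
  (10451, 6, 253956, 23),
  (10455, 6, 33943, 4),
  (10457, 6, 140379, 21),
  (10458, 6, 39066, 12),
  (10461, 7, 16619, 24),
  (10462, 6, 108618, 4),
  (10465, 6, 87467, 20),
  (10466, 6, 47241, 25),
  (10469, 6, 213419, 24),
  (10470, 5, 211086, 21),
  (10475, 6, 38133, 8),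
  (10479, 6, 128103, 7),
  (10481, 6, 147851, 24),
  (10482, 5, 57526, 1),
  (10485, 6, 32949, 4),
  (10486, 6, 35125, 23),
  (10491, 5, 147931, 24),
  (10495, 6, 97349, 13),
  (10497, 4, 139665, 22),
  (10498, 7, 168268, 23),
  (10501, 4, 205073, 22),
  (10502, 6, 82100, 24),
  (10507, 6, 7441, 13),
  (10511, 6, 82172, 24),
  (10513, 5, 204929, 22),
  (10514, 6, 167940, 23),
  (10517, 5, 139393, 22),
  (10518, 7, 168004, 23),
  (10523, 6, 235978, 23),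
  (10527, 4, 45434, 25),
  (10531, 6, 135289, 26),
  (10535, 5, 311, 11),
  (10537, 6, 142739, 22),
  (10538, 4, 45450, 25),
  (10541, 4, 213484, 24),
  (10542, 6, 4414, 11),
  (10547, 6, 159025, 10),
  (10551, 7, 147900, 24),
  (10553, 6, 147916, 24),
  (10554, 6, 159750, 10),
  (10557, 6, 147948, 24),
  (10558, 5, 22814, 12),
  (10563, 4, 102890, 21),
  (10567, 6, 117761, 20),
  (10569, 5, 178461, 4),
  (10570, 6, 178242, 15),
  (10573, 4, 153738, 19),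
  (10574, 6, 124929, 20),
  (10579, 5, 250146, 21),
  (10583, 6, 71055, 19),
  (10585, 6, 148555, 21),
  (10586, 6, 35102, 8),
  (10589, 4, 43378, 25),
  (10590, 6, 178190, 3),
  (10593, 6, 120043, 20),
  (10594, 6, 121069, 20),
  (10597, 5, 43186, 25),
  (10598, 4, 202926, 21),
  (10603, 6, 186427, 3),
  (10607, 6, 146787, 12),
  (10609, 6, 136539, 26),
  (10610, 5, 57670, 4),
  (10613, 4, 141466, 19),
  (10614, 6, 188502, 2),
  (10619, 6, 47594, 25),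
  (10623, 6, 36253, 23),
  (10627, 6, 82078, 24),
  (10631, 6, 237794, 21),
  (10633, 5, 413, 15),
  (10634, 6, 65822, 4),
  (10637, 6, 196765, 1),
  (10638, 6, 82166, 24),
  (10643, 6, 249860, 23),
  (10647, 7, 114994, 21),
  (10649, 6, 156755, 21),
  (10650, 6, 70889, 19),
  (10653, 6, 210957, 3),
  (10654, 6, 205086, 17),
  (10657, 6, 205221, 12),
  (10658, 6, 213142, 10),
  (10661, 3, 213422, 24),
  (10662, 6, 196918, 5),
  (10667, 6, 208057, 16),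
  (10671, 6, 131325, 26),
  (10673, 6, 135517, 26),
  (10674, 6, 196790, 7),
  (10677, 5, 185633, 20),
  (10678, 6, 74150, 11),
  (10683, 6, 147934, 24),
  (10687, 6, 157143, 21),
  (10689, 6, 231758, 19),
  (10690, 5, 182290, 40),
  (10693, 6, 94460, 23),
  (10694, 6, 248065, 20),
  (10699, 5, 34207, 15),
  (10703, 6, 47419, 25),
  (10705, 4, 184626, 21),
  (10706, 6, 74070, 16),
  (10709, 6, 43123, 25),
  (10710, 6, 174482, 1),
  (10715, 6, 42383, 15),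
  (10719, 6, 243727, 3),
  (10723, 6, 213407, 24),
  (10727, 6, 126337, 5),
  (10729, 6, 248190, 19),
  (10730, 6, 243810, 15),
  (10733, 6, 195053, 10),
  (10734, 6, 251966, 3),
  (10739, 6, 126327, 7),
  (10743, 6, 253217, 20),
  (10745, 6, 113133, 11),
  (10746, 5, 260138, 3),
  (10749, 7, 43507, 25),
  (10750, 5, 151798, 14),
  (11265, 4, 2063, 19),
  (11267, 4, 7179, 19),
  (11269, 4, 3085, 19),
  (11271, 4, 90296, 24),
  (11281, 4, 6151, 19),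
  (11283, 4, 3083, 19),
  (11285, 4, 7173, 19),
  (11287, 5, 2059, 19),
  (11305, 6, 18495, 19),
  (11307, 6, 7231, 11),
  (11309, 6, 5181, 11),
  (11311, 6, 147704, 26),
  (11321, 6, 156104, 24),
  (11323, 6, 27675, 19),
  (11325, 6, 147928, 26),
  (11327, 6, 5181, 4),
  (11337, 6, 37975, 8),
  (11339, 6, 205098, 26),
  (11341, 6, 37981, 11),
  (11343, 6, 90361, 24),
  (11353, 4, 109010, 23),
  (11355, 5, 178509, 43),
  (11357, 6, 93221, 20),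
  (11359, 6, 180357, 22),
  (11361, 6, 87215, 20),
  (11363, 5, 89259, 20),
  (11365, 4, 94444, 25),
  (11367, 6, 90348, 25),
  (11377, 4, 57642, 26),
  (11379, 6, 142363, 19),
  (11381, 6, 138517, 19),
  (11383, 5, 45346, 26),
  (11401, 6, 79879, 7),
  (11403, 6, 45345, 25),
  (11405, 6, 147612, 26),
  (11407, 4, 90362, 24),
  (11417, 7, 117218, 23),
  (11419, 6, 206035, 21),
  (11421, 6, 73871, 1),
  (11423, 6, 5277, 4),
  (11425, 7, 221578, 24),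
  (11427, 5, 183, 8),
  (11429, 6, 147548, 26),
  (11431, 6, 166305, 23),
  (11441, 4, 151900, 26),
  (11443, 5, 156058, 24),
  (11445, 5, 183, 4),
  (11447, 6, 45297, 25),
  (11457, 6, 73927, 12),
  (11459, 6, 184809, 22),
  (11461, 6, 250153, 22),
  (11463, 5, 250217, 22),
  (11473, 5, 26922, 26),
  (11475, 4, 168338, 21),
  (11477, 6, 73927, 1),
  (11479, 6, 37266, 21),
  (11497, 5, 129127, 7),
  (11499, 6, 239914, 26),
  (11501, 5, 178265, 43),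
  (11503, 6, 88151, 13),
  (11513, 6, 128159, 5),
  (11515, 6, 156123, 24),
  (11517, 5, 250177, 38),
  (11519, 6, 100543, 16),
  (11529, 5, 287, 15),
  (11531, 5, 45346, 25),
  (11533, 6, 90348, 24),
  (11535, 4, 90364, 24),
  (11545, 6, 42103, 20),
  (11547, 7, 235722, 23),
  (11549, 5, 146435, 8),
  (11551, 6, 24828, 24),
  (11553, 6, 221580, 24),
  (11555, 5, 158775, 14),
  (11557, 4, 41146, 25),
  (11559, 5, 178517, 43),
  (11569, 4, 41194, 25),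
  (11571, 6, 238721, 22),
  (11573, 4, 117154, 21),
  (11575, 6, 51618, 21),
  (11585, 6, 43050, 25),
  (11587, 4, 102762, 21),
  (11589, 6, 90285, 24),
  (11591, 6, 36113, 15),
  (11601, 4, 241924, 23),
  (11603, 5, 184738, 21),
  (11605, 5, 175109, 3),
  (11607, 6, 110916, 23),
  (11625, 6, 191923, 22),
  (11627, 6, 221661, 24),
  (11629, 6, 38269, 11),
  (11631, 6, 128005, 20),
  (11641, 6, 43498, 25),
  (11643, 6, 156125, 24),
  (11645, 6, 43514, 25),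
  (11647, 6, 165951, 16),
  (11649, 5, 407, 15),
  (11651, 7, 106850, 21),
  (11653, 4, 86508, 23),
  (11655, 3, 90302, 24),
  (11665, 5, 178241, 43),
  (11667, 6, 151869, 26),
  (11669, 6, 24750, 24),
  (11671, 6, 208273, 12),
  (11689, 6, 134377, 23),
  (11691, 6, 151805, 26),
  (11693, 6, 211363, 12),
  (11695, 6, 147709, 26),
  (11705, 6, 156110, 24),
  (11707, 5, 97589, 7),
  (11709, 6, 156142, 24),
  (11711, 6, 212401, 12),
  (11721, 6, 127486, 23),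
  (11723, 6, 258302, 23),
  (11725, 7, 257285, 20),
  (11727, 6, 238863, 17),
  (11737, 6, 252263, 19),
  (11739, 6, 258181, 22),
  (11741, 6, 96762, 23),
  (11743, 5, 212433, 12),
  (11745, 6, 248881, 3),
  (11747, 6, 122347, 20),
  (11749, 6, 232797, 19),
  (11751, 6, 47283, 25),
  (11761, 5, 249297, 6),
  (11763, 6, 156063, 24),
  (11765, 6, 126355, 5),
  (11767, 6, 249303, 6),
  (12291, 4, 196656, 26),
  (12293, 6, 67654, 23),
  (12294, 5, 188790, 39),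
  (12299, 4, 196784, 26),
  (12301, 6, 8221, 6),
  (12302, 6, 10266, 14),
  (12307, 4, 196912, 26),
  (12309, 6, 163952, 25),
  (12310, 5, 33142, 39),
  (12315, 4, 197040, 26),
  (12317, 6, 204824, 26),
  (12318, 6, 12294, 3),
  (12321, 4, 34887, 21),
  (12322, 5, 3143, 22),
  (12324, 4, 35907, 23),
  (12327, 6, 28679, 19),
  (12329, 4, 35843, 21),
  (12330, 4, 1095, 22),
  (12332, 5, 34883, 23),
  (12335, 6, 35267, 23),
  (12337, 4, 35909, 21),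
  (12338, 4, 35905, 22),
  (12340, 4, 35911, 23),
  (12343, 6, 36295, 23),
  (12345, 5, 34819, 21),
  (12346, 4, 35909, 22),
  (12348, 4, 34887, 23),
  (12351, 6, 5181, 16),
  (12353, 5, 36939, 21),
  (12354, 6, 41034, 2),
  (12356, 4, 8353, 20),
  (12359, 6, 7251, 1),
  (12361, 4, 37891, 21),
  (12362, 6, 41034, 15),
  (12364, 4, 8369, 20),
  (12367, 7, 213477, 22),
  (12369, 5, 37961, 21),
  (12370, 6, 41034, 11),
  (12372, 4, 24705, 20),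
  (12375, 3, 204870, 23),
  (12377, 4, 36867, 21),
  (12378, 6, 36882, 12),
  (12380, 4, 24721, 20),
  (12383, 5, 247877, 22),
  (12387, 6, 254338, 26),
  (12389, 6, 216487, 22),
  (12390, 6, 36179, 23),
  (12395, 5, 217316, 25),
  (12397, 7, 176522, 26),
  (12398, 6, 63546, 8),
  (12403, 6, 24718, 20),
  (12405, 4, 28942, 19),
  (12406, 4, 110996, 25),
  (12411, 6, 28973, 19),
  (12413, 4, 45450, 26),
  (12414, 4, 53642, 26),
  (12417, 6, 139298, 20),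
  (12418, 4, 6221, 22),
  (12420, 5, 139297, 20),
  (12423, 6, 238019, 21),
  (12425, 6, 4249, 15),
  (12426, 4, 4173, 22),
  (12428, 4, 139313, 20),
  (12431, 6, 3229, 8),
  (12433, 6, 4249, 14),
  (12434, 4, 38977, 22),
  (12436, 4, 155649, 20),
  (12439, 4, 213062, 23),
  (12441, 6, 77825, 3),
  (12442, 4, 38981, 22),
  (12444, 4, 155665, 20),
  (12447, 6, 201140, 26),
  (12451, 6, 196724, 26),
  (12453, 6, 80045, 12),
  (12454, 6, 139309, 20),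
  (12459, 6, 168361, 25),
  (12461, 4, 200916, 26),
  (12462, 6, 35171, 23),
  (12467, 3, 155662, 20),
  (12469, 6, 36071, 23),
  (12470, 6, 67774, 7),
  (12475, 7, 197108, 26),
  (12477, 4, 164330, 24),
  (12478, 6, 73790, 15),
  (12483, 6, 111761, 16),
  (12485, 6, 165937, 25),
  (12486, 6, 157766, 23),
  (12491, 6, 170281, 25),
  (12493, 6, 35058, 23),
  (12494, 6, 80086, 7),
  (12499, 6, 33947, 4),
  (12501, 4, 90182, 23),
  (12502, 3, 155718, 23),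
  (12507, 5, 219, 14),
  (12509, 6, 35062, 23),
  (12510, 6, 120901, 22),
  (12513, 5, 127193, 6),
  (12514, 6, 126978, 17),
  (12516, 3, 90188, 8),
  (12519, 6, 260490, 26),
  (12521, 6, 166305, 25),
  (12522, 5, 45442, 41),
  (12524, 6, 82012, 13),
  (12527, 6, 129035, 17),
  (12529, 5, 108930, 26),
  (12530, 6, 3383, 23),
  (12532, 6, 8428, 17),
  (12535, 6, 95309, 13),
  (12537, 5, 29036, 19),
  (12538, 6, 37114, 13),
  (12540, 3, 90188, 13),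
  (12543, 7, 35319, 23),
  (12545, 4, 196625, 26),
  (12546, 4, 196641, 26),
  (12548, 4, 6214, 23),
  (12551, 6, 202822, 23),
  (12553, 4, 196753, 26),
  (12554, 5, 196769, 26),
  (12556, 4, 34890, 23),
  (12559, 5, 168250, 25),
  (12561, 5, 196881, 26),
  (12562, 4, 196897, 26),
  (12564, 5, 4166, 23),
  (12567, 5, 146435, 1),
  (12569, 4, 24658, 20),
  (12570, 4, 24660, 20),
  (12572, 4, 34894, 23),
  (12575, 6, 168314, 25),
  (12579, 6, 168106, 25),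
  (12581, 4, 94342, 19),
  (12582, 6, 94339, 19),
  (12587, 6, 8318, 20),
  (12589, 6, 200913, 26),
  (12590, 5, 22814, 4),
  (12595, 6, 3471, 23),
  (12597, 6, 207873, 22),
  (12598, 4, 168154, 25),
  (12603, 6, 147739, 6),
  (12605, 6, 24667, 20),
  (12606, 6, 24669, 20),
  (12611, 6, 210950, 23),
  (12613, 6, 79942, 23),
  (12614, 6, 35162, 11),
  (12619, 6, 8438, 20),
  (12621, 5, 349, 13),
  (12622, 6, 178242, 2),
  (12627, 6, 170090, 25),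
  (12629, 6, 178253, 8),
  (12630, 6, 178462, 1),
  (12635, 7, 190533, 22),
  (12637, 7, 184355, 21),
  (12638, 6, 124997, 22),
  (12641, 5, 166050, 25),
  (12642, 5, 182290, 39),
  (12644, 6, 93367, 22),
  (12647, 6, 36315, 23),
  (12649, 5, 166306, 25),
  (12650, 6, 155770, 14),
  (12652, 5, 188764, 6),
  (12655, 6, 163197, 2),
  (12657, 6, 158721, 22),
  (12658, 6, 60481, 22),
  (12660, 4, 164261, 24),
  (12663, 6, 162883, 1),
  (12665, 6, 198099, 26),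
  (12666, 6, 61770, 4),
  (12668, 6, 160084, 8),
  (12671, 6, 194843, 17),
  (12675, 6, 139366, 20),
  (12677, 6, 211357, 22),
  (12678, 4, 139365, 20),
  (12683, 6, 2474, 23),
  (12685, 6, 35050, 23),
  (12686, 3, 204814, 15),
  (12691, 3, 155718, 20),
  (12693, 6, 155715, 20),
  (12694, 3, 204814, 3),
  (12699, 6, 2478, 23),
  (12701, 6, 210949, 22),
  (12702, 5, 163894, 39),
  (12705, 6, 139370, 20),
  (12706, 4, 229782, 24),
  (12708, 4, 139369, 20),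
  (12711, 6, 212399, 12),
  (12713, 7, 94436, 19),
  (12714, 6, 213146, 10),
  (12716, 6, 150579, 21),
  (12719, 5, 35307, 23),
  (12721, 4, 155722, 20),
  (12722, 4, 155724, 20),
  (12724, 6, 155721, 20),
  (12727, 6, 220469, 2),
  (12729, 4, 94444, 19),
  (12730, 6, 213402, 6),
  (12732, 6, 204860, 15),
  (12735, 6, 32175, 15),
  (12737, 5, 241921, 17),
  (12738, 6, 242138, 6),
  (12740, 4, 86466, 19),
  (12743, 6, 175515, 4),
  (12745, 6, 139506, 20),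
  (12746, 6, 87091, 21),
  (12748, 6, 205004, 4),
  (12751, 6, 35322, 23),
  (12753, 6, 94214, 23),
  (12754, 6, 159750, 23),
  (12756, 6, 237580, 3),
  (12759, 6, 32959, 24),
  (12761, 4, 86508, 19),
  (12762, 6, 37266, 12),
  (12764, 6, 155857, 20),
  (12767, 6, 249907, 21),
  (12771, 6, 128363, 7),
  (12773, 6, 125325, 5),
  (12774, 6, 162042, 14),
  (12779, 5, 242873, 16),
  (12781, 6, 94694, 19),
  (12782, 5, 199034, 5),
  (12787, 6, 94669, 19),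
  (12789, 6, 260369, 17),
  (12790, 6, 211306, 5),
  (12795, 5, 147707, 14),
  (12797, 6, 155867, 20),
  (12798, 6, 113122, 11),
  (13313, 5, 213008, 26),
  (13315, 4, 213040, 26),
  (13321, 4, 213136, 26),
  (13323, 3, 213168, 26),
  (13329, 3, 213264, 26),
  (13331, 4, 213296, 26),
  (13337, 4, 213392, 26),
  (13339, 5, 213424, 26),
  (13349, 6, 7231, 8),
  (13351, 6, 232903, 22),
  (13357, 6, 7217, 11),
  (13359, 6, 16415, 13),
  (13365, 6, 199745, 22),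
  (13367, 6, 31745, 1),
  (13373, 6, 199749, 22),
  (13375, 6, 7217, 4),
  (13381, 7, 238605, 42),
  (13383, 6, 10407, 20),
  (13389, 5, 166098, 23),
  (13391, 6, 7257, 1),
  (13397, 6, 7257, 14),
  (13399, 6, 41145, 24),
  (13405, 4, 192572, 25),
  (13407, 6, 26775, 20),
  (13409, 4, 86508, 25),
  (13411, 4, 10414, 20),
  (13417, 5, 10426, 20),
  (13419, 6, 172450, 26),
  (13425, 6, 137525, 19),
  (13427, 6, 26766, 20),
  (13433, 6, 26778, 20),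
  (13435, 6, 58489, 7),
  (13445, 6, 78999, 16),
  (13447, 6, 106682, 24),
  (13453, 6, 141363, 20),
  (13455, 6, 165011, 21),
  (13461, 6, 217364, 26),
  (13463, 4, 41146, 24),
  (13469, 4, 41194, 24),
  (13471, 4, 166374, 23),
  (13473, 6, 164009, 25),
  (13475, 6, 237978, 24),
  (13481, 4, 141370, 20),
  (13483, 5, 95243, 17),
  (13489, 5, 95243, 13),
  (13491, 6, 213364, 26),
  (13497, 4, 172490, 24),
  (13499, 6, 133543, 23),
  (13505, 6, 38107, 8),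
  (13507, 6, 38033, 15),
  (13513, 6, 184621, 22),
  (13515, 6, 38035, 21),
  (13521, 6, 5337, 14),
  (13523, 6, 186369, 22),
  (13529, 6, 111617, 3),
  (13531, 6, 38033, 4),
  (13541, 6, 166073, 25),
  (13543, 6, 244138, 26),
  (13549, 5, 185673, 41),
  (13551, 6, 178602, 26),
  (13557, 6, 129450, 26),
  (13559, 6, 113066, 26),
  (13565, 5, 185603, 41),
  (13567, 6, 47530, 26),
  (13573, 4, 106668, 24),
  (13575, 6, 185693, 41),
  (13581, 6, 7441, 11),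
  (13583, 5, 287, 13),
  (13589, 6, 146447, 8),
  (13591, 4, 168050, 25),
  (13597, 6, 166094, 23),
  (13599, 6, 26711, 20),
  (13601, 4, 164010, 25),
  (13603, 6, 237980, 24),
  (13609, 6, 117923, 21),
  (13611, 5, 185643, 41),
  (13617, 6, 36069, 21),
  (13619, 4, 172444, 24),
  (13625, 4, 164330, 25),
  (13627, 5, 175109, 22),
  (13633, 6, 106637, 24),
  (13635, 4, 80134, 23),
  (13641, 6, 188725, 22),
  (13643, 5, 347, 13),
  (13649, 6, 177227, 8),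
  (13651, 6, 112695, 43),
  (13657, 5, 177491, 10),
  (13659, 5, 26838, 20),
  (13669, 6, 36217, 11),
  (13671, 6, 162167, 2),
  (13677, 6, 216351, 19),
  (13679, 6, 170418, 25),
  (13685, 6, 166138, 25),
  (13687, 5, 185441, 41),
  (13693, 6, 161867, 1),
  (13695, 6, 192887, 10),
  (13697, 5, 178461, 22),
  (13699, 5, 141414, 20),
  (13705, 5, 133290, 23),
  (13707, 6, 39081, 19),
  (13713, 5, 185353, 41),
  (13715, 6, 157766, 20),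
  (13721, 6, 202011, 2),
  (13723, 4, 133550, 23),
  (13733, 6, 245151, 22),
  (13735, 6, 97577, 7),
  (13741, 6, 217301, 26),
  (13743, 6, 243167, 22),
  (13749, 6, 172462, 24),
  (13751, 5, 97593, 7),
  (13757, 6, 214429, 6),
  (13759, 6, 90383, 13),
  (13765, 6, 39319, 15),
  (13767, 5, 185443, 41),
  (13773, 6, 239069, 6),
  (13775, 6, 166394, 23),
  (13781, 6, 225606, 23),
  (13783, 6, 212445, 12),
  (13789, 6, 250035, 21),
  (13791, 6, 208349, 12),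
  (13793, 5, 242867, 16),
  (13795, 5, 128361, 7),
  (13801, 6, 194019, 10),
  (13803, 6, 141566, 20),
  (13809, 6, 162881, 22),
  (13811, 6, 233651, 16),
  (13817, 6, 166379, 25),
  (13819, 6, 195589, 22),
  (14337, 5, 123905, 37),
  (14338, 6, 213384, 26),
  (14341, 6, 8221, 4),
  (14342, 6, 12294, 17),
  (14345, 6, 14337, 10),
  (14346, 6, 12294, 16),
  (14349, 6, 8221, 14),
  (14350, 6, 12294, 2),
  (14353, 6, 8221, 5),
  (14354, 6, 12294, 4),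
  (14357, 6, 98374, 23),
  (14358, 6, 10266, 16),
  (14361, 6, 2246, 23),
  (14362, 6, 10266, 15),
  (14365, 6, 8221, 7),
  (14366, 6, 12294, 11),
  (14371, 6, 5181, 8),
  (14375, 5, 63, 11),
  (14379, 6, 6199, 11),
  (14383, 6, 31745, 5),
  (14387, 6, 7217, 16),
  (14391, 6, 196984, 26),
  (14395, 6, 31793, 10),
  (14399, 6, 29743, 19),
  (14403, 6, 7257, 13),
  (14407, 6, 215397, 22),
  (14411, 4, 151668, 25),
  (14415, 6, 114937, 24),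
  (14419, 6, 237574, 23),
  (14423, 6, 237638, 23),
  (14427, 5, 124145, 37),
  (14431, 6, 7257, 2),
  (14433, 6, 246153, 24),
  (14434, 5, 63542, 8),
  (14437, 6, 90596, 25),
  (14438, 7, 250242, 26),
  (14441, 6, 95403, 20),
  (14442, 4, 200916, 25),
  (14445, 6, 30841, 2),
  (14446, 6, 61454, 17),
  (14449, 4, 106890, 26),
  (14450, 6, 61454, 10),
  (14453, 6, 123300, 25),
  (14454, 6, 63546, 1),
  (14457, 6, 180681, 24),
  (14458, 6, 80045, 20),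
  (14461, 4, 141370, 19),
  (14462, 6, 39034, 13),
  (14467, 6, 5277, 8),
  (14471, 6, 196668, 26),
  (14475, 6, 176425, 25),
  (14479, 4, 114938, 24),
  (14483, 6, 245766, 23),
  (14487, 6, 73871, 11),
  (14491, 6, 229651, 21),
  (14495, 6, 79879, 3),
  (14497, 6, 34942, 19),
  (14498, 6, 84026, 3),
  (14501, 6, 6329, 8),
  (14502, 6, 24718, 2),
  (14505, 6, 30881, 10),
  (14506, 6, 96270, 17),
  (14509, 6, 246250, 24),
  (14510, 6, 94398, 8),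
  (14513, 4, 201052, 26),
  (14514, 6, 4278, 13),
  (14517, 6, 30881, 15),
  (14518, 5, 162097, 20),
  (14521, 6, 13611, 20),
  (14522, 6, 94222, 4),
  (14525, 6, 34983, 23),
  (14526, 5, 12598, 44),
  (14529, 5, 112785, 16),
  (14530, 6, 112790, 8),
  (14533, 6, 124998, 23),
  (14534, 6, 88173, 22),
  (14537, 6, 91555, 20),
  (14538, 5, 180692, 42),
  (14541, 6, 34994, 23),
  (14542, 6, 110606, 17),
  (14545, 5, 76170, 26),
  (14546, 5, 110662, 4),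
  (14549, 6, 182314, 19),
  (14550, 5, 88450, 26),
  (14553, 6, 168211, 21),
  (14554, 6, 2422, 23),
  (14557, 5, 112785, 5),
  (14558, 6, 112714, 4),
  (14563, 6, 129031, 17),
  (14567, 5, 124067, 37),
  (14571, 5, 124129, 37),
  (14575, 6, 36089, 8),
  (14579, 6, 36031, 4),
  (14583, 5, 129410, 26),
  (14587, 6, 180699, 24),
  (14591, 6, 104723, 21),
  (14595, 6, 176170, 25),
  (14599, 5, 287, 11),
  (14603, 4, 114908, 24),
  (14607, 6, 35210, 23),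
  (14611, 7, 35959, 20),
  (14615, 5, 60465, 20),
  (14619, 6, 160941, 39),
  (14623, 6, 35214, 23),
  (14625, 6, 200793, 26),
  (14626, 6, 157710, 2),
  (14629, 5, 162097, 2),
  (14630, 3, 155662, 2),
  (14633, 6, 172450, 25),
  (14634, 6, 30994, 12),
  (14637, 6, 206103, 22),
  (14638, 6, 159750, 2),
  (14641, 5, 180620, 24),
  (14642, 6, 24894, 16),
  (14645, 6, 35983, 23),
  (14646, 6, 176346, 25),
  (14649, 5, 161805, 1),
  (14650, 3, 155662, 10),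
  (14653, 5, 10426, 19),
  (14654, 6, 95403, 19),
  (14657, 6, 37227, 21),
  (14658, 6, 178186, 25),
  (14661, 4, 174130, 25),
  (14662, 6, 178246, 23),
  (14665, 6, 114893, 24),
  (14666, 6, 174426, 6),
  (14669, 6, 34970, 23),
  (14670, 6, 87331, 21),
  (14673, 6, 202011, 26),
  (14674, 6, 87433, 19),
  (14677, 5, 110662, 23),
  (14678, 6, 35102, 12),
  (14681, 5, 178461, 17),
  (14682, 6, 178462, 17),
  (14685, 5, 133290, 19),
  (14686, 6, 35102, 23),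
  (14691, 6, 3547, 23),
  (14695, 6, 163185, 2),
  (14699, 6, 178602, 25),
  (14703, 6, 37239, 11),
  (14707, 6, 178410, 25),
  (14711, 5, 124035, 37),
  (14715, 6, 95661, 19),
  (14719, 6, 191685, 22),
  (14721, 6, 50547, 20),
  (14722, 6, 14557, 22),
  (14725, 6, 211357, 6),
  (14726, 6, 139406, 2),
  (14729, 6, 4509, 15),
  (14730, 5, 30982, 39),
  (14733, 6, 196765, 26),
  (14734, 6, 196781, 26),
  (14737, 5, 109571, 40),
  (14738, 5, 157722, 44),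
  (14741, 6, 189745, 20),
  (14742, 6, 184390, 23),
  (14745, 6, 205213, 12),
  (14746, 6, 6546, 12),
  (14749, 6, 74013, 7),
  (14750, 6, 205070, 5),
  (14755, 6, 3563, 23),
  (14759, 6, 36267, 23),
  (14763, 6, 95621, 5),
  (14767, 6, 97665, 5),
  (14771, 6, 97599, 7),
  (14775, 6, 36271, 23),
  (14779, 5, 163249, 10),
  (14783, 5, 35247, 23),
  (14787, 6, 38295, 15),
  (14791, 5, 109653, 40),
  (14795, 5, 124113, 37),
  (14799, 6, 249105, 20),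
  (14803, 6, 175577, 10),
  (14807, 6, 81229, 13),
  (14811, 7, 202175, 26),
  (14815, 6, 208347, 12),
  (14817, 6, 231806, 19),
  (14818, 5, 250014, 10),
  (14821, 6, 194746, 19),
  (14822, 6, 247870, 3),
  (14825, 5, 195041, 10),
  (14826, 6, 129517, 20),
  (14829, 6, 178362, 19),
  (14830, 6, 251958, 3),
  (14833, 6, 235894, 19),
  (14834, 5, 243834, 15),
  (14837, 6, 36031, 23),
  (14838, 6, 36159, 23),
  (14841, 6, 252246, 19),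
  (14842, 4, 12502, 40),
  (14845, 6, 147709, 14),
  (14846, 6, 111078, 11),
  (15393, 7, 134339, 23),
  (15395, 6, 167389, 40),
  (15397, 6, 8255, 4),
  (15399, 6, 213112, 26),
  (15401, 6, 29743, 20),
  (15403, 5, 63, 8),
  (15405, 6, 31803, 2),
  (15407, 6, 254456, 24),
  (15409, 5, 92449, 37),
  (15411, 6, 27707, 19),
  (15413, 5, 63, 4),
  (15415, 6, 6199, 16),
  (15417, 6, 6199, 4),
  (15419, 6, 15403, 20),
  (15421, 6, 7231, 16),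
  (15423, 6, 35203, 21),
  (15425, 6, 123017, 24),
  (15427, 4, 108806, 23),
  (15429, 5, 29036, 25),
  (15431, 6, 24940, 25),
  (15433, 6, 91303, 20),
  (15435, 6, 180709, 22),
  (15437, 7, 166034, 23),
  (15439, 6, 37975, 11),
  (15441, 6, 215233, 22),
  (15443, 5, 49468, 25),
  (15445, 6, 7251, 2),
  (15447, 6, 78242, 26),
  (15449, 6, 57545, 24),
  (15451, 6, 180284, 25),
  (15453, 6, 103755, 41),
  (15455, 4, 37251, 21),
  (15489, 7, 123018, 24),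
  (15491, 6, 73871, 5),
  (15493, 4, 248134, 23),
  (15495, 4, 117062, 23),
  (15497, 6, 73871, 12),
  (15499, 6, 5277, 15),
  (15501, 5, 166050, 23),
  (15503, 5, 213180, 26),
  (15505, 5, 92545, 37),
  (15507, 6, 3229, 4),
  (15509, 6, 213276, 26),
  (15511, 6, 213308, 26),
  (15513, 6, 78999, 5),
  (15515, 6, 11555, 20),
  (15517, 6, 172409, 25),
  (15519, 5, 92549, 37),
  (15585, 7, 166271, 19),
  (15587, 6, 240042, 26),
  (15589, 6, 97395, 2),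
  (15591, 5, 243791, 21),
  (15593, 6, 95663, 20),
  (15595, 6, 178593, 25),
  (15597, 5, 55385, 43),
  (15599, 6, 178594, 26),
  (15601, 6, 35007, 4),
  (15603, 6, 97477, 1),
  (15605, 6, 97359, 13),
  (15607, 6, 113058, 26),
  (15609, 5, 55461, 43),
  (15611, 6, 133623, 23),
  (15613, 6, 220469, 20),
  (15615, 6, 63735, 10),
  (15617, 6, 235782, 23),
  (15619, 6, 52339, 20),
  (15621, 5, 172090, 25),
  (15623, 6, 7441, 15),
  (15625, 6, 83983, 19),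
  (15627, 6, 7339, 19),
  (15629, 6, 237845, 22),
  (15631, 6, 213177, 26),
  (15633, 6, 34273, 21),
  (15635, 5, 57500, 24),
  (15637, 7, 233798, 23),
  (15639, 6, 213305, 26),
  (15641, 4, 172394, 25),
  (15643, 5, 146435, 3),
  (15645, 5, 57580, 24),
  (15647, 7, 57596, 24),
  (15713, 6, 162941, 14),
  (15715, 6, 191991, 22),
  (15717, 6, 34173, 11),
  (15719, 6, 62829, 7),
  (15721, 5, 214407, 38),
  (15723, 6, 178594, 25),
  (15725, 5, 209043, 42),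
  (15727, 6, 162171, 2),
  (15729, 6, 191867, 10),
  (15731, 6, 144765, 12),
  (15733, 6, 174330, 25),
  (15735, 6, 178418, 25),
  (15737, 5, 214055, 38),
  (15739, 5, 178658, 25),
  (15741, 5, 193821, 17),
  (15743, 6, 178674, 25),
  (15777, 6, 179615, 22),
  (15779, 6, 163007, 14),
  (15781, 6, 216125, 3),
  (15783, 6, 176307, 25),
  (15785, 6, 220209, 3),
  (15787, 6, 254430, 24),
  (15789, 6, 217247, 1),
  (15791, 6, 213245, 26),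
  (15793, 6, 96575, 7),
  (15795, 6, 220571, 6),
  (15797, 5, 97551, 13),
  (15799, 6, 220575, 6),
  (15801, 6, 95639, 5),
  (15803, 6, 188894, 24),
  (15805, 6, 203967, 16),
  (15807, 5, 92597, 37),
  (15809, 6, 260358, 23),
  (15811, 6, 218175, 26),
  (15813, 6, 260422, 23),
  (15815, 6, 260477, 22),
  (15817, 6, 37279, 15),
  (15819, 6, 241115, 6),
  (15821, 6, 242957, 17),
  (15823, 6, 54707, 21),
  (15825, 6, 240649, 3),
  (15827, 6, 174555, 10),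
  (15829, 6, 240653, 3),
  (15831, 5, 214149, 38),
  (15833, 6, 218527, 26),
  (15835, 5, 212173, 1),
  (15837, 5, 208915, 42),
  (15839, 6, 244743, 3),
  (16385, 3, 4097, 32),
  (16386, 2, 131332, 31),
  (16388, 1, 72, 26),
  (16391, 4, 4103, 20),
  (16392, 3, 131076, 28),
  (16395, 5, 204811, 37),
  (16397, 5, 65840, 25),
  (16398, 6, 20526, 12),
  (16400, 3, 131104, 28),
  (16403, 6, 1073, 10),
  (16405, 6, 26625, 4),
  (16406, 5, 65840, 24),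
  (16409, 5, 2115, 21),
  (16410, 4, 35845, 22),
  (16412, 4, 34823, 23),
  (16415, 5, 204981, 37),
  (16417, 3, 32833, 34),
  (16418, 3, 131076, 31),
  (16420, 2, 32776, 26),
  (16423, 4, 4111, 20),
  (16424, 2, 131332, 28),
  (16427, 6, 5153, 13),
  (16429, 5, 65968, 25),
  (16430, 6, 22562, 5),
  (16432, 3, 65552, 29),
  (16435, 6, 20526, 20),
  (16437, 6, 65776, 25),
  (16438, 4, 196656, 24),
  (16441, 4, 2119, 21),
  (16442, 4, 57, 19),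
  (16444, 4, 3139, 23),
  (16447, 5, 63, 19),
  (16451, 4, 205201, 23),
  (16453, 6, 16485, 13),
  (16454, 3, 305, 24),
  (16457, 4, 2121, 21),
  (16458, 4, 90114, 39),
  (16460, 6, 36972, 10),
  (16463, 5, 377, 24),
  (16465, 5, 2122, 21),
  (16466, 4, 65809, 24),
  (16468, 4, 65825, 24),
  (16471, 4, 61684, 25),
  (16472, 5, 2059, 21),
  (16475, 6, 254018, 26),
  (16477, 6, 241738, 26),
  (16478, 5, 63542, 10),
  (16483, 4, 204801, 23),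
  (16485, 5, 90355, 39),
  (16486, 4, 205202, 37),
  (16489, 4, 2125, 21),
  (16490, 3, 305, 19),
  (16492, 6, 49196, 16),
  (16495, 5, 311, 19),
  (16497, 5, 2126, 21),
  (16498, 4, 196625, 24),
  (16500, 4, 196641, 24),
  (16503, 5, 287, 19),
  (16504, 4, 2063, 21),
  (16507, 5, 213045, 42),
  (16509, 4, 318, 19),
  (16510, 6, 39034, 2),
  (16515, 4, 213409, 23),
  (16517, 4, 65585, 25),
  (16518, 7, 69834, 22),
  (16521, 4, 65825, 25),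
  (16522, 4, 6218, 22),
  (16524, 4, 65809, 25),
  (16527, 4, 378, 24),
  (16529, 3, 177, 10),
  (16530, 5, 33801, 22),
  (16532, 5, 155766, 38),
  (16535, 6, 37172, 26),
  (16536, 4, 3085, 22),
  (16539, 5, 205195, 37),
  (16541, 6, 8318, 19),
  (16542, 6, 37284, 26),
  (16547, 4, 212993, 23),
  (16549, 5, 65713, 25),
  (16550, 7, 196628, 21),
  (16553, 4, 131146, 24),
  (16554, 3, 36934, 22),
  (16556, 4, 65937, 25),
  (16559, 6, 233542, 22),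
  (16561, 4, 90289, 11),
  (16562, 4, 89, 19),
  (16564, 6, 90148, 1),
  (16567, 6, 34187, 22),
  (16568, 4, 120, 19),
  (16571, 6, 151614, 20),
  (16573, 5, 38185, 44),
  (16574, 6, 35983, 22),
  (16577, 4, 90289, 23),
  (16578, 4, 155953, 23),
  (16580, 3, 38986, 26),
  (16583, 6, 63562, 26),
  (16584, 7, 67841, 25),
  (16587, 5, 347, 24),
  (16589, 6, 112714, 26),
  (16590, 5, 371, 24),
  (16592, 6, 98480, 13),
  (16595, 6, 34033, 10),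
  (16597, 6, 1449, 22),
  (16598, 5, 205186, 37),
  (16601, 5, 127193, 11),
  (16602, 5, 90258, 39),
  (16604, 5, 235594, 26),
  (16607, 6, 93435, 1),
  (16609, 4, 90113, 23),
  (16610, 4, 155649, 23),
  (16612, 4, 6218, 26),
  (16615, 5, 343, 19),
  (16616, 7, 67650, 26),
  (16619, 6, 184390, 22),
  (16621, 4, 374, 19),
  (16622, 5, 371, 19),
  (16624, 6, 98480, 5),
  (16627, 5, 349, 19),
  (16629, 6, 73845, 13),
  (16630, 5, 204818, 37),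
  (16633, 4, 380, 19),
  (16634, 5, 90146, 39),
  (16636, 4, 378, 19),
  (16639, 6, 383, 19),
  (16643, 5, 4166, 20),
  (16645, 4, 205202, 22),
  (16646, 5, 4165, 20),
  (16649, 6, 4385, 7),
  (16650, 4, 340, 24),
  (16652, 4, 36875, 23),
  (16655, 4, 380, 24),
  (16657, 3, 305, 7),
  (16658, 6, 155938, 6),
  (16660, 4, 38925, 23),
  (16663, 6, 37169, 26),
  (16664, 4, 6159, 23),
  (16667, 6, 5427, 7),
  (16669, 6, 37265, 26),
  (16670, 4, 69978, 25),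
  (16675, 5, 4174, 20),
  (16677, 4, 4171, 20),
  (16678, 4, 4173, 20),
  (16681, 6, 4385, 13),
  (16682, 5, 65713, 19),
  (16684, 5, 5187, 23),
  (16687, 6, 237638, 22),
  (16689, 3, 305, 5),
  (16690, 5, 155694, 38),
  (16692, 5, 6209, 23),
  (16695, 6, 196668, 24),
  (16696, 4, 7171, 23),
  (16699, 6, 18631, 21),
  (16701, 6, 65726, 19),
  (16702, 5, 22814, 16),
  (16705, 6, 36972, 21),
  (16706, 4, 277, 24),
  (16708, 4, 37891, 26),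
  (16711, 5, 155829, 38),
  (16712, 4, 147600, 19),
  (16715, 5, 349, 24),
  (16717, 5, 365, 24),
  (16718, 6, 184390, 15),
  (16720, 5, 188486, 41),
  (16723, 6, 211357, 23),
  (16725, 6, 74142, 19),
  (16726, 5, 155924, 38),
  (16729, 6, 74172, 19),
  (16730, 5, 41030, 41),
  (16732, 6, 74170, 19),
  (16735, 6, 244127, 23),
  (16737, 6, 131085, 24),
  (16738, 4, 65937, 19),
  (16740, 4, 37955, 26),
  (16743, 6, 254018, 22),
  (16744, 5, 65968, 19),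
  (16747, 4, 72106, 25),
  (16749, 5, 90405, 39),
  (16750, 5, 184334, 3),
  (16752, 6, 163952, 2),
  (16755, 6, 155715, 14),
  (16757, 6, 35125, 5),
  (16758, 5, 204930, 37),
  (16761, 6, 3383, 22),
  (16762, 5, 90130, 39),
  (16764, 4, 68050, 25),
  (16767, 6, 212035, 23),
  (16769, 3, 417, 15),
  (16770, 6, 213122, 7),
  (16772, 4, 36869, 26),
  (16775, 4, 318, 24),
  (16776, 6, 213384, 3),
  (16779, 6, 145754, 22),
  (16781, 5, 38187, 44),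
  (16782, 4, 374, 24),
  (16784, 4, 213296, 8),
  (16787, 6, 65822, 24),
  (16789, 6, 151651, 20),
  (16790, 6, 24998, 12),
  (16793, 6, 213305, 17),
  (16794, 4, 151668, 20),
  (16796, 6, 73978, 19),
  (16799, 5, 204837, 37),
  (16801, 4, 213409, 12),
  (16802, 6, 135244, 20),
  (16804, 4, 36933, 26),
  (16807, 6, 212999, 3),
  (16808, 5, 213038, 42),
  (16811, 6, 131166, 24),
  (16813, 6, 131182, 24),
  (16814, 5, 110662, 22),
  (16816, 4, 196912, 8),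
  (16819, 5, 26838, 21),
  (16821, 6, 205221, 6),
  (16822, 6, 33947, 22),
  (16825, 6, 26711, 21),
  (16826, 5, 106510, 43),
  (16828, 6, 196710, 24),
  (16831, 6, 36255, 22),
  (16835, 5, 287, 24),
  (16837, 6, 176492, 21),
  (16838, 5, 204946, 37),
  (16841, 6, 33943, 26),
  (16842, 5, 343, 24),
  (16844, 6, 38023, 26),
  (16847, 6, 135383, 20),
  (16849, 4, 151778, 20),
  (16850, 6, 26778, 21),
  (16852, 5, 78046, 41),
  (16855, 5, 155781, 38),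
  (16856, 6, 34183, 26),
  (16859, 5, 151798, 20),
  (16861, 6, 38295, 26),
  (16862, 6, 38311, 26),
  (16867, 6, 192578, 22),
  (16869, 5, 35989, 41),
  (16870, 5, 12372, 40),
  (16873, 6, 159750, 22),
  (16874, 5, 10322, 41),
  (16876, 6, 94214, 22),
  (16879, 6, 249871, 3),
  (16881, 6, 66012, 19),
  (16882, 6, 196631, 24),
  (16884, 4, 67795, 25),
  (16887, 5, 27102, 21),
  (16888, 6, 196679, 24),
  (16891, 5, 213429, 42),
  (16893, 5, 36175, 41),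
  (16894, 6, 36031, 22),
  (17413, 4, 229762, 22),
  (17415, 4, 6151, 20),
  (17417, 6, 5153, 14),
  (17419, 6, 16395, 16),
  (17425, 6, 22562, 20),
  (17427, 6, 1073, 7),
  (17437, 6, 31791, 19),
  (17439, 6, 74104, 24),
  (17445, 5, 6155, 20),
  (17447, 4, 6159, 20),
  (17449, 6, 16395, 15),
  (17451, 6, 163846, 22),
  (17457, 6, 67654, 21),
  (17459, 6, 204824, 24),
  (17469, 6, 36295, 22),
  (17471, 6, 31745, 19),
  (17473, 5, 74129, 23)]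

theorem chk_rows2_1 : rows2_1.all (rowBP tr2 gensLitP 72) = true := by decide +kernel

/-- Rows 3000 to 4499. -/
def rows2_2 : List (ℕ × ℕ × ℕ × ℕ) := [(17475, 4, 204945, 23),
  (17485, 4, 127082, 26),
  (17487, 7, 110698, 26),
  (17493, 6, 34273, 22),
  (17495, 6, 22695, 20),
  (17497, 4, 184812, 25),
  (17499, 4, 22710, 20),
  (17505, 4, 205057, 23),
  (17507, 4, 73985, 23),
  (17517, 4, 213062, 22),
  (17519, 6, 245766, 22),
  (17525, 6, 146719, 19),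
  (17527, 4, 143466, 26),
  (17529, 6, 204873, 24),
  (17531, 6, 77059, 23),
  (17537, 4, 82337, 23),
  (17539, 4, 213153, 23),
  (17549, 4, 53396, 26),
  (17551, 6, 235978, 22),
  (17557, 7, 74026, 24),
  (17559, 5, 183, 10),
  (17561, 6, 74058, 24),
  (17563, 6, 215207, 23),
  (17569, 5, 213249, 23),
  (17571, 5, 82177, 23),
  (17581, 6, 139370, 24),
  (17583, 5, 89259, 11),
  (17589, 6, 93361, 11),
  (17591, 6, 204858, 24),
  (17593, 4, 204874, 24),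
  (17595, 6, 75991, 21),
  (17605, 6, 137347, 20),
  (17607, 5, 241996, 21),
  (17609, 5, 125026, 26),
  (17611, 6, 75993, 21),
  (17617, 4, 153762, 20),
  (17619, 7, 153766, 20),
  (17629, 6, 36333, 22),
  (17631, 6, 243818, 26),
  (17637, 6, 175447, 19),
  (17639, 5, 168084, 21),
  (17641, 5, 137370, 20),
  (17643, 5, 119873, 7),
  (17649, 4, 157794, 26),
  (17651, 6, 178177, 19),
  (17661, 6, 111845, 6),
  (17663, 6, 63735, 8),
  (17665, 4, 6210, 20),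
  (17667, 4, 6214, 20),
  (17677, 6, 8556, 24),
  (17679, 6, 8572, 24),
  (17685, 6, 84290, 21),
  (17687, 5, 84418, 21),
  (17689, 6, 22642, 20),
  (17691, 6, 22673, 19),
  (17697, 4, 6218, 20),
  (17699, 4, 6222, 20),
  (17709, 3, 204870, 22),
  (17711, 6, 237574, 22),
  (17717, 5, 158775, 8),
  (17719, 6, 204860, 24),
  (17721, 4, 204876, 24),
  (17723, 6, 49649, 26),
  (17733, 6, 35171, 7),
  (17735, 6, 254450, 22),
  (17737, 7, 6354, 20),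
  (17739, 6, 190834, 22),
  (17745, 6, 147795, 12),
  (17747, 6, 74013, 24),
  (17757, 6, 39283, 7),
  (17759, 5, 74109, 24),
  (17765, 6, 139309, 24),
  (17767, 6, 181255, 3),
  (17769, 3, 155718, 22),
  (17771, 6, 84173, 21),
  (17777, 6, 204813, 24),
  (17779, 6, 50547, 26),
  (17789, 6, 194859, 4),
  (17791, 6, 162883, 14),
  (17797, 7, 172516, 21),
  (17799, 6, 242138, 22),
  (17801, 5, 427, 15),
  (17803, 6, 69923, 25),
  (17809, 5, 112717, 19),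
  (17811, 7, 39057, 19),
  (17821, 6, 36317, 22),
  (17823, 6, 153719, 20),
  (17829, 6, 245940, 21),
  (17831, 6, 241666, 22),
  (17833, 6, 196779, 1),
  (17835, 6, 218123, 3),
  (17841, 3, 204814, 24),
  (17843, 6, 155827, 8),
  (17853, 6, 66043, 25),
  (17855, 6, 208057, 1),
  (17857, 6, 50199, 26),
  (17859, 5, 110700, 21),
  (17869, 5, 35247, 15),
  (17871, 5, 220613, 12),
  (17877, 6, 126417, 11),
  (17879, 6, 191873, 4),
  (17881, 7, 74063, 24),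
  (17883, 6, 128475, 11),
  (17889, 6, 159810, 22),
  (17891, 6, 137422, 20),
  (17901, 6, 54487, 26),
  (17903, 6, 220645, 12),
  (17909, 6, 191735, 8),
  (17911, 6, 204863, 24),
  (17913, 6, 185819, 10),
  (17915, 6, 153854, 20),
  (18435, 5, 3087, 20),
  (18439, 4, 7177, 20),
  (18441, 4, 147888, 25),
  (18442, 6, 22562, 6),
  (18445, 4, 213136, 25),
  (18446, 6, 22562, 10),
  (18449, 6, 82184, 24),
  (18450, 5, 82192, 24),
  (18453, 6, 2101, 10),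
  (18454, 3, 82224, 24),
  (18459, 6, 31793, 13),
  (18463, 6, 9279, 19),
  (18467, 5, 7175, 20),
  (18471, 4, 3081, 20),
  (18473, 4, 213296, 25),
  (18474, 6, 22562, 15),
  (18477, 4, 147600, 25),
  (18478, 6, 20526, 11),
  (18481, 6, 2101, 17),
  (18482, 5, 213008, 24),
  (18485, 6, 26625, 2),
  (18486, 4, 213040, 24),
  (18491, 6, 5181, 5),
  (18495, 5, 63, 17),
  (18497, 6, 41034, 26),
  (18498, 4, 16657, 24),
  (18501, 6, 16485, 1),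
  (18502, 4, 16689, 24),
  (18507, 6, 38955, 3),
  (18511, 7, 205267, 23),
  (18515, 6, 99617, 22),
  (18519, 6, 192578, 26),
  (18521, 6, 91291, 20),
  (18522, 6, 245834, 26),
  (18525, 6, 36981, 7),
  (18526, 6, 59514, 4),
  (18529, 6, 213122, 22),
  (18530, 4, 147473, 24),
  (18533, 6, 90148, 25),
  (18534, 4, 147505, 24),
  (18539, 3, 90186, 26),
  (18543, 5, 238659, 23),
  (18547, 4, 155722, 26),
  (18551, 6, 159810, 26),
  (18553, 4, 204874, 26),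
  (18554, 3, 213066, 26),
  (18557, 6, 254308, 25),
  (18558, 6, 175171, 23),
  (18561, 4, 73761, 25),
  (18562, 7, 74116, 21),
  (18565, 4, 73777, 25),
  (18566, 6, 16690, 24),
  (18571, 6, 37052, 26),
  (18575, 6, 16762, 24),
  (18579, 5, 93313, 16),
  (18583, 6, 82234, 24),
  (18585, 6, 82250, 24),
  (18586, 6, 4278, 1),
  (18589, 6, 33180, 26),
  (18590, 6, 145705, 20),
  (18593, 5, 73889, 25),
  (18594, 6, 36972, 26),
  (18597, 4, 147498, 24),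
  (18598, 7, 65812, 21),
  (18603, 6, 233670, 22),
  (18607, 7, 246851, 23),
  (18611, 6, 37244, 26),
  (18615, 4, 141782, 21),
  (18617, 3, 213066, 24),
  (18618, 6, 37356, 26),
  (18621, 6, 33244, 26),
  (18622, 6, 94398, 11),
  (18627, 6, 59466, 26),
  (18631, 5, 231, 14),
  (18633, 6, 108618, 26),
  (18634, 6, 6374, 14),
  (18637, 5, 219434, 22),
  (18638, 6, 121062, 6),
  (18641, 6, 125173, 23),
  (18642, 4, 141466, 21),
  (18645, 6, 178242, 26),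
  (18646, 6, 90198, 5),
  (18651, 6, 119997, 5),
  (18655, 6, 260162, 26),
  (18659, 6, 117831, 7),
  (18663, 7, 199945, 20),
  (18665, 5, 120841, 3),
  (18666, 6, 120842, 3),
  (18669, 6, 151686, 22),
  (18670, 6, 189507, 23),
  (18673, 6, 213003, 24),
  (18674, 6, 35062, 2),
  (18677, 6, 124993, 23),
  (18678, 6, 213043, 24),
  (18683, 6, 1405, 19),
  (18687, 6, 208169, 20),
  (18689, 4, 33867, 20),
  (18690, 4, 34893, 20),
  (18693, 4, 37897, 20),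
  (18694, 4, 38921, 20),
  (18699, 6, 78122, 25),
  (18703, 5, 207186, 22),
  (18707, 5, 158775, 1),
  (18711, 6, 99729, 22),
  (18713, 6, 74082, 25),
  (18714, 6, 4414, 16),
  (18717, 6, 69013, 22),
  (18718, 5, 45442, 44),
  (18721, 4, 37955, 20),
  (18722, 4, 38981, 20),
  (18725, 5, 33801, 20),
  (18726, 5, 34825, 20),
  (18731, 6, 147548, 24),
  (18735, 6, 149957, 21),
  (18739, 5, 78058, 25),
  (18743, 5, 149958, 21),
  (18745, 3, 213068, 24),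
  (18746, 6, 37353, 26),
  (18749, 7, 74226, 25),
  (18750, 6, 159750, 14),
  (18755, 6, 242137, 23),
  (18759, 7, 79930, 25),
  (18761, 6, 149577, 21),
  (18762, 6, 38059, 26),
  (18765, 6, 33947, 26),
  (18766, 6, 153674, 7),
  (18769, 6, 59733, 11),
  (18770, 3, 155718, 7),
  (18773, 4, 75890, 25),
  (18774, 6, 139366, 14),
  (18779, 6, 80234, 25),
  (18783, 6, 191501, 16),
  (18787, 4, 250148, 21),
  (18791, 4, 80058, 25),
  (18793, 6, 38107, 26),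
  (18794, 4, 123078, 22),
  (18797, 6, 6501, 13),
  (18798, 4, 80282, 25),
  (18801, 6, 38235, 26),
  (18802, 6, 16726, 16),
  (18805, 4, 145538, 19),
  (18806, 3, 155718, 14),
  (18811, 6, 161863, 14),
  (18815, 7, 34299, 26),
  (18819, 5, 143834, 22),
  (18823, 5, 209242, 22),
  (18825, 6, 145818, 22),
  (18826, 5, 182290, 38),
  (18829, 6, 16750, 24),
  (18830, 6, 213294, 17),
  (18833, 6, 82190, 24),
  (18834, 6, 186733, 23),
  (18837, 7, 158034, 21),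
  (18838, 6, 74150, 8),
  (18843, 6, 163215, 4),
  (18847, 5, 97589, 13),
  (18851, 6, 249857, 23),
  (18855, 6, 78011, 25),
  (18857, 6, 37085, 26),
  (18858, 6, 185347, 23),
  (18861, 6, 196781, 1),
  (18862, 6, 217382, 5),
  (18865, 4, 213006, 24),
  (18866, 6, 186369, 23),
  (18869, 4, 158038, 21),
  (18870, 6, 196918, 17),
  (18875, 6, 157911, 21),
  (18879, 5, 196927, 17),
  (18881, 4, 45420, 21),
  (18882, 6, 192889, 23),
  (18885, 6, 75827, 25),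
  (18886, 5, 166306, 1),
  (18891, 6, 38079, 26),
  (18895, 6, 252391, 6),
  (18899, 6, 189653, 8),
  (18903, 6, 158170, 21),
  (18905, 6, 129501, 11),
  (18906, 6, 248126, 17),
  (18909, 5, 34207, 26),
  (18910, 5, 106926, 8),
  (18913, 6, 126977, 23),
  (18914, 4, 67025, 19),
  (18917, 6, 147503, 24),
  (18918, 6, 215266, 7),
  (18923, 6, 251915, 3),
  (18927, 6, 249005, 16),
  (18931, 6, 257185, 16),
  (18935, 6, 213055, 24),
  (18937, 6, 244193, 6),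
  (18938, 6, 125326, 8),
  (18941, 6, 186845, 10),
  (18942, 6, 252022, 15),
  (19457, 4, 1039, 20),
  (19459, 4, 3083, 20),
  (19461, 4, 7181, 20),
  (19463, 4, 229444, 21),
  (19481, 6, 6199, 7),
  (19483, 6, 27675, 20),
  (19485, 6, 74104, 25),
  (19487, 6, 90488, 24),
  (19489, 4, 5127, 20),
  (19491, 4, 7171, 20),
  (19493, 4, 3085, 20),
  (19495, 5, 1037, 20),
  (19513, 6, 74216, 25),
  (19515, 6, 31807, 11),
  (19517, 6, 8255, 1),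
  (19519, 6, 101699, 23),
  (19529, 6, 106963, 23),
  (19531, 5, 120961, 40),
  (19533, 6, 159013, 19),
  (19535, 5, 248162, 22),
  (19537, 4, 53500, 25),
  (19539, 6, 85131, 20),
  (19541, 6, 72749, 20),
  (19543, 4, 67041, 22),
  (19561, 6, 155721, 24),
  (19563, 6, 213308, 25),
  (19565, 6, 7271, 13),
  (19567, 6, 38955, 5),
  (19569, 6, 155754, 26),
  (19571, 5, 146435, 19),
  (19573, 4, 159842, 26),
  (19575, 6, 199118, 21),
  (19593, 5, 175, 15),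
  (19595, 7, 170442, 22),
  (19597, 5, 89259, 5),
  (19599, 6, 51219, 19),
  (19601, 6, 73833, 25),
  (19603, 6, 248037, 23),
  (19605, 5, 207186, 21),
  (19607, 5, 49468, 26),
  (19625, 4, 155722, 24),
  (19627, 4, 53500, 26),
  (19629, 6, 155754, 24),
  (19631, 6, 155770, 24),
  (19633, 5, 120897, 40),
  (19635, 6, 90119, 2),
  (19637, 4, 49500, 26),
  (19639, 6, 117057, 23),
  (19649, 6, 184746, 22),
  (19651, 4, 110924, 21),
  (19653, 5, 117989, 6),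
  (19655, 4, 250218, 22),
  (19673, 6, 97395, 13),
  (19675, 6, 39163, 10),
  (19677, 6, 212269, 20),
  (19679, 6, 243810, 26),
  (19681, 5, 117989, 11),
  (19683, 4, 249986, 22),
  (19685, 6, 199949, 20),
  (19687, 6, 14434, 26),
  (19705, 5, 126123, 16),
  (19707, 6, 221275, 24),
  (19709, 6, 93259, 2),
  (19711, 6, 126275, 23),
  (19721, 6, 6439, 7),
  (19723, 6, 215233, 21),
  (19725, 6, 147503, 1),
  (19727, 6, 18579, 19),
  (19729, 6, 215106, 21),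
  (19731, 5, 90396, 24),
  (19733, 5, 311, 7),
  (19735, 4, 67025, 22),
  (19753, 4, 155724, 24),
  (19755, 6, 155740, 24),
  (19757, 6, 74170, 25),
  (19759, 6, 6439, 13),
  (19761, 6, 99667, 22),
  (19763, 5, 311, 5),
  (19765, 6, 73978, 25),
  (19767, 7, 221244, 24),
  (19777, 6, 37356, 21),
  (19779, 5, 102764, 21),
  (19781, 6, 147559, 1),
  (19783, 4, 79922, 25),
  (19801, 6, 32115, 13),
  (19803, 6, 90461, 24),
  (19805, 5, 120937, 40),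
  (19807, 6, 194643, 8),
  (19809, 5, 241921, 23),
  (19811, 6, 110849, 23),
  (19813, 6, 208149, 19),
  (19815, 6, 52481, 15),
  (19833, 6, 191531, 16),
  (19835, 6, 80354, 25),
  (19837, 5, 120869, 40),
  (19839, 5, 193837, 4),
  (19841, 5, 423, 15),
  (19843, 6, 77859, 25),
  (19845, 6, 24878, 24),
  (19847, 5, 121061, 40),
  (19865, 6, 228769, 6),
  (19867, 5, 163213, 4),
  (19869, 6, 90478, 24),
  (19871, 6, 90494, 24),
  (19873, 3, 155662, 24),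
  (19875, 7, 180660, 21),
  (19877, 4, 143554, 22),
  (19879, 5, 216103, 42),
  (19897, 6, 24991, 15),
  (19899, 6, 78307, 25),
  (19901, 6, 212389, 6),
  (19903, 6, 63619, 19),
  (19913, 6, 253409, 6),
  (19915, 7, 195066, 22),
  (19917, 6, 260410, 22),
  (19919, 6, 242957, 20),
  (19921, 6, 240689, 3),
  (19923, 6, 90399, 24),
  (19925, 6, 191699, 8),
  (19927, 5, 240695, 3),
  (19945, 6, 232749, 17),
  (19947, 6, 119905, 44),
  (19949, 6, 159942, 22),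
  (19951, 7, 190595, 19),
  (19953, 7, 244063, 19),
  (19955, 6, 54655, 26),
  (19957, 6, 232749, 20),
  (19959, 6, 60817, 15),
  (20483, 6, 213384, 25),
  (20485, 4, 196656, 25),
  (20486, 6, 22562, 17),
  (20491, 6, 98480, 26),
  (20493, 4, 196912, 25),
  (20494, 5, 4518, 42),
  (20497, 4, 33863, 21),
  (20498, 5, 33797, 22),
  (20500, 4, 35845, 23),
  (20503, 6, 8255, 3),
  (20505, 4, 35845, 21),
  (20506, 4, 35841, 22),
  (20508, 5, 35847, 23),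
  (20511, 6, 36225, 22),
  (20515, 6, 16395, 3),
  (20517, 4, 196784, 25),
  (20518, 6, 20526, 15),
  (20523, 6, 165958, 22),
  (20525, 4, 197040, 25),
  (20526, 5, 122886, 39),
  (20529, 4, 35907, 21),
  (20530, 4, 33799, 22),
  (20532, 5, 2115, 23),
  (20535, 6, 34183, 22),
  (20537, 5, 33797, 21),
  (20538, 4, 35843, 22),
  (20540, 4, 3137, 23),
  (20543, 6, 28735, 20),
  (20545, 5, 36941, 21),
  (20546, 5, 24849, 19),
  (20548, 6, 49196, 12),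
  (20551, 5, 238993, 23),
  (20553, 4, 38917, 21),
  (20554, 5, 24881, 19),
  (20556, 6, 37066, 26),
  (20559, 3, 213478, 22),
  (20563, 4, 53732, 25),
  (20565, 6, 28835, 20),
  (20566, 5, 45524, 25),
  (20571, 5, 28854, 20),
  (20573, 6, 24894, 19),
  (20574, 5, 184522, 26),
  (20577, 5, 38985, 21),
  (20578, 4, 16657, 19),
  (20580, 6, 36972, 6),
  (20583, 6, 163897, 24),
  (20585, 4, 36869, 21),
  (20586, 4, 16689, 19),
  (20588, 6, 36972, 14),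
  (20591, 6, 7275, 1),
  (20595, 6, 229401, 24),
  (20597, 4, 209098, 26),
  (20598, 6, 59514, 11),
  (20603, 6, 207873, 23),
  (20605, 6, 254068, 25),
  (20606, 6, 36003, 22),
  (20609, 4, 196641, 25),
  (20610, 4, 6222, 22),
  (20612, 4, 196625, 25),
  (20615, 6, 102452, 26),
  (20617, 4, 196897, 25),
  (20618, 5, 4174, 22),
  (20620, 5, 196881, 25),
  (20623, 5, 89259, 1),
  (20627, 6, 24669, 19),
  (20629, 6, 73789, 3),
  (20630, 6, 24667, 19),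
  (20635, 6, 216487, 23),
  (20637, 6, 3465, 22),
  (20638, 5, 102820, 26),
  (20641, 5, 196769, 25),
  (20642, 4, 38978, 22),
  (20644, 4, 196753, 25),
  (20647, 4, 102516, 26),
  (20649, 5, 197025, 25),
  (20650, 4, 38982, 22),
  (20652, 5, 197009, 25),
  (20655, 6, 235590, 22),
  (20659, 7, 95233, 2),
  (20661, 6, 16478, 19),
  (20662, 5, 92334, 7),
  (20667, 5, 159806, 20),
  (20669, 6, 73789, 13),
  (20670, 6, 159805, 20),
  (20675, 7, 153966, 22),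
  (20677, 7, 112842, 26),
  (20678, 6, 6378, 14),
  (20683, 5, 235, 14),
  (20685, 6, 47306, 26),
  (20686, 6, 34990, 1),
  (20689, 6, 198753, 25),
  (20690, 6, 94298, 5),
  (20692, 6, 61620, 7),
  (20695, 6, 257461, 23),
  (20697, 6, 93367, 23),
  (20698, 4, 182466, 26),
  (20700, 6, 60471, 23),
  (20703, 6, 97531, 1),
  (20707, 6, 186434, 22),
  (20709, 6, 16726, 19),
  (20710, 6, 35050, 2),
  (20715, 6, 186438, 22),
  (20717, 6, 16758, 19),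
  (20718, 6, 88294, 7),
  (20721, 5, 207042, 26),
  (20722, 5, 122906, 3),
  (20724, 6, 126988, 11),
  (20727, 6, 97349, 2),
  (20729, 4, 141506, 26),
  (20730, 6, 158721, 23),
  (20732, 5, 154030, 42),
  (20735, 6, 36267, 22),
  (20737, 6, 4385, 15),
  (20738, 4, 90257, 19),
  (20740, 4, 37897, 23),
  (20743, 6, 200762, 25),
  (20745, 6, 147465, 8),
  (20746, 4, 90289, 19),
  (20748, 4, 37899, 23),
  (20751, 4, 205270, 22),
  (20755, 5, 98588, 24),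
  (20757, 7, 196722, 25),
  (20758, 6, 157710, 7),
  (20763, 6, 36113, 22),
  (20765, 3, 90302, 19),
  (20766, 6, 102817, 26),
  (20769, 6, 147465, 3),
  (20770, 4, 82065, 19),
  (20772, 5, 4163, 23),
  (20775, 6, 102513, 26),
  (20777, 6, 82100, 19),
  (20778, 4, 82097, 19),
  (20780, 5, 5185, 23),
  (20783, 6, 245797, 21),
  (20787, 5, 200938, 25),
  (20789, 6, 82078, 19),
  (20790, 6, 33943, 22),
  (20795, 6, 29979, 15),
  (20797, 6, 197106, 25),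
  (20798, 6, 82107, 19),
  (20803, 6, 158070, 22),
  (20805, 6, 186657, 17),
  (20806, 6, 177433, 23),
  (20811, 4, 156022, 22),
  (20813, 6, 35177, 7),
  (20814, 3, 90358, 22),
  (20817, 4, 28898, 20),
  (20818, 4, 155722, 7),
  (20820, 6, 192820, 7),
  (20823, 7, 28903, 20),
  (20825, 4, 199010, 25),
  (20826, 6, 159810, 7),
  (20828, 6, 3249, 22),
  (20831, 6, 193549, 16),
  (20835, 6, 190530, 22),
  (20837, 6, 103507, 26),
  (20838, 6, 39270, 4),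
  (20843, 6, 118821, 21),
  (20845, 5, 365, 13),
  (20846, 6, 124998, 22),
  (20849, 6, 99667, 26),
  (20850, 6, 155754, 7),
  (20852, 5, 137378, 42),
  (20855, 6, 161867, 14),
  (20857, 5, 192529, 3),
  (20858, 3, 156026, 5),
  (20860, 6, 147548, 4),
  (20863, 6, 203258, 25),
  (20867, 6, 218537, 23),
  (20869, 6, 211358, 22),
  (20870, 5, 20910, 42),
  (20875, 6, 90357, 19),
  (20877, 3, 90358, 19),
  (20878, 3, 213422, 6),
  (20881, 4, 159842, 20),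
  (20882, 6, 90522, 11),
  (20884, 6, 204860, 3),
  (20887, 6, 220575, 12),
  (20889, 4, 90364, 19),
  (20890, 6, 90361, 19),
  (20892, 4, 90362, 19),
  (20895, 6, 212269, 2),
  (20899, 6, 178242, 22),
  (20901, 6, 210946, 22),
  (20902, 4, 213006, 3),
  (20907, 6, 218113, 23),
  (20909, 6, 82166, 19),
  (20910, 4, 163958, 24),
  (20913, 6, 1311, 22),
  (20914, 7, 260178, 42),
  (20916, 6, 155836, 17),
  (20919, 5, 34207, 22),
  (20921, 6, 82172, 19),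
  (20922, 4, 229462, 24),
  (20924, 4, 229478, 24),
  (20927, 6, 32159, 15),
  (20929, 4, 143554, 20),
  (20930, 5, 250146, 17),
  (20932, 6, 249932, 15),
  (20935, 6, 90583, 19),
  (20937, 6, 160062, 22),
  (20938, 6, 131306, 14),
  (20940, 6, 94398, 22),
  (20943, 6, 33151, 24),
  (20947, 6, 90589, 19),
  (20949, 6, 252209, 17),
  (20950, 5, 260286, 10),
  (20955, 6, 250171, 17),
  (20957, 6, 159987, 20),
  (20958, 6, 113066, 8),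
  (20961, 6, 82388, 19),
  (20962, 6, 82250, 16),
  (20964, 6, 145705, 21),
  (20967, 6, 260162, 22),
  (20969, 6, 213481, 12),
  (20970, 4, 143580, 20),
  (20972, 6, 249860, 3),
  (20975, 6, 118091, 7),
  (20979, 6, 159982, 20),
  (20981, 6, 190889, 4),
  (20982, 5, 129410, 8),
  (20987, 6, 210171, 1),
  (20989, 5, 74109, 13),
  (20990, 6, 195054, 13),
  (21505, 6, 16395, 4),
  (21507, 6, 16808, 25),
  (21513, 6, 16395, 12),
  (21515, 6, 16395, 8),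
  (21525, 6, 34245, 22),
  (21527, 5, 63, 10),
  (21533, 6, 196984, 25),
  (21535, 6, 7217, 19),
  (21537, 6, 114768, 26),
  (21539, 6, 16395, 10),
  (21545, 6, 16395, 7),
  (21547, 5, 63613, 40),
  (21557, 6, 7217, 17),
  (21559, 6, 16415, 10),
  (21565, 6, 31793, 11),
  (21567, 6, 6199, 5),
  (21573, 6, 38951, 15),
  (21575, 5, 209923, 37),
  (21581, 6, 246182, 22),
  (21583, 6, 246246, 22),
  (21585, 4, 30882, 20),
  (21587, 6, 237794, 26),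
  (21593, 6, 188642, 26),
  (21595, 4, 3425, 22),
  (21605, 6, 215106, 22),
  (21607, 5, 78058, 26),
  (21613, 6, 206145, 23),
  (21615, 6, 38951, 5),
  (21617, 6, 207107, 23),
  (21619, 6, 161825, 19),
  (21625, 6, 155874, 26),
  (21627, 6, 3427, 22),
  (21637, 6, 235918, 22),
  (21639, 5, 175, 10),
  (21645, 5, 60487, 19),
  (21647, 6, 145431, 20),
  (21649, 4, 161826, 20),
  (21651, 5, 95409, 1),
  (21657, 6, 36169, 22),
  (21659, 4, 106842, 24),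
  (21669, 6, 202818, 22),
  (21671, 4, 82243, 23),
  (21677, 6, 202822, 22),
  (21679, 6, 119028, 26),
  (21681, 6, 237578, 24),
  (21683, 6, 115060, 26),
  (21689, 5, 95243, 2),
  (21691, 6, 47137, 19),
  (21697, 4, 145538, 20),
  (21699, 6, 38049, 15),
  (21705, 5, 184622, 22),
  (21707, 6, 41307, 24),
  (21717, 6, 126389, 23),
  (21719, 6, 161959, 20),
  (21725, 5, 210313, 37),
  (21727, 6, 178410, 26),
  (21729, 6, 153666, 22),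
  (21731, 7, 145550, 20),
  (21737, 4, 26850, 26),
  (21739, 6, 37013, 21),
  (21749, 6, 126201, 11),
  (21751, 6, 211178, 26),
  (21757, 6, 97359, 2),
  (21759, 6, 3563, 22),
  (21765, 6, 6439, 15),
  (21767, 6, 229733, 21),
  (21773, 6, 237974, 22),
  (21775, 6, 238038, 22),
  (21777, 6, 73101, 23),
  (21779, 6, 99431, 21),
  (21785, 6, 147739, 12),
  (21787, 4, 3409, 22),
  (21797, 4, 172076, 24),
  (21799, 6, 239618, 22),
  (21805, 6, 197050, 25),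
  (21807, 6, 6439, 5),
  (21809, 6, 237580, 24),
  (21811, 6, 147739, 10),
  (21817, 6, 5427, 5),
  (21819, 6, 30846, 20),
  (21825, 5, 185633, 17),
  (21827, 6, 149681, 19),
  (21833, 6, 14546, 20),
  (21835, 4, 203042, 25),
  (21845, 6, 169455, 21),
  (21847, 6, 106813, 24),
  (21853, 5, 199034, 25),
  (21855, 6, 36217, 7),
  (21857, 6, 157762, 22),
  (21859, 6, 96613, 39),
  (21865, 6, 157766, 22),
  (21867, 5, 185633, 4),
  (21877, 6, 36159, 5),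
  (21879, 5, 210051, 37),
  (21885, 5, 210057, 37),
  (21887, 6, 158795, 14),
  (21889, 6, 147851, 4),
  (21891, 6, 218539, 6),
  (21897, 6, 124997, 19),
  (21899, 5, 210075, 37),
  (21909, 5, 34269, 22),
  (21911, 6, 161895, 20),
  (21917, 6, 220473, 17),
  (21919, 6, 163201, 4),
  (21921, 6, 196779, 25),
  (21923, 6, 147851, 10),
  (21929, 6, 213419, 12),
  (21931, 6, 43169, 19),
  (21941, 6, 204081, 17),
  (21943, 6, 237630, 24),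
  (21949, 6, 36315, 22),
  (21951, 6, 3547, 22),
  (21957, 6, 41263, 24),
  (21959, 7, 145607, 20),
  (21965, 5, 251023, 16),
  (21967, 6, 121255, 5),
  (21969, 6, 34173, 22),
  (21971, 6, 162022, 20),
  (21977, 6, 36217, 22),
  (21979, 6, 162038, 20),
  (21989, 6, 241015, 19),
  (21991, 5, 210179, 37),
  (21997, 5, 210185, 37),
  (21999, 6, 216557, 12),
  (22001, 6, 162026, 20),
  (22003, 6, 194721, 19),
  (22009, 6, 162042, 20),
  (22011, 6, 162046, 20),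
  (22529, 5, 16816, 25),
  (22530, 5, 213038, 43),
  (22533, 4, 213392, 25),
  (22534, 6, 67654, 22),
  (22537, 4, 147632, 25),
  (22538, 6, 22562, 12),
  (22541, 3, 82320, 25),
  (22542, 6, 20526, 17),
  (22547, 6, 7231, 7),
  (22551, 6, 200133, 23),
  (22555, 6, 7217, 10),
  (22559, 6, 7225, 20),
  (22561, 3, 82224, 25),
  (22562, 5, 16782, 43),
  (22565, 4, 147856, 25),
  (22566, 6, 22562, 13),
  (22569, 4, 213040, 25),
  (22570, 6, 20526, 13),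
  (22573, 5, 16784, 25),
  (22574, 6, 22562, 7),
  (22579, 6, 6199, 17),
  (22583, 6, 31745, 2),
  (22587, 6, 232449, 23),
  (22591, 6, 7217, 5),
  (22595, 7, 238605, 37),
  (22599, 5, 127170, 26),
  (22603, 6, 49497, 24),
  (22607, 6, 38951, 3),
  (22609, 6, 30841, 13),
  (22610, 6, 61558, 4),
  (22613, 6, 114985, 24),
  (22614, 6, 63602, 4),
  (22617, 6, 162062, 19),
  (22618, 6, 175447, 23),
  (22621, 6, 70713, 20),
  (22622, 6, 63562, 13),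
  (22627, 6, 38951, 17),
  (22631, 4, 182466, 22),
  (22635, 6, 17717, 19),
  (22639, 6, 180345, 24),
  (22641, 6, 115060, 25),
  (22642, 5, 38966, 17),
  (22645, 4, 161826, 19),
  (22646, 6, 99495, 22),
  (22649, 4, 162078, 19),
  (22650, 4, 233556, 25),
  (22653, 4, 143554, 26),
  (22654, 6, 61454, 8),
  (22659, 6, 25685, 19),
  (22663, 6, 214497, 23),
  (22667, 4, 102588, 26),
  (22671, 5, 175, 14),
  (22673, 5, 117989, 23),
  (22674, 6, 94398, 10),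
  (22677, 5, 98588, 26),
  (22678, 6, 88094, 15),
  (22681, 5, 115018, 24),
  (22682, 3, 90302, 10),
  (22685, 6, 36117, 21),
  (22686, 5, 92334, 6),
  (22691, 6, 89103, 7),
  (22695, 5, 89259, 12),
  (22699, 6, 112695, 40),
  (22703, 5, 180346, 24),
  (22705, 5, 185353, 44),
  (22706, 5, 102764, 26),
  (22709, 6, 80045, 6),
  (22710, 3, 90302, 11),
  (22713, 6, 245834, 24),
  (22714, 6, 84026, 15),
  (22717, 4, 98780, 26),
  (22718, 6, 4278, 2),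
  (22721, 4, 174438, 19),
  (22722, 6, 78221, 21),
  (22725, 6, 39073, 15),
  (22726, 6, 39082, 1),
  (22729, 6, 185693, 44),
  (22730, 6, 189811, 23),
  (22733, 5, 237, 14),
  (22734, 7, 203033, 20),
  (22739, 6, 36089, 10),
  (22743, 6, 95479, 1),
  (22747, 5, 185443, 44),
  (22751, 6, 194754, 26),
  (22753, 6, 120909, 7),
  (22754, 7, 180243, 24),
  (22757, 6, 80066, 26),
  (22758, 6, 34990, 12),
  (22761, 4, 219270, 22),
  (22762, 6, 121062, 11),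
  (22765, 6, 180331, 24),
  (22766, 6, 180339, 24),
  (22771, 6, 223434, 26),
  (22775, 6, 208185, 20),
  (22779, 6, 129271, 11),
  (22783, 6, 127223, 11),
  (22787, 4, 141782, 22),
  (22791, 5, 49468, 24),
  (22795, 4, 49500, 24),
  (22799, 6, 209210, 25),
  (22801, 6, 66837, 22),
  (22802, 3, 155662, 7),
  (22805, 4, 114988, 24),
  (22806, 6, 91291, 19),
  (22809, 6, 96270, 19),
  (22810, 6, 159750, 7),
  (22813, 5, 161805, 16),
  (22814, 4, 217486, 43),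
  (22819, 6, 100833, 21),
  (22823, 6, 180284, 24),
  (22827, 6, 180316, 24),
  (22831, 6, 152871, 4),
  (22833, 5, 161805, 14),
  (22834, 4, 209098, 25),
  (22837, 4, 30882, 19),
  (22838, 6, 24894, 11),
  (22841, 6, 205282, 25),
  (22842, 6, 147742, 1),
  (22845, 6, 98777, 26),
  (22846, 3, 155662, 14),
  (22849, 6, 39277, 7),
  (22850, 6, 39206, 8),
  (22853, 6, 39201, 15),
  (22854, 6, 210970, 25),
  (22857, 6, 111835, 23),
  (22858, 4, 211210, 25),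
  (22861, 6, 131181, 14),
  (22862, 5, 184622, 17),
  (22867, 6, 99637, 22),
  (22871, 5, 185673, 44),
  (22875, 6, 211306, 25),
  (22879, 6, 211322, 25),
  (22881, 6, 110595, 23),
  (22882, 6, 184678, 13),
  (22885, 6, 110659, 23),
  (22886, 6, 39266, 4),
  (22889, 6, 186369, 3),
  (22890, 6, 177153, 23),
  (22893, 6, 39201, 5),
  (22894, 6, 39274, 4),
  (22899, 6, 211178, 25),
  (22903, 5, 185603, 44),
  (22907, 6, 211434, 25),
  (22911, 6, 211450, 25),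
  (22913, 4, 145822, 22),
  (22914, 6, 185705, 23),
  (22917, 6, 177433, 20),
  (22918, 6, 184404, 38),
  (22921, 6, 124998, 19),
  (22922, 6, 131502, 1),
  (22925, 5, 185643, 44),
  (22926, 6, 213262, 5),
  (22931, 5, 97593, 13),
  (22935, 6, 220571, 12),
  (22939, 5, 163207, 4),
  (22943, 6, 115070, 24),
  (22945, 6, 38227, 20),
  (22946, 6, 215050, 3),
  (22949, 4, 145538, 22),
  (22950, 6, 82350, 11),
  (22953, 4, 125014, 19),
  (22954, 5, 111058, 37),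
  (22957, 5, 119873, 23),
  (22958, 6, 6566, 12),
  (22963, 6, 251907, 23),
  (22967, 6, 99743, 22),
  (22971, 6, 77113, 13),
  (22975, 6, 252993, 23),
  (22979, 6, 38311, 15),
  (22983, 6, 241901, 21),
  (22987, 6, 248299, 6),
  (22991, 6, 225662, 22),
  (22993, 6, 130301, 23),
  (22994, 6, 113062, 8),
  (22997, 6, 206963, 25),
  (22998, 5, 180478, 2),
  (23001, 6, 194949, 4),
  (23002, 6, 113070, 8),
  (23005, 6, 97535, 23),
  (23006, 6, 111022, 8),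
  (23011, 6, 260290, 22),
  (23015, 6, 247823, 3),
  (23019, 5, 185441, 44),
  (23023, 6, 216555, 12),
  (23025, 6, 244094, 19),
  (23026, 6, 244202, 6),
  (23029, 6, 209141, 1),
  (23030, 5, 112734, 40),
  (23033, 5, 194981, 4),
  (23034, 6, 129477, 20),
  (23037, 6, 155853, 14),
  (23038, 6, 127374, 8),
  (23569, 6, 31803, 13),
  (23571, 6, 23603, 19),
  (23573, 6, 31807, 13),
  (23575, 6, 5181, 7),
  (23577, 6, 205160, 25),
  (23579, 6, 232647, 23),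
  (23581, 5, 63, 7),
  (23583, 5, 170311, 40),
  (23601, 6, 21527, 20),
  (23603, 5, 63, 5),
  (23605, 6, 31803, 8),
  (23607, 6, 67015, 22),
  (23609, 6, 30751, 19),
  (23611, 6, 7231, 17),
  (23613, 6, 5181, 17),
  (23615, 7, 14371, 19),
  (23617, 4, 182694, 22),
  (23619, 6, 150579, 19),
  (23621, 6, 46129, 44),
  (23623, 6, 25004, 25),
  (23625, 6, 57673, 24),
  (23627, 4, 41194, 26),
  (23629, 6, 7275, 2),
  (23631, 6, 206035, 23),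
  (23649, 6, 7275, 13),
  (23651, 6, 104777, 21),
  (23653, 6, 142645, 19),
  (23655, 6, 90412, 25),
  (23657, 6, 24810, 26),
  (23659, 4, 247942, 22),
  (23661, 4, 28898, 26),
  (23663, 6, 188537, 24),
  (23681, 6, 1311, 20),
  (23683, 5, 89259, 6),
  (23685, 4, 57642, 24),
  (23687, 4, 114748, 26),
  (23689, 6, 205097, 25),
  (23691, 4, 57690, 24),
  (23693, 7, 233742, 22),
  (23695, 6, 35221, 21),
  (23713, 6, 204969, 25),
  (23715, 6, 7443, 20),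
  (23717, 6, 44149, 19),
  (23719, 6, 140573, 20),
  (23721, 5, 89259, 16),
  (23723, 6, 44067, 19),
  (23725, 4, 114908, 26),
  (23727, 6, 170118, 22),
  (23761, 6, 115903, 5),
  (23763, 5, 239850, 26),
  (23765, 6, 260322, 26),
  (23767, 5, 170013, 40),
  (23769, 6, 190698, 26),
  (23771, 6, 174314, 26),
  (23773, 6, 194786, 26),
  (23775, 6, 95485, 1),
  (23793, 6, 95303, 2),
  (23795, 6, 207082, 26),
  (23797, 5, 101523, 41),
  (23799, 5, 170065, 40),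
  (23801, 6, 27853, 14),
  (23803, 6, 126209, 23),
  (23805, 6, 97355, 2),
  (23807, 6, 103487, 17),
  (23809, 5, 169999, 40),
  (23811, 6, 57628, 24),
  (23813, 6, 204858, 25),
  (23815, 6, 114745, 26),
  (23817, 6, 205098, 25),
  (23819, 6, 118969, 26),
  (23821, 6, 205114, 25),
  (23823, 5, 207269, 37),
  (23841, 5, 204970, 25),
  (23843, 6, 152877, 12),
  (23845, 4, 141506, 22),
  (23847, 6, 138543, 6),
  (23849, 5, 207046, 22),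
  (23851, 6, 147503, 8),
  (23853, 4, 188524, 24),
  (23855, 6, 114937, 26),
  (23889, 6, 60765, 11),
  (23891, 6, 154803, 19),
  (23893, 6, 212269, 19),
  (23895, 5, 170073, 40),
  (23897, 7, 123213, 24),
  (23899, 6, 162941, 1),
  (23901, 6, 195599, 16),
  (23903, 6, 34173, 7),
  (23921, 6, 207082, 25),
  (23923, 6, 120187, 26),
  (23925, 5, 122963, 39),
  (23927, 6, 67063, 22),
  (23929, 5, 251301, 21),
  (23931, 6, 211426, 25),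
  (23933, 6, 163147, 2),
  (23935, 7, 145571, 19),
  (23953, 5, 206881, 37),
  (23955, 6, 123166, 24),
  (23957, 6, 97599, 13),
  (23959, 6, 96575, 13),
  (23961, 6, 212017, 3),
  (23963, 6, 212019, 3),
  (23965, 6, 205179, 25),
  (23967, 6, 211243, 2),
  (23985, 6, 205035, 25),
  (23987, 6, 253982, 24),
  (23989, 6, 150943, 10),
  (23991, 6, 212399, 6),
  (23993, 6, 119261, 26),
  (23995, 6, 204095, 17),
  (23997, 6, 208301, 6),
  (23999, 6, 47267, 19),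
  (24001, 6, 118221, 11),
  (24003, 5, 220389, 1),
  (24005, 5, 122995, 39),
  (24007, 6, 210995, 25),
  (24009, 5, 170325, 40),
  (24011, 6, 170467, 10),
  (24013, 6, 249325, 6),
  (24015, 6, 252047, 16),
  (24033, 6, 258307, 23),
  (24035, 6, 248843, 3),
  (24037, 6, 152781, 14),
  (24039, 6, 220649, 12),
  (24041, 6, 227526, 22),
  (24043, 6, 211363, 25),
  (24045, 6, 232733, 20),
  (24047, 6, 194694, 22),
  (24579, 5, 5521, 40),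
  (24581, 6, 2101, 15),
  (24582, 5, 65968, 24),
  (24585, 4, 3137, 21),
  (24586, 5, 2115, 22),
  (24588, 4, 32775, 23),
  (24591, 5, 147461, 37),
  (24595, 6, 1073, 2),
  (24597, 6, 2101, 2),
  (24598, 4, 432, 24),
  (24601, 4, 3139, 21),
  (24602, 4, 33863, 22),
  (24604, 5, 34819, 23),
  (24607, 7, 12351, 19),
  (24611, 6, 163952, 26),
  (24613, 6, 98480, 25),
  (24614, 4, 196784, 24),
  (24617, 4, 3141, 21),
  (24618, 4, 3137, 22),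
  (24620, 5, 3143, 23),
  (24623, 6, 196856, 24),
  (24627, 6, 20494, 20),
  (24629, 5, 73943, 38),
  (24630, 5, 131248, 24),
  (24633, 5, 3143, 21),
  (24634, 4, 32839, 22),
  (24636, 4, 1095, 23),
  (24639, 5, 5387, 40),
  (24641, 5, 36942, 21),
  (24642, 4, 65937, 24),
  (24644, 5, 65953, 24),
  (24647, 6, 35073, 44),
  (24648, 4, 3081, 21),
  (24651, 6, 4278, 20),
  (24653, 5, 241994, 26),
  (24654, 6, 61558, 6),
  (24657, 3, 38918, 21),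
  (24658, 3, 401, 24),
  (24660, 3, 417, 24),
  (24663, 6, 61620, 25),
  (24664, 4, 3083, 21),
  (24667, 5, 196915, 39),
  (24669, 5, 196917, 39),
  (24670, 6, 63562, 11),
  (24673, 3, 38986, 21),
  (24674, 4, 196753, 24),
  (24676, 5, 196769, 24),
  (24679, 6, 235978, 21),
  (24680, 4, 3085, 21),
  (24683, 6, 4286, 20),
  (24685, 6, 216481, 22),
  (24686, 5, 38966, 10),
  (24689, 5, 36870, 21),
  (24690, 4, 131217, 24),
  (24692, 4, 131233, 24),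
  (24695, 6, 33987, 43),
  (24696, 4, 155656, 19),
  (24699, 4, 250148, 25),
  (24701, 6, 4414, 19),
  (24702, 6, 61454, 3),
  (24705, 3, 177, 15),
  (24706, 4, 4171, 22),
  (24708, 6, 90148, 8),
  (24711, 4, 12375, 19),
  (24712, 5, 6155, 22),
  (24715, 4, 135222, 20),
  (24717, 5, 168084, 26),
  (24718, 5, 74130, 38),
  (24721, 3, 177, 14),
  (24722, 4, 37955, 22),
  (24724, 6, 82100, 6),
  (24727, 5, 248225, 23),
  (24728, 4, 5127, 22),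
  (24731, 4, 474, 24),
  (24733, 4, 490, 24),
  (24734, 5, 34898, 44),
  (24737, 4, 90289, 16),
  (24738, 4, 5193, 22),
  (24740, 6, 82100, 2),
  (24743, 4, 168052, 26),
  (24744, 4, 7177, 22),
  (24747, 6, 196826, 24),
  (24749, 6, 80045, 5),
  (24750, 5, 34838, 44),
  (24753, 4, 90289, 12),
  (24754, 4, 36931, 22),
  (24756, 6, 82100, 16),
  (24759, 5, 34985, 44),
  (24760, 4, 4103, 22),
  (24763, 6, 131290, 24),
  (24765, 6, 131306, 24),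
  (24766, 5, 12380, 44),
  (24771, 7, 190786, 26),
  (24773, 6, 123061, 23),
  (24774, 5, 57526, 12),
  (24777, 4, 239938, 26),
  (24778, 6, 155959, 23),
  (24780, 5, 24754, 42),
  (24783, 6, 36031, 15),
  (24787, 6, 107635, 7),
  (24789, 5, 427, 24),
  (24790, 6, 43190, 1),
  (24793, 6, 11355, 21),
  (24794, 5, 45068, 41),
  (24796, 6, 127060, 15),
  (24799, 6, 507, 24),
  (24803, 5, 147629, 37),
  (24805, 5, 6361, 41),
  (24806, 6, 153930, 26),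
  (24809, 6, 4468, 19),
  (24810, 5, 196882, 39),
  (24812, 6, 4466, 19),
  (24815, 6, 220649, 22),
  (24819, 5, 24715, 42),
  (24821, 5, 34873, 44),
  (24822, 4, 200726, 21),
  (24825, 5, 35097, 44),
  (24826, 6, 84290, 26),
  (24828, 5, 24706, 42),
  (24831, 6, 249927, 22),
  (24833, 3, 305, 15),
  (24834, 6, 155938, 17),
  (24836, 4, 36877, 23),
  (24839, 5, 6493, 41),
  (24840, 4, 4111, 23),
  (24843, 6, 66012, 24),
  (24845, 6, 66028, 24),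
  (24846, 5, 73906, 38),
  (24849, 4, 155953, 17),
  (24850, 6, 139298, 3),
  (24852, 4, 38921, 23),
  (24855, 5, 238659, 22),
  (24856, 5, 6155, 23),
  (24859, 4, 476, 24),
  (24861, 4, 492, 24),
  (24862, 5, 74002, 38),
  (24865, 3, 305, 13),
  (24866, 6, 139298, 2),
  (24868, 5, 6213, 23),
  (24871, 4, 102586, 25),
  (24872, 5, 7175, 23),
  (24875, 6, 19653, 21),
  (24877, 6, 196844, 24),
  (24878, 5, 74114, 38),
  (24881, 4, 155953, 12),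
  (24882, 6, 155938, 5),
  (24884, 5, 4165, 23),
  (24887, 4, 245798, 21),
  (24888, 4, 5127, 23),
  (24891, 4, 102890, 25),
  (24893, 5, 69822, 19),
  (24894, 5, 73762, 38),
  (24899, 5, 73971, 38),
  (24901, 5, 34155, 43),
  (24902, 5, 201134, 21),
  (24905, 5, 6381, 41),
  (24906, 5, 40972, 41),
  (24908, 6, 61788, 1),
  (24911, 6, 36159, 15),
  (24915, 5, 413, 24),
  (24917, 6, 24933, 13),
  (24918, 6, 188502, 15),
  (24921, 6, 19531, 21),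
  (24922, 6, 61770, 11),
  (24924, 5, 24738, 42),
  (24927, 6, 169395, 26),
  (24931, 5, 5475, 40),
  (24933, 5, 74123, 38),
  (24934, 6, 190726, 1),
  (24937, 6, 4346, 20),
  (24938, 6, 4348, 20),
  (24940, 5, 24722, 42),
  (24943, 6, 212039, 23),
  (24947, 6, 188483, 22),
  (24949, 6, 20683, 20),
  (24950, 6, 104666, 25),
  (24953, 4, 100834, 25),
  (24954, 5, 196626, 39),
  (24956, 6, 90119, 22),
  (24959, 6, 192527, 3),
  (24963, 6, 65950, 24),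
  (24965, 6, 65966, 24),
  (24966, 6, 205222, 21),
  (24969, 6, 213177, 1),
  (24970, 5, 156058, 13),
  (24972, 6, 90540, 14),
  (24975, 6, 250287, 23),
  (24979, 4, 414, 24),
  (24981, 4, 430, 24),
  (24982, 5, 86026, 40),
  (24985, 6, 27731, 21),
  (24986, 4, 470, 24),
  (24988, 4, 486, 24),
  (24991, 5, 147493, 37),
  (24995, 6, 102571, 25),
  (24997, 6, 168021, 26),
  (24998, 5, 196742, 39),
  (25001, 6, 205097, 17),
  (25002, 5, 147722, 37),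
  (25004, 5, 180516, 44),
  (25007, 5, 147717, 37),
  (25011, 6, 131230, 24),
  (25013, 6, 131246, 24),
  (25014, 6, 213046, 21),
  (25017, 6, 204969, 1),
  (25018, 6, 205114, 17),
  (25020, 5, 213180, 16),
  (25023, 6, 241735, 22),
  (25025, 6, 164887, 26),
  (25026, 5, 213330, 5),
  (25028, 6, 205028, 4),
  (25031, 6, 242158, 21),
  (25032, 6, 28735, 23),
  (25035, 6, 162171, 22),
  (25037, 6, 100659, 25),
  (25038, 6, 192831, 23),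
  (25041, 6, 399, 24),
  (25042, 5, 147500, 37),
  (25044, 5, 423, 24),
  (25047, 4, 24657, 42),
  (25048, 5, 73862, 38),
  (25051, 6, 193607, 22),
  (25053, 6, 129481, 11),
  (25054, 6, 194810, 2),
  (25057, 6, 155857, 14),
  (25058, 4, 135404, 20),
  (25060, 5, 70098, 19),
  (25063, 4, 196745, 39),
  (25064, 5, 73750, 38),
  (25067, 6, 163193, 22),
  (25069, 6, 97351, 23),
  (25070, 5, 235702, 10),
  (25073, 6, 131215, 24),
  (25074, 6, 213234, 7),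
  (25076, 5, 205172, 8),
  (25079, 6, 169335, 26),
  (25080, 6, 28679, 22),
  (25083, 6, 27871, 21),
  (25085, 6, 95303, 23),
  (25086, 6, 127047, 22),
  (25601, 6, 1073, 3),
  (25603, 6, 1073, 15),
  (25613, 6, 5181, 3),
  (25615, 6, 6199, 20),
  (25617, 6, 22530, 20),
  (25619, 6, 24579, 8),
  (25629, 6, 7217, 14),
  (25631, 6, 16415, 16),
  (25633, 6, 24579, 7),
  (25635, 6, 1073, 1),
  (25645, 6, 232833, 22),
  (25647, 6, 31745, 7),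
  (25649, 6, 1073, 6),
  (25651, 5, 63613, 42),
  (25661, 5, 210075, 40),
  (25663, 6, 27657, 19),
  (25669, 5, 192874, 26),
  (25671, 6, 24828, 25),
  (25673, 6, 157997, 19),
  (25675, 6, 147948, 25),
  (25685, 5, 60465, 17),
  (25687, 6, 170118, 21),
  (25689, 6, 148551, 22),
  (25691, 6, 181255, 22),
  (25701, 6, 204969, 24),
  (25703, 5, 60465, 4),
  (25705, 6, 68685, 21),
  (25707, 6, 24667, 2),
  (25717, 5, 127036, 25),
  (25719, 6, 22671, 20),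
  (25721, 4, 22682, 20),
  (25723, 6, 74082, 26),
  (25733, 5, 184340, 26),
  (25735, 6, 74170, 24),
  (25737, 5, 95409, 6),
  (25739, 6, 102689, 25),
  (25749, 5, 93313, 11),
  (25751, 6, 102513, 25),
  (25753, 6, 84387, 23),
  (25755, 6, 96613, 41),
  (25765, 5, 204970, 24),
  (25767, 4, 239938, 21),
  (25769, 6, 180436, 26),
  (25771, 6, 205018, 24),
  (25781, 6, 200771, 22),
  (25783, 6, 82245, 23),
  (25785, 5, 153626, 20),
  (25787, 5, 95243, 3),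
  (25793, 4, 190818, 26),
  (25795, 6, 170009, 19),
  (25805, 6, 74219, 24),
  (25807, 6, 244074, 26),
  (25809, 6, 104598, 21),
  (25811, 6, 185347, 22),
  (25821, 6, 129386, 26),
  (25823, 5, 126011, 17),
  (25825, 6, 47306, 21),
  (25827, 6, 112714, 21),
  (25837, 6, 205035, 24),
  (25839, 6, 211306, 26),
  (25841, 4, 153738, 20),
  (25843, 6, 139419, 24),
  (25853, 6, 96618, 26),
  (25855, 6, 80234, 26),
  (25861, 6, 184337, 26),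
  (25863, 6, 74172, 24),
  (25865, 6, 29995, 5),
  (25867, 4, 102690, 25),
  (25877, 6, 246967, 43),
  (25879, 4, 102514, 25),
  (25881, 6, 72075, 23),
  (25883, 6, 8668, 24),
  (25893, 5, 238993, 22),
  (25895, 5, 311, 13),
  (25897, 6, 5427, 13),
  (25899, 6, 6270, 20),
  (25909, 7, 204867, 22),
  (25911, 6, 180390, 21),
  (25913, 6, 139468, 24),
  (25915, 6, 147739, 2),
  (25921, 6, 181267, 26),
  (25923, 6, 189811, 6),
  (25933, 5, 74221, 24),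
  (25935, 6, 193911, 6),
  (25937, 6, 189507, 8),
  (25939, 6, 24931, 13),
  (25949, 5, 191801, 17),
  (25951, 6, 104818, 25),
  (25953, 6, 6378, 20),
  (25955, 5, 371, 13),
  (25965, 6, 205037, 24),
  (25967, 6, 205053, 24),
  (25969, 6, 155715, 22),
  (25971, 6, 147795, 2),
  (25981, 6, 193549, 3),
  (25983, 6, 139517, 24),
  (25985, 6, 156051, 4),
  (25987, 6, 74142, 24),
  (25997, 6, 146609, 14),
  (25999, 6, 244187, 22),
  (26001, 5, 209923, 40),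
  (26003, 4, 51382, 21),
  (26013, 7, 184725, 26),
  (26015, 5, 210179, 40),
  (26017, 6, 204942, 24),
  (26019, 6, 47241, 19),
  (26029, 6, 198843, 1),
  (26031, 5, 210185, 40),
  (26033, 6, 139406, 24),
  (26035, 6, 213267, 2),
  (26045, 6, 216351, 2),
  (26047, 6, 97553, 7),
  (26053, 6, 240975, 19),
  (26055, 6, 82295, 13),
  (26057, 6, 94655, 23),
  (26059, 6, 205179, 2),
  (26069, 6, 100475, 25),
  (26071, 6, 186550, 21),
  (26073, 6, 100715, 25),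
  (26075, 5, 210051, 40),
  (26085, 5, 210313, 40),
  (26087, 6, 191921, 4),
  (26089, 5, 137466, 20),
  (26091, 5, 210057, 40),
  (26101, 6, 250038, 21),
  (26103, 6, 139455, 24),
  (26105, 6, 205035, 1),
  (26107, 6, 213339, 2),
  (26625, 5, 123905, 43),
  (26626, 3, 82320, 24),
  (26629, 6, 2101, 3),
  (26630, 5, 82352, 24),
  (26635, 6, 229831, 23),
  (26639, 5, 109571, 38),
  (26641, 6, 2101, 14),
  (26642, 5, 16784, 24),
  (26645, 6, 16808, 24),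
  (26646, 5, 16816, 24),
  (26651, 6, 6199, 14),
  (26655, 6, 31745, 8),
  (26657, 6, 2101, 1),
  (26658, 4, 213136, 24),
  (26661, 6, 213160, 24),
  (26662, 3, 213168, 24),
  (26667, 6, 7217, 13),
  (26671, 6, 27657, 20),
  (26673, 6, 164102, 21),
  (26674, 4, 147600, 24),
  (26677, 6, 2101, 6),
  (26678, 4, 147632, 24),
  (26683, 6, 5181, 19),
  (26687, 6, 6199, 6),
  (26691, 6, 238037, 23),
  (26695, 4, 192834, 26),
  (26697, 6, 147956, 25),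
  (26698, 5, 4318, 38),
  (26701, 4, 82409, 24)]

theorem chk_rows2_2 : rows2_2.all (rowBP tr2 gensLitP 72) = true := by decide +kernel

/-- Rows 4500 to 5999. -/
def rows2_3 : List (ℕ × ℕ × ℕ × ℕ) := [(26702, 5, 143812, 25),
  (26707, 6, 235782, 21),
  (26711, 5, 60465, 5),
  (26713, 6, 6261, 14),
  (26714, 4, 168340, 25),
  (26717, 6, 148615, 22),
  (26718, 6, 141651, 23),
  (26723, 5, 60465, 16),
  (26727, 6, 213177, 24),
  (26729, 6, 24669, 2),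
  (26730, 6, 213322, 26),
  (26733, 6, 6261, 13),
  (26734, 6, 5427, 19),
  (26739, 6, 24906, 26),
  (26743, 4, 127012, 25),
  (26745, 6, 74058, 26),
  (26746, 5, 221652, 44),
  (26749, 6, 91177, 20),
  (26750, 4, 241924, 25),
  (26755, 6, 106950, 21),
  (26759, 6, 110649, 25),
  (26761, 6, 73789, 2),
  (26762, 6, 26941, 20),
  (26765, 6, 82410, 24),
  (26766, 5, 157722, 37),
  (26771, 4, 3375, 20),
  (26775, 5, 183, 14),
  (26777, 6, 142419, 21),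
  (26778, 5, 30982, 40),
  (26781, 6, 136327, 22),
  (26782, 6, 4278, 14),
  (26787, 6, 213146, 24),
  (26791, 5, 247877, 23),
  (26793, 6, 59518, 19),
  (26794, 6, 94398, 7),
  (26797, 6, 213226, 24),
  (26798, 6, 213234, 24),
  (26803, 6, 147610, 24),
  (26807, 6, 147642, 24),
  (26809, 4, 168412, 26),
  (26810, 6, 5241, 19),
  (26813, 6, 73789, 17),
  (26814, 6, 73790, 17),
  (26817, 6, 73845, 2),
  (26818, 6, 124994, 15),
  (26821, 6, 90357, 23),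
  (26822, 6, 8438, 14),
  (26827, 6, 82395, 24),
  (26831, 6, 129271, 6),
  (26833, 6, 125169, 23),
  (26834, 6, 13657, 19),
  (26837, 5, 245, 14),
  (26838, 4, 90182, 5),
  (26843, 6, 112683, 3),
  (26847, 6, 130233, 5),
  (26849, 6, 124997, 7),
  (26850, 3, 90358, 7),
  (26853, 6, 178186, 19),
  (26854, 6, 211082, 21),
  (26859, 6, 213211, 24),
  (26863, 6, 97507, 12),
  (26865, 6, 90357, 12),
  (26866, 6, 82166, 7),
  (26869, 6, 214313, 20),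
  (26870, 6, 112857, 25),
  (26875, 6, 95479, 12),
  (26879, 5, 147707, 24),
  (26883, 6, 139731, 22),
  (26887, 6, 78999, 19),
  (26889, 5, 162097, 6),
  (26890, 5, 22814, 11),
  (26893, 4, 22682, 19),
  (26894, 6, 164009, 26),
  (26899, 7, 110698, 25),
  (26903, 6, 155959, 17),
  (26905, 6, 104651, 23),
  (26906, 6, 147742, 13),
  (26909, 6, 71883, 23),
  (26910, 4, 155966, 17),
  (26915, 4, 100834, 21),
  (26919, 5, 213180, 24),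
  (26921, 6, 213196, 24),
  (26922, 4, 155966, 13),
  (26925, 6, 106930, 25),
  (26926, 6, 70835, 19),
  (26931, 6, 147612, 24),
  (26935, 4, 110842, 25),
  (26937, 6, 147660, 24),
  (26938, 6, 111050, 25),
  (26941, 5, 161805, 3),
  (26942, 4, 111066, 25),
  (26945, 6, 168987, 26),
  (26946, 6, 155734, 7),
  (26949, 4, 82349, 24),
  (26950, 5, 71982, 37),
  (26955, 6, 112938, 25),
  (26959, 6, 112954, 25),
  (26961, 6, 112857, 23),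
  (26962, 6, 112714, 25),
  (26965, 6, 55590, 21),
  (26966, 5, 57670, 11),
  (26971, 6, 244187, 23),
  (26975, 6, 113018, 25),
  (26977, 6, 39274, 21),
  (26978, 4, 72106, 21),
  (26981, 6, 170090, 21),
  (26982, 6, 35186, 4),
  (26987, 6, 113066, 25),
  (26991, 6, 213245, 24),
  (26993, 6, 59733, 7),
  (26994, 6, 174390, 17),
  (26997, 4, 108786, 25),
  (26998, 6, 165227, 26),
  (27003, 6, 113130, 25),
  (27007, 6, 147709, 24),
  (27009, 6, 205109, 2),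
  (27010, 6, 74150, 21),
  (27013, 6, 82350, 24),
  (27014, 6, 110619, 25),
  (27019, 6, 89393, 13),
  (27023, 6, 159185, 21),
  (27025, 5, 182582, 21),
  (27026, 6, 74038, 16),
  (27029, 5, 124145, 43),
  (27030, 6, 90502, 11),
  (27035, 5, 124113, 43),
  (27039, 7, 16894, 24),
  (27041, 6, 54627, 20),
  (27042, 6, 196790, 10),
  (27045, 6, 213166, 24),
  (27046, 6, 155798, 14),
  (27051, 5, 109653, 38),
  (27055, 5, 163213, 10),
  (27057, 6, 147598, 24),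
  (27058, 6, 184325, 23),
  (27061, 6, 90389, 7),
  (27062, 6, 147638, 24),
  (27067, 6, 250887, 23),
  (27071, 6, 164349, 26),
  (27075, 6, 82335, 24),
  (27079, 6, 241902, 21),
  (27081, 6, 121309, 11),
  (27082, 5, 219478, 5),
  (27085, 6, 213245, 1),
  (27086, 5, 190938, 13),
  (27091, 6, 252214, 21),
  (27095, 6, 112763, 25),
  (27097, 5, 124129, 43),
  (27098, 6, 194939, 23),
  (27101, 6, 96507, 23),
  (27102, 4, 12502, 38),
  (27107, 6, 126279, 7),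
  (27111, 5, 240755, 9),
  (27113, 5, 124067, 43),
  (27114, 6, 125342, 8),
  (27117, 5, 194698, 19),
  (27118, 6, 213239, 24),
  (27123, 6, 126295, 7),
  (27127, 6, 249129, 20),
  (27129, 6, 213341, 2),
  (27130, 6, 117150, 8),
  (27133, 6, 159879, 22),
  (27134, 6, 193607, 23),
  (27657, 5, 63, 15),
  (27659, 5, 184331, 37),
  (27661, 6, 27693, 19),
  (27663, 6, 7231, 3),
  (27673, 6, 9279, 20),
  (27675, 5, 63, 2),
  (27677, 6, 25064, 24),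
  (27679, 6, 164999, 22),
  (27689, 6, 16415, 15),
  (27691, 6, 205160, 26),
  (27693, 5, 63, 1),
  (27695, 6, 6199, 13),
  (27705, 6, 7217, 6),
  (27707, 5, 184619, 37),
  (27709, 6, 27693, 20),
  (27711, 6, 31793, 12),
  (27713, 6, 20732, 25),
  (27715, 4, 172394, 26),
  (27717, 6, 142605, 19),
  (27719, 7, 35889, 15),
  (27729, 6, 235910, 21),
  (27731, 5, 60487, 11),
  (27733, 6, 104838, 21),
  (27735, 6, 39302, 21),
  (27745, 5, 39370, 21),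
  (27747, 7, 104778, 21),
  (27749, 5, 60487, 10),
  (27751, 5, 235594, 21),
  (27761, 6, 70823, 20),
  (27763, 4, 114748, 25),
  (27765, 6, 85037, 20),
  (27767, 6, 12642, 26),
  (27777, 5, 183, 15),
  (27779, 6, 90522, 24),
  (27781, 6, 82405, 23),
  (27783, 5, 93313, 12),
  (27793, 6, 24970, 24),
  (27795, 5, 166294, 21),
  (27797, 6, 106617, 25),
  (27799, 6, 152877, 20),
  (27809, 6, 221322, 24),
  (27811, 6, 184444, 26),
  (27813, 6, 90119, 7),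
  (27815, 7, 180348, 26),
  (27825, 4, 229782, 21),
  (27827, 4, 184700, 26),
  (27829, 6, 155818, 24),
  (27831, 6, 155834, 24),
  (27849, 6, 130289, 6),
  (27851, 6, 239978, 26),
  (27853, 5, 116941, 44),
  (27855, 6, 112945, 25),
  (27865, 6, 125290, 26),
  (27867, 6, 183323, 19),
  (27869, 6, 129378, 26),
  (27871, 5, 5367, 14),
  (27881, 6, 126139, 16),
  (27883, 6, 113057, 25),
  (27885, 5, 184489, 37),
  (27887, 6, 126279, 23),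
  (27897, 5, 129111, 7),
  (27899, 6, 155867, 24),
  (27901, 6, 255303, 23),
  (27903, 6, 155899, 24),
  (27905, 5, 311, 15),
  (27907, 4, 110626, 25),
  (27909, 6, 90540, 24),
  (27911, 4, 229478, 21),
  (27921, 6, 79879, 19),
  (27923, 4, 182694, 21),
  (27925, 6, 25004, 24),
  (27927, 6, 25020, 24),
  (27937, 6, 184409, 26),
  (27939, 6, 110754, 25),
  (27941, 5, 158775, 16),
  (27943, 6, 180345, 26),
  (27953, 6, 155959, 12),
  (27955, 6, 155804, 24),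
  (27957, 6, 139459, 22),
  (27959, 5, 145745, 41),
  (27977, 6, 90573, 24),
  (27979, 6, 90589, 24),
  (27981, 6, 78303, 23),
  (27983, 5, 193821, 4),
  (27993, 6, 193607, 8),
  (27995, 6, 192583, 8),
  (27997, 6, 108922, 25),
  (27999, 6, 113010, 25),
  (28009, 6, 191921, 22),
  (28011, 6, 185595, 26),
  (28013, 5, 116877, 44),
  (28015, 5, 6519, 13),
  (28025, 6, 185819, 26),
  (28027, 6, 113122, 25),
  (28029, 5, 145729, 41),
  (28031, 6, 163185, 12),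
  (28041, 6, 224337, 21),
  (28043, 6, 184509, 26),
  (28045, 6, 146863, 10),
  (28047, 6, 88375, 13),
  (28057, 5, 129127, 19),
  (28059, 5, 196927, 2),
  (28061, 6, 216223, 16),
  (28063, 5, 193837, 20),
  (28073, 6, 212401, 6),
  (28075, 6, 179673, 22),
  (28077, 5, 196799, 1),
  (28079, 6, 220191, 3),
  (28089, 6, 251143, 23),
  (28091, 6, 111075, 25),
  (28093, 6, 204975, 1),
  (28095, 6, 95663, 11),
  (28097, 6, 108587, 25),
  (28099, 6, 205175, 2),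
  (28101, 6, 213239, 1),
  (28103, 6, 251149, 20),
  (28113, 6, 108651, 25),
  (28115, 6, 24991, 24),
  (28117, 6, 93543, 13),
  (28119, 6, 181567, 26),
  (28129, 6, 145717, 41),
  (28131, 6, 185471, 26),
  (28133, 6, 178410, 21),
  (28135, 6, 117057, 44),
  (28145, 6, 103911, 20),
  (28147, 6, 213335, 2),
  (28149, 6, 205031, 1),
  (28151, 6, 53686, 21),
  (28673, 4, 32839, 21),
  (28674, 4, 2119, 22),
  (28676, 4, 456, 26),
  (28679, 5, 63, 3),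
  (28681, 4, 28724, 19),
  (28682, 3, 71, 22),
  (28684, 4, 33799, 23),
  (28687, 6, 7231, 15),
  (28689, 5, 33861, 21),
  (28690, 4, 35907, 22),
  (28692, 4, 35841, 23),
  (28695, 6, 232833, 23),
  (28697, 4, 34823, 21),
  (28698, 4, 35911, 22),
  (28700, 4, 35843, 23),
  (28703, 6, 90568, 25),
  (28705, 5, 34883, 21),
  (28706, 4, 3141, 22),
  (28708, 4, 2119, 23),
  (28711, 6, 5181, 13),
  (28713, 4, 33799, 21),
  (28714, 5, 1093, 22),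
  (28716, 4, 3141, 23),
  (28719, 6, 230407, 21),
  (28721, 4, 35905, 21),
  (28722, 5, 34883, 22),
  (28724, 3, 71, 23),
  (28727, 6, 31807, 12),
  (28729, 4, 32775, 21),
  (28730, 4, 34887, 22),
  (28732, 5, 1093, 23),
  (28735, 5, 63, 6),
  (28739, 6, 28949, 19),
  (28741, 6, 25076, 25),
  (28742, 7, 173333, 23),
  (28747, 6, 98777, 24),
  (28749, 4, 28982, 19),
  (28750, 6, 82151, 22),
  (28755, 6, 208273, 23),
  (28757, 6, 6261, 2),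
  (28758, 6, 59514, 2),
  (28763, 6, 5241, 2),
  (28765, 6, 33257, 24),
  (28766, 6, 63602, 2),
  (28771, 6, 5241, 13),
  (28773, 6, 90484, 25),
  (28774, 4, 78164, 25),
  (28779, 6, 24667, 14),
  (28781, 6, 59465, 7),
  (28782, 4, 152010, 26),
  (28787, 4, 28814, 20),
  (28789, 6, 164009, 24),
  (28790, 6, 139335, 23),
  (28795, 6, 25026, 26),
  (28797, 6, 28827, 20),
  (28798, 6, 116807, 22),
  (28803, 6, 98714, 24),
  (28805, 6, 172359, 21),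
  (28806, 6, 94398, 6),
  (28811, 6, 233769, 25),
  (28813, 6, 98794, 24),
  (28814, 3, 90302, 6),
  (28819, 6, 159750, 20),
  (28821, 6, 6329, 14),
  (28822, 5, 88326, 40),
  (28827, 5, 95409, 5),
  (28829, 6, 33258, 24),
  (28830, 5, 92334, 10),
  (28835, 5, 95243, 7),
  (28837, 4, 233556, 26),
  (28838, 4, 233572, 26),
  (28843, 5, 229594, 24),
  (28845, 6, 164887, 21),
  (28846, 6, 84026, 5),
  (28851, 6, 212999, 23),
  (28853, 4, 164010, 24),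
  (28854, 4, 190, 12),
  (28859, 6, 229876, 26),
  (28861, 6, 94213, 3),
  (28862, 6, 4278, 12),
  (28865, 4, 29012, 19),
  (28866, 6, 127050, 15),
  (28868, 5, 127124, 16),
  (28871, 6, 143527, 20),
  (28873, 6, 143538, 20),
  (28874, 6, 143540, 20),
  (28876, 6, 61620, 12),
  (28879, 6, 195018, 26),
  (28881, 6, 93361, 23),
  (28882, 6, 94282, 5),
  (28884, 5, 60465, 23),
  (28887, 6, 97507, 1),
  (28889, 5, 249, 14),
  (28890, 3, 90186, 5),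
  (28892, 5, 39370, 26),
  (28895, 6, 159895, 20),
  (28897, 6, 127153, 16),
  (28898, 3, 90186, 16),
  (28900, 5, 20818, 19),
  (28903, 6, 128181, 16),
  (28905, 6, 20852, 19),
  (28906, 6, 229587, 24),
  (28908, 6, 90316, 4),
  (28911, 6, 162250, 26),
  (28913, 6, 90119, 23),
  (28914, 5, 84418, 26),
  (28916, 6, 53460, 5),
  (28919, 6, 96714, 26),
  (28921, 6, 90361, 12),
  (28922, 6, 126978, 3),
  (28924, 4, 20858, 19),
  (28927, 6, 89181, 2),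
  (28931, 6, 5427, 15),
  (28933, 6, 229426, 25),
  (28934, 6, 24894, 12),
  (28939, 4, 98780, 24),
  (28941, 6, 205207, 22),
  (28942, 3, 155662, 15),
  (28947, 6, 33180, 24),
  (28949, 5, 161805, 8),
  (28950, 6, 33204, 24),
  (28955, 6, 33244, 24),
  (28957, 6, 94398, 19),
  (28958, 5, 174450, 43),
  (28963, 7, 233642, 25),
  (28965, 4, 229548, 24),
  (28966, 6, 233569, 26),
  (28971, 4, 233898, 25),
  (28973, 5, 162097, 4),
  (28974, 5, 233882, 25),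
  (28979, 6, 101601, 21),
  (28981, 7, 155661, 3),
  (28982, 3, 155662, 3),
  (28987, 6, 114727, 21),
  (28989, 6, 164076, 24),
  (28990, 6, 159750, 3),
  (28993, 5, 192529, 16),
  (28994, 4, 12516, 20),
  (28996, 6, 192892, 6),
  (28999, 6, 146805, 2),
  (29001, 6, 155959, 22),
  (29002, 6, 45370, 8),
  (29004, 4, 231698, 25),
  (29007, 6, 194859, 17),
  (29009, 6, 192817, 17),
  (29010, 5, 235594, 25),
  (29012, 3, 156028, 8),
  (29015, 6, 234989, 21),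
  (29017, 6, 33229, 24),
  (29018, 5, 60487, 22),
  (29020, 6, 24940, 13),
  (29023, 6, 162923, 1),
  (29025, 6, 79879, 23),
  (29026, 6, 192882, 13),
  (29028, 6, 229541, 24),
  (29031, 6, 235706, 25),
  (29033, 5, 377, 13),
  (29034, 4, 12540, 20),
  (29036, 4, 380, 13),
  (29039, 6, 195891, 4),
  (29041, 6, 86428, 19),
  (29042, 6, 192794, 1),
  (29044, 5, 188764, 10),
  (29047, 6, 235770, 25),
  (29049, 4, 28890, 20),
  (29050, 6, 235978, 25),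
  (29052, 6, 37172, 12),
  (29055, 6, 164093, 24),
  (29057, 6, 145695, 22),
  (29058, 6, 155818, 2),
  (29060, 5, 90396, 1),
  (29063, 6, 125099, 44),
  (29065, 6, 94452, 19),
  (29066, 6, 213178, 10),
  (29068, 6, 205116, 11),
  (29071, 6, 251311, 23),
  (29073, 5, 146435, 22),
  (29074, 5, 43226, 38),
  (29076, 6, 33190, 24),
  (29079, 6, 253353, 23),
  (29081, 5, 89259, 23),
  (29082, 6, 33238, 24),
  (29084, 5, 71766, 38),
  (29087, 6, 244807, 22),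
  (29089, 4, 143466, 20),
  (29090, 6, 86225, 19),
  (29092, 4, 86226, 19),
  (29095, 6, 212445, 22),
  (29097, 5, 86260, 19),
  (29098, 4, 143484, 20),
  (29100, 6, 143481, 20),
  (29103, 6, 220229, 23),
  (29105, 6, 159818, 20),
  (29106, 6, 213178, 7),
  (29108, 6, 205116, 8),
  (29111, 6, 243779, 22),
  (29113, 7, 86268, 19),
  (29114, 5, 156058, 1),
  (29116, 6, 90540, 2),
  (29119, 6, 189551, 43),
  (29123, 7, 98719, 24),
  (29125, 6, 94678, 19),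
  (29126, 6, 252094, 10),
  (29131, 6, 143606, 20),
  (29133, 6, 128191, 23),
  (29134, 6, 247998, 10),
  (29139, 6, 251025, 16),
  (29141, 5, 194765, 8),
  (29142, 5, 137466, 14),
  (29147, 5, 128433, 5),
  (29149, 6, 90477, 13),
  (29150, 6, 194802, 2),
  (29155, 6, 163197, 22),
  (29157, 6, 244001, 17),
  (29158, 5, 186626, 37),
  (29163, 6, 155867, 14),
  (29165, 6, 97349, 23),
  (29166, 5, 67802, 38),
  (29171, 6, 194627, 22),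
  (29173, 6, 86494, 19),
  (29174, 6, 194974, 1),
  (29179, 6, 159966, 20),
  (29181, 6, 86526, 19),
  (29182, 6, 178418, 2),
  (29701, 6, 6199, 15),
  (29703, 6, 25048, 26),
  (29709, 6, 74104, 26),
  (29711, 6, 7225, 19),
  (29717, 6, 31793, 17),
  (29719, 6, 6199, 2),
  (29725, 6, 7231, 2),
  (29727, 6, 31803, 17),
  (29733, 7, 11327, 19),
  (29735, 6, 7217, 1),
  (29741, 6, 202939, 39),
  (29743, 5, 63, 13),
  (29749, 6, 5181, 6),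
  (29751, 6, 65863, 23),
  (29757, 5, 29851, 40),
  (29759, 6, 30751, 20),
  (29761, 6, 182567, 22),
  (29763, 5, 107569, 43),
  (29769, 6, 58489, 6),
  (29771, 5, 29825, 40),
  (29777, 6, 5241, 14),
  (29779, 6, 106978, 26),
  (29785, 6, 24667, 12),
  (29787, 6, 208019, 23),
  (29793, 6, 221666, 26),
  (29795, 6, 205282, 26),
  (29801, 6, 156130, 26),
  (29803, 6, 38023, 21),
  (29809, 5, 90594, 26),
  (29811, 4, 114988, 25),
  (29817, 5, 249900, 25),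
  (29819, 5, 30878, 20),
  (29825, 4, 106890, 24),
  (29827, 6, 214181, 23),
  (29833, 6, 83367, 23),
  (29835, 5, 58611, 42),
  (29841, 6, 161794, 20),
  (29843, 6, 233569, 25),
  (29849, 6, 229737, 25),
  (29851, 4, 161814, 20),
  (29857, 7, 237706, 24),
  (29859, 5, 145454, 20),
  (29865, 7, 90123, 7),
  (29867, 6, 33943, 21),
  (29873, 6, 172170, 24),
  (29875, 4, 82183, 23),
  (29881, 7, 95233, 3),
  (29883, 6, 153891, 41),
  (29893, 6, 39095, 15),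
  (29895, 6, 244202, 26),
  (29901, 6, 250287, 22),
  (29903, 6, 93389, 12),
  (29909, 6, 7417, 14),
  (29911, 6, 113130, 26),
  (29917, 5, 63978, 26),
  (29919, 6, 47594, 26),
  (29925, 6, 128183, 16),
  (29927, 6, 211434, 26),
  (29933, 6, 162282, 26),
  (29935, 6, 145898, 26),
  (29941, 6, 119991, 16),
  (29943, 6, 80362, 26),
  (29949, 6, 31210, 26),
  (29951, 6, 93437, 12),
  (29953, 6, 14434, 20),
  (29955, 6, 98407, 21),
  (29961, 6, 71055, 23),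
  (29963, 6, 6329, 19),
  (29969, 6, 147739, 4),
  (29971, 4, 233570, 25),
  (29977, 6, 30802, 20),
  (29979, 5, 58595, 42),
  (29985, 4, 237708, 24),
  (29987, 6, 71943, 23),
  (29993, 7, 237772, 24),
  (29995, 5, 58579, 42),
  (30001, 6, 30794, 20),
  (30003, 6, 30798, 20),
  (30009, 4, 172236, 24),
  (30011, 6, 70917, 23),
  (30021, 6, 39223, 15),
  (30023, 6, 235570, 25),
  (30029, 6, 189821, 6),
  (30031, 6, 14583, 20),
  (30037, 6, 212263, 19),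
  (30039, 6, 194639, 8),
  (30045, 6, 231802, 25),
  (30047, 6, 235890, 25),
  (30053, 6, 250963, 26),
  (30055, 5, 191801, 4),
  (30061, 6, 251091, 26),
  (30063, 6, 81221, 23),
  (30069, 6, 231674, 25),
  (30071, 6, 163197, 12),
  (30077, 7, 223303, 22),
  (30079, 6, 159101, 12),
  (30085, 5, 106926, 24),
  (30087, 6, 106942, 24),
  (30093, 5, 126031, 19),
  (30095, 6, 107006, 24),
  (30101, 6, 212035, 22),
  (30103, 5, 152681, 37),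
  (30109, 6, 204095, 2),
  (30111, 6, 161879, 20),
  (30117, 5, 107699, 43),
  (30119, 6, 203953, 1),
  (30125, 6, 237806, 24),
  (30127, 5, 163249, 4),
  (30133, 6, 161867, 20),
  (30135, 6, 156063, 10),
  (30141, 6, 220447, 2),
  (30143, 6, 44201, 19),
  (30145, 6, 194879, 22),
  (30147, 6, 194943, 22),
  (30153, 6, 192831, 22),
  (30155, 6, 145654, 20),
  (30161, 5, 152683, 37),
  (30163, 6, 201075, 2),
  (30169, 5, 107745, 43),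
  (30171, 6, 185745, 4),
  (30177, 6, 185595, 8),
  (30179, 7, 96519, 23),
  (30185, 6, 145658, 20),
  (30187, 6, 193917, 22),
  (30193, 6, 193771, 8),
  (30195, 6, 192747, 8),
  (30201, 6, 161863, 22),
  (30203, 6, 194567, 22),
  (30723, 6, 133575, 22),
  (30727, 5, 181321, 37),
  (30731, 6, 131527, 22),
  (30735, 6, 6199, 3),
  (30739, 6, 5173, 2),
  (30743, 6, 7217, 2),
  (30747, 6, 5181, 2),
  (30751, 5, 63, 14),
  (30755, 6, 31793, 16),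
  (30759, 6, 59815, 42),
  (30763, 6, 7231, 1),
  (30767, 7, 232517, 23),
  (30771, 6, 90568, 26),
  (30775, 6, 147928, 25),
  (30779, 6, 25048, 25),
  (30783, 6, 16415, 14),
  (30785, 4, 141614, 19),
  (30786, 6, 63562, 15),
  (30789, 4, 242114, 26),
  (30790, 5, 250306, 26),
  (30793, 4, 172490, 26),
  (30794, 5, 16708, 44),
  (30797, 5, 155876, 25),
  (30798, 5, 63542, 12),
  (30801, 6, 216195, 22),
  (30802, 5, 63542, 17),
  (30805, 6, 47137, 15),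
  (30806, 6, 52419, 22),
  (30809, 6, 24669, 12),
  (30810, 4, 49617, 24),
  (30813, 6, 59465, 8),
  (30814, 6, 61558, 2),
  (30817, 6, 6261, 1),
  (30818, 6, 61454, 1),
  (30821, 6, 90468, 25),
  (30822, 6, 63602, 13),
  (30825, 6, 213108, 25),
  (30826, 5, 175109, 23),
  (30829, 6, 24669, 14),
  (30830, 6, 39034, 4),
  (30833, 5, 181611, 37),
  (30834, 6, 39034, 6),
  (30837, 6, 30841, 12),
  (30838, 4, 86466, 26),
  (30841, 5, 79131, 40),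
  (30842, 5, 131428, 44),
  (30845, 6, 83001, 20),
  (30846, 5, 38966, 12),
  (30849, 6, 137615, 22),
  (30850, 6, 88094, 5),
  (30853, 4, 83173, 23),
  (30854, 6, 96270, 15),
  (30857, 6, 59470, 19),
  (30858, 6, 115154, 24),
  (30861, 6, 6329, 15),
  (30862, 4, 229548, 26),
  (30865, 5, 30789, 41),
  (30866, 6, 73790, 16),
  (30869, 6, 51258, 19),
  (30870, 6, 94222, 5),
  (30873, 4, 9515, 20),
  (30874, 4, 233900, 26),
  (30877, 6, 73789, 7),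
  (30878, 4, 190, 14),
  (30881, 5, 202001, 39),
  (30882, 3, 90302, 7),
  (30885, 6, 116807, 23),
  (30886, 5, 59670, 42),
  (30889, 6, 136589, 22),
  (30890, 6, 24718, 1),
  (30893, 4, 245994, 24),
  (30894, 6, 149785, 20),
  (30897, 6, 5427, 20),
  (30898, 5, 92334, 11),
  (30901, 6, 137347, 22),
  (30902, 4, 229740, 26),
  (30905, 6, 80045, 1),
  (30906, 6, 196887, 21),
  (30909, 6, 43050, 19),
  (30910, 6, 242137, 25),
  (30915, 6, 111055, 21),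
  (30919, 7, 30039, 19),
  (30923, 6, 190922, 26),
  (30927, 6, 195010, 26),
  (30931, 6, 125386, 26),
  (30935, 6, 129474, 26),
  (30939, 6, 128181, 5),
  (30943, 6, 220473, 20),
  (30947, 6, 112891, 6),
  (30951, 6, 243897, 25),
  (30955, 5, 126031, 7),
  (30959, 6, 244153, 25),
  (30963, 6, 243945, 25),
  (30967, 6, 97531, 12),
  (30971, 6, 27082, 26),
  (30975, 6, 93435, 12),
  (30977, 6, 182343, 44),
  (30978, 6, 157742, 2),
  (30981, 6, 229401, 26),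
  (30982, 4, 241690, 25),
  (30985, 4, 115148, 24),
  (30986, 5, 95409, 19),
  (30989, 6, 115180, 24),
  (30990, 6, 147742, 5),
  (30993, 5, 79910, 19),
  (30994, 5, 26978, 37),
  (30997, 7, 49580, 24),
  (30998, 6, 160054, 17),
  (31001, 6, 182567, 21),
  (31002, 4, 49620, 24),
  (31005, 6, 237938, 25),
  (31006, 6, 4414, 8),
  (31009, 6, 35171, 21),
  (31010, 6, 160054, 13),
  (31013, 6, 208149, 22),
  (31014, 5, 88458, 39),
  (31017, 4, 92190, 19),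
  (31018, 6, 4414, 4),
  (31021, 6, 229593, 26),
  (31022, 6, 157742, 15),
  (31025, 5, 30785, 41),
  (31026, 6, 87193, 19),
  (31029, 7, 26794, 19),
  (31030, 6, 157710, 3),
  (31033, 7, 161793, 3),
  (31034, 5, 22814, 8),
  (31037, 5, 180460, 24),
  (31038, 5, 182290, 44),
  (31043, 6, 38199, 15),
  (31047, 6, 163147, 12),
  (31051, 6, 244010, 25),
  (31055, 6, 146809, 2),
  (31059, 6, 243818, 25),
  (31063, 5, 243834, 25),
  (31067, 6, 244074, 25),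
  (31071, 6, 192831, 17),
  (31075, 6, 243882, 25),
  (31079, 6, 243898, 25),
  (31083, 6, 244138, 25),
  (31087, 6, 3453, 13),
  (31091, 6, 183615, 4),
  (31095, 6, 241735, 23),
  (31099, 6, 244202, 25),
  (31103, 6, 159099, 12),
  (31107, 6, 52607, 20),
  (31111, 6, 82335, 11),
  (31115, 6, 146849, 10),
  (31119, 6, 95479, 19),
  (31123, 6, 150943, 4),
  (31127, 6, 204081, 2),
  (31131, 5, 78899, 40),
  (31135, 6, 220651, 23),
  (31139, 5, 97551, 7),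
  (31143, 6, 245950, 24),
  (31147, 6, 163201, 10),
  (31151, 5, 79113, 40),
  (31155, 6, 180382, 24),
  (31159, 5, 191801, 20),
  (31163, 6, 180446, 24),
  (31167, 5, 180478, 24),
  (31169, 6, 128253, 23),
  (31170, 6, 193917, 23),
  (31173, 6, 95485, 23),
  (31174, 6, 252090, 10),
  (31177, 6, 127397, 5),
  (31178, 5, 194790, 2),
  (31181, 6, 139517, 14),
  (31182, 6, 115191, 24),
  (31185, 6, 252049, 16),
  (31186, 5, 127334, 4),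
  (31189, 5, 79235, 40),
  (31190, 5, 49508, 44),
  (31193, 6, 129477, 11),
  (31194, 5, 164196, 44),
  (31197, 5, 181289, 37),
  (31198, 6, 192758, 2),
  (31201, 6, 129031, 23),
  (31202, 6, 129430, 8),
  (31205, 6, 194730, 19),
  (31206, 5, 163876, 44),
  (31209, 7, 161213, 22),
  (31210, 5, 49412, 44),
  (31213, 6, 113057, 5),
  (31214, 6, 248089, 20),
  (31217, 6, 244086, 19),
  (31218, 6, 104949, 20),
  (31221, 6, 127047, 23),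
  (31222, 6, 243882, 10),
  (31225, 6, 260438, 19),
  (31226, 6, 121246, 8),
  (31229, 6, 128069, 23),
  (31230, 6, 244187, 25),
  (31745, 5, 149505, 37),
  (31747, 5, 136593, 40),
  (31749, 7, 11309, 19),
  (31751, 6, 7217, 15),
  (31753, 6, 7217, 3),
  (31755, 6, 5181, 15),
  (31757, 6, 23581, 20),
  (31759, 5, 149509, 37),
  (31761, 6, 14375, 19),
  (31763, 6, 7231, 14),
  (31765, 6, 5181, 14),
  (31767, 6, 29757, 20),
  (31769, 6, 30727, 19),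
  (31771, 6, 31807, 17),
  (31773, 6, 8255, 7),
  (31775, 6, 35207, 21),
  (31777, 5, 149905, 37),
  (31779, 6, 23603, 20),
  (31781, 6, 7231, 13),
  (31783, 6, 5173, 1),
  (31785, 6, 31803, 16),
  (31787, 6, 213112, 25),
  (31789, 6, 31807, 16),
  (31791, 5, 136525, 40),
  (31793, 5, 149793, 37),
  (31795, 6, 74216, 26),
  (31797, 6, 15413, 19),
  (31799, 6, 7231, 6),
  (31801, 6, 31745, 3),
  (31803, 5, 50387, 43),
  (31805, 7, 31765, 19),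
  (31807, 5, 149797, 37),
  (31937, 6, 89211, 13),
  (31939, 6, 240106, 26),
  (31941, 5, 126123, 5),
  (31943, 6, 244194, 26),
  (31945, 6, 37055, 15),
  (31947, 5, 75161, 38),
  (31949, 6, 126205, 6),
  (31951, 5, 178658, 26),
  (31953, 6, 125418, 26),
  (31955, 5, 74867, 38),
  (31957, 5, 5373, 14),
  (31959, 6, 113122, 26),
  (31961, 6, 3325, 14),
  (31963, 5, 74809, 38),
  (31965, 6, 63970, 26),
  (31967, 5, 129203, 5),
  (31969, 7, 254091, 24),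
  (31971, 5, 129203, 16),
  (31973, 6, 227810, 26),
  (31975, 6, 211426, 26),
  (31977, 6, 158186, 26),
  (31979, 6, 126029, 7),
  (31981, 6, 103831, 21),
  (31983, 6, 38295, 21),
  (31985, 7, 239849, 25),
  (31987, 6, 125963, 3),
  (31989, 6, 21725, 14),
  (31991, 5, 43273, 44),
  (31993, 6, 240105, 25),
  (31995, 6, 244193, 25),
  (31997, 6, 188651, 24),
  (31999, 6, 14818, 26),
  (32065, 6, 239658, 25),
  (32067, 6, 250939, 26),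
  (32069, 6, 123309, 24),
  (32071, 6, 246843, 26),
  (32073, 5, 71917, 41),
  (32075, 6, 191867, 6),
  (32077, 5, 193837, 17),
  (32079, 7, 56743, 21),
  (32081, 5, 193615, 8),
  (32083, 5, 136553, 40),
  (32085, 6, 239738, 25),
  (32087, 6, 193847, 17),
  (32089, 6, 239978, 25),
  (32091, 5, 75033, 38),
  (32093, 6, 239994, 25),
  (32095, 6, 244082, 25),
  (32097, 5, 191819, 10),
  (32099, 5, 6523, 13),
  (32101, 6, 170219, 21),
  (32103, 6, 243890, 25),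
  (32105, 6, 189877, 22),
  (32107, 6, 251131, 26),
  (32109, 6, 240058, 25),
  (32111, 6, 244146, 25),
  (32113, 5, 239850, 25),
  (32115, 5, 74851, 38),
  (32117, 6, 162171, 12),
  (32119, 6, 163193, 12),
  (32121, 6, 240106, 25),
  (32123, 6, 244194, 25),
  (32125, 5, 191595, 8),
  (32127, 6, 244210, 25),
  (32129, 7, 108655, 19),
  (32131, 6, 90543, 5),
  (32133, 6, 156063, 4),
  (32135, 5, 193821, 20),
  (32137, 6, 123342, 24),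
  (32139, 6, 250045, 26),
  (32141, 6, 126029, 19),
  (32143, 6, 241971, 25),
  (32145, 5, 136195, 40),
  (32147, 6, 244867, 22),
  (32149, 6, 57774, 24),
  (32151, 6, 193853, 20),
  (32153, 6, 129095, 19),
  (32155, 7, 36027, 19),
  (32157, 6, 95621, 11),
  (32159, 5, 149541, 37),
  (32161, 5, 136201, 40),
  (32163, 6, 212263, 17),
  (32165, 6, 73023, 13),
  (32167, 6, 76203, 5),
  (32169, 6, 212269, 17),
  (32171, 6, 242083, 25),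
  (32173, 5, 163207, 10),
  (32175, 5, 149765, 37),
  (32177, 6, 188558, 24),
  (32179, 6, 188574, 24),
  (32181, 6, 191805, 20),
  (32183, 6, 246141, 26),
  (32185, 5, 129111, 19),
  (32187, 6, 155823, 8),
  (32189, 6, 90399, 7),
  (32191, 6, 188670, 24),
  (32769, 2, 32840, 21),
  (32770, 3, 65552, 35),
  (32772, 3, 131104, 34),
  (32775, 3, 71, 6),
  (32776, 1, 72, 3),
  (32779, 4, 37963, 4),
  (32781, 4, 38989, 5),
  (32782, 4, 6218, 2),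
  (32784, 3, 131076, 34),
  (32787, 6, 131085, 19),
  (32789, 4, 16769, 22),
  (32790, 5, 24753, 24),
  (32793, 5, 4163, 21),
  (32794, 6, 41034, 8),
  (32796, 4, 81969, 20),
  (32799, 6, 7251, 7),
  (32800, 2, 65538, 35),
  (32803, 4, 8577, 23),
  (32805, 6, 16485, 10),
  (32806, 4, 155697, 24),
  (32809, 4, 212996, 25),
  (32810, 4, 226, 26),
  (32812, 5, 155766, 41),
  (32815, 6, 42433, 23),
  (32817, 5, 4166, 21),
  (32818, 4, 139409, 24),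
  (32820, 5, 147617, 24),
  (32823, 6, 139279, 19),
  (32824, 4, 4103, 21),
  (32827, 5, 38187, 37),
  (32829, 6, 253956, 25),
  (32830, 6, 237580, 25),
  (32833, 2, 32776, 21),
  (32834, 3, 131104, 31),
  (32836, 3, 65552, 32),
  (32839, 3, 71, 3),
  (32840, 1, 72, 6),
  (32843, 3, 75, 17),
  (32845, 3, 77, 16),
  (32846, 4, 34830, 4),
  (32848, 2, 131332, 34),
  (32851, 6, 33809, 10),
  (32853, 4, 131342, 19),
  (32854, 4, 90241, 24),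
  (32857, 4, 4171, 21),
  (32858, 5, 213038, 44),
  (32860, 4, 82097, 20),
  (32863, 6, 51621, 22),
  (32864, 3, 16420, 31),
  (32867, 5, 8593, 23),
  (32869, 6, 4428, 21),
  (32870, 4, 24833, 24),
  (32873, 4, 4173, 21),
  (32874, 4, 139553, 19),
  (32876, 6, 36972, 17),
  (32879, 6, 7275, 4),
  (32881, 5, 4174, 21),
  (32882, 4, 74113, 24),
  (32884, 4, 82305, 24),
  (32887, 6, 4348, 25),
  (32888, 4, 4111, 21),
  (32891, 6, 4588, 25),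
  (32893, 5, 38185, 37),
  (32894, 6, 246250, 26),
  (32899, 5, 213424, 23),
  (32901, 6, 34945, 14),
  (32902, 6, 67654, 4),
  (32905, 4, 37963, 24),
  (32906, 6, 37066, 12),
  (32908, 4, 196625, 20),
  (32911, 6, 4278, 26),
  (32913, 5, 204811, 43),
  (32914, 4, 6221, 25),
  (32916, 4, 213025, 20),
  (32919, 6, 73927, 6),
  (32920, 4, 213040, 20),
  (32923, 6, 5337, 10),
  (32925, 5, 205195, 43),
  (32926, 4, 12691, 21),
  (32929, 4, 8353, 23),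
  (32930, 4, 8481, 23),
  (32932, 5, 4166, 26),
  (32935, 6, 139335, 19),
  (32936, 7, 198, 26),
  (32939, 4, 246, 26),
  (32941, 6, 139366, 19),
  (32942, 6, 6557, 25),
  (32944, 6, 98480, 12),
  (32947, 4, 374, 26),
  (32949, 5, 204981, 43),
  (32950, 4, 12694, 21),
  (32953, 4, 470, 26),
  (32954, 4, 486, 26),
  (32956, 6, 139370, 19),
  (32959, 5, 204837, 43),
  (32963, 5, 213008, 23),
  (32965, 6, 82000, 23),
  (32966, 5, 155694, 41),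
  (32969, 4, 37889, 24),
  (32970, 6, 155938, 23),
  (32972, 4, 196753, 20),
  (32975, 4, 233572, 22),
  (32977, 6, 32913, 10),
  (32978, 4, 4173, 25),
  (32980, 4, 213153, 20),
  (32983, 6, 131407, 19),
  (32984, 3, 213168, 20),
  (32987, 6, 131437, 19),
  (32989, 6, 125094, 23),
  (32990, 5, 106510, 39),
  (32993, 4, 8369, 23),
  (32994, 5, 8497, 23),
  (32996, 4, 34894, 26),
  (32999, 6, 59518, 26),
  (33000, 7, 180336, 19),
  (33003, 5, 119873, 13),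
  (33005, 6, 196763, 20),
  (33006, 6, 196765, 20),
  (33008, 6, 98480, 3),
  (33011, 6, 213166, 20),
  (33013, 5, 245, 25),
  (33014, 6, 182638, 26),
  (33017, 6, 213178, 20),
  (33018, 5, 213180, 20),
  (33020, 6, 213177, 20),
  (33023, 6, 213183, 20),
  (33027, 6, 49424, 22),
  (33029, 5, 16784, 22),
  (33030, 5, 188486, 42),
  (33033, 4, 38989, 24),
  (33034, 4, 163, 26),
  (33036, 6, 90148, 22),
  (33039, 5, 233882, 23),
  (33041, 4, 16657, 22),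
  (33042, 4, 6222, 25),
  (33044, 4, 16529, 22),
  (33047, 6, 6270, 25),
  (33048, 7, 82032, 20),
  (33051, 6, 196781, 19),
  (33053, 6, 39261, 5),
  (33054, 6, 196779, 19),
  (33057, 6, 180225, 1),
  (33058, 4, 99, 26),
  (33060, 5, 4163, 26),
  (33063, 6, 6334, 25),
  (33064, 3, 82224, 19),
  (33067, 6, 51478, 22),
  (33069, 6, 2486, 25),
  (33070, 5, 78046, 42),
  (33072, 6, 163952, 6),
  (33075, 5, 371, 26),
  (33077, 6, 204942, 19),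
  (33078, 5, 57670, 12),
  (33081, 6, 204972, 19),
  (33082, 6, 204969, 19),
  (33084, 5, 204970, 19),
  (33087, 6, 204975, 19),
  (33091, 6, 1073, 26),
  (33093, 5, 16816, 22),
  (33094, 6, 163846, 15),
  (33097, 4, 38913, 24),
  (33098, 5, 197025, 19),
  (33100, 6, 135244, 3),
  (33103, 6, 4414, 25),
  (33105, 4, 16689, 22),
  (33106, 5, 4174, 25),
  (33108, 5, 16561, 22),
  (33111, 6, 82151, 20),
  (33112, 7, 20491, 21),
  (33115, 6, 82166, 20),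
  (33117, 4, 374, 25),
  (33118, 6, 178242, 14),
  (33121, 5, 90355, 40),
  (33122, 4, 205185, 19),
  (33124, 4, 150, 25),
  (33127, 6, 147559, 3),
  (33128, 4, 213040, 19),
  (33131, 5, 35989, 42),
  (33133, 6, 205222, 19),
  (33134, 4, 51382, 22),
  (33136, 6, 49424, 14),
  (33139, 5, 90405, 40),
  (33141, 4, 246, 25),
  (33142, 4, 20878, 21),
  (33145, 4, 486, 25),
  (33146, 6, 82172, 20),
  (33148, 4, 470, 25),
  (33151, 5, 36175, 42),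
  (33153, 4, 7183, 24),
  (33154, 4, 6159, 25),
  (33156, 4, 4103, 26),
  (33159, 6, 36295, 15),
  (33160, 4, 35911, 24),
  (33163, 5, 183, 26),
  (33165, 6, 2359, 25),
  (33166, 6, 127076, 22),
  (33168, 4, 90114, 40),
  (33171, 5, 311, 26),
  (33173, 6, 196814, 19),
  (33174, 5, 41030, 42),
  (33177, 5, 407, 26),
  (33178, 5, 423, 26),
  (33180, 5, 90258, 40),
  (33183, 5, 252350, 23),
  (33184, 3, 71, 26),
  (33187, 5, 155829, 41),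
  (33189, 4, 29012, 21),
  (33190, 5, 155924, 41),
  (33193, 6, 205028, 19),
  (33194, 5, 204946, 43),
  (33196, 5, 205186, 43),
  (33199, 5, 220239, 9),
  (33201, 5, 343, 26),
  (33202, 6, 90450, 4),
  (33204, 5, 155876, 5),
  (33207, 6, 163007, 24),
  (33208, 5, 455, 26),
  (33211, 6, 503, 26),
  (33213, 6, 121309, 5),
  (33214, 6, 205035, 19),
  (33217, 4, 7169, 24),
  (33218, 4, 4111, 25),
  (33220, 4, 23, 25),
  (33223, 6, 232903, 12),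
  (33224, 4, 35841, 24),
  (33227, 6, 196939, 17),
  (33229, 5, 311, 25),
  (33230, 6, 5285, 26),
  (33232, 3, 71, 25),
  (33235, 4, 28890, 21),
  (33237, 5, 213045, 44),
  (33238, 5, 90130, 40),
  (33241, 6, 213234, 20),
  (33242, 5, 10322, 42),
  (33244, 5, 90146, 40),
  (33247, 5, 213429, 44),
  (33248, 4, 205202, 43),
  (33251, 6, 28892, 21),
  (33253, 5, 183, 25),
  (33254, 5, 204930, 43),
  (33257, 5, 423, 25),
  (33258, 5, 12372, 38),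
  (33260, 5, 204818, 43),
  (33263, 5, 51646, 22),
  (33265, 5, 231, 25),
  (33266, 5, 90594, 8),
  (33268, 6, 156116, 7),
  (33271, 6, 97665, 24),
  (33272, 5, 455, 25),
  (33275, 6, 177329, 8),
  (33277, 6, 18879, 22),
  (33278, 6, 213245, 20),
  (33797, 4, 35911, 5),
  (33799, 3, 71, 10),
  (33801, 4, 37963, 5),
  (33803, 4, 37963, 3),
  (33809, 5, 5521, 42),
  (33811, 6, 69826, 21),
  (33821, 6, 192516, 25),
  (33823, 6, 84023, 20),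
  (33825, 5, 139393, 23),
  (33827, 4, 139649, 23),
  (33837, 6, 38951, 12),
  (33839, 6, 7275, 11),
  (33845, 5, 20818, 26),
  (33847, 6, 126988, 25),
  (33849, 6, 249860, 25),
  (33851, 6, 140677, 23),
  (33861, 4, 35911, 2),
  (33863, 3, 71, 16),
  (33865, 3, 75, 15),
  (33867, 3, 75, 16),
  (33873, 6, 8259, 4),
  (33875, 6, 8259, 16),
  (33885, 4, 380, 25),
  (33887, 6, 84151, 20),
  (33889, 4, 139409, 23),
  (33891, 4, 139665, 23),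
  (33901, 6, 173265, 23),
  (33903, 6, 38951, 8),
  (33909, 4, 252, 25),
  (33911, 6, 4340, 25),
  (33913, 4, 492, 25),
  (33915, 5, 84158, 20),
  (33921, 5, 82352, 23),
  (33923, 3, 213168, 23),
  (33933, 6, 2365, 25),
  (33935, 6, 36045, 15),
  (33941, 6, 49609, 22),
  (33943, 5, 147629, 40),
  (33945, 5, 73971, 44),
  (33947, 5, 5475, 42),
  (33957, 4, 78164, 21),
  (33959, 6, 175377, 19),
  (33961, 5, 6381, 37),
  (33963, 6, 16630, 26),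
  (33969, 6, 16726, 26),
  (33971, 6, 16758, 26),
  (33981, 6, 185595, 24),
  (33983, 6, 193771, 24),
  (33985, 3, 213264, 23),
  (33987, 5, 82192, 23),
  (33997, 6, 317, 25),
  (33999, 6, 198807, 20),
  (34005, 6, 33943, 10),
  (34007, 5, 24715, 43),
  (34009, 5, 365, 25),
  (34011, 6, 103569, 24),
  (34021, 6, 172273, 23),
  (34023, 5, 35097, 39),
  (34025, 6, 140465, 23),
  (34027, 4, 198814, 20),
  (34033, 5, 196915, 41),
  (34035, 5, 215214, 20),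
  (34045, 6, 128087, 13),
  (34047, 6, 78303, 21),
  (34049, 6, 49488, 22),
  (34051, 6, 67654, 20),
  (34061, 6, 2366, 25),
  (34063, 6, 86465, 21),
  (34069, 4, 172236, 23),
  (34071, 4, 86466, 21),
  (34073, 5, 6493, 37),
  (34075, 4, 84086, 20),
  (34085, 4, 86340, 21),
  (34087, 6, 182567, 2),
  (34089, 6, 2478, 25),
  (34091, 6, 6566, 25),
  (34097, 5, 147461, 40),
  (34099, 6, 6374, 25),
  (34109, 6, 89407, 19),
  (34111, 5, 147717, 40),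
  (34113, 6, 131395, 4),
  (34115, 5, 73943, 44),
  (34125, 4, 318, 25),
  (34127, 6, 19841, 19),
  (34133, 5, 203791, 19),
  (34135, 5, 34985, 39),
  (34137, 5, 112785, 24),
  (34139, 4, 17841, 26),
  (34149, 4, 190, 25),
  (34151, 6, 4278, 25),
  (34153, 4, 430, 25),
  (34155, 4, 18806, 22),
  (34161, 7, 202781, 19),
  (34163, 5, 5387, 42),
  (34173, 5, 147493, 40),
  (34175, 6, 121233, 24),
  (34181, 6, 101703, 19),
  (34183, 5, 6361, 37),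
  (34185, 5, 34155, 38),
  (34187, 5, 74123, 44),
  (34193, 6, 35073, 39),
  (34195, 6, 139692, 23),
  (34205, 6, 121278, 23),
  (34207, 4, 196745, 41),
  (34209, 4, 94292, 21),
  (34211, 6, 146447, 24),
  (34221, 6, 173289, 23),
  (34223, 6, 191889, 19),
  (34229, 6, 118231, 5),
  (34231, 6, 162991, 24),
  (34233, 6, 120283, 5),
  (34235, 6, 194961, 19),
  (34245, 5, 63, 25),
  (34247, 5, 34873, 39),
  (34249, 6, 201801, 3),
  (34251, 7, 198870, 20),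
  (34257, 6, 215266, 20),
  (34259, 6, 33987, 38),
  (34269, 4, 24657, 43),
  (34271, 6, 94683, 21),
  (34273, 5, 196917, 41),
  (34275, 6, 16762, 22),
  (34285, 6, 248951, 19),
  (34287, 6, 60817, 19),
  (34293, 6, 215275, 20),
  (34295, 6, 205031, 16),
  (34297, 6, 495, 25),
  (34299, 6, 205035, 16),
  (34819, 4, 35911, 4),
  (34823, 3, 71, 11),
  (34825, 4, 38989, 4),
  (34826, 3, 38918, 5),
  (34829, 4, 38989, 3),
  (34830, 3, 65552, 41),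
  (34833, 5, 82177, 22),
  (34834, 4, 8369, 24),
  (34837, 4, 82305, 22),
  (34838, 4, 24721, 24),
  (34843, 6, 7257, 10),
  (34847, 6, 117125, 22),
  (34849, 6, 90132, 25),
  (34850, 4, 139313, 24),
  (34853, 6, 16485, 7),
  (34854, 4, 155665, 24),
  (34859, 6, 4346, 26),
  (34863, 4, 250, 26),
  (34867, 6, 4474, 26),
  (34871, 4, 378, 26),
  (34873, 4, 22846, 19),
  (34874, 6, 63562, 12),
  (34877, 4, 474, 26),
  (34878, 4, 490, 26),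
  (34883, 4, 35911, 1),
  (34887, 3, 71, 17),
  (34889, 3, 77, 15),
  (34890, 3, 131104, 43),
  (34893, 3, 77, 17),
  (34894, 3, 38918, 6),
  (34897, 4, 82209, 22),
  (34898, 4, 90273, 24),
  (34901, 4, 82337, 22),
  (34902, 5, 73889, 24),
  (34907, 6, 37975, 12),
  (34911, 6, 7257, 5),
  (34913, 6, 135244, 21),
  (34914, 4, 24865, 24),
  (34917, 5, 73943, 41),
  (34918, 4, 8481, 24),
  (34923, 6, 140581, 19),
  (34927, 6, 45345, 24),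
  (34931, 6, 192882, 26),
  (34935, 4, 12540, 25),
  (34937, 6, 30841, 3),
  (34938, 5, 180516, 37),
  (34941, 6, 242138, 26),
  (34942, 5, 38966, 15),
  (34945, 5, 5521, 38),
  (34946, 6, 98502, 10),
  (34949, 6, 65605, 7),
  (34950, 6, 67654, 15),
  (34955, 6, 4286, 26),
  (34959, 4, 190, 26),
  (34963, 6, 4414, 26),
  (34967, 4, 318, 26),
  (34969, 5, 116982, 23),
  (34970, 5, 110806, 10),
  (34973, 4, 414, 26),
  (34974, 4, 430, 26),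
  (34979, 5, 6493, 42),
  (34983, 5, 204161, 20),
  (34985, 4, 84238, 22),
  (34986, 6, 116750, 22),
  (34989, 5, 185419, 24),
  (34990, 5, 86026, 38),
  (34993, 5, 147461, 43),
  (34994, 5, 73906, 41),
  (34997, 7, 152715, 24),
  (34998, 5, 74002, 41),
  (35003, 6, 177403, 24),
  (35007, 5, 147493, 43),
  (35009, 6, 165958, 19),
  (35010, 6, 67654, 17),
  (35013, 6, 65605, 17),
  (35014, 6, 67654, 3),
  (35019, 6, 143577, 21),
  (35023, 6, 143833, 21),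
  (35027, 6, 114985, 22),
  (35031, 5, 143834, 21),
  (35033, 6, 211350, 26),
  (35034, 5, 147722, 43),
  (35037, 6, 211358, 26),
  (35038, 6, 110750, 11),
  (35043, 4, 143580, 21),
  (35047, 4, 41393, 23),
  (35049, 4, 182390, 19),
  (35050, 5, 196742, 40),
  (35053, 5, 34985, 37),
  (35054, 6, 116910, 22),
  (35057, 6, 178518, 26),
  (35058, 5, 74114, 41),
  (35061, 5, 5387, 38),
  (35062, 5, 73762, 41),
  (35067, 5, 147717, 43),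
  (35071, 6, 146849, 20),
  (35073, 5, 82192, 22),
  (35074, 6, 163846, 7),
  (35077, 3, 82320, 22),
  (35078, 6, 163846, 14),
  (35083, 6, 4283, 26),
  (35087, 6, 187, 26),
  (35091, 5, 6381, 42),
  (35095, 6, 115089, 22),
  (35097, 4, 88366, 19),
  (35098, 6, 4523, 26),
  (35101, 6, 84373, 22),
  (35102, 5, 73862, 41),
  (35107, 5, 34155, 39),
  (35111, 6, 181255, 1),
  (35113, 6, 170093, 24),
  (35114, 6, 184390, 10),
  (35117, 5, 219, 26),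
  (35118, 5, 235, 26),
  (35121, 4, 71966, 19),
  (35122, 6, 188502, 10),
  (35125, 5, 196917, 40),
  (35126, 5, 24738, 44),
  (35131, 6, 117015, 22),
  (35135, 6, 194781, 24),
  (35137, 3, 82224, 22),
  (35138, 6, 165958, 14),
  (35141, 5, 82352, 22),
  (35142, 5, 209370, 39),
  (35147, 6, 39183, 11),
  (35151, 6, 152009, 21),
  (35155, 6, 8668, 23),
  (35159, 4, 152010, 21),
  (35161, 6, 120993, 24),
  (35162, 5, 73750, 41),
  (35165, 5, 35097, 37),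
  (35166, 6, 151947, 21),
  (35171, 5, 74123, 41),
  (35175, 7, 152012, 21),
  (35177, 5, 6361, 42),
  (35178, 4, 12686, 25),
  (35181, 5, 34873, 37),
  (35182, 5, 184334, 2),
  (35185, 6, 119883, 20),
  (35186, 5, 24722, 44),
  (35189, 6, 8438, 25),
  (35190, 6, 39073, 20),
  (35195, 6, 129441, 24),
  (35199, 6, 113057, 24),
  (35203, 5, 73971, 41),
  (35207, 5, 63, 26),
  (35209, 6, 10535, 25),
  (35210, 5, 39370, 12),
  (35213, 6, 35273, 15),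
  (35214, 5, 147500, 43),
  (35217, 6, 8428, 23),
  (35218, 5, 40972, 42),
  (35221, 5, 196915, 40),
  (35222, 6, 229718, 17),
  (35227, 6, 60887, 20),
  (35231, 6, 240845, 16),
  (35233, 6, 35073, 37)]

theorem chk_rows2_3 : rows2_3.all (rowBP tr2 gensLitP 72) = true := by decide +kernel

/-- Rows 6000 to 7499. -/
def rows2_4 : List (ℕ × ℕ × ℕ × ℕ) := [(35234, 4, 114714, 22),
  (35237, 6, 160084, 21),
  (35238, 6, 229670, 5),
  (35243, 6, 117022, 22),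
  (35247, 4, 24657, 44),
  (35251, 6, 175591, 4),
  (35255, 6, 383, 26),
  (35257, 6, 178669, 4),
  (35258, 6, 175351, 24),
  (35261, 6, 160087, 21),
  (35262, 6, 243882, 7),
  (35267, 5, 5475, 38),
  (35271, 6, 167297, 20),
  (35273, 5, 147629, 43),
  (35274, 5, 192874, 23),
  (35277, 5, 24715, 44),
  (35278, 6, 235910, 6),
  (35281, 6, 8444, 23),
  (35282, 6, 8572, 23),
  (35285, 5, 160090, 21),
  (35286, 5, 196626, 40),
  (35291, 6, 126295, 20),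
  (35295, 6, 198127, 19),
  (35297, 6, 82234, 22),
  (35298, 6, 231782, 5),
  (35301, 6, 33987, 39),
  (35302, 5, 166306, 13),
  (35307, 4, 196745, 40),
  (35311, 6, 206311, 19),
  (35315, 6, 97697, 24),
  (35319, 6, 213335, 17),
  (35321, 6, 128347, 20),
  (35322, 5, 194790, 14),
  (35325, 6, 213341, 17),
  (35326, 6, 178593, 20),
  (35841, 3, 4097, 39),
  (35843, 3, 71, 8),
  (35845, 3, 71, 7),
  (35847, 4, 35911, 3),
  (35865, 6, 37113, 24),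
  (35867, 4, 231638, 23),
  (35869, 4, 53465, 24),
  (35871, 6, 4465, 39),
  (35881, 4, 117062, 22),
  (35883, 6, 158995, 19),
  (35885, 6, 16602, 26),
  (35887, 6, 16634, 26),
  (35889, 6, 131141, 44),
  (35891, 4, 20858, 26),
  (35893, 6, 7453, 19),
  (35895, 6, 16762, 26),
  (35905, 3, 71, 15),
  (35907, 3, 71, 5),
  (35909, 3, 71, 4),
  (35911, 3, 32833, 42),
  (35929, 6, 8556, 25),
  (35931, 7, 239814, 23),
  (35933, 6, 33171, 42),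
  (35935, 4, 225690, 26),
  (35945, 6, 4345, 39),
  (35947, 4, 84326, 22),
  (35949, 4, 110842, 26),
  (35951, 6, 37169, 24),
  (35953, 6, 8428, 25),
  (35955, 4, 12516, 25),
  (35957, 6, 7333, 20),
  (35959, 6, 16429, 41),
  (35977, 5, 217316, 22),
  (35979, 6, 14629, 25),
  (35981, 6, 16447, 41),
  (35983, 5, 8523, 40),
  (35985, 6, 108695, 1),
  (35987, 6, 13483, 24),
  (35989, 4, 209234, 21),
  (35991, 6, 172452, 23),
  (36001, 5, 115018, 22),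
  (36003, 5, 33117, 42),
  (36005, 6, 16478, 26),
  (36007, 7, 16510, 26),
  (36025, 6, 169211, 24),
  (36027, 6, 2373, 38),
  (36029, 6, 97477, 6),
  (36031, 5, 32905, 42),
  (36041, 6, 38023, 8),
  (36043, 4, 96406, 26),
  (36045, 5, 32947, 42),
  (36047, 6, 140677, 20),
  (36049, 5, 95409, 24),
  (36051, 6, 209114, 21),
  (36053, 5, 209242, 21),
  (36055, 4, 162078, 26),
  (36065, 6, 165975, 19),
  (36067, 6, 44307, 19),
  (36069, 5, 231, 4),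
  (36071, 5, 65737, 43),
  (36089, 5, 4201, 39),
  (36091, 6, 120241, 24),
  (36093, 6, 32899, 42),
  (36095, 5, 129111, 13),
  (36105, 6, 84263, 19),
  (36107, 4, 14630, 25),
  (36109, 5, 33141, 42),
  (36111, 6, 36169, 15),
  (36113, 5, 8265, 40),
  (36115, 6, 52419, 20),
  (36117, 5, 343, 7),
  (36119, 7, 217538, 21),
  (36129, 4, 10414, 25),
  (36131, 6, 142739, 19),
  (36133, 5, 217412, 21),
  (36135, 5, 161805, 24),
  (36153, 5, 8613, 40),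
  (36155, 6, 174187, 16),
  (36157, 6, 4123, 39),
  (36159, 5, 4177, 39),
  (36169, 5, 16621, 41),
  (36171, 6, 21689, 26),
  (36173, 6, 8239, 40),
  (36175, 4, 209098, 23),
  (36177, 7, 8302, 25),
  (36179, 5, 32939, 42),
  (36181, 6, 8318, 25),
  (36183, 4, 172444, 23),
  (36193, 6, 115058, 22),
  (36195, 6, 22833, 24),
  (36197, 5, 217420, 21),
  (36199, 6, 182567, 10),
  (36217, 5, 33097, 42),
  (36219, 6, 2089, 38),
  (36221, 6, 220221, 19),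
  (36223, 6, 104881, 24),
  (36225, 5, 2337, 38),
  (36227, 6, 14375, 25),
  (36229, 6, 35267, 15),
  (36231, 6, 232833, 12),
  (36249, 6, 81373, 11),
  (36251, 6, 137691, 10),
  (36253, 5, 131365, 44),
  (36255, 5, 65633, 43),
  (36265, 6, 117111, 19),
  (36267, 5, 16677, 41),
  (36269, 5, 220613, 6),
  (36271, 5, 4289, 39),
  (36273, 6, 8271, 40),
  (36275, 6, 225494, 21),
  (36277, 6, 82295, 7),
  (36279, 6, 82395, 22),
  (36289, 5, 455, 15),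
  (36291, 6, 101699, 20),
  (36293, 6, 15409, 24),
  (36295, 5, 1171, 37),
  (36313, 5, 32857, 42),
  (36315, 5, 4355, 39),
  (36317, 5, 212061, 3),
  (36319, 6, 173477, 20),
  (36329, 5, 4297, 39),
  (36331, 6, 186795, 10),
  (36333, 5, 16645, 41),
  (36335, 6, 185575, 14),
  (36337, 6, 139517, 23),
  (36339, 6, 225502, 21),
  (36341, 6, 139751, 4),
  (36343, 6, 16495, 41),
  (36867, 3, 75, 11),
  (36869, 3, 77, 10),
  (36870, 4, 34830, 7),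
  (36875, 3, 75, 6),
  (36877, 3, 77, 6),
  (36878, 2, 32776, 39),
  (36881, 4, 33867, 21),
  (36882, 5, 122886, 37),
  (36884, 4, 90145, 20),
  (36887, 6, 206930, 23),
  (36889, 4, 37897, 21),
  (36890, 6, 36882, 16),
  (36892, 4, 90161, 20),
  (36895, 6, 147503, 19),
  (36897, 4, 34893, 21),
  (36898, 4, 155649, 19),
  (36900, 6, 36972, 2),
  (36903, 4, 49542, 22),
  (36905, 4, 38921, 21),
  (36906, 5, 155681, 19),
  (36908, 6, 36972, 16),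
  (36911, 6, 192569, 24),
  (36915, 6, 143577, 24),
  (36917, 3, 155662, 19),
  (36918, 6, 49287, 22),
  (36923, 5, 3285, 38),
  (36925, 5, 70098, 26),
  (36926, 5, 75782, 38),
  (36931, 3, 75, 3),
  (36933, 3, 77, 3),
  (36934, 2, 32776, 42),
  (36939, 4, 37963, 1),
  (36941, 4, 38989, 2),
  (36942, 4, 6218, 8),
  (36945, 4, 37955, 21),
  (36946, 6, 135244, 25),
  (36948, 4, 90273, 20),
  (36951, 6, 127169, 24),
  (36953, 5, 33801, 21),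
  (36954, 6, 41034, 14),
  (36956, 4, 90289, 20),
  (36959, 4, 41430, 23),
  (36961, 4, 38981, 21),
  (36962, 4, 155905, 19),
  (36964, 6, 49196, 10),
  (36967, 6, 73871, 20),
  (36969, 5, 34825, 21),
  (36970, 4, 155937, 19),
  (36972, 5, 188790, 38),
  (36975, 6, 51618, 22),
  (36979, 4, 135404, 25),
  (36981, 5, 139659, 40),
  (36982, 5, 139588, 44),
  (36987, 3, 90302, 20),
  (36989, 6, 86465, 24),
  (36990, 6, 246122, 26),
  (36993, 4, 5195, 24),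
  (36994, 6, 37066, 1),
  (36996, 4, 204801, 20),
  (36999, 4, 69686, 26),
  (37001, 4, 37899, 24),
  (37002, 6, 69826, 11),
  (37004, 4, 204817, 20),
  (37007, 6, 147559, 19),
  (37011, 6, 111617, 2),
  (37013, 5, 112785, 1),
  (37014, 7, 147531, 19),
  (37019, 7, 51465, 22),
  (37021, 7, 147566, 19),
  (37022, 6, 180296, 42),
  (37027, 3, 204814, 20),
  (37029, 3, 155718, 19),
  (37030, 6, 155715, 19),
  (37035, 6, 51466, 22),
  (37037, 6, 155750, 19),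
  (37038, 6, 202777, 21),
  (37041, 4, 155724, 19),
  (37042, 5, 82098, 41),
  (37044, 4, 155722, 19),
  (37047, 5, 82197, 43),
  (37049, 6, 221242, 20),
  (37050, 6, 94298, 4),
  (37052, 5, 81970, 41),
  (37055, 5, 37001, 42),
  (37057, 4, 37953, 24),
  (37058, 6, 37066, 14),
  (37060, 5, 204929, 20),
  (37063, 6, 242113, 21),
  (37065, 5, 5185, 24),
  (37066, 5, 188790, 37),
  (37068, 4, 204945, 20),
  (37071, 6, 92222, 26),
  (37075, 6, 111827, 1),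
  (37077, 6, 147790, 19),
  (37078, 5, 82020, 41),
  (37083, 6, 38033, 10),
  (37085, 5, 112785, 11),
  (37086, 6, 135517, 25),
  (37091, 6, 204942, 20),
  (37093, 6, 43230, 26),
  (37094, 6, 58689, 24),
  (37099, 6, 100377, 21),
  (37101, 6, 21825, 24),
  (37102, 6, 88298, 8),
  (37105, 6, 9399, 23),
  (37106, 6, 114810, 16),
  (37108, 5, 82066, 41),
  (37111, 5, 37057, 42),
  (37113, 5, 82085, 43),
  (37114, 5, 82180, 43),
  (37116, 6, 231758, 26),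
  (37119, 6, 256382, 26),
  (37121, 4, 6221, 24),
  (37122, 4, 213121, 19),
  (37124, 5, 122886, 38),
  (37127, 6, 137278, 25),
  (37129, 4, 38925, 24),
  (37130, 4, 213153, 19),
  (37132, 6, 135244, 5),
  (37135, 6, 249897, 21),
  (37139, 6, 14557, 24),
  (37141, 6, 165227, 21),
  (37142, 6, 35102, 16),
  (37147, 6, 137582, 25),
  (37149, 6, 213166, 19),
  (37150, 6, 213163, 19),
  (37155, 5, 185633, 2),
  (37157, 6, 186369, 1),
  (37158, 7, 73805, 20),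
  (37163, 6, 73822, 20),
  (37165, 6, 186669, 2),
  (37166, 5, 82020, 43),
  (37169, 5, 36881, 39),
  (37170, 5, 192602, 10),
  (37172, 5, 139666, 44),
  (37175, 6, 137470, 25),
  (37177, 6, 18707, 22),
  (37178, 5, 139650, 44),
  (37180, 6, 41340, 2),
  (37183, 5, 36945, 39),
  (37185, 4, 38977, 24),
  (37186, 4, 213377, 19),
  (37188, 6, 37124, 14),
  (37191, 6, 73927, 20),
  (37193, 5, 6209, 24),
  (37194, 4, 213409, 19),
  (37196, 6, 135244, 16),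
  (37199, 4, 135486, 25),
  (37203, 6, 90342, 20),
  (37205, 6, 71762, 23),
  (37206, 6, 90341, 20),
  (37211, 3, 90358, 20),
  (37213, 3, 213422, 19),
  (37214, 6, 90357, 20),
  (37219, 7, 73934, 20),
  (37221, 7, 170341, 21),
  (37222, 6, 180296, 39),
  (37227, 5, 185633, 10),
  (37229, 6, 39201, 11),
  (37230, 6, 41307, 23),
  (37233, 6, 221580, 19),
  (37234, 5, 36948, 39),
  (37236, 6, 160084, 7),
  (37239, 5, 36889, 39),
  (37241, 4, 90362, 20),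
  (37242, 4, 90364, 20),
  (37244, 5, 139394, 44),
  (37247, 5, 139701, 40),
  (37251, 3, 204870, 20),
  (37253, 6, 172393, 21),
  (37254, 6, 69671, 26),
  (37259, 5, 139659, 44),
  (37261, 4, 41194, 23),
  (37262, 5, 139588, 40),
  (37265, 5, 36881, 42),
  (37266, 5, 139666, 40),
  (37268, 5, 241996, 11),
  (37271, 6, 227410, 23),
  (37273, 6, 221298, 20),
  (37274, 6, 237850, 5),
  (37276, 5, 36948, 42),
  (37279, 5, 36889, 42),
  (37281, 4, 204874, 20),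
  (37282, 4, 204876, 20),
  (37284, 5, 82098, 43),
  (37287, 5, 82197, 41),
  (37289, 6, 133543, 25),
  (37290, 5, 82066, 43),
  (37292, 6, 86476, 14),
  (37295, 5, 37057, 39),
  (37299, 6, 144633, 8),
  (37301, 6, 174569, 4),
  (37302, 6, 117054, 16),
  (37307, 6, 120273, 5),
  (37309, 6, 241901, 16),
  (37310, 6, 41327, 23),
  (37315, 5, 49468, 22),
  (37317, 5, 3285, 37),
  (37318, 5, 75782, 37),
  (37323, 6, 114745, 21),
  (37325, 3, 213478, 19),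
  (37326, 6, 94428, 22),
  (37329, 6, 66837, 26),
  (37330, 6, 135642, 1),
  (37332, 5, 139650, 40),
  (37335, 5, 36945, 42),
  (37337, 4, 213484, 19),
  (37338, 5, 139394, 40),
  (37340, 4, 213482, 19),
  (37343, 5, 139701, 44),
  (37345, 6, 221636, 19),
  (37346, 5, 81970, 43),
  (37348, 6, 246092, 8),
  (37351, 5, 37001, 39),
  (37353, 5, 82085, 41),
  (37354, 6, 51258, 22),
  (37356, 5, 82180, 41),
  (37359, 6, 51642, 22),
  (37363, 6, 192747, 14),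
  (37365, 6, 121145, 7),
  (37366, 6, 135391, 25),
  (37371, 6, 87505, 5),
  (37373, 6, 117049, 7),
  (37374, 6, 243942, 7),
  (37889, 3, 4097, 38),
  (37891, 3, 75, 10),
  (37897, 3, 75, 7),
  (37899, 3, 75, 8),
  (37909, 5, 207186, 23),
  (37911, 6, 7257, 7),
  (37917, 6, 51649, 22),
  (37919, 4, 61708, 25),
  (37925, 6, 3383, 19),
  (37927, 6, 16838, 22),
  (37933, 4, 86226, 26),
  (37935, 7, 86258, 26),
  (37937, 6, 58489, 3),
  (37939, 5, 162097, 19),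
  (37945, 6, 22813, 19),
  (37947, 6, 92222, 20),
  (37953, 3, 75, 4),
  (37955, 3, 75, 5),
  (37961, 4, 37963, 2),
  (37963, 3, 32833, 37),
  (37973, 6, 16447, 44),
  (37975, 5, 32947, 37),
  (37981, 5, 8523, 41),
  (37983, 6, 86225, 24),
  (37989, 4, 134199, 19),
  (37991, 6, 33171, 37),
  (37997, 6, 4465, 38),
  (37999, 4, 135604, 25),
  (38001, 4, 92330, 20),
  (38003, 5, 92334, 20),
  (38009, 6, 237938, 26),
  (38011, 4, 135652, 25),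
  (38021, 6, 172489, 21),
  (38023, 5, 16621, 44),
  (38029, 4, 233900, 22),
  (38031, 6, 137525, 25),
  (38033, 5, 2337, 42),
  (38035, 5, 219, 10),
  (38041, 6, 51529, 22),
  (38043, 6, 46219, 24),
  (38049, 5, 8265, 41),
  (38051, 7, 16718, 22),
  (38057, 6, 168987, 24),
  (38059, 5, 32939, 37),
  (38069, 6, 63735, 15),
  (38071, 5, 32857, 37),
  (38077, 6, 100543, 12),
  (38079, 5, 4355, 38),
  (38085, 5, 33141, 37),
  (38087, 6, 8239, 41),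
  (38093, 6, 38023, 10),
  (38095, 4, 92190, 26),
  (38097, 6, 33947, 10),
  (38099, 6, 55585, 19),
  (38105, 6, 111761, 11),
  (38107, 5, 1171, 39),
  (38113, 5, 235, 4),
  (38115, 6, 16750, 22),
  (38121, 7, 207002, 20),
  (38123, 4, 125014, 26),
  (38133, 5, 131365, 43),
  (38135, 5, 129127, 2),
  (38141, 5, 65633, 40),
  (38143, 6, 87505, 24),
  (38149, 4, 209234, 23),
  (38151, 6, 4345, 38),
  (38157, 6, 250025, 21),
  (38159, 4, 172490, 23),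
  (38161, 5, 211218, 23),
  (38163, 6, 99435, 21),
  (38169, 5, 33117, 37),
  (38171, 6, 54441, 21),
  (38177, 6, 131141, 43),
  (38179, 6, 16726, 22),
  (38185, 4, 133550, 25),
  (38187, 4, 18770, 22),
  (38197, 6, 73023, 19),
  (38199, 5, 4201, 38),
  (38205, 6, 2373, 42),
  (38207, 6, 146865, 19),
  (38213, 6, 131134, 25),
  (38215, 4, 135222, 25),
  (38221, 6, 131390, 25),
  (38223, 6, 3489, 19),
  (38225, 6, 131182, 25),
  (38227, 5, 347, 5),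
  (38233, 7, 131438, 25),
  (38235, 5, 65737, 40),
  (38241, 6, 39141, 21),
  (38243, 6, 39249, 24),
  (38249, 6, 131502, 25),
  (38251, 6, 16429, 44),
  (38261, 6, 194643, 1),
  (38263, 6, 32899, 37),
  (38269, 5, 32905, 37),
  (38271, 5, 191595, 14),
  (38273, 4, 49500, 22),
  (38275, 6, 94482, 23),
  (38281, 6, 118969, 21),
  (38283, 6, 166305, 19),
  (38293, 6, 173547, 21),
  (38295, 5, 4297, 38),
  (38301, 5, 16677, 44),
  (38303, 6, 232861, 12),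
  (38309, 5, 8613, 41),
  (38311, 5, 33097, 37),
  (38317, 6, 115983, 13),
  (38319, 6, 2089, 42),
  (38321, 6, 8271, 41),
  (38323, 6, 82295, 26),
  (38329, 6, 223354, 20),
  (38331, 6, 223358, 20),
  (38337, 5, 207042, 20),
  (38339, 5, 207046, 20),
  (38345, 5, 247877, 19),
  (38347, 6, 230857, 12),
  (38357, 5, 243923, 1),
  (38359, 5, 16645, 44),
  (38365, 5, 4289, 38),
  (38367, 6, 204123, 17),
  (38373, 6, 4123, 38),
  (38375, 6, 244069, 21),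
  (38381, 5, 4177, 38),
  (38383, 6, 44465, 19),
  (38385, 6, 139755, 4),
  (38387, 6, 82395, 5),
  (38393, 6, 139455, 23),
  (38395, 6, 16495, 44),
  (38913, 3, 4097, 37),
  (38914, 4, 6218, 6),
  (38917, 3, 77, 11),
  (38918, 2, 32776, 37),
  (38921, 3, 77, 8),
  (38922, 3, 65552, 43),
  (38925, 3, 77, 7),
  (38926, 3, 65552, 44),
  (38931, 4, 188700, 25),
  (38935, 6, 4345, 37),
  (38939, 6, 8646, 23),
  (38943, 4, 41350, 23),
  (38947, 6, 143481, 24),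
  (38951, 5, 16621, 40),
  (38955, 5, 33141, 38),
  (38959, 6, 8239, 43),
  (38961, 4, 69978, 26),
  (38962, 5, 32926, 38),
  (38965, 6, 246036, 25),
  (38966, 4, 131356, 41),
  (38969, 5, 22814, 19),
  (38970, 5, 131372, 41),
  (38973, 5, 145714, 19),
  (38974, 5, 98588, 25),
  (38977, 3, 77, 5),
  (38978, 3, 131104, 40),
  (38981, 3, 77, 4),
  (38982, 3, 131104, 41),
  (38985, 4, 38989, 1),
  (38986, 2, 32776, 38),
  (38989, 3, 32833, 38),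
  (38990, 4, 34830, 6),
  (38995, 6, 127201, 24),
  (38999, 4, 143484, 25),
  (39003, 6, 8662, 23),
  (39007, 6, 3249, 20),
  (39011, 4, 61682, 26),
  (39015, 6, 42387, 23),
  (39019, 6, 38951, 11),
  (39023, 4, 117154, 22),
  (39025, 6, 119265, 24),
  (39026, 5, 4396, 37),
  (39029, 6, 13489, 20),
  (39030, 4, 143580, 25),
  (39033, 5, 95243, 20),
  (39034, 5, 180584, 37),
  (39037, 6, 30841, 15),
  (39038, 4, 250218, 26),
  (39043, 6, 3479, 20),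
  (39047, 6, 65598, 26),
  (39051, 4, 11655, 20),
  (39055, 6, 33171, 38),
  (39057, 6, 131141, 41),
  (39058, 6, 145485, 25),
  (39061, 6, 65822, 26),
  (39062, 5, 2198, 39),
  (39065, 6, 38059, 24),
  (39066, 5, 131428, 41),
  (39069, 6, 38169, 21),
  (39070, 5, 16652, 40),
  (39073, 5, 8265, 43),
  (39074, 6, 121062, 8),
  (39077, 7, 65630, 26),
  (39078, 6, 156755, 24),
  (39081, 5, 237, 8),
  (39082, 5, 143364, 39),
  (39085, 6, 65758, 26),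
  (39086, 5, 172372, 39),
  (39091, 5, 8613, 43),
  (39095, 5, 33097, 38),
  (39099, 6, 4123, 37),
  (39103, 6, 193691, 24),
  (39107, 4, 114988, 22),
  (39111, 7, 115116, 22),
  (39115, 6, 4465, 37),
  (39119, 4, 41394, 23),
  (39121, 4, 116754, 23),
  (39122, 4, 154022, 26),
  (39125, 4, 145822, 26),
  (39126, 5, 182354, 23),
  (39129, 6, 8438, 23),
  (39130, 5, 2194, 39),
  (39133, 6, 16429, 40),
  (39134, 7, 116905, 22),
  (39137, 6, 47429, 21),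
  (39138, 5, 65686, 44),
  (39141, 5, 32939, 38),
  (39142, 6, 131176, 41),
  (39145, 7, 182358, 19),
  (39146, 6, 157025, 19),
  (39149, 4, 84394, 22),
  (39150, 6, 120842, 4),
  (39155, 6, 88151, 17),
  (39159, 6, 2089, 39),
  (39163, 5, 4177, 37),
  (39167, 6, 138673, 20),
  (39171, 5, 145454, 25),
  (39175, 6, 36169, 5),
  (39179, 6, 16447, 40),
  (39183, 5, 32947, 38),
  (39185, 5, 141414, 25),
  (39186, 6, 178462, 5),
  (39189, 6, 22733, 24),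
  (39190, 6, 214155, 19),
  (39193, 6, 8398, 23),
  (39194, 5, 8342, 43),
  (39197, 5, 349, 7),
  (39198, 5, 33042, 38),
  (39201, 5, 2337, 39),
  (39202, 6, 9547, 23),
  (39205, 5, 365, 11),
  (39206, 5, 2342, 39),
  (39209, 6, 6501, 11),
  (39210, 4, 116754, 22),
  (39213, 6, 103569, 20),
  (39214, 4, 145822, 25),
  (39219, 6, 145661, 24),
  (39223, 5, 4297, 37),
  (39227, 5, 193837, 2),
  (39231, 5, 16645, 40),
  (39235, 6, 70713, 26),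
  (39239, 4, 233554, 23),
  (39243, 5, 8523, 43),
  (39247, 6, 114985, 21),
  (39249, 5, 33117, 38),
  (39250, 6, 16744, 40),
  (39253, 6, 104673, 24),
  (39254, 5, 33044, 38),
  (39257, 7, 8414, 23),
  (39258, 6, 124997, 20),
  (39261, 5, 65737, 44),
  (39262, 6, 178242, 7),
  (39265, 6, 55649, 24),
  (39266, 5, 180228, 39),
  (39269, 6, 170085, 21),
  (39270, 5, 151852, 39),
  (39273, 6, 186657, 10),
  (39274, 5, 75926, 42),
  (39277, 5, 1171, 42),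
  (39278, 6, 66793, 26),
  (39283, 5, 16677, 40),
  (39287, 6, 32115, 15),
  (39291, 5, 4289, 37),
  (39295, 6, 60765, 13),
  (39297, 6, 203209, 6),
  (39298, 4, 192530, 23),
  (39301, 5, 238993, 20),
  (39302, 5, 106504, 37),
  (39305, 4, 117062, 19),
  (39306, 4, 12540, 22),
  (39309, 5, 166306, 19),
  (39310, 5, 16708, 40),
  (39315, 6, 52695, 20),
  (39319, 5, 4201, 37),
  (39323, 6, 242957, 2),
  (39327, 6, 32899, 38),
  (39331, 6, 234927, 12),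
  (39335, 5, 32857, 38),
  (39339, 5, 131365, 41),
  (39343, 5, 251023, 1),
  (39345, 6, 8271, 43),
  (39346, 6, 194734, 14),
  (39349, 6, 82335, 22),
  (39350, 6, 253960, 37),
  (39353, 6, 139517, 8),
  (39354, 6, 220473, 21),
  (39357, 6, 82301, 7),
  (39358, 6, 145898, 13),
  (39361, 6, 99667, 20),
  (39362, 4, 114748, 22),
  (39365, 6, 51618, 19),
  (39366, 5, 65802, 44),
  (39369, 6, 160156, 22),
  (39370, 4, 65578, 44),
  (39373, 4, 41146, 23),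
  (39374, 5, 4318, 37),
  (39379, 6, 2373, 39),
  (39383, 6, 175537, 20),
  (39387, 5, 32905, 38),
  (39391, 5, 212173, 16),
  (39395, 6, 21991, 15),
  (39399, 5, 4355, 37),
  (39403, 5, 65633, 44),
  (39407, 6, 117049, 21),
  (39409, 6, 235646, 19),
  (39410, 5, 96742, 8),
  (39413, 6, 63922, 19),
  (39414, 5, 239850, 7),
  (39417, 6, 139751, 25),
  (39418, 6, 254456, 37),
  (39421, 6, 16495, 40),
  (39422, 6, 129306, 4),
  (39953, 6, 17559, 20),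
  (39955, 6, 82245, 22),
  (39957, 6, 115141, 22),
  (39959, 6, 37975, 17),
  (39961, 6, 37975, 5),
  (39963, 6, 45225, 24),
  (39965, 6, 37981, 17),
  (39967, 6, 61577, 24),
  (39969, 6, 135289, 24),
  (39971, 4, 86138, 26),
  (39973, 6, 7275, 8),
  (39975, 6, 173443, 23),
  (39977, 6, 139459, 23),
  (39979, 6, 7271, 11),
  (39981, 6, 19733, 19),
  (39983, 5, 84418, 22),
  (40017, 4, 231698, 23),
  (40019, 6, 37981, 12),
  (40021, 6, 139388, 25),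
  (40023, 6, 100690, 23),
  (40025, 6, 117089, 22),
  (40027, 5, 143716, 25),
  (40029, 6, 7251, 5),
  (40031, 6, 1205, 20),
  (40033, 6, 140499, 23),
  (40035, 6, 82278, 22),
  (40037, 6, 7271, 16),
  (40039, 6, 38955, 8),
  (40041, 6, 7275, 16),
  (40043, 6, 127058, 26),
  (40045, 6, 150549, 19),
  (40047, 6, 4465, 24),
  (40065, 6, 41417, 21),
  (40067, 6, 36045, 4),
  (40069, 4, 115148, 22),
  (40071, 6, 145461, 25),
  (40073, 6, 141613, 25),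
  (40075, 6, 35983, 14),
  (40077, 6, 82078, 26),
  (40079, 6, 38085, 4),
  (40113, 7, 21919, 20),
  (40115, 6, 195891, 19),
  (40117, 6, 173223, 23),
  (40119, 6, 173479, 23),
  (40121, 6, 86494, 26),
  (40123, 6, 139751, 23),
  (40125, 6, 93389, 6),
  (40127, 6, 193675, 24),
  (40129, 6, 139309, 25),
  (40131, 6, 68883, 20),
  (40133, 6, 35983, 10),
  (40135, 5, 30878, 26),
  (40137, 6, 36045, 14),
  (40139, 6, 77059, 20),
  (40141, 6, 250124, 22),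
  (40143, 6, 33177, 21),
  (40177, 5, 221589, 43),
  (40179, 6, 89175, 17),
  (40181, 6, 139517, 25),
  (40183, 6, 244807, 21),
  (40185, 6, 89181, 17),
  (40187, 5, 40201, 38),
  (40189, 6, 244094, 26),
  (40191, 6, 143861, 25),
  (40193, 6, 67879, 19),
  (40195, 6, 86075, 26),
  (40197, 6, 81947, 26),
  (40199, 6, 39183, 13),
  (40201, 4, 141614, 25),
  (40203, 6, 139722, 23),
  (40205, 6, 39243, 15),
  (40207, 6, 145718, 25),
  (40241, 7, 137469, 24),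
  (40243, 5, 221589, 40),
  (40245, 6, 141566, 25),
  (40247, 6, 178279, 16),
  (40249, 6, 253353, 21),
  (40251, 6, 178283, 16),
  (40253, 6, 82395, 26),
  (40255, 5, 40201, 42),
  (40257, 6, 39183, 7),
  (40259, 6, 39243, 13),
  (40261, 6, 168161, 21),
  (40263, 6, 233569, 21),
  (40265, 6, 87193, 26),
  (40267, 6, 36109, 7),
  (40269, 5, 172186, 23),
  (40271, 6, 2467, 19),
  (40305, 6, 129521, 24),
  (40307, 6, 82295, 22),
  (40309, 6, 192599, 1),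
  (40311, 6, 143606, 25),
  (40313, 6, 87513, 26),
  (40315, 6, 130123, 20),
  (40317, 6, 220189, 19),
  (40319, 6, 84467, 22),
  (40337, 7, 42475, 21),
  (40339, 6, 129298, 23),
  (40341, 5, 221589, 44),
  (40343, 6, 177295, 14),
  (40345, 6, 117081, 22),
  (40347, 6, 241935, 2),
  (40349, 6, 82335, 26),
  (40351, 6, 172462, 23),
  (40353, 7, 100727, 19),
  (40355, 6, 191923, 19),
  (40357, 6, 245141, 20),
  (40359, 6, 145591, 25),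
  (40361, 5, 221589, 41),
  (40363, 6, 139755, 23),
  (40365, 6, 118031, 13),
  (40367, 6, 195599, 24),
  (40401, 6, 130289, 24),
  (40403, 6, 82301, 22),
  (40405, 6, 177357, 14),
  (40407, 5, 40201, 39),
  (40409, 6, 117113, 22),
  (40411, 6, 126275, 20),
  (40413, 6, 253005, 19),
  (40415, 6, 83389, 26),
  (40417, 6, 115070, 22),
  (40419, 6, 216171, 3),
  (40421, 6, 139455, 25),
  (40423, 6, 243813, 21),
  (40425, 6, 118091, 13),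
  (40427, 6, 84346, 22),
  (40429, 5, 40201, 37),
  (40431, 6, 172475, 23),
  (40963, 6, 33809, 13),
  (40965, 5, 197025, 22),
  (40966, 4, 90161, 24),
  (40969, 4, 180292, 25),
  (40970, 6, 41034, 17),
  (40972, 4, 65585, 20),
  (40975, 4, 229782, 23),
  (40979, 6, 8259, 11),
  (40981, 4, 213025, 22),
  (40982, 4, 90289, 24),
  (40985, 5, 5187, 21),
  (40986, 6, 36882, 14),
  (40988, 5, 81937, 20),
  (40991, 4, 155724, 25),
  (40993, 4, 34894, 21),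
  (40994, 4, 204817, 24),
  (40996, 4, 213025, 24),
  (40999, 7, 231886, 21),
  (41000, 4, 229444, 25),
  (41003, 6, 65598, 20),
  (41005, 6, 6261, 8),
  (41006, 6, 59514, 8),
  (41009, 4, 38922, 21),
  (41010, 4, 204945, 24),
  (41012, 4, 213153, 24),
  (41015, 3, 90188, 25),
  (41016, 4, 5127, 21),
  (41019, 3, 213068, 25),
  (41021, 6, 81947, 20),
  (41022, 4, 204876, 25),
  (41027, 6, 8259, 17),
  (41029, 4, 213377, 22),
  (41030, 4, 24705, 24),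
  (41033, 4, 5193, 21),
  (41034, 5, 16782, 44),
  (41036, 5, 65713, 20),
  (41039, 7, 237958, 23),
  (41043, 6, 36972, 25),
  (41045, 4, 196641, 22),
  (41046, 4, 90113, 24),
  (41049, 4, 5195, 21),
  (41050, 5, 197038, 44),
  (41052, 4, 82065, 20),
  (41055, 6, 37244, 25),
  (41057, 4, 38982, 21),
  (41058, 4, 8577, 24),
  (41060, 4, 16769, 24),
  (41063, 6, 37052, 25),
  (41064, 5, 5133, 21),
  (41067, 6, 65726, 20),
  (41069, 6, 33204, 25),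
  (41070, 6, 63602, 14),
  (41073, 4, 34826, 21),
  (41074, 4, 73985, 24),
  (41076, 5, 82177, 24),
  (41079, 6, 143631, 19),
  (41080, 4, 5135, 21),
  (41083, 6, 37356, 25),
  (41085, 6, 59465, 1),
  (41086, 4, 245994, 26),
  (41089, 6, 41034, 21),
  (41090, 4, 38925, 25),
  (41092, 4, 196641, 20),
  (41095, 4, 135222, 26),
  (41096, 4, 196656, 20),
  (41099, 6, 111707, 24),
  (41101, 6, 35125, 25),
  (41102, 6, 108618, 17),
  (41105, 6, 135244, 19),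
  (41106, 4, 38989, 25),
  (41108, 4, 212993, 20),
  (41111, 6, 212999, 20),
  (41112, 5, 213008, 20),
  (41115, 6, 38107, 4),
  (41117, 6, 120043, 24),
  (41118, 6, 39261, 25),
  (41123, 6, 108750, 21),
  (41125, 6, 24805, 10),
  (41126, 6, 124994, 17),
  (41129, 6, 143460, 19),
  (41130, 5, 20910, 44),
  (41132, 6, 35221, 25),
  (41135, 6, 7413, 8),
  (41139, 4, 213006, 20),
  (41141, 6, 213003, 20),
  (41142, 6, 143435, 19),
  (41145, 5, 127193, 5),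
  (41146, 3, 90186, 4),
  (41148, 4, 143466, 19),
  (41151, 6, 97395, 7),
  (41153, 6, 32913, 8),
  (41154, 4, 36877, 25),
  (41156, 5, 196769, 20),
  (41159, 4, 242114, 21),
  (41160, 4, 196784, 20),
  (41163, 6, 196790, 20),
  (41165, 6, 13657, 21),
  (41166, 6, 88265, 22),
  (41169, 6, 213122, 20),
  (41170, 5, 36941, 25),
  (41172, 4, 213121, 20),
  (41175, 6, 233569, 22),
  (41176, 4, 213136, 20),
  (41179, 6, 111617, 24),
  (41181, 4, 125090, 23),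
  (41182, 4, 37213, 25),
  (41187, 6, 13697, 24),
  (41189, 6, 196779, 20),
  (41190, 6, 196781, 20),
  (41193, 5, 143716, 19),
  (41194, 3, 90186, 17),
  (41196, 5, 127124, 6),
  (41199, 5, 196799, 20),
  (41203, 6, 10677, 23),
  (41205, 6, 43253, 23),
  (41206, 6, 37085, 25),
  (41209, 6, 213146, 20),
  (41210, 4, 37325, 25),
  (41212, 6, 44149, 23),
  (41215, 6, 128069, 13),
  (41217, 4, 139569, 22),
  (41218, 4, 38926, 25),
  (41220, 5, 73905, 22),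
  (41223, 5, 233884, 23),
  (41224, 7, 65648, 20),
  (41227, 4, 201118, 23),
  (41229, 6, 21825, 21),
  (41230, 6, 6490, 11),
  (41233, 5, 155681, 22),
  (41234, 5, 38990, 25),
  (41236, 4, 90145, 22),
  (41239, 5, 249898, 21),
  (41240, 6, 82000, 20),
  (41243, 6, 82006, 20),
  (41245, 6, 121069, 24),
  (41246, 6, 125173, 24),
  (41251, 5, 371, 11),
  (41253, 6, 43209, 23),
  (41254, 6, 139366, 15),
  (41257, 7, 209060, 19),
  (41258, 6, 139642, 13),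
  (41260, 6, 160084, 6),
  (41263, 5, 6523, 11),
  (41267, 6, 147795, 6),
  (41269, 6, 35062, 25),
  (41270, 6, 81997, 20),
  (41273, 6, 209068, 19),
  (41274, 6, 82012, 20),
  (41276, 6, 248037, 24),
  (41279, 6, 44493, 23),
  (41281, 4, 155921, 22),
  (41282, 3, 36878, 25),
  (41284, 4, 90257, 22),
  (41287, 6, 201095, 19),
  (41288, 6, 65776, 20),
  (41291, 6, 37166, 25),
  (41293, 5, 201126, 19),
  (41294, 6, 35102, 4),
  (41297, 5, 139297, 22),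
  (41298, 5, 36942, 25),
  (41300, 4, 73761, 22),
  (41303, 5, 175109, 8),
  (41304, 7, 82128, 20),
  (41307, 5, 177491, 12),
  (41309, 5, 201134, 19),
  (41310, 6, 124929, 24),
  (41315, 6, 132209, 26),
  (41317, 5, 209286, 19),
  (41318, 5, 137378, 44),
  (41321, 6, 33190, 25),
  (41322, 6, 27731, 22),
  (41324, 6, 160116, 11),
  (41327, 5, 193837, 10),
  (41331, 6, 189507, 1),
  (41333, 6, 182314, 21),
  (41334, 6, 16726, 12),
  (41337, 6, 33254, 25),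
  (41338, 6, 16762, 8),
  (41340, 5, 154030, 44),
  (41343, 6, 193853, 10),
  (41347, 6, 196710, 20),
  (41349, 4, 172394, 21),
  (41350, 3, 204870, 15),
  (41353, 7, 196722, 20),
  (41354, 6, 39183, 25),
  (41356, 6, 233564, 3),
  (41359, 6, 39231, 25),
  (41363, 4, 213062, 20),
  (41365, 4, 94292, 23),
  (41366, 6, 33238, 12),
  (41369, 6, 242065, 12),
  (41370, 6, 74058, 4),
  (41372, 4, 135559, 26),
  (41375, 6, 232733, 2),
  (41377, 5, 203791, 24),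
  (41378, 6, 207895, 24),
  (41380, 4, 141614, 21),
  (41383, 7, 196719, 20),
  (41384, 6, 90568, 14),
  (41387, 6, 39343, 25),
  (41389, 6, 244133, 12),
  (41390, 6, 129326, 16),
  (41393, 3, 213066, 20),
  (41394, 3, 213068, 20),
  (41396, 4, 209098, 19),
  (41399, 6, 60903, 15),
  (41400, 6, 147704, 5),
  (41403, 6, 131575, 26),
  (41405, 6, 129501, 5),
  (41406, 6, 162010, 2),
  (41411, 6, 160089, 22),
  (41413, 7, 176482, 21),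
  (41414, 6, 237574, 15),
  (41417, 5, 473, 15),
  (41418, 6, 242066, 6),
  (41420, 5, 241996, 8),
  (41423, 6, 258478, 23),
  (41427, 6, 201165, 19),
  (41429, 6, 89089, 24),
  (41430, 3, 204870, 3),
  (41433, 6, 213202, 20),
  (41434, 4, 162090, 23),
  (41436, 6, 117761, 24),
  (41439, 6, 81373, 5),
  (41441, 7, 7553, 24),
  (41442, 6, 156130, 1),
  (41444, 6, 213108, 3),
  (41447, 6, 241127, 12),
  (41448, 6, 147928, 7),
  (41451, 6, 29917, 21),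
  (41453, 6, 129313, 7),
  (41454, 5, 194698, 2),
  (41457, 6, 90577, 5),
  (41458, 6, 213196, 20),
  (41460, 6, 213193, 20),
  (41463, 6, 247866, 21),
  (41464, 6, 196856, 16),
  (41467, 6, 250259, 6),
  (41469, 6, 213211, 20),
  (41470, 6, 113066, 11),
  (41985, 6, 8259, 7),
  (41987, 6, 8259, 10),
  (41997, 6, 7257, 11),
  (41999, 6, 192588, 25),
  (42001, 6, 205076, 23),
  (42003, 6, 8259, 8),
  (42013, 6, 159812, 25),
  (42015, 6, 245797, 22),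
  (42021, 5, 60465, 14),
  (42023, 6, 231758, 21),
  (42025, 6, 5241, 11),
  (42027, 6, 249932, 25),
  (42037, 6, 94276, 25),
  (42039, 6, 94284, 25),
  (42041, 4, 83994, 20),
  (42043, 6, 147954, 26),
  (42049, 6, 8498, 26),
  (42051, 6, 8259, 5),
  (42061, 5, 209923, 42),
  (42063, 6, 37172, 25),
  (42065, 6, 8259, 15),
  (42067, 5, 63613, 43),
  (42077, 5, 108930, 23),
  (42079, 6, 7257, 4),
  (42085, 6, 29073, 24),
  (42087, 4, 57690, 26),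
  (42089, 6, 149565, 19),
  (42091, 6, 37284, 25),
  (42101, 6, 96613, 37),
  (42103, 5, 60465, 7),
  (42105, 6, 33260, 25),
  (42107, 6, 5241, 4),
  (42117, 4, 172490, 21),
  (42119, 6, 245940, 23),
  (42121, 6, 170281, 22),
  (42123, 6, 147638, 26),
  (42133, 6, 217185, 22),
  (42135, 6, 90452, 23),
  (42137, 6, 38033, 14),
  (42139, 6, 111761, 12),
  (42145, 6, 169259, 22),
  (42147, 6, 24803, 10),
  (42157, 6, 52607, 19),
  (42159, 5, 151798, 26),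
  (42161, 6, 215050, 20),
  (42163, 6, 34033, 4),
  (42173, 6, 39163, 4),
  (42175, 5, 210057, 42),
  (42181, 6, 123300, 23),
  (42183, 4, 36917, 25),
  (42185, 5, 219, 15),
  (42187, 6, 38033, 24),
  (42197, 6, 95249, 24),
  (42199, 6, 36981, 25),
  (42201, 6, 8395, 15),
  (42203, 6, 5337, 4),
  (42209, 6, 165981, 19),
  (42211, 4, 37029, 25),
  (42221, 6, 198843, 20),
  (42223, 6, 39095, 8),
  (42225, 6, 24803, 15),
  (42227, 6, 34970, 21),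
  (42237, 5, 210051, 42),
  (42239, 6, 127047, 13),
  (42245, 4, 164330, 21),
  (42247, 5, 38966, 25),
  (42249, 6, 35118, 25),
  (42251, 5, 112717, 24),
  (42261, 6, 34942, 25),
  (42263, 4, 78164, 23),
  (42265, 6, 35182, 25),
  (42267, 6, 39270, 25),
  (42273, 6, 24931, 7),
  (42275, 6, 210957, 24),
  (42285, 6, 67707, 20),
  (42287, 5, 191819, 17),
  (42289, 6, 147795, 26),
  (42291, 6, 156019, 10),
  (42301, 6, 252157, 24),
  (42303, 5, 210185, 42),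
  (42309, 6, 36113, 11),
  (42311, 6, 67815, 20),
  (42313, 5, 347, 15),
  (42315, 6, 87241, 21),
  (42325, 7, 245930, 21),
  (42327, 6, 3465, 19),
  (42329, 4, 139365, 22),
  (42331, 6, 211082, 23),
  (42337, 6, 189811, 2),
  (42339, 5, 210075, 42),
  (42349, 7, 87373, 21),
  (42351, 6, 146809, 4),
  (42353, 6, 24931, 15),
  (42355, 6, 71953, 24),
  (42365, 5, 210179, 42),
  (42367, 6, 192831, 10),
  (42369, 4, 41194, 21),
  (42371, 6, 38951, 25),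
  (42381, 6, 244153, 22),
  (42383, 5, 210313, 42),
  (42385, 6, 215106, 20),
  (42387, 5, 238659, 3),
  (42397, 6, 244119, 12),
  (42399, 6, 242767, 3),
  (42405, 6, 35007, 25),
  (42407, 6, 39095, 25),
  (42409, 5, 35247, 25),
  (42411, 6, 193715, 14),
  (42421, 6, 252090, 21),
  (42423, 6, 186554, 21),
  (42425, 6, 185521, 14),
  (42427, 6, 39399, 25),
  (42433, 5, 238993, 6),
  (42435, 4, 198886, 20),
  (42445, 6, 95577, 21),
  (42447, 6, 258222, 23),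
  (42449, 6, 217364, 23),
  (42451, 6, 72721, 24),
  (42461, 6, 129450, 23),
  (42463, 6, 37239, 25),
  (42469, 6, 178662, 21),
  (42471, 6, 244070, 21),
  (42473, 6, 95325, 21),
  (42475, 6, 128289, 7),
  (42485, 6, 97553, 24),
  (42487, 6, 182458, 21),
  (42489, 6, 215258, 20),
  (42491, 6, 37351, 25),
  (43009, 4, 131489, 22),
  (43010, 4, 73777, 24),
  (43013, 4, 196897, 22),
  (43014, 5, 90129, 24),
  (43019, 7, 229846, 23),
  (43023, 5, 93313, 20),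
  (43025, 4, 213153, 22),
  (43026, 5, 73905, 24),
  (43029, 5, 147617, 22),
  (43030, 4, 90257, 24),
  (43035, 6, 155740, 25),
  (43039, 5, 127193, 24),
  (43043, 6, 100814, 21),
  (43047, 5, 60465, 2),
  (43049, 6, 134563, 22),
  (43050, 5, 63542, 14),
  (43053, 6, 131290, 26),
  (43054, 6, 131306, 26),
  (43059, 6, 7343, 20),
  (43063, 6, 82012, 25),
  (43065, 6, 30841, 10),
  (43066, 6, 61558, 1),
  (43069, 6, 131546, 26),
  (43070, 5, 71766, 41),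
  (43073, 4, 147841, 22),
  (43074, 5, 24737, 24),
  (43077, 4, 73924, 23),
  (43078, 4, 8353, 24),
  (43083, 5, 238022, 23),
  (43087, 6, 27777, 20),
  (43089, 5, 196769, 22),
  (43090, 4, 90145, 24),
  (43093, 4, 131233, 22),
  (43094, 4, 73761, 24),
  (43099, 4, 45420, 25),
  (43103, 6, 110625, 24),
  (43107, 5, 61810, 26),
  (43111, 6, 144647, 19),
  (43113, 4, 149566, 19),
  (43114, 4, 45452, 25),
  (43117, 4, 111066, 26),
  (43118, 6, 61454, 2),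
  (43123, 5, 60465, 10),
  (43127, 6, 192634, 26),
  (43129, 7, 153654, 19),
  (43130, 6, 11605, 23),
  (43133, 6, 24669, 17),
  (43134, 6, 39034, 7),
  (43139, 6, 44247, 4),
  (43143, 6, 131134, 26),
  (43145, 6, 135326, 26),
  (43146, 6, 110606, 16),
  (43149, 6, 82166, 23),
  (43150, 5, 43226, 41),
  (43155, 4, 135486, 26),
  (43159, 6, 73927, 11),
  (43161, 7, 112641, 13),
  (43162, 6, 112714, 3),
  (43165, 5, 112785, 12),
  (43166, 6, 131502, 26),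
  (43169, 5, 245, 8),
  (43170, 6, 8438, 13),
  (43173, 6, 218123, 24),
  (43174, 5, 57526, 14),
  (43179, 6, 125099, 37),
  (43183, 6, 259163, 24),
  (43185, 6, 124929, 13),
  (43186, 4, 90182, 4),
  (43189, 6, 39194, 21),
  (43190, 5, 174450, 39),
  (43195, 6, 242939, 24),
  (43199, 6, 228769, 20),
  (43203, 6, 152009, 22),
  (43207, 6, 136519, 19),
  (43209, 5, 112785, 6),
  (43210, 6, 45325, 25),
  (43213, 6, 38049, 24),
  (43214, 6, 112790, 6),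
  (43219, 4, 229658, 21),
  (43223, 6, 168161, 22),
  (43225, 4, 211094, 26),
  (43226, 4, 190818, 23),
  (43229, 6, 51466, 19),
  (43230, 5, 110662, 5),
  (43233, 6, 32949, 8),
  (43234, 6, 59526, 2),
  (43237, 6, 90181, 17),
  (43238, 3, 90358, 8),
  (43243, 6, 97599, 20),
  (43247, 6, 163201, 20),
  (43249, 6, 24805, 15),
  (43250, 4, 198938, 21),
  (43253, 5, 245, 4),
  (43254, 6, 82166, 8),
  (43259, 6, 128289, 24),
  (43263, 6, 189551, 39),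
  (43267, 6, 36113, 13),
  (43271, 5, 343, 11),
  (43273, 4, 43302, 25),
  (43274, 6, 201889, 19),
  (43277, 6, 120909, 24),
  (43278, 6, 125057, 20),
  (43283, 6, 36071, 20),
  (43287, 6, 117921, 20),
  (43289, 6, 104666, 23),
  (43290, 6, 152707, 21),
  (43293, 6, 178253, 3),
  (43294, 6, 178242, 10),
  (43297, 6, 35182, 21),
  (43298, 6, 16726, 4),
  (43301, 6, 24933, 7),
  (43302, 3, 155718, 2),
  (43307, 6, 47534, 25),
  (43311, 5, 191801, 2),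
  (43313, 4, 43238, 25),
  (43314, 5, 219434, 21),
  (43317, 6, 119969, 20),
  (43318, 6, 155734, 2),
  (43323, 6, 243965, 24),
  (43327, 6, 163197, 10),
  (43331, 6, 30881, 24),
  (43335, 6, 45118, 25),
  (43337, 5, 349, 15),
  (43338, 6, 178190, 2),
  (43341, 6, 39073, 24),
  (43342, 6, 43169, 24),
  (43347, 6, 175175, 1),
  (43351, 4, 233556, 23),
  (43353, 6, 41318, 25),
  (43354, 6, 6490, 12),
  (43357, 5, 178461, 10),
  (43358, 6, 59553, 20),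
  (43361, 6, 35125, 11),
  (43362, 6, 136297, 26),
  (43365, 6, 132185, 26),
  (43366, 6, 45214, 25),
  (43371, 6, 189821, 2),
  (43375, 6, 45502, 25),
  (43377, 6, 24933, 15),
  (43378, 3, 155718, 10),
  (43381, 6, 43165, 23),
  (43382, 6, 155990, 17),
  (43387, 6, 129313, 24),
  (43391, 7, 132601, 26),
  (43393, 6, 43047, 25),
  (43394, 4, 184700, 23),
  (43397, 6, 89103, 24),
  (43398, 5, 204970, 21),
  (43403, 6, 250366, 23),
  (43407, 6, 211415, 6),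
  (43409, 6, 135455, 26),
  (43410, 6, 127201, 22),
  (43413, 6, 74069, 7),
  (43414, 5, 248225, 20),
  (43419, 6, 252410, 23),
  (43423, 5, 243791, 3),
  (43427, 6, 159201, 10),
  (43431, 6, 210299, 22),
  (43433, 6, 11497, 23),
  (43434, 6, 127278, 16),
  (43437, 6, 129481, 5),
  (43438, 6, 243898, 7),
  (43443, 6, 252218, 21),
  (43447, 6, 126417, 5),
  (43449, 6, 121206, 19),
  (43450, 6, 186550, 14),
  (43453, 6, 161111, 21),
  (43454, 5, 78318, 11),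
  (43457, 6, 160153, 22),
  (43458, 6, 240018, 6),
  (43461, 4, 94444, 23),
  (43462, 6, 174482, 13),
  (43467, 6, 126327, 20),
  (43471, 6, 191873, 20),
  (43473, 6, 235590, 19),
  (43474, 5, 184340, 23),
  (43477, 6, 35210, 19),
  (43478, 5, 207042, 10),
  (43483, 6, 243159, 12),
  (43487, 6, 227818, 23),
  (43491, 6, 113126, 21),
  (43495, 6, 243942, 21),
  (43497, 6, 260497, 6),
  (43498, 5, 186626, 43),
  (43501, 6, 244193, 12),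
  (43502, 6, 192758, 14),
  (43507, 6, 191921, 10),
  (43511, 6, 45311, 25),
  (43513, 6, 252022, 19),
  (43514, 5, 67802, 41),
  (43517, 6, 127285, 7),
  (43518, 6, 111022, 11),
  (44041, 6, 166305, 22),
  (44043, 5, 192604, 25),
  (44045, 5, 91203, 37),
  (44047, 6, 147642, 26),
  (44057, 6, 201795, 21),
  (44059, 6, 7251, 6),
  (44061, 4, 68050, 23),
  (44063, 5, 104557, 43),
  (44065, 6, 127060, 25),
  (44067, 5, 60487, 17),
  (44069, 6, 166094, 21),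
  (44071, 6, 174465, 23),
  (44081, 4, 94292, 25),
  (44083, 6, 7339, 20),
  (44085, 6, 89253, 20),
  (44087, 5, 86108, 25),
  (44105, 6, 7257, 3),
  (44107, 6, 53425, 24),
  (44109, 6, 248065, 22),
  (44111, 4, 45364, 25),
  (44121, 6, 74807, 20),
  (44123, 6, 229541, 22),
  (44125, 6, 41340, 25),
  (44127, 5, 207042, 23),
  (44129, 6, 133151, 19),
  (44131, 6, 15643, 19),
  (44133, 4, 45434, 26),
  (44135, 6, 235590, 21),
  (44145, 6, 231818, 21),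
  (44147, 6, 230561, 22),
  (44149, 5, 60487, 13),
  (44151, 5, 192602, 26),
  (44161, 6, 168361, 22),
  (44163, 6, 108755, 16),
  (44165, 6, 233769, 22),
  (44167, 5, 95243, 24),
  (44177, 5, 233882, 21),
  (44179, 6, 123156, 23),
  (44181, 6, 138707, 44),
  (44183, 6, 33943, 14),
  (44201, 5, 5367, 8),
  (44203, 5, 126031, 17),
  (44205, 5, 126011, 2),
  (44207, 6, 194843, 19),
  (44217, 6, 218341, 22),
  (44219, 6, 152062, 26),
  (44221, 6, 147934, 26),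
  (44223, 6, 129031, 13),
  (44225, 6, 33943, 8),
  (44227, 6, 73927, 5),
  (44229, 6, 90596, 23),
  (44231, 6, 148869, 20),
  (44241, 6, 246036, 23),
  (44243, 4, 161814, 26),
  (44245, 6, 98714, 21),
  (44247, 5, 215093, 38),
  (44265, 6, 210013, 21),
  (44267, 6, 160019, 39),
  (44269, 6, 175281, 23),
  (44271, 6, 175537, 23),
  (44281, 6, 243958, 26),
  (44283, 6, 120113, 24),
  (44285, 6, 111921, 24),
  (44287, 5, 5373, 4),
  (44289, 6, 33258, 21),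
  (44291, 6, 138635, 19),
  (44293, 6, 117893, 20),
  (44295, 6, 237937, 22),
  (44305, 6, 71943, 19),
  (44307, 5, 175109, 1),
  (44309, 6, 155873, 22),
  (44311, 6, 175175, 3),
  (44329, 6, 189759, 2),
  (44331, 6, 243821, 24),
  (44333, 5, 44243, 40),
  (44335, 5, 147707, 26),
  (44345, 6, 218183, 21),
  (44347, 6, 162171, 10),
  (44349, 5, 147931, 26),
  (44351, 6, 47606, 25),
  (44353, 5, 343, 15),
  (44355, 6, 44335, 40),
  (44357, 5, 78284, 23),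
  (44359, 4, 233570, 21),
  (44369, 6, 246186, 21),
  (44371, 7, 45158, 25),
  (44373, 5, 115114, 21),
  (44375, 6, 45174, 25),
  (44393, 6, 218189, 21),
  (44395, 6, 194859, 10),
  (44397, 6, 191867, 2),
  (44399, 6, 144765, 4),
  (44409, 6, 41454, 25),
  (44411, 6, 162923, 3),
  (44413, 6, 112945, 24),
  (44415, 6, 194879, 10),
  (44425, 5, 212433, 6),
  (44427, 5, 34269, 15),
  (44429, 6, 86526, 23),
  (44431, 5, 215331, 38),
  (44441, 6, 121338, 23),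
  (44443, 6, 44531, 20),
  (44445, 7, 226643, 21),
  (44447, 6, 130255, 24),
  (44449, 7, 100703, 19)]

theorem chk_rows2_4 : rows2_4.all (rowBP tr2 gensLitP 72) = true := by decide +kernel

/-- Rows 7500 to 8999. -/
def rows2_5 : List (ℕ × ℕ × ℕ × ℕ) := [(44451, 6, 151679, 26),
  (44453, 6, 220191, 24),
  (44455, 6, 241057, 12),
  (44465, 5, 138319, 44),
  (44467, 6, 175515, 19),
  (44469, 6, 232695, 16),
  (44471, 5, 241073, 12),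
  (44489, 5, 215335, 38),
  (44491, 6, 245139, 6),
  (44493, 5, 54595, 41),
  (44495, 6, 177367, 14),
  (44505, 6, 242135, 12),
  (44507, 6, 240845, 1),
  (44509, 6, 244179, 12),
  (44511, 7, 189861, 20),
  (44513, 6, 47590, 21),
  (44515, 6, 191735, 14),
  (44517, 6, 178406, 21),
  (44519, 6, 148605, 26),
  (44529, 5, 25063, 15),
  (44531, 5, 249235, 6),
  (44533, 6, 126279, 13),
  (44535, 6, 51642, 21),
  (45057, 4, 32843, 21),
  (45058, 5, 155694, 44),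
  (45060, 4, 73761, 20),
  (45063, 6, 199141, 22),
  (45065, 4, 37899, 21),
  (45066, 6, 41034, 1),
  (45068, 4, 73777, 20),
  (45071, 6, 127033, 24),
  (45073, 4, 33865, 21),
  (45074, 5, 4518, 38),
  (45076, 4, 90113, 20),
  (45079, 6, 90119, 20),
  (45081, 4, 36875, 21),
  (45082, 6, 41034, 10),
  (45084, 5, 90129, 20),
  (45087, 6, 37981, 16),
  (45091, 6, 5241, 8),
  (45093, 6, 159750, 19),
  (45094, 6, 63602, 8),
  (45099, 6, 24667, 6),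
  (45101, 6, 24669, 6),
  (45102, 6, 63562, 17),
  (45107, 4, 90126, 20),
  (45109, 5, 216097, 22),
  (45110, 5, 201058, 26),
  (45115, 6, 197106, 26),
  (45117, 6, 250025, 24),
  (45118, 5, 63542, 16),
  (45121, 4, 36931, 21),
  (45122, 6, 41034, 16),
  (45124, 5, 73889, 20),
  (45127, 5, 120961, 43),
  (45129, 4, 151844, 19),
  (45130, 6, 36882, 11),
  (45132, 5, 73905, 20),
  (45135, 5, 168252, 25),
  (45137, 4, 37953, 21),
  (45138, 6, 36882, 13),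
  (45140, 4, 90241, 20),
  (45143, 6, 155834, 26),
  (45145, 5, 32779, 21),
  (45146, 6, 41034, 5),
  (45148, 4, 90257, 20),
  (45151, 6, 7251, 4),
  (45155, 6, 160005, 19),
  (45157, 5, 160006, 19),
  (45158, 6, 39034, 5),
  (45163, 6, 12737, 24),
  (45165, 4, 106842, 26),
  (45166, 6, 59514, 14),
  (45171, 6, 90254, 20),
  (45173, 6, 199713, 22),
  (45174, 5, 38966, 13),
  (45179, 6, 5241, 16),
  (45181, 6, 47137, 11),
  (45182, 4, 168412, 25),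
  (45187, 6, 5337, 8),
  (45189, 4, 200726, 26),
  (45190, 4, 200742, 26),
  (45195, 6, 196790, 26),
  (45197, 6, 168987, 21),
  (45198, 6, 112790, 7),
  (45203, 6, 196918, 26),
  (45205, 6, 90198, 23),
  (45206, 6, 155734, 23),
  (45211, 6, 65755, 6),
  (45213, 4, 43238, 23),
  (45214, 5, 110662, 3),
  (45217, 6, 159812, 19),
  (45218, 6, 196710, 26),
  (45220, 6, 159810, 19),
  (45223, 6, 111861, 16),
  (45225, 5, 249, 8),
  (45226, 6, 110644, 43),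
  (45228, 4, 159842, 19),
  (45231, 5, 120937, 43),
  (45233, 6, 166117, 25),
  (45234, 6, 206035, 24),
  (45236, 6, 126988, 13),
  (45239, 6, 129107, 17),
  (45241, 6, 197078, 26),
  (45242, 6, 94282, 4),
  (45244, 6, 53460, 12),
  (45247, 5, 120869, 43),
  (45251, 6, 153933, 22),
  (45253, 6, 176451, 21),
  (45254, 6, 110606, 15),
  (45259, 6, 204982, 20),
  (45261, 4, 164149, 25),
  (45262, 4, 43378, 23),
  (45267, 6, 111835, 12),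
  (45269, 5, 119873, 24),
  (45270, 6, 112714, 5),
  (45275, 6, 170085, 22),
  (45277, 6, 151918, 19),
  (45278, 6, 108618, 5),
  (45281, 5, 204970, 20),
  (45282, 6, 204972, 20),
  (45284, 5, 151838, 44),
  (45287, 6, 204975, 20),
  (45289, 4, 164261, 25),
  (45290, 6, 204988, 20),
  (45292, 6, 43123, 23),
  (45295, 6, 97477, 5),
  (45297, 5, 249, 4),
  (45298, 6, 126978, 4),
  (45300, 5, 127124, 14),
  (45303, 6, 190718, 26),
  (45305, 7, 221338, 20),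
  (45306, 6, 94298, 17),
  (45308, 6, 61620, 10),
  (45311, 5, 126011, 7),
  (45315, 5, 347, 11),
  (45317, 6, 165942, 25),
  (45318, 6, 6486, 4),
  (45323, 5, 177491, 4),
  (45325, 5, 178461, 2),
  (45326, 6, 73845, 20),
  (45331, 4, 90182, 20),
  (45333, 5, 178461, 12),
  (45334, 6, 90181, 20),
  (45339, 6, 90198, 20),
  (45341, 6, 184363, 21),
  (45342, 6, 217131, 21),
  (45345, 5, 377, 11),
  (45346, 4, 155722, 2),
  (45348, 6, 192892, 11),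
  (45351, 6, 195893, 2),
  (45353, 6, 73850, 20),
  (45354, 6, 159810, 2),
  (45356, 5, 166294, 25),
  (45359, 6, 170430, 25),
  (45361, 3, 90186, 20),
  (45362, 3, 90188, 20),
  (45364, 3, 156028, 10),
  (45367, 6, 186427, 14),
  (45369, 4, 166374, 25),
  (45370, 5, 26978, 40),
  (45372, 6, 160116, 10),
  (45375, 6, 170494, 25),
  (45379, 7, 167982, 25),
  (45381, 4, 217478, 19),
  (45382, 6, 217475, 19),
  (45387, 6, 14529, 24),
  (45389, 4, 164150, 25),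
  (45390, 6, 178462, 13),
  (45395, 4, 200726, 23),
  (45397, 4, 163958, 25),
  (45398, 6, 124993, 24),
  (45403, 6, 90326, 20),
  (45405, 6, 43230, 23),
  (45406, 6, 6490, 8),
  (45409, 6, 197713, 26),
  (45410, 6, 192794, 6),
  (45412, 6, 73961, 20),
  (45415, 7, 168126, 25),
  (45417, 5, 121061, 43),
  (45418, 5, 200750, 38),
  (45420, 3, 156028, 11),
  (45423, 6, 248875, 21),
  (45425, 7, 225676, 19),
  (45426, 6, 229674, 41),
  (45428, 5, 188764, 8),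
  (45431, 6, 119905, 41),
  (45433, 5, 216103, 38),
  (45434, 3, 156026, 1),
  (45436, 6, 37172, 1),
  (45439, 7, 96577, 24),
  (45441, 6, 196631, 26),
  (45442, 4, 161814, 23),
  (45444, 6, 168404, 7),
  (45447, 6, 242901, 16),
  (45449, 5, 217316, 19),
  (45450, 3, 205274, 6),
  (45452, 3, 205276, 6),
  (45455, 6, 250939, 21),
  (45457, 5, 120897, 43),
  (45458, 6, 74921, 21),
  (45460, 6, 139740, 10),
  (45463, 5, 244051, 17),
  (45465, 4, 10414, 23),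
  (45466, 6, 143570, 2),
  (45468, 6, 201095, 26),
  (45471, 6, 241735, 3),
  (45475, 6, 259377, 2),
  (45477, 6, 252049, 1),
  (45478, 6, 194746, 14),
  (45483, 6, 204926, 20),
  (45485, 6, 129477, 5),
  (45486, 6, 249974, 3),
  (45491, 6, 196983, 26),
  (45493, 7, 220399, 24),
  (45494, 6, 186554, 14),
  (45499, 6, 251193, 2),
  (45501, 6, 186427, 21),
  (45502, 5, 129334, 16),
  (45505, 6, 162077, 22),
  (45506, 6, 205028, 20),
  (45508, 6, 242076, 6),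
  (45511, 6, 7639, 15),
  (45513, 5, 10426, 23),
  (45514, 6, 196826, 10),
  (45516, 6, 66012, 2),
  (45519, 6, 43514, 23),
  (45521, 6, 204873, 3),
  (45522, 4, 474, 12),
  (45524, 4, 204876, 3),
  (45527, 6, 221383, 20),
  (45529, 6, 145445, 22),
  (45530, 5, 209242, 17),
  (45532, 5, 190806, 40),
  (45535, 6, 243813, 22),
  (45539, 5, 128299, 7),
  (45541, 6, 205035, 20),
  (45542, 6, 194810, 14),
  (45547, 6, 205054, 20),
  (45549, 5, 252121, 1),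
  (45550, 6, 190714, 14),
  (45555, 6, 198005, 26),
  (45557, 6, 44287, 23),
  (45558, 6, 244074, 5),
  (45563, 6, 81217, 24),
  (45565, 6, 113057, 11),
  (45566, 6, 239978, 5),
  (46085, 4, 192836, 25),
  (46087, 6, 75815, 20),
  (46093, 6, 46129, 41),
  (46095, 6, 37975, 3),
  (46101, 6, 37975, 16),
  (46103, 6, 74070, 23),
  (46109, 6, 118969, 24),
  (46111, 4, 174534, 23),
  (46113, 5, 169999, 43),
  (46115, 6, 213106, 26),
  (46121, 6, 213202, 26),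
  (46123, 6, 213234, 26),
  (46129, 5, 213330, 26),
  (46131, 5, 217420, 25),
  (46137, 4, 86340, 25),
  (46139, 4, 92190, 20),
  (46149, 6, 61649, 24),
  (46151, 4, 67926, 23),
  (46157, 6, 74042, 26),
  (46159, 6, 246213, 22),
  (46165, 6, 138279, 19),
  (46167, 4, 168052, 25),
  (46173, 6, 204858, 26),
  (46175, 6, 92311, 20),
  (46177, 6, 75946, 20),
  (46179, 6, 142739, 23),
  (46185, 6, 141459, 23),
  (46187, 5, 207269, 42),
  (46193, 6, 58427, 10),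
  (46195, 6, 24667, 5),
  (46201, 6, 54395, 2),
  (46203, 6, 141719, 23),
  (46209, 6, 111827, 16),
  (46211, 6, 213046, 26),
  (46217, 6, 111835, 16),
  (46219, 5, 219, 8),
  (46225, 6, 42185, 21),
  (46227, 6, 170085, 25),
  (46233, 6, 111827, 5),
  (46235, 6, 33947, 14),
  (46245, 6, 112815, 12),
  (46247, 7, 206895, 20),
  (46253, 6, 250939, 24),
  (46255, 6, 130123, 17),
  (46261, 6, 217430, 26),
  (46263, 5, 191801, 19),
  (46269, 5, 122963, 37),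
  (46271, 6, 128103, 3),
  (46273, 6, 46289, 24),
  (46275, 6, 186701, 22),
  (46281, 6, 33947, 8),
  (46283, 5, 170311, 43),
  (46289, 5, 219, 4),
  (46291, 6, 38107, 14),
  (46297, 6, 164205, 25),
  (46299, 7, 70737, 24),
  (46309, 6, 62929, 24),
  (46311, 6, 128159, 6),
  (46317, 5, 170073, 43),
  (46319, 6, 35007, 8),
  (46325, 6, 175351, 23),
  (46327, 6, 190686, 26),
  (46333, 6, 164349, 25),
  (46335, 7, 87377, 24),
  (46337, 6, 33003, 21),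
  (46339, 6, 213043, 26),
  (46345, 4, 75890, 20),
  (46347, 7, 170278, 25),
  (46353, 6, 213267, 26),
  (46355, 5, 177491, 17),
  (46361, 6, 104605, 24),
  (46363, 4, 141710, 23),
  (46373, 6, 178479, 12),
  (46375, 5, 170325, 43),
  (46381, 5, 122995, 37),
  (46383, 6, 194879, 2),
  (46389, 6, 224353, 22),
  (46391, 6, 170230, 25),
  (46397, 6, 58639, 13),
  (46399, 6, 186539, 21),
  (46401, 5, 177491, 2),
  (46403, 4, 76006, 20),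
  (46409, 4, 141466, 23),
  (46411, 6, 6569, 19),
  (46417, 6, 38113, 21),
  (46419, 6, 104529, 24),
  (46425, 6, 114859, 21),
  (46427, 6, 168294, 25),
  (46437, 5, 193821, 6),
  (46439, 6, 23925, 15),
  (46445, 6, 218321, 26),
  (46447, 6, 163147, 17),
  (46453, 6, 194627, 1),
  (46455, 6, 218481, 26),
  (46461, 6, 193847, 10),
  (46463, 6, 168438, 25),
  (46469, 6, 174555, 4),
  (46471, 6, 96598, 23),
  (46477, 6, 174314, 23),
  (46479, 6, 174570, 23),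
  (46485, 6, 238669, 3),
  (46487, 6, 110863, 13),
  (46493, 5, 101523, 40),
  (46495, 6, 242759, 3),
  (46497, 5, 206881, 42),
  (46499, 6, 251025, 1),
  (46505, 6, 242939, 16),
  (46507, 6, 213239, 26),
  (46513, 6, 213335, 26),
  (46515, 6, 142767, 23),
  (46521, 6, 61931, 15),
  (46523, 6, 250171, 2),
  (46533, 5, 219478, 23),
  (46535, 6, 88406, 23),
  (46541, 5, 170013, 43),
  (46543, 6, 239007, 6),
  (46549, 6, 217430, 23),
  (46551, 6, 243745, 22),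
  (46557, 5, 170065, 43),
  (46559, 6, 167131, 14),
  (46561, 6, 207082, 20),
  (46563, 6, 251089, 1),
  (46569, 6, 210171, 16),
  (46571, 6, 218227, 3),
  (46577, 6, 223434, 20),
  (46579, 6, 185595, 14),
  (46585, 6, 251259, 2),
  (46587, 6, 73041, 24),
  (47107, 5, 188764, 25),
  (47111, 5, 245833, 38),
  (47115, 6, 110649, 24),
  (47119, 4, 49500, 25),
  (47123, 5, 237590, 23),
  (47127, 6, 93361, 20),
  (47131, 6, 248037, 22),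
  (47135, 5, 47213, 43),
  (47137, 5, 157873, 39),
  (47138, 4, 3303, 22),
  (47141, 6, 59465, 5),
  (47142, 6, 61558, 8),
  (47145, 6, 6261, 11),
  (47146, 5, 200938, 26),
  (47149, 6, 52445, 40),
  (47150, 7, 66663, 22),
  (47153, 6, 11463, 23),
  (47154, 6, 205148, 25),
  (47157, 5, 95409, 20),
  (47158, 6, 63562, 10),
  (47161, 6, 90452, 25),
  (47162, 5, 117989, 22),
  (47165, 6, 36981, 4),
  (47166, 5, 43226, 44),
  (47171, 6, 149957, 22),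
  (47175, 6, 37975, 1),
  (47179, 7, 176428, 25),
  (47183, 6, 12513, 24),
  (47187, 6, 68663, 20),
  (47191, 4, 229462, 23),
  (47195, 6, 7257, 16),
  (47199, 6, 166117, 22),
  (47201, 5, 45522, 26),
  (47202, 4, 53730, 26),
  (47205, 6, 172212, 25),
  (47206, 6, 153930, 41),
  (47209, 6, 172452, 25),
  (47210, 5, 38966, 11),
  (47213, 4, 14650, 19),
  (47214, 6, 83015, 22),
  (47217, 6, 24669, 5),
  (47218, 6, 101601, 22),
  (47221, 6, 6261, 16),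
  (47222, 6, 59514, 16),
  (47225, 6, 6261, 4),
  (47226, 6, 61454, 4),
  (47229, 6, 134309, 22),
  (47230, 6, 63602, 16),
  (47233, 5, 200734, 26),
  (47234, 4, 190486, 23),
  (47237, 4, 125014, 23),
  (47238, 5, 110662, 17),
  (47241, 5, 112717, 17),
  (47242, 6, 202011, 21),
  (47245, 6, 119819, 24),
  (47246, 5, 178461, 25),
  (47249, 6, 39270, 19),
  (47250, 6, 108618, 3),
  (47253, 6, 174197, 25),
  (47254, 6, 110606, 5),
  (47257, 4, 201118, 26),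
  (47258, 4, 10661, 20),
  (47261, 6, 166186, 19),
  (47262, 4, 43302, 23),
  (47267, 5, 5373, 8),
  (47271, 6, 127047, 17),
  (47275, 6, 32175, 20),
  (47279, 6, 196862, 26),
  (47283, 5, 129111, 17),
  (47287, 6, 240845, 21),
  (47291, 6, 178669, 25),
  (47295, 5, 129127, 3),
  (47297, 6, 83251, 20),
  (47298, 6, 80086, 8),
  (47301, 6, 38113, 24),
  (47302, 6, 108618, 16),
  (47305, 6, 182350, 19),
  (47306, 5, 110662, 16),
  (47309, 5, 43186, 23),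
  (47310, 4, 88366, 26),
  (47313, 6, 46401, 21),
  (47314, 6, 153930, 40),
  (47317, 5, 112717, 13),
  (47318, 7, 180310, 23),
  (47321, 6, 186438, 19),
  (47322, 6, 110606, 4),
  (47325, 6, 43190, 23),
  (47326, 6, 39141, 22),
  (47331, 6, 89407, 20),
  (47335, 6, 63998, 26),
  (47339, 6, 129398, 26),
  (47343, 6, 13793, 24),
  (47347, 6, 246083, 38),
  (47351, 5, 163249, 20),
  (47355, 6, 161133, 19),
  (47359, 5, 5367, 4),
  (47361, 6, 112662, 23),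
  (47362, 6, 178190, 25),
  (47365, 5, 349, 11),
  (47366, 6, 196779, 21),
  (47369, 4, 84238, 19),
  (47370, 6, 6486, 11),
  (47373, 6, 196763, 26),
  (47374, 6, 73845, 22),
  (47377, 5, 71974, 19),
  (47378, 6, 35162, 12),
  (47381, 6, 157857, 22),
  (47382, 6, 125105, 20),
  (47385, 4, 174438, 25),
  (47386, 6, 178242, 3),
  (47389, 6, 120973, 24),
  (47390, 6, 174426, 1),
  (47395, 6, 178350, 25),
  (47399, 6, 44427, 23),
  (47403, 5, 6519, 11),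
  (47407, 6, 178622, 25),
  (47411, 6, 195591, 1),
  (47415, 5, 47385, 43),
  (47419, 5, 169313, 41),
  (47423, 6, 60685, 13),
  (47425, 7, 104470, 23),
  (47426, 6, 35102, 11),
  (47429, 5, 178461, 6),
  (47430, 6, 178462, 6),
  (47433, 6, 215054, 19),
  (47434, 6, 218529, 19),
  (47437, 6, 50475, 21),
  (47438, 6, 174366, 6),
  (47441, 6, 73193, 44),
  (47442, 6, 6486, 8),
  (47445, 6, 169057, 21),
  (47446, 6, 145754, 1),
  (47449, 6, 178253, 1),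
  (47450, 6, 218537, 19),
  (47453, 6, 2474, 19),
  (47454, 6, 6486, 12),
  (47459, 6, 194843, 6),
  (47463, 6, 47585, 24),
  (47467, 6, 39223, 11),
  (47471, 6, 176574, 25),
  (47475, 5, 191801, 10),
  (47479, 6, 193607, 1),
  (47483, 5, 47369, 43),
  (47487, 5, 193615, 1),
  (47491, 6, 211419, 6),
  (47495, 6, 260182, 23),
  (47499, 6, 60903, 20),
  (47503, 5, 196799, 26),
  (47507, 6, 144589, 8),
  (47511, 5, 196927, 26),
  (47515, 6, 243779, 3),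
  (47519, 5, 205849, 42),
  (47521, 6, 100734, 19),
  (47522, 6, 129526, 8),
  (47525, 5, 220239, 24),
  (47526, 6, 192702, 14),
  (47529, 6, 260429, 17),
  (47530, 5, 240695, 24),
  (47533, 6, 243965, 16),
  (47534, 5, 41182, 44),
  (47537, 6, 228513, 22),
  (47538, 6, 186558, 14),
  (47541, 5, 74221, 11),
  (47542, 6, 184510, 14),
  (47545, 6, 127445, 5),
  (47546, 6, 260194, 3),
  (47549, 6, 251313, 20),
  (47550, 5, 252337, 20),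
  (47555, 6, 243029, 2),
  (47559, 6, 244127, 6),
  (47563, 6, 10746, 23),
  (47567, 6, 218599, 19),
  (47571, 6, 13767, 15),
  (47575, 6, 191921, 20),
  (47579, 6, 218605, 19),
  (47583, 6, 241115, 12),
  (47585, 5, 252117, 1),
  (47586, 6, 121213, 20),
  (47589, 6, 178279, 21),
  (47590, 5, 47234, 43),
  (47593, 6, 128363, 20),
  (47594, 5, 127334, 16),
  (47597, 5, 157829, 39),
  (47598, 6, 219254, 3),
  (47601, 6, 186621, 14),
  (47602, 6, 229630, 7),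
  (47605, 6, 105825, 24),
  (47606, 5, 47310, 43),
  (47609, 6, 172519, 25),
  (47610, 6, 113062, 11),
  (47613, 7, 51515, 21),
  (47614, 5, 180478, 14),
  (48129, 6, 69753, 24),
  (48131, 7, 108822, 23),
  (48133, 6, 3373, 19),
  (48135, 5, 108886, 23),
  (48137, 4, 141506, 23),
  (48139, 6, 37981, 15),
  (48141, 6, 213146, 26),
  (48143, 6, 213178, 26),
  (48145, 6, 7257, 6),
  (48147, 7, 160092, 25),
  (48149, 6, 213274, 26),
  (48151, 4, 151900, 25),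
  (48153, 4, 29012, 25),
  (48155, 6, 11427, 20),
  (48157, 6, 213402, 26),
  (48159, 6, 37259, 21),
  (48193, 4, 172076, 25),
  (48195, 6, 85043, 20),
  (48197, 6, 45297, 24),
  (48199, 6, 25749, 20),
  (48201, 6, 172332, 25),
  (48203, 6, 7251, 3),
  (48205, 4, 174226, 23),
  (48207, 6, 7257, 15),
  (48209, 6, 37975, 2),
  (48211, 6, 118897, 24),
  (48213, 6, 37981, 14),
  (48215, 6, 102513, 24),
  (48217, 6, 94321, 24),
  (48219, 4, 141782, 23),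
  (48221, 4, 133349, 22),
  (48223, 6, 33163, 21),
  (48289, 6, 217182, 26),
  (48291, 6, 217214, 26),
  (48293, 6, 128069, 17),
  (48295, 6, 42237, 4),
  (48297, 6, 30127, 20),
  (48299, 6, 169455, 22),
  (48301, 6, 213214, 26),
  (48303, 6, 178613, 25),
  (48305, 6, 61671, 15),
  (48307, 6, 129035, 13),
  (48309, 6, 218331, 24),
  (48311, 6, 128087, 17),
  (48313, 5, 220389, 22),
  (48315, 7, 253093, 22),
  (48317, 6, 213470, 26),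
  (48319, 6, 38133, 4),
  (48353, 6, 97349, 17),
  (48355, 6, 37055, 8),
  (48357, 6, 47614, 26),
  (48359, 6, 95303, 17),
  (48361, 6, 113014, 26),
  (48363, 6, 97359, 17),
  (48365, 5, 251151, 22),
  (48367, 6, 47419, 19),
  (48369, 6, 178422, 26),
  (48371, 6, 3325, 4),
  (48373, 6, 138465, 22),
  (48375, 6, 194782, 26),
  (48377, 6, 243830, 26),
  (48379, 6, 7413, 4),
  (48381, 5, 126031, 13),
  (48383, 6, 260190, 26),
  (48417, 6, 3453, 11),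
  (48419, 6, 178342, 25),
  (48421, 6, 174270, 25),
  (48423, 6, 241015, 22),
  (48425, 6, 174510, 25),
  (48427, 6, 192831, 2),
  (48429, 6, 213211, 26),
  (48431, 6, 260109, 24),
  (48433, 6, 159099, 10),
  (48435, 5, 191595, 3),
  (48437, 6, 213339, 26),
  (48439, 6, 128181, 20),
  (48441, 6, 194575, 1),
  (48443, 6, 178662, 25),
  (48445, 6, 192527, 1),
  (48447, 6, 193549, 1),
  (48481, 6, 193911, 2),
  (48483, 6, 36159, 11),
  (48485, 6, 184407, 1),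
  (48487, 6, 175515, 23),
  (48489, 6, 172462, 25),
  (48491, 6, 146805, 4),
  (48493, 7, 255255, 22),
  (48495, 6, 38199, 11),
  (48497, 6, 185719, 2),
  (48499, 6, 218489, 26),
  (48501, 6, 192583, 1),
  (48503, 6, 137335, 16),
  (48505, 6, 194639, 1),
  (48507, 6, 11707, 19),
  (48509, 6, 32083, 5),
  (48511, 6, 257461, 40),
  (48513, 6, 228363, 44),
  (48515, 5, 243923, 16),
  (48517, 6, 212445, 6),
  (48519, 6, 97359, 24),
  (48521, 6, 175261, 14),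
  (48523, 6, 113711, 24),
  (48525, 6, 39387, 15),
  (48527, 6, 213183, 26),
  (48529, 6, 242079, 12),
  (48531, 6, 178279, 25),
  (48533, 6, 243029, 17),
  (48535, 6, 194721, 22),
  (48537, 6, 250299, 21),
  (48539, 6, 77149, 7),
  (48541, 6, 213407, 26),
  (48543, 6, 241049, 12),
  (48577, 6, 45539, 21),
  (48579, 6, 195037, 22),
  (48581, 6, 252246, 23),
  (48583, 5, 244051, 2),
  (48585, 6, 241049, 6),
  (48587, 6, 203859, 3),
  (48589, 6, 6619, 15),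
  (48591, 6, 7641, 15),
  (48593, 6, 177295, 8),
  (48595, 6, 207947, 3),
  (48597, 6, 207949, 3),
  (48599, 6, 119126, 23),
  (48601, 6, 141566, 23),
  (48603, 6, 239069, 12),
  (48605, 6, 174270, 23),
  (48607, 6, 241113, 12),
  (49155, 5, 197009, 23),
  (49157, 6, 36882, 26),
  (49158, 4, 155953, 24),
  (49161, 5, 6209, 21),
  (49162, 4, 139313, 19),
  (49164, 5, 209370, 37),
  (49167, 6, 37042, 26),
  (49169, 4, 6210, 21),
  (49170, 4, 139665, 24),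
  (49172, 5, 147873, 24),
  (49175, 6, 6594, 21),
  (49176, 5, 6147, 21),
  (49179, 6, 5241, 10),
  (49181, 6, 37266, 26),
  (49182, 4, 237708, 25),
  (49187, 4, 204817, 23),
  (49189, 6, 51201, 14),
  (49190, 5, 24881, 24),
  (49193, 5, 6213, 21),
  (49194, 4, 131121, 19),
  (49196, 5, 8606, 43),
  (49199, 6, 131127, 19),
  (49201, 4, 6214, 21),
  (49202, 5, 8593, 24),
  (49204, 5, 16801, 24),
  (49207, 6, 86063, 20),
  (49208, 4, 6151, 21),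
  (49211, 6, 33266, 26),
  (49213, 6, 131134, 19),
  (49214, 6, 30842, 11),
  (49219, 4, 205185, 23),
  (49221, 6, 51201, 11),
  (49222, 4, 155649, 24),
  (49225, 4, 6217, 21),
  (49226, 4, 139569, 19),
  (49228, 6, 49196, 14),
  (49231, 4, 90362, 26),
  (49233, 4, 6218, 21),
  (49234, 5, 204929, 24),
  (49236, 4, 213121, 24),
  (49239, 3, 156026, 26),
  (49240, 5, 6155, 21),
  (49243, 6, 139581, 19),
  (49245, 3, 205274, 26),
  (49246, 4, 213482, 26),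
  (49251, 4, 196625, 23),
  (49253, 6, 16485, 16),
  (49254, 4, 155905, 24),
  (49257, 4, 6221, 21),
  (49258, 5, 131377, 19),
  (49260, 6, 36972, 8),
  (49263, 4, 229478, 22),
  (49265, 4, 6222, 21),
  (49266, 4, 205185, 24),
  (49268, 4, 213377, 24),
  (49271, 7, 131359, 19),
  (49272, 4, 6159, 21),
  (49275, 6, 5241, 5),
  (49277, 6, 131390, 19),
  (49278, 6, 63602, 5),
  (49281, 4, 82097, 23),
  (49282, 4, 73868, 21),
  (49284, 5, 36870, 26),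
  (49287, 5, 117989, 5),
  (49288, 7, 32902, 26),
  (49291, 4, 200726, 20),
  (49293, 6, 39073, 14),
  (49294, 6, 121062, 10),
  (49296, 6, 98480, 4),
  (49299, 6, 14546, 21),
  (49301, 5, 245, 10),
  (49302, 6, 35062, 1),
  (49305, 6, 139388, 19),
  (49306, 5, 182290, 41),
  (49308, 6, 8428, 5),
  (49311, 5, 5373, 10),
  (49313, 5, 90129, 23),
  (49314, 4, 155665, 23),
  (49316, 3, 36934, 26),
  (49319, 6, 200719, 20),
  (49320, 6, 32966, 26),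
  (49323, 5, 200734, 20),
  (49325, 6, 37078, 26),
  (49326, 6, 6378, 2),
  (49328, 6, 82000, 7),
  (49331, 4, 217134, 20),
  (49333, 6, 217131, 20),
  (49334, 5, 45442, 37),
  (49337, 6, 33238, 26),
  (49338, 6, 24810, 13),
  (49340, 6, 14615, 21),
  (49343, 6, 21725, 10),
  (49345, 4, 90273, 23),
  (49346, 4, 155937, 23),
  (49348, 5, 2126, 26),
  (49351, 4, 242116, 21),
  (49352, 6, 49424, 19),
  (49355, 6, 177153, 24),
  (49357, 6, 139638, 19),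
  (49358, 6, 189441, 24),
  (49360, 6, 82000, 6),
  (49363, 6, 158070, 26),
  (49365, 6, 73845, 3),
  (49366, 6, 139611, 19),
  (49369, 6, 217266, 20),
  (49370, 6, 238721, 24),
  (49372, 6, 139642, 19),
  (49375, 6, 52653, 22),
  (49377, 5, 81937, 23),
  (49378, 4, 147473, 23),
  (49380, 4, 34830, 26),
  (49383, 4, 233570, 22),
  (49384, 7, 100486, 26),
  (49387, 6, 14557, 21),
  (49389, 4, 200742, 22),
  (49390, 6, 39082, 2),
  (49392, 6, 98480, 14),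
  (49395, 6, 50475, 22),
  (49397, 6, 124997, 2),
  (49398, 6, 90198, 3),
  (49401, 7, 217274, 20),
  (49402, 6, 94298, 3),
  (49404, 6, 90348, 16),
  (49407, 6, 126029, 2),
  (49409, 6, 204948, 19),
  (49410, 4, 204945, 19),
  (49412, 4, 36867, 26),
  (49415, 6, 3427, 7),
  (49416, 4, 147856, 19),
  (49419, 5, 141682, 22),
  (49421, 6, 186733, 24),
  (49422, 4, 71966, 25),
  (49424, 5, 188790, 41),
  (49427, 6, 50449, 22),
  (49429, 6, 104605, 23),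
  (49430, 6, 37155, 26),
  (49433, 6, 204988, 19),
  (49434, 6, 52245, 22),
  (49436, 4, 67926, 25),
  (49439, 6, 7539, 7),
  (49441, 6, 33121, 5),
  (49442, 4, 196753, 19),
  (49444, 4, 36931, 26),
  (49447, 5, 249900, 21),
  (49448, 4, 196784, 19),
  (49451, 7, 38177, 13),
  (49453, 6, 196790, 19),
  (49454, 7, 260470, 41),
  (49456, 6, 49424, 16),
  (49459, 6, 196765, 19),
  (49461, 6, 59733, 15),
  (49462, 6, 196763, 19),
  (49465, 4, 86138, 20),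
  (49466, 5, 192602, 3),
  (49468, 4, 380, 14),
  (49471, 5, 196799, 19),
  (49473, 6, 69826, 20),
  (49474, 4, 205201, 19),
  (49476, 4, 37889, 26),
  (49479, 6, 205207, 19),
  (49480, 5, 16784, 19),
  (49483, 6, 178177, 24),
  (49485, 6, 39201, 7),
  (49486, 6, 38049, 26),
  (49488, 5, 33142, 41),
  (49491, 6, 205213, 19),
  (49493, 4, 205214, 19),
  (49494, 6, 190726, 13),
  (49497, 5, 192529, 8),
  (49498, 5, 86260, 20),
  (49500, 3, 156028, 7),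
  (49503, 6, 163147, 4),
  (49505, 6, 49196, 21),
  (49506, 5, 197009, 19),
  (49508, 4, 37953, 26),
  (49511, 5, 69822, 25),
  (49512, 4, 197040, 19),
  (49515, 6, 34033, 26),
  (49517, 6, 186625, 24),
  (49518, 6, 182574, 13),
  (49520, 6, 49424, 7),
  (49523, 6, 1393, 5),
  (49525, 6, 65782, 25),
  (49526, 6, 155734, 3),
  (49529, 6, 86266, 20),
  (49530, 6, 34273, 26),
  (49532, 5, 188764, 9),
  (49535, 6, 194627, 14),
  (49539, 6, 146719, 24),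
  (49541, 6, 118969, 23),
  (49542, 3, 213478, 6),
  (49545, 6, 67879, 25),
  (49546, 6, 175447, 24),
  (49548, 4, 80058, 22),
  (49551, 6, 232749, 2),
  (49553, 6, 90577, 11),
  (49554, 6, 205017, 19),
  (49556, 6, 205018, 19),
  (49559, 6, 31186, 21),
  (49560, 6, 156104, 13),
  (49563, 6, 205053, 19),
  (49565, 6, 127285, 13),
  (49566, 6, 260342, 10),
  (49571, 6, 71855, 25),
  (49573, 6, 196822, 19),
  (49574, 6, 245830, 3),
  (49577, 6, 250273, 12),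
  (49578, 5, 250146, 5),
  (49580, 6, 37356, 12),
  (49583, 6, 258150, 22),
  (49585, 6, 67815, 25),
  (49586, 6, 156130, 13),
  (49588, 6, 90468, 1),
  (49591, 6, 60887, 15),
  (49592, 6, 74104, 4),
  (49595, 6, 194027, 4),
  (49597, 6, 196862, 19),
  (49598, 5, 137466, 2),
  (49603, 5, 160090, 22),
  (49605, 4, 205270, 19),
  (49606, 6, 196710, 3),
  (49609, 5, 489, 15),
  (49610, 4, 200916, 20),
  (49612, 6, 249860, 15),
  (49615, 6, 121227, 11),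
  (49617, 3, 205276, 19),
  (49618, 5, 217316, 20),
  (49620, 3, 205274, 19),
  (49623, 6, 249303, 12),
  (49624, 6, 74216, 8),
  (49627, 6, 193681, 8),
  (49629, 6, 65911, 25),
  (49630, 6, 186554, 2),
  (49635, 4, 114748, 21),
  (49637, 6, 197078, 19),
  (49638, 4, 486, 12),
  (49641, 7, 197108, 19),
  (49642, 6, 233890, 6),
  (49644, 5, 217412, 11),
  (49647, 6, 38133, 26),
  (49649, 5, 204161, 24),
  (49650, 5, 30878, 21),
  (49652, 6, 216449, 24),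
  (49655, 7, 50619, 22),
  (49656, 6, 196984, 17),
  (49659, 6, 245121, 24),
  (49661, 6, 217339, 20),
  (49662, 5, 199034, 17),
  (50177, 4, 65937, 23),
  (50179, 4, 196753, 23),
  (50189, 7, 53394, 26),
  (50191, 5, 53426, 26),
  (50197, 6, 127108, 25),
  (50199, 5, 60465, 1),
  (50201, 6, 54395, 5),
  (50203, 6, 198807, 23),
  (50209, 4, 205073, 23),
  (50211, 5, 74001, 23),
  (50221, 6, 213094, 22),
  (50223, 4, 245798, 22),
  (50229, 7, 60417, 14),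
  (50231, 4, 61580, 25),
  (50233, 4, 184452, 25),
  (50235, 4, 88126, 20),
  (50241, 4, 74113, 23),
  (50243, 4, 24658, 26),
  (50253, 5, 192529, 24),
  (50255, 6, 184337, 24),
  (50261, 6, 139642, 26),
  (50263, 6, 7441, 19),
  (50265, 6, 65900, 25),
  (50267, 6, 71883, 21),
  (50273, 5, 196881, 23),
  (50275, 4, 65809, 23),
  (50285, 5, 158775, 19),
  (50287, 6, 27905, 19),
  (50293, 5, 60465, 11),
  (50295, 6, 72142, 21),
  (50297, 6, 24667, 15),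
  (50299, 6, 68883, 23),
  (50309, 4, 233898, 22),
  (50311, 5, 231, 10),
  (50313, 6, 38049, 14),
  (50315, 6, 182545, 19),
  (50321, 6, 50505, 22),
  (50323, 6, 215221, 23),
  (50333, 6, 53654, 26),
  (50335, 6, 194027, 24),
  (50341, 6, 53334, 26),
  (50343, 6, 249890, 22),
  (50345, 6, 38235, 24),
  (50347, 6, 119883, 3),
  (50353, 6, 67821, 25),
  (50355, 6, 80086, 21),
  (50365, 6, 53718, 26),
  (50367, 6, 97531, 11),
  (50373, 6, 175175, 19),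
  (50375, 6, 36113, 19),
  (50377, 5, 235, 15),
  (50379, 6, 186698, 22),
  (50385, 6, 178253, 19),
  (50387, 4, 158038, 26),
  (50397, 6, 125179, 1),
  (50399, 6, 251025, 24),
  (50405, 6, 117831, 2),
  (50407, 5, 117989, 12),
  (50409, 6, 177425, 24),
  (50411, 4, 125078, 26),
  (50417, 6, 24803, 4),
  (50419, 6, 80094, 21),
  (50429, 5, 126031, 2),
  (50431, 6, 256414, 26),
  (50437, 6, 102809, 23),
  (50439, 4, 229740, 21),
  (50441, 6, 71762, 20),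
  (50443, 5, 71974, 25),
  (50449, 5, 371, 7),
  (50451, 6, 1393, 7),
  (50461, 6, 125099, 39),
  (50463, 6, 195053, 24),
  (50469, 6, 182567, 12),
  (50471, 7, 184492, 21),
  (50473, 6, 39261, 24),
  (50475, 5, 185633, 12),
  (50481, 6, 189441, 14),
  (50483, 6, 147795, 10),
  (50493, 6, 97599, 19),
  (50495, 6, 163201, 19),
  (50501, 6, 65598, 25),
  (50503, 4, 69686, 25),
  (50505, 5, 185633, 6),
  (50507, 6, 88265, 21),
  (50513, 6, 210957, 19),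
  (50515, 6, 155715, 16),
  (50525, 6, 228399, 19),
  (50527, 6, 252049, 24),
  (50533, 6, 65726, 25),
  (50535, 6, 147559, 16),
  (50537, 6, 139366, 22),
  (50539, 6, 70054, 25),
  (50545, 6, 88298, 20),
  (50547, 5, 371, 5),
  (50557, 6, 260497, 24),
  (50559, 6, 189551, 38),
  (50561, 6, 202818, 20),
  (50563, 6, 34273, 15),
  (50573, 6, 244154, 22),
  (50575, 6, 218599, 6),
  (50581, 6, 53527, 26),
  (50583, 6, 257201, 1),
  (50585, 6, 250259, 12),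
  (50587, 6, 219254, 20),
  (50593, 4, 159842, 22),
  (50595, 6, 147907, 10),
  (50605, 6, 126327, 19),
  (50607, 6, 191873, 19),
  (50613, 6, 96598, 21),
  (50615, 6, 96726, 21),
  (50617, 6, 219258, 20),
  (50619, 6, 251313, 12),
  (50625, 6, 147907, 4),
  (50627, 6, 69671, 25),
  (50637, 5, 251301, 6),
  (50639, 6, 260570, 22),
  (50645, 6, 191639, 8),
  (50647, 6, 126355, 11),
  (50649, 6, 96687, 23),
  (50651, 6, 219382, 20),
  (50657, 6, 146705, 24),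
  (50659, 6, 50293, 26),
  (50669, 6, 252391, 12),
  (50671, 7, 70071, 25),
  (50677, 6, 219371, 20),
  (50679, 6, 159201, 4),
  (50681, 6, 193715, 8),
  (50683, 6, 19839, 22),
  (51201, 5, 123905, 39),
  (51202, 4, 139569, 24),
  (51205, 6, 51201, 12),
  (51206, 4, 155921, 24),
  (51211, 6, 38951, 14),
  (51215, 4, 199010, 22),
  (51219, 5, 60465, 13),
  (51223, 6, 160153, 24),
  (51225, 6, 6261, 7),
  (51226, 6, 61454, 7),
  (51229, 6, 85381, 22),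
  (51230, 5, 180692, 37),
  (51233, 6, 16485, 8),
  (51234, 5, 8497, 24),
  (51237, 6, 32858, 26),
  (51238, 5, 24849, 24),
  (51243, 6, 37114, 26),
  (51247, 5, 124145, 39),
  (51251, 5, 57500, 25),
  (51255, 6, 68777, 20),
  (51257, 6, 37338, 26),
  (51258, 5, 63542, 5),
  (51261, 6, 74921, 20),
  (51262, 6, 33258, 26),
  (51265, 6, 16485, 5),
  (51266, 5, 155681, 24),
  (51269, 6, 16485, 17),
  (51270, 5, 139297, 24),
  (51275, 6, 238019, 23),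
  (51279, 6, 140599, 19),
  (51283, 6, 160114, 26),
  (51287, 6, 160122, 26),
  (51289, 6, 74084, 25),
  (51290, 6, 174407, 23),
  (51293, 4, 22802, 19),
  (51294, 6, 39034, 16),
  (51297, 6, 45074, 26),
  (51298, 4, 155937, 24),
  (51301, 6, 16485, 4),
  (51302, 4, 139553, 24),
  (51307, 6, 127154, 26),
  (51311, 6, 38951, 6),
  (51315, 6, 137422, 21),
  (51319, 5, 60465, 8),
  (51321, 6, 24669, 15),
  (51322, 5, 78284, 25),
  (51325, 6, 59465, 2),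
  (51326, 6, 61558, 5),
  (51331, 6, 3471, 20),
  (51335, 6, 140375, 19),
  (51337, 6, 137642, 22),
  (51338, 6, 6378, 22),
  (51341, 4, 182546, 19),
  (51342, 6, 88294, 6),
  (51345, 6, 136619, 24),
  (51346, 6, 37166, 26),
  (51349, 6, 2293, 10),
  (51350, 6, 90326, 11),
  (51355, 6, 7417, 10),
  (51359, 5, 124113, 39),
  (51363, 6, 80045, 25),
  (51367, 5, 117989, 16),
  (51369, 7, 38251, 24),
  (51370, 6, 132209, 19),
  (51373, 6, 160941, 38),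
  (51374, 6, 120842, 16),
  (51377, 5, 109571, 41),
  (51378, 6, 132185, 19),
  (51381, 6, 90357, 11),
  (51382, 3, 90358, 11),
  (51387, 6, 119991, 12),
  (51391, 7, 80381, 25),
  (51395, 4, 152010, 22),
  (51399, 6, 30846, 26),
  (51401, 5, 237, 15),
  (51402, 6, 88294, 26),
  (51405, 6, 80094, 26),
  (51406, 6, 145801, 20),
  (51409, 6, 125173, 1),
  (51410, 3, 90358, 10),
  (51413, 6, 73845, 25),
  (51414, 6, 145818, 21),
  (51419, 5, 109653, 41),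
  (51423, 6, 242849, 24),
  (51427, 5, 63542, 26),
  (51431, 5, 98588, 21),
  (51433, 5, 185633, 24),
  (51434, 6, 6378, 12),
  (51437, 6, 112798, 26),
  (51438, 6, 121006, 26),
  (51441, 6, 218529, 24),
  (51442, 6, 78029, 25),
  (51445, 6, 24805, 4),
  (51446, 4, 145822, 21),
  (51451, 6, 63687, 14),
  (51455, 6, 127167, 11),
  (51459, 6, 205973, 19),
  (51463, 6, 162077, 24),
  (51465, 6, 6501, 7),
  (51466, 5, 184334, 7),
  (51469, 6, 35177, 15),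
  (51470, 4, 75890, 22),
  (51473, 6, 153666, 21),
  (51474, 6, 79950, 25),
  (51477, 6, 182545, 12),
  (51478, 5, 219302, 42),
  (51483, 6, 191561, 16),
  (51487, 5, 124129, 39),
  (51491, 4, 80046, 25),
  (51495, 6, 197783, 19),
  (51497, 6, 39201, 13),
  (51498, 6, 39274, 12),
  (51501, 6, 186657, 12),
  (51502, 6, 59733, 24),
  (51505, 4, 76006, 25),
  (51506, 6, 37227, 26),
  (51509, 6, 22925, 24),
  (51510, 5, 57670, 8),
  (51515, 6, 38269, 5),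
  (51519, 6, 197823, 19),
  (51523, 6, 156114, 22),
  (51527, 6, 182567, 6),
  (51529, 5, 365, 15),
  (51530, 7, 78094, 25),
  (51533, 6, 186369, 8),
  (51534, 6, 39274, 16),
  (51537, 6, 35125, 7),
  (51538, 4, 153738, 21),
  (51541, 6, 6546, 19),
  (51542, 6, 35186, 16),
  (51547, 5, 124067, 39),
  (51551, 6, 38199, 7),
  (51555, 6, 237794, 22),
  (51559, 4, 114988, 21),
  (51561, 6, 74150, 25),
  (51562, 6, 153674, 3),
  (51565, 6, 153933, 21),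
  (51566, 6, 184390, 14),
  (51569, 6, 182545, 10),
  (51570, 6, 133494, 17),
  (51573, 6, 34137, 26),
  (51574, 5, 153998, 21),
  (51579, 5, 78318, 25),
  (51583, 6, 44201, 20),
  (51585, 6, 75815, 25),
  (51586, 6, 147910, 13),
  (51589, 6, 209210, 22),
  (51590, 6, 204972, 21),
  (51595, 6, 37055, 26),
  (51599, 6, 211322, 22),
  (51603, 6, 162002, 21),
  (51607, 5, 249235, 12),
  (51609, 6, 37279, 26),
  (51610, 5, 63978, 12),
  (51613, 6, 162001, 8),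
  (51614, 6, 191959, 24),
  (51617, 5, 108886, 19),
  (51618, 5, 71982, 43),
  (51621, 5, 247877, 3),
  (51622, 6, 86332, 21),
  (51627, 6, 258278, 22),
  (51631, 6, 162261, 21),
  (51635, 6, 162006, 21),
  (51639, 6, 162262, 21),
  (51641, 6, 195053, 4),
  (51642, 5, 241910, 10),
  (51645, 5, 252337, 12),
  (51646, 4, 12502, 41),
  (51649, 5, 248225, 6),
  (51650, 4, 28890, 22),
  (51653, 6, 94441, 23),
  (51654, 6, 215266, 10),
  (51659, 6, 252323, 6),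
  (51663, 6, 3563, 15),
  (51667, 6, 162010, 21),
  (51671, 6, 162266, 21),
  (51673, 6, 38301, 26),
  (51674, 6, 186558, 2),
  (51677, 6, 194705, 8),
  (51678, 6, 184510, 2),
  (51681, 6, 37981, 26),
  (51682, 6, 147910, 1),
  (51685, 5, 49468, 21),
  (51686, 6, 198099, 19),
  (51691, 5, 124035, 39),
  (51695, 6, 250963, 23),
  (51699, 6, 38269, 26),
  (51703, 6, 196983, 17),
  (51705, 6, 38365, 26),
  (51706, 6, 38381, 26),
  (51709, 5, 34269, 26),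
  (51710, 6, 251958, 15),
  (52233, 5, 166306, 22),
  (52235, 6, 229587, 23),
  (52237, 6, 27941, 19),
  (52239, 7, 231778, 22),
  (52241, 5, 127124, 25),
  (52243, 6, 143785, 24),
  (52245, 5, 60487, 16),
  (52247, 6, 203202, 21),
  (52265, 5, 53466, 26),
  (52267, 6, 45417, 24),
  (52269, 6, 238931, 23),
  (52271, 6, 38951, 13),
  (52273, 6, 202822, 21),
  (52275, 6, 23683, 20),
  (52277, 4, 53396, 25),
  (52279, 6, 203206, 21),
  (52297, 5, 245833, 42),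
  (52299, 6, 7275, 3),
  (52301, 4, 248066, 22),
  (52303, 6, 18707, 19),
  (52305, 4, 143730, 26),
  (52307, 6, 7443, 19),
  (52309, 6, 146445, 19),
  (52311, 5, 160090, 26),
  (52329, 6, 192817, 24),
  (52331, 4, 127122, 26),
  (52333, 5, 47213, 40),
  (52335, 6, 99667, 23),
  (52337, 6, 116067, 22),
  (52339, 5, 60487, 14),
  (52341, 6, 203086, 21),
  (52343, 6, 192794, 26),
  (52353, 6, 53278, 26),
  (52355, 7, 53310, 26),
  (52357, 4, 172236, 21),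
  (52359, 6, 237644, 21),
  (52377, 6, 125119, 1),
  (52379, 6, 97507, 6),
  (52381, 6, 185819, 24),
  (52383, 6, 49598, 26),
  (52385, 5, 233884, 21),
  (52387, 6, 73193, 43),
  (52389, 4, 151778, 22),
  (52391, 6, 117831, 3),
  (52409, 6, 88151, 7),
  (52411, 6, 22747, 10),
  (52413, 6, 125963, 2),
  (52415, 6, 211415, 21),
  (52417, 5, 231, 15),
  (52419, 5, 117989, 1),
  (52421, 6, 73789, 25),
  (52423, 6, 136589, 20),
  (52441, 6, 211446, 26),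
  (52443, 6, 126205, 1),
  (52445, 5, 74109, 25),
  (52447, 6, 211419, 21),
  (52449, 6, 246033, 23),
  (52451, 6, 72963, 20),
  (52453, 6, 175189, 19),
  (52455, 6, 33180, 21),
  (52473, 5, 74221, 25),
  (52475, 6, 251313, 24),
  (52477, 5, 205849, 37),
  (52479, 6, 128191, 11),
  (52481, 5, 157873, 38),
  (52483, 5, 79910, 25),
  (52485, 6, 35171, 15),
  (52487, 6, 237938, 22),
  (52505, 5, 6519, 7),
  (52507, 6, 178669, 24),
  (52509, 6, 186845, 24),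
  (52511, 6, 80246, 25),
  (52513, 6, 53339, 26),
  (52515, 6, 147559, 8),
  (52517, 6, 155874, 22),
  (52519, 6, 35171, 5),
  (52537, 5, 191595, 16),
  (52539, 6, 246083, 42),
  (52541, 6, 118231, 22),
  (52543, 6, 219591, 21),
  (52545, 6, 181255, 8),
  (52547, 6, 188882, 22),
  (52549, 6, 52445, 41),
  (52551, 4, 233572, 21),
  (52569, 6, 158795, 16),
  (52571, 6, 78182, 25),
  (52573, 6, 74110, 25),
  (52575, 6, 22931, 19),
  (52577, 5, 162097, 24),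
  (52579, 6, 35171, 13),
  (52581, 6, 3427, 5),
  (52583, 6, 102737, 23),
  (52601, 6, 128087, 20),
  (52603, 5, 252337, 24),
  (52605, 5, 191819, 2),
  (52607, 5, 6523, 5),
  (52617, 6, 178618, 22),
  (52619, 6, 249005, 1),
  (52621, 5, 35307, 15),
  (52623, 6, 36329, 15),
  (52625, 6, 227410, 21),
  (52627, 5, 240755, 3),
  (52629, 6, 257223, 16),
  (52631, 6, 240759, 3),
  (52649, 6, 253001, 3),
  (52651, 5, 251301, 12),
  (52653, 5, 169313, 44),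
  (52655, 5, 47369, 40),
  (52657, 6, 260369, 23),
  (52659, 6, 232823, 17),
  (52661, 6, 158963, 8),
  (52663, 6, 83419, 22),
  (52681, 6, 54429, 26),
  (52683, 6, 52627, 19),
  (52685, 6, 260378, 22),
  (52687, 6, 260442, 22),
  (52689, 5, 243791, 19),
  (52691, 6, 118091, 20),
  (52693, 6, 126327, 13),
  (52695, 5, 157829, 38),
  (52713, 5, 47385, 40),
  (52715, 6, 220235, 3),
  (52717, 6, 185541, 14),
  (52719, 5, 220239, 3),
  (52721, 5, 25047, 15),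
  (52723, 6, 48515, 19),
  (52725, 6, 212401, 24),
  (52727, 7, 165293, 20),
  (53249, 4, 32845, 21),
  (53250, 4, 155665, 19),
  (53252, 6, 36972, 11),
  (53255, 6, 7275, 7),
  (53257, 4, 38925, 21),
  (53258, 4, 155697, 19),
  (53260, 6, 49196, 13),
  (53263, 6, 90508, 25),
  (53267, 6, 24667, 11),
  (53269, 6, 59465, 4),
  (53270, 4, 102690, 26),
  (53275, 6, 200087, 23),
  (53277, 6, 19841, 22),
  (53278, 5, 38966, 16),
  (53281, 4, 34889, 21),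
  (53282, 4, 147473, 19),
  (53284, 6, 49196, 17),
  (53287, 4, 102514, 26),
  (53289, 4, 36877, 21),
  (53290, 4, 147505, 19),
  (53292, 6, 36972, 7),
  (53295, 5, 178509, 40),
  (53299, 5, 180620, 25),
  (53301, 7, 102738, 26),
  (53302, 6, 63546, 5),
  (53307, 4, 94270, 20),
  (53309, 6, 94267, 20),
  (53310, 6, 39034, 17),
  (53313, 4, 36933, 21),
  (53314, 4, 155921, 19),
  (53316, 6, 36972, 4),
  (53319, 6, 7271, 15),
  (53321, 4, 155956, 19),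
  (53322, 4, 155953, 19),
  (53324, 5, 33142, 38),
  (53327, 6, 155959, 19),
  (53331, 6, 208261, 23),
  (53333, 6, 196724, 25),
  (53334, 5, 63542, 4),
  (53339, 5, 208263, 23),
  (53341, 4, 155966, 19),
  (53342, 4, 201052, 25),
  (53345, 4, 38977, 21),
  (53346, 5, 147729, 19),
  (53348, 6, 36972, 13),
  (53351, 6, 192833, 24),
  (53353, 5, 32781, 21),
  (53354, 5, 147761, 19),
  (53356, 5, 188486, 38),
  (53359, 6, 197713, 23),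
  (53363, 6, 24667, 3),
  (53365, 6, 24669, 3),
  (53366, 6, 63562, 14),
  (53371, 6, 94398, 20),
  (53373, 6, 6261, 5),
  (53374, 6, 59514, 5),
  (53379, 6, 137582, 22),
  (53381, 5, 237, 10),
  (53382, 6, 120842, 5),
  (53387, 4, 208918, 20),
  (53389, 5, 201134, 22),
  (53390, 6, 189747, 24),
  (53393, 5, 249, 10),
  (53394, 6, 37114, 1),
  (53396, 3, 90188, 1),
  (53399, 6, 102710, 26),
  (53401, 7, 225330, 20),
  (53402, 5, 122906, 5),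
  (53404, 6, 82012, 15),
  (53407, 6, 102838, 26),
  (53411, 4, 98422, 26),
  (53413, 6, 21867, 24),
  (53414, 6, 116910, 7),
  (53419, 5, 208926, 20),
  (53421, 7, 102614, 26),
  (53422, 6, 208925, 20),
  (53425, 5, 178241, 40),
  (53426, 4, 90362, 11),
  (53428, 5, 57654, 38),
  (53431, 6, 241099, 21),
  (53433, 6, 199141, 25),
  (53434, 6, 42387, 24),
  (53436, 6, 61620, 17),
  (53439, 6, 224337, 23),
  (53443, 6, 155989, 19),
  (53445, 6, 155990, 19),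
  (53446, 6, 155987, 19),
  (53451, 6, 38049, 10),
  (53453, 4, 156022, 19),
  (53454, 6, 35050, 14),
  (53457, 4, 141782, 26),
  (53458, 6, 24810, 12),
  (53460, 5, 198830, 43),
  (53463, 7, 259265, 24),
  (53465, 3, 156028, 19),
  (53466, 4, 90362, 10),
  (53468, 3, 156026, 19),
  (53471, 6, 95437, 16),
  (53475, 5, 119873, 2),
  (53477, 5, 120841, 7),
  (53478, 6, 147795, 19),
  (53483, 6, 124982, 26),
  (53485, 6, 147830, 19),
  (53486, 6, 121062, 7),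
  (53489, 6, 147804, 19),
  (53490, 4, 182694, 26),
  (53492, 6, 8428, 12),
  (53495, 6, 190910, 26),
  (53497, 6, 127153, 11)]

theorem chk_rows2_5 : rows2_5.all (rowBP tr2 gensLitP 72) = true := by decide +kernel

/-- Rows 9000 to 10499. -/
def rows2_6 : List (ℕ × ℕ × ℕ × ℕ) := [(53498, 6, 73978, 10),
  (53500, 3, 90188, 11),
  (53503, 5, 129203, 11),
  (53507, 6, 145757, 24),
  (53509, 6, 164205, 21),
  (53510, 6, 39266, 8),
  (53515, 5, 178461, 24),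
  (53517, 6, 39277, 15),
  (53518, 6, 39274, 8),
  (53521, 7, 221340, 19),
  (53522, 6, 192794, 5),
  (53524, 6, 61788, 2),
  (53527, 5, 191819, 4),
  (53529, 5, 377, 7),
  (53530, 6, 203086, 25),
  (53532, 6, 192892, 7),
  (53535, 6, 203134, 25),
  (53539, 4, 202926, 25),
  (53541, 6, 213142, 19),
  (53542, 5, 125026, 22),
  (53547, 6, 118829, 21),
  (53549, 6, 184365, 21),
  (53550, 6, 184390, 3),
  (53553, 4, 198886, 25),
  (53554, 6, 50199, 22),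
  (53556, 6, 213146, 19),
  (53559, 6, 162941, 8),
  (53561, 5, 213180, 19),
  (53562, 5, 51538, 38),
  (53564, 6, 213178, 19),
  (53567, 6, 213183, 19),
  (53571, 4, 158038, 22),
  (53573, 6, 6501, 15),
  (53574, 5, 184334, 15),
  (53579, 6, 155990, 22),
  (53581, 6, 196918, 25),
  (53582, 6, 39270, 16),
  (53585, 6, 196710, 25),
  (53586, 6, 70823, 21),
  (53588, 6, 24940, 12),
  (53591, 5, 178265, 40),
  (53593, 6, 99729, 26),
  (53594, 6, 155770, 10),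
  (53596, 6, 215233, 24),
  (53599, 6, 174187, 14),
  (53603, 6, 104673, 21),
  (53605, 6, 196790, 25),
  (53606, 6, 39206, 4),
  (53611, 5, 201134, 25),
  (53613, 6, 6501, 5),
  (53614, 4, 201118, 25),
  (53617, 5, 377, 5),
  (53618, 4, 94444, 20),
  (53620, 6, 37172, 14),
  (53623, 5, 250177, 42),
  (53625, 6, 19763, 22),
  (53626, 6, 94460, 20),
  (53628, 6, 197078, 25),
  (53631, 6, 42365, 13),
  (53633, 6, 221396, 19),
  (53634, 5, 12598, 38),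
  (53636, 6, 221394, 19),
  (53639, 6, 238061, 21),
  (53641, 5, 250217, 17),
  (53642, 3, 213066, 15),
  (53644, 3, 213068, 15),
  (53647, 6, 221431, 19),
  (53651, 6, 242977, 2),
  (53653, 6, 102679, 26),
  (53654, 5, 100670, 16),
  (53659, 6, 179615, 24),
  (53661, 6, 199031, 25),
  (53662, 6, 113130, 8),
  (53665, 4, 161826, 22),
  (53666, 6, 131306, 2),
  (53668, 6, 245836, 3),
  (53671, 6, 260194, 22),
  (53673, 6, 95249, 23),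
  (53674, 6, 249922, 3),
  (53676, 6, 213234, 19),
  (53679, 6, 213239, 19),
  (53683, 5, 242867, 1),
  (53685, 6, 213214, 19),
  (53686, 5, 194698, 14),
  (53691, 6, 213245, 19),
  (53693, 5, 195041, 4),
  (53694, 6, 213243, 19),
  (53697, 4, 162078, 22),
  (53698, 6, 200719, 25),
  (53700, 6, 196631, 25),
  (53703, 6, 7655, 15),
  (53705, 5, 178517, 40),
  (53706, 6, 213226, 10),
  (53708, 6, 196887, 25),
  (53711, 6, 162881, 24),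
  (53715, 6, 111847, 21),
  (53717, 6, 125337, 11),
  (53718, 5, 129334, 4),
  (53723, 6, 52537, 22),
  (53725, 6, 196983, 25),
  (53726, 6, 29158, 12),
  (53729, 4, 209098, 20),
  (53730, 3, 213066, 3),
  (53732, 3, 213068, 3),
  (53735, 6, 243810, 22),
  (53737, 6, 209114, 20),
  (53738, 6, 102698, 4),
  (53740, 5, 79910, 22),
  (53743, 6, 99693, 13),
  (53747, 6, 193721, 8),
  (53749, 6, 213470, 19),
  (53750, 6, 242094, 6),
  (53755, 6, 242939, 1),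
  (53757, 6, 129457, 11),
  (53758, 6, 149982, 1),
  (54277, 6, 99729, 23),
  (54279, 6, 38951, 2),
  (54285, 5, 229798, 22),
  (54287, 6, 134449, 19),
  (54289, 6, 69013, 23),
  (54291, 6, 5241, 7),
  (54297, 6, 58427, 13),
  (54299, 6, 24667, 8),
  (54309, 6, 79883, 20),
  (54311, 6, 29033, 24),
  (54317, 6, 38955, 1),
  (54319, 6, 75089, 23),
  (54321, 5, 96298, 20),
  (54323, 6, 115058, 26),
  (54329, 6, 115154, 26),
  (54331, 4, 53644, 25),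
  (54341, 5, 91203, 39),
  (54343, 6, 238721, 23),
  (54349, 6, 196924, 25),
  (54351, 4, 246214, 22),
  (54353, 6, 77189, 23),
  (54355, 6, 156114, 26),
  (54361, 5, 161805, 19),
  (54363, 6, 200913, 24),
  (54373, 4, 41146, 26),
  (54375, 6, 231458, 22),
  (54381, 5, 104557, 40),
  (54383, 5, 122906, 26),
  (54385, 6, 138707, 43),
  (54387, 6, 96430, 20),
  (54393, 6, 5241, 17),
  (54395, 5, 215093, 42),
  (54401, 6, 210946, 20),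
  (54403, 5, 235, 10),
  (54409, 6, 104605, 21),
  (54411, 6, 44335, 41),
  (54421, 5, 129203, 1),
  (54423, 5, 215335, 42),
  (54429, 5, 5367, 10),
  (54431, 6, 130233, 1),
  (54433, 6, 43209, 21),
  (54435, 6, 210958, 20),
  (54441, 5, 119873, 3),
  (54443, 7, 186406, 22),
  (54453, 6, 119126, 26),
  (54455, 6, 93435, 11),
  (54461, 6, 54715, 24),
  (54463, 6, 128087, 3),
  (54465, 6, 177233, 24),
  (54467, 5, 26838, 26),
  (54473, 6, 91555, 23),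
  (54475, 4, 211094, 20),
  (54485, 6, 141822, 26),
  (54487, 5, 54595, 44),
  (54493, 5, 215331, 42),
  (54495, 6, 89211, 17),
  (54497, 6, 213267, 23),
  (54499, 5, 211086, 20),
  (54505, 6, 119883, 2),
  (54507, 6, 170022, 22),
  (54517, 7, 227499, 20),
  (54519, 6, 126139, 11),
  (54525, 6, 195679, 19),
  (54527, 7, 218577, 24),
  (54529, 6, 174390, 22),
  (54531, 6, 98413, 21),
  (54537, 5, 185419, 16),
  (54539, 6, 55469, 21),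
  (54549, 5, 6523, 7),
  (54551, 6, 96359, 20),
  (54557, 5, 193615, 16),
  (54559, 6, 160019, 38),
  (54561, 4, 157794, 22),
  (54563, 6, 79950, 20),
  (54569, 6, 39197, 24),
  (54571, 6, 79121, 23),
  (54581, 6, 211283, 23),
  (54583, 6, 202998, 25),
  (54589, 6, 199166, 25),
  (54591, 6, 146849, 19),
  (54593, 6, 80066, 20),
  (54595, 4, 200742, 25),
  (54601, 6, 115857, 26),
  (54603, 6, 80086, 20),
  (54613, 5, 193837, 6),
  (54615, 6, 120113, 26),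
  (54621, 6, 249005, 21),
  (54623, 6, 120241, 26),
  (54625, 6, 178513, 24),
  (54627, 5, 185419, 14),
  (54633, 5, 141414, 22),
  (54635, 5, 201126, 25),
  (54645, 6, 196862, 25),
  (54647, 6, 32161, 19),
  (54653, 6, 191561, 14),
  (54655, 5, 6519, 5),
  (54661, 6, 218605, 6),
  (54663, 6, 211015, 20),
  (54669, 6, 126279, 19),
  (54671, 6, 249229, 12),
  (54673, 7, 42223, 21),
  (54675, 6, 227430, 20),
  (54681, 6, 199023, 25),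
  (54683, 6, 251259, 17),
  (54693, 6, 211019, 20),
  (54695, 6, 260130, 22),
  (54701, 6, 248239, 12),
  (54703, 6, 252175, 2),
  (54705, 5, 138319, 43),
  (54707, 5, 147931, 10),
  (54713, 6, 119997, 21),
  (54715, 5, 242873, 1),
  (54725, 5, 44243, 41),
  (54727, 6, 251311, 6),
  (54733, 5, 196927, 25),
  (54735, 6, 88551, 5),
  (54737, 6, 243821, 19),
  (54739, 6, 227558, 20),
  (54745, 6, 128401, 11),
  (54747, 6, 201063, 25),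
  (54757, 5, 196799, 25),
  (54759, 6, 60833, 19),
  (54765, 6, 211046, 22),
  (54767, 6, 249325, 12),
  (54769, 6, 111995, 13),
  (54771, 6, 193739, 14),
  (54777, 5, 128433, 11),
  (54779, 6, 227582, 20),
  (55299, 6, 156693, 19),
  (55303, 6, 160089, 24),
  (55307, 4, 102586, 26),
  (55311, 6, 198099, 23),
  (55313, 7, 14638, 19),
  (55314, 6, 237980, 25),
  (55317, 6, 24669, 11),
  (55318, 6, 39034, 1),
  (55321, 6, 24669, 8),
  (55322, 6, 117761, 22),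
  (55325, 6, 6261, 10),
  (55326, 5, 188868, 39),
  (55331, 6, 237587, 23),
  (55335, 6, 148503, 19),
  (55339, 5, 248038, 22),
  (55343, 6, 182502, 22),
  (55345, 5, 92545, 39),
  (55346, 4, 172444, 25),
  (55349, 6, 30841, 8),
  (55350, 6, 61454, 14),
  (55353, 6, 36981, 5),
  (55354, 4, 102890, 26),
  (55357, 6, 53641, 24),
  (55358, 6, 33180, 25),
  (55363, 5, 149958, 22),
  (55367, 7, 28922, 26),
  (55371, 6, 147910, 22),
  (55375, 6, 7275, 15),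
  (55377, 4, 143826, 26),
  (55378, 7, 152034, 26),
  (55381, 5, 143834, 26),
  (55382, 6, 30842, 10),
  (55385, 4, 209234, 26),
  (55386, 6, 61454, 13),
  (55389, 5, 205172, 25),
  (55390, 6, 6329, 20),
  (55395, 6, 38955, 6),
  (55399, 6, 103755, 44),
  (55403, 6, 209324, 25),
  (55407, 4, 3225, 20),
  (55409, 6, 205028, 25),
  (55410, 5, 184738, 26),
  (55413, 6, 83367, 22),
  (55414, 6, 184746, 26),
  (55417, 6, 205284, 25),
  (55418, 5, 63542, 11),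
  (55421, 5, 92549, 39),
  (55422, 6, 117923, 22),
  (55425, 6, 102430, 26),
  (55426, 6, 210957, 25),
  (55429, 6, 172109, 21),
  (55430, 6, 156755, 19),
  (55433, 6, 169259, 24),
  (55434, 6, 34990, 14),
  (55437, 6, 39197, 21),
  (55438, 6, 35050, 1),
  (55443, 6, 102718, 26),
  (55447, 6, 3325, 10),
  (55451, 6, 211309, 25),
  (55455, 6, 128191, 1),
  (55457, 6, 5523, 20),
  (55458, 6, 35050, 12),
  (55461, 4, 153762, 22),
  (55462, 6, 207257, 20),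
  (55465, 5, 59734, 19),
  (55466, 6, 121062, 22),
  (55469, 5, 120841, 2),
  (55470, 6, 211357, 25),
  (55475, 6, 128005, 2),
  (55479, 6, 211197, 25),
  (55483, 6, 115903, 12),
  (55487, 5, 129111, 3),
  (55489, 5, 153998, 22),
  (55490, 6, 120842, 15),
  (55493, 6, 91361, 23),
  (55494, 6, 6378, 1),
  (55497, 6, 39073, 10),
  (55498, 6, 157041, 19),
  (55501, 6, 205109, 25),
  (55502, 6, 116910, 6),
  (55507, 6, 162294, 26),
  (55511, 6, 97477, 16),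
  (55515, 6, 257511, 23),
  (55519, 6, 138681, 20),
  (55521, 7, 47254, 26),
  (55522, 6, 34990, 2),
  (55525, 5, 59682, 19),
  (55526, 6, 39138, 22),
  (55529, 6, 205221, 25),
  (55530, 6, 157025, 24),
  (55533, 7, 43298, 19),
  (55534, 6, 6374, 12),
  (55539, 6, 128069, 2),
  (55543, 5, 208915, 37),
  (55547, 5, 214149, 42),
  (55551, 6, 130121, 2),
  (55553, 7, 102427, 26),
  (55554, 6, 39270, 8),
  (55557, 6, 153933, 24),
  (55558, 6, 184678, 17),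
  (55561, 6, 167389, 41),
  (55562, 6, 8438, 22),
  (55565, 5, 365, 7),
  (55566, 6, 136539, 23),
  (55571, 7, 99823, 21),
  (55575, 6, 162269, 24),
  (55579, 6, 211310, 25),
  (55583, 6, 118161, 22),
  (55585, 5, 92449, 39),
  (55586, 5, 211086, 25),
  (55589, 6, 35177, 5),
  (55590, 5, 184334, 14),
  (55593, 6, 184621, 21),
  (55594, 5, 188868, 38),
  (55597, 6, 55565, 24),
  (55598, 5, 180692, 39),
  (55603, 6, 34173, 5),
  (55607, 5, 55461, 40),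
  (55611, 6, 194643, 3),
  (55615, 6, 63901, 24),
  (55617, 6, 16749, 5),
  (55618, 5, 26838, 22),
  (55621, 6, 186669, 6),
  (55622, 5, 208926, 25),
  (55625, 6, 205094, 25),
  (55626, 6, 184390, 7),
  (55629, 6, 2482, 19),
  (55630, 6, 39266, 16),
  (55635, 6, 194859, 6),
  (55639, 5, 55385, 40),
  (55643, 5, 126031, 20),
  (55647, 6, 209278, 25),
  (55649, 5, 365, 5),
  (55650, 7, 103529, 26),
  (55653, 6, 39277, 13),
  (55654, 6, 168019, 23),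
  (55657, 6, 35177, 13),
  (55658, 5, 184622, 13),
  (55661, 6, 6497, 5),
  (55662, 4, 43238, 22),
  (55667, 6, 194639, 14),
  (55671, 6, 244193, 24),
  (55675, 6, 209390, 25),
  (55679, 6, 183675, 12),
  (55683, 6, 252263, 17),
  (55687, 5, 214407, 42),
  (55691, 6, 251387, 23),
  (55695, 6, 209278, 22),
  (55697, 6, 138735, 24),
  (55698, 6, 113126, 8),
  (55701, 6, 244001, 2),
  (55702, 6, 111078, 8),
  (55705, 6, 252285, 17),
  (55706, 5, 106702, 43),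
  (55709, 6, 170418, 19),
  (55710, 5, 151798, 2),
  (55715, 6, 251311, 12),
  (55719, 5, 214055, 42),
  (55723, 6, 88551, 11),
  (55727, 5, 194790, 22),
  (55729, 6, 190957, 4),
  (55730, 6, 211434, 6),
  (55733, 6, 162041, 8),
  (55734, 6, 233846, 17),
  (55737, 6, 243901, 1),
  (55738, 6, 218429, 21),
  (55741, 6, 178594, 19),
  (55742, 6, 162282, 13),
  (55747, 6, 5607, 15),
  (55751, 5, 209043, 37),
  (55755, 6, 155079, 4),
  (55759, 6, 248239, 6),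
  (55761, 6, 242021, 2),
  (55762, 5, 254132, 39),
  (55765, 6, 206973, 3),
  (55766, 6, 210087, 21),
  (55769, 6, 85305, 22),
  (55770, 6, 129430, 11),
  (55773, 6, 205175, 25),
  (55774, 5, 78318, 8),
  (55779, 6, 243938, 22),
  (55783, 5, 220389, 16),
  (55787, 6, 243942, 22),
  (55791, 6, 178406, 22),
  (55793, 5, 194765, 14),
  (55794, 5, 10442, 44),
  (55797, 6, 113021, 13),
  (55798, 6, 251966, 15),
  (55801, 6, 243965, 1),
  (55802, 5, 192942, 13),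
  (55805, 5, 92597, 39),
  (55806, 6, 247870, 15),
  (56321, 6, 10535, 19),
  (56323, 4, 166374, 22),
  (56325, 4, 114714, 26),
  (56327, 6, 231782, 22),
  (56329, 7, 118938, 26),
  (56331, 6, 176425, 24),
  (56333, 6, 7271, 10),
  (56335, 6, 38955, 2),
  (56353, 6, 38951, 1),
  (56355, 6, 7275, 6),
  (56357, 4, 149730, 22),
  (56359, 6, 157987, 19),
  (56361, 7, 215270, 22),
  (56363, 6, 142627, 19),
  (56365, 6, 53529, 24),
  (56367, 4, 114938, 26),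
  (56385, 6, 37317, 21),
  (56387, 6, 19763, 19),
  (56389, 6, 204860, 25),
  (56391, 4, 28890, 26),
  (56393, 5, 77938, 26),
  (56395, 6, 151665, 24),
  (56397, 6, 205116, 25),
  (56399, 6, 38951, 10),
  (56417, 6, 204972, 25),
  (56419, 6, 7271, 17),
  (56421, 6, 204988, 25),
  (56423, 4, 98643, 23),
  (56425, 4, 198886, 22),
  (56427, 6, 11555, 19),
  (56429, 6, 3229, 20),
  (56431, 6, 1181, 20),
  (56465, 6, 228363, 43),
  (56467, 6, 19867, 20),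
  (56469, 6, 119925, 17),
  (56471, 6, 128181, 1),
  (56473, 5, 126011, 13),
  (56475, 6, 249079, 23),
  (56477, 6, 64845, 19),
  (56479, 6, 112683, 2),
  (56497, 6, 93437, 11),
  (56499, 6, 89181, 7),
  (56501, 6, 208317, 20),
  (56503, 6, 115070, 26),
  (56505, 6, 118091, 22),
  (56507, 6, 126991, 2),
  (56509, 6, 61671, 4),
  (56511, 6, 95479, 11),
  (56529, 6, 129271, 1),
  (56531, 6, 162262, 26),
  (56533, 6, 36031, 10),
  (56535, 6, 35007, 10),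
  (56537, 6, 194639, 19),
  (56539, 5, 126123, 6),
  (56541, 6, 205181, 25),
  (56543, 6, 39095, 10),
  (56561, 6, 97507, 16),
  (56563, 6, 127047, 2),
  (56565, 6, 205053, 25),
  (56567, 6, 194974, 26),
  (56569, 6, 249105, 23),
  (56571, 6, 260374, 26),
  (56573, 6, 128181, 11),
  (56575, 6, 128183, 11),
  (56593, 6, 206958, 25),
  (56595, 6, 194627, 16),
  (56597, 6, 154077, 24),
  (56599, 6, 211062, 25),
  (56601, 6, 207214, 25),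
  (56603, 6, 3453, 7),
  (56605, 6, 73183, 23),
  (56607, 6, 194639, 16),
  (56625, 6, 150875, 10),
  (56627, 6, 211174, 25),
  (56629, 5, 244051, 23),
  (56631, 6, 211190, 25),
  (56633, 6, 191501, 14),
  (56635, 6, 37239, 5),
  (56637, 7, 245073, 23),
  (56639, 6, 39283, 5),
  (56657, 6, 162883, 16),
  (56659, 6, 208998, 25),
  (56661, 6, 204926, 25),
  (56663, 5, 212173, 23),
  (56665, 6, 21879, 5),
  (56667, 6, 161867, 16),
  (56669, 6, 118257, 22),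
  (56671, 6, 52653, 21),
  (56689, 6, 211007, 19),
  (56691, 6, 104723, 23),
  (56693, 6, 205054, 25),
  (56695, 5, 193615, 14),
  (56697, 6, 162923, 16),
  (56699, 6, 209382, 25),
  (56701, 6, 7539, 5),
  (56703, 6, 209398, 25),
  (56705, 6, 37351, 15),
  (56707, 6, 220651, 6),
  (56709, 6, 244030, 22),
  (56711, 6, 244094, 22),
  (56713, 6, 176574, 22),
  (56715, 6, 38381, 15),
  (56717, 6, 216557, 6),
  (56719, 6, 121315, 5),
  (56737, 6, 250287, 12),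
  (56739, 6, 204267, 6),
  (56741, 6, 248909, 3),
  (56743, 6, 248911, 3),
  (56745, 5, 251151, 2),
  (56747, 6, 211367, 25),
  (56749, 6, 162022, 22),
  (56751, 6, 53693, 21),
  (56769, 6, 194974, 22),
  (56771, 6, 199787, 3),
  (56773, 6, 204863, 25),
  (56775, 7, 226537, 23),
  (56777, 6, 128491, 23),
  (56779, 6, 119997, 26),
  (56781, 6, 257093, 19),
  (56783, 6, 7657, 15),
  (56801, 6, 204975, 25),
  (56803, 6, 216139, 3),
  (56805, 6, 216141, 3),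
  (56807, 6, 186539, 8),
  (56809, 6, 163185, 24),
  (56811, 6, 100715, 13),
  (56813, 6, 220229, 3),
  (56815, 6, 257461, 41),
  (57345, 5, 32846, 21),
  (57346, 4, 205073, 24),
  (57348, 4, 213281, 24),
  (57351, 6, 69671, 20),
  (57352, 4, 7169, 21),
  (57355, 4, 69686, 20),
  (57357, 5, 250217, 24),
  (57358, 6, 164119, 23),
  (57361, 4, 38926, 21),
  (57362, 4, 205201, 24),
  (57364, 4, 213409, 24),
  (57367, 6, 90316, 25),
  (57368, 4, 7171, 21),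
  (57371, 6, 213196, 25),
  (57373, 4, 168338, 26),
  (57374, 6, 59514, 17),
  (57377, 4, 34890, 21),
  (57378, 5, 74001, 24),
  (57380, 4, 82209, 24),
  (57383, 4, 168050, 26),
  (57384, 4, 7173, 21),
  (57387, 6, 207895, 23),
  (57389, 4, 135222, 19),
  (57390, 4, 172236, 25),
  (57393, 3, 36878, 21),
  (57394, 5, 74129, 24),
  (57396, 4, 82337, 24),
  (57399, 5, 60487, 15),
  (57400, 5, 7175, 21),
  (57403, 5, 185643, 37),
  (57405, 6, 213031, 22),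
  (57406, 6, 139468, 25),
  (57409, 3, 36934, 21),
  (57410, 5, 139393, 24),
  (57412, 4, 147585, 24),
  (57415, 5, 60487, 12),
  (57416, 4, 7177, 21),
  (57419, 6, 205191, 23),
  (57421, 5, 185353, 37),
  (57422, 6, 82410, 26),
  (57425, 4, 34830, 21),
  (57426, 4, 204801, 24),
  (57428, 4, 212993, 24),
  (57431, 6, 231438, 21),
  (57432, 4, 7179, 21),
  (57435, 5, 102764, 25),
  (57437, 6, 205018, 26),
  (57438, 6, 213226, 26),
  (57441, 4, 38978, 21),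
  (57442, 4, 139649, 24),
  (57444, 4, 147841, 24),
  (57447, 4, 102588, 25),
  (57448, 4, 7181, 21),
  (57451, 5, 69822, 20),
  (57453, 6, 30841, 4),
  (57454, 5, 115114, 26),
  (57457, 5, 32782, 21),
  (57458, 4, 205057, 24),
  (57460, 4, 85, 23),
  (57463, 6, 135455, 19),
  (57464, 4, 7183, 21),
  (57467, 5, 241921, 24),
  (57469, 4, 135486, 19),
  (57470, 6, 98407, 22),
  (57475, 4, 200742, 20),
  (57477, 6, 90357, 6),
  (57478, 3, 90358, 6),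
  (57481, 6, 100645, 25),
  (57482, 6, 238931, 24),
  (57484, 6, 90348, 14),
  (57487, 6, 94455, 6),
  (57491, 4, 164150, 26),
  (57493, 6, 218539, 24),
  (57494, 6, 82166, 6),
  (57497, 4, 143484, 19),
  (57498, 6, 126978, 5),
  (57500, 4, 252, 5),
  (57503, 5, 126123, 1),
  (57507, 4, 163958, 26),
  (57509, 6, 87339, 24),
  (57510, 6, 70889, 22),
  (57513, 6, 200762, 20),
  (57514, 6, 184404, 41),
  (57516, 6, 127060, 11),
  (57519, 6, 108651, 17),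
  (57523, 6, 102430, 21),
  (57525, 6, 87467, 24),
  (57526, 4, 217486, 39),
  (57529, 6, 127153, 12),
  (57530, 6, 37114, 12),
  (57532, 5, 127124, 4),
  (57535, 6, 168438, 26),
  (57539, 6, 151883, 22),
  (57541, 6, 2293, 15),
  (57542, 4, 143699, 19),
  (57545, 5, 249, 15),
  (57546, 6, 126978, 15),
  (57548, 4, 143730, 19),
  (57551, 6, 193665, 24),
  (57555, 6, 157814, 26),
  (57557, 6, 218113, 24),
  (57558, 6, 124994, 5),
  (57561, 6, 92323, 23),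
  (57562, 5, 111058, 43),
  (57564, 6, 20732, 12),
  (57567, 6, 46269, 10),
  (57571, 6, 59702, 26),
  (57573, 6, 90357, 16),
  (57574, 6, 8438, 12),
  (57577, 6, 90361, 16),
  (57578, 6, 127050, 16),
  (57580, 4, 252, 7),
  (57583, 6, 200895, 20),
  (57587, 6, 135517, 19),
  (57589, 6, 90181, 3),
  (57590, 4, 90182, 3),
  (57593, 4, 239766, 26),
  (57594, 6, 94282, 3),
  (57596, 6, 8428, 7),
  (57599, 6, 259329, 24),
  (57603, 6, 156019, 6),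
  (57605, 6, 139621, 10),
  (57606, 3, 155718, 15),
  (57609, 5, 100646, 25),
  (57610, 6, 16762, 4),
  (57612, 6, 24940, 14),
  (57615, 6, 260477, 24),
  (57619, 6, 211357, 24),
  (57621, 6, 168211, 26),
  (57622, 6, 35186, 8),
  (57625, 6, 185693, 37),
  (57626, 6, 23683, 21),
  (57628, 5, 149902, 39),
  (57631, 6, 144765, 10),
  (57635, 6, 189811, 4),
  (57637, 6, 168019, 26),
  (57638, 6, 158070, 13),
  (57641, 5, 192529, 14),
  (57642, 3, 156026, 13),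
  (57644, 6, 37172, 13),
  (57647, 6, 24005, 21),
  (57651, 6, 24931, 11),
  (57653, 6, 77909, 23),
  (57654, 4, 217134, 21),
  (57657, 6, 192817, 12),
  (57658, 5, 86108, 20),
  (57660, 6, 147548, 5),
  (57663, 6, 129533, 24),
  (57667, 6, 155987, 22),
  (57669, 6, 168294, 21),
  (57670, 4, 188678, 42),
  (57673, 5, 377, 15),
  (57674, 5, 192602, 7),
  (57676, 6, 192820, 6),
  (57679, 6, 102718, 25),
  (57683, 6, 156019, 17),
  (57685, 4, 98422, 25),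
  (57686, 6, 139366, 3),
  (57689, 4, 86226, 20),
  (57690, 3, 156026, 17),
  (57692, 6, 192892, 8),
  (57695, 5, 191595, 1),
  (57699, 6, 145793, 24),
  (57701, 5, 98486, 25),
  (57702, 6, 169057, 26),
  (57705, 6, 201140, 19),
  (57706, 6, 61770, 16),
  (57708, 6, 184804, 44),
  (57711, 6, 194643, 14),
  (57715, 6, 155715, 3),
  (57717, 4, 201118, 19),
  (57718, 3, 155718, 3),
  (57721, 6, 165329, 26),
  (57722, 6, 139642, 17),
  (57724, 6, 248065, 24),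
  (57727, 5, 193821, 10),
  (57729, 6, 100391, 25),
  (57730, 6, 156114, 13),
  (57732, 6, 90596, 14),
  (57735, 6, 238062, 21),
  (57736, 6, 100615, 25),
  (57739, 6, 120113, 13),
  (57741, 6, 178353, 14),
  (57742, 6, 162026, 2),
  (57745, 6, 164119, 26),
  (57746, 4, 88126, 21),
  (57748, 6, 216487, 24),
  (57751, 6, 251966, 21),
  (57752, 6, 147928, 13),
  (57755, 6, 128289, 13),
  (57757, 5, 185443, 37),
  (57758, 6, 162042, 2),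
  (57761, 4, 200916, 19),
  (57762, 6, 75946, 21),
  (57764, 6, 90484, 1),
  (57767, 5, 185673, 37),
  (57768, 6, 74216, 14),
  (57771, 6, 146809, 22),
  (57773, 6, 113133, 5),
  (57774, 5, 260286, 7),
  (57777, 6, 155873, 8),
  (57778, 5, 90594, 11),
  (57780, 6, 156116, 10),
  (57783, 6, 249918, 21),
  (57784, 7, 28711, 22),
  (57787, 6, 217182, 20),
  (57789, 6, 200958, 19),
  (57790, 6, 252094, 7),
  (57793, 6, 90593, 5),
  (57794, 6, 213234, 10),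
  (57796, 5, 205172, 11),
  (57799, 6, 242150, 21),
  (57800, 7, 30747, 22),
  (57803, 6, 200950, 20),
  (57805, 6, 209398, 19),
  (57806, 6, 117054, 4),
  (57809, 6, 98407, 25),
  (57810, 6, 207873, 24),
  (57812, 4, 149566, 21),
  (57815, 6, 247870, 21),
  (57816, 6, 232449, 24),
  (57819, 5, 185441, 37),
  (57821, 6, 112945, 7),
  (57822, 6, 194859, 23),
  (57825, 5, 200938, 20),
  (57826, 6, 156098, 1),
  (57828, 6, 145698, 21),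
  (57831, 5, 185603, 37),
  (57832, 6, 205160, 17),
  (57835, 6, 185521, 8),
  (57837, 6, 89175, 23),
  (57838, 5, 112734, 38),
  (57841, 7, 95487, 40),
  (57842, 6, 156114, 1),
  (57844, 6, 90596, 2),
  (57847, 6, 201183, 19),
  (57848, 6, 21527, 23),
  (57851, 6, 205179, 17),
  (57853, 6, 213245, 16),
  (57854, 6, 178362, 2),
  (58373, 5, 127172, 25),
  (58375, 6, 71719, 20),
  (58377, 6, 180370, 26),
  (58379, 4, 250060, 25),
  (58389, 7, 35889, 14),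
  (58391, 4, 184626, 26),
  (58393, 6, 67987, 23),
  (58395, 6, 149785, 19),
  (58405, 7, 184402, 26),
  (58407, 6, 146697, 19),
  (58409, 6, 26941, 19),
  (58411, 6, 110921, 24),
  (58421, 5, 58611, 43),
  (58423, 6, 74069, 23),
  (58425, 6, 147559, 22),
  (58427, 5, 58579, 43),
  (58437, 6, 168390, 21),
  (58439, 6, 102452, 25),
  (58441, 6, 5241, 3),
  (58443, 6, 24667, 16),
  (58453, 6, 231566, 21),
  (58455, 4, 102516, 25),
  (58457, 4, 132199, 22),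
  (58459, 6, 221394, 26),
  (58469, 7, 98492, 25),
  (58471, 6, 71855, 20),
  (58473, 6, 71866, 20),
  (58475, 4, 168337, 24),
  (58485, 5, 172090, 26),
  (58487, 6, 153891, 37),
  (58489, 5, 58595, 43),
  (58491, 6, 26889, 19),
  (58497, 6, 202011, 24),
  (58499, 6, 34033, 15),
  (58509, 6, 251259, 24),
  (58511, 6, 95479, 6),
  (58513, 5, 107569, 38),
  (58515, 6, 39070, 21),
  (58525, 6, 251387, 24),
  (58527, 7, 183577, 19),
  (58529, 6, 43357, 19),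
  (58531, 6, 108618, 21),
  (58541, 6, 120187, 24),
  (58543, 6, 184566, 26),
  (58545, 5, 29825, 42),
  (58547, 6, 90389, 23),
  (58557, 6, 184790, 26),
  (58559, 6, 128491, 24),
  (58561, 6, 107635, 2),
  (58563, 5, 110662, 21),
  (58573, 5, 152683, 40),
  (58575, 6, 3325, 15),
  (58577, 6, 34033, 14),
  (58579, 4, 219270, 20),
  (58589, 6, 128103, 13),
  (58591, 6, 119991, 6),
  (58593, 6, 91379, 16),
  (58595, 4, 202926, 20),
  (58605, 5, 107745, 38),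
  (58607, 6, 185745, 24),
  (58609, 6, 178261, 19),
  (58611, 4, 190486, 26),
  (58621, 6, 129271, 12),
  (58623, 6, 251153, 24),
  (58625, 6, 33139, 15),
  (58627, 7, 172403, 22),
  (58637, 5, 100670, 25),
  (58639, 5, 107699, 38),
  (58641, 6, 121006, 21),
  (58643, 6, 155715, 8),
  (58653, 6, 100734, 25),
  (58655, 6, 191867, 17),
  (58657, 6, 35050, 21),
  (58659, 6, 202939, 41),
  (58669, 5, 241073, 22),
  (58671, 6, 104886, 25),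
  (58673, 6, 72093, 24),
  (58675, 6, 189507, 3),
  (58685, 6, 100862, 25),
  (58687, 5, 193615, 3),
  (58689, 5, 371, 15),
  (58691, 6, 24931, 5),
  (58701, 6, 194705, 24),
  (58703, 6, 185521, 26),
  (58705, 6, 147795, 4),
  (58707, 6, 2457, 19),
  (58717, 5, 152681, 40),
  (58719, 6, 159099, 17),
  (58721, 6, 156019, 4),
  (58723, 5, 29851, 42),
  (58733, 6, 162171, 4),
  (58735, 6, 37239, 13),
  (58737, 6, 24899, 15),
  (58739, 6, 10633, 19),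
  (58749, 6, 185809, 26),
  (58751, 6, 237607, 22),
  (58757, 6, 175281, 14),
  (58759, 6, 139751, 10),
  (58761, 6, 177329, 14),
  (58763, 6, 97489, 21),
  (58773, 6, 252094, 21),
  (58775, 6, 186558, 21),
  (58777, 6, 219218, 20),
  (58779, 5, 242795, 3),
  (58789, 6, 89407, 24),
  (58791, 6, 239978, 21),
  (58793, 6, 193681, 14),
  (58795, 6, 179577, 22),
  (58805, 6, 247031, 16),
  (58807, 6, 184510, 21),
  (58809, 6, 219226, 20),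
  (58811, 6, 238971, 17),
  (58821, 6, 118161, 11),
  (58823, 6, 159185, 4),
  (58825, 6, 194843, 22),
  (58827, 6, 202998, 20),
  (58837, 6, 247998, 21),
  (58839, 6, 182462, 21),
  (58841, 6, 251313, 6),
  (58843, 6, 213211, 16),
  (58853, 5, 178658, 21),
  (58855, 6, 191699, 14),
  (58857, 6, 203002, 20),
  (58859, 7, 181493, 26),
  (58869, 6, 245950, 21),
  (58871, 6, 213239, 16),
  (58873, 6, 219354, 20),
  (58875, 6, 87319, 23),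
  (59395, 6, 182343, 37),
  (59399, 4, 114908, 25),
  (59401, 6, 25787, 20),
  (59402, 6, 39034, 3),
  (59405, 5, 30789, 42),
  (59406, 4, 164010, 26),
  (59411, 4, 3247, 20),
  (59415, 6, 181475, 22),
  (59417, 6, 221396, 25),
  (59418, 5, 38966, 14),
  (59421, 4, 149786, 19),
  (59422, 6, 50407, 22),
  (59427, 7, 35889, 13),
  (59431, 6, 136215, 19),
  (59433, 4, 168154, 26),
  (59434, 6, 61454, 16),
  (59437, 6, 180436, 25),
  (59438, 5, 80070, 41),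
  (59443, 6, 168314, 26),
  (59447, 6, 102670, 21),
  (59449, 6, 155860, 25),
  (59450, 6, 39034, 12),
  (59453, 6, 6261, 6),
  (59454, 4, 164330, 26),
  (59459, 6, 147907, 22),
  (59463, 5, 30785, 42),
  (59465, 5, 202001, 40),
  (59466, 5, 65802, 40),
  (59469, 6, 73927, 23),
  (59470, 5, 63542, 6),
  (59475, 5, 110700, 25),
  (59479, 6, 23721, 20),
  (59481, 6, 197799, 22),
  (59482, 4, 110924, 25),
  (59485, 6, 30841, 5),
  (59486, 6, 61454, 11),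
  (59491, 7, 60417, 10),
  (59495, 6, 19593, 20),
  (59497, 7, 110994, 26),
  (59498, 7, 166935, 23),
  (59501, 6, 25737, 20),
  (59502, 6, 63562, 16),
  (59507, 7, 192562, 26),
  (59511, 4, 192570, 26),
  (59513, 4, 241810, 26),
  (59514, 5, 180228, 37),
  (59517, 6, 106996, 25),
  (59518, 5, 63542, 15),
  (59521, 6, 108581, 25),
  (59522, 6, 123030, 7),
  (59525, 6, 125141, 16),
  (59526, 5, 26978, 43),
  (59531, 6, 246263, 23),
  (59535, 6, 115903, 1),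
  (59537, 6, 1451, 20),
  (59538, 5, 112717, 25),
  (59541, 6, 73845, 7),
  (59542, 4, 71966, 21),
  (59547, 6, 39095, 14),
  (59551, 5, 78899, 38),
  (59553, 5, 181321, 43),
  (59554, 5, 76170, 21),
  (59557, 6, 90181, 7),
  (59558, 6, 82166, 11),
  (59563, 6, 126201, 16),
  (59567, 6, 95303, 7),
  (59569, 6, 24805, 8),
  (59570, 6, 124994, 3),
  (59573, 6, 124997, 3),
  (59574, 6, 8438, 2),
  (59579, 6, 113133, 25),
  (59583, 6, 128475, 24),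
  (59585, 5, 245, 15),
  (59586, 6, 82166, 10),
  (59589, 6, 39194, 19),
  (59590, 6, 110621, 25),
  (59595, 5, 129203, 6),
  (59599, 6, 96766, 26),
  (59601, 6, 90357, 5),
  (59602, 6, 8438, 1),
  (59605, 6, 35102, 21),
  (59606, 5, 57526, 2),
  (59611, 6, 95485, 5),
  (59615, 6, 227582, 26),
  (59617, 6, 59815, 44),
  (59618, 5, 88458, 40),
  (59621, 6, 178242, 21),
  (59622, 6, 124994, 16),
  (59627, 6, 129462, 26),
  (59631, 5, 248919, 23),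
  (59633, 7, 106725, 25),
  (59634, 6, 43190, 2),
  (59637, 6, 73845, 17),
  (59638, 5, 182290, 37),
  (59643, 5, 79113, 38),
  (59647, 5, 260286, 26),
  (59649, 5, 108582, 25),
  (59650, 6, 155990, 13),
  (59653, 6, 119945, 20),
  (59654, 6, 16726, 11),
  (59659, 6, 244093, 24),
  (59663, 6, 162167, 6),
  (59665, 4, 80134, 19),
  (59666, 6, 190726, 5),
  (59669, 6, 157761, 8),
  (59670, 4, 88366, 21),
  (59675, 6, 146809, 10),
  (59679, 6, 113022, 25),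
  (59681, 5, 76062, 19),
  (59682, 4, 374, 4),
  (59685, 6, 35125, 13),
  (59686, 6, 139366, 2),
  (59691, 6, 113021, 24),
  (59695, 5, 79235, 38),
  (59697, 5, 184622, 21),
  (59698, 6, 39141, 20),
  (59701, 6, 24933, 11),
  (59702, 5, 30982, 42),
  (59707, 6, 193847, 12),
  (59711, 5, 181289, 43),
  (59713, 6, 24933, 5),
  (59714, 6, 110606, 25),
  (59717, 5, 181611, 43),
  (59718, 6, 164905, 26),
  (59723, 6, 194721, 24),
  (59727, 6, 110910, 25),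
  (59729, 6, 182574, 21),
  (59730, 6, 158070, 17),
  (59733, 5, 79131, 38),
  (59734, 4, 374, 8),
  (59739, 7, 238823, 22),
  (59743, 6, 110974, 25),
  (59745, 6, 39266, 21),
  (59746, 5, 59670, 43),
  (59749, 6, 139621, 17),
  (59750, 6, 110750, 25),
  (59755, 6, 111022, 25),
  (59759, 6, 178593, 24),
  (59761, 6, 157761, 3),
  (59762, 6, 139366, 10),
  (59765, 6, 165209, 26),
  (59766, 6, 16726, 8),
  (59771, 6, 161867, 3),
  (59775, 6, 244001, 24),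
  (59779, 6, 118065, 13),
  (59783, 6, 237806, 21),
  (59785, 6, 121137, 13),
  (59786, 6, 241015, 24),
  (59789, 6, 186778, 19),
  (59790, 5, 178658, 1),
  (59795, 6, 252222, 21),
  (59799, 6, 121150, 21),
  (59801, 6, 129313, 13),
  (59802, 5, 250014, 7),
  (59805, 6, 243821, 3),
  (59806, 5, 164196, 37),
  (59811, 6, 109034, 21),
  (59815, 5, 239850, 21),
  (59817, 7, 108967, 25),
  (59818, 6, 194710, 14),
  (59821, 6, 194954, 19),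
  (59822, 5, 49508, 37),
  (59827, 6, 93527, 7),
  (59831, 6, 249105, 2),
  (59833, 6, 129398, 19),
  (59834, 6, 113103, 25),
  (59837, 6, 128087, 23),
  (59838, 6, 252090, 7),
  (59843, 6, 111078, 21),
  (59847, 6, 175525, 10),
  (59849, 6, 124283, 20),
  (59850, 6, 194734, 2),
  (59853, 6, 163161, 21),
  (59854, 6, 160111, 23),
  (59859, 6, 248126, 21),
  (59863, 6, 117054, 21),
  (59865, 5, 252337, 6),
  (59866, 5, 49412, 37),
  (59869, 6, 51610, 19),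
  (59870, 6, 127374, 11),
  (59875, 6, 113122, 21),
  (59879, 6, 146849, 24),
  (59881, 6, 162909, 21),
  (59882, 5, 163876, 37),
  (59885, 6, 205165, 17),
  (59886, 6, 175521, 24),
  (59891, 6, 240871, 1),
  (59895, 6, 205175, 17),
  (59897, 6, 162911, 21),
  (59898, 6, 129454, 11),
  (59901, 6, 194721, 8),
  (59902, 6, 163231, 21),
  (60417, 6, 99329, 43),
  (60419, 4, 127196, 25),
  (60421, 6, 89229, 20),
  (60423, 7, 60417, 12),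
  (60433, 6, 14599, 19),
  (60435, 6, 94428, 25),
  (60437, 4, 180506, 26),
  (60439, 6, 39310, 21),
  (60449, 4, 184410, 26),
  (60451, 6, 146699, 19),
  (60453, 6, 53460, 25),
  (60455, 4, 53468, 25),
  (60465, 4, 75921, 38),
  (60467, 5, 13723, 40),
  (60469, 6, 99571, 43),
  (60471, 5, 60465, 12),
  (60481, 5, 60465, 6),
  (60483, 5, 99377, 43),
  (60485, 6, 165937, 44),
  (60487, 4, 148483, 37),
  (60497, 6, 231822, 21),
  (60499, 6, 68651, 20),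
  (60501, 4, 106620, 25),
  (60503, 6, 35214, 21),
  (60513, 4, 106668, 25),
  (60515, 6, 89123, 20),
  (60517, 6, 19597, 20),
  (60519, 4, 135601, 24),
  (60529, 6, 145431, 19),
  (60531, 4, 192530, 26),
  (60533, 6, 146453, 19),
  (60535, 6, 13339, 40),
  (60553, 6, 115191, 23),
  (60555, 6, 184510, 26),
  (60557, 6, 108861, 25),
  (60559, 5, 212433, 21),
  (60569, 6, 9663, 20),
  (60571, 6, 248051, 23),
  (60573, 5, 22645, 41),
  (60575, 6, 212435, 21),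
  (60585, 6, 31947, 10),
  (60587, 6, 97349, 7),
  (60589, 5, 200987, 39),
  (60591, 5, 180478, 26),
  (60601, 6, 184798, 26),
  (60603, 6, 128181, 12),
  (60605, 5, 129203, 12),
  (60607, 6, 212439, 21),
  (60617, 5, 201193, 39),
  (60619, 6, 185521, 24),
  (60621, 5, 163213, 20),
  (60623, 6, 96734, 26),
  (60633, 6, 211190, 26),
  (60635, 6, 212187, 21),
  (60637, 6, 97531, 5),
  (60639, 5, 129127, 13),
  (60649, 5, 212061, 21),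
  (60651, 6, 129430, 26),
  (60653, 6, 89181, 3),
  (60655, 6, 212445, 21),
  (60665, 6, 127223, 12),
  (60667, 6, 251185, 24),
  (60669, 5, 57475, 42),
  (60671, 6, 97359, 3),
  (60681, 6, 163185, 6),
  (60683, 6, 34173, 15),
  (60685, 5, 201115, 39),
  (60687, 6, 36217, 15),
  (60697, 6, 183387, 16),
  (60699, 6, 235739, 23),
  (60701, 6, 162883, 8),
  (60703, 6, 113014, 25),
  (60713, 6, 220229, 21),
  (60715, 6, 113062, 25),
  (60717, 6, 146805, 6),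
  (60719, 5, 165917, 44),
  (60729, 6, 109038, 25),
  (60731, 6, 113133, 24),
  (60733, 5, 97589, 19),
  (60735, 5, 22721, 41),
  (60745, 6, 111055, 23),
  (60747, 6, 186545, 24),
  (60749, 6, 178353, 24),
  (60751, 6, 178479, 10),
  (60761, 6, 220235, 21),
  (60763, 6, 251953, 24),
  (60765, 5, 57507, 42),
  (60767, 6, 173223, 22),
  (60777, 5, 106926, 25),
  (60779, 6, 163197, 4),
  (60781, 5, 57491, 42),
  (60783, 6, 194831, 10),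
  (60793, 5, 220239, 21),
  (60795, 6, 111078, 25),
  (60797, 6, 107006, 25),
  (60799, 6, 172199, 22),
  (60801, 6, 204095, 24),
  (60803, 7, 106862, 21),
  (60805, 6, 220447, 24),
  (60807, 6, 112695, 25),
  (60817, 5, 165893, 44),
  (60819, 6, 212399, 24),
  (60821, 5, 99569, 43),
  (60823, 7, 180543, 26),
  (60833, 5, 22533, 41),
  (60835, 6, 191639, 14),
  (60837, 5, 99507, 43),
  (60839, 5, 148809, 37),
  (60849, 6, 249075, 16),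
  (60851, 6, 155879, 8),
  (60853, 6, 258389, 23),
  (60855, 6, 97679, 24),
  (60865, 6, 162993, 24),
  (60867, 6, 175351, 14),
  (60869, 6, 258331, 22),
  (60871, 6, 116119, 11),
  (60881, 6, 248254, 21),
  (60883, 6, 220209, 24),
  (60885, 5, 57373, 42),
  (60887, 5, 99521, 43),
  (60897, 5, 148811, 37),
  (60899, 6, 180407, 8),
  (60901, 5, 57389, 42),
  (60903, 5, 13337, 40),
  (60913, 6, 246206, 21),
  (60915, 6, 44427, 19),
  (60917, 6, 212273, 24),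
  (60919, 6, 204081, 24),
  (61443, 6, 229426, 26),
  (61445, 6, 164175, 21),
  (61446, 6, 67815, 22),
  (61451, 4, 115148, 25),
  (61453, 6, 36981, 3),
  (61454, 5, 75926, 38),
  (61459, 6, 94214, 20),
  (61461, 6, 221636, 25),
  (61462, 6, 63602, 17),
  (61467, 6, 159805, 19),
  (61469, 5, 159806, 19),
  (61470, 6, 39034, 8),
  (61475, 6, 78169, 24),
  (61477, 4, 233554, 26),
  (61478, 4, 233570, 26),
  (61483, 7, 49612, 25),
  (61485, 6, 57796, 25),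
  (61486, 5, 63542, 7),
  (61491, 6, 204823, 23),
  (61493, 6, 24669, 10),
  (61494, 7, 233826, 26),
  (61499, 6, 58427, 12),
  (61501, 5, 144539, 40),
  (61502, 5, 2198, 38),
  (61507, 5, 76867, 38),
  (61509, 6, 6261, 15),
  (61510, 5, 2194, 38),
  (61515, 6, 90482, 26),
  (61517, 6, 213383, 22),
  (61518, 6, 173319, 23),
  (61523, 4, 94342, 20),
  (61525, 6, 94339, 20),
  (61526, 6, 39034, 14),
  (61531, 6, 221298, 26),
  (61533, 6, 160062, 19),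
  (61534, 6, 213098, 26),
  (61539, 6, 57778, 26),
  (61541, 6, 184769, 24),
  (61542, 5, 63542, 13),
  (61547, 4, 233900, 25),
  (61549, 6, 78011, 20),
  (61550, 5, 233884, 25),
  (61555, 6, 196631, 23),
  (61557, 5, 172186, 26),
  (61558, 5, 2342, 37),
  (61563, 6, 151869, 19),
  (61565, 6, 229876, 25),
  (61566, 7, 196623, 21),
  (61569, 6, 83125, 23),
  (61570, 6, 73871, 21),
  (61572, 6, 8428, 10),
  (61575, 7, 235581, 25),
  (61577, 5, 127193, 16),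
  (61578, 3, 90186, 15),
  (61580, 3, 90188, 15),
  (61583, 6, 233654, 26),
  (61585, 6, 225282, 20),
  (61586, 5, 174450, 44),
  (61588, 6, 82012, 1),
  (61591, 6, 126205, 5),
  (61593, 4, 229782, 26),
  (61594, 4, 225300, 20),
  (61596, 6, 94460, 14),
  (61599, 6, 27853, 8),
  (61601, 4, 229462, 26),
  (61602, 4, 229478, 26),
  (61604, 6, 233542, 26),
  (61607, 6, 97355, 7),
  (61609, 4, 151668, 19),
  (61610, 6, 126978, 16),
  (61612, 5, 174374, 44),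
  (61615, 6, 93259, 7),
  (61617, 6, 229718, 26),
  (61618, 5, 122906, 16),
  (61620, 5, 88482, 41),
  (61623, 6, 233846, 26),
  (61625, 7, 229846, 26),
  (61626, 6, 156693, 23),
  (61628, 6, 25685, 23),
  (61631, 6, 127047, 3),
  (61633, 6, 160084, 19),
  (61634, 6, 61586, 13),
  (61636, 6, 126988, 15),
  (61639, 5, 174413, 44),
  (61641, 6, 160116, 19),
  (61642, 4, 84326, 26),
  (61644, 6, 160114, 19),
  (61647, 6, 31955, 4),
  (61649, 5, 127193, 12),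
  (61650, 6, 37114, 14),
  (61652, 4, 133326, 26),
  (61655, 5, 88165, 41),
  (61657, 5, 88293, 41),
  (61658, 5, 122906, 15),
  (61660, 6, 90316, 2),
  (61663, 6, 223358, 26),
  (61665, 6, 229541, 25),
  (61666, 5, 88458, 37),
  (61668, 6, 82012, 3),
  (61671, 5, 88169, 41),
  (61673, 7, 108822, 26),
  (61674, 6, 150549, 23),
  (61676, 6, 94460, 16),
  (61679, 6, 125963, 7),
  (61681, 4, 151900, 19),
  (61682, 3, 90186, 3),
  (61684, 3, 90188, 3),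
  (61687, 6, 190654, 26),
  (61689, 6, 225434, 20),
  (61690, 6, 206145, 24),
  (61692, 6, 82012, 11),
  (61695, 6, 256062, 26),
  (61697, 6, 225428, 19),
  (61698, 6, 155754, 2),
  (61700, 6, 215397, 24),
  (61703, 6, 235582, 25),
  (61705, 4, 139575, 22),
  (61706, 3, 156026, 6),
  (61708, 3, 156028, 6),
  (61711, 6, 235838, 25),
  (61713, 5, 233633, 39),
  (61714, 6, 192882, 17),
  (61716, 6, 225434, 19),
  (61719, 6, 235646, 25),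
  (61721, 6, 155721, 8),
  (61722, 4, 94292, 20),
  (61724, 6, 192820, 8),
  (61727, 5, 233697, 39),
  (61729, 6, 142645, 22),
  (61730, 6, 16762, 11),
  (61732, 6, 172332, 8),
  (61735, 6, 191867, 4),
  (61737, 6, 231846, 25),
  (61738, 6, 139642, 6),
  (61740, 5, 188764, 11),
  (61743, 5, 174109, 44),
  (61745, 6, 94282, 20),
  (61746, 6, 94284, 20),
  (61748, 4, 231638, 25),
  (61751, 6, 183675, 4),
  (61753, 6, 53295, 21),
  (61754, 6, 155770, 15),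
  (61756, 6, 160084, 10),
  (61759, 5, 88257, 41),
  (61761, 6, 157975, 22),
  (61762, 6, 26711, 22),
  (61764, 6, 172332, 10),
  (61767, 6, 192831, 6),
  (61769, 6, 229670, 25),
  (61770, 5, 174182, 44),
  (61772, 6, 225714, 19),
  (61775, 6, 233790, 25),
  (61777, 4, 229478, 25),
  (61778, 6, 16762, 12),
  (61780, 4, 229462, 25),
  (61783, 6, 150875, 4),
  (61785, 6, 225724, 19),
  (61786, 6, 139642, 1),
  (61788, 5, 88326, 41),
  (61791, 6, 162171, 17),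
  (61793, 5, 78058, 20),
  (61794, 5, 88458, 41),
  (61796, 6, 147548, 3),
  (61799, 6, 38269, 13),
  (61801, 5, 229798, 25),
  (61802, 6, 233870, 25),
  (61804, 4, 229782, 25),
  (61807, 6, 34173, 13),
  (61809, 6, 155721, 3),
  (61810, 4, 155722, 3),
  (61812, 4, 380, 12),
  (61815, 6, 234865, 26),
  (61817, 7, 229862, 25),
  (61818, 6, 159810, 3),
  (61820, 6, 147503, 21),
  (61823, 7, 245807, 21),
  (61827, 6, 82395, 11),
  (61829, 6, 119997, 23),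
  (61830, 6, 178362, 14),
  (61835, 6, 209014, 20),
  (61837, 6, 231735, 25),
  (61838, 6, 220223, 21),
  (61843, 6, 251089, 16),
  (61845, 6, 225502, 19),
  (61846, 6, 247966, 7),
  (61851, 5, 76997, 38),
  (61853, 6, 47597, 15),
  (61854, 5, 10390, 38),
  (61859, 6, 217301, 19),
  (61861, 5, 115891, 43),
  (61862, 5, 45262, 38),
  (61867, 6, 144765, 22),
  (61869, 6, 233687, 26),
  (61870, 5, 67734, 38),
  (61875, 6, 90603, 11),
  (61877, 6, 156125, 10),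
  (61878, 6, 247998, 7),
  (61883, 6, 225374, 20),
  (61885, 6, 122287, 24),
  (61886, 5, 129127, 22),
  (61891, 6, 233519, 25),
  (61893, 7, 234517, 26),
  (61894, 5, 193837, 23),
  (61899, 6, 177569, 10),
  (61901, 6, 121233, 11),
  (61902, 6, 121150, 4),
  (61907, 5, 128361, 13),
  (61909, 5, 144771, 40),
  (61910, 5, 67602, 38),
  (61915, 6, 225494, 20),
  (61917, 6, 154065, 4),
  (61918, 5, 129410, 11),
  (61923, 6, 233647, 25),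
  (61925, 6, 217558, 19),
  (61926, 5, 163860, 44),
  (61931, 5, 144521, 40),
  (61933, 6, 211305, 17),
  (61934, 5, 254116, 44),
  (61939, 6, 113889, 21),
  (61941, 6, 253249, 24),
  (61942, 6, 212385, 21),
  (61947, 6, 178279, 22),
  (61949, 6, 252253, 2),
  (61950, 6, 88538, 8),
  (62465, 5, 250308, 25),
  (62467, 4, 98383, 21),
  (62473, 4, 79922, 20),
  (62475, 6, 245938, 26),
  (62481, 5, 164941, 43),
  (62483, 6, 209353, 24),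
  (62489, 7, 86468, 25),
  (62491, 6, 199827, 23),
  (62497, 6, 69977, 24),
  (62499, 6, 14583, 41),
  (62505, 6, 208149, 23),
  (62507, 6, 145705, 19),
  (62513, 6, 5241, 6),
  (62515, 6, 24667, 10),
  (62521, 6, 24667, 7),
  (62523, 7, 96286, 20),
  (62529, 5, 180299, 37),
  (62531, 6, 25042, 26),
  (62537, 6, 75143, 23),
  (62539, 6, 90450, 26),
  (62545, 6, 38085, 21),
  (62547, 4, 233572, 25),
  (62553, 4, 229740, 25),
  (62555, 4, 96406, 20),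
  (62561, 4, 229548, 25)]

theorem chk_rows2_6 : rows2_6.all (rowBP tr2 gensLitP 72) = true := by decide +kernel

/-- Rows 10500 to 11999. -/
def rows2_7 : List (ℕ × ℕ × ℕ × ℕ) := [(62563, 4, 80046, 20),
  (62569, 4, 80058, 20),
  (62571, 6, 123154, 26),
  (62577, 5, 180587, 37),
  (62579, 7, 233700, 25),
  (62585, 6, 209233, 24),
  (62587, 6, 66837, 23),
  (62597, 6, 95485, 6),
  (62599, 6, 249910, 26),
  (62605, 6, 210995, 20),
  (62607, 5, 78227, 38),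
  (62613, 6, 250134, 26),
  (62615, 6, 77945, 38),
  (62621, 6, 250262, 26),
  (62623, 6, 129271, 5),
  (62629, 6, 103487, 13),
  (62631, 6, 127223, 16),
  (62637, 6, 250070, 26),
  (62639, 5, 128299, 24),
  (62645, 6, 175561, 21),
  (62647, 6, 235765, 25),
  (62653, 6, 128069, 3),
  (62655, 6, 97507, 11),
  (62661, 6, 112683, 7),
  (62663, 5, 27102, 26),
  (62669, 6, 76158, 26),
  (62671, 6, 26879, 42),
  (62677, 6, 119997, 6),
  (62679, 6, 97395, 17),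
  (62685, 5, 14661, 41),
  (62687, 6, 115903, 6),
  (62693, 6, 95479, 16),
  (62695, 5, 129111, 2),
  (62701, 6, 108862, 26),
  (62703, 6, 125214, 26),
  (62709, 6, 213335, 23),
  (62711, 5, 126123, 11),
  (62717, 6, 239678, 26),
  (62719, 6, 95303, 3),
  (62725, 6, 194831, 12),
  (62727, 5, 180713, 37),
  (62733, 5, 198043, 39),
  (62735, 6, 250035, 26),
  (62741, 6, 224355, 22),
  (62743, 6, 165143, 43),
  (62749, 6, 250259, 26),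
  (62751, 6, 235894, 25),
  (62757, 6, 231614, 25),
  (62759, 5, 235702, 25),
  (62765, 6, 121149, 24),
  (62767, 6, 146857, 19),
  (62773, 6, 194879, 12),
  (62775, 6, 235766, 25),
  (62781, 5, 197659, 39),
  (62783, 6, 193607, 3),
  (62789, 5, 6519, 15),
  (62791, 6, 186399, 8),
  (62797, 6, 251025, 26),
  (62799, 6, 189759, 6),
  (62805, 6, 163185, 17),
  (62807, 6, 194575, 8),
  (62813, 6, 163193, 17),
  (62815, 6, 251313, 26),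
  (62821, 6, 229566, 25),
  (62823, 6, 233654, 25),
  (62829, 5, 51341, 44),
  (62831, 6, 163185, 4),
  (62837, 5, 77867, 38),
  (62839, 6, 233718, 25),
  (62845, 6, 146809, 17),
  (62847, 6, 233974, 25),
  (62849, 6, 250035, 1),
  (62851, 6, 139755, 10),
  (62857, 6, 87505, 11),
  (62859, 6, 211062, 20),
  (62865, 5, 128299, 13),
  (62867, 6, 227398, 20),
  (62873, 6, 227410, 20),
  (62875, 6, 185809, 4),
  (62881, 6, 233651, 1),
  (62883, 6, 106987, 5),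
  (62889, 6, 211066, 20),
  (62891, 5, 147707, 8),
  (62897, 6, 73183, 24),
  (62899, 6, 242849, 1),
  (62905, 6, 90459, 7),
  (62907, 6, 246263, 26),
  (62913, 6, 120187, 13),
  (62915, 6, 90603, 5),
  (62921, 6, 120209, 11),
  (62923, 6, 211190, 20),
  (62929, 5, 147931, 4),
  (62931, 6, 227526, 20),
  (62937, 6, 152019, 4),
  (62939, 6, 107833, 7),
  (62945, 6, 211178, 20),
  (62947, 6, 74219, 5),
  (62953, 5, 193821, 22),
  (62955, 6, 189659, 14),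
  (62961, 6, 227530, 20),
  (62963, 6, 124331, 11),
  (62969, 6, 227546, 20),
  (62971, 6, 210299, 17),
  (63489, 6, 30841, 6),
  (63490, 5, 106510, 38),
  (63493, 7, 229402, 26),
  (63494, 5, 82020, 44),
  (63497, 6, 233769, 24),
  (63498, 5, 147500, 41),
  (63501, 5, 21649, 40),
  (63502, 4, 98780, 25),
  (63505, 4, 14630, 19),
  (63506, 3, 205276, 25),
  (63509, 4, 229658, 26),
  (63510, 6, 61454, 5),
  (63513, 4, 9387, 20),
  (63514, 4, 233898, 26),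
  (63517, 6, 39183, 21),
  (63518, 6, 66012, 25),
  (63521, 6, 134565, 22),
  (63522, 6, 174103, 23),
  (63525, 4, 162090, 19),
  (63526, 6, 39034, 10),
  (63529, 5, 26910, 19),
  (63530, 6, 175125, 23),
  (63533, 4, 49620, 25),
  (63534, 5, 100442, 44),
  (63537, 6, 156116, 25),
  (63538, 5, 106654, 38),
  (63541, 6, 147924, 25),
  (63542, 4, 65578, 40),
  (63545, 6, 215207, 22),
  (63546, 5, 16652, 41),
  (63549, 5, 21659, 40),
  (63550, 4, 476, 25),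
  (63553, 6, 149895, 22),
  (63554, 5, 147722, 40),
  (63557, 6, 24669, 4),
  (63558, 4, 241692, 25),
  (63561, 6, 157710, 19),
  (63562, 5, 106504, 38),
  (63565, 6, 6261, 3),
  (63566, 4, 86378, 26),
  (63569, 6, 143570, 26),
  (63570, 4, 151778, 26),
  (63573, 6, 233569, 24),
  (63574, 6, 142657, 23),
  (63577, 6, 217185, 24),
  (63578, 5, 63542, 2),
  (63581, 5, 198965, 39),
  (63582, 6, 36071, 22),
  (63585, 6, 87091, 20),
  (63586, 6, 19653, 22),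
  (63589, 6, 36981, 1),
  (63590, 6, 59514, 7),
  (63593, 6, 30841, 16),
  (63594, 6, 61558, 7),
  (63597, 6, 135649, 24),
  (63598, 6, 63602, 7),
  (63601, 6, 237796, 25),
  (63602, 5, 151852, 37),
  (63605, 5, 26922, 19),
  (63606, 5, 241884, 25),
  (63609, 4, 161814, 19),
  (63610, 6, 180296, 37),
  (63613, 4, 241690, 26),
  (63614, 4, 18617, 20),
  (63619, 5, 129127, 17),
  (63623, 6, 119991, 1),
  (63627, 6, 233662, 26),
  (63631, 5, 21835, 40),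
  (63635, 6, 243821, 25),
  (63639, 6, 37055, 14),
  (63643, 6, 35007, 14),
  (63647, 6, 244093, 25),
  (63651, 6, 97359, 7),
  (63655, 5, 137561, 41),
  (63659, 6, 111845, 5),
  (63663, 5, 126123, 12),
  (63667, 6, 128191, 12),
  (63671, 6, 243965, 25),
  (63675, 6, 111861, 5),
  (63679, 6, 126139, 12),
  (63683, 5, 5367, 15),
  (63687, 5, 25841, 42),
  (63691, 6, 96630, 26),
  (63695, 6, 125119, 6),
  (63699, 6, 162038, 26),
  (63703, 6, 241789, 25),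
  (63707, 6, 21645, 40),
  (63711, 6, 224739, 23),
  (63715, 6, 241837, 25),
  (63719, 6, 63934, 26),
  (63723, 5, 129334, 26),
  (63727, 6, 129342, 26),
  (63731, 6, 241901, 25),
  (63735, 5, 25793, 42),
  (63739, 5, 100393, 44),
  (63743, 6, 31947, 15),
  (63747, 6, 162171, 6),
  (63751, 6, 243774, 25),
  (63755, 6, 244014, 25),
  (63759, 6, 205175, 22),
  (63763, 6, 174187, 3),
  (63767, 5, 100585, 44),
  (63771, 6, 165951, 14),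
  (63775, 6, 178279, 3),
  (63779, 6, 243886, 25),
  (63783, 6, 243902, 25),
  (63787, 5, 193821, 2),
  (63791, 6, 193911, 4),
  (63795, 6, 198747, 39),
  (63799, 6, 243966, 25),
  (63803, 5, 244206, 25),
  (63807, 6, 185719, 4),
  (63811, 6, 51487, 11),
  (63815, 6, 194879, 6),
  (63819, 6, 234681, 26),
  (63823, 5, 191819, 12),
  (63827, 6, 193549, 8),
  (63831, 6, 243809, 24),
  (63835, 6, 106777, 38),
  (63839, 6, 242046, 25),
  (63843, 5, 195041, 24),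
  (63847, 6, 241854, 25),
  (63851, 6, 36217, 13),
  (63855, 6, 162941, 16),
  (63859, 5, 106595, 38),
  (63863, 6, 241918, 25),
  (63867, 6, 242158, 25),
  (63871, 6, 191867, 12),
  (63873, 6, 121145, 13),
  (63874, 6, 243727, 25),
  (63877, 6, 186810, 19),
  (63878, 6, 204975, 21),
  (63881, 6, 117049, 13),
  (63882, 6, 248094, 5),
  (63885, 6, 170426, 19),
  (63886, 6, 89407, 21),
  (63889, 6, 129321, 13),
  (63890, 5, 243791, 25),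
  (63893, 5, 252117, 16),
  (63894, 6, 106696, 38),
  (63897, 5, 252121, 16),
  (63898, 5, 151588, 41),
  (63901, 5, 74109, 7),
  (63902, 5, 151588, 37),
  (63905, 6, 129047, 23),
  (63906, 6, 43514, 12),
  (63909, 5, 129111, 23),
  (63910, 5, 106584, 38),
  (63913, 6, 147709, 8),
  (63914, 5, 20748, 41),
  (63917, 6, 178602, 19),
  (63918, 5, 106514, 38),
  (63921, 6, 113014, 19),
  (63922, 5, 121302, 8),
  (63925, 6, 239863, 25),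
  (63926, 6, 192599, 23),
  (63929, 6, 155885, 8),
  (63930, 5, 96742, 11),
  (63933, 6, 90461, 7),
  (63934, 5, 190938, 1),
  (63937, 6, 237607, 25),
  (63938, 6, 117150, 11),
  (63941, 6, 156125, 4),
  (63942, 6, 145898, 1),
  (63945, 6, 178593, 10),
  (63946, 6, 241935, 25),
  (63949, 6, 138465, 24),
  (63950, 7, 194970, 13),
  (63953, 6, 125325, 11),
  (63954, 5, 151596, 37),
  (63957, 6, 236641, 24),
  (63958, 5, 151586, 37),
  (63961, 6, 260166, 19),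
  (63962, 6, 10278, 42),
  (63965, 6, 106813, 7),
  (63966, 5, 106702, 38),
  (63969, 5, 74221, 5),
  (63970, 5, 151820, 37),
  (63973, 6, 63914, 19),
  (63974, 5, 151820, 41),
  (63977, 6, 161181, 22),
  (63978, 4, 172114, 43),
  (63981, 6, 233725, 1),
  (63982, 6, 242079, 25),
  (63985, 6, 243830, 19),
  (63986, 6, 174270, 2),
  (63989, 6, 219381, 16),
  (63990, 6, 162266, 1),
  (63993, 6, 243949, 1),
  (63994, 6, 234989, 26),
  (63997, 6, 241901, 1),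
  (63998, 5, 252146, 7),
  (64641, 6, 249886, 26),
  (64643, 6, 97531, 6),
  (64645, 6, 46269, 14),
  (64647, 6, 128103, 17),
  (64649, 5, 250014, 26),
  (64651, 6, 93435, 6),
  (64653, 6, 39163, 15),
  (64655, 6, 119997, 1),
  (64657, 6, 226317, 40),
  (64659, 6, 243813, 25),
  (64661, 6, 31947, 8),
  (64663, 6, 238669, 21),
  (64665, 6, 250270, 26),
  (64667, 6, 36031, 14),
  (64669, 6, 246174, 26),
  (64671, 6, 246206, 26),
  (64673, 6, 249950, 26),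
  (64675, 6, 60669, 4),
  (64677, 6, 87387, 24),
  (64679, 6, 129271, 16),
  (64681, 6, 63735, 4),
  (64683, 6, 244133, 25),
  (64685, 6, 60765, 19),
  (64687, 6, 214429, 20),
  (64689, 6, 71163, 24),
  (64691, 6, 112683, 13),
  (64693, 6, 126029, 3),
  (64695, 5, 126031, 3),
  (64697, 6, 31955, 10),
  (64699, 6, 252071, 22),
  (64701, 6, 102815, 21),
  (64703, 6, 256025, 44),
  (64705, 6, 124389, 23),
  (64707, 6, 31190, 26),
  (64709, 6, 252175, 22),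
  (64711, 6, 241735, 21),
  (64713, 6, 80246, 26),
  (64715, 5, 5373, 15),
  (64717, 6, 97507, 5),
  (64719, 6, 7417, 15),
  (64721, 6, 178279, 19),
  (64723, 6, 162006, 26),
  (64725, 6, 93435, 5),
  (64727, 7, 51515, 19),
  (64729, 6, 95479, 5),
  (64731, 6, 242021, 25),
  (64733, 6, 100767, 21),
  (64735, 6, 224483, 23),
  (64737, 6, 128087, 2),
  (64739, 6, 117015, 23),
  (64741, 6, 126991, 7),
  (64743, 6, 243779, 21),
  (64745, 6, 97531, 16),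
  (64747, 6, 185805, 22),
  (64749, 6, 112958, 26),
  (64751, 5, 34207, 21),
  (64753, 6, 70967, 20),
  (64755, 6, 93259, 3),
  (64757, 6, 93261, 3),
  (64759, 6, 194718, 26),
  (64761, 6, 238061, 25),
  (64763, 6, 218481, 24),
  (64765, 6, 97349, 3),
  (64767, 6, 126201, 12),
  (64769, 6, 37239, 15),
  (64771, 6, 194643, 16),
  (64773, 6, 163197, 6),
  (64775, 6, 227661, 24),
  (64777, 6, 239918, 25),
  (64779, 6, 38269, 15),
  (64781, 6, 122287, 21),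
  (64783, 6, 260365, 24),
  (64785, 6, 224483, 22),
  (64787, 5, 193821, 12),
  (64789, 6, 194843, 12),
  (64791, 6, 161867, 8),
  (64793, 7, 96519, 19),
  (64795, 6, 244070, 25),
  (64797, 6, 158795, 8),
  (64799, 6, 119997, 20),
  (64801, 5, 35307, 21),
  (64803, 5, 193837, 12),
  (64805, 6, 194859, 12),
  (64807, 6, 243894, 25),
  (64809, 6, 251311, 21),
  (64811, 7, 244134, 25),
  (64813, 6, 36159, 13),
  (64815, 6, 194843, 2),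
  (64817, 6, 192831, 12),
  (64819, 6, 243942, 25),
  (64821, 6, 162923, 8),
  (64823, 6, 243958, 25),
  (64825, 6, 250287, 21),
  (64827, 6, 244198, 25),
  (64829, 6, 243029, 23),
  (64831, 5, 191801, 12),
  (64833, 6, 227709, 41),
  (64835, 6, 242893, 23),
  (64837, 6, 237630, 25),
  (64839, 6, 161879, 16),
  (64841, 5, 191801, 6),
  (64843, 6, 241958, 25),
  (64845, 5, 6523, 15),
  (64847, 6, 54429, 20),
  (64849, 6, 60685, 11),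
  (64851, 6, 192527, 8),
  (64853, 6, 237694, 25),
  (64855, 6, 241782, 25),
  (64857, 6, 248239, 21),
  (64859, 6, 251321, 26),
  (64861, 6, 32115, 5),
  (64863, 6, 255415, 43),
  (64865, 6, 206911, 19),
  (64867, 6, 251001, 26),
  (64869, 6, 60573, 20),
  (64871, 6, 186427, 8),
  (64873, 6, 162167, 4),
  (64875, 6, 60685, 7),
  (64877, 6, 145905, 24),
  (64879, 6, 242102, 25),
  (64881, 6, 178279, 1),
  (64883, 6, 158795, 3),
  (64885, 6, 158797, 3),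
  (64887, 5, 241910, 25),
  (64889, 6, 162881, 3),
  (64891, 6, 162883, 3),
  (64893, 6, 144765, 17),
  (64895, 6, 242166, 25),
  (65537, 3, 4097, 34),
  (65538, 1, 72, 22),
  (65540, 2, 131332, 35),
  (65543, 4, 32775, 19),
  (65544, 3, 16420, 35),
  (65547, 6, 65675, 17),
  (65549, 4, 155953, 25),
  (65550, 3, 401, 21),
  (65552, 2, 32776, 19),
  (65555, 4, 155956, 26),
  (65557, 5, 32782, 19),
  (65558, 5, 32779, 19),
  (65561, 6, 37066, 24),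
  (65562, 4, 38917, 22),
  (65564, 4, 275, 21),
  (65567, 5, 155829, 37),
  (65568, 2, 32776, 32),
  (65571, 4, 16769, 23),
  (65573, 4, 90289, 25),
  (65574, 7, 36994, 22),
  (65577, 4, 213409, 25),
  (65578, 3, 38918, 22),
  (65580, 4, 205201, 25),
  (65583, 6, 39302, 22),
  (65585, 3, 177, 12),
  (65586, 4, 36867, 22),
  (65588, 6, 90148, 5),
  (65591, 4, 470, 21),
  (65592, 4, 6151, 22),
  (65595, 6, 176346, 24),
  (65597, 5, 343, 21),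
  (65598, 5, 204946, 38),
  (65600, 3, 131076, 29),
  (65603, 5, 16784, 23),
  (65605, 5, 204811, 38),
  (65606, 6, 98502, 15),
  (65609, 4, 1097, 24),
  (65610, 6, 37066, 11),
  (65612, 4, 90114, 42),
  (65615, 5, 473, 21),
  (65617, 6, 4385, 22),
  (65618, 4, 36933, 25),
  (65620, 4, 282, 21),
  (65623, 4, 474, 21),
  (65624, 4, 147888, 20),
  (65627, 5, 219, 21),
  (65629, 5, 347, 21),
  (65630, 6, 110606, 12),
  (65633, 4, 16529, 23),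
  (65634, 4, 16657, 23),
  (65636, 4, 38926, 26),
  (65639, 4, 476, 21),
  (65640, 7, 131480, 20),
  (65643, 6, 39206, 22),
  (65645, 5, 349, 21),
  (65646, 5, 413, 21),
  (65648, 6, 98480, 6),
  (65651, 5, 38187, 40),
  (65653, 6, 178190, 26),
  (65654, 4, 414, 21),
  (65657, 6, 6439, 22),
  (65658, 6, 38951, 22),
  (65660, 5, 287, 21),
  (65663, 6, 41263, 19),
  (65665, 3, 32833, 32),
  (65666, 2, 32840, 22),
  (65668, 3, 131076, 35),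
  (65671, 4, 32839, 19),
  (65672, 2, 65538, 31),
  (65675, 5, 90355, 42),
  (65677, 4, 155649, 25),
  (65678, 4, 205202, 38),
  (65680, 2, 32840, 19),
  (65683, 4, 32845, 19),
  (65685, 5, 32846, 19),
  (65686, 4, 32843, 19),
  (65689, 6, 8259, 21),
  (65690, 4, 38925, 22),
  (65692, 4, 16689, 20),
  (65695, 6, 225292, 26),
  (65696, 2, 32776, 34),
  (65699, 5, 16801, 23),
  (65701, 4, 90113, 25),
  (65702, 7, 8580, 21),
  (65705, 4, 212993, 25),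
  (65706, 4, 38926, 22),
  (65708, 4, 204801, 25),
  (65711, 5, 287, 20),
  (65713, 4, 90289, 15),
  (65714, 4, 36875, 22),
  (65716, 6, 41034, 19),
  (65719, 6, 90119, 6),
  (65720, 4, 6159, 22),
  (65723, 5, 35989, 43),
  (65725, 6, 241676, 26),
  (65726, 5, 12372, 44),
  (65728, 2, 131332, 29),
  (65731, 5, 16816, 23),
  (65733, 6, 34945, 17),
  (65734, 6, 67654, 7),
  (65737, 4, 1099, 24),
  (65738, 6, 69826, 14),
  (65740, 3, 401, 20),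
  (65743, 5, 407, 20),
  (65745, 6, 32913, 17),
  (65746, 5, 34829, 25),
  (65748, 5, 16801, 20),
  (65751, 6, 159758, 26),
  (65752, 5, 16816, 20),
  (65755, 5, 90405, 42),
  (65757, 4, 125078, 23),
  (65758, 5, 110662, 6),
  (65761, 4, 8268, 21),
  (65762, 4, 16689, 23),
  (65764, 3, 36878, 26),
  (65767, 6, 61454, 26),
  (65768, 7, 98310, 26),
  (65771, 4, 414, 20),
  (65773, 6, 110606, 26),
  (65774, 5, 413, 20),
  (65776, 5, 213038, 39),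
  (65779, 6, 8398, 21),
  (65781, 6, 197931, 24),
  (65782, 5, 184334, 26),
  (65785, 6, 237574, 26),
  (65786, 6, 245766, 26),
  (65788, 5, 10322, 43),
  (65791, 6, 127047, 6),
  (65795, 6, 197633, 8),
  (65797, 6, 2433, 11),
  (65798, 5, 16784, 21),
  (65801, 5, 38990, 24),
  (65802, 4, 16529, 21),
  (65804, 4, 16657, 21),
  (65807, 4, 233898, 23),
  (65809, 3, 401, 5),
  (65810, 4, 37955, 25),
  (65812, 6, 204948, 3),
  (65815, 6, 37265, 22),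
  (65816, 5, 188486, 43),
  (65819, 6, 147830, 20),
  (65821, 6, 189811, 25),
  (65822, 5, 155924, 37),
  (65825, 3, 417, 11),
  (65826, 5, 155766, 37),
  (65828, 5, 6209, 26),
  (65831, 6, 37266, 22),
  (65832, 6, 213384, 17),
  (65835, 6, 17801, 23),
  (65837, 6, 6569, 11),
  (65838, 5, 205186, 38),
  (65840, 4, 213296, 1),
  (65843, 6, 106637, 19),
  (65845, 6, 16726, 21),
  (65846, 6, 196790, 15),
  (65849, 4, 106668, 19),
  (65850, 5, 78046, 43),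
  (65852, 6, 182502, 24),
  (65855, 5, 155781, 37),
  (65857, 5, 1037, 24),
  (65858, 4, 5127, 25),
  (65860, 4, 7171, 26),
  (65863, 5, 204981, 38),
  (65864, 5, 1093, 24),
  (65867, 6, 192588, 22),
  (65869, 6, 225292, 22),
  (65870, 5, 39370, 11),
  (65872, 4, 33863, 25),
  (65875, 6, 37169, 22),
  (65877, 6, 35221, 5),
  (65878, 4, 49500, 23),
  (65881, 6, 147954, 20),
  (65882, 6, 147956, 20),
  (65884, 5, 41030, 43),
  (65887, 6, 193911, 25),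
  (65888, 4, 3139, 26),
  (65891, 6, 131534, 20),
  (65893, 5, 205195, 38),
  (65894, 6, 37042, 22),
  (65897, 5, 250217, 10),
  (65898, 5, 38966, 22),
  (65900, 5, 90258, 42),
  (65903, 6, 216557, 2),
  (65905, 6, 90577, 13),
  (65906, 6, 147948, 20),
  (65908, 4, 106890, 19),
  (65911, 5, 204837, 38),
  (65912, 6, 6199, 22),
  (65915, 6, 39223, 22),
  (65917, 5, 106926, 19),
  (65918, 6, 39095, 22),
  (65923, 6, 16808, 23),
  (65925, 6, 98502, 19),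
  (65926, 4, 197040, 21),
  (65929, 5, 38914, 24),
  (65930, 4, 24705, 21),
  (65932, 4, 24833, 21),
  (65935, 5, 343, 20),
  (65937, 3, 401, 7),
  (65938, 5, 33801, 25),
  (65940, 5, 155694, 37),
  (65943, 6, 25026, 21),
  (65944, 6, 204824, 1),
  (65947, 6, 5523, 7),
  (65949, 6, 204813, 16),
  (65950, 5, 204930, 38),
  (65953, 4, 213409, 10),
  (65954, 6, 213122, 2),
  (65956, 4, 329, 20),
  (65959, 6, 6261, 26),
  (65960, 6, 213384, 7),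
  (65963, 6, 147851, 17),
  (65965, 5, 347, 20),
  (65966, 5, 204818, 38),
  (65968, 4, 196912, 3),
  (65971, 6, 155827, 3),
  (65973, 5, 88450, 24),
  (65974, 6, 6501, 26),
  (65977, 6, 16762, 20),
  (65978, 4, 17709, 23),
  (65980, 6, 24839, 21),
  (65983, 5, 129410, 24),
  (65985, 4, 1039, 24),
  (65986, 4, 3085, 25),
  (65988, 4, 449, 20),
  (65991, 5, 455, 20),
  (65992, 4, 1095, 24),
  (65995, 4, 470, 20),
  (65997, 5, 213045, 39),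
  (65998, 6, 235910, 1),
  (66000, 4, 35845, 25),
  (66003, 6, 16870, 20),
  (66005, 6, 66607, 24),
  (66006, 5, 207042, 14),
  (66009, 6, 3479, 26),
  (66010, 4, 162078, 23),
  (66012, 5, 90130, 42),
  (66015, 6, 191501, 25),
  (66016, 4, 456, 20),
  (66019, 5, 38185, 40),
  (66021, 6, 106950, 19),
  (66022, 6, 7271, 26),
  (66025, 4, 474, 20),
  (66026, 4, 476, 20),
  (66028, 5, 90146, 42),
  (66031, 6, 479, 20),
  (66033, 6, 197903, 24),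
  (66034, 6, 24718, 21),
  (66036, 5, 106510, 41),
  (66039, 6, 7543, 26),
  (66040, 6, 24591, 21),
  (66043, 5, 36175, 43),
  (66045, 5, 213429, 39),
  (66046, 6, 7655, 26),
  (66565, 5, 3143, 19),
  (66567, 4, 35905, 19),
  (66569, 6, 135244, 22),
  (66571, 6, 65675, 2),
  (66577, 4, 6221, 19),
  (66579, 4, 38977, 19),
  (66589, 6, 192889, 25),
  (66591, 7, 231590, 23),
  (66593, 4, 147585, 23),
  (66595, 4, 147841, 23),
  (66605, 6, 39366, 22),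
  (66607, 5, 175, 16),
  (66613, 5, 172412, 26),
  (66615, 5, 188764, 26),
  (66617, 4, 168154, 24),
  (66619, 6, 148869, 23),
  (66625, 4, 147600, 23),
  (66627, 4, 147856, 23),
  (66637, 6, 38085, 6),
  (66639, 7, 155965, 25),
  (66645, 6, 180436, 23),
  (66647, 5, 145454, 26),
  (66649, 6, 74825, 24),
  (66651, 6, 6501, 22),
  (66661, 6, 37346, 22),
  (66663, 6, 66012, 21),
  (66665, 6, 39270, 22),
  (66667, 5, 108582, 26),
  (66673, 6, 190502, 26),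
  (66675, 6, 65758, 21),
  (66685, 6, 39399, 22),
  (66687, 6, 128191, 3),
  (66693, 5, 35847, 19),
  (66695, 4, 3137, 19),
  (66697, 6, 90148, 26),
  (66699, 6, 213122, 23),
  (66705, 4, 38925, 19),
  (66707, 5, 6209, 19),
  (66717, 4, 127122, 24),
  (66719, 4, 247942, 23),
  (66721, 5, 147617, 23),
  (66723, 4, 73924, 21),
  (66733, 6, 89103, 5),
  (66735, 7, 27729, 19),
  (66741, 6, 126977, 25),
  (66743, 6, 180709, 23),
  (66745, 6, 249857, 25),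
  (66747, 6, 73927, 21),
  (66753, 4, 147632, 23),
  (66755, 4, 147888, 23),
  (66765, 3, 213068, 22),
  (66767, 5, 161805, 25),
  (66773, 6, 74058, 21),
  (66775, 6, 74811, 24),
  (66777, 6, 39277, 22),
  (66779, 6, 33947, 17),
  (66789, 6, 61486, 26),
  (66791, 7, 96269, 25),
  (66793, 5, 119873, 6),
  (66795, 6, 106534, 26),
  (66801, 6, 37227, 22),
  (66803, 6, 24803, 2),
  (66813, 6, 128069, 6),
  (66815, 6, 97507, 14),
  (66817, 6, 82000, 21),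
  (66819, 6, 1411, 11),
  (66829, 6, 22673, 26),
  (66831, 6, 241676, 22),
  (66837, 5, 208263, 2),
  (66839, 6, 22833, 26),
  (66841, 6, 202011, 10),
  (66843, 4, 202926, 23),
  (66853, 5, 216097, 14),
  (66855, 6, 82388, 21),
  (66857, 6, 218539, 25),
  (66859, 6, 6486, 22),
  (66865, 6, 82006, 21),
  (66867, 7, 145550, 24),
  (66877, 6, 211243, 4),
  (66879, 6, 194798, 24),
  (66885, 6, 232833, 17),
  (66887, 6, 23603, 26),
  (66889, 6, 215397, 19),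
  (66891, 6, 37259, 5),
  (66897, 6, 147612, 23),
  (66899, 6, 19763, 26),
  (66909, 6, 113086, 23),
  (66911, 6, 212035, 14),
  (66913, 6, 82012, 21),
  (66915, 6, 4466, 22),
  (66925, 6, 121315, 7),
  (66927, 6, 6646, 22),
  (66933, 6, 240759, 8),
  (66935, 5, 249235, 17),
  (66937, 6, 251259, 10),
  (66939, 5, 6519, 22),
  (66945, 6, 1411, 13),
  (66947, 6, 197633, 1),
  (66957, 4, 204876, 22),
  (66959, 6, 237580, 22),
  (66965, 5, 180460, 23),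
  (66967, 5, 88210, 24),
  (66969, 6, 39261, 22),
  (66971, 4, 18806, 20),
  (66981, 6, 37338, 22),
  (66983, 4, 22802, 24),
  (66985, 6, 213003, 1),
  (66987, 6, 218121, 25),
  (66993, 4, 90182, 21),
  (66995, 4, 72082, 24),
  (67005, 6, 228513, 14),
  (67007, 6, 90567, 21),
  (67013, 6, 35267, 7),
  (67015, 5, 455, 13),
  (67017, 4, 155724, 22),
  (67019, 6, 225434, 23),
  (67025, 3, 90186, 21),
  (67027, 7, 147900, 23),
  (67037, 6, 238607, 16),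
  (67039, 7, 6653, 22),
  (67041, 3, 90188, 21),
  (67043, 6, 4474, 22),
  (67053, 6, 2523, 20),
  (67055, 6, 158929, 19),
  (67061, 6, 206127, 24),
  (67063, 5, 25047, 13),
  (67065, 6, 193721, 3),
  (67067, 6, 111995, 11),
  (67587, 4, 28724, 26),
  (67591, 4, 33799, 19),
  (67593, 5, 147761, 25),
  (67594, 4, 131217, 21),
  (67597, 4, 155937, 25),
  (67598, 5, 131473, 21),
  (67601, 4, 6222, 19),
  (67602, 4, 151844, 26),
  (67605, 4, 38978, 19),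
  (67606, 5, 33803, 19),
  (67611, 6, 5277, 5),
  (67615, 6, 225724, 26),
  (67617, 4, 82097, 25),
  (67618, 7, 131220, 21),
  (67621, 4, 90273, 25),
  (67622, 6, 131476, 21),
  (67627, 6, 42021, 19),
  (67631, 5, 192602, 24),
  (67635, 7, 143546, 24),
  (67639, 6, 192892, 26),
  (67641, 6, 71943, 22),
  (67642, 6, 88094, 2),
  (67645, 5, 184522, 24),
  (67646, 6, 96270, 12),
  (67649, 6, 34945, 16),
  (67650, 6, 67654, 14),
  (67653, 6, 65605, 14),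
  (67654, 5, 16782, 41),
  (67659, 4, 250060, 22),
  (67663, 7, 184524, 22),
  (67667, 6, 131290, 21),
  (67671, 6, 131546, 21),
  (67673, 7, 153966, 19),
  (67674, 6, 80086, 5),
  (67677, 6, 210950, 26),
  (67678, 6, 108618, 13),
  (67683, 4, 102690, 22),
  (67687, 6, 63494, 26),
  (67689, 5, 71974, 22),
  (67690, 6, 120842, 12),
  (67693, 6, 148841, 24),
  (67694, 6, 6378, 7),
  (67697, 5, 245, 12),
  (67698, 6, 82166, 16),
  (67701, 6, 214313, 24),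
  (67702, 6, 110789, 25),
  (67707, 5, 5367, 12),
  (67711, 5, 126011, 15),
  (67715, 5, 33861, 19),
  (67719, 4, 33863, 19),
  (67721, 4, 155665, 25),
  (67722, 5, 139393, 21),
  (67725, 4, 147473, 25),
  (67726, 4, 139649, 21),
  (67729, 4, 38926, 19),
  (67730, 4, 33865, 19),
  (67733, 4, 6210, 19),
  (67734, 4, 33867, 19),
  (67739, 6, 139459, 21),
  (67743, 6, 79879, 6),
  (67745, 5, 90129, 25),
  (67746, 6, 139396, 21),
  (67749, 5, 81937, 25),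
  (67750, 7, 139652, 21),
  (67755, 6, 146719, 20),
  (67759, 5, 45346, 24),
  (67763, 6, 94626, 24),
  (67767, 6, 192516, 26),
  (67769, 6, 237580, 26),
  (67770, 6, 162077, 20),
  (67773, 6, 30802, 19),
  (67774, 5, 154030, 41),
  (67777, 6, 65605, 12),
  (67778, 6, 98502, 13),
  (67781, 6, 12294, 26),
  (67782, 5, 197038, 41),
  (67787, 4, 90126, 26),
  (67791, 6, 94214, 26),
  (67795, 3, 155662, 26),
  (67799, 6, 159750, 26),
  (67801, 3, 204814, 26),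
  (67802, 4, 213006, 26),
  (67805, 6, 83051, 24),
  (67806, 4, 158038, 23),
  (67811, 6, 139468, 21),
  (67815, 5, 117989, 10),
  (67817, 5, 182582, 19),
  (67818, 6, 211357, 20),
  (67821, 5, 120841, 5),
  (67822, 6, 210945, 20),
  (67825, 6, 24805, 2),
  (67826, 6, 139406, 21),
  (67829, 6, 124997, 6),
  (67830, 6, 8438, 5),
  (67835, 6, 104751, 22),
  (67839, 6, 126139, 15),
  (67841, 6, 67654, 19),
  (67842, 4, 147600, 21),
  (67845, 6, 2433, 5),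
  (67846, 4, 147856, 21),
  (67851, 6, 6329, 26),
  (67855, 6, 99495, 19),
  (67859, 6, 14526, 24),
  (67863, 5, 30878, 24),
  (67865, 6, 74013, 15),
  (67866, 6, 6569, 26),
  (67869, 6, 147795, 21),
  (67870, 5, 200734, 2),
  (67875, 7, 147668, 21),
  (67879, 5, 423, 11),
  (67881, 4, 84086, 19),
  (67882, 6, 217382, 1),
  (67885, 7, 59602, 19),
  (67886, 5, 201126, 5),
  (67889, 5, 185419, 20),
  (67890, 6, 155798, 10),
  (67893, 7, 38177, 20),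
  (67894, 6, 24998, 8),
  (67899, 6, 220473, 10),
  (67903, 6, 212017, 8),
  (67907, 6, 232647, 20),
  (67911, 6, 147928, 21),
  (67913, 4, 110842, 23),
  (67914, 6, 202822, 14),
  (67917, 4, 182466, 19),
  (67918, 6, 144647, 25),
  (67921, 6, 203086, 19),
  (67922, 5, 20910, 41),
  (67925, 6, 99617, 20),
  (67926, 3, 204870, 14),
  (67931, 6, 38301, 5),
  (67935, 5, 147931, 21),
  (67937, 6, 147548, 21),
  (67938, 6, 7275, 26),
  (67941, 6, 91303, 25),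
  (67942, 6, 245830, 2),
  (67947, 6, 7419, 26),
  (67951, 6, 104886, 22),
  (67955, 6, 7547, 26),
  (67959, 6, 107919, 19),
  (67961, 7, 147551, 21),
  (67962, 6, 248222, 17),
  (67965, 6, 252285, 10),
  (67966, 5, 260286, 3),
  (67969, 6, 22562, 24),
  (67970, 5, 65968, 21),
  (67973, 6, 163952, 21),
  (67974, 4, 196784, 21),
  (67979, 6, 175447, 20),
  (67983, 4, 172236, 22),
  (67987, 5, 208263, 4),
  (67991, 6, 156098, 21),
  (67993, 6, 155715, 21),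
  (67994, 4, 125090, 24),
  (67997, 6, 72093, 22),
  (67998, 6, 104605, 22),
  (68003, 6, 216481, 10),
  (68007, 6, 156100, 21),
  (68009, 4, 71966, 22),
  (68010, 4, 17769, 23),
  (68013, 6, 177153, 20),
  (68014, 6, 178177, 20),
  (68017, 3, 155718, 21),
  (68018, 6, 24982, 4),
  (68021, 6, 205221, 4),
  (68022, 6, 74038, 11),
  (68027, 6, 212399, 4),
  (68031, 6, 156103, 21),
  (68035, 6, 36295, 7),
  (68039, 6, 232449, 20),
  (68041, 6, 155721, 21),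
  (68042, 6, 7343, 26),
  (68045, 6, 150549, 25),
  (68046, 4, 3247, 26),
  (68049, 4, 155722, 21),
  (68050, 3, 204870, 7),
  (68053, 6, 70073, 22),
  (68054, 4, 3375, 26),
  (68059, 6, 242901, 8),
  (68063, 6, 240653, 16),
  (68065, 4, 155724, 21),
  (68066, 6, 196710, 7),
  (68069, 6, 148783, 24),
  (68070, 4, 102586, 22),
  (68075, 6, 186539, 3),
  (68079, 6, 234927, 4),
  (68083, 6, 16893, 23),
  (68087, 6, 159201, 2),
  (68089, 6, 113021, 11),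
  (68090, 6, 194746, 3),
  (68093, 6, 162002, 19),
  (68094, 6, 129422, 12),
  (68609, 4, 2119, 19),
  (68611, 4, 35907, 19),
  (68613, 4, 3141, 19),
  (68615, 4, 28682, 24),
  (68633, 6, 37114, 24),
  (68635, 6, 73871, 2),
  (68637, 5, 53466, 24),
  (68639, 4, 198886, 23),
  (68649, 6, 110836, 26),
  (68651, 5, 89259, 3),
  (68653, 4, 184410, 24),
  (68655, 4, 127196, 26),
  (68657, 5, 183, 12),
  (68659, 6, 196822, 21),
  (68661, 6, 180357, 23),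
  (68663, 5, 121061, 44),
  (68681, 6, 151869, 25),
  (68683, 6, 208019, 20),
  (68685, 5, 120961, 44),
  (68687, 5, 79910, 26),
  (68689, 6, 33943, 5),
  (68691, 6, 73927, 2),
  (68693, 6, 91177, 24),
  (68695, 6, 66853, 20),
  (68705, 5, 231, 12),
  (68707, 5, 117989, 7),
  (68709, 7, 63526, 26),
  (68711, 6, 70917, 20),
  (68729, 6, 130233, 3),
  (68731, 6, 239662, 26),
  (68733, 7, 260134, 26),
  (68735, 6, 194643, 19),
  (68737, 4, 34823, 19),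
  (68739, 4, 3139, 19),
  (68741, 4, 35845, 19),
  (68743, 5, 2115, 19),
  (68761, 5, 192529, 25),
  (68763, 6, 158995, 20),
  (68765, 6, 184337, 25),
  (68767, 6, 72721, 12),
  (68777, 5, 89259, 10),
  (68779, 6, 27731, 19),
  (68781, 4, 127012, 26),
  (68783, 6, 72142, 22),
  (68785, 3, 204870, 21),
  (68787, 4, 172076, 26),
  (68789, 7, 78258, 24),
  (68791, 5, 216103, 39),
  (68809, 6, 204873, 21),
  (68811, 6, 35983, 17),
  (68813, 6, 90578, 23),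
  (68815, 6, 38085, 7),
  (68817, 4, 204874, 21),
  (68819, 6, 147956, 23),
  (68821, 6, 205130, 21),
  (68823, 6, 33943, 17),
  (68833, 4, 204876, 21),
  (68835, 6, 205004, 21),
  (68837, 4, 102890, 22),
  (68839, 6, 205260, 21),
  (68857, 6, 31955, 13),
  (68859, 6, 237614, 26),
  (68861, 6, 119905, 40),
  (68863, 7, 209957, 20),
  (68873, 4, 102890, 23),
  (68875, 6, 52419, 19),
  (68877, 6, 85093, 19),
  (68879, 4, 18617, 26),
  (68881, 6, 6334, 24),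
  (68883, 5, 407, 5),
  (68885, 5, 213330, 21),
  (68887, 4, 18745, 26),
  (68897, 6, 147657, 23),
  (68899, 5, 145454, 24),
  (68901, 6, 95403, 25),
  (68903, 5, 70098, 22),
  (68921, 6, 163201, 6),
  (68923, 6, 212269, 4),
  (68925, 6, 213335, 21),
  (68927, 5, 163207, 6),
  (68929, 6, 34183, 5),
  (68931, 6, 147928, 23),
  (68933, 6, 29743, 25),
  (68935, 6, 213464, 21),
  (68953, 6, 232861, 17),
  (68955, 5, 120937, 44),
  (68957, 6, 213339, 21),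
  (68959, 6, 242957, 4),
  (68969, 6, 249229, 17),
  (68971, 6, 191699, 19),
  (68973, 6, 38381, 11),
  (68975, 6, 72182, 22),
  (68977, 6, 257201, 3),
  (68979, 6, 213214, 21),
  (68981, 5, 240755, 8),
  (68983, 6, 213470, 21),
  (69001, 6, 205004, 22),
  (69003, 4, 237708, 22),
  (69005, 5, 175109, 20),
  (69007, 6, 38962, 24),
  (69009, 6, 22813, 26),
  (69011, 6, 147948, 23),
  (69013, 5, 407, 7),
  (69015, 7, 221634, 21),
  (69025, 5, 120897, 44),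
  (69027, 4, 69978, 22),
  (69029, 6, 212999, 1),
  (69031, 6, 87065, 25),
  (69049, 7, 193887, 20),
  (69051, 6, 31955, 19),
  (69053, 6, 104927, 22),
  (69055, 6, 204081, 12),
  (69057, 6, 147704, 23),
  (69059, 6, 131527, 2),
  (69061, 6, 232903, 10),
  (69063, 6, 23581, 25),
  (69081, 6, 212165, 14),
  (69083, 5, 120869, 44),
  (69085, 6, 96734, 23),
  (69087, 5, 243923, 8),
  (69097, 5, 220389, 14),
  (69099, 6, 216141, 1),
  (69101, 6, 221517, 21),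
  (69103, 6, 220189, 25),
  (69105, 6, 196983, 12),
  (69107, 6, 191667, 3),
  (69109, 6, 180413, 23),
  (69111, 6, 234533, 20),
  (69635, 6, 37124, 22),
  (69637, 5, 24881, 25),
  (69638, 4, 205201, 21),
  (69643, 6, 70657, 10),
  (69645, 4, 155697, 25),
  (69646, 4, 204801, 21),
  (69649, 6, 155938, 20),
  (69650, 4, 36869, 22),
  (69652, 4, 155937, 20),
  (69655, 6, 3229, 5),
  (69657, 6, 49196, 19),
  (69658, 4, 38913, 22),
  (69660, 4, 155953, 20),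
  (69663, 6, 155959, 20),
  (69665, 4, 82337, 25),
  (69666, 5, 36870, 22),
  (69668, 4, 147554, 24),
  (69671, 5, 89259, 7),
  (69673, 4, 213153, 25),
  (69674, 5, 38914, 22),
  (69676, 4, 204945, 25),
  (69679, 4, 192570, 24),
  (69683, 6, 119265, 25),
  (69685, 6, 175447, 21),
  (69686, 3, 90302, 3),
  (69691, 4, 155966, 20),
  (69693, 5, 237916, 26),
  (69694, 6, 24718, 6),
  (69697, 5, 33801, 24),
  (69698, 5, 209370, 38),
  (69700, 4, 139649, 20),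
  (69703, 6, 37284, 22),
  (69705, 4, 33865, 24),
  (69706, 6, 69826, 16),
  (69708, 4, 139665, 20),
  (69711, 4, 213484, 22),
  (69715, 6, 111835, 21),
  (69717, 5, 211086, 26),
  (69718, 4, 157794, 23),
  (69723, 6, 39201, 22),
  (69725, 6, 177153, 21),
  (69726, 6, 39073, 22),
  (69731, 6, 38049, 16),
  (69733, 4, 57606, 19),
  (69734, 6, 35050, 11),
  (69739, 6, 139678, 20),
  (69741, 6, 178177, 21),
  (69742, 6, 210945, 21),
  (69745, 6, 17559, 23),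
  (69746, 4, 247942, 26),
  (69748, 6, 146719, 21),
  (69751, 6, 31955, 1),
  (69753, 5, 249, 12),
  (69754, 6, 126978, 12),
  (69756, 4, 57642, 19),
  (69759, 6, 119925, 10),
  (69763, 6, 70657, 16),
  (69765, 4, 155905, 25),
  (69766, 5, 197009, 21),
  (69771, 6, 65675, 14),
  (69773, 4, 24833, 25),
  (69774, 4, 204817, 21),
  (69777, 6, 4249, 7),
  (69778, 4, 36877, 22),
  (69780, 4, 24865, 20),
  (69783, 5, 127170, 24),
  (69785, 6, 69826, 24),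
  (69786, 4, 38921, 22),
  (69788, 5, 24881, 20),
  (69791, 5, 49638, 23),
  (69793, 5, 213249, 25),
  (69794, 3, 36878, 22),
  (69796, 4, 205057, 25),
  (69799, 6, 57415, 19),
  (69801, 5, 82177, 25),
  (69802, 4, 38922, 22),
  (69804, 4, 73985, 25),
  (69807, 4, 61580, 26),
  (69811, 6, 24878, 20),
  (69813, 6, 50407, 23),
  (69814, 6, 94222, 6),
  (69819, 6, 24894, 20),
  (69821, 4, 86466, 24),
  (69822, 4, 190, 15),
  (69825, 5, 33803, 24),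
  (69826, 5, 8606, 41),
  (69828, 4, 8577, 20),
  (69831, 6, 8583, 20),
  (69833, 4, 33867, 24),
  (69834, 6, 37066, 4),
  (69836, 5, 8593, 20),
  (69839, 4, 28814, 26),
  (69843, 6, 24998, 20),
  (69845, 7, 39057, 17),
  (69846, 7, 260470, 43),
  (69851, 6, 111633, 21),
  (69853, 6, 6569, 22),
  (69854, 6, 39066, 17),
  (69859, 6, 37166, 22),
  (69861, 5, 57670, 19),
  (69862, 6, 6378, 5),
  (69867, 4, 57478, 26),
  (69869, 6, 165227, 24),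
  (69870, 6, 39082, 22),
  (69873, 6, 127153, 15),
  (69874, 6, 37114, 15),
  (69876, 5, 127124, 7),
  (69879, 6, 258190, 26),
  (69881, 7, 25018, 20),
  (69882, 5, 122906, 10),
  (69884, 6, 61620, 3),
  (69887, 6, 39339, 22),
  (69889, 4, 6222, 24),
  (69890, 5, 73905, 21),
  (69892, 4, 139569, 21),
  (69895, 6, 30846, 24),
  (69897, 4, 38926, 24),
  (69898, 4, 90145, 21),
  (69900, 5, 155681, 21),
  (69903, 3, 205276, 22),
  (69907, 6, 54627, 25),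
  (69909, 6, 173427, 21),
  (69910, 6, 37013, 22),
  (69915, 4, 156022, 20),
  (69917, 6, 156019, 20),
  (69918, 6, 203162, 17),
  (69923, 5, 427, 11),
  (69925, 6, 153710, 24),
  (69926, 6, 215050, 2),
  (69931, 6, 147851, 6),
  (69933, 6, 6546, 22),
  (69934, 6, 139613, 20),
  (69937, 6, 213305, 10),
  (69938, 6, 156012, 20),
  (69940, 6, 156009, 20),
  (69943, 6, 162046, 24),
  (69945, 3, 156026, 20),
  (69946, 3, 156028, 20),
  (69948, 5, 123050, 19),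
  (69951, 6, 97599, 15),
  (69955, 6, 37172, 22),
  (69957, 6, 35273, 11),
  (69958, 4, 159842, 23),
  (69963, 3, 156028, 22),
  (69965, 6, 139731, 20),
  (69966, 4, 90364, 22),
  (69969, 6, 156130, 20),
  (69970, 4, 161826, 23),
  (69972, 6, 72963, 26),
  (69975, 6, 36253, 5),
  (69977, 5, 241921, 4),
  (69978, 3, 205274, 5),
  (69980, 5, 115114, 19),
  (69983, 6, 240733, 8),
  (69985, 6, 139722, 20),
  (69986, 6, 131306, 7),
  (69988, 5, 182290, 43),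
  (69991, 5, 35307, 11),
  (69993, 6, 123300, 19),
  (69994, 6, 139740, 20),
  (69996, 6, 161825, 21),
  (69999, 6, 72947, 26),
  (70003, 6, 250259, 17),
  (70005, 6, 156139, 20),
  (70006, 6, 43514, 11),
  (70011, 6, 16799, 23),
  (70013, 6, 244001, 4),
  (70014, 6, 248126, 1),
  (70017, 4, 38978, 24),
  (70018, 5, 65713, 21),
  (70020, 5, 131377, 21),
  (70023, 6, 114887, 19),
  (70025, 4, 6210, 24),
  (70026, 4, 90161, 21),
  (70028, 4, 155697, 21),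
  (70031, 7, 8535, 20),
  (70035, 6, 202011, 12),
  (70037, 6, 24931, 20),
  (70038, 6, 24933, 20),
  (70043, 6, 16814, 23),
  (70045, 6, 2457, 7),
  (70046, 6, 205070, 6),
  (70051, 6, 123077, 19),
  (70053, 4, 123078, 19),
  (70054, 5, 45442, 38),
  (70059, 6, 218123, 1),
  (70061, 6, 71893, 26),
  (70062, 6, 213262, 6),
  (70065, 6, 17583, 23),
  (70066, 6, 213146, 2),
  (70068, 6, 204988, 17),
  (70071, 6, 204095, 12),
  (70073, 5, 60465, 21),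
  (70074, 6, 93233, 21),
  (70076, 5, 84418, 24),
  (70079, 7, 72181, 26),
  (70083, 6, 8646, 20),
  (70085, 6, 4540, 22),
  (70086, 6, 235534, 10),
  (70091, 6, 8662, 20),
  (70093, 6, 35273, 7),
  (70094, 6, 202822, 7),
  (70097, 4, 115148, 19),
  (70098, 4, 474, 16),
  (70100, 5, 241996, 6),
  (70103, 5, 25063, 20),
  (70105, 6, 115180, 19),
  (70106, 5, 209242, 9),
  (70108, 6, 6329, 22),
  (70111, 6, 242701, 16),
  (70113, 6, 4414, 22),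
  (70114, 6, 165143, 24),
  (70116, 6, 196844, 17),
  (70119, 6, 100715, 11),
  (70121, 7, 123364, 19),
  (70122, 6, 213226, 14),
  (70124, 6, 246092, 6),
  (70127, 6, 220235, 1),
  (70131, 6, 25070, 20),
  (70133, 6, 243965, 8),
  (70134, 5, 252350, 1),
  (70139, 6, 123373, 19),
  (70141, 6, 195633, 21),
  (70142, 5, 244206, 13),
  (70657, 5, 123905, 42),
  (70659, 6, 70657, 15),
  (70665, 6, 65675, 7),
  (70667, 6, 65675, 13),
  (70677, 6, 157987, 20),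
  (70679, 6, 238931, 21),
  (70685, 6, 205116, 26),
  (70687, 6, 78999, 3),
  (70693, 6, 3191, 19),
  (70695, 6, 141583, 20),
  (70701, 4, 106620, 26),
  (70703, 6, 6594, 22),
  (70705, 6, 148615, 23),
  (70707, 6, 188884, 26),
  (70713, 5, 95409, 3),
  (70715, 6, 245993, 25),
  (70725, 6, 38023, 16),
  (70727, 4, 80046, 26),
  (70733, 6, 159805, 25),
  (70735, 6, 141719, 20),
  (70737, 6, 33947, 5),
  (70739, 6, 5337, 12),
  (70745, 5, 219, 12),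
  (70747, 6, 111617, 4),
  (70753, 6, 125094, 26),
  (70755, 4, 141710, 20),
  (70761, 5, 235, 12),
  (70763, 6, 6498, 22),
  (70773, 6, 37351, 22),
  (70775, 6, 243886, 26),
  (70781, 6, 128181, 3),
  (70783, 6, 3325, 12),
  (70785, 6, 65675, 4),
  (70787, 6, 4428, 22),
  (70793, 6, 168196, 22),
  (70795, 6, 65675, 8),
  (70805, 4, 199010, 23),
  (70807, 6, 26919, 20),
  (70813, 6, 159916, 26),
  (70815, 4, 86226, 24),
  (70821, 6, 181475, 23),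
  (70823, 5, 89259, 14),
  (70829, 5, 39370, 22),
  (70831, 5, 20818, 24),
  (70833, 5, 26922, 20),
  (70835, 5, 95243, 6),
  (70841, 6, 39243, 22),
  (70843, 5, 70098, 24),
  (70853, 6, 37356, 22),
  (70855, 5, 124145, 42),
  (70861, 6, 250276, 22),
  (70863, 6, 38023, 3),
  (70865, 6, 38033, 17),
  (70867, 6, 111761, 15),
  (70873, 6, 147638, 23),
  (70875, 6, 55565, 25),
  (70881, 7, 39133, 21),
  (70883, 6, 160941, 37),
  (70889, 5, 112785, 21),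
  (70891, 6, 6506, 22),
  (70901, 6, 258222, 26),
  (70903, 6, 238907, 24),
  (70909, 5, 124035, 42),
  (70911, 6, 129293, 25),
  (70917, 5, 204161, 17),
  (70919, 6, 237937, 21),
  (70925, 6, 237980, 22),
  (70927, 6, 238044, 22),
  (70929, 6, 6366, 24),
  (70931, 6, 79121, 15),
  (70937, 6, 5523, 5),
  (70939, 6, 158070, 20),
  (70945, 6, 87467, 25),
  (70947, 6, 1451, 11),
  (70953, 6, 218539, 2),
  (70955, 6, 147851, 23),
  (70965, 6, 153854, 24),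
  (70967, 5, 97589, 15),
  (70973, 6, 186558, 24),
  (70975, 6, 194734, 24),
  (70977, 6, 34187, 5),
  (70979, 6, 85043, 26),
  (70985, 6, 147610, 23),
  (70987, 4, 141782, 20),
  (70997, 6, 212041, 14),
  (70999, 5, 124129, 42),
  (71005, 5, 124067, 42),
  (71007, 6, 39319, 5),
  (71013, 6, 36329, 11),
  (71015, 5, 124113, 42),
  (71021, 5, 109653, 43),
  (71023, 6, 194721, 21),
  (71025, 6, 37239, 22),
  (71027, 6, 238889, 4),
  (71033, 6, 39283, 22),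
  (71035, 6, 242977, 4),
  (71045, 5, 201058, 23),
  (71047, 6, 19681, 19),
  (71053, 6, 30802, 24),
  (71055, 5, 204161, 4),
  (71057, 4, 203042, 23),
  (71059, 6, 99443, 21),
  (71065, 6, 79121, 11),
  (71067, 6, 6489, 22),
  (71073, 5, 109571, 43),
  (71075, 6, 213419, 10),
  (71081, 6, 125105, 21),
  (71083, 6, 196779, 8),
  (71093, 6, 129490, 24),
  (71095, 6, 121298, 24),
  (71101, 6, 39387, 22),
  (71103, 6, 24991, 13),
  (71105, 6, 37244, 22),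
  (71107, 6, 149729, 19),
  (71113, 6, 196939, 12),
  (71115, 6, 201801, 1),
  (71125, 6, 39387, 7),
  (71127, 6, 27111, 20),
  (71133, 5, 180478, 23),
  (71135, 6, 138465, 19),
  (71141, 6, 121255, 15),
  (71143, 7, 181755, 23),
  (71149, 6, 234543, 16),
  (71151, 6, 250343, 10),
  (71153, 6, 242939, 8),
  (71155, 5, 128433, 15),
  (71161, 6, 39291, 22),
  (71163, 5, 6523, 22),
  (71681, 4, 16689, 25),
  (71682, 5, 74129, 21),
  (71685, 4, 24865, 25),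
  (71686, 4, 204945, 21),
  (71689, 4, 147505, 25),
  (71690, 4, 205057, 21),
  (71693, 4, 196876, 22),
  (71694, 4, 73985, 21),
  (71699, 6, 53617, 25),
  (71703, 4, 28890, 24),
  (71707, 6, 16838, 23),
  (71711, 4, 49542, 23),
  (71715, 4, 61684, 26),
  (71719, 5, 175, 11),
  (71723, 6, 146447, 20),
  (71727, 6, 7441, 20),
  (71729, 6, 6270, 19),
  (71730, 6, 139506, 24),
  (71733, 6, 6329, 12),
  (71734, 4, 184812, 26),
  (71737, 6, 73789, 8),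
  (71738, 5, 161805, 20),
  (71741, 6, 49287, 23)]

theorem chk_rows2_7 : rows2_7.all (rowBP tr2 gensLitP 72) = true := by decide +kernel

/-- Rows 12000 to 13499. -/
def rows2_8 : List (ℕ × ℕ × ℕ × ℕ) := [(71742, 6, 84026, 1),
  (71747, 7, 102692, 22),
  (71751, 5, 102820, 22),
  (71755, 5, 241921, 21),
  (71759, 6, 110849, 21),
  (71761, 6, 137582, 19),
  (71762, 5, 110662, 13),
  (71765, 5, 125026, 23),
  (71766, 4, 219270, 26),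
  (71769, 5, 112785, 3),
  (71770, 6, 16726, 23),
  (71773, 6, 115817, 24),
  (71774, 6, 112790, 3),
  (71777, 6, 39073, 16),
  (71778, 6, 181521, 24),
  (71781, 6, 79121, 20),
  (71782, 6, 116910, 3),
  (71785, 5, 237, 12),
  (71786, 6, 211201, 21),
  (71789, 6, 47238, 26),
  (71790, 6, 71953, 20),
  (71795, 6, 256142, 26),
  (71799, 6, 125119, 3),
  (71803, 5, 129203, 3),
  (71807, 6, 194694, 26),
  (71809, 4, 155921, 25),
  (71810, 4, 65937, 21),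
  (71813, 5, 147729, 25),
  (71814, 4, 196753, 21),
  (71817, 5, 24849, 25),
  (71818, 4, 205073, 21),
  (71821, 4, 16657, 25),
  (71822, 4, 281, 25),
  (71827, 6, 78999, 15),
  (71831, 7, 110818, 24),
  (71835, 6, 16870, 23),
  (71839, 6, 73871, 14),
  (71843, 6, 102670, 22),
  (71847, 6, 127108, 26),
  (71851, 6, 89103, 1),
  (71855, 5, 89259, 15),
  (71857, 4, 237708, 26),
  (71858, 6, 28822, 4),
  (71861, 6, 73789, 11),
  (71862, 6, 73790, 11),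
  (71865, 6, 175377, 21),
  (71866, 5, 90594, 24),
  (71869, 6, 72075, 22),
  (71870, 4, 184452, 26),
  (71875, 6, 90254, 26),
  (71879, 4, 94342, 26),
  (71883, 5, 208263, 20),
  (71887, 6, 199697, 20),
  (71889, 6, 38235, 21),
  (71890, 6, 112714, 6),
  (71893, 5, 112785, 15),
  (71894, 6, 102573, 22),
  (71897, 6, 139406, 26),
  (71898, 5, 71766, 40),
  (71901, 6, 49334, 23),
  (71902, 6, 110606, 8),
  (71905, 6, 39261, 21),
  (71906, 6, 58689, 19),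
  (71909, 6, 120909, 6),
  (71910, 6, 120842, 10),
  (71913, 6, 178449, 21),
  (71914, 6, 35050, 15),
  (71917, 4, 72106, 22),
  (71918, 6, 80145, 21),
  (71923, 6, 220575, 20),
  (71927, 6, 212017, 20),
  (71931, 6, 128191, 15),
  (71935, 7, 49591, 23),
  (71939, 6, 249890, 23),
  (71943, 5, 204161, 2),
  (71947, 6, 139740, 22),
  (71951, 6, 36113, 20),
  (71953, 5, 413, 5),
  (71954, 6, 139406, 7),
  (71957, 6, 2457, 5),
  (71958, 5, 26838, 24),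
  (71961, 6, 189507, 20),
  (71962, 5, 88326, 39),
  (71965, 6, 204813, 14),
  (71966, 3, 204814, 14),
  (71969, 6, 71769, 26),
  (71970, 6, 82350, 16),
  (71973, 6, 91555, 25),
  (71974, 4, 213006, 2),
  (71977, 6, 177227, 20),
  (71978, 6, 6566, 11),
  (71981, 4, 72082, 22),
  (71982, 4, 190486, 24),
  (71987, 6, 102679, 22),
  (71991, 6, 228769, 2),
  (71995, 6, 212263, 4),
  (71999, 6, 220469, 10),
  (72001, 6, 104909, 7),
  (72002, 6, 235910, 17),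
  (72005, 6, 25895, 25),
  (72006, 6, 68651, 26),
  (72009, 6, 16602, 23),
  (72010, 5, 43226, 40),
  (72013, 6, 50285, 24),
  (72014, 6, 233542, 2),
  (72019, 6, 125099, 42),
  (72023, 6, 242939, 21),
  (72027, 6, 257223, 20),
  (72031, 6, 128289, 21),
  (72035, 6, 102710, 22),
  (72039, 6, 243965, 21),
  (72043, 6, 218605, 2),
  (72047, 6, 129313, 21),
  (72049, 6, 127285, 15),
  (72050, 6, 252310, 17),
  (72053, 6, 194802, 19),
  (72054, 5, 186626, 44),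
  (72057, 6, 247031, 25),
  (72058, 6, 63918, 8),
  (72061, 6, 178418, 19),
  (72062, 6, 244074, 13),
  (72067, 7, 203777, 16),
  (72071, 4, 233570, 23),
  (72075, 5, 204161, 10),
  (72079, 6, 14434, 24),
  (72081, 6, 210945, 16),
  (72082, 3, 204814, 7),
  (72085, 6, 74013, 11),
  (72086, 6, 203162, 1),
  (72089, 6, 120846, 19),
  (72090, 6, 16750, 23),
  (72093, 5, 413, 7),
  (72094, 6, 6546, 16),
  (72097, 6, 17643, 23),
  (72098, 5, 201126, 13),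
  (72101, 6, 39266, 24),
  (72102, 6, 50475, 23),
  (72105, 6, 196781, 8),
  (72106, 3, 213422, 1),
  (72109, 6, 6498, 24),
  (72110, 6, 131502, 5),
  (72115, 6, 129506, 24),
  (72119, 6, 113122, 24),
  (72123, 6, 124141, 19),
  (72127, 6, 208057, 8),
  (72129, 4, 110626, 23),
  (72130, 6, 233870, 1),
  (72133, 4, 149730, 19),
  (72134, 4, 102588, 22),
  (72137, 6, 196941, 12),
  (72138, 6, 16762, 23),
  (72141, 6, 19733, 25),
  (72142, 5, 39370, 4),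
  (72147, 6, 249303, 20),
  (72151, 6, 240689, 20),
  (72155, 6, 259377, 21),
  (72159, 6, 189551, 37),
  (72163, 6, 102718, 22),
  (72167, 6, 249325, 10),
  (72171, 5, 220239, 1),
  (72175, 6, 104890, 22),
  (72177, 6, 235838, 19),
  (72178, 6, 242150, 13),
  (72181, 6, 129457, 15),
  (72182, 5, 67802, 40),
  (72185, 6, 244133, 4),
  (72186, 5, 129410, 12),
  (72189, 6, 69087, 26),
  (72190, 6, 244202, 13),
  (72721, 5, 157873, 37),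
  (72723, 6, 5277, 12),
  (72725, 5, 248162, 23),
  (72727, 6, 160156, 26),
  (72729, 6, 79879, 4),
  (72731, 6, 52445, 43),
  (72733, 6, 209212, 26),
  (72735, 4, 61578, 24),
  (72737, 6, 102726, 22),
  (72739, 4, 143466, 24),
  (72741, 7, 102854, 22),
  (72743, 6, 159818, 24),
  (72745, 5, 175, 12),
  (72747, 6, 147907, 23),
  (72749, 5, 89259, 2),
  (72751, 6, 43123, 19),
  (72769, 5, 92334, 26),
  (72771, 6, 199827, 20),
  (72773, 6, 28973, 25),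
  (72775, 7, 80038, 26),
  (72777, 5, 245833, 39),
  (72779, 4, 10414, 26),
  (72781, 6, 36045, 6),
  (72783, 6, 66837, 20),
  (72817, 6, 256174, 26),
  (72819, 5, 5373, 12),
  (72821, 6, 97507, 2),
  (72823, 6, 7417, 12),
  (72825, 6, 104803, 22),
  (72827, 6, 174254, 26),
  (72829, 6, 73013, 20),
  (72831, 6, 178342, 26),
  (72849, 6, 102733, 22),
  (72851, 6, 204972, 26),
  (72853, 6, 73871, 4),
  (72855, 6, 5277, 7),
  (72857, 5, 238993, 21),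
  (72859, 6, 3229, 7),
  (72861, 6, 5277, 17),
  (72863, 6, 53529, 25),
  (72865, 5, 61810, 24),
  (72867, 4, 106668, 26),
  (72869, 6, 73193, 41),
  (72871, 6, 89103, 6),
  (72873, 6, 94481, 25),
  (72875, 6, 146699, 20),
  (72877, 6, 52245, 19),
  (72879, 6, 4466, 24),
  (72897, 5, 102764, 22),
  (72899, 6, 162077, 25),
  (72901, 6, 168153, 21),
  (72903, 6, 38023, 17),
  (72905, 6, 242065, 21),
  (72907, 5, 47213, 44),
  (72909, 4, 250148, 22),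
  (72911, 6, 22813, 25),
  (72945, 6, 130121, 6),
  (72947, 5, 169313, 40),
  (72949, 5, 129203, 15),
  (72951, 5, 47369, 44),
  (72953, 5, 47385, 44),
  (72955, 6, 112683, 16),
  (72957, 6, 126029, 6),
  (72959, 5, 126031, 6),
  (72961, 5, 250146, 23),
  (72963, 5, 203791, 14),
  (72965, 6, 172273, 21),
  (72967, 6, 30798, 24),
  (72969, 4, 172444, 22),
  (72971, 6, 175171, 20),
  (72973, 6, 36117, 20),
  (72975, 5, 237916, 22),
  (73009, 6, 137470, 24),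
  (73011, 6, 228399, 14),
  (73013, 5, 163213, 6),
  (73015, 6, 240759, 21),
  (73017, 5, 193615, 20),
  (73019, 6, 220575, 17),
  (73021, 6, 89181, 19),
  (73023, 5, 157829, 37),
  (73041, 5, 34207, 5),
  (73043, 6, 111995, 21),
  (73045, 6, 177403, 21),
  (73047, 6, 129378, 23),
  (73049, 6, 207949, 14),
  (73051, 6, 147934, 23),
  (73053, 6, 180382, 23),
  (73055, 6, 99637, 20),
  (73057, 6, 218599, 2),
  (73059, 6, 113021, 21),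
  (73061, 6, 249005, 3),
  (73063, 6, 70134, 22),
  (73065, 6, 104818, 22),
  (73067, 5, 147931, 23),
  (73069, 6, 220651, 2),
  (73071, 6, 189821, 24),
  (73089, 6, 63602, 24),
  (73091, 4, 102690, 23),
  (73093, 6, 101413, 19),
  (73095, 6, 39026, 24),
  (73097, 6, 88221, 26),
  (73099, 6, 22642, 24),
  (73101, 5, 203791, 16),
  (73103, 6, 242004, 22),
  (73137, 6, 259345, 25),
  (73139, 6, 208301, 4),
  (73141, 6, 32159, 13),
  (73143, 6, 84349, 26),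
  (73145, 5, 196927, 12),
  (73147, 6, 191921, 21),
  (73149, 6, 171061, 20),
  (73151, 7, 14579, 19),
  (73169, 5, 212173, 14),
  (73171, 6, 89407, 26),
  (73173, 6, 246083, 39),
  (73175, 6, 123967, 24),
  (73177, 6, 252175, 19),
  (73179, 5, 212061, 1),
  (73181, 5, 128433, 21),
  (73183, 5, 34269, 7),
  (73185, 6, 115983, 5),
  (73187, 6, 220229, 1),
  (73189, 6, 99693, 11),
  (73191, 6, 189759, 24),
  (73193, 5, 147707, 23),
  (73195, 5, 205849, 38),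
  (73197, 6, 129457, 21),
  (73199, 6, 252391, 10),
  (73731, 4, 36869, 19),
  (73733, 5, 36870, 19),
  (73734, 4, 36867, 19),
  (73737, 6, 4249, 11),
  (73738, 4, 2121, 22),
  (73740, 5, 131377, 20),
  (73743, 5, 229798, 23),
  (73747, 4, 36877, 19),
  (73749, 3, 36878, 19),
  (73750, 4, 36875, 19),
  (73753, 6, 204948, 26),
  (73754, 5, 36941, 22),
  (73756, 5, 147729, 20),
  (73759, 6, 192817, 25),
  (73761, 3, 177, 11),
  (73762, 4, 1099, 22),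
  (73764, 6, 82100, 3),
  (73767, 5, 6381, 40),
  (73768, 4, 3083, 22),
  (73771, 6, 131390, 20),
  (73773, 5, 34155, 44),
  (73774, 6, 28822, 6),
  (73777, 3, 177, 16),
  (73778, 5, 37961, 22),
  (73780, 6, 82100, 11),
  (73783, 6, 239618, 21),
  (73784, 5, 5133, 22),
  (73787, 6, 147742, 20),
  (73789, 5, 74123, 39),
  (73790, 5, 24722, 38),
  (73793, 5, 5521, 43),
  (73794, 5, 4165, 25),
  (73796, 4, 131489, 20),
  (73799, 6, 242138, 21),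
  (73800, 5, 131504, 20),
  (73803, 5, 147461, 42),
  (73805, 6, 35073, 41),
  (73806, 6, 112714, 2),
  (73809, 6, 90148, 23),
  (73810, 4, 36869, 25),
  (73812, 4, 147841, 20),
  (73815, 6, 241666, 21),
  (73816, 4, 147856, 20),
  (73819, 6, 147862, 20),
  (73821, 6, 37166, 19),
  (73822, 5, 110806, 15),
  (73827, 6, 131502, 20),
  (73829, 5, 73971, 39),
  (73830, 5, 40972, 40),
  (73833, 5, 6493, 40),
  (73834, 5, 73906, 39),
  (73836, 5, 45346, 19),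
  (73839, 6, 39163, 11),
  (73843, 6, 45325, 19),
  (73845, 5, 5475, 43),
  (73846, 6, 210946, 21),
  (73849, 4, 108806, 26),
  (73850, 5, 74114, 39),
  (73852, 6, 53460, 6),
  (73855, 6, 250957, 22),
  (73859, 4, 36933, 19),
  (73861, 3, 36934, 19),
  (73862, 4, 36931, 19),
  (73865, 6, 4249, 3),
  (73866, 5, 6209, 22),
  (73868, 3, 305, 20),
  (73871, 5, 196917, 37),
  (73875, 5, 36941, 19),
  (73877, 5, 36942, 19),
  (73878, 4, 90114, 24),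
  (73881, 5, 73943, 39),
  (73882, 4, 32845, 22),
  (73884, 4, 16657, 20),
  (73887, 6, 126978, 24),
  (73889, 4, 90289, 14),
  (73890, 5, 5187, 22),
  (73892, 6, 90148, 4),
  (73895, 6, 45127, 19),
  (73896, 4, 7171, 22),
  (73899, 4, 318, 20),
  (73901, 6, 73789, 16),
  (73902, 5, 24738, 38),
  (73905, 4, 90289, 10),
  (73906, 4, 33865, 22),
  (73908, 5, 209370, 44),
  (73911, 4, 61708, 26),
  (73912, 5, 1037, 22),
  (73915, 5, 110850, 24),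
  (73917, 6, 9543, 21),
  (73918, 6, 204873, 25),
  (73921, 6, 32913, 3),
  (73922, 4, 34893, 25),
  (73924, 3, 417, 20),
  (73927, 5, 196915, 37),
  (73928, 4, 432, 20),
  (73931, 7, 153953, 22),
  (73933, 6, 209166, 26),
  (73934, 6, 110750, 12),
  (73937, 6, 45074, 21),
  (73938, 4, 2125, 25),
  (73940, 4, 16769, 20),
  (73943, 4, 28942, 26),
  (73944, 5, 16784, 20),
  (73947, 5, 5387, 43),
  (73949, 6, 33987, 44),
  (73950, 6, 112790, 1),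
  (73955, 4, 430, 20),
  (73957, 5, 427, 20),
  (73958, 6, 123030, 12),
  (73961, 5, 247877, 25),
  (73962, 5, 74002, 39),
  (73964, 6, 61620, 11),
  (73967, 6, 52721, 23),
  (73971, 4, 57606, 26),
  (73973, 6, 92229, 25),
  (73974, 5, 196626, 37),
  (73977, 4, 45420, 19),
  (73978, 5, 73762, 39),
  (73980, 6, 102670, 26),
  (73983, 6, 93259, 1),
  (73985, 3, 401, 11),
  (73986, 5, 5187, 25),
  (73988, 5, 197038, 37),
  (73991, 4, 233900, 23),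
  (73992, 6, 204824, 5),
  (73995, 5, 201134, 23),
  (73997, 6, 207257, 22),
  (73998, 5, 24754, 38),
  (74001, 4, 205201, 17),
  (74002, 4, 37891, 25),
  (74004, 6, 204948, 15),
  (74007, 6, 96446, 24),
  (74008, 6, 139672, 3),
  (74011, 6, 202011, 4),
  (74013, 5, 6361, 40),
  (74014, 6, 125174, 24),
  (74019, 6, 156051, 6),
  (74021, 6, 51401, 23),
  (74022, 6, 51529, 23),
  (74025, 6, 131450, 20),
  (74026, 6, 205114, 13),
  (74028, 6, 213276, 7),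
  (74031, 6, 137457, 26),
  (74035, 6, 213043, 14),
  (74037, 6, 90501, 13),
  (74038, 5, 73750, 39),
  (74041, 6, 19597, 23),
  (74042, 5, 180516, 41),
  (74044, 5, 248038, 24),
  (74047, 6, 242765, 22),
  (74051, 4, 110842, 21),
  (74053, 7, 110780, 23),
  (74054, 6, 90361, 22),
  (74057, 4, 66765, 24),
  (74058, 5, 74130, 39),
  (74060, 5, 241996, 10),
  (74063, 6, 39387, 11),
  (74067, 6, 147910, 20),
  (74069, 5, 147629, 42),
  (74070, 5, 196882, 37),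
  (74073, 4, 80058, 23),
  (74074, 5, 34838, 41),
  (74076, 6, 47162, 23),
  (74079, 6, 193847, 25),
  (74081, 6, 131562, 20),
  (74082, 5, 90594, 16),
  (74084, 5, 155876, 4),
  (74087, 6, 95479, 25),
  (74088, 6, 213368, 19),
  (74091, 6, 159099, 22),
  (74093, 6, 111014, 19),
  (74094, 6, 93435, 22),
  (74097, 6, 134483, 26),
  (74098, 5, 147722, 42),
  (74100, 4, 161826, 21),
  (74103, 6, 128183, 25),
  (74104, 5, 196742, 37),
  (74107, 5, 147717, 42),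
  (74109, 4, 196745, 37),
  (74110, 5, 241910, 15),
  (74113, 3, 401, 13),
  (74114, 4, 33865, 25),
  (74116, 6, 204948, 5),
  (74119, 6, 102599, 19),
  (74120, 6, 139672, 2),
  (74123, 4, 374, 20),
  (74125, 5, 371, 20),
  (74126, 6, 71962, 11),
  (74129, 4, 205201, 10),
  (74130, 4, 1097, 25),
  (74132, 6, 139396, 3),
  (74135, 5, 35097, 41),
  (74136, 6, 139672, 17),
  (74139, 6, 16726, 20),
  (74141, 5, 34873, 41),
  (74142, 5, 24706, 38),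
  (74147, 6, 110789, 19),
  (74149, 6, 363, 20),
  (74150, 5, 73862, 39),
  (74153, 4, 378, 20),
  (74154, 4, 380, 20),
  (74156, 5, 377, 20),
  (74159, 6, 212263, 12),
  (74163, 6, 213267, 6),
  (74165, 6, 16715, 20),
  (74166, 6, 16717, 20),
  (74169, 6, 16730, 20),
  (74170, 5, 156058, 17),
  (74172, 5, 213180, 5),
  (74175, 6, 238669, 22),
  (74179, 4, 486, 20),
  (74181, 6, 231637, 8),
  (74182, 5, 45068, 40),
  (74185, 5, 162097, 22),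
  (74186, 5, 34898, 41),
  (74188, 6, 242004, 6),
  (74191, 6, 503, 20),
  (74195, 6, 16838, 20),
  (74197, 5, 24715, 38),
  (74198, 6, 143460, 23),
  (74201, 5, 34985, 41),
  (74202, 5, 12380, 41),
  (74204, 4, 102890, 19),
  (74207, 6, 158797, 25),
  (74209, 4, 490, 20),
  (74210, 4, 492, 20),
  (74212, 5, 147500, 42),
  (74215, 6, 126029, 25),
  (74216, 5, 86026, 43),
  (74219, 5, 147493, 42),
  (74221, 4, 24657, 38),
  (74222, 6, 184510, 3),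
  (74225, 6, 16842, 20),
  (74226, 6, 213234, 14),
  (74228, 6, 156116, 8),
  (74231, 6, 111055, 19),
  (74232, 6, 155864, 19),
  (74235, 6, 216141, 25),
  (74237, 6, 52477, 23),
  (74238, 6, 207949, 25),
  (74753, 4, 2125, 19),
  (74755, 4, 77834, 24),
  (74765, 6, 74172, 26),
  (74767, 4, 127082, 24),
  (74769, 5, 6213, 19),
  (74771, 4, 34889, 19),
  (74781, 6, 204988, 26),
  (74783, 6, 79879, 8),
  (74789, 5, 93313, 17),
  (74791, 6, 90361, 25),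
  (74793, 6, 106996, 26),
  (74795, 6, 213481, 25),
  (74805, 6, 201801, 22),
  (74807, 5, 183, 16),
  (74809, 4, 149786, 20),
  (74811, 5, 95409, 7),
  (74821, 6, 74921, 24),
  (74823, 6, 133543, 20),
  (74825, 5, 219, 1),
  (74827, 6, 38107, 11),
  (74837, 6, 33943, 16),
  (74839, 6, 73927, 13),
  (74841, 6, 33947, 16),
  (74843, 6, 182345, 19),
  (74849, 6, 34033, 11),
  (74851, 4, 133550, 20),
  (74861, 6, 119997, 3),
  (74863, 6, 97395, 14),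
  (74865, 7, 59686, 26),
  (74867, 4, 43302, 26),
  (74877, 6, 129326, 26),
  (74879, 6, 130289, 7),
  (74881, 5, 34829, 19),
  (74883, 4, 6217, 19),
  (74893, 6, 5277, 3),
  (74895, 6, 2359, 20),
  (74897, 4, 38917, 19),
  (74899, 4, 2121, 19),
  (74909, 6, 18707, 20),
  (74911, 6, 75203, 21),
  (74917, 6, 93361, 14),
  (74919, 6, 2351, 20),
  (74921, 5, 95243, 5),
  (74923, 6, 37266, 24),
  (74933, 6, 94482, 24),
  (74935, 4, 174226, 21),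
  (74937, 7, 90123, 1),
  (74939, 6, 18718, 20),
  (74949, 6, 250273, 22),
  (74951, 6, 33943, 3),
  (74953, 6, 186657, 22),
  (74955, 6, 205094, 26),
  (74965, 4, 241810, 21),
  (74967, 6, 74084, 23),
  (74969, 6, 111835, 10),
  (74971, 5, 219, 2),
  (74977, 6, 2474, 20),
  (74979, 6, 2478, 20),
  (74989, 6, 183615, 19),
  (74991, 6, 128087, 6),
  (74993, 6, 170261, 19),
  (74995, 6, 141401, 19),
  (75005, 6, 127278, 26),
  (75007, 6, 18847, 20),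
  (75013, 4, 88126, 24),
  (75015, 6, 237938, 21),
  (75017, 6, 84077, 19),
  (75019, 6, 133494, 20),
  (75029, 6, 208273, 17),
  (75031, 6, 96430, 24),
  (75033, 4, 72106, 23),
  (75035, 6, 51401, 19),
  (75041, 6, 87275, 25),
  (75043, 6, 210958, 24),
  (75053, 6, 252030, 24),
  (75055, 6, 241115, 22),
  (75057, 4, 125090, 21),
  (75059, 5, 211086, 24),
  (75069, 6, 220209, 14),
  (75071, 6, 242701, 22),
  (75073, 6, 133602, 20),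
  (75075, 6, 150579, 26),
  (75085, 6, 83289, 21),
  (75087, 6, 241854, 23),
  (75089, 5, 238659, 8),
  (75091, 5, 149958, 20),
  (75101, 6, 241049, 17),
  (75103, 6, 243898, 23),
  (75109, 7, 133611, 20),
  (75111, 6, 244094, 21),
  (75113, 6, 125099, 41),
  (75115, 6, 191867, 22),
  (75125, 6, 128191, 25),
  (75127, 6, 90567, 13),
  (75129, 6, 251311, 25),
  (75131, 6, 193549, 22),
  (75141, 6, 242065, 22),
  (75143, 5, 407, 13),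
  (75145, 6, 5523, 13),
  (75147, 6, 2422, 20),
  (75157, 6, 204873, 22),
  (75159, 6, 205207, 10),
  (75161, 4, 18770, 20),
  (75163, 6, 205833, 1),
  (75169, 5, 119873, 25),
  (75171, 5, 177491, 22),
  (75181, 5, 97551, 5),
  (75183, 6, 204863, 16),
  (75185, 6, 125106, 21),
  (75187, 7, 71954, 24),
  (75197, 6, 129298, 24),
  (75199, 6, 121106, 24),
  (75201, 6, 37114, 21),
  (75203, 5, 238993, 4),
  (75213, 6, 243029, 6),
  (75215, 6, 91593, 21),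
  (75217, 6, 155721, 22),
  (75219, 6, 78116, 23),
  (75229, 6, 129434, 23),
  (75231, 6, 177295, 3),
  (75237, 6, 191873, 17),
  (75239, 5, 241073, 4),
  (75241, 6, 195891, 22),
  (75243, 6, 253005, 25),
  (75253, 6, 97349, 25),
  (75255, 6, 194738, 21),
  (75257, 6, 220229, 25),
  (75259, 6, 189551, 44),
  (75777, 5, 2126, 19),
  (75778, 4, 37889, 19),
  (75781, 3, 38986, 19),
  (75782, 4, 37891, 19),
  (75787, 5, 158775, 20),
  (75791, 5, 185353, 42),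
  (75793, 4, 6214, 19),
  (75794, 4, 37897, 19),
  (75797, 4, 34890, 19),
  (75798, 4, 37899, 19),
  (75803, 4, 110842, 24),
  (75807, 6, 78999, 7),
  (75811, 5, 61812, 26),
  (75815, 5, 183, 11),
  (75817, 6, 81981, 15),
  (75818, 6, 73790, 13),
  (75821, 6, 63578, 19),
  (75822, 6, 94222, 2),
  (75827, 5, 93313, 13),
  (75831, 6, 225434, 24),
  (75833, 6, 19653, 23),
  (75834, 6, 94398, 16),
  (75837, 5, 241884, 26),
  (75838, 6, 184804, 41),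
  (75843, 4, 111066, 21),
  (75847, 6, 213353, 22),
  (75849, 6, 132185, 21),
  (75850, 6, 18665, 22),
  (75853, 5, 112717, 10),
  (75854, 6, 139638, 23),
  (75859, 6, 250057, 22),
  (75863, 5, 110850, 21),
  (75865, 4, 108786, 23),
  (75866, 4, 84238, 26),
  (75869, 4, 80134, 26),
  (75870, 5, 141682, 23),
  (75873, 6, 90357, 2),
  (75874, 6, 8438, 7),
  (75877, 6, 90341, 25),
  (75878, 5, 57526, 8),
  (75883, 6, 228543, 20),
  (75887, 6, 260358, 26),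
  (75889, 6, 125173, 7),
  (75890, 3, 90358, 16),
  (75893, 6, 87329, 20),
  (75894, 6, 123030, 17),
  (75899, 6, 46381, 19),
  (75903, 6, 97477, 13),
  (75905, 4, 34830, 19),
  (75906, 4, 37953, 19),
  (75909, 4, 6218, 19),
  (75910, 4, 37955, 19),
  (75915, 4, 246214, 23),
  (75919, 6, 213446, 23),
  (75921, 3, 38918, 19),
  (75922, 5, 37961, 19),
  (75925, 5, 2122, 19),
  (75926, 4, 37963, 19),
  (75931, 6, 155737, 25),
  (75935, 4, 110626, 24),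
  (75939, 6, 185693, 42),
  (75943, 4, 231638, 21),
  (75945, 6, 19681, 23),
  (75946, 5, 149902, 37),
  (75949, 4, 241924, 26),
  (75950, 6, 4278, 5),
  (75955, 6, 93361, 10),
  (75959, 6, 51621, 23),
  (75961, 6, 197773, 22),
  (75962, 6, 24718, 4),
  (75965, 4, 102690, 24),
  (75966, 6, 161825, 20),
  (75971, 6, 155918, 26),
  (75975, 5, 160006, 26),
  (75977, 6, 205070, 26),
  (75978, 6, 80086, 14),
  (75981, 6, 153674, 19),
  (75982, 6, 155990, 23),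
  (75987, 5, 185643, 42),
  (75991, 5, 216097, 20),
  (75993, 5, 112717, 11),
  (75994, 6, 82190, 26),
  (75997, 6, 17643, 24),
  (75998, 6, 133213, 25),
  (76001, 6, 218539, 20),
  (76002, 6, 46401, 19),
  (76005, 6, 90357, 14),
  (76006, 3, 90358, 14),
  (76011, 6, 115903, 15),
  (76015, 5, 129111, 6),
  (76017, 6, 73845, 12),
  (76018, 5, 211218, 21),
  (76021, 6, 90181, 1),
  (76022, 6, 82166, 14),
  (76027, 6, 212415, 20),
  (76031, 5, 126123, 15),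
  (76035, 6, 137273, 26),
  (76039, 5, 407, 11),
  (76041, 6, 205213, 2),
  (76042, 6, 205086, 13),
  (76045, 6, 4509, 11),
  (76046, 4, 125014, 24),
  (76051, 6, 254242, 21),
  (76055, 6, 205207, 17),
  (76057, 6, 173171, 20),
  (76058, 6, 71962, 12),
  (76061, 6, 205213, 17),
  (76062, 4, 414, 8),
  (76065, 6, 137305, 26),
  (76066, 6, 137321, 26),
  (76069, 6, 205109, 4),
  (76070, 7, 51465, 23),
  (76075, 6, 89489, 13),
  (76079, 6, 260190, 24),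
  (76081, 4, 202926, 24),
  (76082, 6, 196918, 13),
  (76085, 5, 59682, 21),
  (76086, 6, 213046, 14),
  (76091, 6, 204095, 4),
  (76095, 6, 177357, 22),
  (76097, 4, 45434, 21),
  (76098, 6, 248037, 20),
  (76101, 6, 25703, 25),
  (76102, 6, 33238, 11),
  (76107, 6, 206301, 2),
  (76111, 6, 126209, 20),
  (76113, 4, 127012, 23),
  (76114, 6, 184404, 40),
  (76117, 6, 127076, 23),
  (76118, 6, 237974, 17),
  (76123, 6, 202839, 14),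
  (76127, 6, 148955, 21),
  (76131, 6, 175281, 16),
  (76135, 6, 243966, 21),
  (76137, 6, 215422, 19),
  (76138, 6, 252090, 3),
  (76141, 6, 194778, 19),
  (76142, 6, 252094, 3),
  (76147, 6, 119991, 25),
  (76151, 6, 60817, 5),
  (76153, 5, 185673, 42),
  (76154, 5, 51646, 8),
  (76157, 5, 185603, 42),
  (76158, 5, 112734, 39),
  (76163, 4, 30882, 24),
  (76167, 6, 209233, 22),
  (76169, 6, 189811, 20),
  (76170, 4, 414, 4),
  (76173, 6, 189441, 20),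
  (76174, 6, 202770, 10),
  (76179, 6, 208273, 10),
  (76183, 4, 233572, 23),
  (76185, 6, 173427, 20),
  (76186, 5, 200734, 7),
  (76189, 6, 204813, 1),
  (76190, 6, 65822, 8),
  (76193, 6, 18665, 23),
  (76194, 6, 24998, 16),
  (76197, 6, 133213, 26),
  (76198, 6, 186369, 20),
  (76203, 5, 185443, 42),
  (76207, 6, 203953, 8),
  (76209, 6, 90389, 5),
  (76210, 7, 18797, 23),
  (76213, 7, 95487, 43),
  (76214, 6, 42185, 22),
  (76219, 6, 129314, 24),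
  (76223, 6, 156063, 17),
  (76225, 4, 127196, 23),
  (76226, 6, 33238, 4),
  (76229, 6, 94428, 23),
  (76230, 5, 111058, 44),
  (76235, 5, 244051, 6),
  (76239, 6, 101787, 15),
  (76241, 6, 235782, 19),
  (76242, 6, 237574, 10),
  (76245, 6, 17583, 24),
  (76246, 6, 240018, 1),
  (76251, 6, 260570, 23),
  (76255, 6, 257057, 20),
  (76259, 6, 240689, 16),
  (76263, 5, 185441, 42),
  (76265, 6, 248126, 19),
  (76266, 6, 186554, 3),
  (76269, 6, 162010, 19),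
  (76270, 6, 97395, 22),
  (76275, 6, 260402, 21),
  (76279, 6, 213239, 14),
  (76281, 6, 252214, 19),
  (76282, 6, 117054, 8),
  (76285, 6, 148975, 24),
  (76286, 6, 194734, 3),
  (76809, 6, 18543, 19),
  (76811, 6, 3229, 1),
  (76813, 6, 5277, 11),
  (76815, 6, 156009, 25),
  (76825, 4, 100834, 23),
  (76827, 6, 225428, 26),
  (76829, 6, 27941, 20),
  (76831, 6, 198099, 21),
  (76833, 6, 200762, 24),
  (76835, 4, 82169, 25),
  (76837, 6, 94441, 25),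
  (76839, 6, 61788, 26),
  (76849, 6, 118969, 25),
  (76851, 6, 192596, 26),
  (76853, 5, 108930, 21),
  (76855, 5, 192604, 26),
  (76865, 6, 106996, 23),
  (76867, 4, 141614, 26),
  (76869, 5, 76867, 39),
  (76871, 6, 205044, 23),
  (76881, 6, 197799, 20),
  (76883, 7, 10542, 26),
  (76885, 6, 254308, 23),
  (76887, 4, 14630, 26),
  (76905, 6, 256302, 26),
  (76907, 6, 239918, 26),
  (76909, 6, 93435, 2),
  (76911, 6, 244006, 26),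
  (76921, 6, 129271, 7),
  (76923, 5, 174109, 41),
  (76925, 6, 36031, 16),
  (76927, 6, 35007, 16),
  (76937, 6, 221484, 26),
  (76939, 5, 53426, 24),
  (76941, 6, 206145, 21),
  (76943, 6, 37042, 24),
  (76953, 6, 73871, 15),
  (76955, 5, 144539, 43),
  (76957, 5, 84418, 23),
  (76959, 6, 78116, 26),
  (76961, 5, 233633, 37),
  (76963, 6, 90119, 5),
  (76965, 4, 192804, 26),
  (76967, 6, 4530, 24),
  (76977, 6, 240018, 21),
  (76979, 6, 11355, 19),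
  (76981, 6, 90119, 1),
  (76983, 7, 45348, 26),
  (76993, 6, 37338, 21),
  (76995, 6, 91291, 24),
  (76997, 4, 168154, 21),
  (76999, 6, 221396, 23),
  (77009, 6, 213193, 22),
  (77011, 6, 108755, 10),
  (77013, 6, 147657, 22),
  (77015, 6, 25787, 24),
  (77033, 6, 254254, 26),
  (77035, 5, 233697, 37),
  (77037, 6, 61671, 7),
  (77039, 6, 95479, 14),
  (77049, 6, 63735, 7),
  (77051, 5, 88257, 40),
  (77053, 6, 183477, 23),
  (77055, 7, 157787, 19),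
  (77057, 6, 172441, 22),
  (77059, 5, 208263, 17),
  (77061, 6, 88094, 24),
  (77063, 6, 96270, 24),
  (77073, 4, 250148, 23),
  (77075, 4, 80046, 24),
  (77077, 6, 149785, 26),
  (77079, 7, 119140, 23),
  (77097, 6, 175515, 22),
  (77099, 6, 153849, 26),
  (77101, 7, 183433, 23),
  (77103, 6, 146849, 12),
  (77113, 5, 115891, 44),
  (77115, 6, 150989, 23),
  (77117, 6, 252126, 24),
  (77119, 6, 218167, 14),
  (77129, 7, 154779, 26),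
  (77131, 6, 241918, 23),
  (77133, 5, 174413, 41),
  (77135, 6, 112069, 7),
  (77145, 6, 242759, 8),
  (77147, 6, 241735, 8),
  (77149, 5, 88169, 40),
  (77151, 6, 243779, 8),
  (77153, 6, 139751, 12),
  (77155, 6, 113022, 21),
  (77157, 6, 150619, 26),
  (77159, 6, 118065, 15),
  (77169, 6, 157069, 24),
  (77171, 6, 115903, 25),
  (77173, 6, 150875, 26),
  (77175, 5, 144521, 43),
  (77185, 6, 33266, 21),
  (77187, 4, 250060, 23),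
  (77189, 5, 208263, 10),
  (77191, 5, 88293, 40),
  (77201, 6, 233764, 23),
  (77203, 7, 102692, 23),
  (77205, 4, 79922, 24),
  (77207, 6, 57778, 21),
  (77225, 6, 63922, 24),
  (77227, 6, 73023, 11),
  (77229, 5, 144771, 43),
  (77231, 6, 30117, 7),
  (77241, 6, 90543, 15),
  (77243, 6, 179579, 20),
  (77245, 6, 195621, 20),
  (77247, 6, 162991, 3),
  (77257, 6, 244127, 4),
  (77259, 6, 110863, 5),
  (77261, 5, 88165, 40),
  (77263, 6, 225502, 23),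
  (77273, 6, 129498, 23),
  (77275, 6, 207949, 1),
  (77277, 6, 96730, 23),
  (77279, 6, 227546, 23),
  (77281, 6, 191877, 17),
  (77283, 5, 76997, 39),
  (77285, 5, 240695, 16),
  (77287, 6, 235646, 21),
  (77297, 6, 205175, 12),
  (77299, 6, 194994, 21),
  (77301, 6, 236821, 19),
  (77303, 6, 89181, 25),
  (77825, 5, 123905, 44),
  (77826, 4, 2125, 22),
  (77828, 4, 139553, 20),
  (77831, 6, 25020, 26),
  (77833, 6, 4249, 1),
  (77834, 3, 77, 22),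
  (77836, 4, 139569, 20),
  (77839, 4, 139575, 20),
  (77841, 6, 4249, 6),
  (77842, 5, 38985, 22),
  (77844, 4, 155905, 20),
  (77847, 6, 73871, 3),
  (77849, 6, 155922, 20),
  (77850, 4, 38989, 22),
  (77852, 4, 155921, 20),
  (77855, 6, 5277, 16),
  (77859, 5, 95409, 2),
  (77861, 6, 52419, 23),
  (77862, 5, 92334, 16),
  (77867, 4, 241690, 24),
  (77869, 4, 139579, 20),
  (77870, 6, 66767, 22),
  (77875, 6, 155918, 20),
  (77877, 6, 61454, 19),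
  (77878, 5, 180460, 26),
  (77883, 6, 254068, 26),
  (77885, 6, 61486, 19),
  (77886, 6, 84026, 14),
  (77891, 6, 149869, 22),
  (77893, 6, 215469, 22),
  (77894, 5, 4318, 39),
  (77899, 5, 109571, 39),
  (77901, 4, 51410, 23),
  (77902, 5, 153998, 26),
  (77907, 6, 38033, 16),
  (77909, 5, 112785, 17),
  (77910, 6, 155750, 23),
  (77915, 6, 34009, 24),
  (77917, 6, 156051, 20),
  (77918, 6, 34033, 24),
  (77921, 6, 82405, 25),
  (77922, 5, 122906, 12),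
  (77924, 6, 90316, 8),
  (77927, 6, 260494, 26),
  (77929, 6, 230857, 24),
  (77930, 6, 18707, 23),
  (77932, 5, 71982, 42),
  (77935, 6, 194958, 26),
  (77937, 4, 61708, 19),
  (77938, 4, 90362, 16),
  (77940, 4, 61706, 19),
  (77943, 6, 129422, 26),
  (77945, 5, 156058, 20),
  (77946, 6, 165329, 24),
  (77948, 6, 126988, 7),
  (77951, 6, 156063, 20),
  (77953, 6, 4249, 13),
  (77954, 5, 6213, 22),
  (77956, 4, 8481, 20),
  (77959, 6, 5277, 13),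
  (77961, 6, 8498, 20),
  (77962, 5, 4165, 22),
  (77964, 5, 8497, 20),
  (77967, 6, 57673, 25),
  (77969, 6, 53324, 19),
  (77970, 4, 34889, 22),
  (77972, 4, 24833, 20),
  (77975, 6, 196710, 23),
  (77977, 6, 4249, 2),
  (77978, 4, 34893, 22),
  (77980, 5, 24849, 20),
  (77983, 6, 237587, 21),
  (77987, 6, 138567, 22),
  (77989, 6, 204167, 22),
  (77990, 5, 219302, 40),
  (77995, 6, 136519, 22),
  (77997, 6, 61542, 19),
  (77998, 5, 92334, 1),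
  (78003, 6, 24846, 20),
  (78005, 6, 80045, 8),
  (78006, 6, 96270, 10),
  (78011, 5, 95243, 1),
  (78013, 4, 45452, 26),
  (78014, 4, 53644, 26),
  (78019, 6, 5337, 13),
  (78021, 6, 53574, 19),
  (78022, 4, 217486, 26),
  (78027, 6, 111617, 5),
  (78029, 5, 112785, 4),
  (78030, 6, 86245, 22),
  (78035, 6, 33947, 24),
  (78037, 6, 73830, 23),
  (78038, 5, 221652, 41),
  (78043, 6, 5337, 2),
  (78045, 4, 12686, 26),
  (78046, 4, 20878, 26),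
  (78049, 7, 237958, 26),
  (78050, 6, 24810, 16),
  (78052, 6, 233870, 26),
  (78055, 6, 220647, 22),
  (78057, 6, 90361, 14),
  (78058, 4, 90362, 14),
  (78060, 5, 127124, 12),
  (78063, 6, 192910, 26),
  (78065, 6, 24970, 20),
  (78066, 6, 115078, 26),
  (78068, 6, 127060, 14),
  (78071, 6, 127374, 26),
  (78073, 4, 41350, 26),
  (78074, 4, 49542, 26),
  (78076, 6, 51319, 23),
  (78079, 6, 24991, 20),
  (78083, 6, 196763, 3),
  (78085, 6, 196765, 3),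
  (78086, 6, 203162, 5),
  (78091, 6, 139638, 20),
  (78093, 6, 205213, 22),
  (78094, 6, 6546, 11),
  (78099, 6, 80094, 24),
  (78101, 6, 210957, 8),
  (78102, 6, 65822, 12),
  (78107, 6, 155990, 20),
  (78109, 6, 121006, 24),
  (78110, 5, 112717, 22),
  (78113, 6, 213177, 3),
  (78114, 6, 213178, 3),
  (78116, 5, 213180, 3),
  (78119, 6, 146863, 12),
  (78121, 6, 139642, 20),
  (78122, 5, 156058, 6),
  (78124, 6, 204972, 15),
  (78127, 6, 156063, 6),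
  (78129, 6, 44149, 21),
  (78130, 7, 76981, 21),
  (78132, 6, 142645, 21),
  (78135, 5, 124067, 44),
  (78137, 6, 155994, 20),
  (78138, 4, 239766, 24),
  (78140, 6, 204988, 15),
  (78143, 5, 260286, 24),
  (78145, 6, 119172, 19),
  (78146, 6, 78011, 21),
  (78148, 6, 242076, 11),
  (78151, 6, 139751, 20),
  (78153, 6, 199827, 26),
  (78154, 5, 157722, 42),
  (78156, 6, 66012, 13),
  (78159, 6, 212445, 2),
  (78161, 6, 156098, 20),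
  (78162, 6, 37266, 8),
  (78164, 3, 205276, 8),
  (78167, 6, 156103, 20),
  (78169, 5, 161805, 22),
  (78170, 6, 156116, 20),
  (78172, 6, 119210, 19),
  (78175, 6, 243029, 10),
  (78179, 6, 177329, 16),
  (78181, 6, 139755, 20),
  (78182, 5, 121302, 4),
  (78187, 6, 250035, 3),
  (78189, 6, 127398, 19),
  (78190, 5, 96742, 16),
  (78195, 5, 109653, 39),
  (78197, 6, 243821, 8),
  (78198, 6, 211434, 5),
  (78203, 5, 128299, 15),
  (78205, 5, 252117, 9),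
  (78206, 6, 156125, 20),
  (78211, 6, 118981, 19),
  (78213, 6, 211349, 22),
  (78214, 6, 211350, 13),
  (78219, 6, 50505, 25),
  (78221, 5, 413, 13),
  (78222, 6, 139406, 15),
  (78227, 4, 200742, 23),
  (78229, 6, 205213, 10),
  (78230, 6, 139406, 3),
  (78235, 6, 196763, 14),
  (78237, 6, 188467, 21),
  (78238, 5, 12598, 42),
  (78241, 5, 127172, 19),
  (78242, 5, 180692, 41),
  (78244, 5, 127170, 19),
  (78247, 5, 124129, 44),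
  (78249, 5, 124145, 44),
  (78250, 6, 8572, 20),
  (78252, 6, 78999, 22),
  (78255, 6, 210391, 22),
  (78257, 6, 24906, 20),
  (78258, 6, 155818, 3),
  (78260, 6, 204972, 17),
  (78263, 6, 155823, 3),
  (78265, 6, 204969, 8),
  (78266, 6, 213178, 14),
  (78268, 6, 213276, 6),
  (78271, 6, 91465, 25),
  (78273, 4, 36987, 21),
  (78274, 5, 30982, 43),
  (78276, 6, 99495, 24),
  (78279, 6, 203859, 1),
  (78281, 5, 473, 13),
  (78282, 6, 242138, 13),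
  (78284, 4, 204876, 4),
  (78287, 6, 245139, 4),
  (78289, 6, 25026, 20),
  (78290, 6, 33943, 24),
  (78292, 6, 139740, 8),
  (78295, 6, 239069, 10),
  (78297, 6, 25042, 20),
  (78298, 6, 196826, 14),
  (78300, 6, 204167, 26),
  (78303, 5, 25047, 20),
  (78307, 5, 124113, 44),
  (78309, 6, 127430, 19),
  (78310, 6, 97527, 22),
  (78315, 7, 8702, 20),
  (78317, 6, 203991, 26),
  (78318, 4, 12502, 39),
  (78323, 6, 191561, 22),
  (78325, 6, 243949, 8),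
  (78326, 6, 145898, 5),
  (78331, 6, 18879, 23),
  (78333, 6, 194611, 21),
  (78334, 6, 126029, 22),
  (78853, 4, 86138, 24),
  (78855, 4, 84326, 23),
  (78861, 4, 182466, 23),
  (78863, 5, 90396, 26),
  (78869, 6, 5277, 6),
  (78871, 6, 155804, 26),
  (78877, 6, 204860, 26),
  (78879, 6, 73871, 13),
  (78881, 6, 182343, 41),
  (78883, 4, 141614, 20),
  (78889, 6, 149635, 23),
  (78891, 6, 141630, 20),
  (78897, 6, 6261, 19),
  (78899, 4, 209098, 24),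
  (78905, 6, 250025, 25),
  (78907, 6, 149895, 23),
  (78913, 6, 20845, 25),
  (78915, 6, 16749, 25),
  (78921, 5, 181321, 42),
  (78923, 6, 5337, 1),
  (78929, 6, 111761, 17),
  (78931, 6, 38107, 6),
  (78937, 6, 59815, 38),
  (78939, 7, 186381, 22),
  (78949, 6, 36089, 11),
  (78951, 6, 244142, 26),
  (78957, 6, 128103, 10),
  (78959, 6, 119991, 3),
  (78965, 6, 129454, 26),
  (78967, 6, 113070, 26),
  (78973, 6, 63918, 26),
  (78975, 6, 37055, 16),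
  (78981, 6, 192833, 25),
  (78983, 6, 73871, 10),
  (78989, 6, 72721, 11),
  (78991, 6, 79879, 5),
  (78997, 5, 181611, 42),
  (78999, 5, 79131, 43),
  (79005, 6, 78999, 10),
  (79007, 6, 172179, 21),
  (79009, 5, 45522, 24),
  (79011, 6, 30841, 19),
  (79017, 7, 10554, 20),
  (79019, 6, 172452, 26),
  (79025, 5, 30785, 40),
  (79027, 7, 95233, 1),
  (79033, 7, 78162, 24),
  (79035, 5, 26910, 20),
  (79041, 6, 33945, 3),
  (79043, 6, 33947, 3),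
  (79049, 6, 38033, 3),
  (79051, 5, 219, 13),
  (79057, 6, 205094, 23),
  (79059, 6, 74150, 26),
  (79065, 6, 24998, 26),
  (79067, 6, 8395, 13),
  (79077, 6, 258478, 26),
  (79079, 6, 242094, 26),
  (79085, 5, 192942, 26),
  (79087, 6, 93435, 14),
  (79093, 6, 63739, 7),
  (79095, 6, 111022, 26),
  (79101, 6, 216141, 22),
  (79103, 6, 127223, 10),
  (79105, 6, 21867, 25),
  (79107, 6, 79950, 24),
  (79113, 4, 172317, 22),
  (79115, 6, 5523, 11),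
  (79121, 5, 202001, 37),
  (79123, 6, 50475, 25),
  (79129, 6, 145485, 22),
  (79131, 4, 158038, 20),
  (79141, 6, 241055, 22),
  (79143, 6, 208185, 4),
  (79149, 6, 239007, 22),
  (79151, 6, 82335, 13),
  (79157, 6, 212041, 22),
  (79159, 7, 124347, 25),
  (79165, 6, 252094, 24),
  (79167, 6, 204081, 4),
  (79173, 6, 200047, 19),
  (79175, 6, 96614, 23),
  (79181, 7, 107757, 24),
  (79183, 6, 182746, 23),
  (79189, 6, 204247, 2),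
  (79191, 5, 243791, 8),
  (79197, 6, 220563, 26),
  (79199, 6, 220595, 26),
  (79201, 6, 47359, 21),
  (79203, 6, 120113, 15),
  (79209, 6, 139755, 12),
  (79211, 6, 239069, 24),
  (79217, 5, 242795, 8),
  (79219, 6, 128289, 15),
  (79225, 6, 158170, 20),
  (79227, 5, 79113, 43),
  (79233, 5, 30789, 40),
  (79235, 4, 98419, 21),
  (79241, 6, 14546, 24),
  (79243, 6, 196763, 8),
  (79249, 6, 34033, 21),
  (79251, 6, 202011, 6),
  (79257, 6, 21825, 25),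
  (79259, 6, 71762, 24),
  (79269, 6, 163201, 17),
  (79271, 6, 212269, 12),
  (79277, 5, 79235, 43),
  (79279, 5, 181289, 42),
  (79285, 6, 129362, 24),
  (79287, 6, 121170, 24),
  (79293, 6, 207949, 22),
  (79295, 6, 240653, 22),
  (79301, 6, 211302, 23),
  (79303, 6, 241049, 4),
  (79309, 6, 182522, 23),
  (79311, 6, 193715, 21),
  (79317, 6, 220439, 26),
  (79319, 6, 78182, 23),
  (79325, 6, 243159, 10),
  (79327, 6, 242135, 10),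
  (79329, 6, 61931, 7),
  (79331, 5, 78899, 43),
  (79337, 6, 185521, 3),
  (79339, 6, 193911, 22),
  (79345, 6, 27082, 20),
  (79347, 6, 27086, 20),
  (79353, 5, 129203, 21),
  (79355, 5, 27102, 20),
  (79875, 6, 106963, 21),
  (79879, 5, 202001, 43),
  (79883, 5, 30789, 38),
  (79887, 6, 196941, 22),
  (79891, 4, 245798, 23),
  (79895, 7, 245862, 23),
  (79899, 6, 225332, 26),
  (79903, 6, 106755, 21),
  (79905, 5, 45524, 26),
  (79906, 4, 53732, 26),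
  (79909, 6, 73789, 4),
  (79910, 4, 190, 11),
  (79913, 6, 175363, 21),
  (79914, 6, 67774, 5),
  (79917, 5, 181611, 44),
  (79918, 6, 4278, 11),
  (79921, 5, 200938, 24),
  (79922, 3, 90302, 16),
  (79925, 6, 59514, 19),
  (79926, 5, 182326, 42),
  (79929, 6, 6329, 16),
  (79930, 6, 4278, 7),
  (79933, 6, 81981, 14),
  (79934, 6, 22833, 20),
  (79937, 6, 182343, 42),
  (79938, 6, 110606, 1),
  (79941, 6, 24933, 25),
  (79942, 5, 65802, 43),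
  (79945, 4, 141710, 26),
  (79946, 4, 18770, 23),
  (79949, 5, 30785, 38),
  (79950, 5, 110662, 2),
  (79953, 7, 39057, 16),
  (79954, 6, 112790, 17),
  (79957, 7, 112641, 15),
  (79958, 7, 55497, 22),
  (79961, 6, 50377, 24),
  (79962, 5, 80070, 40),
  (79965, 6, 45315, 21),
  (79966, 6, 110750, 17),
  (79971, 6, 220351, 20),
  (79975, 6, 97553, 20),
  (79979, 6, 95485, 2),
  (79983, 6, 194950, 26),
  (79987, 6, 203967, 20),
  (79991, 6, 129414, 26),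
  (79995, 5, 79235, 39),
  (79999, 6, 89393, 20),
  (80003, 6, 221580, 26),
  (80007, 6, 180569, 25),
  (80011, 4, 28898, 24),
  (80015, 6, 78999, 4),
  (80019, 6, 90508, 26),
  (80023, 4, 229478, 23),
  (80027, 6, 5277, 2),
  (80031, 6, 29060, 26),
  (80033, 4, 53730, 24),
  (80034, 6, 73790, 7),
  (80037, 6, 30842, 19),
  (80038, 6, 94398, 14),
  (80041, 6, 94213, 5),
  (80042, 5, 180620, 26),
  (80045, 5, 79131, 39),
  (80046, 3, 90302, 14),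
  (80049, 5, 38966, 19),
  (80050, 6, 94398, 1),
  (80053, 6, 94213, 1),
  (80054, 6, 88094, 6),
  (80057, 6, 73789, 12),
  (80058, 3, 90302, 1),
  (80061, 6, 51367, 23),
  (80062, 6, 36045, 22),
  (80065, 4, 37211, 21),
  (80066, 5, 110806, 13),
  (80069, 5, 209286, 26),
  (80070, 4, 217478, 26),
  (80073, 6, 59733, 25),
  (80074, 6, 43357, 25),
  (80077, 6, 46355, 21),
  (80078, 6, 112790, 12),
  (80081, 6, 106534, 23),
  (80082, 6, 110606, 10),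
  (80085, 7, 106598, 23),
  (80086, 5, 180228, 42),
  (80089, 6, 186630, 19),
  (80090, 4, 18806, 23),
  (80093, 4, 51382, 23),
  (80094, 5, 110662, 11),
  (80099, 6, 119991, 15),
  (80103, 7, 248157, 25),
  (80107, 6, 188814, 26),
  (80111, 6, 192902, 26),
  (80115, 6, 126201, 10),
  (80119, 6, 95303, 1),
  (80123, 5, 181289, 44),
  (80127, 6, 220209, 20),
  (80129, 6, 202777, 26),
  (80130, 6, 209166, 1),
  (80133, 5, 413, 11),
  (80134, 3, 204814, 2),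
  (80137, 6, 211341, 17),
  (80138, 6, 205070, 1),
  (80141, 6, 120846, 24),
  (80142, 6, 51466, 23),
  (80145, 5, 181321, 44),
  (80146, 6, 211350, 17),
  (80149, 6, 59815, 41),
  (80150, 5, 59670, 41),
  (80153, 6, 204813, 8),
  (80154, 6, 139406, 10),
  (80157, 6, 35050, 19),
  (80158, 4, 125078, 24),
  (80163, 6, 146609, 16),
  (80167, 6, 239863, 21),
  (80171, 6, 243774, 24),
  (80175, 6, 128167, 19),
  (80179, 7, 203129, 26),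
  (80183, 6, 128143, 19),
  (80187, 6, 243902, 24),
  (80191, 6, 213055, 14),
  (80195, 6, 158205, 22),
  (80199, 5, 212433, 2),
  (80203, 6, 174555, 6),
  (80207, 6, 51610, 23),
  (80211, 6, 244119, 17),
  (80215, 6, 258150, 23),
  (80219, 6, 238669, 8),
  (80223, 5, 194765, 22),
  (80225, 6, 178353, 16),
  (80226, 6, 252157, 20),
  (80229, 6, 194810, 19),
  (80230, 6, 247998, 3),
  (80233, 6, 215390, 19),
  (80234, 5, 190938, 6),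
  (80237, 6, 121145, 15),
  (80238, 6, 91263, 22),
  (80241, 6, 203126, 19),
  (80242, 6, 233846, 13),
  (80245, 6, 190714, 19),
  (80246, 5, 163876, 42),
  (80249, 5, 219478, 19),
  (80250, 5, 49508, 42),
  (80253, 6, 120113, 20),
  (80254, 6, 121137, 20),
  (80257, 6, 33139, 21),
  (80258, 5, 200734, 10),
  (80261, 6, 205213, 4),
  (80262, 6, 65822, 11),
  (80265, 6, 196765, 8),
  (80266, 4, 26850, 24),
  (80269, 6, 6378, 19),
  (80270, 6, 77909, 22),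
  (80273, 6, 74013, 5),
  (80274, 5, 125026, 24),
  (80277, 7, 198941, 26),
  (80278, 6, 43209, 22),
  (80281, 6, 210957, 1),
  (80282, 3, 204814, 10),
  (80285, 6, 196765, 14),
  (80286, 6, 120043, 19),
  (80291, 6, 212017, 16),
  (80295, 5, 163249, 2),
  (80299, 6, 220191, 1)]

theorem chk_rows2_8 : rows2_8.all (rowBP tr2 gensLitP 72) = true := by decide +kernel

/-- Rows 13500 to 14999. -/
def rows2_9 : List (ℕ × ℕ × ℕ × ℕ) := [(80303, 6, 14818, 24),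
  (80307, 6, 129378, 24),
  (80311, 6, 128207, 19),
  (80315, 6, 240845, 22),
  (80319, 6, 97553, 5),
  (80323, 6, 7641, 13),
  (80327, 6, 239007, 4),
  (80331, 5, 78899, 39),
  (80335, 6, 51642, 23),
  (80339, 6, 204095, 26),
  (80343, 5, 79113, 39),
  (80347, 6, 241127, 20),
  (80351, 5, 51646, 23),
  (80353, 6, 231742, 19),
  (80354, 5, 129334, 8),
  (80357, 6, 162042, 19),
  (80358, 5, 49412, 42),
  (80361, 6, 248094, 19),
  (80362, 5, 164196, 42),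
  (80365, 6, 145658, 19),
  (80366, 6, 129430, 12),
  (80369, 6, 241901, 8),
  (80370, 6, 204143, 26),
  (80373, 6, 252253, 6),
  (80374, 6, 117150, 12),
  (80377, 6, 194721, 3),
  (80378, 6, 121150, 8),
  (80381, 6, 213245, 14),
  (80382, 6, 128491, 19),
  (80897, 6, 78999, 2),
  (80899, 6, 150579, 20),
  (80901, 6, 29033, 25),
  (80903, 6, 94282, 24),
  (80905, 7, 149698, 23),
  (80907, 5, 21649, 43),
  (80909, 6, 73871, 7),
  (80911, 6, 5277, 1),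
  (80913, 6, 53561, 25),
  (80915, 5, 78058, 24),
  (80917, 6, 173265, 21),
  (80919, 6, 78999, 17),
  (80921, 4, 102586, 24),
  (80923, 4, 225300, 26),
  (80925, 6, 3229, 6),
  (80927, 6, 17717, 20),
  (80993, 6, 95479, 2),
  (80995, 6, 240046, 26),
  (80997, 6, 14571, 12),
  (80999, 6, 183699, 23),
  (81001, 6, 190894, 26),
  (81003, 6, 213245, 25),
  (81005, 6, 97531, 2),
  (81007, 5, 129127, 10),
  (81009, 6, 125358, 26),
  (81011, 5, 126123, 3),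
  (81013, 5, 97589, 20),
  (81015, 6, 39095, 16),
  (81017, 6, 59822, 26),
  (81019, 6, 126205, 7),
  (81021, 6, 63910, 26),
  (81023, 6, 128159, 17),
  (81025, 4, 61682, 24),
  (81027, 4, 98643, 21),
  (81029, 6, 231782, 23),
  (81031, 6, 156693, 20),
  (81033, 4, 149730, 23),
  (81035, 6, 7275, 19),
  (81037, 6, 150549, 20),
  (81039, 5, 198965, 37),
  (81041, 6, 90540, 26),
  (81043, 6, 160089, 25),
  (81045, 6, 94628, 26),
  (81047, 4, 102514, 24),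
  (81049, 6, 25004, 26),
  (81051, 5, 21659, 43),
  (81053, 5, 77938, 24),
  (81055, 4, 182694, 23),
  (81121, 6, 88151, 1),
  (81123, 6, 22747, 13),
  (81125, 6, 125963, 5),
  (81127, 6, 106777, 39),
  (81129, 5, 100585, 41),
  (81131, 6, 89181, 1),
  (81133, 6, 220181, 20),
  (81135, 6, 176550, 26),
  (81137, 6, 198747, 37),
  (81139, 5, 106926, 26),
  (81141, 5, 106595, 39),
  (81143, 6, 111014, 26),
  (81145, 6, 57774, 26),
  (81147, 6, 60669, 7),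
  (81149, 6, 61862, 26),
  (81151, 6, 129271, 10),
  (81185, 6, 146611, 16),
  (81187, 6, 145587, 16),
  (81189, 6, 215129, 26),
  (81191, 6, 89393, 15),
  (81193, 6, 235582, 24),
  (81195, 6, 243758, 24),
  (81197, 6, 90543, 7),
  (81199, 6, 54549, 20),
  (81201, 6, 212169, 22),
  (81203, 6, 24991, 5),
  (81205, 5, 196927, 4),
  (81207, 6, 124331, 25),
  (81209, 5, 212173, 22),
  (81211, 6, 243886, 24),
  (81213, 6, 252062, 24),
  (81215, 6, 150943, 6),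
  (81217, 5, 212061, 14),
  (81219, 6, 129318, 23),
  (81221, 5, 34269, 11),
  (81223, 6, 129382, 23),
  (81225, 6, 175577, 6),
  (81227, 5, 21835, 43),
  (81229, 5, 25841, 38),
  (81231, 6, 211419, 2),
  (81233, 6, 242767, 8),
  (81235, 6, 232733, 4),
  (81237, 6, 216347, 26),
  (81239, 5, 127334, 23),
  (81241, 5, 137561, 40),
  (81243, 5, 244051, 10),
  (81245, 6, 182430, 23),
  (81247, 6, 182686, 23),
  (81313, 6, 212019, 16),
  (81315, 5, 163207, 17),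
  (81317, 6, 211243, 12),
  (81319, 6, 39410, 24),
  (81321, 5, 163213, 17),
  (81323, 5, 196799, 8),
  (81325, 6, 187413, 20),
  (81327, 6, 198843, 8),
  (81329, 6, 129394, 24),
  (81331, 6, 90399, 5),
  (81333, 6, 113010, 24),
  (81335, 6, 220447, 6),
  (81337, 6, 219613, 26),
  (81339, 6, 204975, 8),
  (81341, 6, 161181, 17),
  (81343, 6, 216351, 6),
  (81345, 6, 220191, 26),
  (81347, 6, 6619, 13),
  (81349, 6, 244070, 23),
  (81351, 6, 21645, 43),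
  (81353, 6, 3547, 13),
  (81355, 6, 220351, 26),
  (81357, 6, 216223, 26),
  (81359, 6, 258421, 22),
  (81361, 6, 241115, 10),
  (81363, 6, 232861, 4),
  (81365, 6, 216351, 26),
  (81367, 5, 100393, 41),
  (81369, 6, 220575, 26),
  (81371, 6, 244179, 10),
  (81373, 5, 25793, 38),
  (81375, 6, 111943, 11),
  (81923, 5, 197025, 23),
  (81925, 5, 24753, 25),
  (81926, 7, 205204, 21),
  (81929, 5, 147873, 25),
  (81930, 5, 2122, 22),
  (81932, 4, 139665, 25),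
  (81935, 4, 90364, 26),
  (81937, 4, 90289, 13),
  (81938, 4, 37889, 22),
  (81940, 6, 82100, 8),
  (81943, 3, 156028, 26),
  (81944, 4, 7173, 22),
  (81947, 5, 95243, 4),
  (81949, 3, 205276, 26),
  (81950, 4, 213484, 26),
  (81955, 4, 213025, 23),
  (81957, 4, 90161, 25),
  (81958, 6, 49196, 26),
  (81961, 4, 213281, 25),
  (81962, 5, 36942, 22),
  (81964, 4, 205073, 25),
  (81967, 6, 135455, 20),
  (81969, 3, 177, 5),
  (81970, 4, 37891, 22),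
  (81972, 6, 82100, 15),
  (81975, 6, 29114, 24),
  (81976, 5, 7175, 22),
  (81979, 6, 254388, 26),
  (81981, 5, 139659, 39),
  (81982, 5, 82066, 38),
  (81985, 5, 73905, 23),
  (81986, 4, 139569, 23),
  (81988, 5, 38990, 26),
  (81991, 4, 213482, 22),
  (81992, 7, 100422, 26),
  (81995, 5, 36881, 41),
  (81997, 5, 36881, 43),
  (81998, 6, 1393, 24),
  (82000, 5, 122886, 40),
  (82003, 6, 53477, 25),
  (82005, 6, 90357, 13),
  (82006, 5, 82098, 37),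
  (82009, 6, 180709, 25),
  (82010, 6, 151988, 20),
  (82012, 5, 139666, 42),
  (82015, 6, 61671, 6),
  (82017, 4, 90145, 23),
  (82018, 5, 155681, 23),
  (82020, 4, 6222, 26),
  (82023, 6, 30798, 26),
  (82024, 6, 67654, 26),
  (82027, 6, 132185, 24),
  (82029, 6, 79950, 26),
  (82030, 6, 132209, 24),
  (82032, 6, 98480, 17),
  (82035, 5, 3285, 44),
  (82037, 7, 197673, 24),
  (82038, 6, 123030, 3),
  (82041, 6, 151994, 20),
  (82042, 5, 139650, 39),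
  (82044, 6, 61620, 2),
  (82047, 6, 93389, 2),
  (82051, 4, 213377, 23),
  (82053, 4, 90241, 25),
  (82054, 6, 69826, 22),
  (82057, 4, 213121, 25),
  (82058, 4, 6210, 22),
  (82060, 5, 204929, 25),
  (82063, 6, 203202, 22),
  (82065, 3, 177, 7),
  (82066, 4, 37897, 22),
  (82068, 6, 90148, 6),
  (82071, 6, 192588, 26),
  (82072, 4, 7181, 22),
  (82075, 7, 254020, 26),
  (82077, 4, 249986, 24),
  (82078, 5, 81970, 38),
  (82083, 4, 196641, 23),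
  (82085, 4, 24705, 25),
  (82086, 7, 98378, 22),
  (82089, 4, 147585, 25),
  (82090, 5, 32846, 22),
  (82092, 4, 65550, 22),
  (82095, 5, 82085, 37),
  (82097, 3, 177, 17),
  (82098, 4, 37899, 22),
  (82100, 5, 188790, 40),
  (82103, 6, 198753, 23),
  (82104, 4, 7183, 22),
  (82107, 5, 95409, 8),
  (82109, 6, 68707, 23),
  (82110, 5, 92334, 13),
  (82113, 4, 90257, 23),
  (82114, 4, 155921, 23),
  (82116, 5, 36942, 26),
  (82119, 6, 41303, 19),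
  (82120, 6, 22562, 22),
  (82123, 6, 153954, 22),
  (82125, 6, 10569, 21),
  (82126, 6, 1395, 24),
  (82128, 6, 98480, 1),
  (82131, 5, 20902, 20),
  (82133, 6, 125141, 8),
  (82134, 6, 41307, 19),
  (82137, 6, 237638, 26),
  (82138, 5, 36948, 41),
  (82140, 6, 53460, 15),
  (82143, 6, 89175, 12),
  (82145, 4, 73761, 23),
  (82146, 4, 16454, 26),
  (82148, 5, 4174, 26),
  (82151, 5, 82085, 38),
  (82152, 7, 33136, 19),
  (82155, 4, 90182, 26),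
  (82157, 4, 213006, 22),
  (82158, 6, 33139, 19),
  (82160, 6, 82000, 4),
  (82163, 3, 155718, 26),
  (82165, 6, 125173, 8),
  (82166, 5, 82180, 38),
  (82169, 3, 204870, 26),
  (82170, 4, 213062, 26),
  (82172, 5, 139394, 42),
  (82175, 6, 27853, 2),
  (82177, 4, 213409, 17),
  (82178, 6, 82338, 4),
  (82180, 4, 38913, 26),
  (82183, 3, 205274, 22),
  (82184, 5, 122886, 44),
  (82187, 6, 213419, 17),
  (82189, 6, 102571, 23),
  (82190, 5, 82098, 38),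
  (82192, 4, 196912, 1),
  (82195, 4, 145822, 24),
  (82197, 4, 18770, 21),
  (82198, 6, 39201, 26),
  (82201, 6, 71855, 23),
  (82202, 6, 18579, 21),
  (82204, 6, 18707, 21),
  (82207, 5, 82197, 37),
  (82209, 3, 417, 5),
  (82210, 6, 90148, 21),
  (82212, 4, 38977, 26),
  (82215, 6, 241738, 22),
  (82216, 6, 98480, 19),
  (82219, 6, 218411, 4),
  (82221, 5, 98486, 19),
  (82222, 6, 135517, 20),
  (82224, 2, 32776, 41),
  (82227, 6, 119907, 25),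
  (82229, 6, 5523, 22),
  (82230, 6, 38035, 22),
  (82233, 6, 89123, 23),
  (82234, 5, 82020, 38),
  (82236, 5, 139588, 42),
  (82239, 5, 37057, 41),
  (82243, 3, 156026, 22),
  (82245, 5, 247877, 8),
  (82246, 4, 90362, 22),
  (82249, 6, 78011, 23),
  (82250, 5, 139666, 39),
  (82252, 6, 106930, 19),
  (82255, 6, 233647, 3),
  (82257, 6, 50407, 25),
  (82258, 6, 66837, 24),
  (82260, 6, 66853, 24),
  (82263, 5, 82197, 38),
  (82264, 6, 90568, 10),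
  (82267, 6, 152054, 20),
  (82269, 6, 106942, 19),
  (82270, 6, 127278, 12),
  (82275, 4, 127012, 21),
  (82277, 7, 225290, 22),
  (82278, 5, 81970, 37),
  (82281, 6, 159758, 22),
  (82282, 6, 102698, 12),
  (82284, 5, 36948, 43),
  (82287, 6, 118031, 15),
  (82289, 6, 5427, 22),
  (82290, 5, 75782, 44),
  (82292, 6, 180296, 43),
  (82295, 5, 37001, 43),
  (82296, 6, 230727, 25),
  (82299, 5, 36945, 41),
  (82301, 5, 36889, 43),
  (82302, 6, 18847, 21),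
  (82305, 3, 417, 7),
  (82306, 6, 82338, 12),
  (82308, 4, 38917, 26),
  (82311, 6, 229876, 21),
  (82312, 6, 213384, 13),
  (82315, 7, 26817, 21),
  (82317, 5, 3285, 40),
  (82318, 6, 217382, 6),
  (82320, 2, 32776, 43),
  (82323, 6, 35125, 26),
  (82325, 6, 120973, 23),
  (82326, 6, 39205, 26),
  (82329, 6, 35221, 26),
  (82330, 6, 180296, 41),
  (82332, 5, 75782, 40),
  (82335, 5, 37001, 41),
  (82337, 3, 417, 13),
  (82338, 5, 188790, 44),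
  (82340, 4, 38981, 26),
  (82343, 6, 25737, 25),
  (82344, 6, 82184, 8),
  (82347, 6, 218539, 4),
  (82349, 3, 204814, 22),
  (82350, 5, 82180, 37),
  (82352, 4, 213296, 3),
  (82355, 6, 211330, 24),
  (82357, 6, 26950, 21),
  (82358, 6, 74150, 12),
  (82361, 4, 20858, 20),
  (82362, 7, 35301, 26),
  (82364, 6, 248194, 24),
  (82367, 6, 260482, 24),
  (82371, 5, 139659, 42),
  (82373, 6, 225714, 22),
  (82374, 5, 82066, 37),
  (82377, 6, 106996, 19),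
  (82378, 6, 233890, 1),
  (82380, 5, 139650, 42),
  (82383, 6, 216171, 1),
  (82385, 6, 117893, 25),
  (82386, 5, 139588, 39),
  (82388, 5, 82020, 37),
  (82391, 5, 37057, 43),
  (82392, 6, 30751, 23),
  (82395, 5, 36889, 41),
  (82397, 5, 36945, 43),
  (82398, 6, 66935, 24),
  (82403, 6, 19597, 25),
  (82405, 5, 248225, 4),
  (82406, 5, 166306, 17),
  (82409, 3, 155662, 22),
  (82410, 5, 139394, 39),
  (82412, 4, 90126, 22),
  (82415, 6, 199787, 1),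
  (82417, 4, 98780, 19),
  (82418, 6, 26766, 21),
  (82420, 7, 5307, 22),
  (82423, 6, 27086, 21),
  (82424, 6, 36295, 26),
  (82427, 5, 139701, 42),
  (82429, 5, 139701, 39),
  (82430, 6, 111022, 12),
  (82945, 5, 65953, 23),
  (82947, 4, 24660, 26),
  (82957, 6, 231818, 22),
  (82959, 5, 192874, 24),
  (82965, 6, 153891, 20),
  (82967, 4, 68050, 21),
  (82969, 6, 184809, 25),
  (82971, 4, 67795, 21),
  (82977, 4, 213281, 23),
  (82979, 4, 82209, 23),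
  (82989, 6, 7343, 5),
  (82991, 6, 60481, 19),
  (82997, 4, 67926, 21),
  (82999, 4, 188700, 26),
  (83001, 5, 250217, 25),
  (83003, 6, 85283, 23),
  (83013, 5, 178189, 42),
  (83015, 5, 178241, 42),
  (83017, 7, 182570, 22),
  (83019, 4, 67801, 21),
  (83025, 6, 91379, 13),
  (83027, 4, 154022, 20),
  (83037, 6, 95479, 13),
  (83039, 5, 129111, 8),
  (83045, 7, 30830, 26),
  (83047, 6, 137615, 20),
  (83049, 5, 235, 1),
  (83051, 5, 184334, 22),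
  (83057, 6, 145757, 19),
  (83059, 5, 141414, 26),
  (83069, 6, 205929, 24),
  (83071, 6, 7655, 22),
  (83073, 4, 82305, 23),
  (83075, 4, 213121, 23),
  (83085, 4, 192530, 24),
  (83087, 5, 110700, 26),
  (83093, 6, 117125, 23),
  (83095, 5, 93313, 4),
  (83097, 4, 241810, 24),
  (83099, 6, 215175, 23),
  (83105, 4, 196897, 23),
  (83107, 4, 65825, 23),
  (83117, 5, 178517, 42),
  (83119, 6, 77932, 26),
  (83125, 5, 93313, 14),
  (83127, 6, 61577, 25),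
  (83129, 6, 242066, 24),
  (83131, 4, 22846, 20),
  (83141, 4, 168412, 21),
  (83143, 6, 134225, 19),
  (83145, 6, 6546, 20),
  (83147, 5, 235, 2),
  (83153, 6, 120965, 25),
  (83155, 6, 34033, 7),
  (83165, 6, 125335, 23),
  (83167, 6, 128103, 6),
  (83173, 3, 213066, 22),
  (83175, 5, 231, 13),
  (83177, 6, 75853, 21),
  (83179, 6, 140379, 24),
  (83185, 5, 178461, 19),
  (83187, 6, 139366, 26),
  (83197, 7, 194693, 25),
  (83199, 6, 129271, 8),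
  (83205, 6, 237978, 22),
  (83207, 6, 25787, 25),
  (83209, 6, 92261, 19),
  (83211, 6, 174426, 22),
  (83217, 6, 155827, 1),
  (83219, 5, 84178, 21),
  (83229, 6, 97391, 19),
  (83231, 6, 195054, 24),
  (83237, 4, 22846, 24),
  (83239, 7, 188580, 21),
  (83241, 6, 218113, 14),
  (83243, 6, 87331, 23),
  (83249, 6, 153962, 20),
  (83251, 5, 178509, 42),
  (83261, 6, 97407, 19),
  (83263, 6, 7639, 22),
  (83265, 6, 147907, 12),
  (83267, 6, 17583, 25),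
  (83277, 6, 84313, 21),
  (83279, 6, 256506, 22),
  (83285, 7, 62719, 25),
  (83287, 6, 243901, 23),
  (83289, 5, 242873, 3),
  (83291, 6, 194019, 6),
  (83297, 6, 159818, 22),
  (83299, 6, 52339, 26),
  (83309, 6, 137691, 20),
  (83311, 5, 251023, 3),
  (83317, 6, 178445, 42),
  (83319, 7, 84446, 21),
  (83321, 6, 154106, 20),
  (83323, 6, 7543, 22),
  (83333, 6, 242066, 22),
  (83335, 5, 216097, 1),
  (83337, 6, 4515, 7),
  (83339, 6, 6486, 20),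
  (83345, 6, 213267, 12),
  (83347, 6, 119945, 25),
  (83357, 6, 89407, 5),
  (83359, 6, 252050, 24),
  (83365, 4, 204874, 22),
  (83367, 5, 423, 13),
  (83369, 6, 6490, 20),
  (83371, 6, 147851, 2),
  (83377, 6, 38235, 22),
  (83379, 6, 14529, 19),
  (83389, 5, 97593, 11),
  (83391, 6, 220469, 12),
  (83393, 6, 6594, 20),
  (83395, 6, 34273, 7),
  (83405, 6, 21991, 13),
  (83407, 6, 260594, 22),
  (83413, 6, 92490, 21),
  (83415, 6, 92618, 21),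
  (83417, 5, 178265, 42),
  (83419, 5, 250177, 43),
  (83425, 4, 155722, 22),
  (83427, 6, 147907, 2),
  (83437, 6, 5607, 13),
  (83439, 6, 253353, 4),
  (83445, 6, 247255, 10),
  (83447, 6, 56695, 26),
  (83449, 6, 157131, 2),
  (83451, 6, 218481, 12),
  (83969, 5, 16561, 25),
  (83970, 7, 133133, 20),
  (83973, 4, 196874, 22),
  (83974, 6, 204948, 21),
  (83979, 5, 178189, 39),
  (83983, 5, 178241, 39),
  (83987, 6, 160116, 26),
  (83991, 6, 199141, 23),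
  (83993, 6, 73789, 15),
  (83994, 3, 90302, 4),
  (83997, 6, 67815, 23),
  (83998, 5, 57654, 40),
  (84001, 4, 81969, 25),
  (84002, 6, 8498, 24),
  (84005, 4, 90145, 25),
  (84006, 6, 37066, 22),
  (84011, 4, 45434, 24),
  (84015, 6, 11529, 20),
  (84019, 6, 192820, 26),
  (84023, 5, 93313, 2),
  (84025, 6, 30846, 19),
  (84026, 5, 198830, 37),
  (84029, 6, 6329, 5),
  (84030, 6, 24718, 8),
  (84035, 6, 59470, 26),
  (84039, 5, 241884, 21),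
  (84041, 7, 108622, 26),
  (84042, 6, 34990, 8),
  (84045, 4, 17769, 24),
  (84046, 7, 120902, 26),
  (84049, 6, 214155, 20),
  (84050, 5, 57526, 10),
  (84053, 6, 178246, 26),
  (84054, 6, 124994, 13),
  (84059, 6, 83289, 24),
  (84063, 6, 260166, 26),
  (84067, 4, 241924, 21),
  (84071, 5, 184522, 22),
  (84073, 6, 158070, 19),
  (84074, 6, 34097, 19),
  (84077, 5, 237, 1),
  (84078, 6, 121062, 15),
  (84081, 6, 32949, 5),
  (84082, 6, 34073, 19),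
  (84085, 6, 178242, 19),
  (84086, 3, 90358, 5),
  (84091, 6, 100543, 17),
  (84095, 6, 227398, 26),
  (84097, 4, 90257, 25),
  (84098, 6, 65940, 21),
  (84101, 4, 82065, 25),
  (84102, 6, 139298, 24),
  (84107, 7, 137666, 22),
  (84111, 6, 42103, 19),
  (84115, 4, 141506, 21),
  (84119, 7, 209058, 24),
  (84121, 6, 237644, 26),
  (84122, 6, 29018, 42),
  (84125, 6, 73101, 22),
  (84126, 6, 28822, 5),
  (84129, 4, 24721, 25),
  (84130, 6, 155938, 24),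
  (84133, 4, 16529, 25),
  (84134, 7, 74004, 21),
  (84139, 3, 90188, 26),
  (84143, 5, 175, 17),
  (84147, 4, 155724, 26),
  (84151, 5, 183, 17),
  (84153, 4, 204876, 26),
  (84154, 3, 213068, 26),
  (84157, 6, 73789, 1),
  (84158, 4, 190, 17),
  (84163, 6, 36071, 7),
  (84167, 6, 203785, 20),
  (84169, 5, 237, 2),
  (84170, 6, 39082, 3),
  (84173, 5, 110662, 26),
  (84174, 6, 6378, 16),
  (84177, 6, 124929, 16),
  (84178, 4, 90182, 7),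
  (84181, 6, 201769, 20),
  (84182, 6, 184390, 26),
  (84187, 6, 42365, 19),
  (84191, 5, 129127, 6),
  (84195, 5, 178517, 39),
  (84199, 6, 180426, 22),
  (84201, 6, 148555, 24),
  (84202, 6, 34990, 17),
  (84205, 6, 141645, 21),
  (84206, 6, 35050, 4),
  (84209, 6, 178462, 19),
  (84210, 6, 43165, 25),
  (84213, 6, 73845, 1),
  (84214, 4, 141710, 21),
  (84219, 6, 34173, 19),
  (84223, 6, 130289, 8),
  (84227, 6, 107669, 19),
  (84231, 4, 162078, 24),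
  (84233, 6, 215469, 17),
  (84234, 6, 82350, 4),
  (84237, 4, 51410, 19),
  (84238, 3, 213422, 17),
  (84241, 6, 205221, 2),
  (84242, 6, 196918, 1),
  (84245, 5, 153998, 24),
  (84246, 6, 24982, 11),
  (84251, 7, 236015, 23),
  (84255, 6, 194019, 25),
  (84259, 6, 87091, 25),
  (84263, 5, 216097, 8),
  (84265, 6, 119843, 23),
  (84266, 6, 213294, 13),
  (84269, 6, 6569, 5),
  (84270, 5, 59734, 24),
  (84273, 6, 90389, 15),
  (84274, 6, 103507, 25),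
  (84277, 6, 120929, 23),
  (84278, 6, 35177, 26),
  (84283, 6, 47614, 24),
  (84287, 6, 63966, 24),
  (84289, 6, 110841, 23),
  (84290, 5, 12598, 40),
  (84293, 4, 17709, 24),
  (84294, 6, 33190, 8),
  (84299, 6, 248239, 17),
  (84303, 5, 251151, 4),
  (84307, 6, 249039, 20),
  (84311, 6, 149978, 21),
  (84313, 5, 195041, 6),
  (84314, 6, 243898, 3),
  (84317, 6, 243901, 3),
  (84318, 6, 129326, 12),
  (84321, 4, 192804, 21),
  (84322, 6, 99729, 19),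
  (84325, 6, 91175, 25),
  (84326, 3, 213478, 5),
  (84331, 6, 218423, 25),
  (84335, 6, 252047, 3),
  (84339, 6, 118231, 7),
  (84343, 6, 149982, 21),
  (84345, 5, 178265, 39),
  (84346, 5, 178658, 6),
  (84349, 5, 250177, 41),
  (84350, 6, 162026, 7),
  (84355, 4, 161826, 24),
  (84359, 4, 209234, 22),
  (84361, 6, 173403, 20),
  (84362, 5, 201126, 1),
  (84365, 5, 211218, 22),
  (84366, 6, 151883, 23),
  (84369, 6, 112654, 19),
  (84370, 6, 186701, 23),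
  (84373, 5, 178509, 39),
  (84374, 6, 153933, 23),
  (84379, 6, 178445, 39),
  (84383, 7, 243874, 24),
  (84387, 5, 216097, 16),
  (84391, 6, 233569, 23),
  (84393, 5, 177491, 20),
  (84394, 3, 213422, 13),
  (84397, 6, 139406, 22),
  (84398, 6, 131502, 17),
  (84401, 6, 39261, 26),
  (84402, 6, 39277, 26),
  (84405, 6, 164905, 20),
  (84406, 6, 196790, 2),
  (84411, 6, 96575, 11),
  (84415, 6, 175145, 20),
  (84417, 5, 127193, 23),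
  (84418, 4, 486, 16),
  (84421, 6, 85141, 25),
  (84422, 6, 147910, 5),
  (84427, 6, 157897, 21),
  (84431, 6, 36031, 26),
  (84435, 6, 249295, 20),
  (84439, 6, 36159, 26),
  (84441, 6, 260398, 19),
  (84442, 6, 178362, 3),
  (84445, 6, 36255, 26),
  (84446, 6, 129454, 12),
  (84449, 6, 192820, 21),
  (84450, 6, 246246, 13),
  (84453, 4, 141506, 19),
  (84454, 6, 231782, 6),
  (84459, 7, 242723, 23),
  (84463, 6, 251311, 4),
  (84467, 5, 249297, 10),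
  (84471, 6, 126355, 15),
  (84473, 6, 206973, 1),
  (84474, 6, 113066, 12),
  (84477, 6, 125337, 15),
  (84478, 6, 113070, 12),
  (85001, 6, 168314, 24),
  (85003, 6, 142363, 20),
  (85005, 5, 85281, 44),
  (85007, 6, 94428, 26),
  (85009, 7, 143732, 26),
  (85011, 6, 160084, 26),
  (85013, 6, 90119, 4),
  (85015, 6, 199122, 21),
  (85033, 5, 110772, 26),
  (85035, 5, 127124, 26),
  (85037, 5, 175, 1),
  (85039, 6, 116067, 23),
  (85041, 7, 4538, 24),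
  (85043, 5, 183, 5),
  (85045, 6, 127081, 25),
  (85047, 5, 176413, 41),
  (85057, 6, 45532, 21),
  (85059, 5, 85281, 40),
  (85061, 6, 142661, 19),
  (85063, 6, 246122, 22),
  (85081, 6, 128087, 8),
  (85083, 6, 239863, 23),
  (85085, 6, 126991, 4),
  (85087, 6, 115903, 17),
  (85089, 6, 141655, 19),
  (85091, 6, 81981, 25),
  (85093, 5, 231, 1),
  (85095, 6, 36071, 6),
  (85113, 6, 97349, 14),
  (85115, 6, 37055, 5),
  (85117, 6, 163197, 19),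
  (85119, 6, 95303, 14),
  (85129, 6, 140575, 20),
  (85131, 5, 175, 2),
  (85133, 6, 82371, 23),
  (85135, 6, 7343, 3),
  (85137, 4, 188524, 26),
  (85139, 5, 207042, 21),
  (85141, 5, 183, 7),
  (85143, 6, 118937, 25),
  (85161, 6, 196814, 22),
  (85163, 4, 184626, 24),
  (85165, 7, 131278, 22),
  (85167, 7, 168242, 24),
  (85169, 6, 225714, 24),
  (85171, 5, 207046, 21),
  (85173, 6, 53393, 25),
  (85175, 6, 143460, 26),
  (85185, 5, 184738, 22),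
  (85187, 5, 231, 2),
  (85189, 5, 250146, 22),
  (85191, 6, 88221, 25),
  (85209, 6, 125963, 16),
  (85211, 6, 260253, 25),
  (85213, 6, 258150, 26),
  (85215, 6, 38133, 7),
  (85217, 6, 24686, 26),
  (85219, 7, 8302, 26),
  (85221, 4, 110996, 21),
  (85223, 7, 45460, 21),
  (85241, 6, 194879, 19),
  (85243, 5, 119049, 38),
  (85245, 7, 222315, 24),
  (85247, 6, 208998, 26),
  (85249, 7, 172442, 22),
  (85251, 6, 212999, 8),
  (85253, 6, 237850, 22),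
  (85255, 6, 162062, 24),
  (85273, 6, 157887, 1),
  (85275, 6, 32159, 11),
  (85277, 6, 204095, 10),
  (85279, 6, 46381, 20),
  (85281, 4, 209098, 22),
  (85283, 5, 423, 5),
  (85285, 5, 22814, 24),
  (85287, 6, 119137, 23),
  (85305, 5, 118989, 37),
  (85307, 6, 195667, 20),
  (85309, 6, 139455, 1),
  (85311, 6, 63683, 19),
  (85321, 6, 252175, 4),
  (85323, 6, 249927, 8),
  (85325, 6, 161199, 25),
  (85327, 6, 88551, 13),
  (85329, 6, 206311, 2),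
  (85331, 6, 60887, 11),
  (85333, 6, 232823, 10),
  (85335, 6, 170195, 19),
  (85353, 6, 220229, 14),
  (85355, 6, 258190, 22),
  (85357, 6, 259427, 23),
  (85359, 6, 39339, 5),
  (85361, 7, 56667, 26),
  (85363, 6, 129313, 23),
  (85365, 6, 215390, 21),
  (85367, 6, 175591, 6),
  (85377, 7, 33268, 21),
  (85379, 6, 250057, 23),
  (85381, 5, 423, 7),
  (85383, 5, 176413, 43),
  (85401, 7, 105821, 22),
  (85403, 6, 252082, 24),
  (85405, 6, 251025, 25),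
  (85407, 6, 146623, 3),
  (85409, 6, 254388, 21),
  (85411, 6, 102689, 23),
  (85413, 5, 145714, 24),
  (85415, 6, 172170, 22),
  (85433, 6, 193681, 25),
  (85435, 6, 97599, 11),
  (85437, 6, 220575, 10),
  (85439, 6, 212263, 6),
  (85449, 6, 248843, 16),
  (85451, 6, 241115, 20),
  (85453, 6, 37351, 7),
  (85455, 6, 247823, 16),
  (85457, 5, 118989, 38),
  (85459, 6, 139751, 2),
  (85461, 6, 245005, 19),
  (85463, 6, 234541, 20),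
  (85481, 6, 243159, 20),
  (85483, 7, 223437, 21),
  (85485, 5, 119049, 37),
  (85487, 6, 188558, 22),
  (85489, 6, 244001, 23),
  (85491, 6, 126327, 11),
  (85493, 6, 249303, 10),
  (85495, 6, 191639, 3),
  (86017, 5, 16801, 25),
  (86018, 5, 2126, 22),
  (86020, 5, 8593, 25),
  (86023, 6, 24828, 26),
  (86025, 4, 131342, 22),
  (86026, 4, 78, 22),
  (86028, 4, 139409, 25),
  (86031, 6, 57399, 19),
  (86035, 5, 143834, 24),
  (86037, 6, 139740, 26),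
  (86038, 6, 147948, 26),
  (86043, 6, 160054, 20),
  (86045, 5, 175109, 21),
  (86046, 6, 96270, 13),
  (86049, 4, 82209, 25),
  (86050, 3, 38986, 22),
  (86052, 5, 74001, 25),
  (86055, 5, 235594, 22),
  (86057, 4, 213025, 25),
  (86058, 5, 38990, 22),
  (86060, 4, 204817, 25),
  (86063, 5, 175, 6),
  (86067, 6, 119137, 25),
  (86069, 4, 172444, 26),
  (86070, 5, 151838, 42),
  (86075, 5, 216097, 23),
  (86077, 6, 173061, 21),
  (86078, 6, 57778, 24),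
  (86083, 6, 34073, 24),
  (86085, 6, 120909, 8),
  (86086, 6, 121062, 4),
  (86091, 5, 120897, 37),
  (86093, 3, 213422, 22),
  (86094, 6, 39082, 8),
  (86097, 6, 57628, 19),
  (86098, 6, 142645, 23),
  (86100, 6, 94460, 13),
  (86103, 6, 125963, 4),
  (86105, 6, 90361, 13),
  (86106, 6, 127050, 13),
  (86108, 4, 252, 4),
  (86111, 6, 160183, 20),
  (86115, 6, 112857, 21),
  (86117, 6, 164905, 24),
  (86118, 6, 88298, 5),
  (86123, 5, 119873, 10),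
  (86125, 7, 14542, 26),
  (86126, 6, 34990, 10),
  (86129, 5, 207046, 26),
  (86130, 6, 24810, 7),
  (86132, 6, 26723, 23),
  (86135, 6, 38311, 22),
  (86137, 4, 141510, 26),
  (86138, 3, 90186, 14),
  (86140, 5, 127124, 3),
  (86143, 6, 224353, 23),
  (86145, 4, 213377, 25),
  (86146, 4, 6214, 22),
  (86148, 4, 205185, 25),
  (86151, 5, 175, 3),
  (86153, 4, 82305, 25),
  (86154, 5, 4166, 22),
  (86156, 4, 74113, 25),
  (86159, 6, 159810, 24),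
  (86163, 6, 246153, 25),
  (86165, 6, 6329, 7),
  (86166, 4, 250060, 26),
  (86171, 4, 28982, 20),
  (86173, 6, 175125, 21),
  (86174, 6, 67774, 1),
  (86177, 4, 147841, 25),
  (86178, 4, 34890, 22),
  (86180, 4, 139649, 25),
  (86183, 4, 192834, 24),
  (86185, 4, 16769, 25),
  (86186, 4, 34894, 22),
  (86188, 4, 8577, 25),
  (86191, 7, 231502, 22),
  (86195, 4, 242114, 24),
  (86197, 5, 250306, 24),
  (86198, 6, 28973, 20),
  (86203, 6, 199713, 23),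
  (86205, 6, 6329, 17),
  (86206, 6, 28822, 3),
  (86211, 4, 123078, 26),
  (86213, 6, 219558, 22),
  (86214, 6, 88294, 22),
  (86219, 4, 12694, 20),
  (86221, 4, 57718, 19),
  (86222, 6, 6374, 16),
  (86225, 5, 127193, 8),
  (86226, 3, 90186, 7),
  (86228, 4, 57690, 19),
  (86231, 6, 97395, 1),
  (86233, 6, 117125, 25),
  (86234, 6, 99667, 24),
  (86236, 6, 126988, 16),
  (86239, 6, 125325, 25),
  (86243, 4, 12686, 20),
  (86245, 5, 121061, 37),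
  (86246, 6, 121062, 13),
  (86251, 6, 182350, 22),
  (86253, 5, 237, 13),
  (86254, 6, 120842, 8),
  (86257, 4, 49500, 19),
  (86258, 6, 126978, 8),
  (86260, 4, 252, 8),
  (86263, 5, 126123, 4),
  (86265, 6, 29114, 20),
  (86266, 5, 190806, 39),
  (86268, 6, 82012, 4),
  (86271, 6, 126205, 8),
  (86275, 6, 196779, 3),
  (86277, 6, 196781, 3),
  (86278, 6, 158070, 24),
  (86283, 6, 178462, 24),
  (86285, 4, 205214, 22),
  (86286, 6, 169259, 23),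
  (86289, 6, 42103, 21),
  (86290, 4, 141782, 24),
  (86292, 6, 204988, 3),
  (86295, 6, 212389, 2),
  (86297, 6, 7441, 22),
  (86298, 6, 213146, 15),
  (86300, 4, 182694, 24),
  (86303, 6, 150943, 12),
  (86307, 6, 87331, 25),
  (86309, 6, 104529, 26),
  (86310, 6, 112714, 22),
  (86315, 6, 213003, 14),
  (86317, 6, 210958, 22),
  (86318, 6, 131502, 6),
  (86321, 5, 120961, 37),
  (86322, 6, 155818, 7),
  (86324, 6, 90540, 1),
  (86327, 6, 38295, 22),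
  (86329, 6, 39310, 24),
  (86330, 6, 213178, 15),
  (86332, 5, 213180, 15),
  (86335, 6, 63934, 24),
  (86337, 6, 250273, 17),
  (86338, 5, 143812, 20),
  (86340, 3, 213068, 17),
  (86343, 6, 252323, 17),
  (86345, 4, 155966, 22),
  (86346, 6, 136327, 25),
  (86348, 3, 90302, 22),
  (86351, 6, 34173, 24),
  (86355, 6, 193665, 16),
  (86357, 5, 252337, 17),
  (86358, 6, 129526, 4),
  (86363, 6, 212415, 23),
  (86365, 6, 99693, 24),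
  (86366, 6, 72182, 16),
  (86369, 7, 101459, 26),
  (86370, 6, 63562, 22),
  (86372, 6, 246092, 10),
  (86375, 5, 220613, 2),
  (86377, 5, 143834, 20),
  (86378, 3, 213066, 14),
  (86380, 6, 37356, 14),
  (86383, 6, 164989, 24),
  (86387, 6, 38199, 22),
  (86389, 6, 179579, 21),
  (86390, 6, 38071, 22),
  (86395, 6, 40243, 22),
  (86397, 6, 119905, 38),
  (86398, 6, 248094, 1),
  (86403, 6, 178242, 24),
  (86405, 6, 6569, 7),
  (86406, 6, 82350, 12),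
  (86411, 6, 196779, 14),
  (86413, 6, 153666, 24),
  (86414, 6, 6566, 16),
  (86417, 6, 89229, 23),
  (86418, 6, 213178, 2),
  (86420, 6, 90540, 12),
  (86423, 5, 120937, 37),
  (86425, 6, 204969, 14),
  (86426, 5, 156058, 5),
  (86428, 5, 90396, 2),
  (86431, 5, 120869, 37),
  (86435, 6, 174154, 22),
  (86437, 7, 114902, 19),
  (86438, 6, 108618, 22),
  (86443, 6, 17801, 25),
  (86445, 6, 153997, 2),
  (86446, 6, 88330, 8),
  (86449, 4, 114908, 19),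
  (86450, 5, 29036, 20),
  (86452, 6, 155804, 3),
  (86455, 6, 212019, 1),
  (86457, 6, 213305, 12),
  (86458, 6, 213402, 1),
  (86460, 4, 114938, 19),
  (86463, 5, 163213, 2),
  (86465, 5, 250217, 6),
  (86466, 3, 213066, 7),
  (86468, 6, 249860, 16),
  (86471, 6, 227830, 22),
  (86473, 6, 160054, 22),
  (86474, 6, 102698, 8),
  (86476, 5, 26978, 39),
  (86479, 6, 186795, 17),
  (86483, 6, 249229, 25),
  (86485, 6, 257413, 25),
  (86486, 6, 162266, 5),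
  (86491, 6, 205035, 14),
  (86493, 7, 130207, 23),
  (86494, 5, 252146, 2),
  (86497, 6, 39033, 21),
  (86498, 6, 213098, 7),
  (86500, 5, 217412, 9),
  (86503, 6, 256074, 22),
  (86505, 5, 489, 13),
  (86506, 6, 59470, 22),
  (86508, 3, 213068, 4),
  (86511, 6, 115191, 19),
  (86515, 6, 29166, 20),
  (86517, 6, 191877, 25),
  (86518, 5, 106926, 12),
  (86523, 6, 52621, 25),
  (86525, 6, 115198, 19),
  (86526, 5, 180478, 15),
  (87045, 6, 89103, 8),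
  (87047, 6, 230561, 23),
  (87053, 7, 184634, 24),
  (87055, 5, 89259, 17),
  (87057, 6, 135642, 24),
  (87059, 6, 156116, 26),
  (87065, 5, 205172, 26),
  (87067, 7, 95233, 4),
  (87077, 4, 20858, 24),
  (87079, 5, 57500, 26),
  (87085, 6, 53562, 24),
  (87087, 6, 235534, 22),
  (87089, 4, 162090, 20),
  (87091, 5, 95243, 14),
  (87097, 7, 237876, 26),
  (87099, 4, 45450, 24),
  (87105, 5, 116813, 38),
  (87107, 6, 182638, 22),
  (87113, 6, 42313, 24),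
  (87115, 4, 43238, 26),
  (87125, 6, 260334, 26),
  (87127, 6, 107833, 24),
  (87133, 6, 145717, 39),
  (87135, 6, 188669, 25),
  (87137, 6, 153674, 22),
  (87139, 4, 76006, 26),
  (87145, 6, 145818, 20),
  (87147, 4, 145822, 20),
  (87157, 6, 36031, 5),
  (87159, 6, 5607, 22),
  (87165, 6, 238697, 24),
  (87167, 6, 39095, 5),
  (87173, 6, 235910, 22),
  (87175, 6, 235974, 22),
  (87181, 6, 7343, 2),
  (87183, 6, 3185, 19),
  (87185, 6, 85381, 23),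
  (87187, 6, 237796, 26),
  (87193, 5, 95243, 16),
  (87195, 6, 119177, 25),
  (87205, 4, 94444, 26),
  (87207, 6, 27745, 19),
  (87213, 6, 198734, 22),
  (87215, 5, 175, 13),
  (87217, 6, 198947, 23),
  (87219, 6, 205028, 26),
  (87225, 5, 155876, 26),
  (87227, 6, 53641, 25),
  (87233, 6, 37085, 21),
  (87235, 6, 186726, 22),
  (87241, 5, 119873, 11),
  (87243, 6, 184678, 22),
  (87253, 6, 39163, 7),
  (87255, 6, 89181, 12),
  (87261, 6, 192750, 26),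
  (87263, 6, 36089, 7),
  (87265, 6, 38049, 17),
  (87267, 6, 153997, 25),
  (87273, 6, 173131, 24),
  (87275, 5, 235, 13),
  (87285, 6, 194949, 25),
  (87287, 6, 31151, 20),
  (87293, 6, 117057, 38),
  (87295, 6, 31167, 20),
  (87297, 6, 218123, 8),
  (87299, 6, 106613, 21),
  (87305, 6, 147851, 12),
  (87307, 6, 213003, 8),
  (87317, 6, 81007, 19),
  (87319, 5, 196927, 10),
  (87325, 6, 97359, 19),
  (87327, 6, 162167, 20),
  (87329, 5, 184331, 41),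
  (87331, 5, 427, 5),
  (87337, 6, 145754, 20),
  (87339, 5, 184619, 41),
  (87349, 6, 38359, 22),
  (87351, 6, 124283, 25),
  (87357, 6, 162171, 20),
  (87359, 6, 63918, 24),
  (87365, 6, 185837, 6),
  (87367, 5, 242873, 23),
  (87373, 6, 248911, 8),
  (87375, 6, 199787, 14),
  (87377, 6, 251313, 17),
  (87379, 6, 162278, 20),
  (87385, 5, 147931, 12),
  (87387, 5, 242867, 3),
  (87397, 6, 145867, 20),
  (87399, 5, 35247, 5),
  (87405, 6, 173165, 24),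
  (87407, 6, 173181, 24),
  (87409, 6, 162282, 20),
  (87411, 6, 177643, 6),
  (87417, 6, 238669, 24),
  (87419, 6, 7539, 22),
  (87425, 6, 87433, 23),
  (87427, 6, 178518, 22),
  (87433, 5, 427, 7),
  (87435, 6, 87433, 25),
  (87445, 6, 113711, 19),
  (87447, 6, 252114, 24),
  (87453, 5, 116877, 38),
  (87455, 5, 145729, 39),
  (87457, 6, 213419, 4),
  (87459, 6, 69923, 23),
  (87465, 6, 116949, 26),
  (87467, 5, 427, 13),
  (87477, 5, 163207, 2),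
  (87479, 6, 252370, 24),
  (87485, 6, 163215, 2),
  (87487, 6, 228769, 4),
  (87493, 6, 250887, 16),
  (87495, 6, 118091, 11),
  (87501, 5, 35307, 7),
  (87503, 6, 249871, 16),
  (87505, 5, 116941, 38),
  (87507, 6, 31206, 20),
  (87513, 5, 184489, 41),
  (87515, 6, 137457, 19),
  (87525, 6, 155079, 2),
  (87527, 5, 163213, 25),
  (87533, 6, 252323, 4),
  (87535, 6, 122103, 26),
  (87537, 6, 238607, 24),
  (87539, 6, 128401, 15),
  (87545, 6, 128181, 21),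
  (87547, 6, 7547, 22),
  (88067, 7, 143738, 24),
  (88071, 5, 160090, 24),
  (88075, 6, 131534, 22),
  (88079, 6, 192794, 24),
  (88081, 6, 70917, 22),
  (88082, 6, 24718, 7),
  (88085, 4, 152010, 24),
  (88086, 6, 156114, 24),
  (88089, 6, 30798, 19),
  (88090, 6, 94398, 4),
  (88093, 6, 39026, 19),
  (88094, 5, 88482, 38),
  (88099, 6, 61620, 26),
  (88103, 6, 50199, 19),
  (88107, 6, 7343, 1),
  (88111, 4, 3353, 20),
  (88113, 6, 30881, 16),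
  (88114, 6, 96270, 14),
  (88117, 7, 20938, 24),
  (88118, 6, 94398, 5),
  (88121, 6, 72963, 22),
  (88122, 4, 250148, 26),
  (88125, 4, 53642, 24),
  (88126, 3, 90302, 5),
  (88129, 6, 108750, 26),
  (88130, 6, 50449, 24),
  (88133, 7, 182386, 19),
  (88134, 5, 33044, 42),
  (88137, 5, 233633, 43),
  (88138, 5, 172372, 42),
  (88141, 6, 213294, 22),
  (88142, 6, 80133, 21),
  (88147, 6, 216223, 20),
  (88151, 5, 115891, 37),
  (88155, 6, 190670, 26),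
  (88159, 6, 93437, 13),
  (88161, 7, 141686, 19),
  (88162, 6, 50449, 19),
  (88165, 4, 153738, 22),
  (88166, 6, 120842, 1),
  (88169, 4, 158038, 19),
  (88170, 6, 35050, 6),
  (88173, 5, 120841, 15),
  (88174, 7, 181361, 24),
  (88179, 6, 223438, 26),
  (88183, 6, 227526, 26),
  (88187, 5, 144771, 39),
  (88191, 6, 161990, 26),
  (88195, 6, 7343, 7),
  (88199, 5, 127172, 26),
  (88203, 4, 159842, 24),
  (88207, 6, 138265, 20),
  (88209, 6, 80045, 14),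
  (88210, 4, 190, 16),
  (88213, 6, 22642, 19),
  (88214, 5, 92334, 12),
  (88217, 4, 172236, 26),
  (88218, 6, 4278, 16),
  (88221, 5, 144539, 39),
  (88222, 6, 137273, 20),
  (88227, 6, 90316, 26),
  (88231, 6, 142361, 20),
  (88235, 5, 88293, 38),
  (88239, 6, 166094, 22),
  (88241, 6, 36179, 21),
  (88242, 6, 213196, 26),
  (88245, 6, 71055, 22),
  (88246, 6, 4278, 17),
  (88249, 6, 139468, 26),
  (88250, 6, 73790, 10),
  (88253, 6, 14434, 19),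
  (88254, 6, 94222, 8),
  (88257, 4, 154022, 22),
  (88258, 7, 199069, 20),
  (88261, 6, 50475, 24),
  (88262, 6, 34990, 3),
  (88265, 5, 120841, 16),
  (88266, 6, 121062, 2),
  (88269, 6, 84373, 25),
  (88270, 6, 50547, 24),
  (88275, 6, 58717, 19),
  (88279, 6, 116027, 24),
  (88283, 5, 129111, 11),
  (88287, 6, 116091, 24),
  (88289, 6, 174390, 19),
  (88290, 6, 181267, 24),
  (88293, 4, 157794, 19),
  (88294, 5, 65686, 40),
  (88297, 6, 8398, 26),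
  (88298, 5, 8342, 40),
  (88301, 6, 45333, 21),
  (88302, 6, 50547, 19),
  (88307, 6, 39095, 17),
  (88311, 6, 89211, 12),
  (88315, 6, 128159, 15),
  (88319, 6, 37055, 17),
  (88321, 6, 137582, 24),
  (88322, 6, 5523, 25),
  (88325, 6, 100377, 26),
  (88326, 4, 158038, 24),
  (88329, 6, 139678, 22),
  (88330, 5, 174450, 42),
  (88333, 6, 38169, 20),
  (88334, 6, 73822, 22),
  (88339, 7, 124061, 19),
  (88343, 6, 24991, 11),
  (88347, 6, 204081, 10),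
  (88351, 6, 194974, 24),
  (88353, 5, 76867, 40),
  (88354, 6, 217382, 13),
  (88357, 6, 22862, 24),
  (88358, 5, 88458, 44),
  (88361, 5, 211086, 22),
  (88362, 6, 213262, 1),
  (88365, 6, 34073, 20),
  (88366, 3, 213422, 5),
  (88371, 5, 174413, 42),
  (88375, 5, 88169, 38),
  (88379, 5, 88165, 38),
  (88383, 6, 63902, 24),
  (88387, 6, 252327, 17),
  (88391, 6, 101435, 26),
  (88395, 6, 55751, 11),
  (88399, 6, 250287, 17),
  (88401, 6, 211310, 19),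
  (88402, 6, 192702, 10),
  (88405, 6, 195053, 6),
  (88406, 5, 45262, 40),
  (88409, 6, 227662, 19),
  (88410, 5, 252350, 17),
  (88413, 6, 190957, 6),
  (88414, 6, 249974, 2),
  (88419, 6, 258083, 23),
  (88423, 6, 116119, 19),
  (88427, 6, 218167, 25),
  (88431, 6, 181373, 24),
  (88433, 6, 121309, 7),
  (88434, 5, 252117, 20),
  (88437, 6, 178669, 6),
  (88438, 5, 163860, 42),
  (88441, 6, 174569, 6),
  (88442, 5, 67602, 40),
  (88445, 6, 178402, 19),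
  (88446, 6, 242759, 25),
  (88449, 5, 108582, 19),
  (88450, 4, 213006, 7),
  (88453, 6, 87241, 23),
  (88454, 6, 215050, 7),
  (88457, 6, 104605, 26),
  (88458, 4, 157794, 24),
  (88461, 6, 196781, 14),
  (88462, 6, 170009, 20),
  (88467, 6, 260322, 24),
  (88471, 6, 90399, 11),
  (88475, 6, 145587, 3),
  (88479, 6, 89393, 5),
  (88481, 6, 6569, 13),
  (88482, 4, 190818, 24),
  (88485, 4, 26850, 19),
  (88486, 6, 219530, 1),
  (88489, 6, 153954, 24),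
  (88490, 6, 108750, 22),
  (88493, 6, 100573, 26),
  (88494, 6, 169057, 23),
  (88499, 6, 211243, 6),
  (88503, 6, 163201, 2),
  (88507, 6, 227810, 24),
  (88511, 6, 236641, 23),
  (88515, 6, 162294, 22),
  (88519, 6, 233725, 21),
  (88523, 5, 76997, 40),
  (88527, 7, 124407, 19),
  (88529, 6, 244014, 19),
  (88530, 6, 241053, 25),
  (88533, 5, 174109, 42),
  (88534, 5, 67734, 40),
  (88537, 5, 233697, 43),
  (88538, 5, 10390, 40),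
  (88541, 5, 88257, 38),
  (88542, 5, 97589, 21),
  (88547, 6, 7657, 13),
  (88551, 5, 144521, 39),
  (88555, 6, 256206, 22),
  (88559, 6, 127285, 21),
  (88561, 6, 244030, 19),
  (88562, 6, 244074, 6),
  (88565, 6, 129425, 15),
  (88566, 5, 254116, 42),
  (88569, 6, 194705, 3),
  (88570, 6, 239978, 6),
  (88573, 7, 73147, 22),
  (88574, 6, 113062, 12),
  (89089, 5, 102401, 41),
  (89091, 5, 53665, 43),
  (89093, 4, 12540, 26),
  (89095, 6, 231758, 22),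
  (89097, 4, 140303, 20),
  (89099, 4, 94292, 26),
  (89101, 6, 7453, 20),
  (89103, 5, 102529, 41),
  (89121, 6, 4474, 24),
  (89123, 5, 175, 5),
  (89125, 6, 11549, 20),
  (89127, 6, 7343, 6),
  (89129, 6, 26711, 19),
  (89131, 5, 146435, 20),
  (89133, 6, 137422, 22),
  (89135, 4, 61706, 24),
  (89169, 6, 97531, 13),
  (89171, 6, 21725, 12),
  (89173, 6, 22747, 12),
  (89175, 5, 102507, 41),
  (89177, 6, 93435, 13),
  (89179, 7, 171123, 19),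
  (89181, 5, 143763, 42),
  (89183, 6, 178406, 26),
  (89201, 6, 223470, 26),
  (89203, 6, 97359, 14),
  (89205, 6, 95309, 14),
  (89207, 6, 211174, 26),
  (89209, 6, 243077, 21),
  (89211, 5, 53571, 43),
  (89213, 6, 162022, 26),
  (89215, 6, 39091, 5),
  (89217, 6, 43047, 19),
  (89219, 6, 134427, 20),
  (89221, 6, 235782, 22),
  (89223, 4, 168050, 24),
  (89225, 5, 57580, 26),
  (89227, 6, 168390, 22),
  (89229, 5, 175, 7),
  (89231, 6, 45284, 26),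
  (89249, 5, 175, 9),
  (89251, 6, 160153, 25),
  (89253, 5, 89259, 8),
  (89255, 6, 26723, 19),
  (89257, 6, 160114, 24),
  (89259, 4, 172317, 39),
  (89261, 4, 143730, 24),
  (89263, 4, 12516, 26),
  (89297, 6, 178479, 19),
  (89299, 5, 11475, 44),
  (89301, 6, 212029, 20),
  (89303, 5, 102501, 41),
  (89305, 5, 84359, 37),
  (89307, 6, 129035, 16),
  (89309, 6, 124267, 24),
  (89311, 6, 128087, 11),
  (89329, 6, 218519, 20),
  (89331, 6, 220563, 20),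
  (89333, 6, 95437, 14),
  (89335, 6, 236635, 21),
  (89337, 6, 93389, 14),
  (89339, 6, 63901, 25),
  (89341, 6, 31947, 2),
  (89343, 6, 125179, 8),
  (89361, 6, 208057, 3),
  (89363, 6, 121145, 26),
  (89365, 7, 117017, 26),
  (89367, 6, 117049, 26),
  (89369, 6, 185595, 25),
  (89371, 6, 191563, 20),
  (89373, 6, 193771, 25),
  (89375, 5, 134473, 40),
  (89393, 5, 102465, 41),
  (89395, 6, 109939, 21),
  (89397, 6, 216351, 10),
  (89399, 5, 240755, 21),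
  (89401, 6, 193607, 20),
  (89403, 6, 47534, 24),
  (89405, 6, 82335, 7),
  (89407, 5, 102593, 41),
  (89409, 6, 190910, 22),
  (89411, 6, 190974, 22),
  (89413, 5, 251301, 17),
  (89415, 6, 241789, 21),
  (89417, 6, 188862, 22),
  (89419, 5, 194981, 21),
  (89421, 6, 79355, 23),
  (89423, 6, 251311, 17),
  (89441, 6, 73195, 13),
  (89443, 5, 220239, 14),
  (89445, 6, 36267, 5),
  (89447, 5, 194698, 22),
  (89449, 6, 38311, 5),
  (89451, 6, 128289, 23),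
  (89453, 6, 127397, 21),
  (89455, 6, 234927, 17),
  (89489, 5, 102409, 41),
  (89491, 5, 252146, 24),
  (89493, 6, 243954, 24),
  (89495, 6, 235762, 24),
  (89497, 6, 128401, 25),
  (89499, 5, 191819, 20),
  (89501, 5, 143445, 42)]

theorem chk_rows2_9 : rows2_9.all (rowBP tr2 gensLitP 72) = true := by decide +kernel

/-- Rows 15000 to 16499. -/
def rows2_10 : List (ℕ × ℕ × ℕ × ℕ) := [(89503, 5, 102537, 41),
  (89521, 6, 260594, 24),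
  (89523, 6, 121213, 26),
  (89525, 6, 185745, 25),
  (89527, 6, 220473, 12),
  (89529, 5, 97589, 11),
  (89531, 6, 219634, 24),
  (89533, 6, 228399, 16),
  (89535, 6, 73179, 22),
  (89537, 6, 58639, 24),
  (89539, 6, 249229, 4),
  (89541, 6, 260406, 22),
  (89543, 5, 83237, 38),
  (89545, 6, 128475, 23),
  (89547, 6, 251915, 16),
  (89549, 6, 258358, 22),
  (89551, 6, 137707, 2),
  (89569, 6, 248239, 4),
  (89571, 5, 83027, 38),
  (89573, 5, 53539, 43),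
  (89575, 6, 155037, 25),
  (89577, 5, 102565, 41),
  (89579, 6, 256142, 22),
  (89581, 6, 121227, 15),
  (89583, 5, 251301, 4),
  (90113, 3, 4097, 44),
  (90114, 3, 75, 22),
  (90116, 6, 82100, 13),
  (90119, 5, 8265, 37),
  (90120, 4, 205202, 41),
  (90123, 6, 131141, 38),
  (90125, 4, 250218, 24),
  (90126, 3, 16420, 43),
  (90129, 4, 90289, 17),
  (90130, 4, 37963, 22),
  (90132, 5, 33142, 40),
  (90135, 7, 225722, 24),
  (90136, 4, 5135, 22),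
  (90139, 6, 242138, 24),
  (90141, 6, 45118, 19),
  (90142, 5, 92334, 4),
  (90145, 3, 177, 1),
  (90146, 4, 1097, 22),
  (90148, 5, 8606, 37),
  (90151, 6, 94321, 25),
  (90152, 4, 3081, 22),
  (90155, 4, 135486, 20),
  (90157, 6, 106908, 26),
  (90158, 6, 67774, 4),
  (90161, 3, 177, 6),
  (90162, 5, 36939, 22),
  (90164, 6, 82100, 1),
  (90167, 5, 32939, 40),
  (90168, 4, 4111, 22),
  (90171, 4, 111066, 24),
  (90173, 6, 200719, 22),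
  (90174, 5, 131218, 38),
  (90179, 6, 45333, 19),
  (90181, 5, 2337, 43),
  (90182, 3, 131076, 38),
  (90185, 4, 45364, 19),
  (90186, 2, 131332, 43),
  (90188, 2, 65538, 42),
  (90191, 6, 8271, 37),
  (90195, 5, 185419, 22),
  (90197, 6, 218123, 22),
  (90198, 5, 8370, 37),
  (90201, 7, 108870, 26),
  (90202, 4, 117062, 26),
  (90204, 5, 45060, 43),
  (90207, 6, 3547, 21),
  (90211, 6, 148841, 22),
  (90213, 6, 92261, 23),
  (90214, 5, 8594, 37),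
  (90217, 5, 33117, 40),
  (90218, 5, 16562, 39),
  (90220, 5, 127124, 11),
  (90223, 6, 227662, 26),
  (90227, 6, 26950, 26),
  (90229, 6, 151947, 20),
  (90230, 6, 110613, 25),
  (90233, 6, 91175, 23),
  (90234, 6, 114810, 13),
  (90236, 5, 65586, 42),
  (90239, 6, 96590, 26),
  (90241, 3, 177, 3),
  (90242, 5, 4163, 22),
  (90244, 6, 82100, 7),
  (90247, 5, 183, 3),
  (90248, 5, 6147, 22),
  (90251, 6, 213383, 23),
  (90253, 5, 241996, 26),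
  (90254, 5, 131474, 38),
  (90257, 3, 177, 2),
  (90258, 4, 33867, 22),
  (90260, 6, 82100, 12),
  (90263, 6, 225282, 24),
  (90264, 4, 1039, 22),
  (90267, 6, 213193, 25),
  (90269, 4, 110924, 26),
  (90270, 6, 88094, 7),
  (90273, 3, 177, 13),
  (90274, 5, 5185, 22),
  (90276, 6, 82100, 17),
  (90279, 6, 57545, 25),
  (90280, 4, 7169, 22),
  (90283, 6, 4414, 20),
  (90285, 5, 204161, 22),
  (90286, 5, 217420, 26),
  (90289, 3, 32833, 40),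
  (90290, 4, 32843, 22),
  (90292, 6, 90148, 2),
  (90295, 5, 237590, 21),
  (90296, 3, 15, 22),
  (90299, 6, 16429, 39),
  (90301, 6, 81981, 16),
  (90302, 2, 65538, 41),
  (90307, 5, 188742, 26),
  (90309, 6, 4515, 20),
  (90310, 4, 201118, 21),
  (90313, 6, 153891, 22),
  (90314, 6, 94298, 7),
  (90316, 5, 65714, 42),
  (90319, 6, 37055, 3),
  (90323, 5, 57670, 26),
  (90325, 6, 24805, 13),
  (90326, 5, 8578, 37),
  (90329, 5, 249, 2),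
  (90330, 5, 43094, 41),
  (90332, 4, 45434, 19),
  (90335, 6, 3325, 2),
  (90339, 6, 104666, 21),
  (90341, 5, 245, 13),
  (90342, 5, 8354, 37),
  (90345, 7, 4538, 20),
  (90346, 5, 122906, 8),
  (90348, 5, 65810, 42),
  (90351, 6, 37239, 19),
  (90355, 4, 20878, 20),
  (90357, 5, 1171, 41),
  (90358, 2, 131332, 38),
  (90361, 5, 65737, 42),
  (90362, 3, 131076, 43),
  (90364, 3, 16420, 39),
  (90367, 6, 16495, 39),
  (90371, 6, 139611, 22),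
  (90373, 6, 102573, 23),
  (90374, 6, 196790, 3),
  (90377, 4, 235854, 24),
  (90378, 7, 135540, 20),
  (90380, 5, 32926, 40),
  (90383, 5, 8613, 37),
  (90387, 6, 211358, 24),
  (90389, 5, 16621, 39),
  (90390, 6, 170281, 23),
  (90393, 6, 4345, 44),
  (90394, 5, 2198, 43),
  (90396, 4, 131356, 38),
  (90399, 5, 33097, 40),
  (90403, 4, 108786, 21),
  (90405, 4, 88366, 24),
  (90406, 5, 65686, 42),
  (90409, 7, 102580, 19),
  (90410, 5, 108886, 24),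
  (90412, 5, 4396, 44),
  (90415, 6, 217247, 3),
  (90419, 6, 119843, 25),
  (90421, 6, 151883, 20),
  (90422, 6, 131176, 38),
  (90425, 4, 102588, 19),
  (90426, 4, 151900, 20),
  (90428, 4, 102586, 19),
  (90431, 6, 2089, 43),
  (90433, 4, 110996, 19),
  (90434, 4, 135652, 20),
  (90436, 6, 135649, 20),
  (90439, 6, 60837, 5),
  (90440, 6, 147704, 1),
  (90443, 6, 158075, 22),
  (90445, 6, 110783, 23),
  (90446, 6, 186550, 10),
  (90449, 6, 155873, 1),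
  (90450, 5, 106504, 44),
  (90452, 5, 2342, 43),
  (90455, 5, 32857, 40),
  (90456, 6, 167299, 26),
  (90459, 5, 4201, 44),
  (90461, 5, 4297, 44),
  (90462, 6, 253960, 44),
  (90465, 6, 197773, 24),
  (90466, 4, 80058, 21),
  (90468, 5, 180228, 43),
  (90471, 6, 189621, 16),
  (90472, 6, 16744, 39),
  (90475, 6, 2373, 43),
  (90477, 5, 16677, 39),
  (90478, 5, 250014, 3),
  (90481, 4, 152010, 20),
  (90482, 5, 65802, 42),
  (90484, 5, 151852, 43),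
  (90487, 5, 4355, 44),
  (90488, 5, 33044, 40),
  (90491, 6, 61931, 11),
  (90493, 6, 129489, 7),
  (90494, 5, 63978, 11),
  (90499, 4, 145538, 24),
  (90501, 5, 33141, 40),
  (90502, 5, 143364, 43),
  (90505, 6, 4466, 20),
  (90506, 5, 131428, 38),
  (90508, 5, 131372, 38),
  (90511, 6, 4123, 44),
  (90515, 6, 33171, 40),
  (90517, 6, 8239, 37),
  (90518, 5, 172372, 43),
  (90521, 4, 140303, 22),
  (90522, 5, 16652, 39),
  (90524, 4, 110842, 19),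
  (90527, 6, 252299, 23),
  (90531, 6, 50377, 25),
  (90533, 6, 205109, 6),
  (90534, 6, 170085, 26),
  (90537, 6, 4474, 20),
  (90538, 5, 2194, 43),
  (90540, 5, 180584, 44),
  (90543, 5, 4177, 44),
  (90547, 4, 122934, 21),
  (90549, 5, 188470, 21),
  (90550, 6, 196918, 6),
  (90553, 6, 139279, 22),
  (90554, 6, 27783, 21),
  (90556, 4, 248066, 24),
  (90559, 6, 237647, 22),
  (90561, 6, 16447, 39),
  (90562, 5, 69822, 21),
  (90564, 4, 135486, 21),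
  (90567, 5, 131365, 38),
  (90568, 5, 8342, 37),
  (90571, 6, 251089, 8),
  (90573, 5, 252117, 8),
  (90574, 6, 251958, 10),
  (90577, 5, 32947, 40),
  (90578, 5, 16708, 39),
  (90580, 4, 111066, 19),
  (90583, 5, 249235, 4),
  (90584, 5, 33042, 40),
  (90587, 6, 32899, 40),
  (90589, 5, 16645, 39),
  (90590, 6, 194843, 23),
  (90593, 5, 8523, 37),
  (90594, 4, 65578, 42),
  (90596, 5, 75926, 41),
  (90599, 5, 65633, 42),
  (90600, 6, 31793, 22),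
  (90603, 5, 32905, 40),
  (90605, 5, 4289, 44),
  (90606, 6, 254456, 44),
  (90609, 6, 19653, 25),
  (90610, 5, 4318, 44),
  (90612, 6, 132263, 24),
  (90615, 6, 27853, 25),
  (90616, 6, 147928, 2),
  (90619, 5, 2383, 43),
  (90621, 6, 125325, 15),
  (90622, 6, 192758, 15),
  (91141, 6, 8572, 26),
  (91143, 6, 229541, 23),
  (91145, 6, 233818, 24),
  (91147, 5, 241994, 24),
  (91157, 6, 139388, 26),
  (91159, 6, 155740, 26),
  (91161, 6, 205044, 26),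
  (91163, 6, 221396, 26),
  (91173, 6, 215397, 23),
  (91175, 5, 93313, 7),
  (91177, 5, 95243, 10),
  (91179, 6, 213353, 25),
  (91189, 6, 44335, 37),
  (91191, 7, 94634, 24),
  (91193, 6, 214311, 23),
  (91195, 6, 59465, 19),
  (91201, 6, 141645, 19),
  (91203, 4, 174438, 26),
  (91213, 7, 159087, 19),
  (91215, 5, 126123, 17),
  (91217, 6, 24803, 1),
  (91219, 6, 47238, 21),
  (91229, 6, 129390, 26),
  (91231, 6, 126139, 17),
  (91233, 6, 24803, 12),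
  (91235, 6, 112730, 21),
  (91245, 6, 225661, 25),
  (91247, 6, 93543, 23),
  (91249, 6, 34033, 6),
  (91251, 5, 153998, 20),
  (91261, 6, 38133, 6),
  (91263, 5, 129127, 8),
  (91269, 6, 127169, 25),
  (91271, 6, 7257, 19),
  (91273, 6, 254308, 26),
  (91275, 6, 250057, 25),
  (91285, 4, 239766, 21),
  (91287, 4, 45420, 26),
  (91289, 4, 22802, 20),
  (91291, 5, 95243, 11),
  (91301, 6, 44063, 19),
  (91303, 5, 183, 13),
  (91305, 6, 76869, 21),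
  (91307, 4, 168338, 24),
  (91317, 5, 29036, 26),
  (91319, 6, 217362, 24),
  (91321, 6, 90468, 26),
  (91323, 5, 22814, 20),
  (91329, 6, 107747, 10),
  (91331, 6, 138707, 38),
  (91341, 6, 252323, 22),
  (91343, 6, 97349, 12),
  (91345, 6, 112790, 21),
  (91347, 6, 24803, 13),
  (91357, 6, 127342, 26),
  (91359, 6, 130123, 11),
  (91361, 5, 185633, 22),
  (91363, 6, 107635, 6),
  (91373, 5, 5367, 13),
  (91375, 5, 194765, 25),
  (91377, 6, 140427, 24),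
  (91379, 5, 215093, 43),
  (91389, 6, 22939, 20),
  (91391, 6, 78190, 26),
  (91393, 6, 203038, 24),
  (91395, 6, 182321, 26),
  (91405, 6, 212017, 14),
  (91407, 6, 186545, 26),
  (91409, 6, 213267, 4),
  (91411, 7, 59558, 21),
  (91421, 6, 186769, 26),
  (91423, 6, 260590, 24),
  (91425, 4, 71966, 24),
  (91427, 6, 155827, 16),
  (91437, 6, 241049, 22),
  (91439, 6, 97665, 7),
  (91441, 6, 143435, 22),
  (91443, 6, 43209, 19),
  (91453, 6, 220177, 14),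
  (91455, 6, 220473, 4),
  (91461, 5, 248919, 8),
  (91463, 6, 242046, 21),
  (91465, 5, 147707, 1),
  (91467, 6, 148975, 25),
  (91477, 5, 215335, 43),
  (91479, 6, 249105, 4),
  (91481, 6, 183699, 26),
  (91483, 6, 154070, 20),
  (91493, 6, 241057, 17),
  (91495, 6, 91263, 25),
  (91497, 5, 91307, 41),
  (91499, 6, 137726, 20),
  (91509, 5, 241073, 17),
  (91511, 6, 126417, 7),
  (91513, 6, 160019, 44),
  (91515, 6, 192527, 22),
  (91521, 5, 91203, 41),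
  (91523, 4, 98422, 21),
  (91533, 5, 44243, 37),
  (91535, 5, 6519, 20),
  (91537, 6, 112645, 19),
  (91539, 6, 202770, 24),
  (91549, 6, 97599, 5),
  (91551, 6, 238607, 22),
  (91553, 6, 6506, 20),
  (91555, 5, 104557, 42),
  (91565, 5, 6523, 20),
  (91567, 6, 186770, 24),
  (91569, 5, 211218, 24),
  (91571, 5, 57526, 21),
  (91581, 6, 150943, 2),
  (91583, 6, 213055, 16),
  (91589, 6, 130245, 25),
  (91591, 6, 233854, 21),
  (91593, 5, 128299, 5),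
  (91595, 6, 6646, 20),
  (91605, 5, 54595, 39),
  (91607, 5, 25063, 13),
  (91609, 6, 93259, 21),
  (91611, 6, 189455, 22),
  (91621, 5, 215331, 43),
  (91623, 6, 206015, 24),
  (91625, 6, 212263, 23),
  (91627, 6, 120187, 11),
  (91637, 6, 125319, 15),
  (91639, 6, 192694, 21),
  (91641, 5, 128361, 11),
  (91643, 5, 147931, 2),
  (92163, 6, 209210, 24),
  (92167, 6, 196939, 22),
  (92169, 6, 134225, 21),
  (92170, 5, 92334, 17),
  (92173, 5, 92545, 43),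
  (92174, 4, 86508, 26),
  (92179, 6, 53425, 25),
  (92183, 4, 108806, 21),
  (92185, 6, 94213, 8),
  (92186, 4, 168337, 25),
  (92189, 6, 80045, 3),
  (92190, 3, 90302, 17),
  (92195, 4, 109010, 21),
  (92199, 7, 94490, 24),
  (92201, 4, 110996, 26),
  (92202, 6, 4278, 10),
  (92205, 6, 63562, 19),
  (92206, 6, 26889, 20),
  (92211, 6, 245797, 23),
  (92215, 4, 192572, 26),
  (92217, 4, 102890, 24),
  (92218, 6, 145461, 20),
  (92221, 6, 59466, 19),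
  (92222, 5, 71982, 41),
  (92225, 7, 16629, 25),
  (92226, 6, 78238, 21),
  (92229, 5, 92449, 43),
  (92230, 6, 46355, 19),
  (92235, 6, 238071, 23),
  (92239, 6, 63735, 6),
  (92241, 6, 17801, 24),
  (92242, 6, 37013, 25),
  (92245, 6, 24805, 1),
  (92246, 4, 80134, 21),
  (92251, 6, 128069, 8),
  (92255, 6, 31955, 12),
  (92257, 6, 24805, 12),
  (92258, 4, 80282, 21),
  (92261, 5, 245, 1),
  (92262, 6, 82166, 5),
  (92267, 6, 119925, 8),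
  (92271, 6, 38199, 19),
  (92273, 6, 125141, 7),
  (92274, 6, 38169, 19),
  (92277, 6, 124929, 15),
  (92278, 6, 35062, 6),
  (92283, 6, 88151, 14),
  (92287, 6, 125963, 15),
  (92291, 6, 246213, 23),
  (92295, 4, 192836, 26),
  (92297, 6, 6329, 3),
  (92298, 6, 88094, 11),
  (92301, 6, 80045, 10),
  (92302, 6, 73790, 8),
  (92307, 6, 90329, 25),
  (92311, 5, 93313, 8),
  (92313, 6, 30881, 13),
  (92314, 6, 205017, 25),
  (92317, 6, 110916, 26),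
  (92318, 6, 94398, 2),
  (92323, 5, 93313, 10),
  (92327, 6, 37975, 19),
  (92329, 5, 184738, 24),
  (92330, 3, 90302, 13),
  (92333, 6, 30794, 19),
  (92334, 4, 188678, 40),
  (92339, 6, 37981, 19),
  (92343, 6, 16601, 25),
  (92345, 5, 63542, 19),
  (92346, 6, 254242, 24),
  (92349, 5, 92549, 43),
  (92350, 4, 86340, 26),
  (92353, 6, 90181, 12),
  (92354, 6, 90198, 7),
  (92357, 6, 116949, 25),
  (92358, 6, 100573, 25),
  (92363, 6, 95303, 12),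
  (92367, 6, 128159, 4),
  (92369, 5, 245, 2),
  (92370, 6, 8438, 16),
  (92373, 6, 92369, 23),
  (92374, 5, 57526, 17),
  (92379, 6, 123214, 26),
  (92383, 6, 127302, 26),
  (92385, 6, 174366, 19),
  (92386, 6, 147790, 26),
  (92389, 6, 145482, 19),
  (92390, 6, 90326, 14),
  (92395, 6, 142541, 21),
  (92399, 6, 128191, 4),
  (92401, 6, 26837, 25),
  (92402, 6, 123030, 1),
  (92405, 6, 125141, 10),
  (92406, 6, 38235, 19),
  (92411, 6, 38269, 19),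
  (92415, 5, 92597, 43),
  (92417, 6, 170009, 26),
  (92418, 6, 74150, 16),
  (92421, 6, 205083, 22),
  (92422, 6, 204982, 21),
  (92427, 6, 244094, 24),
  (92431, 6, 212269, 10),
  (92433, 6, 79942, 19),
  (92434, 6, 170281, 26),
  (92437, 6, 35034, 19),
  (92438, 6, 46283, 22),
  (92443, 6, 220447, 4),
  (92447, 6, 111807, 19),
  (92449, 4, 43378, 21),
  (92450, 6, 90502, 16),
  (92453, 6, 205221, 17),
  (92454, 6, 24982, 8),
  (92459, 6, 113022, 24),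
  (92463, 6, 220209, 8),
  (92465, 6, 118821, 23),
  (92466, 6, 74150, 4),
  (92469, 6, 103755, 42),
  (92470, 6, 24998, 11),
  (92475, 6, 214429, 2),
  (92479, 5, 208915, 44),
  (92483, 6, 231603, 3),
  (92487, 6, 60833, 5),
  (92489, 7, 148983, 25),
  (92490, 5, 78318, 16),
  (92493, 6, 147709, 1),
  (92494, 6, 162010, 7),
  (92499, 5, 214407, 41),
  (92503, 5, 214055, 41),
  (92505, 6, 17869, 24),
  (92506, 6, 243882, 3),
  (92509, 5, 55461, 39),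
  (92510, 6, 121150, 12),
  (92515, 6, 191665, 16),
  (92519, 6, 243962, 21),
  (92521, 6, 129477, 7),
  (92522, 5, 254132, 43),
  (92525, 6, 167131, 26),
  (92526, 5, 10442, 42),
  (92531, 5, 209043, 44),
  (92535, 6, 213079, 14),
  (92537, 5, 55385, 39),
  (92538, 6, 171499, 26),
  (92541, 6, 128103, 23),
  (92542, 6, 260342, 15),
  (92545, 4, 153762, 24),
  (92546, 6, 213046, 10),
  (92549, 4, 163958, 21),
  (92550, 6, 196790, 21),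
  (92555, 6, 111861, 19),
  (92559, 6, 97577, 5),
  (92561, 6, 165227, 20),
  (92562, 6, 24998, 4),
  (92565, 6, 59702, 21),
  (92566, 6, 196790, 14),
  (92571, 6, 220575, 4),
  (92575, 5, 97593, 5),
  (92577, 6, 35186, 21),
  (92578, 6, 170093, 26),
  (92581, 6, 165981, 26),
  (92582, 6, 170085, 23),
  (92587, 6, 195959, 20),
  (92591, 5, 214149, 41),
  (92593, 6, 90501, 15),
  (92594, 6, 24982, 16),
  (92597, 4, 203042, 24),
  (92598, 6, 213142, 14),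
  (92603, 6, 179575, 20),
  (92607, 6, 216125, 16),
  (92611, 6, 249327, 20),
  (92615, 6, 249041, 8),
  (92617, 6, 256302, 19),
  (92618, 5, 106702, 37),
  (92621, 6, 129321, 5),
  (92622, 6, 167087, 26),
  (92627, 6, 93405, 25),
  (92631, 5, 129334, 21),
  (92633, 6, 158795, 21),
  (92634, 5, 100670, 8),
  (92637, 6, 96475, 23),
  (92638, 5, 14842, 16),
  (92643, 6, 116119, 15),
  (92647, 6, 235770, 21),
  (92649, 5, 163249, 22),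
  (92650, 6, 125214, 8),
  (92653, 7, 167135, 26),
  (92654, 5, 194790, 15),
  (92659, 6, 60887, 7),
  (92663, 6, 127286, 21),
  (92665, 6, 260406, 19),
  (92666, 5, 194698, 3),
  (92669, 6, 112953, 5),
  (92670, 6, 43498, 4),
  (93185, 4, 41430, 21),
  (93187, 4, 29012, 26),
  (93189, 6, 172246, 21),
  (93191, 5, 45129, 37),
  (93201, 6, 100833, 23),
  (93203, 6, 90119, 8),
  (93205, 4, 143484, 26),
  (93207, 6, 225674, 24),
  (93217, 4, 45364, 26),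
  (93219, 6, 78122, 24),
  (93221, 5, 183, 1),
  (93223, 6, 90217, 25),
  (93233, 5, 93313, 3),
  (93235, 6, 114745, 25),
  (93237, 6, 86426, 24),
  (93239, 4, 41350, 21),
  (93257, 6, 222399, 20),
  (93259, 5, 45121, 37),
  (93261, 5, 45065, 37),
  (93263, 5, 141745, 43),
  (93273, 6, 97507, 13),
  (93275, 5, 251023, 22),
  (93277, 6, 129382, 26),
  (93279, 6, 200155, 21),
  (93289, 6, 130123, 10),
  (93291, 6, 3325, 1),
  (93293, 5, 114797, 40),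
  (93295, 6, 211302, 26),
  (93305, 6, 162167, 19),
  (93307, 6, 89175, 14),
  (93309, 6, 96614, 26),
  (93311, 7, 200159, 21),
  (93313, 4, 86093, 44),
  (93315, 5, 127193, 25),
  (93317, 6, 143538, 24),
  (93319, 4, 229462, 21),
  (93329, 6, 47111, 19),
  (93331, 5, 183, 2),
  (93333, 6, 86225, 25),
  (93335, 5, 114861, 40),
  (93345, 6, 156012, 26),
  (93347, 6, 100690, 21),
  (93349, 5, 166098, 21),
  (93351, 4, 53465, 25),
  (93361, 5, 45073, 37),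
  (93363, 6, 8556, 26),
  (93365, 6, 229733, 23),
  (93367, 5, 114913, 40),
  (93385, 6, 254318, 26),
  (93387, 6, 237934, 26),
  (93389, 5, 86221, 44),
  (93391, 6, 252125, 25),
  (93401, 6, 207947, 21),
  (93403, 6, 246927, 22),
  (93405, 5, 127334, 26),
  (93407, 6, 219357, 25),
  (93417, 5, 126011, 16),
  (93419, 6, 194781, 25),
  (93421, 6, 191805, 19),
  (93423, 6, 161867, 19),
  (93433, 6, 90478, 26),
  (93435, 5, 45137, 37),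
  (93437, 5, 45081, 37),
  (93439, 6, 119997, 4),
  (93449, 5, 163249, 6),
  (93451, 6, 211243, 10),
  (93453, 6, 93293, 19),
  (93455, 6, 163201, 12),
  (93465, 6, 96359, 19),
  (93467, 5, 244206, 24),
  (93469, 5, 168221, 38),
  (93471, 6, 177295, 22),
  (93481, 6, 208301, 17),
  (93483, 6, 175577, 22),
  (93485, 6, 60685, 20),
  (93487, 6, 95621, 7),
  (93497, 5, 168043, 38),
  (93499, 6, 32175, 11),
  (93501, 6, 121310, 24),
  (93503, 5, 167971, 38),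
  (93505, 6, 156103, 12),
  (93507, 6, 110974, 21),
  (93509, 6, 191639, 16),
  (93511, 6, 148725, 1),
  (93521, 6, 226507, 22),
  (93523, 6, 194982, 21),
  (93525, 5, 45397, 37),
  (93527, 5, 168213, 38),
  (93537, 6, 125383, 7),
  (93539, 6, 113018, 21),
  (93541, 6, 183387, 26),
  (93543, 5, 86285, 44),
  (93553, 6, 248119, 4),
  (93555, 6, 60903, 11),
  (93557, 6, 127398, 21),
  (93559, 6, 183675, 26),
  (93577, 6, 194738, 24),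
  (93579, 6, 191867, 20),
  (93581, 6, 212399, 10),
  (93583, 5, 244051, 22),
  (93593, 5, 45165, 37),
  (93595, 5, 97551, 11),
  (93597, 6, 220469, 6),
  (93599, 6, 235570, 24),
  (93609, 5, 45389, 37),
  (93611, 6, 156063, 2),
  (93613, 6, 191501, 20),
  (93615, 6, 170418, 24),
  (93625, 6, 204081, 6),
  (93627, 6, 252210, 24),
  (93629, 6, 182749, 26),
  (93631, 6, 182781, 26),
  (93633, 6, 239887, 19),
  (93635, 5, 168291, 38),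
  (93637, 6, 241127, 10),
  (93639, 7, 122077, 25),
  (93649, 6, 97493, 25),
  (93651, 6, 126279, 11),
  (93653, 5, 140441, 41),
  (93655, 6, 183615, 26),
  (93665, 6, 175525, 17),
  (93667, 6, 194033, 22),
  (93669, 5, 45381, 37),
  (93671, 6, 118161, 15),
  (93681, 6, 31957, 25),
  (93683, 6, 247859, 16),
  (93685, 6, 242021, 23),
  (93687, 6, 126337, 15),
  (94211, 5, 209242, 24),
  (94213, 5, 157873, 43),
  (94214, 5, 139394, 41),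
  (94219, 6, 90484, 26),
  (94221, 6, 99495, 23),
  (94222, 5, 65810, 41),
  (94227, 5, 160006, 20),
  (94229, 6, 73789, 10),
  (94230, 6, 160005, 20),
  (94235, 6, 61501, 19),
  (94237, 5, 203791, 22),
  (94238, 6, 88094, 13),
  (94243, 6, 134477, 22),
  (94245, 4, 86378, 24),
  (94246, 6, 73790, 12),
  (94251, 6, 217185, 25),
  (94253, 6, 6329, 1),
  (94254, 4, 114988, 26),
  (94259, 6, 213031, 23),
  (94261, 6, 53278, 19),
  (94262, 6, 94398, 15),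
  (94267, 5, 95243, 15),
  (94269, 6, 30881, 11),
  (94270, 3, 90302, 15),
  (94273, 6, 143778, 20),
  (94274, 5, 196626, 41),
  (94276, 5, 12380, 37),
  (94279, 6, 260558, 26),
  (94281, 4, 174534, 26),
  (94282, 5, 8578, 41),
  (94284, 5, 131218, 41),
  (94287, 6, 244743, 21),
  (94289, 6, 127153, 17),
  (94290, 6, 73978, 16),
  (94292, 3, 90188, 17),
  (94295, 5, 241073, 23),
  (94297, 6, 47111, 21),
  (94298, 5, 174182, 39),
  (94300, 6, 34273, 24),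
  (94303, 6, 126029, 8),
  (94305, 7, 143786, 20),
  (94306, 6, 94298, 14),
  (94308, 6, 74069, 25),
  (94311, 5, 126011, 4),
  (94313, 6, 73193, 42),
  (94314, 5, 149958, 26),
  (94316, 6, 27749, 23),
  (94319, 6, 128069, 10),
  (94321, 5, 127193, 7),
  (94322, 6, 37114, 6),
  (94324, 6, 72142, 26),
  (94327, 6, 127285, 25),
  (94329, 6, 245797, 25),
  (94330, 5, 122906, 1),
  (94332, 6, 127060, 10),
  (94335, 6, 165113, 24),
  (94339, 5, 95243, 12),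
  (94341, 6, 30881, 17),
  (94342, 3, 90302, 12),
  (94347, 4, 143554, 24),
  (94349, 6, 61558, 19),
  (94350, 6, 4278, 3),
  (94355, 6, 216449, 23),
  (94357, 6, 52445, 39),
  (94358, 6, 254018, 24),
  (94363, 6, 57796, 26),
  (94365, 6, 80045, 15),
  (94366, 6, 28949, 20),
  (94371, 6, 180681, 25),
  (94373, 6, 53334, 19),
  (94374, 6, 84026, 11),
  (94379, 6, 156100, 26),
  (94381, 6, 73789, 6),
  (94382, 6, 156098, 24),
  (94387, 4, 28942, 20),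
  (94389, 5, 78284, 26),
  (94390, 5, 45060, 37),
  (94395, 6, 28958, 20),
  (94397, 6, 172055, 21),
  (94398, 5, 139666, 41),
  (94401, 5, 238022, 26),
  (94402, 4, 246214, 26),
  (94404, 6, 20732, 13),
  (94407, 6, 97359, 12),
  (94409, 5, 61812, 19),
  (94410, 6, 73978, 14),
  (94412, 5, 61810, 19),
  (94415, 6, 89211, 1),
  (94417, 6, 34187, 24),
  (94418, 6, 29060, 20),
  (94420, 6, 126988, 2),
  (94423, 6, 7413, 2),
  (94425, 6, 93331, 23),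
  (94426, 6, 158995, 23),
  (94428, 5, 157722, 43),
  (94431, 6, 248911, 22),
  (94433, 6, 75815, 23),
  (94434, 6, 213446, 26),
  (94436, 6, 8428, 8),
  (94439, 5, 5373, 13),
  (94441, 5, 249, 13),
  (94442, 6, 37114, 4),
  (94444, 3, 90188, 4),
  (94447, 6, 53623, 19),
  (94449, 6, 149957, 25),
  (94450, 5, 8594, 41),
  (94452, 5, 131474, 41),
  (94455, 5, 157829, 43),
  (94457, 6, 8646, 26),
  (94458, 5, 40972, 37),
  (94460, 5, 74130, 41),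
  (94463, 7, 27085, 25),
  (94465, 5, 127124, 19),
  (94466, 5, 143716, 20),
  (94468, 4, 127122, 19),
  (94471, 5, 196799, 3),
  (94473, 4, 143730, 20),
  (94474, 6, 213402, 5),
  (94476, 6, 127154, 19),
  (94479, 6, 234927, 23),
  (94481, 5, 245833, 40),
  (94482, 5, 204970, 3),
  (94484, 6, 205116, 10),
  (94487, 6, 204975, 3),
  (94489, 6, 146447, 22),
  (94490, 6, 205114, 1),
  (94492, 6, 90540, 13),
  (94495, 6, 193715, 25),
  (94497, 6, 43123, 21),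
  (94498, 6, 213146, 3),
  (94500, 4, 84326, 24),
  (94503, 6, 208349, 22),
  (94505, 6, 140573, 22),
  (94506, 6, 153930, 39),
  (94508, 7, 117030, 24),
  (94511, 6, 246083, 40),
  (94513, 6, 213305, 4),
  (94514, 6, 90522, 16),
  (94516, 6, 153930, 38),
  (94519, 6, 96766, 24),
  (94521, 5, 160090, 20),
  (94522, 6, 118969, 19),
  (94524, 6, 155804, 4),
  (94527, 5, 243791, 22),
  (94531, 6, 193681, 16),
  (94533, 7, 111805, 23),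
  (94534, 6, 186558, 10),
  (94539, 6, 233651, 3),
  (94541, 6, 242021, 10),
  (94542, 6, 260194, 2),
  (94547, 6, 160198, 20),
  (94549, 6, 228363, 22),
  (94550, 6, 194734, 10),
  (94555, 5, 34269, 24),
  (94557, 5, 47385, 37),
  (94558, 6, 160213, 20),
  (94563, 6, 251001, 8),
  (94565, 6, 129481, 7),
  (94566, 6, 93437, 22),
  (94571, 6, 193721, 16),
  (94573, 6, 230637, 24),
  (94574, 6, 244138, 17),
  (94579, 6, 185521, 16),
  (94581, 6, 179577, 21),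
  (94582, 5, 47234, 37),
  (94587, 6, 194639, 22),
  (94589, 5, 74221, 13),
  (94590, 5, 47310, 37),
  (94593, 6, 12642, 20),
  (94594, 6, 230857, 25),
  (94596, 4, 182466, 24),
  (94599, 6, 211415, 22),
  (94601, 6, 60471, 21),
  (94602, 4, 141506, 24),
  (94604, 5, 158775, 21),
  (94607, 6, 127223, 19),
  (94609, 4, 127196, 19),
  (94610, 5, 127193, 19),
  (94612, 6, 28993, 20),
  (94615, 6, 260162, 24),
  (94617, 5, 47213, 37),
  (94618, 4, 29012, 20),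
  (94620, 5, 43226, 42),
  (94623, 5, 97589, 5),
  (94625, 6, 71719, 23),
  (94626, 5, 204970, 2),
  (94628, 5, 213180, 17),
  (94631, 6, 195010, 24),
  (94633, 6, 213177, 8),
  (94634, 6, 205114, 6),
  (94636, 6, 205116, 6),
  (94639, 6, 235765, 26),
  (94641, 6, 69671, 23),
  (94642, 4, 239938, 24),
  (94644, 6, 134449, 21),
  (94647, 6, 232945, 21),
  (94649, 6, 57399, 21),
  (94650, 6, 90167, 21),
  (94652, 6, 155836, 15),
  (94655, 5, 196927, 6),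
  (94659, 6, 162167, 22),
  (94661, 6, 252125, 8),
  (94662, 5, 193821, 23),
  (94667, 6, 128289, 5),
  (94669, 5, 169313, 38),
  (94670, 6, 247870, 10),
  (94675, 5, 34207, 24),
  (94677, 7, 236823, 26),
  (94678, 5, 41182, 42),
  (94683, 5, 205849, 41),
  (94685, 6, 246141, 6),
  (94686, 5, 126031, 22),
  (94691, 6, 12782, 20),
  (94693, 6, 178593, 17),
  (94694, 5, 239850, 2),
  (94699, 6, 232695, 26),
  (94701, 5, 47369, 37),
  (94702, 6, 129306, 8),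
  (94707, 6, 232823, 26),
  (94709, 6, 119262, 19),
  (94710, 5, 27102, 16),
  (94715, 6, 213211, 14),
  (94717, 5, 252337, 4),
  (94718, 6, 219254, 7),
  (95233, 6, 99329, 42),
  (95235, 6, 25044, 26),
  (95241, 4, 164111, 22),
  (95243, 4, 75921, 43),
  (95249, 5, 95243, 8),
  (95251, 6, 155860, 26),
  (95257, 4, 162066, 20),
  (95259, 7, 90123, 8),
  (95265, 4, 69978, 24),
  (95267, 6, 78154, 24),
  (95273, 6, 216357, 23),
  (95275, 5, 13723, 37),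
  (95281, 5, 99377, 42),
  (95283, 6, 114985, 25),
  (95289, 6, 249897, 25),
  (95291, 4, 162078, 20),
  (95301, 6, 248239, 22),
  (95303, 5, 165893, 38),
  (95309, 5, 22533, 39),
  (95311, 6, 27853, 12),
  (95317, 6, 220235, 22),
  (95319, 7, 42425, 24),
  (95325, 5, 148811, 41),
  (95327, 6, 162199, 20),
  (95333, 6, 94589, 25),
  (95335, 6, 249325, 22),
  (95341, 6, 42237, 6),
  (95343, 6, 127047, 10),
  (95349, 6, 129031, 15),
  (95351, 6, 251915, 22),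
  (95357, 6, 128087, 10),
  (95359, 7, 14830, 26),
  (95361, 6, 250305, 25),
  (95363, 4, 14630, 20),
  (95369, 6, 143570, 24),
  (95371, 6, 99571, 42),
  (95377, 6, 165937, 38),
  (95379, 4, 233554, 24),
  (95385, 6, 86465, 25),
  (95387, 6, 216195, 23),
  (95393, 6, 184769, 25),
  (95395, 6, 205284, 26),
  (95401, 4, 14650, 20),
  (95403, 5, 95409, 4),
  (95409, 4, 148483, 41),
  (95411, 6, 74212, 26),
  (95417, 4, 209234, 24),
  (95419, 6, 13339, 37),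
  (95429, 6, 252327, 22),
  (95431, 5, 99569, 42),
  (95437, 5, 99507, 42),
  (95439, 6, 179351, 21),
  (95445, 6, 179495, 19),
  (95447, 5, 57373, 40),
  (95453, 5, 57389, 40),
  (95455, 6, 248847, 22),
  (95461, 6, 225774, 26),
  (95463, 6, 209390, 26),
  (95469, 5, 148809, 41),
  (95471, 6, 251365, 22),
  (95477, 6, 109631, 5),
  (95479, 5, 99521, 42),
  (95485, 5, 13337, 37),
  (95487, 6, 247823, 22),
  (95493, 6, 220191, 8),
  (95495, 5, 163213, 12),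
  (95501, 6, 252049, 26),
  (95503, 6, 260398, 24),
  (95509, 6, 252177, 26),
  (95511, 6, 252209, 26),
  (95517, 5, 252350, 24),
  (95519, 5, 252337, 26),
  (95525, 6, 212385, 17),
  (95527, 6, 239987, 21),
  (95533, 6, 121150, 24),
  (95535, 6, 239069, 22),
  (95541, 6, 212401, 17),
  (95543, 6, 60649, 19),
  (95549, 6, 220575, 2),
  (95551, 6, 129454, 24),
  (95553, 6, 190783, 22),
  (95555, 6, 110719, 21),
  (95561, 6, 106987, 7),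
  (95563, 6, 145910, 20),
  (95569, 5, 201193, 44),
  (95571, 6, 162246, 20),
  (95577, 5, 249235, 26),
  (95579, 6, 90603, 13),
  (95585, 6, 145898, 20),
  (95587, 6, 112763, 21),
  (95593, 6, 251025, 3),
  (95595, 6, 189821, 22),
  (95601, 6, 161867, 22),
  (95603, 6, 249203, 26),
  (95609, 6, 162266, 20),
  (95611, 6, 74219, 13),
  (95621, 5, 201115, 44),
  (95623, 6, 220209, 1),
  (95629, 6, 208057, 14),
  (95631, 5, 251023, 23),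
  (95637, 5, 163249, 17),
  (95639, 5, 57507, 40),
  (95645, 5, 57491, 40),
  (95647, 6, 219218, 24),
  (95653, 6, 146849, 17),
  (95655, 6, 186834, 24),
  (95661, 5, 165917, 38),
  (95663, 5, 22721, 39),
  (95669, 6, 218167, 16),
  (95671, 6, 69991, 23),
  (95677, 6, 218175, 16),
  (95679, 6, 11497, 19),
  (95681, 6, 14818, 20),
  (95683, 5, 22645, 39),
  (95689, 5, 200987, 44),
  (95691, 6, 192887, 22),
  (95697, 5, 220613, 25),
  (95699, 6, 251259, 6),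
  (95705, 6, 250259, 4),
  (95707, 5, 57475, 40),
  (95713, 5, 248919, 26),
  (95715, 6, 248951, 26),
  (95721, 5, 14842, 20),
  (95723, 6, 145641, 19),
  (95729, 6, 31178, 20),
  (95731, 6, 152019, 2),
  (95737, 6, 249303, 26),
  (95739, 6, 251313, 4),
  (96257, 6, 80045, 7),
  (96258, 5, 10322, 37),
  (96261, 6, 55418, 19),
  (96262, 6, 67774, 3),
  (96265, 4, 78164, 26),
  (96266, 6, 28822, 7),
  (96269, 6, 39034, 19),
  (96270, 5, 65714, 41),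
  (96273, 6, 101601, 23),
  (96274, 6, 37265, 25),
  (96277, 4, 143580, 26),
  (96278, 6, 4278, 8),
  (96281, 4, 233898, 24),
  (96282, 6, 73790, 1),
  (96285, 6, 34938, 19),
  (96286, 6, 94398, 17),
  (96289, 7, 45460, 26),
  (96290, 6, 94222, 1),
  (96293, 6, 199949, 22),
  (96294, 6, 90450, 24),
  (96297, 6, 102698, 24),
  (96298, 4, 190, 10),
  (96301, 6, 47210, 19),
  (96302, 5, 92334, 15),
  (96305, 6, 6329, 6),
  (96306, 6, 88094, 14),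
  (96309, 6, 80045, 13),
  (96310, 6, 73790, 2),
  (96313, 7, 102826, 24),
  (96314, 5, 92334, 5),
  (96317, 4, 241692, 26),
  (96318, 4, 18745, 20),
  (96323, 6, 63739, 6),
  (96327, 6, 31947, 12),
  (96331, 6, 103487, 15),
  (96335, 6, 195014, 26),
  (96339, 6, 125390, 26),
  (96343, 5, 97593, 20),
  (96347, 6, 184501, 25),
  (96351, 6, 127167, 17),
  (96355, 6, 54549, 19),
  (96359, 5, 5367, 1),
  (96363, 6, 112815, 17),
  (96367, 6, 162246, 26),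
  (96371, 6, 39163, 6),
  (96375, 6, 96710, 26),
  (96379, 6, 27086, 26),
  (96383, 6, 61671, 11),
  (96385, 7, 184546, 24),
  (96386, 5, 92334, 2),
  (96389, 4, 242116, 26),
  (96390, 5, 250308, 26),
  (96393, 4, 151778, 24),
  (96394, 6, 155874, 24),
  (96397, 6, 6266, 19),
  (96398, 6, 84026, 10),
  (96401, 5, 21649, 39),
  (96402, 4, 115148, 26),
  (96405, 4, 233570, 24),
  (96406, 3, 90302, 2),
  (96409, 6, 90577, 25),
  (96410, 6, 84026, 6),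
  (96413, 5, 21659, 39),
  (96414, 6, 24718, 5),
  (96417, 6, 6329, 13),
  (96418, 6, 4278, 4),
  (96421, 6, 81981, 11),
  (96422, 6, 157721, 20),
  (96425, 6, 101413, 23),
  (96426, 6, 94398, 13),
  (96429, 4, 49617, 25),
  (96430, 5, 137378, 38),
  (96433, 6, 73789, 5),
  (96434, 5, 65586, 41),
  (96437, 6, 98407, 23),
  (96438, 6, 84026, 7),
  (96441, 5, 198965, 43),
  (96442, 6, 88094, 8),
  (96445, 5, 201058, 24),
  (96446, 5, 473, 25),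
  (96451, 6, 129147, 6),
  (96455, 6, 35007, 3),
  (96459, 6, 39091, 3),
  (96463, 6, 39095, 3),
  (96467, 6, 123342, 26),
  (96471, 6, 127430, 26),
  (96475, 5, 5373, 2),
  (96479, 6, 127047, 11),
  (96483, 6, 7417, 13),
  (96487, 6, 235739, 21),
  (96491, 6, 156110, 26),
  (96495, 6, 3325, 13),
  (96499, 6, 237607, 23),
  (96503, 6, 115903, 4),
  (96507, 5, 129127, 11),
  (96511, 6, 119991, 4),
  (96515, 6, 198843, 3),
  (96519, 6, 212401, 2),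
  (96523, 6, 128181, 19),
  (96527, 6, 128183, 19),
  (96531, 6, 216351, 4),
  (96535, 5, 137561, 38),
  (96539, 6, 162991, 1),
  (96543, 6, 128191, 19),
  (96547, 6, 162993, 16),
  (96551, 6, 119959, 19),
  (96555, 6, 112958, 24),
  (96559, 6, 119991, 19),
  (96563, 5, 25841, 41),
  (96567, 6, 96734, 24),
  (96571, 6, 119997, 19),
  (96575, 5, 25793, 41),
  (96577, 6, 113133, 7),
  (96578, 6, 184510, 10),
  (96581, 6, 186618, 19),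
  (96582, 6, 186554, 10),
  (96585, 6, 61861, 5),
  (96586, 5, 128433, 19),
  (96589, 6, 198747, 43),
  (96590, 5, 129334, 12),
  (96593, 6, 211302, 19),
  (96594, 6, 38295, 25),
  (96597, 6, 182522, 19),
  (96598, 5, 106584, 40),
  (96601, 5, 100585, 42),
  (96602, 6, 106696, 40),
  (96605, 6, 166138, 19),
  (96606, 6, 121145, 20),
  (96609, 6, 244133, 17),
  (96610, 6, 120209, 19),
  (96613, 5, 129127, 23),
  (96614, 5, 151820, 44),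
  (96617, 6, 252049, 3),
  (96618, 5, 151596, 44),
  (96621, 5, 106595, 40),
  (96622, 6, 242094, 17),
  (96625, 6, 129501, 7),
  (96626, 6, 111078, 4),
  (96629, 6, 190698, 19),
  (96630, 5, 151820, 38),
  (96633, 6, 227670, 19),
  (96634, 5, 151586, 44),
  (96637, 6, 174314, 19),
  (96638, 6, 113130, 4),
  (96643, 6, 194786, 24),
  (96647, 6, 208301, 10),
  (96651, 6, 212385, 10),
  (96655, 6, 218175, 1),
  (96659, 5, 21835, 39),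
  (96663, 6, 243810, 24),
  (96667, 6, 212401, 10),
  (96671, 5, 196799, 14),
  (96675, 6, 195042, 24),
  (96679, 5, 178658, 24),
  (96683, 6, 21645, 39),
  (96687, 5, 100393, 42),
  (96691, 6, 220209, 16),
  (96695, 6, 244066, 24),
  (96699, 6, 234533, 23),
  (96703, 6, 26015, 7),
  (96705, 5, 194981, 17),
  (96706, 6, 242094, 1),
  (96709, 5, 252121, 8),
  (96710, 5, 20748, 38),
  (96713, 6, 244193, 10),
  (96714, 5, 151588, 38),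
  (96717, 5, 137466, 19),
  (96718, 5, 192942, 17),
  (96721, 6, 38269, 21),
  (96722, 6, 208349, 25),
  (96725, 6, 113057, 15),
  (96726, 5, 106514, 40),
  (96729, 6, 127285, 5),
  (96730, 5, 151588, 44),
  (96733, 6, 133370, 19),
  (96734, 5, 63978, 4),
  (96737, 6, 246927, 24),
  (96738, 6, 120273, 19),
  (96741, 6, 121233, 15),
  (96742, 4, 172114, 37),
  (96745, 6, 106777, 40),
  (96746, 6, 10278, 41),
  (96749, 6, 145642, 19),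
  (96750, 6, 247031, 24),
  (96753, 6, 106813, 5),
  (96754, 6, 194810, 15),
  (96757, 6, 154065, 2),
  (96758, 6, 120283, 19),
  (96761, 6, 260374, 19),
  (96762, 5, 106702, 40),
  (96765, 6, 112945, 5),
  (96766, 5, 127334, 11),
  (97345, 6, 20989, 25),
  (97347, 6, 16893, 25),
  (97349, 5, 18721, 43),
  (97351, 5, 18561, 43),
  (97353, 5, 69705, 42),
  (97355, 5, 18689, 43),
  (97357, 6, 195046, 26),
  (97359, 5, 18865, 43),
  (97361, 6, 132589, 38),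
  (97363, 6, 109038, 26),
  (97365, 6, 128181, 17),
  (97367, 5, 132517, 38),
  (97369, 6, 184509, 25),
  (97371, 6, 208043, 20),
  (97373, 6, 63974, 26),
  (97375, 6, 128191, 17),
  (97377, 6, 52477, 11),
  (97379, 6, 82301, 25),
  (97381, 5, 126031, 10),
  (97383, 6, 90477, 25),
  (97385, 6, 158190, 26),
  (97387, 5, 49331, 39),
  (97389, 6, 162278, 26),
  (97391, 5, 5373, 1),
  (97393, 6, 89181, 14),
  (97395, 5, 164139, 40),
  (97397, 5, 96742, 26),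
  (97399, 6, 80358, 26),
  (97401, 6, 36089, 6),
  (97403, 6, 252047, 22),
  (97405, 6, 129035, 15),
  (97407, 5, 129111, 10),
  (97473, 6, 37343, 21),
  (97475, 6, 95309, 12),
  (97477, 5, 132507, 38),
  (97479, 6, 36031, 3),
  (97481, 6, 124363, 24),
  (97483, 6, 129501, 25),
  (97485, 6, 192998, 26),
  (97487, 6, 121309, 25),
  (97489, 5, 5367, 2),
  (97491, 5, 126031, 11),
  (97493, 5, 126011, 5),
  (97495, 6, 111078, 26),
  (97497, 6, 244119, 21),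
  (97499, 6, 41454, 26),
  (97501, 6, 128069, 11),
  (97503, 6, 47511, 21),
  (97505, 6, 39387, 21),
  (97507, 5, 49493, 39),
  (97509, 6, 31955, 2),
  (97511, 6, 186845, 25),
  (97513, 6, 156142, 26),
  (97515, 6, 185829, 22),
  (97517, 6, 119925, 11),
  (97519, 6, 128181, 4),
  (97521, 6, 162261, 25),
  (97523, 6, 162269, 25),
  (97525, 5, 132363, 38),
  (97527, 5, 18565, 43),
  (97529, 5, 69833, 42),
  (97531, 5, 18693, 43),
  (97533, 6, 29158, 26),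
  (97535, 5, 18869, 43),
  (97537, 6, 203134, 24),
  (97539, 6, 234733, 23),
  (97541, 6, 239903, 22),
  (97543, 6, 227662, 24),
  (97545, 6, 203953, 3),
  (97547, 5, 191595, 20),
  (97549, 6, 212263, 10),
  (97551, 4, 10661, 37),
  (97553, 5, 12361, 44),
  (97555, 6, 161181, 12),
  (97557, 5, 49389, 39),
  (97559, 6, 96687, 13),
  (97561, 5, 10589, 37),
  (97563, 6, 244142, 24),
  (97565, 6, 97349, 19),
  (97567, 5, 12377, 44),
  (97569, 6, 218175, 8),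
  (97571, 6, 121127, 23),
  (97573, 6, 174323, 21),
  (97575, 5, 66843, 41),
  (97577, 5, 66971, 41),
  (97579, 6, 212399, 17),
  (97581, 6, 163007, 16),
  (97583, 6, 129294, 24),
  (97585, 5, 69889, 42),
  (97587, 6, 220191, 14),
  (97589, 4, 12691, 44),
  (97591, 6, 96718, 24),
  (97593, 4, 132203, 38),
  (97595, 6, 113070, 24),
  (97597, 6, 121246, 24),
  (97599, 5, 12307, 44),
  (97665, 5, 163909, 40),
  (97667, 6, 186610, 24),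
  (97669, 6, 178418, 24),
  (97671, 6, 218317, 23),
  (97673, 6, 124943, 19),
  (97675, 6, 7419, 19),
  (97677, 6, 120273, 25),
  (97679, 5, 49265, 39),
  (97681, 6, 220473, 6),
  (97683, 6, 203967, 14),
  (97685, 6, 32175, 13),
  (97687, 6, 214429, 4),
  (97689, 6, 129031, 19),
  (97691, 6, 219250, 24),
  (97693, 5, 66617, 41),
  (97695, 6, 87513, 25),
  (97697, 5, 49281, 39),
  (97699, 6, 104743, 23),
  (97701, 6, 178674, 24),
  (97703, 6, 89489, 15),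
  (97705, 5, 10573, 37),
  (97707, 6, 146863, 17),
  (97709, 5, 69733, 42),
  (97711, 5, 49345, 39),
  (97713, 6, 252253, 26),
  (97715, 6, 252285, 26),
  (97717, 6, 244082, 24),
  (97719, 6, 204095, 6),
  (97721, 6, 129047, 19),
  (97723, 6, 216223, 14),
  (97725, 6, 24991, 7),
  (97727, 6, 49649, 39),
  (98307, 4, 197040, 23),
  (98309, 6, 98480, 23),
  (98310, 6, 67654, 13),
  (98313, 5, 36939, 24),
  (98314, 6, 69826, 15),
  (98316, 5, 196881, 20),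
  (98319, 5, 162097, 25),
  (98321, 6, 32913, 12),
  (98322, 4, 38977, 25),
  (98324, 4, 213281, 20),
  (98327, 6, 57796, 23),
  (98328, 4, 213296, 20),
  (98331, 6, 111761, 13),
  (98333, 6, 6546, 26),
  (98334, 6, 178513, 25),
  (98337, 4, 24705, 23),
  (98338, 4, 24833, 23),
  (98340, 4, 6210, 26),
  (98343, 6, 53634, 22),
  (98344, 7, 2242, 26),
  (98347, 7, 55558, 22),
  (98349, 7, 6354, 26),
  (98350, 6, 6378, 11),
  (98352, 6, 82000, 2),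
  (98355, 6, 2418, 26),
  (98357, 6, 125169, 25),
  (98358, 5, 20910, 39),
  (98361, 4, 172076, 19),
  (98362, 6, 127050, 12),
  (98364, 5, 127124, 13),
  (98367, 6, 213311, 20),
  (98371, 4, 213040, 23),
  (98373, 6, 213384, 22),
  (98374, 5, 4518, 39),
  (98377, 4, 37891, 24),
  (98378, 6, 37066, 7),
  (98380, 5, 197009, 20),
  (98383, 3, 90302, 26),
  (98385, 6, 73793, 4),
  (98386, 4, 38981, 25),
  (98388, 4, 213409, 20),
  (98391, 4, 155966, 26),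
  (98392, 5, 213424, 20),
  (98395, 6, 5337, 5),
  (98397, 4, 205214, 26),
  (98398, 3, 213422, 26),
  (98401, 4, 24721, 23),
  (98402, 5, 24849, 23),
  (98404, 5, 32846, 26),
  (98407, 5, 117989, 2),
  (98408, 6, 98502, 26),
  (98411, 6, 55590, 22),
  (98413, 5, 237, 16),
  (98414, 6, 120842, 2),
  (98416, 6, 98480, 15),
  (98419, 3, 213422, 20),
  (98421, 6, 90357, 3),
  (98422, 3, 90358, 3),
  (98425, 6, 238038, 26),
  (98426, 6, 246246, 26),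
  (98428, 6, 8428, 16),
  (98431, 6, 4575, 21),
  (98435, 4, 213392, 23),
  (98437, 6, 65605, 6),
  (98438, 6, 98502, 12),
  (98441, 5, 37961, 24),
  (98442, 6, 37066, 3),
  (98444, 4, 65809, 20),
  (98447, 6, 12737, 21),
  (98449, 6, 73793, 6),
  (98450, 5, 32781, 25),
  (98452, 4, 82209, 20),
  (98455, 6, 53641, 22),
  (98456, 3, 82224, 20),
  (98459, 6, 55565, 22),
  (98461, 6, 6550, 26),
  (98462, 6, 108618, 8),
  (98465, 5, 24737, 23),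
  (98466, 4, 24865, 23),
  (98468, 4, 6214, 26),
  (98471, 4, 53642, 22),
  (98472, 6, 2246, 26),
  (98475, 6, 65822, 20),
  (98477, 6, 6358, 26),
  (98478, 6, 121062, 1),
  (98480, 5, 16782, 39),
  (98483, 6, 2422, 26),
  (98485, 6, 6486, 26),
  (98486, 4, 90182, 6),
  (98489, 6, 82234, 20),
  (98490, 6, 173265, 24),
  (98492, 6, 82012, 14),
  (98495, 6, 6646, 26),
  (98499, 4, 196656, 23),
  (98501, 6, 10266, 26),
  (98502, 5, 122886, 42),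
  (98505, 4, 36867, 24),
  (98506, 6, 37066, 16),
  (98508, 4, 65937, 20),
  (98511, 6, 36045, 2),
  (98513, 6, 82338, 20),
  (98514, 5, 34825, 25),
  (98516, 4, 82337, 20),
  (98519, 6, 94339, 24),
  (98520, 5, 82352, 20),
  (98523, 5, 219, 17),
  (98525, 6, 118915, 24),
  (98526, 6, 215466, 26),
  (98529, 5, 24753, 23),
  (98530, 5, 24881, 23),
  (98532, 4, 34890, 26),
  (98535, 6, 59514, 26),
  (98536, 7, 100546, 26),
  (98539, 6, 65950, 20),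
  (98541, 6, 108762, 26)]

theorem chk_rows2_10 : rows2_10.all (rowBP tr2 gensLitP 72) = true := by decide +kernel

/-- Rows 16500 to 17999. -/
def rows2_11 : List (ℕ × ℕ × ℕ × ℕ) := [(98542, 6, 88294, 1),
  (98544, 5, 197038, 39),
  (98547, 6, 82350, 20),
  (98549, 6, 124929, 25),
  (98550, 4, 12686, 21),
  (98553, 6, 90361, 15),
  (98554, 6, 126978, 6),
  (98556, 4, 172394, 19),
  (98559, 6, 89181, 5),
  (98561, 4, 6159, 24),
  (98562, 4, 7171, 25),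
  (98564, 5, 6147, 26),
  (98567, 6, 131527, 6),
  (98568, 4, 34887, 24),
  (98571, 6, 229541, 19),
  (98573, 4, 102586, 23),
  (98574, 5, 168250, 23),
  (98576, 4, 35907, 25),
  (98579, 7, 24972, 23),
  (98581, 5, 20818, 21),
  (98582, 6, 240018, 5),
  (98585, 4, 229548, 19),
  (98586, 6, 242066, 5),
  (98588, 4, 204876, 5),
  (98591, 7, 229551, 19),
  (98592, 5, 2115, 26),
  (98595, 6, 147907, 6),
  (98597, 6, 196939, 20),
  (98598, 6, 196941, 20),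
  (98601, 6, 25737, 23),
  (98602, 6, 233890, 5),
  (98604, 6, 246092, 7),
  (98607, 6, 228787, 25),
  (98609, 4, 237708, 19),
  (98610, 6, 156098, 6),
  (98612, 6, 213364, 10),
  (98615, 6, 126327, 15),
  (98616, 6, 205160, 13),
  (98619, 6, 128401, 13),
  (98621, 6, 213371, 20),
  (98622, 5, 14842, 11),
  (98625, 4, 7171, 24),
  (98626, 5, 7175, 25),
  (98628, 4, 7169, 26),
  (98631, 6, 7217, 26),
  (98632, 4, 35843, 24),
  (98635, 6, 197078, 20),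
  (98637, 5, 229798, 19),
  (98638, 5, 110700, 22),
  (98640, 4, 35911, 25),
  (98643, 3, 213478, 20),
  (98645, 6, 7441, 26),
  (98646, 6, 53425, 22),
  (98649, 4, 80046, 23),
  (98650, 6, 3489, 26),
  (98652, 6, 237580, 5),
  (98655, 6, 243779, 14),
  (98656, 4, 3137, 26),
  (98659, 6, 3185, 26),
  (98661, 6, 93367, 25),
  (98662, 5, 53426, 22),
  (98665, 6, 216487, 25),
  (98666, 6, 204167, 25),
  (98668, 4, 22710, 22),
  (98671, 6, 249325, 2),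
  (98673, 4, 213482, 20),
  (98674, 4, 213484, 20),
  (98676, 6, 213481, 20),
  (98679, 6, 191699, 1),
  (98680, 6, 232903, 25),
  (98683, 6, 237997, 19),
  (98685, 6, 127445, 13),
  (98686, 6, 125342, 4),
  (98689, 4, 7181, 24),
  (98690, 5, 1037, 25),
  (98692, 4, 6151, 26),
  (98695, 6, 6199, 26),
  (98696, 4, 35909, 24),
  (98699, 4, 188524, 22),
  (98701, 6, 28993, 21),
  (98702, 6, 235590, 10),
  (98704, 5, 33797, 25),
  (98707, 6, 82278, 20),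
  (98709, 5, 57580, 23),
  (98710, 6, 6439, 26),
  (98713, 6, 22813, 22),
  (98714, 5, 137378, 39),
  (98716, 6, 205004, 5),
  (98719, 6, 238669, 16),
  (98720, 4, 2119, 26),
  (98723, 6, 65870, 20),
  (98725, 7, 247809, 1),
  (98726, 5, 166306, 5),
  (98729, 5, 22814, 22),
  (98730, 6, 249922, 10),
  (98732, 5, 217412, 6),
  (98735, 6, 248843, 1),
  (98737, 6, 2391, 26),
  (98738, 6, 205282, 13),
  (98740, 7, 260178, 39),
  (98743, 5, 6519, 26),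
  (98744, 6, 196984, 3),
  (98747, 6, 210161, 8),
  (98749, 6, 237806, 19),
  (98750, 5, 27102, 4),
  (98753, 5, 6147, 24),
  (98754, 4, 3081, 25),
  (98756, 4, 7173, 26),
  (98759, 6, 27657, 25),
  (98760, 4, 28682, 23),
  (98763, 6, 225674, 23),
  (98765, 6, 158721, 25),
  (98766, 6, 7333, 26),
  (98768, 4, 35841, 25),
  (98771, 6, 25020, 23),
  (98773, 6, 231765, 12),
  (98774, 6, 82405, 20),
  (98777, 5, 241921, 6),
  (98778, 6, 74058, 8),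
  (98780, 3, 205276, 7),
  (98783, 6, 260494, 23),
  (98784, 4, 3141, 26),
  (98787, 6, 147907, 17),
  (98789, 5, 238022, 19),
  (98790, 6, 238019, 19),
  (98793, 4, 22846, 22),
  (98794, 5, 154030, 39),
  (98796, 6, 207873, 25),
  (98799, 6, 7413, 26),
  (98801, 6, 82410, 20),
  (98802, 4, 28814, 21),
  (98804, 4, 28942, 21),
  (98807, 6, 232823, 12),
  (98808, 6, 147928, 17),
  (98811, 5, 147931, 17),
  (98813, 6, 190957, 2),
  (98814, 6, 149978, 17),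
  (99329, 5, 65968, 23),
  (99331, 4, 196784, 23),
  (99341, 7, 238605, 38),
  (99343, 5, 249900, 22),
  (99349, 4, 22802, 26),
  (99351, 5, 70098, 21),
  (99353, 6, 38107, 5),
  (99355, 6, 38033, 12),
  (99365, 6, 198923, 20),
  (99367, 6, 92345, 25),
  (99369, 4, 198938, 20),
  (99371, 6, 38049, 12),
  (99377, 4, 18770, 26),
  (99379, 6, 178513, 19),
  (99389, 6, 39095, 12),
  (99391, 6, 192747, 24),
  (99393, 4, 213296, 23),
  (99395, 3, 82224, 23),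
  (99405, 6, 69977, 21),
  (99407, 6, 38023, 6),
  (99413, 4, 69978, 21),
  (99415, 6, 188884, 23),
  (99417, 6, 186733, 25),
  (99419, 6, 8395, 16),
  (99429, 4, 53730, 22),
  (99431, 5, 231, 16),
  (99433, 6, 185693, 40),
  (99435, 5, 235, 16),
  (99441, 6, 215466, 20),
  (99443, 5, 185643, 40),
  (99453, 6, 95485, 3),
  (99455, 6, 254430, 26),
  (99457, 3, 82320, 23),
  (99459, 4, 213136, 23),
  (99469, 6, 38023, 13),
  (99471, 4, 22710, 26),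
  (99477, 6, 21689, 24),
  (99479, 6, 78274, 21),
  (99481, 6, 184325, 25),
  (99483, 6, 184333, 25),
  (99493, 6, 117831, 5),
  (99495, 5, 117989, 15),
  (99497, 6, 119883, 5),
  (99499, 6, 22862, 22),
  (99505, 6, 39197, 19),
  (99507, 4, 18806, 26),
  (99517, 6, 22998, 26),
  (99519, 6, 95303, 6),
  (99521, 4, 196912, 23),
  (99523, 5, 65840, 23),
  (99533, 6, 67987, 20),
  (99535, 6, 78281, 21),
  (99541, 6, 78154, 21),
  (99543, 6, 108695, 8),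
  (99545, 6, 186369, 25),
  (99547, 6, 38033, 7),
  (99557, 6, 112695, 44),
  (99559, 5, 78284, 21),
  (99561, 4, 108786, 26),
  (99563, 6, 78029, 21),
  (99569, 4, 84394, 20),
  (99571, 5, 120841, 25),
  (99581, 5, 185441, 40),
  (99583, 6, 93437, 15),
  (99589, 6, 36295, 5),
  (99591, 6, 27707, 25),
  (99593, 6, 230857, 17),
  (99595, 6, 86225, 21),
  (99601, 6, 18707, 26),
  (99603, 4, 86226, 21),
  (99613, 6, 22931, 26),
  (99615, 5, 185673, 40),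
  (99617, 5, 89259, 25),
  (99619, 5, 20818, 22),
  (99629, 6, 7657, 11),
  (99631, 6, 248239, 2),
  (99637, 5, 249297, 17),
  (99639, 6, 126325, 15),
  (99641, 6, 253419, 25),
  (99643, 6, 157069, 23),
  (99653, 6, 36225, 11),
  (99655, 6, 36289, 19),
  (99657, 6, 199122, 20),
  (99659, 6, 51649, 19),
  (99665, 6, 215522, 20),
  (99667, 5, 238659, 14),
  (99677, 6, 113070, 23),
  (99679, 6, 243886, 23),
  (99681, 5, 86108, 21),
  (99683, 6, 7443, 24),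
  (99693, 5, 185443, 40),
  (99695, 6, 23030, 22),
  (99701, 5, 240695, 8),
  (99703, 6, 86494, 21),
  (99705, 6, 242739, 8),
  (99707, 6, 249327, 25),
  (99717, 6, 34183, 13),
  (99719, 6, 232449, 1),
  (99721, 6, 86426, 23),
  (99723, 4, 67926, 20),
  (99729, 5, 238659, 16),
  (99731, 4, 84326, 20),
  (99741, 6, 121246, 23),
  (99743, 5, 185603, 40),
  (99745, 5, 185353, 40),
  (99747, 6, 181475, 3),
  (99757, 6, 55774, 22),
  (99759, 6, 159185, 19),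
  (99765, 6, 128005, 25),
  (99767, 6, 22903, 26),
  (99769, 6, 84346, 20),
  (99771, 6, 188843, 2),
  (99781, 6, 31745, 25),
  (99783, 6, 36225, 7),
  (99785, 4, 68050, 20),
  (99787, 4, 172076, 22),
  (99793, 6, 155836, 23),
  (99795, 6, 20857, 22),
  (99805, 6, 129422, 23),
  (99807, 6, 260238, 23),
  (99809, 6, 94284, 21),
  (99811, 4, 20858, 22),
  (99821, 6, 251311, 10),
  (99823, 6, 250287, 10),
  (99829, 6, 150993, 17),
  (99831, 6, 130057, 25),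
  (99833, 5, 242867, 8),
  (99835, 6, 204907, 16),
  (100353, 6, 65605, 8),
  (100354, 6, 67654, 2),
  (100357, 6, 65776, 23),
  (100358, 6, 98502, 17),
  (100363, 6, 38023, 12),
  (100367, 5, 209923, 38),
  (100371, 6, 33943, 12),
  (100375, 6, 28827, 24),
  (100377, 5, 112785, 13),
  (100378, 6, 112790, 5),
  (100381, 6, 75169, 20),
  (100382, 6, 2474, 26),
  (100387, 6, 6266, 26),
  (100391, 5, 231, 11),
  (100393, 4, 18806, 19),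
  (100394, 6, 6378, 26),
  (100397, 6, 39073, 12),
  (100398, 6, 39082, 7),
  (100401, 6, 73845, 8),
  (100402, 6, 124994, 12),
  (100405, 6, 125173, 3),
  (100406, 6, 8438, 11),
  (100411, 6, 135383, 21),
  (100415, 7, 173103, 19),
  (100417, 6, 65605, 15),
  (100418, 6, 98502, 16),
  (100421, 6, 65605, 4),
  (100422, 6, 67654, 12),
  (100427, 6, 94390, 26),
  (100431, 6, 94398, 26),
  (100435, 6, 160054, 26),
  (100439, 6, 160062, 26),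
  (100441, 6, 153710, 19),
  (100442, 4, 174438, 23),
  (100445, 4, 76006, 23),
  (100446, 5, 110662, 14),
  (100451, 5, 203791, 20),
  (100455, 6, 173319, 19),
  (100457, 5, 110806, 26),
  (100458, 6, 88298, 3),
  (100461, 6, 135517, 21),
  (100462, 6, 173347, 19),
  (100465, 6, 218123, 20),
  (100466, 6, 184678, 26),
  (100469, 5, 210075, 38),
  (100470, 5, 190754, 37),
  (100475, 5, 129127, 14),
  (100479, 6, 121255, 22),
  (100481, 6, 213160, 22),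
  (100482, 6, 67654, 11),
  (100485, 6, 65605, 11),
  (100486, 6, 67654, 6),
  (100491, 6, 6334, 26),
  (100495, 5, 180460, 22),
  (100499, 4, 143554, 21),
  (100503, 6, 2366, 26),
  (100505, 6, 6558, 26),
  (100506, 6, 110606, 7),
  (100509, 6, 96613, 42),
  (100510, 5, 100442, 41),
  (100515, 6, 6270, 26),
  (100519, 4, 81949, 25),
  (100521, 6, 6366, 26),
  (100522, 6, 120846, 22),
  (100525, 7, 158034, 19),
  (100526, 6, 6374, 15),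
  (100529, 6, 24805, 23),
  (100530, 6, 24933, 23),
  (100533, 6, 73845, 11),
  (100534, 5, 141426, 43),
  (100539, 6, 163231, 20),
  (100543, 5, 210179, 38),
  (100545, 6, 65605, 5),
  (100546, 6, 67654, 8),
  (100549, 5, 63613, 44),
  (100550, 6, 163952, 23),
  (100555, 6, 157721, 25),
  (100559, 6, 38023, 7),
  (100563, 6, 25076, 23),
  (100567, 6, 33943, 7),
  (100569, 6, 211346, 26),
  (100570, 7, 190790, 23),
  (100573, 5, 112785, 8),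
  (100574, 6, 112714, 7),
  (100579, 6, 63602, 26),
  (100583, 6, 119210, 22),
  (100585, 4, 88366, 22),
  (100586, 6, 121062, 14),
  (100589, 6, 37155, 24),
  (100590, 6, 121006, 22),
  (100593, 6, 90357, 15),
  (100594, 6, 82166, 1),
  (100597, 6, 136353, 20),
  (100598, 6, 100377, 25),
  (100603, 5, 210185, 38),
  (100607, 6, 93435, 15),
  (100611, 6, 23603, 25),
  (100615, 5, 455, 11),
  (100617, 4, 84326, 19),
  (100618, 6, 235910, 5),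
  (100621, 6, 159916, 22),
  (100622, 6, 146691, 25),
  (100625, 6, 52339, 25),
  (100626, 5, 190806, 37),
  (100629, 6, 22671, 24),
  (100630, 6, 237574, 14),
  (100635, 6, 47359, 24),
  (100639, 6, 152019, 21),
  (100641, 4, 67926, 19),
  (100642, 6, 238721, 19),
  (100645, 5, 248225, 2),
  (100646, 4, 486, 11),
  (100651, 6, 220595, 25),
  (100655, 6, 238759, 19),
  (100659, 5, 6523, 26),
  (100663, 6, 238735, 19),
  (100665, 6, 6619, 26),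
  (100666, 6, 194781, 20),
  (100669, 6, 195026, 19),
  (100670, 4, 98398, 41),
  (100675, 6, 25048, 23),
  (100679, 6, 36225, 20),
  (100681, 6, 209068, 22),
  (100682, 6, 235590, 14),
  (100685, 4, 3225, 26),
  (100686, 6, 233542, 14),
  (100689, 6, 74069, 15),
  (100690, 5, 247877, 20),
  (100693, 4, 3353, 26),
  (100694, 6, 197078, 17),
  (100699, 5, 244206, 23),
  (100703, 6, 7641, 5),
  (100705, 6, 7257, 26),
  (100706, 6, 215266, 3),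
  (100709, 4, 151900, 21),
  (100710, 6, 33190, 11),
  (100715, 5, 210313, 38),
  (100719, 6, 121270, 22),
  (100723, 6, 126417, 13),
  (100727, 6, 240689, 8),
  (100729, 6, 7641, 26),
  (100730, 6, 7657, 26),
  (100733, 6, 63954, 19),
  (100734, 5, 235702, 15),
  (100739, 6, 36225, 13),
  (100743, 6, 65863, 11),
  (100745, 6, 156693, 25),
  (100746, 6, 233542, 10),
  (100749, 6, 238721, 20),
  (100750, 5, 57580, 22),
  (100753, 6, 159810, 21),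
  (100754, 6, 237574, 7),
  (100757, 6, 74069, 11),
  (100758, 6, 74070, 11),
  (100763, 6, 7639, 7),
  (100767, 5, 210051, 38),
  (100769, 6, 159812, 21),
  (100770, 6, 246246, 1),
  (100773, 6, 86426, 22),
  (100774, 6, 231458, 7),
  (100779, 6, 220649, 10),
  (100783, 6, 121246, 22),
  (100787, 6, 60817, 13),
  (100791, 6, 160198, 21),
  (100793, 6, 121150, 19),
  (100794, 6, 194810, 3),
  (100797, 6, 242849, 20),
  (100798, 6, 243873, 20),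
  (100803, 6, 232833, 10),
  (100807, 6, 34183, 7),
  (100809, 6, 204972, 22),
  (100810, 6, 142361, 25),
  (100813, 6, 3229, 26),
  (100814, 5, 39370, 16),
  (100817, 6, 35221, 7),
  (100818, 6, 33238, 16),
  (100821, 6, 6594, 19),
  (100822, 6, 118969, 22),
  (100827, 5, 210057, 38),
  (100831, 6, 207949, 16),
  (100833, 5, 247877, 1),
  (100834, 3, 213478, 1),
  (100837, 6, 169089, 20),
  (100838, 6, 147910, 17),
  (100843, 6, 248911, 1),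
  (100847, 6, 3325, 26),
  (100851, 6, 7549, 26),
  (100855, 6, 3453, 26),
  (100857, 6, 251966, 19),
  (100858, 6, 162042, 3),
  (100861, 6, 31186, 19),
  (100862, 5, 250014, 2),
  (101385, 4, 22682, 26),
  (101387, 6, 46129, 40),
  (101389, 6, 77189, 20),
  (101391, 6, 196850, 23),
  (101393, 5, 169999, 44),
  (101395, 6, 156100, 23),
  (101397, 6, 201042, 21),
  (101399, 6, 86465, 22),
  (101409, 6, 2391, 19),
  (101411, 4, 200916, 21),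
  (101413, 5, 117989, 3),
  (101415, 4, 86466, 22),
  (101433, 6, 89211, 10),
  (101435, 5, 122995, 42),
  (101437, 5, 126123, 2),
  (101439, 6, 189829, 23),
  (101449, 6, 200793, 21),
  (101451, 6, 36045, 1),
  (101453, 4, 135404, 22),
  (101455, 6, 157997, 25),
  (101457, 6, 155860, 23),
  (101459, 6, 156116, 23),
  (101461, 6, 119265, 22),
  (101463, 5, 207269, 38),
  (101473, 6, 155857, 23),
  (101475, 7, 61526, 26),
  (101477, 4, 201052, 21),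
  (101479, 6, 5427, 24),
  (101497, 5, 170325, 44),
  (101499, 6, 97531, 3),
  (101501, 6, 46269, 11),
  (101503, 6, 128103, 14),
  (101513, 6, 36045, 17),
  (101515, 6, 142739, 20),
  (101517, 6, 54361, 24),
  (101519, 6, 213202, 23),
  (101521, 5, 155876, 23),
  (101523, 4, 22846, 26),
  (101525, 6, 108755, 15),
  (101527, 6, 44247, 3),
  (101537, 6, 155873, 23),
  (101539, 6, 138635, 20),
  (101541, 6, 36117, 19),
  (101543, 6, 141651, 19),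
  (101561, 6, 258069, 25),
  (101563, 6, 108651, 16),
  (101565, 6, 97349, 6),
  (101567, 6, 126201, 15),
  (101577, 6, 196844, 22),
  (101579, 4, 229548, 22),
  (101581, 4, 80058, 26),
  (101583, 6, 209353, 21),
  (101585, 5, 145714, 26),
  (101587, 4, 209098, 21),
  (101589, 6, 73927, 4),
  (101591, 6, 86505, 22),
  (101601, 5, 117989, 14),
  (101603, 4, 86378, 22),
  (101605, 6, 138373, 20),
  (101607, 6, 63578, 26),
  (101625, 6, 244210, 26),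
  (101627, 6, 32083, 19),
  (101629, 6, 189621, 23),
  (101631, 6, 260570, 26),
  (101633, 6, 232901, 17),
  (101635, 6, 232903, 17),
  (101637, 6, 101765, 20),
  (101639, 6, 35267, 5),
  (101657, 6, 204123, 10),
  (101659, 6, 191699, 20),
  (101661, 6, 109989, 20),
  (101663, 5, 170073, 44),
  (101673, 6, 88551, 7),
  (101675, 6, 88406, 22),
  (101677, 5, 121302, 22),
  (101679, 5, 170013, 44),
  (101681, 5, 206881, 38),
  (101683, 6, 249303, 17),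
  (101685, 6, 217430, 21),
  (101687, 6, 247255, 17),
  (101697, 6, 155864, 23),
  (101699, 5, 455, 5),
  (101701, 6, 31791, 25),
  (101703, 5, 170311, 44),
  (101721, 7, 217179, 21),
  (101723, 6, 244807, 14),
  (101725, 6, 241099, 2),
  (101727, 6, 6619, 5),
  (101737, 6, 121206, 22),
  (101739, 6, 88438, 22),
  (101741, 6, 121334, 22),
  (101743, 6, 248299, 2),
  (101745, 6, 191873, 6),
  (101747, 6, 156125, 23),
  (101749, 6, 191877, 6),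
  (101751, 6, 189653, 1),
  (101761, 6, 100615, 19),
  (101763, 6, 232901, 4),
  (101765, 5, 455, 7),
  (101767, 6, 18495, 26),
  (101785, 6, 121310, 23),
  (101787, 5, 122963, 42),
  (101789, 6, 121309, 22),
  (101791, 6, 18879, 26),
  (101801, 6, 247823, 1),
  (101803, 5, 101523, 43),
  (101805, 6, 121310, 22),
  (101807, 5, 170065, 44),
  (101809, 6, 155885, 23),
  (101811, 6, 77175, 11),
  (101813, 6, 225606, 21),
  (101815, 6, 191735, 3),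
  (101825, 6, 23581, 26),
  (101827, 6, 35267, 13),
  (101829, 6, 36295, 13),
  (101831, 7, 164997, 20),
  (101849, 5, 129203, 24),
  (101851, 6, 240733, 1),
  (101853, 6, 96718, 23),
  (101855, 7, 173221, 20),
  (101865, 6, 199787, 16),
  (101867, 6, 248909, 1),
  (101869, 6, 220177, 25),
  (101871, 6, 55751, 13),
  (101873, 6, 119163, 22),
  (101875, 6, 158963, 3),
  (101877, 6, 60887, 13),
  (101879, 6, 169125, 20),
  (102401, 4, 4171, 24),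
  (102402, 6, 37066, 10),
  (102404, 4, 205057, 20),
  (102407, 6, 36045, 5),
  (102409, 4, 36875, 24),
  (102410, 6, 37066, 8),
  (102412, 4, 205073, 20),
  (102415, 6, 35983, 12),
  (102419, 6, 55649, 25),
  (102421, 6, 173403, 21),
  (102422, 6, 80086, 4),
  (102427, 6, 33947, 12),
  (102429, 4, 72082, 26),
  (102430, 5, 110662, 12),
  (102435, 5, 235, 11),
  (102437, 6, 71762, 26),
  (102438, 6, 34990, 7),
  (102443, 6, 205086, 20),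
  (102445, 6, 205083, 20),
  (102446, 6, 188467, 24),
  (102449, 6, 221482, 20),
  (102450, 6, 221484, 20),
  (102452, 5, 12598, 37),
  (102455, 6, 129521, 25),
  (102457, 4, 68050, 26),
  (102458, 6, 24839, 23),
  (102460, 6, 57415, 23),
  (102463, 6, 36031, 12),
  (102465, 4, 37955, 24),
  (102466, 6, 69826, 17),
  (102468, 4, 205185, 20),
  (102471, 6, 213106, 23),
  (102473, 4, 205202, 20),
  (102474, 5, 33142, 37),
  (102476, 4, 205201, 20),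
  (102479, 6, 205207, 20),
  (102483, 6, 38107, 12),
  (102485, 5, 177491, 21),
  (102486, 6, 112790, 4),
  (102491, 6, 24982, 23),
  (102493, 6, 205086, 26),
  (102494, 6, 108618, 14),
  (102499, 5, 57590, 26),
  (102501, 4, 188678, 19),
  (102502, 6, 211349, 21),
  (102507, 4, 205214, 20),
  (102509, 6, 39073, 11),
  (102510, 6, 121062, 16),
  (102513, 5, 127193, 13),
  (102514, 3, 90186, 12),
  (102516, 3, 90188, 12),
  (102519, 6, 221615, 20),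
  (102521, 5, 178517, 44),
  (102522, 6, 24855, 23),
  (102524, 6, 90348, 11),
  (102527, 6, 240649, 21),
  (102529, 4, 5193, 24),
  (102530, 6, 69826, 13),
  (102532, 4, 73985, 20),
  (102535, 4, 53644, 22),
  (102537, 4, 37897, 24),
  (102538, 6, 37066, 17),
  (102540, 5, 74001, 20),
  (102543, 6, 241689, 21),
  (102547, 6, 90406, 20),
  (102549, 4, 75890, 23),
  (102550, 5, 71974, 26),
  (102555, 6, 24998, 23),
  (102557, 6, 54441, 24),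
  (102558, 6, 112714, 8),
  (102563, 6, 100573, 21),
  (102565, 4, 20878, 22),
  (102566, 6, 39082, 5),
  (102571, 5, 119873, 5),
  (102573, 5, 120841, 1),
  (102574, 6, 74013, 20),
  (102577, 4, 67926, 26),
  (102578, 6, 94282, 6),
  (102580, 6, 8428, 1),
  (102583, 6, 72054, 26),
  (102585, 4, 188524, 19),
  (102586, 3, 90186, 6),
  (102588, 3, 90188, 6),
  (102591, 6, 72182, 26),
  (102593, 4, 36931, 24),
  (102594, 6, 37066, 5),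
  (102596, 4, 74113, 20),
  (102599, 5, 178509, 44),
  (102601, 5, 4163, 24),
  (102602, 5, 188486, 37),
  (102604, 5, 74129, 20),
  (102607, 6, 26889, 25),
  (102611, 6, 110787, 24),
  (102613, 6, 118979, 24),
  (102614, 6, 110606, 6),
  (102619, 6, 33947, 7),
  (102621, 5, 57590, 23),
  (102622, 4, 57718, 23),
  (102627, 7, 53550, 22),
  (102629, 5, 188742, 19),
  (102630, 6, 188739, 19),
  (102635, 6, 74142, 20),
  (102637, 6, 22954, 22),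
  (102638, 6, 35050, 5),
  (102641, 6, 248065, 25),
  (102642, 6, 90540, 20),
  (102644, 6, 126988, 6),
  (102647, 6, 90543, 20),
  (102649, 6, 188780, 19),
  (102650, 5, 248162, 26),
  (102652, 6, 53460, 8),
  (102655, 6, 22747, 17),
  (102659, 6, 201801, 8),
  (102661, 6, 196941, 10),
  (102662, 4, 53396, 22),
  (102667, 6, 24970, 23),
  (102669, 6, 158771, 25),
  (102670, 5, 39370, 8),
  (102673, 7, 221538, 20),
  (102674, 6, 233818, 1),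
  (102676, 6, 242004, 7),
  (102679, 5, 212061, 8),
  (102681, 6, 24718, 23),
  (102682, 6, 196826, 15),
  (102684, 6, 51367, 24),
  (102687, 5, 178265, 44),
  (102689, 5, 489, 11),
  (102690, 3, 213066, 2),
  (102692, 6, 37356, 2),
  (102695, 6, 53654, 22),
  (102697, 4, 22802, 22),
  (102698, 5, 198830, 41),
  (102700, 6, 196844, 15),
  (102703, 7, 260137, 21),
  (102707, 6, 53527, 22),
  (102709, 6, 194705, 1),
  (102710, 5, 260138, 14),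
  (102715, 6, 218481, 10),
  (102717, 6, 186543, 24),
  (102718, 5, 63978, 8),
  (102723, 6, 68657, 26),
  (102725, 6, 27959, 25),
  (102726, 5, 235594, 14),
  (102731, 4, 205270, 20),
  (102733, 5, 158775, 25),
  (102734, 4, 57690, 23),
  (102737, 5, 473, 5),
  (102738, 6, 242138, 5),
  (102740, 6, 22642, 23),
  (102743, 6, 219250, 23),
  (102745, 6, 22833, 22),
  (102746, 6, 91177, 21),
  (102748, 6, 205260, 11),
  (102751, 6, 144589, 16),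
  (102753, 7, 254340, 19),
  (102754, 6, 82250, 12),
  (102756, 5, 217412, 7),
  (102759, 6, 53686, 22),
  (102761, 3, 205274, 20),
  (102762, 3, 205276, 20),
  (102764, 4, 213484, 11),
  (102767, 6, 247915, 14),
  (102771, 6, 26015, 23),
  (102773, 6, 73041, 26),
  (102774, 6, 129430, 4),
  (102779, 6, 24991, 23),
  (102781, 6, 73169, 26),
  (102782, 6, 229566, 15),
  (102787, 7, 53532, 22),
  (102789, 5, 77938, 23),
  (102790, 6, 231438, 7),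
  (102795, 6, 196939, 6),
  (102797, 6, 196941, 6),
  (102798, 6, 39302, 16),
  (102801, 4, 79922, 23),
  (102802, 6, 90468, 20),
  (102804, 6, 71943, 26),
  (102807, 6, 241099, 4),
  (102809, 5, 473, 7),
  (102810, 6, 37266, 16),
  (102812, 4, 245994, 19),
  (102815, 5, 250177, 39),
  (102817, 5, 178241, 44),
  (102818, 5, 57654, 37),
  (102820, 4, 213484, 10),
  (102823, 6, 162941, 24),
  (102825, 6, 74074, 20),
  (102826, 6, 131306, 15),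
  (102828, 4, 22682, 22),
  (102831, 6, 55706, 22),
  (102835, 6, 90478, 20),
  (102837, 5, 194981, 2),
  (102838, 5, 51646, 16),
  (102843, 6, 90494, 20),
  (102845, 6, 244193, 4),
  (102846, 6, 192758, 3),
  (102851, 6, 246213, 19),
  (102853, 4, 246214, 19),
  (102854, 6, 235910, 13),
  (102859, 6, 34187, 7),
  (102861, 6, 246246, 19),
  (102862, 6, 235590, 7),
  (102865, 5, 90594, 20),
  (102866, 6, 90596, 20),
  (102868, 5, 51538, 37),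
  (102871, 6, 90599, 20),
  (102873, 6, 69013, 26),
  (102874, 6, 24894, 23),
  (102876, 6, 246250, 19),
  (102879, 6, 137691, 17),
  (102881, 6, 25787, 23),
  (102882, 6, 233890, 13),
  (102884, 6, 137525, 21),
  (102887, 6, 224521, 25),
  (102889, 6, 250273, 10),
  (102890, 3, 213066, 10),
  (102892, 6, 147948, 11),
  (102895, 5, 251301, 10),
  (102899, 5, 242873, 8),
  (102901, 6, 90603, 20),
  (102902, 6, 90605, 20),
  (102907, 6, 251313, 10),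
  (102909, 6, 195053, 2),
  (102910, 6, 252050, 2),
  (103429, 6, 207107, 20),
  (103431, 6, 237913, 21),
  (103437, 5, 88210, 26),
  (103439, 7, 229868, 22),
  (103441, 7, 53573, 22),
  (103443, 6, 107611, 21),
  (103449, 6, 65755, 7),
  (103451, 6, 111827, 3),
  (103457, 6, 53574, 22),
  (103459, 6, 143435, 24),
  (103465, 5, 84178, 26),
  (103467, 6, 215209, 25),
  (103477, 6, 128159, 13),
  (103479, 5, 214407, 39),
  (103485, 6, 35007, 12),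
  (103487, 5, 209043, 38),
  (103493, 4, 53732, 22),
  (103495, 6, 26941, 25),
  (103501, 6, 73790, 26),
  (103503, 6, 36045, 12),
  (103505, 6, 167389, 43),
  (103507, 5, 219, 5),
  (103513, 6, 155798, 23),
  (103515, 6, 182381, 25),
  (103521, 6, 47317, 21),
  (103523, 6, 38227, 24),
  (103529, 6, 38049, 11),
  (103531, 6, 156051, 23),
  (103541, 6, 129533, 25),
  (103543, 6, 188894, 26),
  (103549, 6, 109631, 8),
  (103551, 6, 95479, 3),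
  (103557, 6, 160005, 25),
  (103559, 6, 76039, 20),
  (103565, 6, 38085, 3),
  (103567, 6, 103755, 40),
  (103569, 5, 92449, 42),
  (103571, 6, 5337, 7),
  (103577, 5, 219, 7),
  (103579, 6, 38107, 17),
  (103585, 6, 35125, 19),
  (103587, 4, 84086, 26),
  (103593, 7, 55626, 22),
  (103595, 5, 76062, 20),
  (103605, 6, 129271, 15),
  (103607, 5, 214055, 39),
  (103613, 6, 88534, 26),
  (103615, 5, 126123, 14),
  (103621, 5, 10426, 26),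
  (103623, 6, 26778, 26),
  (103629, 6, 188658, 23),
  (103631, 4, 3425, 19),
  (103633, 6, 110803, 24),
  (103635, 6, 20845, 22),
  (103641, 6, 5337, 17),
  (103643, 6, 6497, 19),
  (103649, 5, 76170, 20),
  (103651, 5, 119873, 1),
  (103657, 6, 155827, 23),
  (103659, 7, 76190, 20),
  (103669, 6, 115903, 10),
  (103671, 5, 190938, 26),
  (103677, 6, 239994, 26),
  (103679, 6, 256346, 26),
  (103681, 7, 207170, 20),
  (103683, 6, 196939, 10),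
  (103689, 4, 172348, 22),
  (103691, 5, 172412, 22),
  (103701, 7, 22783, 24),
  (103703, 6, 238971, 21),
  (103709, 6, 242901, 3),
  (103711, 5, 55385, 44),
  (103717, 6, 53718, 22),
  (103719, 6, 3563, 11),
  (103725, 6, 55762, 22),
  (103727, 6, 248875, 14),
  (103729, 6, 122347, 25),
  (103731, 6, 193681, 1),
  (103737, 6, 192667, 1),
  (103739, 6, 157131, 6),
  (103745, 6, 196939, 4),
  (103747, 6, 34187, 11),
  (103753, 4, 188700, 22),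
  (103755, 5, 156058, 23),
  (103765, 6, 219506, 23),
  (103767, 6, 89393, 26),
  (103773, 5, 220239, 19),
  (103775, 6, 188894, 23),
  (103781, 6, 189659, 23),
  (103783, 6, 252391, 2),
  (103789, 6, 228543, 25),
  (103791, 6, 44529, 19),
  (103793, 6, 128475, 13),
  (103795, 6, 223726, 20),
  (103801, 6, 85457, 26),
  (103803, 6, 156063, 23),
  (103809, 5, 92545, 42),
  (103811, 6, 230857, 4),
  (103817, 6, 155818, 23),
  (103819, 6, 84151, 26),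
  (103829, 6, 6619, 7),
  (103831, 5, 55461, 44),
  (103837, 6, 242767, 16),
  (103839, 6, 193721, 21),
  (103845, 6, 251907, 1),
  (103847, 6, 189931, 23),
  (103853, 6, 251915, 1),
  (103855, 5, 208915, 38),
  (103857, 6, 210171, 8),
  (103859, 6, 239081, 4),
  (103865, 5, 242795, 16),
  (103867, 6, 185819, 17),
  (103873, 6, 37259, 7),
  (103875, 6, 102513, 21),
  (103881, 6, 155834, 23),
  (103883, 5, 92549, 42),
  (103893, 6, 242957, 6),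
  (103895, 6, 20989, 22),
  (103901, 6, 188670, 23),
  (103903, 6, 81373, 15),
  (103909, 6, 88551, 15),
  (103911, 5, 251151, 6),
  (103917, 5, 214149, 39),
  (103919, 6, 253001, 1),
  (103921, 6, 194019, 2),
  (103923, 6, 92654, 20),
  (103929, 6, 194027, 2),
  (103931, 5, 92597, 42),
  (104451, 6, 22833, 25),
  (104455, 6, 38023, 1),
  (104459, 5, 91203, 42),
  (104463, 6, 161825, 25),
  (104465, 6, 71962, 26),
  (104466, 6, 39249, 25),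
  (104469, 6, 20683, 24),
  (104470, 6, 110606, 14),
  (104473, 6, 22862, 19),
  (104474, 4, 72106, 26),
  (104477, 4, 57478, 23),
  (104478, 4, 57606, 23),
  (104481, 6, 2422, 19),
  (104482, 6, 189441, 19),
  (104485, 5, 237, 11),
  (104486, 6, 189443, 19),
  (104489, 6, 178441, 21),
  (104490, 6, 6374, 11),
  (104493, 5, 88450, 22),
  (104494, 6, 121062, 3),
  (104499, 6, 125179, 3),
  (104503, 6, 189455, 19),
  (104507, 5, 44243, 43),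
  (104511, 6, 129271, 3),
  (104515, 5, 28854, 26),
  (104519, 6, 11665, 20),
  (104523, 6, 25042, 23),
  (104527, 4, 94270, 26),
  (104529, 5, 112717, 14),
  (104530, 6, 118821, 22),
  (104533, 6, 103651, 24),
  (104534, 6, 47429, 25),
  (104537, 6, 88353, 22),
  (104538, 6, 110606, 13),
  (104541, 6, 39266, 19),
  (104542, 6, 80086, 3),
  (104545, 6, 54627, 24),
  (104546, 6, 34990, 11),
  (104549, 6, 44335, 43),
  (104550, 6, 35050, 7),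
  (104553, 6, 215221, 25),
  (104554, 6, 210957, 20),
  (104557, 4, 43378, 19),
  (104558, 6, 6545, 20),
  (104563, 6, 220191, 20),
  (104567, 6, 97395, 15),
  (104571, 5, 25047, 23),
  (104575, 6, 115903, 7),
  (104579, 6, 181317, 19),
  (104583, 6, 229593, 21),
  (104587, 4, 135652, 22),
  (104591, 6, 67774, 26),
  (104593, 4, 71966, 26),
  (104594, 4, 174130, 23),
  (104597, 6, 153954, 19),
  (104598, 5, 110662, 8),
  (104601, 6, 177433, 21),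
  (104602, 5, 120841, 22),
  (104605, 5, 112717, 16),
  (104606, 6, 120969, 22),
  (104609, 6, 136297, 24),
  (104610, 6, 6378, 15),
  (104613, 6, 158066, 19),
  (104614, 6, 189507, 19),
  (104617, 6, 90389, 25),
  (104618, 6, 24931, 23),
  (104621, 5, 141682, 19),
  (104622, 6, 189457, 24),
  (104627, 6, 189517, 19),
  (104631, 6, 67966, 26),
  (104635, 5, 25063, 23),
  (104639, 6, 203953, 20),
  (104643, 6, 38085, 2),
  (104647, 6, 149785, 25),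
  (104651, 5, 104557, 44),
  (104655, 5, 217412, 22),
  (104657, 6, 38227, 21),
  (104658, 6, 39066, 15),
  (104661, 6, 182545, 25),
  (104662, 6, 108618, 7),
  (104665, 5, 211218, 26),
  (104666, 5, 110662, 7),
  (104669, 5, 57526, 23),
  (104670, 5, 219434, 26),
  (104673, 5, 120841, 6),
  (104674, 6, 120842, 6),
  (104677, 7, 47322, 26),
  (104678, 6, 88298, 1),
  (104681, 6, 120909, 1),
  (104682, 6, 24931, 24),
  (104685, 6, 112730, 26),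
  (104686, 6, 34990, 15),
  (104691, 6, 95479, 15),
  (104695, 6, 128087, 1),
  (104699, 6, 260466, 26),
  (104703, 6, 97531, 15),
  (104705, 6, 19763, 25),
  (104706, 6, 235534, 14),
  (104709, 6, 35273, 5),
  (104710, 6, 233870, 5),
  (104713, 6, 150579, 25),
  (104714, 5, 71766, 43),
  (104717, 6, 205116, 22),
  (104718, 5, 146435, 25),
  (104723, 5, 34269, 5),
  (104727, 6, 246927, 19),
  (104731, 5, 243923, 3),
  (104735, 6, 121233, 22),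
  (104739, 5, 251301, 2),
  (104743, 5, 215335, 39),
  (104747, 6, 121106, 22),
  (104751, 5, 54595, 40),
  (104753, 7, 137455, 24),
  (104754, 6, 162250, 6),
  (104757, 6, 195058, 19),
  (104758, 6, 194778, 10),
  (104761, 6, 193739, 20),
  (104762, 5, 194765, 20),
  (104765, 6, 178674, 19),
  (104766, 6, 211306, 13),
  (104769, 6, 203205, 17),
  (104770, 6, 231438, 2),
  (104773, 6, 196941, 4),
  (104774, 7, 15623, 25),
  (104777, 5, 238659, 20),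
  (104778, 6, 39302, 11),
  (104781, 6, 57641, 21),
  (104782, 6, 90204, 22),
  (104787, 5, 243791, 14),
  (104791, 6, 160019, 37),
  (104795, 6, 97507, 24),
  (104799, 6, 121265, 22),
  (104803, 5, 35247, 11),
  (104807, 6, 253409, 2),
  (104811, 5, 215331, 39),
  (104815, 6, 118221, 13),
  (104817, 6, 25823, 23),
  (104818, 5, 104594, 44),
  (104821, 6, 129501, 13),
  (104822, 6, 162010, 10),
  (104825, 6, 252209, 10),
  (104826, 6, 73193, 26),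
  (104829, 6, 57503, 23),
  (104830, 6, 29166, 8),
  (104833, 5, 100646, 19),
  (104834, 6, 140573, 25),
  (104837, 6, 86428, 22),
  (104838, 5, 235594, 10),
  (104841, 6, 138707, 41),
  (104842, 6, 71855, 26),
  (104845, 6, 133602, 19),
  (104846, 4, 57642, 23),
  (104851, 6, 189725, 25),
  (104855, 6, 243826, 23),
  (104859, 6, 25070, 23),
  (104863, 6, 232625, 20),
  (104867, 6, 119070, 22),
  (104871, 6, 216557, 10),
  (104875, 7, 255205, 19),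
  (104879, 6, 220645, 10),
  (104881, 5, 138319, 41),
  (104882, 5, 137466, 15),
  (104885, 5, 74109, 11),
  (104886, 5, 127334, 8),
  (104889, 6, 186845, 17),
  (104890, 5, 69718, 43),
  (104893, 6, 243821, 16),
  (104894, 5, 97593, 21),
  (104897, 6, 86332, 22),
  (104898, 6, 72749, 26),
  (104901, 4, 102514, 23),
  (104902, 4, 168050, 23),
  (104905, 6, 35273, 13),
  (104906, 6, 233542, 7),
  (104909, 5, 215093, 39),
  (104910, 4, 94292, 22),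
  (104915, 6, 235570, 23),
  (104919, 6, 175281, 20),
  (104923, 6, 212041, 16),
  (104927, 5, 34207, 7),
  (104931, 6, 104949, 21),
  (104935, 6, 252175, 6),
  (104939, 6, 245071, 20),
  (104943, 7, 125241, 21),
  (104945, 6, 121315, 24),
  (104946, 5, 41380, 39),
  (104949, 5, 195041, 2),
  (104950, 6, 178353, 20),
  (104953, 5, 252337, 10),
  (104954, 6, 242094, 13),
  (104957, 6, 14834, 19),
  (104958, 6, 244138, 13),
  (105473, 6, 132247, 20),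
  (105475, 4, 86340, 22),
  (105477, 4, 83994, 26),
  (105479, 6, 84026, 26),
  (105481, 6, 36923, 24),
  (105483, 6, 156098, 23),
  (105485, 6, 69013, 20),
  (105487, 4, 229740, 22),
  (105521, 6, 37055, 12),
  (105523, 6, 88442, 26),
  (105525, 6, 126205, 3),
  (105527, 6, 84346, 26),
  (105529, 6, 88538, 26),
  (105531, 6, 156103, 23),
  (105533, 6, 27853, 6),
  (105535, 7, 256233, 25),
  (105537, 7, 119140, 22),
  (105539, 6, 35983, 11),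
  (105541, 6, 176337, 21),
  (105543, 6, 38085, 1),
  (105545, 5, 180620, 22),
  (105547, 6, 156114, 23),
  (105549, 6, 106889, 21),
  (105551, 6, 38023, 11),
  (105585, 6, 176630, 26),
  (105587, 6, 93435, 3),
  (105589, 6, 39163, 12),
  (105591, 6, 119997, 7),
  (105593, 6, 252157, 25),
  (105595, 6, 228363, 20),
  (105597, 6, 121315, 22),
  (105599, 6, 36089, 12),
  (105601, 6, 38023, 2),
  (105603, 4, 88126, 26),
  (105605, 6, 36045, 3),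
  (105607, 6, 205973, 20),
  (105609, 6, 155874, 23),
  (105611, 6, 156130, 23),
  (105613, 6, 35983, 13),
  (105615, 4, 20765, 25),
  (105649, 6, 127223, 15),
  (105651, 6, 97355, 6),
  (105653, 6, 60669, 3),
  (105655, 6, 97359, 6),
  (105657, 6, 155879, 23),
  (105659, 6, 93259, 6),
  (105661, 6, 93261, 6),
  (105663, 6, 111845, 4),
  (105665, 7, 14514, 26),
  (105667, 6, 102737, 21),
  (105669, 6, 142485, 20),
  (105671, 4, 86508, 22),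
  (105673, 4, 79922, 26),
  (105675, 6, 3427, 19),
  (105677, 6, 134293, 20),
  (105679, 6, 2403, 19),
  (105713, 5, 129111, 1),
  (105715, 6, 195026, 26),
  (105717, 6, 189623, 23),
  (105719, 6, 102899, 24),
  (105721, 6, 241049, 21),
  (105723, 6, 125963, 6),
  (105725, 6, 21725, 17),
  (105727, 6, 257461, 43),
  (105745, 6, 260402, 23),
  (105747, 6, 86357, 22),
  (105749, 6, 242701, 14),
  (105751, 6, 129394, 23),
  (105753, 6, 240653, 14),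
  (105755, 6, 156110, 23),
  (105757, 6, 188558, 23),
  (105759, 5, 191595, 25),
  (105761, 6, 228363, 41),
  (105763, 6, 121227, 13),
  (105765, 6, 68981, 19),
  (105767, 6, 252323, 2),
  (105769, 6, 251311, 2),
  (105771, 6, 7655, 11),
  (105773, 6, 121298, 22),
  (105775, 6, 5607, 11),
  (105809, 6, 252210, 23),
  (105811, 6, 52607, 25),
  (105813, 6, 3547, 5),
  (105815, 6, 242767, 14),
  (105817, 6, 100767, 7),
  (105819, 6, 89529, 26),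
  (105821, 6, 238669, 14),
  (105823, 6, 72947, 24),
  (105825, 5, 220613, 17),
  (105827, 6, 236635, 20),
  (105829, 6, 97711, 25),
  (105831, 6, 185541, 1),
  (105833, 6, 242767, 20),
  (105835, 6, 156123, 23),
  (105837, 5, 220389, 3),
  (105839, 6, 38311, 11),
  (105873, 6, 77149, 11),
  (105875, 5, 193821, 25),
  (105877, 6, 244082, 23),
  (105879, 6, 113010, 23),
  (105881, 6, 189895, 20),
  (105883, 6, 156142, 23),
  (105885, 6, 54549, 25),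
  (105887, 5, 243791, 16),
  (105889, 6, 216555, 10),
  (105891, 6, 159219, 19),
  (105893, 6, 118091, 5),
  (105895, 6, 86494, 22),
  (105897, 6, 249005, 14),
  (105899, 6, 156139, 23),
  (105901, 6, 249871, 1),
  (105903, 6, 88538, 22),
  (105937, 6, 212035, 16),
  (105939, 7, 195865, 25),
  (105941, 6, 37279, 7),
  (105943, 6, 38301, 7),
  (105945, 6, 240845, 14),
  (105947, 6, 36253, 7),
  (105949, 6, 188606, 23),
  (105951, 6, 188862, 23),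
  (105953, 6, 89181, 26),
  (105955, 6, 233647, 8),
  (105957, 6, 249927, 1),
  (105959, 6, 248239, 10),
  (105961, 6, 97553, 25),
  (105963, 6, 252323, 10),
  (105965, 6, 121338, 22),
  (105967, 6, 252327, 10),
  (106497, 6, 32913, 1),
  (106498, 4, 105, 22),
  (106500, 4, 196897, 20),
  (106503, 6, 94267, 24),
  (106504, 4, 196912, 20),
  (106507, 6, 33947, 1),
  (106509, 5, 98486, 23),
  (106510, 4, 164150, 23),
  (106513, 6, 73793, 8),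
  (106514, 4, 38913, 25),
  (106516, 5, 213249, 20),
  (106519, 6, 167951, 19),
  (106520, 3, 213264, 20),
  (106523, 6, 186657, 25),
  (106525, 6, 213267, 20),
  (106526, 6, 5523, 21),
  (106531, 6, 107635, 4),
  (106533, 6, 217131, 24),
  (106534, 5, 190806, 41),
  (106537, 6, 27777, 23),
  (106538, 6, 94282, 2),
  (106540, 6, 60481, 23),
  (106543, 5, 196927, 20),
  (106547, 6, 34033, 16),
  (106549, 6, 178186, 21),
  (106550, 5, 112785, 25),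
  (106553, 5, 248225, 25),
  (106554, 6, 213276, 20),
  (106556, 6, 61620, 4),
  (106559, 6, 213279, 20),
  (106561, 6, 32913, 11),
  (106562, 5, 6213, 25),
  (106564, 5, 197025, 20),
  (106567, 6, 24894, 26),
  (106568, 4, 197040, 20),
  (106571, 6, 5337, 21),
  (106573, 6, 74142, 26),
  (106574, 5, 106654, 39),
  (106577, 6, 32913, 6),
  (106578, 4, 38917, 25),
  (106580, 4, 213377, 20),
  (106583, 6, 73927, 3),
  (106584, 4, 213392, 20),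
  (106587, 6, 111617, 8),
  (106589, 5, 112785, 7),
  (106590, 6, 213166, 26),
  (106595, 4, 57718, 26),
  (106597, 6, 125173, 2),
  (106598, 6, 82166, 3),
  (106601, 6, 197050, 20),
  (106602, 6, 5277, 21),
  (106604, 6, 82012, 7),
  (106607, 6, 126205, 2),
  (106611, 6, 108554, 21),
  (106613, 5, 245, 16),
  (106614, 6, 35062, 7),
  (106617, 5, 249, 16),
  (106618, 6, 37114, 7),
  (106620, 3, 90188, 7),
  (106623, 6, 213407, 20),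
  (106625, 6, 32858, 21),
  (106626, 4, 32845, 25),
  (106628, 4, 65825, 20),
  (106631, 6, 57421, 25),
  (106632, 5, 65840, 20),
  (106635, 6, 38033, 13),
  (106637, 5, 112785, 14),
  (106638, 6, 172109, 25),
  (106641, 6, 32913, 2),
  (106642, 3, 77, 25),
  (106644, 5, 82177, 20),
  (106647, 4, 241690, 21),
  (106648, 5, 82192, 20),
  (106651, 5, 210075, 43),
  (106653, 5, 137622, 26),
  (106654, 4, 182546, 23),
  (106659, 6, 136547, 22),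
  (106661, 6, 124997, 5),
  (106662, 6, 90198, 6),
  (106665, 6, 246967, 44),
  (106666, 6, 73978, 13),
  (106668, 3, 90188, 14),
  (106671, 5, 129203, 14),
  (106675, 6, 82190, 20),
  (106677, 6, 90181, 25),
  (106678, 6, 8438, 15),
  (106681, 7, 213061, 25),
  (106682, 5, 190754, 41),
  (106684, 6, 94460, 10),
  (106687, 6, 125963, 1),
  (106689, 6, 73793, 5),
  (106690, 4, 34889, 25),
  (106692, 5, 65953, 20),
  (106695, 6, 59465, 25),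
  (106696, 5, 65968, 20),
  (106699, 6, 8395, 17),
  (106701, 6, 168294, 19),
  (106702, 4, 84394, 26),
  (106705, 5, 63613, 38),
  (106706, 4, 2121, 25),
  (106708, 4, 82305, 20),
  (106711, 6, 196724, 23),
  (106712, 3, 82320, 20),
  (106715, 6, 149577, 25),
  (106717, 6, 13643, 21),
  (106718, 5, 32926, 39),
  (106723, 6, 65966, 20),
  (106725, 6, 73845, 16),
  (106726, 6, 90326, 12),
  (106729, 4, 109010, 26),
  (106730, 5, 141426, 42),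
  (106732, 6, 53460, 13),
  (106735, 6, 125434, 26),
  (106739, 6, 24803, 3),
  (106741, 6, 24805, 3),
  (106742, 6, 59526, 4),
  (106745, 6, 176492, 19),
  (106746, 6, 106755, 24),
  (106748, 6, 90316, 7),
  (106751, 6, 82335, 20),
  (106755, 5, 238993, 2),
  (106757, 4, 102588, 23),
  (106758, 5, 168252, 23),
  (106761, 5, 69822, 23),
  (106762, 4, 135486, 23),
  (106764, 6, 137347, 26),
  (106767, 6, 196983, 20),
  (106771, 6, 225332, 23),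
  (106773, 6, 233614, 19),
  (106774, 6, 127081, 22),
  (106777, 5, 213330, 20),
  (106778, 6, 21651, 21),
  (106780, 6, 242076, 8),
  (106783, 6, 213335, 20),
  (106785, 6, 90593, 7),
  (106786, 6, 156114, 6),
  (106788, 6, 156116, 6),
  (106791, 6, 206331, 22),
  (106792, 6, 196984, 20),
  (106795, 6, 120209, 13),
  (106797, 6, 252015, 24),
  (106798, 6, 129454, 16),
  (106801, 6, 213322, 20),
  (106802, 5, 96298, 21),
  (106804, 6, 213108, 5),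
  (106807, 5, 260138, 21),
  (106808, 6, 196984, 13),
  (106811, 6, 152019, 6),
  (106813, 5, 210313, 43),
  (106814, 6, 213341, 20),
  (106819, 6, 134193, 26),
  (106821, 6, 23683, 24),
  (106822, 6, 74070, 12),
  (106825, 6, 197106, 20),
  (106826, 6, 237850, 13),
  (106828, 6, 233890, 19),
  (106831, 6, 242094, 23),
  (106835, 6, 213446, 20),
  (106837, 6, 233870, 19),
  (106838, 4, 151668, 23),
  (106841, 4, 233900, 19),
  (106842, 3, 205274, 17),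
  (106844, 4, 233898, 19),
  (106847, 6, 244138, 23),
  (106849, 6, 197098, 20),
  (106850, 6, 213234, 3),
  (106852, 6, 90452, 12),
  (106855, 6, 213239, 3),
  (106856, 6, 213112, 19),
  (106859, 6, 220647, 25),
  (106861, 6, 139517, 16),
  (106862, 6, 117150, 4),
  (106865, 6, 72963, 24),
  (106866, 6, 77059, 24),
  (106868, 7, 85251, 24),
  (106871, 5, 210057, 43),
  (106872, 6, 213464, 20),
  (106875, 5, 210185, 43),
  (106877, 6, 129457, 7),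
  (106878, 6, 125326, 4),
  (106883, 6, 143729, 22),
  (106885, 6, 233670, 19),
  (106886, 5, 207042, 2),
  (106889, 5, 241921, 12),
  (106890, 3, 205274, 13),
  (106892, 6, 53278, 23),
  (106895, 6, 250270, 23),
  (106899, 5, 127034, 21),
  (106901, 4, 192570, 21),
  (106902, 6, 82245, 20),
  (106905, 6, 148549, 25),
  (106906, 6, 143570, 15),
  (106908, 5, 117989, 24),
  (106911, 6, 252314, 23),
  (106913, 5, 209923, 43),
  (106914, 6, 65900, 20),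
  (106916, 6, 65897, 20),
  (106919, 6, 137335, 26),
  (106920, 6, 147704, 12),
  (106923, 7, 28073, 23),
  (106925, 6, 137431, 26),
  (106926, 4, 98398, 39),
  (106929, 6, 82250, 20),
  (106930, 5, 213330, 6),
  (106932, 6, 90452, 14),
  (106935, 6, 213335, 6),
  (106936, 6, 27693, 23),
  (106939, 6, 241901, 19),
  (106941, 6, 241902, 19),
  (106942, 5, 190938, 17),
  (106947, 6, 96613, 40),
  (106949, 6, 60481, 25),
  (106950, 5, 176586, 37),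
  (106953, 6, 134293, 26),
  (106954, 6, 237978, 13),
  (106956, 6, 61454, 23),
  (106959, 5, 243923, 14),
  (106963, 5, 238659, 1),
  (106965, 6, 82371, 20),
  (106966, 6, 221242, 21),
  (106969, 6, 139309, 22),
  (106970, 6, 82388, 20),
  (106972, 6, 242076, 10),
  (106975, 6, 260490, 23),
  (106977, 4, 242116, 19),
  (106978, 5, 100442, 39),
  (106980, 4, 242114, 19),
  (106983, 5, 210051, 43),
  (106984, 6, 156104, 17),
  (106987, 5, 210179, 43),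
  (106989, 6, 242150, 19),
  (106990, 6, 240713, 25),
  (106993, 6, 155873, 3),
  (106994, 6, 156114, 17),
  (106996, 5, 155876, 3),
  (106999, 6, 155879, 3),
  (107000, 6, 25048, 19),
  (107003, 6, 242849, 8),
  (107005, 6, 82395, 20),
  (107006, 5, 178658, 5),
  (107525, 6, 30841, 25),
  (107527, 6, 108695, 2),
  (107529, 6, 5337, 11)]

theorem chk_rows2_11 : rows2_11.all (rowBP tr2 gensLitP 72) = true := by decide +kernel

/-- Rows 18000 to 19499. -/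
def rows2_12 : List (ℕ × ℕ × ℕ × ℕ) := [(107531, 6, 196790, 23),
  (107541, 6, 221556, 23),
  (107543, 6, 90484, 23),
  (107545, 7, 102619, 24),
  (107547, 6, 202939, 37),
  (107553, 6, 43230, 21),
  (107555, 6, 165227, 22),
  (107565, 6, 7417, 11),
  (107567, 6, 125119, 2),
  (107569, 4, 215306, 20),
  (107571, 7, 215310, 20),
  (107581, 6, 191685, 23),
  (107583, 6, 191941, 23),
  (107589, 5, 107569, 44),
  (107591, 5, 29825, 43),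
  (107593, 6, 74150, 23),
  (107595, 6, 149869, 25),
  (107605, 6, 213364, 23),
  (107607, 6, 36169, 19),
  (107609, 6, 38033, 6),
  (107611, 5, 219, 16),
  (107617, 6, 133213, 19),
  (107619, 6, 5523, 24),
  (107629, 6, 107006, 26),
  (107631, 6, 71133, 21),
  (107633, 6, 136297, 22),
  (107635, 5, 58579, 38),
  (107645, 5, 129203, 7),
  (107647, 6, 234541, 22),
  (107653, 6, 33943, 13),
  (107655, 6, 73927, 10),
  (107657, 6, 111761, 14),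
  (107659, 6, 38107, 3),
  (107669, 5, 205172, 23),
  (107671, 5, 153910, 26),
  (107673, 6, 33947, 2),
  (107675, 5, 29851, 43),
  (107681, 6, 24803, 7),
  (107683, 6, 100446, 21),
  (107693, 6, 251001, 24),
  (107695, 6, 153846, 26),
  (107697, 6, 112794, 21),
  (107699, 4, 84238, 20),
  (107709, 6, 154070, 26),
  (107711, 7, 225357, 25),
  (107717, 6, 123268, 23),
  (107719, 6, 250305, 22),
  (107721, 6, 5337, 3),
  (107723, 6, 111827, 14),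
  (107733, 4, 141370, 26),
  (107735, 5, 172186, 21),
  (107737, 6, 131181, 22),
  (107739, 6, 79051, 21),
  (107745, 4, 43378, 26),
  (107747, 5, 58595, 38),
  (107757, 6, 97359, 5),
  (107759, 6, 125402, 26),
  (107761, 6, 108698, 21),
  (107763, 6, 164905, 22),
  (107773, 6, 128191, 10),
  (107775, 6, 127167, 10),
  (107777, 4, 199010, 20),
  (107779, 6, 172409, 22),
  (107789, 6, 7641, 11),
  (107791, 6, 159099, 25),
  (107793, 7, 215362, 20),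
  (107795, 7, 204867, 8),
  (107805, 6, 241113, 17),
  (107807, 6, 235706, 23),
  (107813, 6, 97531, 25),
  (107815, 6, 93435, 25),
  (107817, 5, 199034, 20),
  (107819, 5, 243791, 24),
  (107829, 6, 60887, 5),
  (107831, 6, 194730, 21),
  (107833, 5, 107699, 44),
  (107835, 6, 215390, 20),
  (107841, 6, 188697, 22),
  (107843, 5, 58611, 38),
  (107853, 6, 111022, 23),
  (107855, 6, 241935, 10),
  (107857, 5, 123050, 21),
  (107859, 6, 35273, 19),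
  (107869, 6, 113066, 23),
  (107871, 6, 243882, 23),
  (107877, 6, 97535, 25),
  (107879, 6, 244086, 21),
  (107881, 6, 199162, 20),
  (107883, 6, 199166, 20),
  (107893, 7, 210025, 22),
  (107895, 6, 126143, 25),
  (107897, 6, 185745, 6),
  (107899, 5, 128433, 7),
  (107905, 6, 33018, 21),
  (107907, 6, 149559, 26),
  (107917, 6, 38295, 13),
  (107919, 5, 250014, 23),
  (107921, 6, 84290, 20),
  (107923, 7, 238593, 1),
  (107933, 6, 175577, 17),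
  (107935, 6, 252058, 23),
  (107941, 5, 152683, 42),
  (107943, 5, 107745, 44),
  (107945, 6, 250949, 25),
  (107947, 6, 185595, 3),
  (107957, 6, 126295, 5),
  (107959, 6, 95309, 25),
  (107961, 6, 95303, 21),
  (107963, 6, 193771, 3),
  (107969, 6, 150549, 26),
  (107971, 4, 102514, 21),
  (107981, 6, 127374, 23),
  (107983, 6, 258190, 23),
  (107985, 4, 139369, 22),
  (107987, 6, 153891, 40),
  (107997, 6, 129418, 23),
  (107999, 6, 242079, 10),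
  (108005, 6, 148725, 3),
  (108007, 6, 60833, 7),
  (108009, 5, 152681, 42),
  (108011, 6, 95437, 21),
  (108021, 6, 93527, 5),
  (108023, 6, 97353, 25),
  (108025, 6, 90603, 15),
  (108027, 6, 104723, 24),
  (108547, 6, 229876, 23),
  (108551, 6, 33943, 1),
  (108553, 5, 137370, 26),
  (108554, 5, 110662, 1),
  (108557, 6, 186698, 19),
  (108558, 5, 133290, 26),
  (108563, 6, 78011, 24),
  (108567, 6, 110858, 21),
  (108569, 7, 100594, 23),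
  (108570, 6, 110750, 16),
  (108573, 7, 133530, 26),
  (108574, 5, 188868, 37),
  (108577, 6, 2293, 11),
  (108578, 6, 177153, 19),
  (108581, 5, 245, 11),
  (108582, 4, 90182, 2),
  (108587, 5, 137466, 26),
  (108591, 6, 97665, 20),
  (108593, 6, 6486, 19),
  (108594, 4, 211210, 21),
  (108597, 6, 90357, 7),
  (108598, 6, 90198, 2),
  (108603, 5, 252337, 25),
  (108607, 6, 95479, 7),
  (108611, 4, 28982, 26),
  (108615, 6, 73927, 17),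
  (108617, 6, 136281, 21),
  (108618, 5, 151852, 42),
  (108621, 6, 78238, 26),
  (108622, 6, 110606, 2),
  (108627, 6, 199719, 20),
  (108631, 4, 19873, 20),
  (108633, 6, 119843, 24),
  (108634, 6, 170261, 25),
  (108637, 6, 136539, 21),
  (108638, 6, 112790, 15),
  (108641, 7, 21923, 24),
  (108642, 6, 71893, 25),
  (108645, 6, 73845, 4),
  (108646, 4, 211094, 21),
  (108651, 5, 107699, 39),
  (108655, 6, 60817, 23),
  (108657, 6, 202939, 40),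
  (108658, 5, 203050, 40),
  (108661, 5, 29851, 38),
  (108662, 6, 90326, 17),
  (108667, 6, 258294, 26),
  (108671, 6, 3325, 16),
  (108675, 6, 135649, 22),
  (108679, 4, 49245, 25),
  (108681, 7, 39057, 13),
  (108682, 6, 112790, 14),
  (108685, 6, 153930, 19),
  (108686, 7, 163933, 25),
  (108691, 6, 24669, 25),
  (108695, 5, 58595, 44),
  (108697, 5, 58611, 44),
  (108698, 5, 110662, 10),
  (108701, 5, 84178, 23),
  (108702, 4, 133550, 26),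
  (108705, 6, 35102, 19),
  (108706, 6, 106589, 25),
  (108709, 6, 24805, 7),
  (108710, 4, 198814, 21),
  (108715, 6, 137470, 26),
  (108719, 5, 152681, 43),
  (108721, 6, 136619, 20),
  (108722, 5, 57526, 16),
  (108725, 6, 73829, 11),
  (108726, 6, 124994, 10),
  (108731, 6, 137726, 26),
  (108735, 6, 60837, 23),
  (108739, 6, 28835, 24),
  (108743, 6, 221636, 23),
  (108745, 4, 123078, 23),
  (108746, 5, 188742, 23),
  (108749, 4, 80282, 26),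
  (108750, 5, 110806, 14),
  (108755, 5, 58579, 44),
  (108759, 6, 77859, 24),
  (108761, 6, 196781, 22),
  (108762, 5, 4396, 42),
  (108765, 6, 153891, 42),
  (108766, 6, 110606, 11),
  (108769, 6, 90181, 5),
  (108770, 6, 35062, 5),
  (108773, 6, 4515, 24),
  (108774, 6, 55658, 26),
  (108779, 6, 129271, 14),
  (108783, 6, 127223, 14),
  (108785, 6, 124997, 1),
  (108786, 3, 90358, 1),
  (108789, 6, 69923, 24),
  (108790, 6, 123030, 2),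
  (108795, 5, 126031, 1),
  (108799, 6, 215129, 25),
  (108801, 6, 181475, 20),
  (108802, 5, 207042, 15),
  (108805, 6, 231637, 3),
  (108806, 3, 204870, 2),
  (108811, 6, 191735, 20),
  (108815, 5, 152683, 43),
  (108817, 6, 71855, 24),
  (108818, 6, 166117, 20),
  (108821, 6, 238037, 17),
  (108822, 6, 33238, 8),
  (108827, 6, 175351, 20),
  (108831, 5, 107745, 39),
  (108835, 6, 118161, 13),
  (108839, 6, 97507, 25),
  (108841, 6, 121233, 13),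
  (108842, 6, 242849, 19),
  (108845, 6, 178593, 12),
  (108846, 6, 178362, 7),
  (108851, 6, 126337, 13),
  (108855, 6, 129322, 21),
  (108857, 6, 177403, 20),
  (108858, 6, 251958, 14),
  (108861, 5, 190938, 19),
  (108862, 5, 135204, 42),
  (108865, 6, 35221, 11),
  (108866, 6, 176492, 23),
  (108869, 5, 39370, 19),
  (108870, 6, 237574, 2),
  (108875, 6, 239069, 2),
  (108879, 6, 37279, 11),
  (108881, 6, 202822, 19),
  (108882, 5, 207042, 3),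
  (108885, 4, 57642, 21),
  (108886, 4, 205270, 17),
  (108891, 6, 244202, 23),
  (108895, 6, 60833, 20),
  (108899, 6, 243077, 19),
  (108903, 6, 243958, 21),
  (108905, 6, 82301, 15),
  (108906, 6, 204247, 25),
  (108909, 6, 127397, 7),
  (108910, 6, 134377, 26),
  (108915, 6, 122039, 25),
  (108919, 7, 59805, 23),
  (108921, 6, 219254, 19),
  (108922, 5, 135202, 43),
  (108925, 6, 129477, 13),
  (108926, 6, 249974, 14),
  (108929, 5, 107569, 39),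
  (108930, 4, 205270, 13),
  (108933, 6, 35221, 13),
  (108934, 4, 151900, 23),
  (108939, 6, 191991, 20),
  (108943, 6, 240733, 16),
  (108945, 5, 29825, 38),
  (108946, 6, 197078, 13),
  (108949, 6, 89229, 24),
  (108950, 6, 141526, 15),
  (108955, 6, 252378, 23),
  (108959, 6, 212445, 10),
  (108963, 6, 100862, 21),
  (108967, 6, 191921, 2),
  (108969, 6, 117054, 19),
  (108970, 6, 129498, 12),
  (108973, 6, 162266, 19),
  (108974, 5, 20740, 42),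
  (108979, 6, 260410, 21),
  (108983, 6, 129338, 21),
  (108985, 6, 190941, 17),
  (108986, 6, 124141, 22),
  (108989, 6, 158170, 19),
  (108990, 5, 219478, 6),
  (108993, 6, 231438, 19),
  (108994, 6, 237974, 13),
  (108997, 4, 168050, 21),
  (108998, 6, 74070, 8),
  (109003, 7, 63651, 24),
  (109007, 6, 175577, 2),
  (109009, 6, 204969, 22),
  (109010, 3, 204870, 10),
  (109013, 4, 102516, 23),
  (109014, 4, 168052, 23),
  (109019, 6, 241015, 20),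
  (109023, 6, 191649, 20),
  (109027, 5, 248919, 1),
  (109031, 6, 156103, 17),
  (109033, 6, 247870, 19),
  (109034, 5, 20778, 43),
  (109037, 6, 31194, 19),
  (109038, 5, 63978, 16),
  (109043, 6, 248055, 14),
  (109047, 6, 173289, 22),
  (109049, 6, 251958, 19),
  (109050, 6, 162026, 3),
  (109053, 6, 156125, 17),
  (109054, 6, 194721, 20),
  (109569, 5, 153626, 26),
  (109571, 4, 106842, 21),
  (109573, 5, 180299, 42),
  (109575, 6, 229737, 22),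
  (109585, 6, 132263, 20),
  (109587, 6, 250025, 22),
  (109589, 4, 149786, 26),
  (109591, 4, 45450, 21),
  (109609, 6, 97387, 10),
  (109611, 5, 198043, 37),
  (109613, 5, 5373, 11),
  (109615, 6, 191873, 23),
  (109625, 6, 154074, 26),
  (109627, 6, 146619, 20),
  (109629, 6, 149978, 26),
  (109631, 5, 51341, 41),
  (109633, 4, 133199, 19),
  (109635, 6, 237796, 23),
  (109637, 6, 74212, 23),
  (109639, 6, 205028, 23),
  (109649, 6, 14583, 40),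
  (109651, 6, 87091, 24),
  (109653, 4, 106890, 21),
  (109655, 6, 115060, 23),
  (109673, 5, 180713, 42),
  (109675, 6, 159185, 23),
  (109677, 6, 31947, 5),
  (109679, 6, 125179, 2),
  (109689, 5, 241910, 26),
  (109691, 6, 120115, 24),
  (109693, 6, 241918, 26),
  (109695, 6, 128181, 7),
  (109697, 5, 164941, 44),
  (109699, 7, 153662, 26),
  (109701, 6, 36109, 19),
  (109703, 4, 149566, 26),
  (109713, 6, 33943, 2),
  (109715, 6, 73927, 8),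
  (109717, 5, 180587, 42),
  (109719, 6, 214181, 20),
  (109737, 6, 258133, 25),
  (109739, 6, 159201, 23),
  (109741, 6, 128181, 14),
  (109743, 6, 128183, 14),
  (109753, 6, 97531, 10),
  (109755, 5, 197659, 37),
  (109757, 5, 77867, 39),
  (109759, 6, 119991, 14),
  (109761, 6, 214311, 20),
  (109763, 6, 184769, 22),
  (109765, 4, 14650, 26),
  (109767, 4, 233554, 21),
  (109777, 6, 73927, 15),
  (109779, 7, 172442, 21),
  (109781, 7, 145466, 26),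
  (109783, 6, 164009, 22),
  (109801, 6, 165143, 44),
  (109803, 6, 129490, 26),
  (109805, 6, 191665, 23),
  (109807, 6, 191921, 23),
  (109817, 6, 243954, 26),
  (109819, 6, 126029, 1),
  (109821, 6, 243962, 26),
  (109823, 6, 260314, 26),
  (109833, 6, 239007, 2),
  (109835, 6, 218321, 21),
  (109837, 6, 203859, 8),
  (109839, 6, 200958, 23),
  (109849, 6, 167131, 16),
  (109851, 6, 235770, 23),
  (109853, 6, 239069, 17),
  (109855, 6, 203002, 23),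
  (109857, 6, 159185, 6),
  (109859, 6, 173477, 12),
  (109861, 6, 175351, 16),
  (109863, 6, 175521, 12),
  (109873, 6, 150993, 6),
  (109875, 6, 194986, 21),
  (109877, 6, 129450, 21),
  (109879, 5, 126123, 25),
  (109897, 6, 111086, 23),
  (109899, 5, 78227, 39),
  (109901, 5, 78318, 23),
  (109903, 6, 26879, 38),
  (109913, 6, 208349, 17),
  (109915, 5, 240755, 20),
  (109917, 5, 212173, 3),
  (109919, 6, 211178, 23),
  (109921, 6, 82295, 15),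
  (109923, 6, 113014, 21),
  (109925, 6, 205175, 4),
  (109927, 6, 243830, 21),
  (109937, 6, 199031, 4),
  (109939, 5, 25047, 5),
  (109941, 6, 196983, 4),
  (109943, 6, 125383, 13),
  (109961, 6, 119262, 23),
  (109963, 6, 250078, 23),
  (109965, 6, 175515, 2),
  (109967, 5, 14661, 40),
  (109977, 6, 121127, 19),
  (109979, 6, 240653, 1),
  (109981, 6, 155885, 22),
  (109983, 6, 219354, 23),
  (109985, 5, 240755, 16),
  (109987, 6, 100734, 21),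
  (109989, 5, 25063, 7),
  (109991, 6, 26085, 7),
  (110001, 6, 169455, 20),
  (110003, 6, 205031, 8),
  (110005, 6, 129466, 21),
  (110007, 6, 63930, 21),
  (110025, 6, 77945, 39),
  (110027, 6, 212445, 4),
  (110029, 6, 242901, 14),
  (110031, 6, 174555, 2),
  (110041, 6, 155037, 26),
  (110043, 6, 243029, 12),
  (110045, 5, 244051, 12),
  (110047, 6, 238669, 1),
  (110049, 6, 39414, 21),
  (110051, 6, 60837, 7),
  (110053, 6, 170230, 21),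
  (110055, 6, 231603, 8),
  (110065, 6, 249105, 6),
  (110067, 6, 158205, 23),
  (110069, 6, 239987, 12),
  (110071, 6, 247031, 14),
  (110595, 5, 219, 11),
  (110597, 6, 202770, 26),
  (110598, 6, 157814, 23),
  (110603, 6, 131437, 22),
  (110605, 6, 118827, 24),
  (110606, 5, 180584, 42),
  (110611, 6, 8395, 11),
  (110613, 5, 184334, 19),
  (110614, 4, 203042, 26),
  (110619, 5, 219, 6),
  (110621, 5, 112717, 15),
  (110622, 6, 112790, 16),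
  (110625, 5, 249, 11),
  (110626, 3, 90186, 2),
  (110628, 5, 163894, 38),
  (110631, 6, 205103, 20),
  (110633, 6, 205114, 20),
  (110634, 6, 205116, 20),
  (110636, 6, 184804, 42),
  (110639, 6, 198127, 22),
  (110641, 6, 27783, 23),
  (110642, 4, 199010, 26),
  (110644, 5, 60487, 23),
  (110647, 6, 129457, 25),
  (110649, 5, 127193, 17),
  (110650, 6, 73978, 15),
  (110652, 5, 182326, 44),
  (110655, 5, 116877, 41),
  (110659, 5, 184331, 42),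
  (110661, 4, 84086, 23),
  (110662, 4, 65578, 43),
  (110667, 6, 38107, 1),
  (110669, 7, 39057, 11),
  (110670, 7, 59730, 23),
  (110675, 6, 213046, 23),
  (110677, 7, 184590, 19),
  (110678, 6, 110750, 15),
  (110683, 6, 5337, 16),
  (110685, 5, 184622, 19),
  (110686, 5, 59734, 23),
  (110689, 4, 41430, 26),
  (110690, 5, 49638, 26),
  (110692, 6, 94460, 11),
  (110695, 6, 205231, 20),
  (110697, 4, 192804, 19),
  (110698, 6, 126978, 2),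
  (110700, 4, 252, 2),
  (110703, 5, 126123, 7),
  (110705, 6, 172246, 26),
  (110706, 5, 122906, 2),
  (110708, 6, 82012, 12),
  (110711, 6, 60887, 23),
  (110713, 6, 26775, 23),
  (110714, 6, 75787, 21),
  (110716, 6, 8428, 2),
  (110719, 5, 5373, 16),
  (110723, 6, 98523, 21),
  (110725, 6, 184390, 19),
  (110726, 6, 80086, 13),
  (110731, 6, 74038, 20),
  (110733, 6, 184422, 19),
  (110734, 5, 110806, 12),
  (110739, 6, 38033, 2),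
  (110741, 6, 165209, 21),
  (110742, 6, 116841, 22),
  (110747, 6, 182381, 22),
  (110749, 6, 176155, 21),
  (110750, 5, 106504, 39),
  (110753, 6, 201801, 24),
  (110754, 5, 51538, 44),
  (110756, 6, 110940, 39),
  (110759, 6, 126029, 5),
  (110761, 6, 74042, 20),
  (110762, 4, 198886, 26),
  (110764, 6, 8428, 15),
  (110767, 6, 202998, 26),
  (110769, 6, 90361, 10),
  (110770, 6, 196941, 25),
  (110772, 4, 252, 1),
  (110775, 6, 60903, 23),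
  (110777, 6, 82245, 25),
  (110778, 5, 90396, 20),
  (110780, 6, 82012, 6),
  (110783, 5, 145729, 40),
  (110787, 5, 219, 3),
  (110789, 5, 112717, 12),
  (110790, 6, 112790, 13),
  (110795, 6, 51529, 25),
  (110797, 6, 184678, 19),
  (110798, 6, 39070, 4),
  (110803, 5, 184619, 42),
  (110805, 4, 141466, 26),
  (110806, 4, 131356, 40),
  (110811, 6, 111761, 10),
  (110813, 6, 59638, 23),
  (110814, 6, 10569, 25),
  (110817, 4, 192836, 19),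
  (110818, 6, 37114, 5),
  (110820, 4, 192834, 19),
  (110823, 6, 93261, 5),
  (110825, 6, 74170, 20),
  (110826, 5, 122906, 6),
  (110828, 6, 126988, 14),
  (110831, 6, 125306, 26),
  (110833, 6, 90506, 20),
  (110834, 6, 24810, 3),
  (110836, 5, 149902, 43),
  (110839, 6, 190714, 26),
  (110841, 5, 145745, 40),
  (110842, 3, 90186, 10),
  (110844, 4, 82243, 24),
  (110847, 6, 128181, 10),
  (110849, 5, 473, 11),
  (110850, 4, 474, 11),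
  (110852, 4, 249986, 19),
  (110855, 6, 245141, 2),
  (110857, 6, 139581, 22),
  (110858, 5, 205172, 20),
  (110860, 6, 139740, 6),
  (110863, 5, 116941, 41),
  (110865, 6, 221506, 20),
  (110866, 6, 135642, 6),
  (110868, 6, 66012, 1),
  (110871, 6, 244179, 17),
  (110873, 6, 204873, 8),
  (110874, 6, 242138, 17),
  (110876, 5, 241996, 7),
  (110879, 5, 184489, 42),
  (110883, 6, 258181, 19),
  (110885, 6, 202835, 26),
  (110886, 6, 174270, 7),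
  (110891, 6, 120187, 15),
  (110893, 6, 205179, 20),
  (110894, 6, 205181, 20),
  (110899, 6, 251313, 2),
  (110901, 6, 145717, 40),
  (110902, 5, 110614, 39),
  (110907, 5, 147931, 6),
  (110909, 6, 258222, 19),
  (110910, 5, 20610, 43),
  (110913, 6, 205282, 20),
  (110914, 6, 196826, 3),
  (110916, 5, 111058, 39),
  (110919, 6, 219254, 23),
  (110921, 5, 241921, 10),
  (110922, 6, 37266, 11),
  (110924, 3, 205276, 11),
  (110927, 6, 203953, 26),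
  (110929, 6, 86070, 23),
  (110930, 5, 182326, 38),
  (110932, 6, 205004, 3),
  (110935, 6, 204081, 26),
  (110937, 7, 26782, 23),
  (110938, 5, 26910, 23),
  (110940, 5, 204161, 26),
  (110943, 6, 243821, 22),
  (110947, 6, 28059, 23),
  (110949, 6, 213245, 3),
  (110950, 6, 81367, 25),
  (110955, 6, 144633, 16),
  (110957, 6, 191531, 21),
  (110958, 6, 121246, 4),
  (110963, 6, 122279, 25),
  (110965, 6, 60639, 23),
  (110966, 6, 133510, 37),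
  (110971, 6, 193739, 1),
  (110973, 6, 117057, 41),
  (110974, 5, 254228, 41),
  (110977, 6, 74082, 20),
  (110978, 5, 209242, 6),
  (110980, 6, 205260, 10),
  (110983, 6, 211062, 23),
  (110985, 6, 198807, 26),
  (110986, 5, 26922, 23),
  (110988, 6, 237580, 4),
  (110991, 6, 59882, 23),
  (110993, 4, 250060, 19),
  (110994, 6, 242138, 1),
  (110996, 3, 205276, 10),
  (110999, 5, 212173, 8),
  (111001, 6, 90450, 20),
  (111002, 6, 90452, 20),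
  (111004, 6, 184404, 42),
  (111007, 6, 256109, 22),
  (111011, 5, 212061, 24),
  (111013, 6, 202839, 26),
  (111014, 5, 180478, 3),
  (111019, 6, 192971, 17),
  (111021, 6, 241789, 16),
  (111022, 5, 133250, 37),
  (111027, 6, 191593, 22),
  (111029, 6, 167293, 21),
  (111030, 6, 252090, 14),
  (111035, 6, 213339, 6),
  (111037, 6, 213341, 6),
  (111038, 6, 90461, 20),
  (111041, 5, 250308, 19),
  (111042, 6, 37266, 4),
  (111044, 5, 250306, 19),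
  (111047, 6, 63683, 24),
  (111049, 6, 58427, 21),
  (111050, 5, 151838, 38),
  (111052, 6, 139740, 11),
  (111055, 5, 34269, 13),
  (111057, 4, 69686, 23),
  (111058, 4, 135222, 23),
  (111060, 6, 66012, 12),
  (111063, 6, 90567, 20),
  (111065, 6, 90578, 20),
  (111066, 3, 205274, 1),
  (111068, 5, 20910, 37),
  (111071, 6, 90583, 20),
  (111075, 5, 147707, 3),
  (111077, 6, 147709, 3),
  (111078, 5, 10274, 38),
  (111083, 5, 126011, 21),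
  (111085, 6, 59643, 23),
  (111086, 5, 151798, 3),
  (111091, 6, 200053, 26),
  (111093, 6, 155885, 3),
  (111094, 6, 90573, 20),
  (111099, 6, 238971, 12),
  (111101, 6, 258542, 19),
  (111102, 6, 162266, 17),
  (111617, 5, 149505, 42),
  (111619, 6, 38033, 1),
  (111625, 7, 164141, 22),
  (111627, 6, 164205, 22),
  (111633, 5, 149905, 42),
  (111635, 6, 111827, 17),
  (111641, 6, 38107, 16),
  (111643, 6, 111835, 17),
  (111653, 6, 219218, 26),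
  (111655, 5, 71917, 40),
  (111661, 6, 207163, 20),
  (111663, 5, 126011, 14),
  (111669, 5, 129127, 15),
  (111671, 6, 125369, 25),
  (111677, 6, 23895, 19),
  (111679, 6, 219634, 26),
  (111681, 5, 136593, 43),
  (111683, 6, 33947, 11),
  (111689, 6, 38033, 11),
  (111691, 5, 149509, 42),
  (111697, 6, 137321, 22),
  (111699, 6, 155798, 26),
  (111705, 6, 33945, 6),
  (111707, 5, 136525, 43),
  (111717, 6, 191699, 23),
  (111719, 6, 129271, 2),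
  (111725, 6, 190675, 23),
  (111727, 7, 48505, 19),
  (111733, 5, 5367, 16),
  (111735, 6, 191959, 23),
  (111741, 6, 237694, 26),
  (111743, 6, 254046, 26),
  (111745, 6, 184645, 25),
  (111747, 6, 78921, 24),
  (111753, 6, 33947, 13),
  (111755, 6, 65755, 8),
  (111761, 5, 149793, 42),
  (111763, 6, 111617, 1),
  (111769, 6, 103577, 24),
  (111771, 7, 182317, 22),
  (111781, 5, 126031, 5),
  (111783, 6, 219254, 26),
  (111789, 6, 219350, 26),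
  (111791, 6, 219382, 26),
  (111797, 5, 219478, 26),
  (111799, 6, 219510, 26),
  (111805, 6, 95479, 10),
  (111807, 5, 129111, 5),
  (111809, 6, 38107, 13),
  (111811, 6, 111835, 14),
  (111817, 6, 107675, 21),
  (111819, 6, 184645, 22),
  (111825, 6, 196918, 23),
  (111827, 5, 50387, 44),
  (111833, 6, 38107, 2),
  (111835, 5, 149797, 42),
  (111845, 5, 136553, 43),
  (111847, 5, 75033, 39),
  (111853, 6, 126201, 14),
  (111855, 6, 125274, 26),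
  (111861, 5, 74851, 39),
  (111863, 6, 190682, 26),
  (111869, 6, 128183, 10),
  (111871, 6, 256090, 26),
  (111877, 6, 177367, 16),
  (111879, 6, 3547, 11),
  (111885, 5, 244051, 4),
  (111887, 6, 244127, 2),
  (111893, 7, 223555, 20),
  (111895, 6, 94582, 23),
  (111901, 6, 190670, 23),
  (111903, 6, 167401, 19),
  (111905, 7, 202847, 24),
  (111907, 6, 207214, 20),
  (111913, 6, 90603, 7),
  (111915, 6, 243727, 24),
  (111921, 5, 136201, 43),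
  (111923, 6, 250939, 14),
  (111929, 6, 169211, 16),
  (111931, 5, 128361, 15),
  (111941, 6, 219510, 23),
  (111943, 5, 75161, 39),
  (111949, 6, 190682, 23),
  (111951, 5, 190938, 23),
  (111957, 5, 212433, 17),
  (111959, 6, 243727, 8),
  (111965, 6, 190686, 23),
  (111967, 6, 36329, 19),
  (111969, 6, 205179, 4),
  (111971, 6, 159131, 23),
  (111977, 5, 126123, 21),
  (111979, 6, 216305, 26),
  (111985, 6, 251001, 14),
  (111987, 6, 216433, 26),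
  (111993, 6, 201075, 4),
  (111995, 5, 149765, 42),
  (112005, 6, 211318, 23),
  (112007, 6, 37279, 13),
  (112013, 5, 34207, 13),
  (112015, 6, 190954, 23),
  (112021, 7, 219415, 26),
  (112023, 6, 219447, 26),
  (112029, 6, 42383, 13),
  (112031, 6, 92503, 20),
  (112033, 5, 136195, 43),
  (112035, 6, 212045, 24),
  (112041, 6, 76154, 20),
  (112043, 6, 238889, 12),
  (112049, 6, 92490, 20),
  (112051, 5, 212173, 24),
  (112057, 6, 129211, 21),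
  (112059, 6, 205035, 8),
  (112069, 5, 74867, 39),
  (112071, 5, 74809, 39),
  (112077, 6, 190714, 23),
  (112079, 5, 212433, 4),
  (112085, 6, 243779, 1),
  (112087, 6, 220469, 26),
  (112093, 5, 43273, 41),
  (112095, 6, 190974, 23),
  (112097, 6, 253249, 25),
  (112099, 7, 39379, 24),
  (112105, 6, 126139, 21),
  (112107, 5, 149541, 42),
  (112113, 6, 92618, 20),
  (112115, 6, 90459, 5),
  (112121, 6, 157887, 23),
  (112123, 6, 92638, 20),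
  (112641, 6, 99329, 44),
  (112642, 6, 6481, 25),
  (112645, 5, 112785, 2),
  (112646, 5, 75782, 39),
  (112649, 6, 177419, 21),
  (112650, 5, 237, 22),
  (112653, 6, 165937, 41),
  (112654, 5, 131372, 40),
  (112657, 4, 122934, 23),
  (112658, 5, 188470, 23),
  (112661, 4, 198938, 26),
  (112662, 5, 110806, 17),
  (112665, 6, 203162, 26),
  (112666, 6, 121069, 22),
  (112669, 6, 45323, 21),
  (112670, 6, 178177, 25),
  (112675, 6, 128181, 2),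
  (112679, 6, 200047, 22),
  (112683, 5, 201115, 37),
  (112687, 6, 89489, 20),
  (112691, 6, 193549, 19),
  (112695, 5, 199034, 26),
  (112699, 6, 119997, 2),
  (112703, 5, 57491, 38),
  (112705, 4, 12694, 26),
  (112706, 5, 20902, 26),
  (112709, 5, 99377, 44),
  (112710, 4, 182390, 23),
  (112713, 7, 112641, 10),
  (112714, 5, 2342, 42),
  (112717, 4, 148483, 42),
  (112718, 6, 81997, 22),
  (112721, 6, 119907, 24),
  (112722, 6, 80086, 17),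
  (112725, 6, 177233, 21),
  (112726, 6, 39070, 6),
  (112729, 4, 208918, 26),
  (112730, 5, 110806, 16),
  (112733, 4, 17841, 20),
  (112734, 4, 217134, 26),
  (112739, 6, 35007, 11),
  (112743, 6, 32145, 20),
  (112747, 6, 39095, 11),
  (112751, 6, 89211, 15),
  (112755, 6, 192758, 26),
  (112759, 6, 128191, 7),
  (112763, 5, 165917, 41),
  (112767, 6, 97387, 15),
  (112769, 6, 70761, 24),
  (112770, 6, 39070, 5),
  (112773, 6, 153962, 19),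
  (112774, 6, 110750, 14),
  (112777, 4, 26850, 23),
  (112778, 4, 202926, 26),
  (112781, 4, 198814, 26),
  (112782, 5, 59682, 23),
  (112785, 4, 75921, 39),
  (112786, 6, 139613, 25),
  (112789, 6, 87241, 24),
  (112790, 5, 75926, 39),
  (112793, 6, 99571, 44),
  (112794, 5, 16708, 41),
  (112797, 6, 119945, 24),
  (112798, 5, 147500, 40),
  (112803, 6, 63687, 17),
  (112807, 6, 193607, 19),
  (112811, 6, 128069, 5),
  (112815, 5, 57507, 38),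
  (112819, 6, 203134, 26),
  (112823, 5, 193615, 19),
  (112827, 5, 242873, 24),
  (112831, 6, 199166, 26),
  (112833, 6, 14738, 26),
  (112834, 6, 165942, 23),
  (112837, 6, 168019, 21),
  (112838, 6, 166233, 25),
  (112841, 6, 182286, 19),
  (112842, 6, 110750, 13),
  (112845, 6, 6506, 19),
  (112846, 6, 80086, 12),
  (112849, 5, 13723, 43),
  (112850, 4, 153762, 26),
  (112853, 4, 98422, 23),
  (112854, 4, 163958, 23),
  (112857, 5, 112785, 10),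
  (112858, 5, 139588, 41),
  (112861, 6, 13339, 43),
  (112862, 6, 59702, 23),
  (112867, 6, 155079, 22),
  (112871, 6, 162961, 20),
  (112875, 6, 129394, 26),
  (112879, 6, 117081, 25),
  (112883, 6, 204095, 20),
  (112887, 6, 194810, 26),
  (112891, 5, 22721, 40),
  (112895, 6, 84313, 25),
  (112899, 6, 141821, 22),
  (112903, 5, 201193, 37),
  (112907, 6, 202939, 26),
  (112911, 5, 128299, 21),
  (112915, 6, 111943, 15),
  (112919, 5, 251023, 19),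
  (112923, 5, 200987, 37),
  (112927, 6, 177295, 1),
  (112929, 6, 185595, 20),
  (112930, 6, 162266, 6),
  (112933, 6, 128401, 20),
  (112934, 6, 129425, 20),
  (112937, 6, 193771, 20),
  (112938, 5, 252146, 3),
  (112941, 6, 224483, 25),
  (112942, 6, 121233, 20),
  (112945, 5, 22533, 40),
  (112946, 5, 75866, 39),
  (112949, 5, 148811, 42),
  (112950, 5, 75798, 39),
  (112953, 5, 99507, 44),
  (112954, 5, 200842, 37),
  (112957, 5, 57389, 38),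
  (112958, 5, 151596, 40),
  (112963, 6, 251958, 23),
  (112967, 6, 60817, 20),
  (112971, 5, 251301, 19),
  (112975, 6, 59802, 23),
  (112979, 6, 242701, 8),
  (112983, 6, 249974, 23),
  (112987, 5, 27102, 23),
  (112991, 6, 251311, 19),
  (112993, 7, 198782, 19),
  (112994, 6, 243882, 15),
  (112997, 6, 121309, 13),
  (112998, 6, 194974, 6),
  (113001, 6, 203993, 26),
  (113002, 6, 203991, 25),
  (113005, 6, 174569, 12),
  (113006, 6, 178418, 7),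
  (113009, 6, 129481, 13),
  (113010, 5, 135212, 40),
  (113013, 6, 27097, 5),
  (113014, 5, 49444, 41),
  (113017, 5, 148809, 42),
  (113018, 5, 75794, 39),
  (113021, 5, 13337, 43),
  (113022, 5, 254132, 41),
  (113027, 6, 98811, 21),
  (113031, 6, 243830, 23),
  (113035, 5, 22645, 40),
  (113039, 6, 243159, 4),
  (113043, 6, 241718, 23),
  (113047, 6, 208349, 10),
  (113051, 5, 212433, 10),
  (113055, 5, 57475, 38),
  (113057, 5, 165893, 41),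
  (113058, 5, 260286, 14),
  (113061, 6, 162298, 19),
  (113062, 5, 75910, 39),
  (113065, 5, 99569, 44),
  (113066, 5, 69658, 43),
  (113069, 5, 57373, 38),
  (113070, 5, 135460, 40),
  (113073, 6, 195029, 17),
  (113074, 6, 252094, 14),
  (113077, 6, 158202, 19),
  (113078, 6, 60719, 23),
  (113081, 6, 224429, 22),
  (113082, 6, 178669, 20),
  (113085, 6, 251057, 20),
  (113086, 5, 194790, 3),
  (113091, 6, 162261, 22),
  (113095, 6, 251335, 19),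
  (113099, 6, 251365, 19),
  (113103, 5, 212061, 16),
  (113107, 6, 241049, 10),
  (113111, 6, 191665, 20),
  (113115, 6, 251373, 19),
  (113119, 6, 242767, 1),
  (113121, 6, 251259, 20),
  (113122, 5, 106514, 44),
  (113125, 6, 193681, 20),
  (113126, 5, 180548, 41),
  (113129, 7, 26875, 23),
  (113130, 5, 75906, 39),
  (113133, 5, 99521, 44),
  (113134, 6, 96726, 12),
  (113137, 6, 90461, 5),
  (113138, 6, 178362, 15),
  (113141, 6, 104803, 24),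
  (113142, 6, 60735, 23),
  (113145, 6, 243051, 20),
  (113146, 6, 244077, 20),
  (113149, 6, 185521, 20),
  (113150, 6, 248094, 6),
  (113697, 6, 3325, 11),
  (113699, 6, 219258, 26),
  (113701, 6, 227709, 40),
  (113703, 5, 129203, 2),
  (113705, 6, 128191, 2),
  (113707, 6, 179579, 19),
  (113709, 6, 215258, 26),
  (113711, 5, 5367, 11),
  (113713, 5, 6519, 19),
  (113715, 6, 191867, 19),
  (113717, 6, 217307, 24),
  (113719, 6, 95485, 7),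
  (113721, 6, 97395, 10),
  (113723, 6, 39163, 16),
  (113725, 6, 113035, 21),
  (113727, 6, 87477, 20),
  (113761, 6, 97477, 17),
  (113763, 6, 36031, 11),
  (113765, 6, 249103, 22),
  (113767, 6, 61918, 26),
  (113769, 6, 226351, 20),
  (113771, 6, 228395, 20),
  (113773, 6, 95437, 17),
  (113775, 6, 44427, 21),
  (113777, 5, 126011, 10),
  (113779, 7, 192726, 26),
  (113781, 6, 191639, 23),
  (113783, 6, 112683, 8),
  (113785, 6, 241782, 26),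
  (113787, 6, 97507, 3),
  (113789, 6, 31955, 5),
  (113791, 6, 258142, 26),
  (113825, 6, 258389, 25),
  (113827, 7, 210025, 24),
  (113829, 6, 112683, 12),
  (113831, 6, 162171, 19),
  (113833, 6, 97507, 10),
  (113835, 6, 127047, 5),
  (113837, 6, 215262, 26),
  (113839, 6, 111861, 4),
  (113841, 6, 93435, 10),
  (113843, 6, 159099, 19),
  (113845, 6, 89181, 6),
  (113847, 6, 128005, 1),
  (113849, 6, 128087, 5),
  (113851, 6, 249005, 22),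
  (113853, 6, 126991, 1),
  (113855, 6, 115903, 14),
  (113889, 5, 126123, 10),
  (113891, 6, 63954, 26),
  (113893, 6, 93259, 5),
  (113895, 6, 191923, 23),
  (113897, 6, 95303, 5),
  (113899, 6, 175515, 21),
  (113901, 6, 113018, 26),
  (113903, 6, 255415, 44),
  (113905, 6, 178418, 26),
  (113907, 6, 194770, 26),
  (113909, 6, 127047, 1),
  (113911, 6, 128069, 1),
  (113913, 6, 243826, 26),
  (113915, 5, 129203, 10),
  (113917, 5, 243834, 26),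
  (113919, 6, 260186, 26),
  (113921, 6, 260406, 23),
  (113923, 5, 129334, 23),
  (113925, 6, 239933, 22),
  (113927, 6, 129398, 23),
  (113929, 6, 101787, 13),
  (113931, 6, 7639, 11),
  (113933, 6, 162923, 25),
  (113935, 6, 243029, 4),
  (113937, 6, 258358, 23),
  (113939, 6, 81373, 7),
  (113941, 6, 240845, 3),
  (113943, 6, 243159, 17),
  (113945, 6, 173287, 20),
  (113947, 6, 112815, 24),
  (113949, 6, 207947, 8),
  (113951, 6, 190862, 23),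
  (113985, 6, 243159, 2),
  (113987, 6, 242135, 2),
  (113989, 6, 252278, 23),
  (113991, 5, 34207, 11),
  (113993, 6, 240733, 14),
  (113995, 6, 175515, 6),
  (113997, 6, 216141, 19),
  (113999, 6, 38295, 11),
  (114001, 6, 113055, 7),
  (114003, 6, 220473, 26),
  (114005, 6, 145641, 22),
  (114007, 6, 60719, 25),
  (114009, 6, 212445, 17),
  (114011, 6, 188843, 21),
  (114013, 6, 220229, 19),
  (114015, 5, 35307, 19),
  (114049, 6, 226317, 43),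
  (114051, 6, 112950, 23),
  (114053, 6, 89181, 24),
  (114055, 6, 239069, 4),
  (114057, 6, 111943, 5),
  (114059, 6, 158186, 23),
  (114061, 6, 242135, 4),
  (114063, 6, 137707, 19),
  (114065, 6, 165367, 20),
  (114067, 6, 112069, 15),
  (114069, 6, 165113, 21),
  (114071, 6, 215359, 26),
  (114073, 6, 243727, 1),
  (114075, 6, 134635, 19),
  (114077, 6, 241679, 1),
  (114079, 6, 242701, 1),
  (114113, 6, 247159, 20),
  (114115, 6, 39387, 13),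
  (114117, 6, 235894, 23),
  (114119, 6, 216125, 26),
  (114121, 6, 247823, 19),
  (114123, 6, 158202, 23),
  (114125, 7, 14579, 24),
  (114127, 6, 258389, 22),
  (114129, 6, 203859, 16),
  (114131, 6, 163161, 25),
  (114133, 6, 241735, 1),
  (114135, 6, 189621, 20),
  (114137, 5, 243791, 1),
  (114139, 6, 256025, 41),
  (114141, 6, 190654, 23),
  (114143, 6, 244119, 10),
  (114689, 5, 65713, 23),
  (114690, 5, 131377, 23),
  (114692, 5, 38914, 26),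
  (114695, 6, 197098, 22),
  (114696, 7, 180560, 19),
  (114699, 6, 119883, 4),
  (114701, 6, 6481, 21),
  (114702, 6, 35050, 8),
  (114704, 5, 155694, 39),
  (114707, 6, 24803, 6),
  (114709, 6, 24805, 6),
  (114710, 6, 6546, 21),
  (114713, 6, 127153, 13),
  (114714, 3, 90186, 13),
  (114716, 5, 172090, 19),
  (114719, 6, 128181, 13),
  (114721, 4, 90161, 23),
  (114722, 4, 155697, 23),
  (114724, 4, 38978, 26),
  (114727, 5, 231, 6),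
  (114728, 6, 20526, 22),
  (114731, 6, 35058, 26),
  (114733, 4, 217134, 22),
  (114734, 6, 39138, 26),
  (114736, 6, 98480, 8),
  (114739, 6, 34033, 5),
  (114741, 6, 6486, 21),
  (114742, 6, 82166, 15),
  (114745, 5, 127193, 3),
  (114746, 6, 126978, 14),
  (114748, 3, 90188, 5),
  (114751, 6, 39410, 26),
  (114753, 4, 8278, 26),
  (114754, 4, 139553, 23),
  (114756, 4, 78, 26),
  (114759, 6, 201095, 20),
  (114760, 6, 204824, 20),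
  (114763, 3, 90358, 26),
  (114765, 5, 120897, 38),
  (114766, 6, 116910, 4),
  (114768, 5, 4518, 44),
  (114771, 4, 156022, 26),
  (114773, 6, 6490, 21),
  (114774, 6, 47317, 25),
  (114777, 4, 205270, 26),
  (114778, 3, 213478, 26),
  (114780, 6, 43047, 23),
  (114783, 6, 6619, 21),
  (114785, 4, 81969, 23),
  (114786, 4, 147505, 23),
  (114788, 5, 32782, 26),
  (114791, 6, 237580, 21),
  (114792, 6, 4142, 22),
  (114795, 4, 201118, 20),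
  (114797, 4, 164150, 19),
  (114798, 6, 6374, 10),
  (114800, 6, 82000, 1),
  (114803, 6, 6366, 21),
  (114805, 6, 24805, 16),
  (114806, 6, 124994, 14),
  (114809, 6, 237974, 26),
  (114810, 5, 26978, 42),
  (114812, 6, 53460, 4),
  (114815, 6, 111861, 13),
  (114817, 4, 82065, 23),
  (114818, 5, 147729, 23),
  (114820, 3, 38918, 26),
  (114823, 5, 38966, 26),
  (114824, 6, 139672, 20),
  (114827, 6, 14529, 21),
  (114829, 6, 185705, 24),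
  (114830, 6, 88298, 2),
  (114832, 6, 82000, 3),
  (114835, 6, 54537, 22),
  (114837, 6, 116885, 23),
  (114838, 6, 39206, 26),
  (114841, 7, 23821, 22),
  (114842, 6, 94298, 11),
  (114844, 6, 39302, 26),
  (114847, 5, 126011, 1),
  (114849, 4, 73777, 23),
  (114850, 4, 139313, 23),
  (114852, 4, 38982, 26),
  (114855, 4, 241692, 21),
  (114856, 6, 163952, 19),
  (114859, 5, 121061, 38),
  (114861, 4, 163958, 19),
  (114862, 6, 35050, 17),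
  (114864, 6, 98480, 11),
  (114867, 7, 86318, 20),
  (114869, 6, 39254, 26),
  (114870, 6, 39270, 26),
  (114873, 6, 38345, 24),
  (114874, 5, 122906, 9),
  (114876, 6, 90316, 5),
  (114879, 6, 39414, 26),
  (114881, 4, 90241, 23),
  (114882, 4, 155905, 23),
  (114884, 5, 2122, 26),
  (114887, 5, 231, 3),
  (114888, 6, 22530, 22),
  (114891, 7, 153922, 22),
  (114893, 5, 120841, 11),
  (114894, 6, 120842, 11),
  (114896, 6, 98480, 10),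
  (114899, 6, 158066, 26),
  (114901, 6, 90181, 16),
  (114902, 6, 8438, 3),
  (114905, 5, 172412, 19),
  (114906, 6, 37114, 16),
  (114908, 3, 90188, 16),
  (114911, 6, 14795, 21),
  (114913, 4, 65585, 23),
  (114914, 4, 131121, 23),
  (114916, 4, 34826, 26),
  (114919, 7, 59450, 26),
  (114920, 7, 100482, 26),
  (114923, 5, 235, 17),
  (114925, 6, 108698, 26),
  (114926, 6, 34990, 4),
  (114928, 6, 98480, 2),
  (114931, 6, 107635, 1),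
  (114933, 6, 217475, 24),
  (114934, 6, 43190, 4),
  (114937, 5, 249, 17),
  (114938, 3, 90186, 8),
  (114940, 6, 231818, 26),
  (114943, 6, 86463, 20),
  (114947, 6, 139642, 22),
  (114949, 5, 172412, 21),
  (114950, 6, 73978, 22),
  (114953, 6, 201042, 20),
  (114954, 6, 246250, 17),
  (114956, 6, 142739, 25),
  (114959, 6, 220229, 8),
  (114961, 6, 137615, 24),
  (114962, 6, 156130, 6),
  (114964, 4, 22802, 21),
  (114967, 6, 191667, 1),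
  (114968, 6, 147928, 3),
  (114971, 5, 128433, 13),
  (114973, 6, 243745, 14),
  (114974, 6, 43498, 8),
  (114979, 6, 34273, 5),
  (114981, 6, 94321, 23),
  (114982, 4, 127082, 22),
  (114985, 5, 250217, 4),
  (114986, 4, 201052, 20),
  (114988, 3, 213068, 5),
  (114991, 6, 249229, 2),
  (114993, 6, 117859, 25),
  (114994, 6, 213234, 15),
  (114996, 6, 90596, 1),
  (114999, 5, 120937, 38),
  (115000, 6, 35267, 26),
  (115003, 6, 228403, 23),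
  (115005, 6, 97395, 23),
  (115006, 6, 194734, 7),
  (115011, 5, 146435, 24),
  (115013, 6, 237974, 19),
  (115014, 6, 215522, 17),
  (115017, 6, 213481, 17),
  (115018, 4, 490, 8),
  (115020, 6, 249932, 17),
  (115023, 6, 238007, 19),
  (115025, 6, 36113, 26),
  (115026, 4, 22682, 21),
  (115028, 6, 90468, 12),
  (115031, 6, 77175, 15),
  (115032, 6, 74104, 15),
  (115035, 6, 22747, 21),
  (115037, 6, 191991, 25),
  (115038, 6, 243810, 14),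
  (115043, 6, 146691, 24),
  (115045, 4, 229782, 19),
  (115046, 6, 231458, 2),
  (115049, 6, 87091, 23),
  (115050, 6, 249922, 14),
  (115052, 6, 22813, 21),
  (115055, 6, 218227, 23),
  (115057, 6, 155873, 16),
  (115058, 5, 213330, 1),
  (115060, 5, 205172, 7),
  (115063, 5, 120869, 38),
  (115064, 6, 23603, 23),
  (115067, 7, 253287, 25),
  (115069, 6, 155885, 16),
  (115070, 5, 219478, 1),
  (115075, 4, 143730, 22),
  (115077, 6, 118937, 23),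
  (115078, 5, 151838, 39),
  (115081, 5, 145714, 22),
  (115082, 6, 197773, 25),
  (115084, 6, 196844, 5),
  (115087, 6, 39095, 26),
  (115089, 5, 120961, 38),
  (115090, 6, 213234, 2),
  (115092, 6, 205028, 5),
  (115095, 6, 39223, 26),
  (115096, 6, 23581, 22),
  (115099, 6, 179677, 24),
  (115101, 6, 39319, 26),
  (115102, 6, 39335, 26),
  (115107, 5, 127036, 21),
  (115109, 4, 192572, 21),
  (115110, 6, 229587, 19),
  (115113, 4, 69978, 20),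
  (115114, 4, 490, 4),
  (115116, 6, 249860, 4),
  (115119, 5, 220389, 8),
  (115121, 4, 86378, 20),
  (115122, 6, 205154, 6),
  (115124, 5, 229594, 19),
  (115127, 6, 191877, 2),
  (115128, 6, 155864, 12),
  (115131, 6, 212019, 23),
  (115133, 6, 229630, 19),
  (115134, 5, 151798, 15),
  (115139, 6, 145411, 24),
  (115141, 5, 93313, 25),
  (115142, 6, 201140, 21),
  (115145, 4, 162066, 22),
  (115146, 5, 250146, 6),
  (115148, 3, 213068, 16),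
  (115151, 6, 238071, 19),
  (115153, 6, 30794, 21),
  (115154, 5, 90594, 12),
  (115156, 6, 90596, 12),
  (115159, 6, 31178, 21),
  (115160, 6, 232577, 25),
  (115163, 6, 119905, 37),
  (115165, 6, 40341, 26),
  (115166, 6, 252090, 2),
  (115171, 6, 34273, 13),
  (115173, 6, 27777, 25),
  (115174, 6, 229670, 6),
  (115177, 6, 229876, 19),
  (115178, 6, 82250, 8),
  (115180, 5, 190806, 42),
  (115183, 6, 220651, 4),
  (115185, 6, 90577, 15),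
  (115186, 4, 86508, 20),
  (115188, 6, 90484, 2),
  (115191, 5, 240755, 1),
  (115192, 6, 147704, 6),
  (115195, 6, 86526, 20),
  (115197, 6, 252291, 24),
  (115198, 5, 78318, 12),
  (115717, 7, 172508, 21),
  (115719, 5, 237916, 21),
  (115721, 6, 166186, 22),
  (115723, 7, 203030, 20),
  (115729, 6, 71762, 21),
  (115731, 6, 21825, 22),
  (115741, 6, 128183, 13),
  (115743, 6, 24005, 22),
  (115749, 6, 36071, 5),
  (115751, 5, 249898, 22),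
  (115753, 4, 51410, 26),
  (115755, 6, 71893, 21),
  (115761, 5, 219434, 20),
  (115763, 6, 116841, 25),
  (115773, 6, 55762, 26),
  (115775, 6, 61931, 24),
  (115781, 6, 8318, 26),
  (115783, 6, 242004, 21),
  (115785, 5, 233633, 41),
  (115787, 6, 90326, 26),
  (115793, 6, 139638, 26),
  (115795, 6, 39249, 19),
  (115805, 6, 103487, 10),
  (115807, 6, 127223, 13),
  (115813, 4, 237708, 21),
  (115815, 6, 44353, 19),
  (115817, 5, 119873, 14),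
  (115819, 6, 83251, 23),
  (115825, 6, 54627, 22),
  (115827, 6, 24803, 16),
  (115837, 5, 76997, 44),
  (115839, 7, 219583, 20),
  (115845, 6, 233890, 22),
  (115847, 6, 71943, 20),
  (115849, 7, 71954, 20),
  (115851, 4, 51382, 26),
  (115857, 5, 76867, 44),
  (115859, 6, 80066, 21),
  (115869, 6, 258181, 25),
  (115871, 6, 88375, 20),
  (115877, 6, 213098, 22),
  (115879, 6, 142657, 19),
  (115881, 6, 71962, 20),
  (115883, 4, 71966, 20),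
  (115889, 6, 34033, 17),
  (115891, 4, 88366, 20),
  (115901, 6, 36089, 17),
  (115903, 5, 144521, 42),
  (115909, 6, 36071, 2),
  (115911, 4, 3409, 19),
  (115913, 4, 72082, 20),
  (115915, 5, 119873, 12),
  (115921, 5, 141682, 26),
  (115923, 6, 6481, 19),
  (115933, 6, 125319, 23),
  (115935, 6, 80331, 21),
  (115941, 5, 88293, 37),
  (115943, 6, 59418, 26),
  (115945, 6, 131182, 22),
  (115947, 6, 168211, 24),
  (115953, 6, 79950, 21),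
  (115955, 6, 21867, 22),
  (115965, 6, 240058, 26),
  (115967, 6, 250259, 24),
  (115969, 6, 51219, 26),
  (115971, 4, 106620, 21),
  (115981, 6, 93543, 19),
  (115983, 5, 115891, 38),
  (115989, 7, 219491, 20),
  (115991, 6, 196983, 10),
  (115993, 6, 219506, 20),
  (115995, 6, 242939, 3),
  (116001, 6, 181475, 16),
  (116003, 6, 203086, 20),
  (116013, 6, 203099, 20),
  (116015, 6, 88533, 21),
  (116021, 6, 88406, 21),
  (116023, 6, 213335, 10),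
  (116025, 6, 219514, 20),
  (116027, 5, 174109, 39),
  (116033, 6, 203202, 20),
  (116035, 6, 203206, 20),
  (116045, 6, 256410, 22),
  (116047, 6, 216555, 17),
  (116053, 6, 60817, 11),
  (116055, 6, 88538, 21),
  (116057, 6, 219634, 20),
  (116059, 6, 210171, 3),
  (116065, 4, 143466, 22),
  (116067, 5, 144539, 42),
  (116077, 5, 251151, 10),
  (116079, 6, 88541, 21),
  (116085, 6, 173477, 6),
  (116087, 6, 118161, 7),
  (116089, 5, 233697, 41),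
  (116091, 5, 88257, 37),
  (116097, 6, 230561, 14),
  (116099, 7, 98428, 21),
  (116109, 6, 244146, 22),
  (116111, 6, 244210, 22),
  (116117, 5, 174413, 39),
  (116119, 5, 88169, 37),
  (116121, 6, 120187, 5),
  (116123, 6, 177403, 3),
  (116129, 6, 7453, 24),
  (116131, 6, 51319, 26),
  (116141, 6, 38311, 13),
  (116143, 6, 118221, 15),
  (116149, 6, 189653, 3),
  (116151, 6, 240689, 1),
  (116153, 6, 88442, 20),
  (116155, 6, 251185, 12),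
  (116161, 6, 52245, 26),
  (116163, 4, 102516, 21),
  (116173, 5, 144771, 42),
  (116175, 6, 260562, 22),
  (116181, 5, 88165, 37),
  (116183, 6, 96714, 21),
  (116185, 6, 144633, 3),
  (116187, 6, 88566, 20),
  (116193, 6, 139370, 22),
  (116195, 6, 72142, 20),
  (116205, 6, 252263, 12),
  (116207, 6, 37351, 13),
  (116213, 6, 96590, 21),
  (116215, 6, 64649, 25),
  (116217, 6, 242977, 6),
  (116219, 7, 52725, 26),
  (116739, 6, 117831, 4),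
  (116743, 6, 30881, 25),
  (116745, 5, 116813, 37),
  (116746, 6, 39082, 26),
  (116749, 6, 34970, 26),
  (116750, 5, 33042, 39),
  (116753, 6, 124997, 4)]

theorem chk_rows2_12 : rows2_12.all (rowBP tr2 gensLitP 72) = true := by decide +kernel

/-- Rows 19500 to 20999. -/
def rows2_13 : List (ℕ × ℕ × ℕ × ℕ) := [(116754, 3, 90358, 4),
  (116757, 6, 151947, 24),
  (116758, 5, 51538, 39),
  (116763, 6, 112891, 3),
  (116767, 5, 195041, 25),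
  (116771, 6, 39034, 26),
  (116775, 6, 34938, 26),
  (116777, 6, 37227, 24),
  (116778, 6, 145557, 20),
  (116781, 6, 35034, 26),
  (116782, 6, 35050, 26),
  (116785, 6, 152707, 20),
  (116786, 6, 39274, 26),
  (116789, 6, 35162, 26),
  (116790, 5, 137622, 21),
  (116795, 6, 129031, 14),
  (116799, 6, 89181, 10),
  (116803, 7, 111060, 21),
  (116807, 5, 117989, 13),
  (116809, 6, 137305, 21),
  (116810, 6, 131176, 43),
  (116813, 4, 215306, 22),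
  (116814, 7, 173091, 24),
  (116817, 6, 73845, 15),
  (116818, 5, 137370, 21),
  (116821, 6, 90181, 4),
  (116822, 6, 82166, 17),
  (116827, 6, 97359, 4),
  (116831, 6, 27853, 16),
  (116835, 6, 36071, 1),
  (116839, 6, 3465, 20),
  (116841, 5, 120841, 10),
  (116842, 6, 121062, 5),
  (116845, 6, 110750, 26),
  (116846, 6, 173347, 24),
  (116849, 5, 245, 5),
  (116850, 6, 8438, 10),
  (116853, 6, 1449, 20),
  (116854, 5, 184622, 26),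
  (116859, 5, 5373, 5),
  (116863, 6, 127047, 14),
  (116867, 4, 98780, 21),
  (116871, 5, 201058, 22),
  (116873, 6, 39070, 26),
  (116874, 6, 173169, 19),
  (116877, 4, 203042, 22),
  (116878, 6, 196765, 25),
  (116881, 5, 184331, 43),
  (116882, 4, 145538, 21),
  (116885, 5, 245, 7),
  (116886, 6, 82166, 2),
  (116891, 6, 173181, 19),
  (116895, 5, 5367, 7),
  (116899, 4, 245994, 22),
  (116903, 6, 199817, 20),
  (116905, 6, 39073, 13),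
  (116906, 7, 42353, 24),
  (116909, 6, 107635, 23),
  (116910, 5, 143364, 42),
  (116913, 6, 90357, 8),
  (116914, 6, 8438, 4),
  (116917, 6, 49301, 25),
  (116918, 5, 57526, 5),
  (116923, 6, 109631, 1),
  (116927, 5, 240755, 23),
  (116931, 6, 102868, 21),
  (116935, 6, 30842, 26),
  (116937, 6, 190502, 19),
  (116938, 6, 6378, 3),
  (116941, 4, 18770, 19),
  (116942, 6, 88298, 26),
  (116945, 6, 178190, 19),
  (116946, 5, 57526, 4),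
  (116949, 5, 184619, 43),
  (116950, 6, 124994, 7),
  (116955, 6, 145611, 21),
  (116959, 6, 145867, 21),
  (116963, 6, 63538, 26),
  (116967, 5, 231, 17),
  (116969, 6, 145485, 21),
  (116970, 6, 16744, 43),
  (116973, 5, 237, 17),
  (116974, 6, 121002, 26),
  (116977, 6, 87339, 22),
  (116978, 6, 165209, 19),
  (116981, 5, 245, 17),
  (116982, 4, 90182, 8),
  (116987, 6, 128181, 8),
  (116991, 6, 122287, 22),
  (116993, 6, 41340, 21),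
  (116994, 5, 166306, 9),
  (116997, 6, 205114, 22),
  (116998, 6, 246246, 17),
  (117003, 6, 141818, 22),
  (117007, 6, 154065, 21),
  (117011, 6, 183503, 20),
  (117015, 5, 25047, 11),
  (117017, 6, 129457, 13),
  (117018, 6, 192758, 10),
  (117021, 6, 186834, 19),
  (117022, 5, 194698, 7),
  (117025, 6, 85043, 25),
  (117026, 6, 184804, 43),
  (117029, 6, 159914, 22),
  (117030, 6, 196710, 2),
  (117035, 6, 39163, 26),
  (117039, 6, 118091, 15),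
  (117043, 6, 187591, 20),
  (117047, 6, 154070, 21),
  (117049, 5, 116941, 37),
  (117050, 6, 39403, 26),
  (117053, 6, 195010, 19),
  (117054, 5, 133250, 40),
  (117057, 5, 156058, 22),
  (117058, 5, 238993, 19),
  (117061, 7, 247809, 8),
  (117062, 3, 213478, 17),
  (117067, 6, 145717, 42),
  (117071, 6, 209387, 23),
  (117075, 6, 248911, 20),
  (117079, 6, 239007, 19),
  (117081, 5, 74109, 15),
  (117082, 5, 110614, 41),
  (117085, 5, 194981, 6),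
  (117086, 6, 61854, 11),
  (117089, 5, 247877, 14),
  (117090, 5, 182326, 39),
  (117093, 6, 118897, 23),
  (117094, 6, 246246, 5),
  (117099, 6, 241902, 22),
  (117103, 6, 36089, 26),
  (117107, 5, 116877, 37),
  (117111, 5, 145729, 42),
  (117113, 5, 184489, 43),
  (117114, 5, 20610, 38),
  (117117, 6, 42409, 20),
  (117118, 6, 36329, 26),
  (117121, 4, 108806, 19),
  (117122, 6, 33190, 16),
  (117125, 5, 247877, 16),
  (117126, 5, 77938, 22),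
  (117131, 6, 7655, 7),
  (117135, 6, 5607, 7),
  (117139, 6, 39231, 26),
  (117143, 6, 219613, 23),
  (117145, 6, 129326, 19),
  (117146, 6, 190941, 20),
  (117149, 6, 178429, 3),
  (117150, 5, 10274, 44),
  (117153, 6, 25749, 25),
  (117154, 3, 213478, 13),
  (117157, 6, 155818, 22),
  (117158, 6, 215522, 13),
  (117163, 6, 242739, 23),
  (117167, 6, 230647, 19),
  (117171, 5, 240695, 1),
  (117175, 6, 162246, 21),
  (117177, 6, 161863, 21),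
  (117178, 6, 113130, 12),
  (117181, 6, 252209, 12),
  (117182, 5, 260138, 7),
  (117185, 7, 160146, 22),
  (117186, 6, 245830, 7),
  (117189, 4, 168052, 21),
  (117190, 5, 149902, 38),
  (117195, 6, 161993, 21),
  (117199, 6, 38311, 7),
  (117203, 6, 239069, 19),
  (117207, 6, 162250, 21),
  (117209, 6, 161867, 21),
  (117210, 6, 133510, 40),
  (117213, 6, 36253, 26),
  (117214, 6, 232601, 25),
  (117217, 5, 204970, 22),
  (117218, 6, 33190, 4),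
  (117221, 6, 102513, 23),
  (117222, 4, 41194, 22),
  (117227, 6, 117057, 37),
  (117231, 6, 230903, 19),
  (117235, 6, 240759, 1),
  (117239, 6, 257201, 8),
  (117241, 6, 252323, 24),
  (117242, 5, 254228, 37),
  (117245, 6, 36317, 26),
  (117246, 6, 186550, 15),
  (117761, 5, 102401, 43),
  (117763, 4, 164330, 22),
  (117765, 5, 53665, 41),
  (117767, 6, 51258, 26),
  (117785, 6, 55706, 26),
  (117787, 5, 129203, 13),
  (117789, 6, 51610, 26),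
  (117791, 6, 192971, 24),
  (117793, 6, 136327, 20),
  (117795, 6, 55418, 26),
  (117797, 6, 11605, 19),
  (117799, 4, 45452, 21),
  (117817, 6, 202839, 21),
  (117819, 6, 55802, 26),
  (117821, 6, 97395, 8),
  (117823, 5, 83237, 37),
  (117825, 4, 141383, 19),
  (117827, 6, 36179, 19),
  (117829, 4, 246026, 22),
  (117831, 5, 102529, 43),
  (117849, 6, 209398, 26),
  (117851, 6, 182781, 25),
  (117853, 5, 242867, 24),
  (117855, 6, 129271, 13),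
  (117857, 5, 200938, 22),
  (117859, 5, 231, 5),
  (117861, 6, 45118, 26),
  (117863, 6, 168106, 22),
  (117881, 6, 252285, 25),
  (117883, 6, 258454, 26),
  (117885, 6, 128069, 14),
  (117887, 6, 42237, 1),
  (117889, 6, 33244, 21),
  (117891, 6, 134483, 19),
  (117893, 5, 231, 7),
  (117895, 6, 36071, 3),
  (117913, 6, 52477, 17),
  (117915, 6, 7413, 7),
  (117917, 5, 126031, 16),
  (117919, 5, 51646, 26),
  (117921, 5, 231, 9),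
  (117923, 5, 117989, 4),
  (117925, 6, 237937, 23),
  (117927, 6, 197773, 20),
  (117945, 6, 95479, 8),
  (117947, 5, 53539, 41),
  (117949, 5, 83027, 37),
  (117951, 6, 109939, 23),
  (117953, 6, 197903, 20),
  (117955, 6, 30802, 26),
  (117957, 5, 175109, 19),
  (117959, 4, 233556, 21),
  (117977, 6, 39095, 7),
  (117979, 6, 250035, 24),
  (117981, 6, 252049, 25),
  (117983, 6, 63735, 13),
  (117985, 6, 237980, 21),
  (117987, 4, 172444, 21),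
  (117989, 4, 172317, 42),
  (117991, 4, 164010, 22),
  (118009, 5, 102565, 43),
  (118011, 6, 119925, 12),
  (118013, 6, 244154, 26),
  (118015, 5, 129203, 8),
  (118025, 6, 249325, 17),
  (118027, 6, 99693, 15),
  (118029, 6, 100715, 15),
  (118031, 5, 102507, 43),
  (118033, 6, 159201, 6),
  (118035, 7, 87377, 22),
  (118037, 6, 120273, 22),
  (118039, 6, 87505, 22),
  (118057, 6, 177367, 20),
  (118059, 6, 191939, 19),
  (118061, 5, 11475, 40),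
  (118063, 5, 102501, 43),
  (118065, 5, 102409, 43),
  (118067, 6, 219350, 21),
  (118069, 5, 219478, 21),
  (118071, 6, 219606, 21),
  (118089, 6, 216557, 17),
  (118091, 5, 143763, 39),
  (118093, 7, 48525, 20),
  (118095, 6, 256346, 22),
  (118097, 6, 113133, 23),
  (118099, 6, 243949, 23),
  (118101, 6, 212045, 19),
  (118103, 5, 134473, 44),
  (118121, 5, 84359, 38),
  (118123, 6, 219357, 21),
  (118125, 6, 250949, 14),
  (118127, 6, 252175, 10),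
  (118129, 6, 252209, 23),
  (118131, 5, 143445, 39),
  (118133, 5, 212061, 19),
  (118135, 5, 102537, 43),
  (118153, 6, 178610, 22),
  (118155, 6, 247883, 16),
  (118157, 6, 248911, 16),
  (118159, 6, 244082, 22),
  (118161, 5, 102465, 43),
  (118163, 6, 93527, 11),
  (118165, 6, 155037, 24),
  (118167, 5, 163213, 24),
  (118185, 6, 125239, 19),
  (118187, 6, 247915, 16),
  (118189, 6, 126261, 19),
  (118191, 6, 64845, 24),
  (118193, 6, 227398, 21),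
  (118195, 6, 112945, 23),
  (118197, 6, 120283, 22),
  (118199, 6, 126417, 15),
  (118217, 6, 194611, 24),
  (118219, 6, 195026, 22),
  (118221, 5, 53571, 41),
  (118223, 6, 38309, 7),
  (118225, 6, 243727, 19),
  (118227, 6, 82295, 5),
  (118229, 6, 227658, 21),
  (118231, 5, 102593, 43),
  (118249, 6, 216171, 16),
  (118251, 6, 232557, 1),
  (118253, 6, 227661, 21),
  (118255, 6, 218605, 4),
  (118257, 5, 249235, 10),
  (118259, 6, 257223, 14),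
  (118261, 6, 227662, 21),
  (118263, 6, 52605, 26),
  (118787, 6, 143707, 24),
  (118789, 6, 172381, 21),
  (118790, 6, 205213, 21),
  (118795, 7, 131438, 22),
  (118797, 5, 188470, 19),
  (118798, 6, 210957, 21),
  (118801, 6, 100626, 26),
  (118802, 6, 139731, 24),
  (118804, 6, 90316, 1),
  (118807, 6, 112683, 14),
  (118809, 6, 68791, 23),
  (118810, 6, 24810, 6),
  (118812, 6, 20732, 14),
  (118815, 6, 104882, 26),
  (118819, 6, 209166, 20),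
  (118821, 5, 120841, 14),
  (118822, 6, 120842, 14),
  (118827, 5, 235, 6),
  (118829, 5, 237, 6),
  (118830, 6, 208909, 21),
  (118833, 5, 85281, 37),
  (118834, 5, 176586, 39),
  (118836, 6, 82012, 10),
  (118839, 6, 129035, 14),
  (118841, 6, 37259, 24),
  (118842, 4, 100834, 26),
  (118844, 6, 8428, 6),
  (118847, 6, 242701, 21),
  (118851, 5, 209286, 20),
  (118853, 7, 8414, 26),
  (118854, 6, 189507, 24),
  (118859, 6, 188725, 19),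
  (118861, 6, 209299, 20),
  (118862, 6, 6378, 8),
  (118865, 4, 188700, 19),
  (118866, 6, 126978, 13),
  (118868, 6, 131534, 26),
  (118871, 5, 118989, 43),
  (118873, 6, 225714, 20),
  (118874, 6, 61586, 11),
  (118876, 6, 127060, 17),
  (118879, 6, 240653, 21),
  (118883, 5, 57526, 26),
  (118885, 6, 178513, 21),
  (118886, 6, 211345, 21),
  (118891, 4, 122934, 26),
  (118893, 6, 209307, 20),
  (118894, 6, 204813, 21),
  (118897, 5, 249, 5),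
  (118898, 6, 127050, 14),
  (118900, 4, 180506, 19),
  (118903, 6, 3325, 5),
  (118905, 7, 225722, 20),
  (118906, 6, 225724, 20),
  (118908, 6, 126988, 5),
  (118911, 6, 7413, 5),
  (118915, 5, 119873, 16),
  (118917, 6, 188502, 19),
  (118918, 6, 34990, 16),
  (118923, 6, 177433, 24),
  (118925, 5, 201126, 22),
  (118926, 6, 189745, 24),
  (118929, 6, 85141, 23),
  (118930, 5, 100646, 26),
  (118932, 6, 52245, 23),
  (118935, 6, 128069, 16),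
  (118937, 5, 249, 7),
  (118938, 6, 126978, 7),
  (118940, 5, 59670, 44),
  (118943, 6, 104886, 26),
  (118947, 6, 13657, 24),
  (118949, 6, 166233, 21),
  (118950, 6, 6374, 4),
  (118955, 5, 176413, 39),
  (118957, 6, 176157, 21),
  (118958, 6, 180339, 19),
  (118961, 6, 180316, 19),
  (118962, 6, 141363, 23),
  (118964, 6, 20732, 15),
  (118967, 6, 206963, 23),
  (118969, 5, 127193, 15),
  (118970, 6, 37114, 17),
  (118972, 5, 180346, 19),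
  (118975, 6, 39163, 17),
  (118979, 5, 235, 3),
  (118981, 5, 237, 3),
  (118982, 6, 188483, 24),
  (118987, 6, 188789, 19),
  (118989, 4, 217478, 22),
  (118990, 6, 155715, 24),
  (118993, 5, 188764, 19),
  (118994, 5, 203050, 37),
  (118996, 6, 90348, 12),
  (118999, 6, 158202, 26),
  (119001, 5, 207186, 26),
  (119002, 6, 158983, 23),
  (119004, 6, 8428, 11),
  (119007, 6, 95309, 16),
  (119011, 6, 176451, 24),
  (119013, 5, 176413, 42),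
  (119014, 6, 188739, 24),
  (119019, 6, 78238, 20),
  (119021, 6, 180598, 19),
  (119022, 6, 6378, 17),
  (119025, 6, 233923, 24),
  (119026, 6, 238019, 24),
  (119028, 5, 219302, 38),
  (119031, 7, 190906, 26),
  (119033, 6, 68657, 23),
  (119034, 6, 94282, 8),
  (119036, 6, 3185, 23),
  (119039, 6, 97507, 4),
  (119041, 6, 141630, 22),
  (119042, 6, 213098, 2),
  (119044, 6, 139581, 21),
  (119047, 6, 185541, 16),
  (119049, 4, 209234, 20),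
  (119050, 6, 8318, 22),
  (119052, 6, 249860, 17),
  (119055, 5, 118989, 41),
  (119059, 6, 193715, 1),
  (119061, 6, 244133, 2),
  (119062, 6, 206271, 21),
  (119067, 6, 111995, 15),
  (119069, 6, 113021, 15),
  (119070, 5, 127334, 12),
  (119073, 6, 85283, 25),
  (119074, 6, 72963, 25),
  (119076, 5, 96298, 22),
  (119079, 6, 251915, 14),
  (119081, 5, 209242, 20),
  (119082, 6, 213226, 15),
  (119084, 5, 203050, 38),
  (119087, 6, 260206, 22),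
  (119091, 7, 225646, 20),
  (119093, 6, 213341, 10),
  (119094, 6, 117150, 16),
  (119099, 6, 139755, 6),
  (119101, 6, 55727, 24),
  (119102, 6, 225661, 20),
  (119105, 6, 19879, 25),
  (119106, 6, 98794, 16),
  (119108, 6, 196844, 3),
  (119111, 6, 223710, 22),
  (119113, 6, 254388, 19),
  (119114, 6, 250122, 13),
  (119116, 6, 233764, 10),
  (119119, 6, 162883, 24),
  (119123, 6, 185819, 12),
  (119125, 6, 186845, 12),
  (119126, 5, 250014, 15),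
  (119131, 6, 212399, 23),
  (119133, 6, 191735, 25),
  (119134, 6, 179503, 23),
  (119137, 5, 489, 5),
  (119138, 5, 59670, 40),
  (119140, 6, 249860, 5),
  (119143, 6, 243818, 22),
  (119145, 5, 145454, 22),
  (119146, 6, 131306, 10),
  (119148, 6, 207895, 25),
  (119151, 6, 247883, 14),
  (119155, 6, 225774, 20),
  (119157, 6, 126327, 25),
  (119158, 6, 105825, 26),
  (119163, 5, 119049, 43),
  (119165, 6, 246206, 19),
  (119166, 5, 194790, 7),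
  (119169, 5, 85281, 38),
  (119170, 6, 82250, 11),
  (119172, 5, 176586, 42),
  (119175, 6, 250949, 16),
  (119177, 5, 489, 7),
  (119178, 4, 78164, 20),
  (119180, 6, 249932, 16),
  (119183, 6, 3563, 7),
  (119187, 6, 90459, 11),
  (119189, 7, 254174, 19),
  (119190, 6, 243882, 14),
  (119195, 6, 220575, 23),
  (119197, 6, 254206, 19),
  (119198, 6, 56473, 22),
  (119201, 6, 78154, 20),
  (119202, 6, 98794, 12),
  (119204, 6, 140677, 25),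
  (119207, 6, 157069, 25),
  (119209, 6, 61501, 21),
  (119210, 5, 219302, 37),
  (119212, 6, 159805, 21),
  (119215, 7, 256110, 22),
  (119219, 6, 242739, 1),
  (119221, 6, 194949, 2),
  (119222, 7, 145523, 23),
  (119227, 6, 128475, 15),
  (119229, 6, 129501, 15),
  (119230, 6, 111078, 12),
  (119233, 6, 36981, 21),
  (119234, 6, 131306, 3),
  (119236, 4, 96406, 22),
  (119239, 6, 194627, 24),
  (119241, 7, 254452, 19),
  (119242, 6, 249922, 7),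
  (119244, 6, 254450, 19),
  (119247, 6, 36267, 7),
  (119251, 6, 103671, 21),
  (119253, 6, 139517, 3),
  (119254, 6, 254427, 19),
  (119259, 6, 94710, 20),
  (119261, 5, 119049, 41),
  (119262, 5, 190938, 5),
  (119265, 5, 250217, 12),
  (119266, 5, 78284, 20),
  (119268, 6, 37356, 13),
  (119271, 6, 38381, 13),
  (119273, 6, 19841, 25),
  (119274, 6, 3465, 25),
  (119276, 6, 245836, 4),
  (119279, 6, 249005, 8),
  (119283, 6, 251259, 12),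
  (119285, 6, 252285, 12),
  (119286, 6, 184510, 15),
  (119291, 6, 95707, 15),
  (119293, 6, 248189, 12),
  (119294, 6, 94717, 20),
  (119809, 4, 116754, 26),
  (119811, 6, 106589, 21),
  (119817, 4, 164142, 22),
  (119819, 5, 119873, 4),
  (119829, 6, 128191, 13),
  (119831, 6, 127167, 13),
  (119837, 6, 111861, 3),
  (119839, 6, 31955, 11),
  (119841, 4, 211210, 20),
  (119843, 5, 119873, 15),
  (119849, 6, 153710, 22),
  (119851, 6, 45323, 24),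
  (119861, 5, 129111, 15),
  (119863, 6, 121202, 26),
  (119869, 6, 121298, 26),
  (119871, 6, 125963, 14),
  (119873, 4, 86093, 38),
  (119875, 6, 205985, 23),
  (119881, 6, 211346, 20),
  (119883, 5, 45073, 41),
  (119893, 6, 109989, 23),
  (119895, 6, 227751, 20),
  (119901, 6, 63739, 1),
  (119903, 6, 190717, 25),
  (119905, 5, 177491, 24),
  (119907, 5, 235, 5),
  (119913, 6, 106637, 21),
  (119915, 6, 211358, 20),
  (119925, 5, 168291, 43),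
  (119927, 6, 130123, 14),
  (119933, 6, 162911, 19),
  (119935, 6, 52477, 12),
  (119937, 6, 116758, 26),
  (119939, 4, 80134, 20),
  (119945, 5, 235, 7),
  (119947, 6, 168294, 22),
  (119957, 6, 54733, 22),
  (119959, 5, 45397, 41),
  (119965, 6, 127365, 25),
  (119967, 6, 121270, 26),
  (119969, 5, 235, 9),
  (119971, 6, 182314, 22),
  (119977, 6, 38169, 24),
  (119979, 4, 20877, 25),
  (119989, 6, 128103, 16),
  (119991, 5, 168213, 43),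
  (119997, 5, 86285, 38),
  (119999, 6, 97395, 11),
  (120001, 6, 186630, 22),
  (120003, 6, 168019, 24),
  (120009, 4, 75890, 26),
  (120011, 6, 43165, 21),
  (120021, 6, 95303, 16),
  (120023, 5, 140441, 39),
  (120029, 5, 45381, 41),
  (120031, 6, 175261, 21),
  (120033, 5, 43186, 26),
  (120035, 5, 114861, 37),
  (120041, 4, 80282, 20),
  (120043, 5, 114913, 37),
  (120053, 7, 141453, 42),
  (120055, 5, 126011, 11),
  (120061, 6, 7417, 17),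
  (120063, 6, 125119, 8),
  (120069, 5, 220239, 8),
  (120071, 6, 234681, 23),
  (120077, 6, 186539, 1),
  (120079, 5, 168043, 43),
  (120081, 6, 54613, 22),
  (120083, 6, 26075, 11),
  (120089, 6, 193739, 16),
  (120091, 6, 203967, 23),
  (120101, 6, 77175, 19),
  (120103, 5, 260138, 22),
  (120109, 6, 93527, 19),
  (120111, 6, 248843, 14),
  (120113, 5, 45121, 41),
  (120115, 5, 195041, 19),
  (120121, 6, 82395, 7),
  (120123, 6, 192747, 16),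
  (120133, 6, 256414, 22),
  (120135, 5, 45165, 41),
  (120141, 5, 45389, 41),
  (120143, 6, 247823, 8),
  (120145, 6, 227810, 20),
  (120147, 5, 242795, 14),
  (120153, 6, 118161, 26),
  (120155, 6, 227830, 20),
  (120165, 6, 97599, 25),
  (120167, 6, 60897, 19),
  (120173, 6, 7655, 5),
  (120175, 6, 243758, 22),
  (120177, 6, 227818, 20),
  (120179, 6, 63969, 19),
  (120185, 6, 212435, 24),
  (120187, 5, 45137, 41),
  (120197, 6, 252175, 12),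
  (120199, 5, 168221, 43),
  (120205, 6, 95621, 25),
  (120207, 6, 251035, 23),
  (120209, 5, 45065, 41),
  (120211, 6, 96614, 20),
  (120217, 5, 114797, 37),
  (120219, 6, 96630, 20),
  (120229, 6, 248299, 4),
  (120231, 6, 159201, 19),
  (120237, 6, 185541, 3),
  (120239, 5, 167971, 43),
  (120241, 5, 141745, 42),
  (120243, 6, 117111, 26),
  (120249, 6, 96634, 20),
  (120251, 7, 48525, 24),
  (120261, 6, 39339, 7),
  (120263, 6, 252047, 8),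
  (120269, 6, 97665, 25),
  (120271, 6, 80343, 20),
  (120273, 5, 86221, 38),
  (120275, 5, 96742, 20),
  (120281, 6, 97679, 23),
  (120283, 5, 45081, 41),
  (120293, 5, 240695, 19),
  (120295, 6, 239658, 22),
  (120301, 6, 206958, 22),
  (120303, 6, 239662, 22),
  (120305, 6, 244179, 24),
  (120307, 6, 118133, 26),
  (120313, 6, 204081, 23),
  (120315, 6, 250259, 10),
  (120833, 4, 133550, 22),
  (120834, 6, 121062, 17),
  (120837, 6, 151883, 24),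
  (120838, 6, 155987, 24),
  (120841, 4, 86093, 37),
  (120842, 5, 86026, 37),
  (120845, 6, 157857, 25),
  (120846, 5, 8342, 44),
  (120851, 5, 126031, 4),
  (120855, 6, 63969, 25),
  (120859, 6, 104890, 26),
  (120863, 5, 45165, 43),
  (120865, 6, 219306, 22),
  (120866, 6, 6378, 6),
  (120869, 4, 190818, 19),
  (120870, 6, 181267, 19),
  (120873, 6, 104666, 26),
  (120874, 6, 116910, 5),
  (120877, 6, 45325, 21),
  (120878, 6, 35050, 10),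
  (120883, 6, 128087, 15),
  (120887, 5, 168221, 41),
  (120891, 6, 38133, 5),
  (120895, 6, 128103, 4),
  (120897, 4, 12502, 26),
  (120898, 5, 73750, 44),
  (120901, 5, 120841, 8),
  (120902, 6, 16744, 41),
  (120905, 6, 157766, 19),
  (120906, 6, 189745, 19),
  (120909, 5, 45073, 43),
  (120910, 6, 120842, 13),
  (120915, 6, 111845, 2),
  (120919, 5, 168043, 41),
  (120923, 5, 45389, 43),
  (120927, 6, 95303, 4),
  (120929, 5, 237, 5),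
  (120930, 6, 39082, 6),
  (120933, 6, 45214, 26),
  (120934, 6, 6378, 10),
  (120937, 4, 202926, 22),
  (120938, 6, 210949, 20),
  (120941, 6, 136547, 24),
  (120942, 6, 34990, 6),
  (120947, 6, 247859, 23),
  (120951, 6, 129381, 25),
  (120955, 6, 248881, 23),
  (120959, 6, 181567, 19),
  (120961, 4, 43302, 19),
  (120962, 6, 35050, 3),
  (120965, 5, 120841, 12),
  (120966, 6, 196765, 21),
  (120969, 5, 178461, 21),
  (120970, 6, 88294, 2),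
  (120973, 5, 237, 7),
  (120974, 6, 121062, 12),
  (120979, 6, 150943, 20),
  (120983, 5, 100670, 26),
  (120987, 6, 249303, 23),
  (120991, 6, 203961, 20),
  (120993, 5, 237, 9),
  (120994, 7, 120902, 8),
  (120997, 6, 100446, 26),
  (120998, 6, 207001, 20),
  (121001, 5, 215214, 22),
  (121002, 5, 33042, 42),
  (121005, 5, 114861, 38),
  (121006, 5, 73862, 44),
  (121011, 6, 95485, 8),
  (121015, 6, 208057, 20),
  (121019, 5, 163207, 20),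
  (121023, 6, 100862, 26),
  (121025, 6, 14546, 26),
  (121026, 6, 116910, 2),
  (121029, 6, 168021, 21),
  (121030, 6, 35050, 16),
  (121033, 6, 151651, 24),
  (121034, 6, 207117, 20),
  (121037, 6, 2418, 19),
  (121038, 6, 189811, 19),
  (121043, 6, 216351, 20),
  (121047, 6, 97349, 16),
  (121051, 6, 36031, 7),
  (121055, 6, 227706, 26),
  (121057, 6, 39249, 21),
  (121058, 5, 33044, 39),
  (121061, 4, 98419, 23),
  (121062, 5, 196742, 44),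
  (121065, 4, 190486, 19),
  (121066, 6, 205085, 21),
  (121069, 5, 114913, 38),
  (121070, 6, 74013, 21),
  (121075, 6, 112683, 6),
  (121079, 5, 167971, 41),
  (121083, 6, 260402, 26),
  (121087, 6, 260410, 26),
  (121091, 6, 252391, 17),
  (121095, 6, 250343, 17),
  (121099, 6, 104635, 26),
  (121103, 6, 255159, 19),
  (121105, 6, 104731, 26),
  (121106, 5, 27102, 11),
  (121109, 6, 199037, 10),
  (121110, 6, 194810, 10),
  (121113, 6, 96590, 19),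
  (121114, 6, 219254, 2),
  (121117, 5, 194765, 16),
  (121118, 6, 190714, 10),
  (121123, 6, 104571, 26),
  (121127, 5, 45397, 43),
  (121131, 6, 247823, 14),
  (121135, 5, 140441, 42),
  (121137, 5, 45065, 43),
  (121138, 6, 145898, 6),
  (121141, 6, 195042, 19),
  (121142, 6, 100715, 26),
  (121145, 5, 86221, 37),
  (121146, 6, 98392, 43),
  (121149, 5, 178658, 19),
  (121150, 5, 75910, 44),
  (121155, 6, 186795, 6),
  (121159, 6, 232749, 10),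
  (121163, 6, 234989, 2),
  (121167, 6, 255415, 19),
  (121169, 6, 243821, 14),
  (121170, 5, 254228, 39),
  (121173, 6, 60903, 25),
  (121174, 5, 45190, 43),
  (121177, 6, 89393, 22),
  (121178, 6, 251958, 2),
  (121181, 6, 39410, 19),
  (121182, 5, 199034, 1),
  (121187, 6, 249907, 23),
  (121191, 6, 178410, 22),
  (121195, 5, 45381, 43),
  (121199, 6, 146787, 24),
  (121201, 5, 114797, 38),
  (121202, 5, 164116, 39),
  (121205, 6, 63970, 19),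
  (121206, 5, 106584, 43),
  (121209, 6, 248951, 25),
  (121210, 6, 224739, 24),
  (121213, 5, 45081, 43),
  (121214, 6, 247998, 15),
  (121219, 5, 251151, 12),
  (121223, 6, 211318, 22),
  (121227, 5, 168291, 41),
  (121231, 6, 253005, 16),
  (121233, 5, 45121, 43),
  (121234, 6, 194974, 5),
  (121237, 5, 242873, 20),
  (121238, 6, 243897, 20),
  (121241, 6, 129294, 19),
  (121242, 6, 10278, 40),
  (121245, 6, 234681, 20),
  (121246, 5, 10386, 44),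
  (121251, 6, 252047, 14),
  (121255, 5, 168213, 41),
  (121259, 7, 141453, 39),
  (121263, 5, 220613, 10),
  (121265, 5, 141745, 39),
  (121266, 6, 211306, 6),
  (121269, 6, 87455, 22),
  (121270, 5, 243834, 10),
  (121273, 6, 193853, 21),
  (121274, 6, 113122, 12),
  (121277, 6, 89499, 22),
  (121278, 5, 14842, 4),
  (121283, 6, 162262, 22),
  (121287, 6, 220229, 16),
  (121291, 6, 240975, 20),
  (121295, 6, 73195, 15),
  (121297, 6, 82301, 5),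
  (121298, 5, 75794, 44),
  (121301, 6, 241901, 14),
  (121302, 4, 114820, 38),
  (121305, 6, 191805, 21),
  (121306, 6, 121913, 22),
  (121309, 5, 45137, 43),
  (121310, 5, 96742, 12),
  (121315, 5, 86285, 37),
  (121319, 6, 249229, 10),
  (121323, 6, 36329, 13),
  (121327, 6, 218599, 4),
  (121329, 6, 243774, 19),
  (121330, 5, 45190, 44),
  (121333, 7, 171123, 21),
  (121334, 5, 45262, 43),
  (121337, 6, 60817, 25),
  (121338, 5, 129334, 11),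
  (121341, 6, 127285, 11),
  (121342, 6, 260194, 7),
  (121873, 7, 101877, 23),
  (121875, 6, 126029, 4),
  (121877, 6, 15725, 19),
  (121879, 6, 63687, 16),
  (121881, 6, 126139, 13),
  (121883, 6, 232695, 23),
  (121885, 6, 127047, 4),
  (121887, 6, 128069, 4),
  (121905, 6, 120135, 22),
  (121907, 6, 12779, 24),
  (121909, 6, 129107, 15),
  (121911, 6, 117114, 26),
  (121913, 5, 129127, 4),
  (121915, 6, 121338, 26),
  (121917, 6, 89175, 10),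
  (121919, 6, 117242, 26),
  (121937, 6, 63735, 1),
  (121939, 6, 51709, 25),
  (121941, 6, 177367, 21),
  (121943, 6, 242775, 21),
  (121945, 6, 186621, 25),
  (121947, 6, 97349, 4),
  (121949, 6, 209278, 26),
  (121951, 6, 39283, 19),
  (121969, 6, 121213, 25),
  (121971, 6, 87399, 22),
  (121973, 6, 176574, 26),
  (121975, 6, 125293, 25),
  (121977, 5, 5367, 5),
  (121979, 5, 126031, 14),
  (121981, 5, 126011, 8),
  (121983, 6, 256109, 25),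
  (122001, 6, 120141, 22),
  (122003, 6, 121150, 26),
  (122005, 6, 117022, 26),
  (122007, 5, 5373, 7),
  (122009, 6, 118231, 23),
  (122011, 6, 3325, 7),
  (122013, 6, 117150, 26),
  (122015, 6, 117182, 26),
  (122033, 6, 36315, 21),
  (122035, 6, 163171, 19),
  (122037, 6, 97531, 8),
  (122039, 5, 129127, 16),
  (122041, 6, 121310, 26),
  (122043, 6, 146787, 19),
  (122045, 6, 93435, 8),
  (122047, 6, 46493, 21),
  (122065, 6, 38359, 21),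
  (122067, 6, 93389, 4),
  (122069, 6, 37055, 7),
  (122071, 6, 162266, 26),
  (122073, 6, 35007, 7),
  (122075, 6, 7539, 19),
  (122077, 6, 97359, 16),
  (122079, 6, 227674, 26),
  (122097, 6, 128191, 8),
  (122099, 6, 32099, 19),
  (122101, 6, 186769, 25),
  (122103, 5, 5367, 17),
  (122105, 6, 232753, 23),
  (122107, 6, 31955, 3),
  (122109, 5, 5373, 17),
  (122111, 6, 260378, 26),
  (122113, 7, 23995, 25),
  (122115, 6, 167131, 20),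
  (122117, 6, 220235, 8),
  (122119, 6, 234543, 14),
  (122121, 6, 234927, 2),
  (122123, 6, 178479, 24),
  (122125, 6, 71163, 23),
  (122127, 6, 194831, 24),
  (122145, 6, 120923, 26),
  (122147, 6, 260266, 22),
  (122149, 6, 162026, 22),
  (122151, 5, 35307, 5),
  (122153, 6, 39231, 24),
  (122155, 6, 37351, 5),
  (122157, 6, 216171, 8),
  (122159, 6, 194734, 22),
  (122177, 6, 220645, 17),
  (122179, 6, 249871, 8),
  (122181, 6, 32175, 25),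
  (122183, 6, 251915, 8),
  (122185, 6, 112107, 23),
  (122187, 6, 188894, 22),
  (122189, 6, 248843, 8),
  (122191, 6, 38301, 20),
  (122209, 6, 89407, 25),
  (122211, 6, 243882, 22),
  (122213, 6, 3563, 5),
  (122215, 6, 178346, 22),
  (122217, 6, 5607, 5),
  (122219, 6, 248911, 14),
  (122221, 6, 36253, 20),
  (122223, 6, 178350, 22),
  (122241, 6, 120863, 26),
  (122243, 6, 251149, 12),
  (122245, 6, 164093, 21),
  (122247, 6, 244086, 22),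
  (122249, 6, 120283, 23),
  (122251, 6, 176630, 22),
  (122253, 6, 116895, 26),
  (122255, 6, 218331, 23),
  (122273, 6, 7549, 24),
  (122275, 6, 249325, 4),
  (122277, 6, 240797, 20),
  (122279, 5, 251023, 14),
  (122281, 6, 252391, 4),
  (122283, 6, 111921, 23),
  (122285, 6, 232605, 20),
  (122287, 5, 35247, 13),
  (122305, 5, 251023, 8),
  (122307, 6, 118031, 11),
  (122309, 6, 260374, 22),
  (122311, 6, 260438, 22),
  (122313, 5, 35247, 7),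
  (122315, 5, 220613, 4),
  (122317, 5, 220239, 16),
  (122319, 6, 226507, 23),
  (122337, 6, 207082, 22),
  (122339, 6, 216557, 4),
  (122341, 6, 175261, 20),
  (122343, 6, 170355, 24),
  (122345, 6, 32145, 25),
  (122347, 5, 35307, 13),
  (122349, 6, 232749, 6),
  (122351, 6, 174254, 22),
  (122883, 5, 169999, 38),
  (122885, 6, 73829, 10),
  (122886, 4, 205214, 21),
  (122889, 7, 166034, 26),
  (122890, 5, 166050, 26),
  (122892, 6, 7441, 21),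
  (122895, 5, 206881, 43),
  (122899, 6, 112654, 21),
  (122901, 6, 73845, 10),
  (122902, 6, 90326, 15),
  (122905, 6, 7251, 21),
  (122906, 4, 217486, 44),
  (122908, 6, 126988, 17),
  (122911, 6, 97349, 8),
  (122915, 6, 108762, 21),
  (122917, 6, 90181, 10),
  (122918, 6, 8438, 6),
  (122921, 5, 166098, 26),
  (122922, 5, 158775, 23),
  (122924, 6, 8428, 14),
  (122927, 6, 95309, 10),
  (122931, 6, 110606, 21),
  (122933, 5, 245, 6),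
  (122934, 3, 90358, 15),
  (122937, 7, 217370, 20),
  (122938, 6, 106963, 24),
  (122940, 6, 82012, 5),
  (122943, 5, 126031, 15),
  (122947, 5, 110806, 21),
  (122949, 6, 152707, 24),
  (122950, 5, 57526, 6),
  (122953, 6, 7257, 21),
  (122954, 5, 122906, 13),
  (122956, 6, 61620, 6),
  (122959, 6, 7641, 21),
  (122963, 4, 217478, 20),
  (122965, 6, 217475, 20),
  (122966, 6, 123030, 15),
  (122969, 6, 90361, 17),
  (122970, 4, 90362, 17),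
  (122972, 5, 127124, 15),
  (122975, 6, 176447, 19),
  (122979, 5, 201134, 20),
  (122981, 6, 125141, 2),
  (122982, 6, 211346, 21),
  (122985, 6, 215397, 25),
  (122986, 6, 173443, 24),
  (122988, 6, 7453, 21),
  (122991, 6, 129107, 14),
  (122995, 4, 217486, 20),
  (122997, 6, 32949, 6),
  (122998, 3, 204814, 21),
  (123001, 5, 168252, 19),
  (123002, 6, 73978, 17),
  (123004, 5, 168250, 19),
  (123007, 6, 89211, 4),
  (123011, 6, 165942, 26),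
  (123013, 6, 69923, 20),
  (123014, 5, 200750, 39),
  (123017, 5, 127193, 4),
  (123018, 6, 37114, 3),
  (123020, 6, 170118, 26),
  (123023, 6, 170166, 26),
  (123027, 6, 107747, 15),
  (123029, 6, 218537, 24),
  (123030, 5, 174182, 41),
  (123033, 5, 166294, 26),
  (123034, 6, 24810, 4),
  (123036, 6, 51219, 23),
  (123039, 6, 97477, 8),
  (123043, 6, 168021, 19),
  (123045, 6, 73845, 6),
  (123046, 6, 168019, 19),
  (123049, 4, 168052, 19),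
  (123050, 4, 90362, 13),
  (123052, 4, 168050, 19),
  (123055, 6, 170230, 26),
  (123059, 5, 207269, 43),
  (123061, 5, 170311, 38),
  (123062, 5, 208926, 21),
  (123065, 6, 147503, 22),
  (123066, 4, 166374, 26),
  (123068, 6, 53460, 11),
  (123071, 6, 31955, 7),
  (123075, 6, 24803, 17),
  (123077, 5, 245, 3),
  (123078, 3, 90358, 12),
  (123081, 6, 90247, 23),
  (123082, 6, 155911, 23),
  (123084, 6, 94460, 12),
  (123087, 6, 92666, 26),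
  (123091, 6, 34033, 2),
  (123093, 6, 23763, 39),
  (123094, 6, 82166, 12),
  (123097, 6, 215233, 25),
  (123098, 6, 215266, 26),
  (123100, 6, 82012, 16),
  (123103, 6, 129035, 11),
  (123107, 6, 34033, 13),
  (123109, 6, 59585, 25),
  (123110, 6, 43209, 25),
  (123113, 6, 68663, 23),
  (123114, 4, 117154, 26),
  (123116, 6, 3191, 23),
  (123119, 6, 97531, 4),
  (123123, 7, 190514, 26),
  (123125, 7, 217347, 24),
  (123126, 5, 57526, 15),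
  (123129, 6, 86426, 20),
  (123130, 6, 15503, 21),
  (123132, 6, 61620, 15),
  (123135, 6, 157897, 25),
  (123137, 4, 139579, 22),
  (123138, 6, 241809, 19),
  (123140, 4, 241810, 19),
  (123143, 6, 189653, 16),
  (123144, 6, 196856, 12),
  (123147, 6, 189657, 16),
  (123149, 6, 233725, 3),
  (123150, 6, 113070, 16),
  (123153, 6, 63534, 21),
  (123154, 5, 90594, 4),
  (123156, 5, 205172, 10),
  (123159, 6, 260142, 21),
  (123160, 6, 29743, 22),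
  (123163, 5, 170325, 38),
  (123165, 6, 241854, 19),
  (123166, 5, 194790, 10),
  (123169, 6, 46129, 37),
  (123170, 6, 201068, 20),
  (123172, 6, 84263, 24),
  (123175, 6, 97395, 25),
  (123176, 6, 90488, 19),
  (123179, 5, 122995, 40),
  (123181, 5, 194981, 12),
  (123182, 6, 129422, 16),
  (123185, 6, 90577, 7),
  (123186, 5, 217420, 20),
  (123188, 7, 233626, 19),
  (123191, 6, 126279, 15),
  (123192, 6, 74216, 4),
  (123195, 6, 251259, 4),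
  (123197, 6, 233662, 19),
  (123198, 5, 67806, 37),
  (123201, 6, 155857, 16),
  (123202, 6, 24667, 22),
  (123204, 6, 90484, 12),
  (123207, 6, 242166, 21),
  (123208, 6, 155864, 16),
  (123211, 6, 158043, 22),
  (123213, 6, 113057, 7),
  (123214, 5, 260138, 2),
  (123217, 6, 242076, 19),
  (123218, 6, 155874, 10),
  (123220, 6, 205028, 3),
  (123223, 5, 242795, 22),
  (123224, 6, 167297, 26),
  (123227, 6, 217558, 20),
  (123229, 6, 195029, 12),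
  (123230, 6, 248094, 13),
  (123233, 7, 201194, 20),
  (123234, 6, 205282, 17),
  (123236, 5, 145714, 21),
  (123239, 5, 122963, 40),
  (123240, 6, 196984, 7),
  (123243, 6, 194019, 12),
  (123245, 5, 101523, 42),
  (123246, 6, 154743, 23),
  (123249, 5, 233884, 19),
  (123250, 7, 233881, 19),
  (123252, 5, 233882, 19),
  (123255, 6, 126355, 7),
  (123256, 6, 147704, 16),
  (123259, 6, 218167, 23),
  (123261, 6, 147709, 16),
  (123262, 5, 75866, 37),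
  (123265, 6, 143667, 22),
  (123266, 6, 65726, 21),
  (123268, 5, 100442, 37),
  (123271, 6, 69991, 20),
  (123272, 6, 31745, 21),
  (123275, 5, 128361, 5),
  (123277, 5, 241910, 19),
  (123278, 6, 252022, 10),
  (123281, 5, 241884, 19),
  (123282, 4, 86340, 20),
  (123284, 5, 80070, 42),
  (123287, 6, 126325, 5),
  (123288, 6, 147928, 19),
  (123291, 6, 233651, 14),
  (123293, 6, 241918, 19),
  (123294, 6, 241915, 19),
  (123297, 6, 34938, 21),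
  (123298, 6, 155874, 15),
  (123300, 5, 205172, 6),
  (123303, 5, 170073, 38),
  (123304, 6, 15409, 22),
  (123307, 6, 31941, 21),
  (123309, 5, 170013, 38),
  (123310, 6, 211178, 2),
  (123313, 6, 73101, 24),
  (123314, 4, 94270, 21),
  (123316, 5, 159806, 21),
  (123319, 6, 196983, 6),
  (123320, 6, 74104, 14),
  (123323, 6, 233725, 19),
  (123325, 6, 252049, 14),
  (123326, 6, 251966, 7),
  (123329, 6, 137347, 24),
  (123330, 5, 80070, 37),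
  (123332, 6, 149635, 24),
  (123335, 6, 242135, 19),
  (123336, 6, 74104, 8),
  (123339, 6, 251025, 8),
  (123341, 6, 242166, 19),
  (123342, 5, 51646, 4),
  (123345, 4, 86466, 20),
  (123346, 6, 242137, 19),
  (123348, 6, 242138, 19),
  (123351, 6, 256062, 21),
  (123352, 6, 74216, 15),
  (123355, 6, 31947, 21),
  (123357, 6, 251907, 24),
  (123358, 5, 78022, 42),
  (123361, 6, 39026, 21),
  (123362, 6, 90450, 8),
  (123364, 6, 156116, 11),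
  (123367, 6, 233943, 19),
  (123368, 6, 167109, 26),
  (123371, 6, 139755, 17),
  (123373, 5, 170065, 38),
  (123374, 6, 243882, 2),
  (123377, 6, 167253, 26),
  (123378, 6, 90174, 21),
  (123380, 6, 90468, 2),
  (123383, 7, 200821, 23),
  (123384, 6, 90568, 15),
  (123387, 6, 31951, 21),
  (123389, 6, 129321, 11),
  (123390, 6, 243898, 2),
  (123905, 4, 203042, 20),
  (123907, 6, 18665, 25),
  (123917, 6, 119991, 13),
  (123919, 6, 88151, 8),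
  (123921, 4, 182546, 26),
  (123923, 6, 14583, 37),
  (123933, 6, 126201, 17),
  (123935, 6, 31947, 11),
  (123937, 5, 182354, 26),
  (123939, 6, 107747, 17),
  (123949, 6, 129147, 4),
  (123951, 6, 186610, 26),
  (123953, 6, 14677, 19),
  (123955, 6, 184363, 22),
  (123965, 6, 186834, 26),
  (123967, 5, 5367, 6),
  (123969, 5, 164941, 38),
  (123971, 6, 24803, 5),
  (123981, 6, 63687, 12),
  (123983, 6, 158205, 25),
  (123985, 6, 55469, 25),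
  (123987, 6, 155734, 26),
  (123997, 6, 205054, 26),
  (123999, 6, 93435, 17),
  (124001, 6, 88173, 25),
  (124003, 6, 34033, 1),
  (124013, 6, 106942, 26),
  (124015, 6, 36089, 1),
  (124017, 6, 219530, 20),
  (124019, 6, 43337, 19),
  (124029, 6, 63735, 12),
  (124031, 6, 73183, 21),
  (124033, 5, 180299, 40),
  (124035, 4, 98398, 21),
  (124045, 6, 129031, 12),
  (124047, 6, 186550, 26),
  (124049, 6, 112798, 21),
  (124051, 5, 182582, 26),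
  (124061, 6, 36031, 2),
  (124063, 6, 35007, 2),
  (124065, 6, 35034, 21),
  (124067, 4, 182390, 26),
  (124077, 6, 81221, 21),
  (124079, 5, 128361, 24),
  (124081, 6, 110750, 21),
  (124083, 6, 45214, 21),
  (124093, 6, 186838, 26),
  (124095, 6, 97387, 11),
  (124097, 6, 90501, 23),
  (124099, 5, 180587, 40),
  (124109, 5, 5373, 3),
  (124111, 6, 92634, 26),
  (124113, 4, 132203, 22),
  (124115, 6, 88265, 25),
  (124125, 5, 129111, 12),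
  (124127, 6, 61671, 13),
  (124129, 4, 72106, 20),
  (124131, 7, 72110, 20),
  (124141, 5, 129127, 12),
  (124143, 6, 125338, 26),
  (124145, 4, 174130, 26),
  (124147, 6, 10569, 19),
  (124157, 6, 128159, 10),
  (124159, 6, 93389, 15),
  (124165, 6, 240689, 14),
  (124167, 6, 191877, 12),
  (124169, 6, 189659, 16),
  (124171, 6, 203126, 20),
  (124181, 6, 260270, 21),
  (124183, 6, 205175, 10),
  (124185, 5, 180713, 40),
  (124187, 5, 219478, 20),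
  (124197, 6, 186451, 26),
  (124199, 6, 239994, 21),
  (124201, 5, 198043, 41),
  (124203, 6, 203134, 20),
  (124213, 5, 78227, 44),
  (124215, 5, 126011, 25),
  (124217, 6, 89175, 21),
  (124219, 6, 113103, 24),
  (124229, 6, 176630, 21),
  (124231, 5, 240755, 14),
  (124233, 6, 179347, 24),
  (124235, 6, 155867, 16),
  (124245, 6, 77945, 44),
  (124247, 6, 219591, 20),
  (124249, 6, 165143, 38),
  (124251, 6, 219606, 20),
  (124261, 6, 178674, 21),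
  (124263, 6, 126337, 7),
  (124265, 6, 89181, 21),
  (124267, 5, 242873, 9),
  (124277, 6, 249303, 2),
  (124279, 6, 106983, 13),
  (124281, 6, 219610, 20),
  (124283, 5, 147707, 16),
  (124293, 6, 247859, 1),
  (124295, 6, 248881, 1),
  (124297, 6, 128363, 5),
  (124299, 5, 242867, 14),
  (124309, 5, 260286, 21),
  (124311, 5, 249297, 4),
  (124313, 6, 218481, 6),
  (124315, 6, 88406, 20),
  (124325, 6, 166394, 21),
  (124327, 6, 231802, 21),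
  (124329, 6, 97349, 21),
  (124331, 5, 51341, 39),
  (124341, 6, 26879, 43),
  (124343, 6, 192702, 21),
  (124345, 6, 251025, 14),
  (124347, 6, 193739, 3),
  (124357, 6, 159201, 17),
  (124359, 6, 7641, 19),
  (124361, 6, 97353, 21),
  (124363, 5, 77867, 44),
  (124373, 6, 126209, 11),
  (124375, 6, 190654, 21),
  (124377, 6, 74219, 15),
  (124379, 6, 88534, 20),
  (124389, 5, 14661, 37),
  (124391, 6, 235890, 21),
  (124393, 6, 82395, 15),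
  (124395, 6, 250035, 8),
  (124405, 6, 77175, 5),
  (124407, 6, 60817, 7),
  (124409, 6, 97359, 21),
  (124411, 5, 128299, 11),
  (124929, 5, 149505, 43),
  (124930, 5, 90146, 41),
  (124933, 6, 87433, 20),
  (124934, 5, 139650, 41),
  (124939, 6, 170170, 26),
  (124943, 5, 136195, 38),
  (124945, 6, 90181, 8),
  (124946, 6, 35062, 8),
  (124949, 6, 59553, 25),
  (124950, 6, 166186, 26),
  (124955, 6, 170426, 26),
  (124959, 6, 194977, 25),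
  (124961, 7, 69931, 24),
  (124962, 5, 57526, 7),
  (124965, 6, 32949, 1),
  (124966, 6, 124994, 1),
  (124971, 6, 36031, 1),
  (124975, 6, 166138, 26),
  (124977, 6, 122933, 23),
  (124978, 6, 209166, 21),
  (124981, 6, 24805, 11),
  (124982, 5, 111058, 38),
  (124987, 6, 252209, 25),
  (124991, 6, 93609, 20),
  (124993, 5, 149905, 43),
  (124994, 5, 196882, 41),
  (124997, 5, 149793, 43),
  (124998, 5, 16562, 41),
  (125003, 5, 136201, 38),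
  (125007, 6, 177463, 19),
  (125009, 6, 73829, 15),
  (125010, 6, 177433, 19),
  (125013, 6, 90357, 17),
  (125014, 3, 90358, 17),
  (125019, 6, 128005, 8),
  (125023, 5, 194981, 25),
  (125025, 6, 124929, 10),
  (125026, 4, 90182, 1),
  (125029, 6, 17801, 20),
  (125030, 6, 43190, 6),
  (125035, 5, 129111, 14),
  (125039, 6, 248951, 23),
  (125041, 6, 90181, 15),
  (125042, 6, 229674, 40),
  (125045, 7, 202019, 24),
  (125046, 6, 112645, 25),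
  (125051, 6, 39091, 6),
  (125055, 6, 39095, 6),
  (125057, 5, 136593, 38),
  (125058, 6, 90326, 13),
  (125061, 6, 124929, 12),
  (125062, 6, 35062, 3),
  (125067, 6, 39163, 3),
  (125071, 7, 213463, 23),
  (125073, 6, 178462, 21),
  (125074, 6, 59526, 5),
  (125077, 6, 90181, 11),
  (125078, 3, 90358, 2),
  (125083, 6, 170430, 26),
  (125087, 6, 259545, 24),
  (125089, 6, 125173, 4),
  (125090, 3, 90358, 13),
  (125093, 6, 108661, 23),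
  (125094, 5, 176586, 41),
  (125099, 5, 240695, 23),
  (125103, 6, 240759, 23),
  (125105, 5, 245, 9),
  (125106, 5, 43094, 37),
  (125109, 6, 87433, 24),
  (125110, 5, 45068, 37),
  (125115, 6, 146631, 21),
  (125119, 5, 149541, 43),
  (125121, 6, 123077, 23),
  (125122, 6, 184404, 37),
  (125125, 6, 24805, 17),
  (125126, 5, 177491, 19),
  (125131, 6, 42237, 2),
  (125135, 6, 96762, 26),
  (125137, 6, 174366, 21),
  (125138, 6, 75993, 25),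
  (125141, 5, 50387, 39),
  (125142, 4, 67801, 25),
  (125147, 6, 128087, 12),
  (125151, 6, 36089, 2),
  (125153, 6, 125141, 14),
  (125154, 4, 72082, 21),
  (125157, 6, 90357, 4),
  (125158, 6, 90198, 8),
  (125163, 6, 128103, 12),
  (125167, 6, 169335, 19),
  (125169, 5, 136525, 38),
  (125170, 5, 36948, 37),
  (125173, 5, 149797, 43),
  (125174, 5, 90258, 41),
  (125179, 5, 149765, 43),
  (125183, 7, 230519, 23),
  (125187, 6, 107006, 21),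
  (125191, 5, 241073, 2),
  (125193, 6, 211305, 10),
  (125194, 6, 111022, 16),
  (125197, 6, 186842, 19),
  (125198, 5, 242867, 19),
  (125203, 5, 71917, 42),
  (125207, 6, 129326, 21),
  (125209, 6, 96614, 19),
  (125210, 5, 242873, 19),
  (125213, 6, 243949, 3),
  (125214, 5, 10386, 41),
  (125219, 6, 170107, 26),
  (125223, 6, 239866, 21),
  (125225, 5, 252121, 3),
  (125226, 6, 127374, 16),
  (125229, 6, 195018, 19),
  (125230, 5, 164132, 43),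
  (125235, 6, 234653, 19),
  (125239, 5, 25063, 11),
  (125241, 6, 113057, 13),
  (125242, 6, 184510, 7),
  (125245, 6, 190922, 19),
  (125246, 5, 20748, 43),
  (125251, 6, 156123, 22),
  (125255, 5, 241910, 21),
  (125257, 6, 223342, 19),
  (125258, 5, 47310, 41),
  (125261, 7, 223515, 22),
  (125262, 6, 113130, 16),
  (125267, 6, 256302, 21),
  (125271, 6, 125230, 21),
  (125273, 6, 227430, 19),
  (125274, 5, 67730, 41),
  (125277, 6, 154971, 21),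
  (125278, 7, 155035, 21),
  (125283, 6, 157145, 22),
  (125287, 6, 248881, 8),
  (125289, 6, 223358, 19),
  (125290, 5, 49444, 43),
  (125293, 5, 195041, 12),
  (125294, 6, 194810, 7),
  (125299, 6, 254254, 21),
  (125303, 5, 249297, 2),
  (125305, 6, 209071, 22),
  (125306, 5, 135212, 43),
  (125309, 6, 167385, 26),
  (125310, 6, 129498, 16),
  (125315, 6, 242901, 19),
  (125319, 5, 136553, 38),
  (125321, 6, 125230, 19)]

theorem chk_rows2_13 : rows2_13.all (rowBP tr2 gensLitP 72) = true := by decide +kernel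

/-- Rows 21000 to 22499. -/
def rows2_14 : List (ℕ × ℕ × ℕ × ℕ) := [(125322, 6, 249974, 10),
  (125325, 5, 74867, 41),
  (125326, 5, 135460, 43),
  (125331, 6, 249303, 4),
  (125335, 5, 75033, 41),
  (125337, 5, 75161, 41),
  (125338, 5, 235702, 14),
  (125341, 5, 74809, 41),
  (125342, 5, 69658, 41),
  (125347, 6, 234709, 19),
  (125351, 6, 82295, 11),
  (125353, 6, 125246, 19),
  (125354, 7, 162949, 21),
  (125357, 6, 162250, 19),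
  (125358, 5, 172116, 37),
  (125363, 7, 254187, 22),
  (125367, 6, 127294, 21),
  (125369, 5, 129334, 19),
  (125370, 6, 61854, 16),
  (125373, 5, 194765, 3),
  (125374, 5, 163207, 21),
  (125379, 6, 241057, 10),
  (125383, 5, 74851, 41),
  (125385, 6, 162889, 21),
  (125386, 5, 151586, 38),
  (125389, 6, 252049, 8),
  (125390, 5, 241910, 14),
  (125395, 5, 241073, 10),
  (125399, 6, 125246, 21),
  (125401, 5, 74221, 15),
  (125402, 5, 163940, 43),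
  (125405, 6, 163147, 21),
  (125406, 6, 194710, 15),
  (125411, 6, 234965, 19),
  (125415, 6, 139751, 17),
  (125417, 6, 256062, 19),
  (125418, 5, 164116, 37),
  (125421, 5, 43273, 37),
  (125422, 5, 163213, 21),
  (125427, 7, 171389, 26),
  (125431, 6, 123198, 21),
  (125433, 5, 252117, 14),
  (125434, 5, 104594, 41),
  (125437, 6, 167389, 26),
  (125438, 6, 127278, 11),
  (125961, 6, 135345, 44),
  (125963, 5, 20493, 39),
  (125965, 6, 21725, 11),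
  (125967, 5, 67617, 43),
  (125977, 6, 95303, 8),
  (125979, 6, 186810, 26),
  (125981, 6, 97709, 20),
  (125983, 6, 95661, 20),
  (125993, 6, 35007, 1),
  (125995, 6, 186618, 26),
  (125997, 5, 135531, 44),
  (125999, 6, 126327, 23),
  (126009, 6, 186842, 26),
  (126011, 4, 98419, 42),
  (126013, 6, 7413, 6),
  (126015, 5, 135253, 44),
  (126025, 5, 98377, 42),
  (126027, 6, 112683, 10),
  (126029, 5, 67601, 43),
  (126031, 4, 68017, 43),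
  (126041, 6, 93437, 17),
  (126043, 5, 41159, 40),
  (126045, 6, 204123, 21),
  (126047, 6, 225502, 26),
  (126057, 5, 98793, 42),
  (126059, 6, 129035, 10),
  (126061, 6, 177587, 24),
  (126063, 6, 128087, 14),
  (126073, 6, 241846, 26),
  (126075, 6, 233647, 22),
  (126077, 6, 241854, 26),
  (126079, 6, 234803, 24),
  (126089, 6, 89181, 11),
  (126091, 6, 97395, 6),
  (126093, 6, 182430, 26),
  (126095, 6, 182462, 26),
  (126105, 6, 212035, 21),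
  (126107, 6, 97359, 11),
  (126109, 6, 95309, 11),
  (126111, 6, 129147, 5),
  (126121, 6, 59711, 19),
  (126123, 4, 17769, 41),
  (126125, 6, 241015, 23),
  (126127, 5, 133283, 38),
  (126137, 6, 212039, 21),
  (126139, 5, 17699, 41),
  (126141, 6, 97507, 8),
  (126143, 5, 67621, 43),
  (126153, 6, 127047, 12),
  (126155, 6, 128069, 12),
  (126157, 6, 90567, 23),
  (126159, 5, 252121, 25),
  (126169, 6, 206143, 20),
  (126171, 6, 249907, 24),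
  (126173, 6, 211194, 26),
  (126175, 6, 227546, 26),
  (126185, 5, 133287, 38),
  (126187, 5, 212173, 21),
  (126189, 6, 232823, 23),
  (126191, 6, 95485, 4),
  (126201, 5, 98505, 42),
  (126203, 6, 31947, 3),
  (126205, 5, 98435, 42),
  (126207, 6, 260250, 26),
  (126209, 5, 133297, 38),
  (126211, 5, 240695, 14),
  (126213, 6, 237883, 22),
  (126215, 6, 191873, 12),
  (126225, 5, 41033, 40),
  (126227, 6, 194990, 21),
  (126229, 6, 129454, 21),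
  (126231, 5, 133465, 38),
  (126241, 6, 43514, 21),
  (126243, 6, 241127, 17),
  (126245, 6, 191735, 16),
  (126247, 6, 239738, 21),
  (126257, 5, 133153, 38),
  (126259, 5, 192942, 21),
  (126261, 5, 249235, 2),
  (126263, 6, 191921, 12),
  (126273, 6, 191921, 6),
  (126275, 5, 25063, 5),
  (126277, 6, 207949, 19),
  (126279, 5, 9635, 37),
  (126289, 6, 211015, 19),
  (126291, 6, 190894, 21),
  (126293, 6, 213335, 4),
  (126295, 5, 41049, 40),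
  (126305, 6, 158963, 16),
  (126307, 6, 113010, 21),
  (126309, 6, 178418, 21),
  (126311, 6, 243826, 21),
  (126321, 6, 247255, 2),
  (126323, 5, 248919, 14),
  (126325, 5, 17617, 41),
  (126327, 5, 133157, 38),
  (126337, 5, 133409, 38),
  (126339, 6, 212269, 24),
  (126341, 6, 241971, 22),
  (126343, 6, 137691, 19),
  (126353, 6, 106983, 15),
  (126355, 5, 98397, 42),
  (126357, 5, 248919, 16),
  (126359, 6, 63934, 21),
  (126369, 5, 40969, 40),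
  (126371, 6, 213239, 8),
  (126373, 6, 242993, 22),
  (126375, 6, 145867, 19),
  (126385, 6, 169447, 20),
  (126387, 6, 93543, 11),
  (126389, 5, 25047, 7),
  (126391, 6, 17759, 41),
  (126401, 6, 130257, 25),
  (126403, 5, 20597, 39),
  (126405, 6, 240653, 19),
  (126407, 5, 135435, 44),
  (126417, 5, 41139, 40),
  (126419, 6, 3547, 19),
  (126421, 6, 60903, 13),
  (126423, 6, 92531, 5),
  (126433, 6, 39410, 21),
  (126435, 6, 104818, 21),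
  (126437, 6, 259345, 22),
  (126439, 5, 98401, 42),
  (126449, 6, 205035, 22),
  (126451, 6, 188862, 21),
  (126453, 6, 139499, 22),
  (126455, 6, 10699, 19),
  (126977, 5, 102401, 42),
  (126978, 5, 90130, 41),
  (126980, 4, 192530, 19),
  (126983, 6, 89181, 8),
  (126985, 6, 149729, 25),
  (126986, 6, 94298, 13),
  (126988, 5, 24722, 41),
  (126991, 5, 102409, 42),
  (126993, 4, 231698, 26),
  (126994, 6, 134449, 23),
  (126996, 6, 53460, 16),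
  (126999, 6, 239069, 21),
  (127001, 4, 192572, 19),
  (127002, 6, 37114, 8),
  (127004, 4, 192570, 19),
  (127007, 6, 243727, 21),
  (127009, 4, 69963, 24),
  (127010, 6, 37114, 10),
  (127012, 3, 90188, 10),
  (127015, 7, 94587, 24),
  (127017, 6, 209210, 20),
  (127018, 5, 122906, 14),
  (127020, 6, 90348, 15),
  (127023, 6, 235762, 26),
  (127025, 6, 90167, 23),
  (127026, 6, 24810, 11),
  (127028, 6, 94460, 15),
  (127031, 6, 241113, 21),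
  (127033, 5, 249, 6),
  (127034, 4, 90362, 15),
  (127036, 4, 252, 6),
  (127039, 5, 143445, 44),
  (127041, 6, 8662, 26),
  (127042, 6, 16870, 26),
  (127044, 5, 34898, 37),
  (127047, 5, 102465, 42),
  (127049, 5, 102473, 42),
  (127050, 5, 8370, 41),
  (127052, 5, 127124, 1),
  (127055, 6, 90494, 26),
  (127057, 6, 51621, 25),
  (127058, 5, 238659, 24),
  (127060, 5, 88326, 38),
  (127063, 6, 241057, 23),
  (127065, 6, 204886, 26),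
  (127066, 6, 24810, 10),
  (127068, 6, 44067, 23),
  (127071, 6, 192831, 19),
  (127073, 6, 84023, 23),
  (127074, 6, 94282, 1),
  (127076, 5, 30982, 38),
  (127079, 6, 89175, 15),
  (127081, 5, 127193, 2),
  (127082, 3, 90186, 1),
  (127084, 4, 184626, 19),
  (127087, 6, 238607, 21),
  (127089, 6, 225674, 20),
  (127090, 6, 180390, 26),
  (127092, 6, 90316, 3),
  (127095, 6, 37055, 6),
  (127097, 4, 225690, 20),
  (127098, 4, 245798, 26),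
  (127100, 6, 139279, 21),
  (127103, 6, 97359, 15),
  (127105, 5, 53665, 39),
  (127106, 5, 122906, 7),
  (127108, 5, 137378, 41),
  (127111, 6, 192599, 19),
  (127113, 6, 83095, 23),
  (127114, 6, 114810, 10),
  (127116, 6, 50199, 23),
  (127119, 5, 235702, 26),
  (127121, 5, 192604, 19),
  (127122, 3, 90186, 11),
  (127124, 4, 188678, 38),
  (127127, 6, 249233, 23),
  (127129, 6, 94482, 20),
  (127130, 5, 238993, 24),
  (127132, 6, 235910, 26),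
  (127135, 5, 249235, 23),
  (127137, 6, 78122, 20),
  (127138, 6, 75089, 24),
  (127140, 6, 235590, 26),
  (127143, 6, 184407, 19),
  (127145, 4, 231638, 26),
  (127146, 6, 24810, 15),
  (127148, 6, 53460, 3),
  (127151, 6, 235766, 26),
  (127153, 5, 102529, 42),
  (127154, 5, 8354, 41),
  (127156, 4, 184410, 19),
  (127159, 5, 134473, 38),
  (127161, 6, 184444, 19),
  (127162, 6, 61586, 16),
  (127164, 5, 34838, 37),
  (127167, 5, 102537, 42),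
  (127169, 5, 249, 3),
  (127170, 4, 90362, 12),
  (127172, 4, 252, 3),
  (127175, 6, 219591, 22),
  (127177, 6, 44063, 21),
  (127178, 6, 139459, 24),
  (127180, 6, 82012, 2),
  (127183, 5, 126031, 12),
  (127185, 5, 93313, 23),
  (127186, 4, 149730, 26),
  (127188, 6, 8428, 3),
  (127191, 6, 157946, 26),
  (127193, 4, 172317, 40),
  (127194, 6, 126978, 11),
  (127196, 3, 90188, 2),
  (127199, 6, 223354, 26),
  (127201, 5, 127193, 14),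
  (127202, 6, 73978, 12),
  (127204, 5, 127124, 5),
  (127207, 5, 220613, 22),
  (127209, 6, 51649, 25),
  (127210, 6, 35273, 25),
  (127212, 6, 147907, 24),
  (127215, 6, 14571, 17),
  (127217, 4, 174226, 26),
  (127218, 6, 131127, 23),
  (127220, 5, 24738, 41),
  (127223, 5, 102593, 42),
  (127225, 4, 184700, 19),
  (127226, 5, 41030, 37),
  (127228, 5, 127124, 10),
  (127231, 6, 94623, 20),
  (127235, 6, 209254, 20),
  (127237, 6, 205165, 10),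
  (127238, 6, 229630, 3),
  (127243, 6, 231603, 26),
  (127245, 6, 158963, 25),
  (127246, 6, 113062, 16),
  (127251, 6, 225606, 20),
  (127253, 6, 194721, 1),
  (127254, 5, 96742, 4),
  (127259, 6, 244127, 24),
  (127261, 5, 84359, 43),
  (127262, 6, 179347, 25),
  (127267, 5, 83131, 41),
  (127269, 6, 244193, 17),
  (127270, 5, 254116, 43),
  (127275, 6, 209278, 20),
  (127277, 6, 250038, 19),
  (127278, 5, 180488, 39),
  (127283, 6, 225614, 20),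
  (127285, 5, 143763, 44),
  (127286, 5, 102622, 37),
  (127291, 6, 225630, 20),
  (127293, 6, 192559, 21),
  (127294, 5, 67730, 37),
  (127299, 6, 238889, 10),
  (127301, 6, 258454, 19),
  (127302, 5, 243834, 14),
  (127307, 6, 185595, 1),
  (127309, 6, 154819, 24),
  (127310, 5, 14842, 8),
  (127315, 6, 205035, 3),
  (127317, 6, 212011, 22),
  (127318, 6, 258459, 19),
  (127323, 5, 102565, 42),
  (127325, 6, 190941, 12),
  (127326, 6, 129454, 4),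
  (127331, 6, 194027, 12),
  (127333, 6, 195053, 12),
  (127334, 4, 172114, 40),
  (127339, 5, 53539, 39),
  (127341, 6, 190957, 12),
  (127342, 5, 102622, 42),
  (127347, 6, 178283, 22),
  (127349, 6, 250270, 19),
  (127350, 5, 75798, 37),
  (127355, 6, 259345, 10),
  (127357, 6, 125337, 7),
  (127358, 5, 110614, 37),
  (127363, 6, 78182, 20),
  (127365, 5, 195041, 17),
  (127366, 5, 244206, 1),
  (127371, 6, 250939, 1),
  (127373, 5, 11475, 37),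
  (127374, 5, 75906, 37),
  (127379, 5, 191595, 22),
  (127381, 7, 172339, 40),
  (127382, 6, 235706, 14),
  (127387, 6, 112107, 15),
  (127389, 6, 113133, 15),
  (127390, 6, 106696, 42),
  (127395, 6, 146805, 22),
  (127397, 5, 102507, 42),
  (127398, 5, 178658, 17),
  (127403, 5, 83237, 41),
  (127405, 5, 102501, 42),
  (127406, 6, 126261, 24),
  (127411, 6, 185745, 2),
  (127413, 6, 129477, 15),
  (127414, 6, 247870, 7),
  (127419, 6, 251001, 16),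
  (127421, 6, 94555, 20),
  (127422, 6, 251958, 7),
  (127427, 6, 259403, 12),
  (127429, 6, 260429, 12),
  (127430, 5, 172116, 40),
  (127435, 5, 83027, 41),
  (127437, 6, 128143, 23),
  (127438, 6, 162282, 17),
  (127443, 6, 243779, 24),
  (127445, 5, 53571, 39),
  (127446, 6, 67970, 38),
  (127451, 6, 94678, 20),
  (127453, 6, 94675, 20),
  (127454, 6, 63918, 4),
  (127459, 5, 78318, 20),
  (127461, 6, 250326, 19),
  (127462, 6, 137335, 23),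
  (127467, 6, 123967, 21),
  (127469, 6, 121137, 11),
  (127470, 6, 145898, 17),
  (127475, 6, 185809, 2),
  (127477, 5, 252121, 14),
  (127478, 6, 192702, 15),
  (127483, 5, 242795, 1),
  (127485, 6, 129313, 11),
  (127486, 5, 252350, 13),
  (128005, 5, 133297, 43),
  (128007, 5, 41033, 37),
  (128013, 6, 252050, 26),
  (128015, 5, 133153, 43),
  (128021, 6, 97359, 8),
  (128023, 6, 232625, 23),
  (128029, 6, 111845, 3),
  (128031, 6, 63735, 5),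
  (128037, 6, 211243, 20),
  (128039, 6, 252018, 26),
  (128045, 6, 95303, 10),
  (128047, 5, 252146, 26),
  (128053, 5, 5373, 6),
  (128055, 6, 252274, 26),
  (128061, 6, 252370, 26),
  (128063, 6, 175465, 19),
  (128069, 5, 133409, 43),
  (128071, 6, 97507, 17),
  (128077, 5, 40969, 37),
  (128079, 6, 157949, 25),
  (128085, 6, 259155, 24),
  (128087, 5, 41139, 37),
  (128093, 6, 204926, 26),
  (128095, 6, 36217, 19),
  (128101, 6, 249229, 22),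
  (128103, 5, 98397, 40),
  (128109, 6, 39163, 1),
  (128111, 6, 89181, 15),
  (128117, 5, 20597, 44),
  (128119, 6, 97349, 15),
  (128125, 6, 237630, 26),
  (128127, 6, 253982, 26),
  (128133, 6, 128087, 16),
  (128135, 6, 251958, 26),
  (128141, 6, 252054, 26),
  (128143, 5, 129127, 5),
  (128149, 6, 118161, 23),
  (128151, 6, 39095, 2),
  (128157, 6, 252310, 26),
  (128159, 5, 17617, 39),
  (128165, 6, 125179, 4),
  (128167, 5, 133465, 43),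
  (128173, 6, 252118, 26),
  (128175, 6, 252150, 26),
  (128181, 5, 9635, 41),
  (128183, 5, 41049, 37),
  (128189, 6, 252374, 26),
  (128191, 5, 133157, 43),
  (128197, 6, 175151, 19),
  (128199, 6, 80295, 20),
  (128205, 6, 191503, 19),
  (128207, 5, 5367, 3),
  (128213, 6, 126337, 23),
  (128215, 6, 125963, 11),
  (128221, 6, 195591, 19),
  (128223, 6, 3449, 19),
  (128229, 6, 199031, 23),
  (128231, 6, 59802, 26),
  (128237, 6, 200053, 23),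
  (128239, 6, 17759, 39),
  (128245, 5, 135435, 38),
  (128247, 6, 97477, 15),
  (128253, 5, 98401, 40),
  (128255, 6, 96671, 20),
  (128257, 6, 135345, 38),
  (128259, 6, 185521, 1),
  (128265, 6, 74219, 7),
  (128267, 6, 211318, 20),
  (128273, 5, 98377, 40),
  (128275, 6, 205179, 10),
  (128281, 5, 98793, 40),
  (128283, 6, 63663, 21),
  (128289, 5, 20493, 44),
  (128291, 6, 211310, 20),
  (128297, 6, 211322, 20),
  (128299, 4, 98419, 40),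
  (128305, 6, 94683, 7),
  (128307, 5, 41159, 37),
  (128313, 6, 185595, 16),
  (128315, 6, 174569, 19),
  (128321, 6, 192971, 12),
  (128323, 6, 248881, 26),
  (128329, 6, 79279, 23),
  (128331, 6, 249009, 26),
  (128337, 6, 249105, 26),
  (128339, 6, 111733, 21),
  (128345, 5, 133287, 43),
  (128347, 5, 98505, 40),
  (128353, 6, 250939, 8),
  (128355, 6, 88375, 23),
  (128361, 4, 17769, 39),
  (128363, 5, 17699, 39),
  (128369, 6, 112107, 13),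
  (128371, 6, 113777, 21),
  (128377, 5, 249297, 26),
  (128379, 6, 218481, 4),
  (128385, 5, 242873, 14),
  (128387, 6, 251341, 25),
  (128393, 5, 135531, 38),
  (128395, 6, 194027, 17),
  (128401, 5, 67601, 42),
  (128403, 6, 248119, 26),
  (128409, 6, 89499, 23),
  (128411, 6, 96598, 20),
  (128417, 5, 67617, 42),
  (128419, 6, 185805, 25),
  (128425, 6, 128191, 21),
  (128427, 5, 135253, 38),
  (128433, 4, 68017, 42),
  (128435, 6, 96590, 20),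
  (128441, 6, 127167, 21),
  (128443, 6, 21965, 25),
  (128449, 6, 80354, 20),
  (128451, 6, 242939, 14),
  (128457, 6, 126143, 21),
  (128459, 6, 251001, 1),
  (128465, 6, 38133, 21),
  (128467, 6, 96710, 20),
  (128473, 6, 125119, 21),
  (128475, 5, 98435, 40),
  (128481, 6, 80362, 20),
  (128483, 6, 87505, 15),
  (128489, 5, 133283, 43),
  (128491, 5, 67621, 42),
  (128497, 5, 244051, 24),
  (128499, 6, 96718, 20),
  (128505, 6, 128289, 11),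
  (128507, 6, 96734, 20),
  (129027, 6, 235578, 26),
  (129031, 5, 12361, 37),
  (129035, 5, 163909, 38),
  (129039, 6, 128087, 4),
  (129043, 6, 129271, 17),
  (129047, 5, 10589, 43),
  (129051, 6, 186545, 25),
  (129055, 6, 194721, 25),
  (129059, 6, 78203, 24),
  (129063, 5, 49389, 40),
  (129067, 6, 235770, 26),
  (129071, 6, 97349, 10),
  (129075, 6, 121137, 25),
  (129079, 6, 129313, 25),
  (129083, 6, 241935, 21),
  (129087, 5, 66617, 42),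
  (129091, 6, 111861, 2),
  (129095, 5, 69889, 44),
  (129099, 5, 49281, 40),
  (129103, 6, 193847, 19),
  (129107, 5, 66971, 42),
  (129111, 4, 132203, 41),
  (129115, 5, 10573, 43),
  (129119, 6, 194725, 25),
  (129123, 6, 150989, 22),
  (129127, 4, 12691, 37),
  (129131, 6, 127286, 26),
  (129135, 6, 127294, 26),
  (129139, 6, 95303, 15),
  (129143, 6, 192702, 26),
  (129147, 5, 69733, 44),
  (129151, 6, 35007, 6),
  (129155, 6, 235582, 26),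
  (129159, 6, 61671, 17),
  (129163, 6, 235710, 26),
  (129167, 6, 125963, 12),
  (129171, 5, 249297, 23),
  (129175, 6, 231742, 26),
  (129179, 6, 90589, 25),
  (129183, 6, 231870, 26),
  (129187, 6, 235646, 26),
  (129191, 6, 93389, 10),
  (129195, 6, 163239, 20),
  (129199, 6, 97477, 10),
  (129203, 4, 10661, 43),
  (129207, 5, 12377, 37),
  (129211, 5, 49265, 40),
  (129215, 5, 126011, 12),
  (129219, 6, 192739, 24),
  (129223, 6, 130123, 12),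
  (129227, 6, 125401, 25),
  (129231, 6, 193911, 19),
  (129235, 6, 38133, 2),
  (129239, 6, 162042, 26),
  (129243, 6, 129031, 11),
  (129247, 6, 89181, 16),
  (129251, 5, 66843, 42),
  (129255, 6, 63930, 26),
  (129259, 6, 36089, 13),
  (129263, 6, 95479, 4),
  (129267, 6, 194738, 26),
  (129271, 5, 12307, 37),
  (129275, 5, 49345, 40),
  (129279, 6, 49649, 40),
  (129281, 6, 235547, 26),
  (129282, 5, 106926, 16),
  (129285, 6, 132589, 41),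
  (129286, 6, 244074, 1),
  (129289, 6, 139711, 22),
  (129290, 5, 180478, 10),
  (129293, 5, 74221, 7),
  (129294, 5, 69718, 44),
  (129297, 5, 69705, 44),
  (129298, 5, 239850, 3),
  (129301, 6, 173181, 21),
  (129302, 6, 48515, 25),
  (129305, 6, 235951, 24),
  (129306, 5, 10390, 43),
  (129309, 6, 162991, 22),
  (129310, 6, 10278, 43),
  (129313, 5, 18721, 39),
  (129314, 5, 112734, 42),
  (129317, 6, 195050, 19),
  (129318, 5, 163860, 43),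
  (129321, 5, 132507, 41),
  (129322, 5, 135204, 39),
  (129325, 5, 252117, 3),
  (129326, 5, 180548, 39),
  (129329, 6, 80246, 19),
  (129330, 6, 235883, 26),
  (129333, 6, 190954, 19),
  (129334, 4, 172114, 41),
  (129337, 6, 96598, 19),
  (129338, 5, 163940, 38),
  (129341, 6, 186621, 16),
  (129342, 5, 49412, 40),
  (129345, 6, 162001, 16),
  (129346, 6, 7639, 25),
  (129349, 6, 241789, 14),
  (129350, 5, 10442, 43),
  (129353, 6, 156063, 22),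
  (129354, 6, 111078, 16),
  (129357, 6, 60719, 21),
  (129358, 6, 113122, 16),
  (129361, 6, 211046, 19),
  (129362, 5, 20610, 42),
  (129365, 6, 213341, 4),
  (129366, 5, 164116, 38),
  (129369, 6, 227398, 19),
  (129370, 6, 224355, 24),
  (129373, 5, 69833, 44),
  (129374, 6, 129450, 4),
  (129377, 6, 260189, 14),
  (129378, 5, 163876, 39),
  (129381, 5, 63978, 19),
  (129382, 5, 151820, 39),
  (129385, 6, 125325, 7),
  (129386, 5, 75798, 42),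
  (129389, 5, 132363, 41),
  (129390, 5, 47234, 42),
  (129393, 6, 211062, 19),
  (129394, 5, 49444, 40),
  (129397, 6, 113133, 13),
  (129398, 5, 163876, 38),
  (129401, 6, 260369, 10),
  (129402, 6, 133510, 42),
  (129405, 6, 43498, 19),
  (129406, 6, 113066, 4),
  (129409, 6, 33151, 21),
  (129410, 4, 12502, 37),
  (129413, 6, 154106, 19),
  (129414, 5, 133250, 42),
  (129417, 6, 195053, 17),
  (129418, 5, 164196, 38),
  (129421, 6, 260189, 16),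
  (129422, 5, 69658, 44),
  (129425, 5, 18689, 39),
  (129426, 6, 162010, 15),
  (129429, 6, 89305, 23),
  (129430, 5, 75906, 42),
  (129433, 6, 194879, 21),
  (129434, 5, 151588, 39),
  (129437, 6, 133626, 19),
  (129438, 5, 164196, 39),
  (129441, 5, 18561, 39),
  (129442, 6, 162026, 15),
  (129445, 5, 132517, 41),
  (129446, 6, 198843, 21),
  (129449, 6, 213245, 8),
  (129450, 5, 10386, 43),
  (129453, 6, 145898, 19),
  (129454, 5, 10274, 43),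
  (129457, 5, 18865, 39),
  (129458, 6, 162042, 15),
  (129461, 6, 90477, 11),
  (129462, 5, 250014, 14),
  (129465, 6, 192831, 21),
  (129466, 5, 199034, 6),
  (129469, 6, 129481, 15),
  (129470, 6, 251131, 19),
  (129473, 6, 243965, 14),
  (129474, 5, 49508, 40),
  (129477, 5, 164139, 38),
  (129478, 5, 164132, 38),
  (129481, 5, 49493, 40),
  (129482, 6, 106696, 37),
  (129485, 6, 244133, 10),
  (129486, 6, 93503, 21),
  (129489, 5, 49331, 40),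
  (129490, 5, 200842, 41),
  (129493, 6, 193721, 20),
  (129494, 5, 20778, 41),
  (129497, 6, 190783, 21),
  (129498, 5, 10390, 42),
  (129501, 5, 18693, 39),
  (129502, 6, 248126, 6),
  (129505, 6, 39283, 21),
  (129506, 5, 106584, 44),
  (129509, 6, 31210, 19),
  (129510, 5, 163860, 38),
  (129513, 6, 189759, 21),
  (129514, 6, 171061, 23),
  (129517, 5, 18565, 39),
  (129518, 6, 36313, 25),
  (129521, 5, 74109, 5),
  (129522, 6, 194746, 15),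
  (129525, 6, 232797, 26),
  (129526, 5, 186626, 41),
  (129529, 6, 243821, 1),
  (129530, 6, 249974, 7),
  (129533, 5, 18869, 39),
  (129534, 6, 72182, 12),
  (130049, 6, 148671, 20),
  (130051, 6, 251962, 26),
  (130053, 6, 97693, 20),
  (130055, 6, 247866, 26),
  (130057, 5, 223537, 43),
  (130059, 6, 252090, 26),
  (130061, 6, 67063, 23),
  (130063, 6, 258315, 24),
  (130065, 6, 252186, 26),
  (130067, 6, 252218, 26),
  (130069, 6, 97355, 8),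
  (130071, 6, 103487, 14),
  (130073, 5, 126123, 13),
  (130075, 6, 232691, 23),
  (130077, 6, 93259, 8),
  (130079, 6, 199923, 23),
  (130081, 6, 39095, 1),
  (130083, 6, 125239, 23),
  (130085, 6, 232749, 22),
  (130087, 6, 247930, 26),
  (130089, 6, 252122, 26),
  (130091, 6, 93389, 7),
  (130093, 6, 248026, 26),
  (130095, 6, 248058, 26),
  (130097, 6, 127047, 15),
  (130099, 6, 128069, 15),
  (130101, 6, 248154, 26),
  (130103, 6, 248186, 26),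
  (130105, 6, 252378, 26),
  (130107, 6, 252410, 26),
  (130109, 6, 248282, 26),
  (130111, 6, 248314, 26),
  (130113, 6, 31955, 16),
  (130115, 6, 185587, 24),
  (130117, 7, 31213, 25),
  (130119, 6, 27117, 25),
  (130121, 5, 223393, 43),
  (130123, 5, 223489, 43),
  (130125, 5, 129203, 9),
  (130127, 6, 206055, 23),
  (130129, 6, 143606, 26),
  (130131, 6, 126991, 8),
  (130133, 6, 61671, 1),
  (130135, 6, 95479, 17),
  (130137, 6, 161863, 19),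
  (130139, 6, 218227, 24),
  (130141, 6, 125963, 8),
  (130143, 6, 225374, 26),
  (130145, 6, 125963, 10),
  (130147, 6, 84349, 25),
  (130149, 6, 45502, 26),
  (130151, 6, 61854, 26),
  (130153, 6, 219261, 25),
  (130155, 6, 127254, 26),
  (130157, 6, 110910, 26),
  (130159, 6, 129031, 10),
  (130161, 6, 121149, 25),
  (130163, 6, 192662, 26),
  (130165, 6, 93389, 3),
  (130167, 6, 234867, 24),
  (130169, 6, 161879, 19),
  (130171, 6, 95309, 15),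
  (130173, 6, 241726, 26),
  (130175, 6, 36031, 6),
  (130177, 6, 36089, 3),
  (130179, 6, 251966, 26),
  (130181, 6, 129035, 12),
  (130183, 5, 129111, 16),
  (130185, 6, 128103, 5),
  (130187, 6, 252094, 26),
  (130189, 6, 247966, 26),
  (130191, 6, 247998, 26),
  (130193, 5, 34269, 21),
  (130195, 6, 252222, 26),
  (130197, 6, 248094, 26),
  (130199, 6, 248126, 26),
  (130201, 6, 244127, 21),
  (130203, 5, 252350, 26),
  (130205, 6, 248222, 26),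
  (130207, 6, 95303, 11),
  (130209, 7, 171429, 22),
  (130211, 6, 126205, 4),
  (130213, 6, 184789, 25),
  (130215, 6, 128159, 14),
  (130217, 6, 129271, 4),
  (130219, 6, 27853, 7),
  (130221, 6, 36031, 13),
  (130223, 6, 35007, 13),
  (130225, 6, 215275, 22),
  (130227, 6, 252286, 26),
  (130229, 6, 167129, 21),
  (130231, 6, 248190, 26),
  (130233, 5, 223541, 43),
  (130235, 6, 252414, 26),
  (130237, 6, 120217, 24),
  (130239, 6, 128393, 24),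
  (130241, 6, 214335, 20),
  (130243, 6, 31186, 26),
  (130245, 5, 14842, 26),
  (130247, 6, 31194, 26),
  (130249, 6, 241055, 21),
  (130251, 5, 126011, 6),
  (130253, 6, 191501, 19),
  (130255, 5, 6523, 19),
  (130257, 5, 129127, 1),
  (130259, 6, 162002, 26),
  (130261, 6, 145658, 26),
  (130263, 6, 162010, 26),
  (130265, 6, 194567, 19),
  (130267, 6, 227410, 26),
  (130269, 6, 97395, 5),
  (130271, 6, 39163, 2),
  (130273, 6, 97395, 16),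
  (130275, 6, 39163, 13),
  (130277, 6, 170195, 21),
  (130279, 6, 63898, 26),
  (130281, 6, 239007, 21),
  (130283, 6, 129298, 26),
  (130285, 6, 112954, 26),
  (130287, 6, 129306, 26),
  (130289, 5, 223637, 43),
  (130291, 6, 204083, 20),
  (130293, 6, 178362, 26),
  (130295, 6, 194714, 26),
  (130297, 5, 171271, 38),
  (130299, 6, 95437, 15),
  (130301, 5, 223253, 43),
  (130303, 6, 201075, 24),
  (131073, 3, 4097, 35),
  (131074, 3, 16420, 32),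
  (131076, 2, 32776, 23),
  (131079, 4, 32775, 20),
  (131080, 2, 131332, 32),
  (131083, 4, 90289, 26),
  (131085, 5, 204811, 39),
  (131086, 4, 90114, 38),
  (131088, 2, 32776, 31),
  (131091, 4, 155953, 26),
  (131093, 4, 8577, 22),
  (131094, 7, 16802, 21),
  (131097, 4, 205201, 26),
  (131098, 4, 213409, 26),
  (131100, 4, 34830, 23),
  (131103, 5, 175, 19),
  (131104, 2, 32776, 20),
  (131107, 5, 32782, 20),
  (131109, 5, 32779, 20),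
  (131110, 5, 32781, 20),
  (131113, 6, 4385, 12),
  (131114, 4, 8353, 19),
  (131116, 4, 37953, 23),
  (131119, 6, 225714, 25),
  (131121, 3, 305, 12),
  (131122, 6, 155938, 14),
  (131124, 4, 36933, 23),
  (131127, 5, 158775, 15),
  (131128, 5, 5125, 23),
  (131131, 6, 5427, 12),
  (131133, 5, 205195, 39),
  (131134, 5, 90258, 38),
  (131136, 2, 65538, 28),
  (131139, 6, 131395, 14),
  (131141, 5, 213424, 22),
  (131142, 6, 163846, 12),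
  (131145, 4, 2121, 24),
  (131146, 3, 417, 19),
  (131148, 6, 37124, 11),
  (131151, 5, 423, 19),
  (131153, 4, 8481, 22),
  (131154, 3, 36934, 25),
  (131156, 4, 8353, 22),
  (131159, 6, 61558, 25),
  (131160, 7, 10270, 23),
  (131163, 6, 184678, 25),
  (131165, 4, 430, 19),
  (131166, 5, 427, 19),
  (131169, 6, 180225, 5),
  (131170, 4, 8577, 19),
  (131172, 4, 33865, 26),
  (131175, 6, 94390, 25),
  (131176, 5, 213424, 19),
  (131179, 4, 43302, 22),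
  (131181, 5, 204981, 39),
  (131182, 5, 184334, 12),
  (131184, 5, 155766, 42),
  (131187, 6, 41251, 22),
  (131189, 6, 16750, 21),
  (131190, 5, 110806, 25),
  (131193, 6, 246246, 25),
  (131194, 5, 205186, 39),
  (131196, 6, 238038, 25),
  (131199, 6, 192831, 3),
  (131200, 3, 65552, 28),
  (131203, 6, 163846, 20),
  (131205, 6, 1073, 25),
  (131206, 4, 196656, 21),
  (131209, 5, 2122, 24),
  (131210, 4, 225, 19),
  (131212, 4, 226, 19),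
  (131215, 5, 231, 19),
  (131217, 3, 401, 10),
  (131218, 4, 5193, 25),
  (131220, 6, 204948, 2),
  (131223, 6, 5241, 25),
  (131224, 6, 204824, 4),
  (131227, 5, 237, 19),
  (131229, 6, 116910, 23),
  (131230, 5, 235, 19),
  (131233, 3, 417, 4),
  (131234, 5, 188486, 44),
  (131236, 4, 34893, 26),
  (131239, 6, 25076, 21),
  (131240, 6, 213384, 1),
  (131243, 6, 125173, 26),
  (131245, 6, 6569, 4),
  (131246, 5, 41030, 44),
  (131248, 4, 196912, 6),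
  (131251, 4, 198938, 24),
  (131253, 6, 205221, 16),
  (131254, 6, 5337, 25),
  (131257, 6, 8428, 19),
  (131258, 6, 180284, 20),
  (131260, 4, 199010, 24),
  (131263, 5, 199034, 24),
  (131265, 4, 90296, 23),
  (131266, 4, 7177, 25),
  (131268, 4, 3085, 26),
  (131271, 5, 455, 19),
  (131272, 5, 2115, 24),
  (131275, 5, 155829, 42),
  (131277, 4, 486, 19),
  (131278, 6, 235910, 10),
  (131280, 4, 3137, 25),
  (131283, 6, 180390, 20),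
  (131285, 5, 38187, 43),
  (131286, 6, 7257, 25),
  (131289, 4, 492, 19),
  (131290, 5, 204946, 39),
  (131292, 4, 490, 19),
  (131295, 6, 67707, 24),
  (131296, 4, 35909, 26),
  (131299, 6, 24828, 21),
  (131301, 6, 3249, 25),
  (131302, 6, 25020, 21),
  (131305, 6, 3489, 25),
  (131306, 5, 155924, 42),
  (131308, 4, 10414, 22),
  (131311, 6, 126205, 26),
  (131313, 6, 198923, 24),
  (131314, 5, 78046, 44),
  (131316, 6, 24894, 21),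
  (131319, 6, 7417, 25),
  (131320, 6, 147928, 11),
  (131323, 5, 155781, 42),
  (131325, 5, 204837, 39),
  (131326, 6, 7641, 25),
  (131329, 3, 32833, 31),
  (131330, 2, 65538, 34),
  (131332, 1, 72, 23),
  (131335, 4, 32839, 20),
  (131336, 3, 131076, 32),
  (131339, 4, 90113, 26),
  (131341, 6, 6401, 14),
  (131342, 3, 417, 21),
  (131344, 2, 32776, 35),
  (131347, 4, 155649, 26),
  (131349, 4, 65550, 19),
  (131350, 7, 37196, 23),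
  (131353, 4, 204801, 26),
  (131354, 4, 212993, 26),
  (131356, 3, 38918, 23),
  (131359, 6, 235910, 23),
  (131360, 2, 32840, 20),
  (131363, 5, 32846, 20),
  (131365, 4, 32843, 20),
  (131366, 4, 32845, 20),
  (131369, 6, 37124, 24),
  (131370, 4, 73761, 19),
  (131372, 4, 293, 21),
  (131375, 5, 213045, 37),
  (131377, 4, 155953, 15),
  (131378, 6, 155938, 8),
  (131380, 4, 294, 21),
  (131383, 4, 486, 21),
  (131384, 4, 39, 21),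
  (131387, 5, 231, 21),
  (131389, 6, 119172, 24),
  (131390, 5, 90146, 38),
  (131392, 3, 16420, 29),
  (131395, 5, 90355, 38),
  (131397, 5, 213008, 22),
  (131398, 6, 165958, 13),
  (131401, 4, 2125, 24),
  (131402, 4, 205202, 39),
  (131404, 6, 135244, 8),
  (131407, 5, 489, 21),
  (131409, 5, 8497, 22),
  (131410, 4, 34830, 25),
  (131412, 4, 8369, 22),
  (131415, 4, 490, 21),
  (131416, 7, 49392, 20),
  (131419, 5, 235, 21),
  (131421, 6, 112790, 23),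
  (131422, 5, 427, 21),
  (131425, 6, 8498, 22),
  (131426, 4, 73985, 19),
  (131428, 4, 36875, 26),
  (131431, 4, 492, 21),
  (131432, 4, 147888, 19),
  (131435, 5, 237, 21),
  (131437, 5, 365, 21),
  (131438, 6, 184390, 6),
  (131440, 6, 163952, 3),
  (131443, 6, 24931, 14),
  (131445, 5, 38185, 43),
  (131446, 4, 430, 21),
  (131449, 6, 5277, 23),
  (131450, 5, 204818, 39),
  (131452, 6, 37981, 23),
  (131455, 6, 495, 21),
  (131456, 3, 131104, 29),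
  (131459, 6, 65605, 19),
  (131461, 6, 2433, 14),
  (131462, 5, 213008, 21),
  (131465, 5, 2126, 24),
  (131466, 4, 8369, 21),
  (131468, 5, 8497, 21),
  (131471, 4, 233556, 22),
  (131473, 4, 205201, 11),
  (131474, 4, 5195, 25),
  (131476, 5, 213038, 37),
  (131479, 6, 37356, 23),
  (131480, 6, 67654, 24),
  (131483, 6, 219558, 23),
  (131485, 6, 180339, 20),
  (131486, 5, 10322, 44),
  (131489, 3, 417, 8),
  (131490, 6, 213122, 6),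
  (131492, 4, 38921, 26),
  (131495, 6, 37353, 23),
  (131496, 5, 155694, 42),
  (131499, 6, 213003, 17),
  (131501, 6, 163931, 20),
  (131502, 5, 90130, 38),
  (131504, 4, 213296, 7),
  (131507, 6, 8438, 21),
  (131509, 6, 180331, 20),
  (131510, 6, 73803, 19),
  (131513, 5, 180346, 20),
  (131514, 6, 73833, 19),
  (131516, 5, 106510, 40),
  (131519, 5, 213429, 37),
  (131521, 4, 2063, 24),
  (131522, 4, 7179, 25),
  (131524, 5, 6155, 26),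
  (131527, 5, 90405, 38),
  (131528, 4, 2119, 24),
  (131531, 6, 225714, 23),
  (131533, 6, 127154, 23),
  (131534, 5, 39370, 2),
  (131536, 4, 3139, 25),
  (131539, 5, 35989, 44),
  (131541, 6, 65870, 19),
  (131542, 6, 37244, 23),
  (131545, 6, 204873, 2),
  (131546, 5, 12372, 41),
  (131548, 5, 63542, 23),
  (131551, 6, 207949, 2),
  (131552, 5, 34819, 26),
  (131555, 6, 34273, 8),
  (131557, 6, 8572, 21),
  (131558, 4, 41146, 22),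
  (131561, 6, 74084, 19),
  (131562, 5, 204930, 39),
  (131564, 5, 217412, 13),
  (131567, 6, 129035, 26),
  (131569, 6, 90577, 1),
  (131570, 4, 41019, 22),
  (131572, 6, 74058, 19),
  (131575, 5, 36175, 44),
  (131576, 6, 5181, 23),
  (131579, 5, 180478, 20),
  (131581, 6, 38141, 23),
  (131582, 6, 38269, 23),
  (132101, 5, 34819, 20),
  (132103, 4, 34823, 20),
  (132105, 5, 73905, 26),
  (132107, 4, 90257, 26),
  (132113, 4, 139569, 26),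
  (132115, 4, 155921, 26),
  (132125, 4, 53500, 24),
  (132127, 6, 89089, 19),
  (132129, 4, 34826, 20),
  (132131, 4, 34830, 20),
  (132141, 6, 6439, 12),
  (132143, 6, 82405, 21),
  (132149, 6, 82278, 21),
  (132151, 6, 159916, 24),
  (132153, 6, 51258, 20),
  (132155, 6, 246250, 25),
  (132161, 6, 20526, 25),
  (132163, 6, 164865, 15),
  (132173, 6, 160062, 25),
  (132175, 4, 155966, 25),
  (132181, 6, 36113, 17),
  (132183, 6, 82410, 21),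
  (132185, 5, 177491, 8),
  (132187, 4, 51382, 20),
  (132197, 6, 94398, 25),
  (132199, 3, 90302, 25),
  (132201, 6, 34970, 20),
  (132203, 3, 213422, 25),
  (132209, 5, 371, 12),
  (132211, 6, 24931, 2),
  (132221, 5, 6519, 12),
  (132223, 6, 169429, 23),
  (132225, 6, 98480, 21),
  (132227, 6, 10266, 24),
  (132237, 5, 115114, 23),
  (132239, 6, 117761, 19),
  (132245, 6, 41417, 22),
  (132247, 5, 407, 10),
  (132249, 6, 121069, 19),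
  (132251, 5, 215214, 23),
  (132261, 6, 90484, 21),
  (132263, 5, 216097, 7),
  (132265, 6, 136353, 23),
  (132267, 6, 90357, 21),
  (132273, 6, 155827, 15),
  (132275, 3, 90358, 21),
  (132285, 6, 90487, 21),
  (132287, 6, 220209, 7),
  (132293, 6, 232903, 19),
  (132295, 6, 7217, 25),
  (132297, 6, 37259, 4),
  (132299, 6, 90361, 21),
  (132305, 6, 142645, 26),
  (132307, 4, 90362, 21),
  (132317, 6, 112069, 6),
  (132319, 6, 175261, 15),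
  (132321, 6, 44149, 26),
  (132323, 4, 90364, 21),
  (132333, 6, 39339, 4),
  (132335, 6, 252047, 5),
  (132341, 6, 159201, 14),
  (132343, 6, 8683, 22),
  (132345, 6, 182458, 20),
  (132347, 6, 242939, 11),
  (132357, 5, 34883, 20),
  (132359, 4, 34887, 20),
  (132361, 4, 90145, 26),
  (132363, 4, 73761, 26),
  (132369, 5, 155681, 26),
  (132371, 5, 139297, 26),
  (132381, 5, 127124, 24),
  (132383, 6, 51319, 20),
  (132385, 4, 34890, 20),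
  (132387, 4, 34894, 20),
  (132397, 6, 225282, 25),
  (132399, 6, 6439, 8),
  (132405, 6, 126978, 25),
  (132407, 7, 86420, 24),
  (132409, 4, 110996, 24),
  (132411, 6, 136589, 23),
  (132417, 6, 164865, 17),
  (132419, 6, 131395, 13),
  (132429, 6, 65897, 21),
  (132431, 4, 241810, 23),
  (132437, 6, 63494, 25),
  (132439, 4, 168412, 23),
  (132441, 6, 75853, 24),
  (132443, 4, 211094, 23),
  (132453, 6, 65900, 21),
  (132455, 6, 66028, 21),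
  (132457, 6, 141645, 24),
  (132459, 7, 65773, 21),
  (132465, 6, 207117, 24),
  (132467, 6, 189507, 6),
  (132477, 6, 137335, 12),
  (132479, 6, 193607, 6),
  (132481, 6, 1411, 8),
  (132483, 6, 165958, 20),
  (132493, 7, 7553, 14),
  (132495, 6, 5427, 25),
  (132501, 6, 208273, 11),
  (132503, 7, 74226, 21),
  (132505, 6, 43357, 22),
  (132507, 4, 182390, 20),
  (132517, 4, 141614, 24),
  (132519, 6, 141630, 24),
  (132521, 6, 73845, 21),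
  (132523, 6, 4515, 8),
  (132529, 6, 41307, 22),
  (132531, 5, 112785, 19),
  (132541, 6, 220575, 5),
  (132543, 6, 130193, 19),
  (132549, 6, 74104, 21),
  (132551, 6, 232577, 19),
  (132553, 5, 166098, 20),
  (132555, 5, 184340, 22),
  (132561, 6, 73850, 21),
  (132563, 6, 73978, 21),
  (132573, 6, 129462, 23),
  (132575, 6, 7539, 25),
  (132577, 6, 181475, 10),
  (132579, 6, 8570, 22),
  (132589, 5, 74109, 21),
  (132591, 6, 248843, 17),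
  (132597, 6, 74110, 21),
  (132599, 6, 207167, 24),
  (132601, 6, 185595, 10),
  (132603, 7, 136637, 23),
  (133123, 5, 3143, 20),
  (133127, 4, 35905, 20),
  (133129, 6, 204948, 22),
  (133130, 5, 147617, 21),
  (133133, 6, 155938, 25),
  (133134, 5, 147873, 21),
  (133137, 4, 73985, 22),
  (133138, 7, 4420, 23),
  (133141, 4, 74113, 22),
  (133142, 6, 37124, 23),
  (133147, 7, 231886, 23),
  (133151, 5, 287, 17),
  (133153, 4, 5195, 20),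
  (133154, 4, 6221, 20),
  (133157, 4, 37953, 20),
  (133158, 4, 38977, 20),
  (133163, 4, 108806, 22),
  (133167, 5, 192604, 24),
  (133171, 6, 106755, 22),
  (133175, 6, 192889, 26),
  (133177, 6, 147559, 21),
  (133178, 6, 157742, 8),
  (133181, 6, 242137, 26),
  (133182, 4, 242114, 25),
  (133185, 4, 147888, 22),
  (133186, 6, 165958, 11),
  (133189, 4, 213296, 22),
  (133190, 6, 12294, 25),
  (133195, 5, 95409, 26),
  (133199, 3, 205274, 23),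
  (133203, 7, 53366, 25),
  (133207, 6, 61542, 25),
  (133209, 6, 180598, 25),
  (133210, 6, 35102, 17),
  (133213, 5, 178461, 3),
  (133214, 6, 178462, 3),
  (133219, 6, 149785, 24),
  (133223, 6, 147948, 21),
  (133225, 6, 16749, 2),
  (133226, 5, 108582, 22),
  (133229, 6, 38033, 23),
  (133230, 5, 209286, 25),
  (133233, 6, 24933, 2),
  (133234, 6, 188502, 4),
  (133237, 6, 37013, 23),
  (133238, 6, 185705, 26),
  (133243, 6, 259569, 26),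
  (133247, 6, 194879, 3),
  (133249, 6, 2433, 10),
  (133250, 4, 196912, 21),
  (133253, 6, 196613, 7),
  (133254, 5, 65840, 21),
  (133259, 6, 246250, 23),
  (133263, 4, 213482, 23),
  (133267, 4, 83994, 24),
  (133271, 6, 37284, 23),
  (133273, 6, 211349, 26),
  (133274, 5, 200734, 16),
  (133277, 6, 205213, 1),
  (133278, 6, 65822, 17),
  (133283, 4, 149786, 24),
  (133287, 4, 106890, 22),
  (133289, 5, 116982, 19),
  (133290, 4, 213006, 4),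
  (133293, 6, 38049, 23),
  (133294, 6, 215050, 4),
  (133297, 4, 215306, 24),
  (133298, 6, 213046, 16),
  (133301, 4, 156022, 21),
  (133302, 6, 186733, 26),
  (133307, 6, 155895, 21),
  (133311, 6, 208301, 16),
  (133315, 6, 232833, 16),
  (133319, 6, 34183, 4),
  (133321, 6, 225428, 22),
  (133322, 6, 89253, 26),
  (133325, 4, 90362, 23),
  (133326, 3, 156026, 23),
  (133329, 6, 4340, 23),
  (133330, 6, 237974, 10),
  (133333, 3, 156026, 21),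
  (133334, 6, 37172, 23),
  (133339, 6, 155899, 21),
  (133343, 6, 1519, 19),
  (133345, 7, 74026, 22),
  (133346, 6, 245830, 4),
  (133349, 3, 156028, 21),
  (133350, 6, 37169, 23),
  (133355, 7, 149851, 24),
  (133359, 6, 220229, 13),
  (133363, 6, 241057, 16),
  (133367, 6, 215355, 24),
  (133369, 6, 243965, 11),
  (133370, 5, 194698, 12),
  (133373, 6, 129477, 6),
  (133374, 6, 211434, 7),
  (133379, 5, 35847, 20),
  (133383, 4, 3137, 20),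
  (133385, 6, 131085, 2),
  (133386, 4, 131233, 21),
  (133389, 6, 69826, 23),
  (133390, 4, 131489, 21),
  (133393, 5, 74001, 22),
  (133394, 6, 4428, 23),
  (133397, 5, 74129, 22),
  (133398, 7, 37132, 23),
  (133403, 6, 235974, 23),
  (133407, 6, 203206, 23),
  (133409, 4, 37899, 20),
  (133410, 4, 38925, 20),
  (133413, 5, 5185, 20),
  (133414, 4, 106642, 22),
  (133419, 6, 74789, 19),
  (133423, 6, 126977, 26),
  (133427, 5, 122906, 25),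
  (133431, 4, 114714, 25),
  (133433, 7, 161793, 6),
  (133434, 5, 22814, 2),
  (133437, 5, 102820, 24),
  (133438, 6, 249857, 26),
  (133441, 4, 213136, 22),
  (133442, 6, 163846, 1),
  (133445, 4, 147600, 22),
  (133446, 6, 163846, 17),
  (133451, 6, 66853, 19),
  (133455, 6, 39183, 3),
  (133459, 6, 131306, 21),
  (133463, 6, 131562, 21),
  (133465, 4, 190486, 25),
  (133466, 6, 178242, 6),
  (133469, 6, 80086, 23),
  (133470, 6, 174426, 4),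
  (133475, 4, 92190, 25),
  (133479, 6, 106930, 22),
  (133481, 6, 5337, 23),
  (133482, 6, 39266, 15),
  (133485, 6, 149869, 24),
  (133486, 6, 38169, 23),
  (133489, 6, 131182, 21),
  (133490, 6, 35186, 15),
  (133493, 6, 24933, 14),
  (133494, 5, 154030, 37),
  (133499, 6, 194627, 6),
  (133503, 6, 38301, 23),
  (133505, 6, 196613, 2),
  (133506, 3, 213264, 21),
  (133509, 6, 49424, 21),
  (133510, 5, 82192, 21),
  (133515, 6, 250338, 23),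
  (133519, 6, 142657, 20),
  (133523, 6, 139506, 21),
  (133527, 6, 205207, 11),
  (133529, 6, 121062, 23),
  (133530, 6, 139406, 13),
  (133533, 6, 210945, 26),
  (133534, 4, 84086, 24),
  (133539, 6, 13483, 25),
  (133543, 5, 216097, 2),
  (133545, 5, 76062, 22),
  (133546, 6, 213262, 4),
  (133549, 6, 153773, 10),
  (133550, 3, 213422, 8),
  (133553, 6, 4333, 23),
  (133554, 6, 74150, 7),
  (133557, 6, 139638, 21),
  (133558, 6, 24998, 14),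
  (133563, 6, 215390, 24),
  (133567, 6, 96575, 3),
  (133571, 6, 15403, 25),
  (133575, 5, 455, 14),
  (133577, 6, 11555, 25),
  (133578, 6, 202822, 5),
  (133581, 6, 206145, 20),
  (133582, 6, 160114, 23),
  (133585, 6, 4348, 23),
  (133586, 6, 117125, 20),
  (133589, 6, 139642, 21),
  (133590, 6, 33238, 2),
  (133595, 6, 260598, 23),
  (133599, 6, 177295, 4),
  (133601, 6, 139388, 21),
  (133602, 5, 137378, 37),
  (133605, 6, 74170, 22),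
  (133606, 6, 196710, 5),
  (133611, 6, 247823, 17),
  (133615, 6, 108990, 22),
  (133619, 6, 247189, 5),
  (133623, 5, 25063, 14),
  (133625, 5, 5373, 23),
  (133626, 5, 78318, 7),
  (133629, 6, 186621, 10),
  (133630, 6, 29158, 14),
  (134145, 4, 1095, 20),
  (134147, 4, 3139, 20),
  (134149, 4, 35909, 20),
  (134151, 4, 33184, 21),
  (134169, 6, 100814, 23),
  (134171, 6, 213219, 21),
  (134173, 4, 53468, 24),
  (134175, 6, 7441, 12),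
  (134185, 6, 147503, 15),
  (134187, 6, 127185, 26),
  (134189, 6, 110841, 26),
  (134191, 5, 127193, 26),
  (134193, 5, 311, 12),
  (134195, 4, 114938, 25),
  (134197, 7, 151708, 24),
  (134199, 3, 213478, 21),
  (134217, 6, 39183, 4),
  (134219, 6, 39243, 10),
  (134221, 6, 155860, 22),
  (134223, 6, 213481, 21),
  (134225, 5, 343, 12),
  (134227, 6, 213226, 21),
  (134229, 5, 168084, 23),
  (134231, 4, 213482, 21),
  (134241, 6, 181255, 5),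
  (134243, 6, 74082, 22),
  (134245, 6, 168081, 23),
  (134247, 4, 213484, 21),
  (134265, 6, 250366, 25),
  (134267, 7, 228371, 19),
  (134269, 6, 258542, 25),
  (134271, 6, 161879, 13),
  (134281, 6, 116967, 19),
  (134283, 4, 245994, 23),
  (134285, 5, 117989, 19),
  (134287, 6, 213226, 23),
  (134289, 6, 221298, 21),
  (134291, 4, 135652, 23),
  (134293, 5, 208263, 16),
  (134295, 5, 178517, 41),
  (134305, 7, 221300, 21),
  (134307, 6, 74058, 22),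
  (134309, 5, 423, 4),
  (134311, 6, 13489, 25),
  (134329, 6, 97665, 6),
  (134331, 6, 32091, 20),
  (134333, 6, 169125, 23),
  (134335, 6, 169381, 23),
  (134337, 6, 15413, 26),
  (134339, 6, 35267, 10),
  (134341, 6, 36295, 10),
  (134343, 6, 74216, 22),
  (134361, 6, 91607, 20),
  (134363, 6, 39387, 10),
  (134365, 6, 221563, 21),
  (134367, 6, 251907, 19),
  (134377, 5, 251023, 5),
  (134379, 5, 178265, 41),
  (134381, 6, 109038, 22),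
  (134383, 6, 115983, 17),
  (134385, 6, 11497, 25),
  (134387, 6, 189621, 15),
  (134389, 6, 106987, 22),
  (134391, 6, 74219, 22),
  (134401, 4, 33799, 20),
  (134403, 4, 35843, 20),
  (134405, 4, 3141, 20),
  (134407, 5, 1093, 20),
  (134425, 4, 192530, 25),
  (134427, 5, 146435, 6),
  (134429, 5, 110772, 24),
  (134431, 6, 184346, 25),
  (134441, 5, 108886, 22),
  (134443, 6, 147503, 2),
  (134445, 4, 45364, 24),
  (134447, 6, 37172, 24),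
  (134449, 5, 178241, 41),
  (134451, 6, 196838, 21),
  (134453, 6, 106963, 22)]

theorem chk_rows2_14 : rows2_14.all (rowBP tr2 gensLitP 72) = true := by decide +kernel

/-- Rows 22500 to 23999. -/
def rows2_15 : List (ℕ × ℕ × ℕ × ℕ) := [(134455, 6, 159025, 15),
  (134473, 4, 161814, 25),
  (134475, 6, 216195, 19),
  (134477, 5, 178509, 41),
  (134479, 6, 77859, 26),
  (134481, 6, 137615, 19),
  (134483, 5, 175109, 4),
  (134485, 7, 55318, 25),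
  (134487, 6, 197098, 21),
  (134497, 7, 96278, 25),
  (134499, 6, 147559, 2),
  (134501, 6, 157997, 24),
  (134503, 6, 35171, 8),
  (134521, 6, 128159, 20),
  (134523, 6, 260126, 25),
  (134525, 6, 258083, 26),
  (134527, 5, 191801, 15),
  (134537, 4, 200916, 22),
  (134539, 6, 44307, 20),
  (134541, 6, 142661, 20),
  (134543, 5, 168084, 22),
  (134545, 4, 135404, 23),
  (134547, 4, 92190, 24),
  (134549, 6, 161825, 26),
  (134551, 6, 92222, 24),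
  (134561, 4, 106842, 22),
  (134563, 5, 423, 8),
  (134565, 5, 205172, 21),
  (134567, 6, 168361, 23),
  (134585, 5, 97593, 3),
  (134587, 6, 220469, 7),
  (134589, 6, 205175, 21),
  (134591, 6, 97599, 3),
  (134593, 6, 204920, 21),
  (134595, 6, 74104, 22),
  (134597, 6, 200005, 20),
  (134599, 6, 35267, 8),
  (134617, 6, 129526, 23),
  (134619, 6, 260342, 23),
  (134621, 6, 205179, 21),
  (134623, 6, 13767, 14),
  (134633, 6, 252263, 7),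
  (134635, 5, 250177, 37),
  (134637, 6, 205181, 21),
  (134639, 6, 21991, 14),
  (134641, 6, 204926, 21),
  (134643, 6, 205054, 21),
  (134645, 5, 249235, 5),
  (134647, 6, 191921, 15),
  (135171, 5, 24753, 26),
  (135173, 6, 6401, 17),
  (135174, 4, 213377, 21),
  (135179, 4, 90161, 26),
  (135181, 6, 131085, 13),
  (135182, 4, 196641, 21),
  (135185, 4, 139665, 26),
  (135186, 5, 147873, 26),
  (135188, 4, 6218, 23),
  (135191, 5, 61810, 25),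
  (135193, 4, 205073, 26),
  (135194, 4, 213281, 26),
  (135196, 3, 36934, 23),
  (135199, 6, 57399, 20),
  (135201, 6, 135244, 24),
  (135202, 4, 24705, 19),
  (135204, 4, 37955, 23),
  (135207, 4, 41350, 22),
  (135209, 6, 4385, 4),
  (135210, 5, 24737, 19),
  (135212, 4, 36931, 23),
  (135215, 4, 192572, 24),
  (135219, 4, 143580, 24),
  (135221, 6, 24718, 19),
  (135222, 3, 155662, 12),
  (135227, 7, 176284, 24),
  (135229, 6, 237913, 26),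
  (135230, 6, 159750, 12),
  (135233, 4, 77834, 23),
  (135234, 4, 16769, 19),
  (135236, 6, 135244, 13),
  (135239, 4, 28982, 25),
  (135241, 4, 34889, 24),
  (135242, 5, 16801, 19),
  (135244, 5, 16782, 40),
  (135247, 7, 159798, 25),
  (135251, 6, 100377, 24),
  (135253, 4, 57718, 25),
  (135254, 6, 178462, 10),
  (135259, 5, 57526, 20),
  (135261, 6, 37078, 23),
  (135262, 6, 35102, 1),
  (135267, 6, 5523, 23),
  (135269, 6, 186701, 21),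
  (135270, 6, 39270, 13),
  (135275, 6, 166233, 24),
  (135277, 6, 24998, 19),
  (135278, 6, 115817, 26),
  (135281, 7, 24972, 19),
  (135282, 6, 61770, 6),
  (135284, 6, 37975, 23),
  (135287, 6, 38359, 23),
  (135289, 5, 377, 12),
  (135290, 5, 192602, 4),
  (135292, 6, 192820, 3),
  (135295, 6, 258294, 25),
  (135297, 4, 34826, 24),
  (135298, 4, 90241, 21),
  (135300, 4, 155905, 21),
  (135303, 7, 34874, 24),
  (135305, 4, 34890, 24),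
  (135306, 4, 65585, 21),
  (135308, 4, 131121, 21),
  (135311, 6, 37346, 23),
  (135315, 6, 136297, 25),
  (135317, 5, 413, 10),
  (135318, 6, 139406, 12),
  (135323, 5, 188470, 20),
  (135325, 6, 188467, 20),
  (135326, 5, 137378, 40),
  (135331, 6, 196779, 11),
  (135333, 6, 166186, 24),
  (135334, 6, 6566, 13),
  (135339, 6, 24805, 19),
  (135341, 6, 165937, 21),
  (135342, 6, 24803, 19),
  (135345, 5, 60487, 21),
  (135346, 4, 231698, 24),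
  (135348, 6, 158983, 21),
  (135351, 7, 24783, 19),
  (135353, 7, 35889, 21),
  (135354, 6, 90506, 6),
  (135356, 6, 204988, 2),
  (135359, 6, 163007, 15),
  (135363, 6, 34187, 4),
  (135365, 6, 16838, 19),
  (135366, 6, 235590, 4),
  (135371, 6, 4530, 23),
  (135373, 6, 16870, 19),
  (135374, 6, 202822, 16),
  (135377, 7, 188578, 20),
  (135378, 6, 237850, 3),
  (135380, 6, 139740, 17),
  (135383, 5, 34269, 10),
  (135385, 6, 4278, 23),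
  (135386, 6, 237978, 10),
  (135388, 6, 199949, 26),
  (135391, 5, 243923, 11),
  (135393, 6, 172170, 20),
  (135394, 6, 5427, 23),
  (135396, 5, 20910, 40),
  (135399, 6, 36267, 4),
  (135401, 5, 172186, 20),
  (135402, 5, 250146, 3),
  (135404, 3, 213068, 13),
  (135407, 5, 25063, 19),
  (135411, 6, 193715, 15),
  (135413, 6, 38135, 23),
  (135414, 6, 162282, 14),
  (135419, 6, 251025, 5),
  (135421, 6, 231787, 24),
  (135422, 5, 51646, 1),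
  (135427, 4, 90241, 26),
  (135429, 6, 131085, 10),
  (135430, 4, 213409, 21),
  (135435, 4, 24705, 26),
  (135437, 6, 37066, 23),
  (135438, 4, 212993, 21),
  (135441, 5, 204929, 26),
  (135442, 4, 213121, 26),
  (135444, 5, 2122, 23),
  (135447, 5, 127172, 24),
  (135449, 5, 139393, 26),
  (135450, 4, 147585, 26),
  (135452, 5, 36942, 23),
  (135455, 5, 146435, 4),
  (135457, 6, 41034, 20),
  (135458, 4, 90113, 19),
  (135460, 4, 37963, 23),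
  (135463, 6, 90119, 19),
  (135465, 6, 90148, 19),
  (135466, 4, 90145, 19),
  (135468, 5, 36939, 23),
  (135471, 6, 61577, 26),
  (135475, 4, 246026, 25),
  (135477, 4, 90126, 19),
  (135478, 6, 4414, 15),
  (135483, 6, 117761, 21),
  (135485, 6, 57467, 20),
  (135486, 3, 155662, 6),
  (135489, 5, 34829, 24),
  (135490, 5, 82177, 19),
  (135492, 6, 37124, 16),
  (135495, 4, 204874, 23),
  (135497, 4, 34893, 24),
  (135498, 4, 82209, 19),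
  (135500, 5, 197038, 40),
  (135503, 6, 37338, 23),
  (135507, 6, 120043, 21),
  (135509, 6, 82190, 19),
  (135510, 6, 218539, 21),
  (135515, 5, 57590, 20),
  (135517, 5, 178461, 15),
  (135518, 6, 218113, 21),
  (135523, 6, 121069, 21),
  (135525, 6, 38107, 23),
  (135526, 6, 38235, 23),
  (135531, 4, 84238, 25),
  (135533, 6, 186369, 21),
  (135534, 4, 37211, 23),
  (135537, 6, 192817, 15),
  (135538, 4, 41015, 22),
  (135540, 6, 147548, 8),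
  (135543, 6, 32083, 1),
  (135545, 6, 90412, 19),
  (135546, 6, 89089, 21),
  (135548, 4, 108806, 25),
  (135551, 6, 183675, 7),
  (135553, 4, 34830, 24),
  (135554, 4, 90273, 21),
  (135556, 4, 155937, 21),
  (135559, 3, 213066, 23),
  (135561, 4, 34894, 24),
  (135562, 5, 81937, 21),
  (135564, 4, 147473, 21),
  (135567, 6, 172119, 20),
  (135571, 6, 215050, 23),
  (135573, 6, 74013, 3),
  (135574, 6, 81995, 19),
  (135579, 6, 100446, 24),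
  (135581, 6, 210957, 2),
  (135582, 6, 65822, 15),
  (135587, 6, 90181, 19),
  (135589, 4, 90182, 19),
  (135590, 6, 172109, 20),
  (135595, 6, 136619, 25),
  (135597, 6, 132531, 25),
  (135598, 6, 37227, 23),
  (135601, 3, 90188, 19),
  (135602, 4, 188524, 20),
  (135604, 3, 90186, 19),
  (135607, 6, 203967, 12),
  (135609, 6, 213305, 7),
  (135610, 6, 90217, 19),
  (135612, 6, 90218, 19),
  (135615, 6, 231806, 24),
  (135619, 6, 82245, 19),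
  (135621, 3, 90186, 23),
  (135622, 4, 155722, 23),
  (135627, 6, 201801, 2),
  (135629, 6, 37114, 23),
  (135630, 4, 94444, 22),
  (135633, 6, 188642, 20),
  (135634, 6, 95403, 21),
  (135636, 6, 82250, 19),
  (135639, 6, 138363, 25),
  (135641, 6, 4286, 23),
  (135642, 5, 154030, 40),
  (135644, 6, 66012, 4),
  (135647, 6, 244179, 11),
  (135649, 5, 250217, 7),
  (135650, 4, 172236, 20),
  (135652, 3, 213068, 8),
  (135655, 6, 249229, 5),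
  (135657, 6, 90468, 19),
  (135658, 6, 138635, 25),
  (135660, 4, 36987, 23),
  (135663, 6, 251915, 17),
  (135667, 6, 251259, 7),
  (135669, 6, 8639, 22),
  (135670, 6, 186558, 1),
  (135675, 6, 90477, 19),
  (135677, 6, 127285, 3),
  (135678, 6, 125342, 10),
  (136193, 4, 8369, 26),
  (136195, 4, 24721, 26),
  (136201, 4, 73777, 26),
  (136203, 4, 147498, 25),
  (136213, 6, 7441, 17),
  (136215, 5, 287, 10),
  (136221, 6, 230561, 21),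
  (136223, 6, 168390, 23),
  (136229, 6, 138543, 8),
  (136231, 6, 8646, 22),
  (136237, 6, 106617, 26),
  (136239, 6, 43039, 20),
  (136241, 6, 136327, 23),
  (136243, 6, 117831, 21),
  (136249, 6, 237937, 26),
  (136251, 4, 245994, 25),
  (136261, 7, 28990, 25),
  (136263, 5, 216097, 19),
  (136269, 5, 159806, 25),
  (136271, 6, 199713, 19),
  (136273, 4, 211210, 23),
  (136275, 6, 119883, 21),
  (136281, 5, 347, 12),
  (136283, 6, 38049, 21),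
  (136289, 6, 41318, 22),
  (136291, 6, 82350, 25),
  (136297, 5, 185633, 3),
  (136299, 6, 39073, 21),
  (136309, 6, 127486, 25),
  (136311, 6, 189759, 3),
  (136317, 6, 220575, 19),
  (136319, 6, 212017, 19),
  (136325, 6, 43050, 24),
  (136327, 5, 204161, 1),
  (136333, 5, 233884, 22),
  (136335, 6, 174103, 20),
  (136337, 6, 108554, 24),
  (136339, 6, 196763, 5),
  (136345, 6, 5523, 10),
  (136347, 6, 10569, 22),
  (136353, 5, 427, 4),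
  (136355, 6, 124997, 21),
  (136361, 6, 4515, 4),
  (136363, 6, 213003, 13),
  (136373, 6, 208057, 11),
  (136375, 6, 190941, 26),
  (136381, 6, 239978, 24),
  (136383, 6, 239994, 24),
  (136385, 6, 11445, 26),
  (136387, 6, 8556, 22),
  (136393, 4, 174226, 20),
  (136395, 4, 184700, 22),
  (136405, 6, 227658, 23),
  (136407, 5, 212433, 1),
  (136413, 6, 211419, 1),
  (136415, 6, 168438, 23),
  (136421, 6, 125099, 38),
  (136423, 6, 260429, 21),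
  (136429, 6, 249303, 19),
  (136431, 6, 240689, 19),
  (136433, 6, 134377, 25),
  (136435, 6, 251001, 7),
  (136441, 6, 259377, 3),
  (136443, 6, 193721, 15),
  (136449, 4, 90273, 26),
  (136451, 5, 73889, 26),
  (136457, 5, 24737, 26),
  (136459, 4, 8353, 26),
  (136469, 6, 7343, 19),
  (136471, 6, 89249, 19),
  (136477, 6, 146447, 2),
  (136479, 4, 61706, 25),
  (136485, 4, 41430, 22),
  (136487, 6, 147503, 10),
  (136493, 4, 29012, 24),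
  (136495, 6, 45225, 26),
  (136497, 6, 41303, 22),
  (136499, 6, 147739, 5),
  (136505, 6, 59514, 20),
  (136507, 6, 59518, 20),
  (136517, 6, 205130, 23),
  (136519, 5, 250217, 21),
  (136525, 4, 168154, 23),
  (136527, 6, 184449, 21),
  (136529, 6, 186630, 25),
  (136531, 6, 177227, 6),
  (136537, 6, 135326, 23),
  (136539, 5, 177491, 11),
  (136545, 7, 185345, 17),
  (136547, 5, 185633, 15),
  (136553, 4, 43378, 22),
  (136555, 6, 43230, 20),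
  (136565, 6, 260358, 25),
  (136567, 5, 193615, 6),
  (136573, 6, 194879, 15),
  (136575, 6, 129294, 25),
  (136581, 6, 36071, 19),
  (136583, 6, 82250, 23),
  (136589, 5, 204161, 11),
  (136591, 6, 242124, 22),
  (136593, 4, 215306, 23),
  (136595, 6, 120993, 19),
  (136601, 6, 196763, 12),
  (136603, 6, 136547, 25),
  (136609, 6, 218113, 17),
  (136611, 6, 174366, 24),
  (136617, 6, 196779, 12),
  (136619, 5, 427, 8),
  (136629, 6, 239918, 24),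
  (136631, 6, 220473, 7),
  (136637, 6, 212401, 11),
  (136639, 6, 168431, 23),
  (136641, 6, 230857, 11),
  (136643, 6, 8572, 22),
  (136649, 7, 174290, 20),
  (136651, 6, 196939, 13),
  (136661, 6, 194027, 21),
  (136663, 6, 241115, 11),
  (136669, 6, 251025, 21),
  (136671, 7, 10745, 22),
  (136677, 6, 195053, 21),
  (136679, 6, 257201, 19),
  (136685, 6, 252049, 21),
  (136687, 6, 189551, 42),
  (136689, 6, 190698, 20),
  (136691, 6, 239903, 24),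
  (136697, 6, 190714, 20),
  (136699, 6, 250259, 5),
  (137217, 6, 131085, 5),
  (137218, 4, 82305, 21),
  (137221, 6, 131085, 11),
  (137222, 4, 213121, 21),
  (137225, 6, 131476, 22),
  (137226, 4, 196897, 21),
  (137229, 6, 131085, 7),
  (137230, 4, 65825, 21),
  (137235, 4, 12540, 24),
  (137239, 5, 235594, 23),
  (137243, 6, 7441, 10),
  (137247, 6, 17583, 19),
  (137251, 4, 143484, 24),
  (137255, 6, 94626, 25),
  (137259, 6, 217266, 25),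
  (137263, 4, 37251, 23),
  (137265, 4, 135404, 24),
  (137266, 6, 25737, 19),
  (137269, 6, 38023, 23),
  (137270, 6, 147742, 2),
  (137273, 5, 162097, 3),
  (137274, 5, 22814, 17),
  (137277, 4, 79922, 19),
  (137278, 5, 250217, 26),
  (137283, 6, 36169, 10),
  (137287, 6, 241738, 23),
  (137291, 5, 209923, 39),
  (137295, 6, 37266, 23),
  (137297, 6, 112650, 23),
  (137298, 6, 178186, 23),
  (137301, 5, 185419, 21),
  (137302, 6, 174366, 3),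
  (137305, 5, 349, 12),
  (137306, 6, 178190, 8),
  (137309, 6, 116841, 24),
  (137310, 6, 116849, 24),
  (137313, 6, 5331, 23),
  (137314, 6, 184390, 4),
  (137317, 6, 74150, 22),
  (137318, 6, 39266, 13),
  (137321, 5, 365, 12),
  (137322, 6, 119905, 26),
  (137325, 6, 39201, 21),
  (137326, 6, 39274, 13),
  (137331, 6, 194033, 26),
  (137335, 5, 210313, 39),
  (137339, 6, 248153, 24),
  (137343, 6, 258278, 25),
  (137347, 5, 204161, 16),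
  (137351, 6, 51258, 24),
  (137355, 6, 229681, 21),
  (137359, 4, 201052, 22),
  (137361, 6, 196765, 5),
  (137362, 4, 116754, 24),
  (137365, 6, 189507, 21),
  (137366, 6, 106637, 22),
  (137369, 6, 211357, 1),
  (137370, 4, 414, 1),
  (137373, 5, 210075, 39),
  (137374, 6, 202770, 16),
  (137377, 6, 47317, 26),
  (137378, 4, 182546, 24),
  (137381, 6, 196781, 11),
  (137382, 6, 178513, 20),
  (137385, 6, 13643, 20),
  (137386, 5, 201126, 7),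
  (137389, 4, 37027, 23),
  (137390, 6, 37155, 23),
  (137395, 6, 5607, 23),
  (137399, 6, 38311, 23),
  (137403, 6, 248154, 24),
  (137407, 6, 248186, 24),
  (137409, 6, 35273, 10),
  (137410, 6, 233542, 4),
  (137413, 6, 127050, 23),
  (137414, 4, 106668, 22),
  (137417, 6, 75203, 20),
  (137418, 6, 4466, 23),
  (137421, 6, 37042, 23),
  (137422, 5, 39370, 13),
  (137427, 6, 17869, 19),
  (137431, 5, 212061, 13),
  (137435, 7, 116827, 24),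
  (137439, 6, 146809, 25),
  (137443, 6, 73183, 20),
  (137447, 5, 106926, 22),
  (137451, 6, 26085, 19),
  (137455, 6, 38311, 4),
  (137457, 5, 5367, 23),
  (137458, 6, 97679, 21),
  (137461, 6, 244133, 16),
  (137462, 6, 38199, 23),
  (137465, 6, 248139, 24),
  (137466, 4, 98398, 40),
  (137469, 6, 252049, 5),
  (137470, 5, 241910, 11),
  (137473, 6, 155922, 25),
  (137474, 4, 82337, 21),
  (137477, 6, 131085, 4),
  (137478, 4, 213153, 21),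
  (137481, 6, 131085, 12),
  (137482, 5, 213249, 21),
  (137485, 5, 63613, 41),
  (137486, 4, 282, 25),
  (137491, 6, 231434, 23),
  (137495, 4, 180506, 25),
  (137499, 7, 94436, 24),
  (137503, 6, 3185, 20),
  (137507, 6, 123017, 26),
  (137511, 6, 213274, 25),
  (137515, 6, 248065, 21),
  (137519, 6, 37259, 23),
  (137521, 6, 6334, 19),
  (137522, 6, 237850, 25),
  (137525, 5, 161805, 6),
  (137526, 4, 229658, 25),
  (137529, 6, 123154, 25),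
  (137530, 6, 90596, 24),
  (137533, 6, 52481, 21),
  (137534, 6, 157710, 6),
  (137539, 6, 237578, 23),
  (137543, 6, 94339, 26),
  (137547, 5, 26910, 25),
  (137551, 6, 36169, 8),
  (137553, 6, 108554, 23),
  (137554, 6, 174366, 25),
  (137557, 6, 108618, 23),
  (137558, 6, 178242, 13),
  (137561, 4, 139403, 26),
  (137562, 6, 35162, 15),
  (137565, 6, 51478, 25),
  (137566, 6, 35102, 25),
  (137569, 6, 39201, 16),
  (137570, 6, 39274, 15),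
  (137573, 6, 186657, 15),
  (137574, 6, 118915, 26),
  (137577, 6, 131181, 12),
  (137578, 5, 76062, 25),
  (137581, 6, 35177, 8),
  (137582, 5, 184334, 17),
  (137587, 6, 193847, 15),
  (137591, 6, 194639, 6),
  (137595, 6, 125214, 25),
  (137599, 6, 37279, 23),
  (137603, 6, 245770, 23),
  (137607, 6, 245834, 23),
  (137611, 6, 96613, 38),
  (137615, 5, 204161, 5),
  (137617, 6, 74013, 22),
  (137618, 6, 71962, 15),
  (137621, 6, 205213, 11),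
  (137622, 4, 414, 2),
  (137625, 6, 196765, 12),
  (137626, 6, 211350, 11),
  (137629, 6, 50449, 21),
  (137630, 5, 200734, 17),
  (137633, 6, 35062, 19),
  (137634, 6, 213294, 16),
  (137637, 6, 6569, 8),
  (137638, 5, 182582, 24),
  (137641, 6, 196781, 12),
  (137642, 5, 176586, 43),
  (137645, 6, 182638, 24),
  (137646, 5, 201126, 11),
  (137651, 6, 248094, 24),
  (137655, 6, 248126, 24),
  (137659, 6, 249105, 21),
  (137663, 6, 248190, 24),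
  (137665, 4, 166374, 19),
  (137666, 6, 235910, 8),
  (137669, 6, 74172, 22),
  (137670, 7, 106684, 22),
  (137673, 6, 4346, 23),
  (137674, 5, 100442, 40),
  (137677, 6, 35273, 8),
  (137678, 6, 233870, 8),
  (137683, 6, 128491, 21),
  (137687, 5, 210185, 39),
  (137691, 5, 210179, 39),
  (137695, 6, 242135, 11),
  (137699, 6, 38381, 8),
  (137703, 5, 210057, 39),
  (137707, 5, 210051, 39),
  (137711, 6, 249871, 17),
  (137713, 6, 113057, 16),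
  (137714, 6, 184510, 1),
  (137717, 6, 38079, 23),
  (137718, 6, 186554, 1),
  (137721, 6, 186846, 19),
  (137722, 6, 220433, 21),
  (137725, 6, 37055, 23),
  (137726, 5, 129334, 3),
  (138257, 6, 4348, 24),
  (138259, 6, 89123, 19),
  (138261, 6, 44149, 20),
  (138263, 6, 160153, 26),
  (138265, 5, 287, 12),
  (138267, 5, 180346, 25),
  (138269, 6, 44335, 44),
  (138271, 4, 61580, 24),
  (138273, 6, 45297, 26),
  (138275, 6, 61649, 26),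
  (138277, 6, 152877, 14),
  (138279, 5, 247877, 21),
  (138281, 6, 6439, 4),
  (138283, 6, 213178, 25),
  (138285, 6, 147503, 7),
  (138287, 6, 75827, 19),
  (138305, 6, 13489, 26),
  (138307, 5, 91203, 38),
  (138309, 5, 241994, 23),
  (138311, 6, 74212, 22),
  (138313, 6, 36169, 6),
  (138315, 6, 95249, 26),
  (138317, 6, 102817, 21),
  (138319, 4, 168338, 23),
  (138353, 5, 191801, 3),
  (138355, 6, 115198, 25),
  (138357, 5, 6523, 12),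
  (138359, 5, 215331, 37),
  (138361, 5, 215335, 37),
  (138363, 5, 54595, 43),
  (138365, 6, 195893, 3),
  (138367, 6, 178479, 16),
  (138369, 6, 250122, 23),
  (138371, 6, 59418, 24),
  (138373, 5, 203791, 13),
  (138375, 6, 144433, 25),
  (138377, 6, 9543, 20),
  (138379, 4, 168412, 22),
  (138381, 6, 167253, 20),
  (138383, 6, 59514, 24),
  (138417, 7, 21855, 20),
  (138419, 6, 126279, 21),
  (138421, 6, 106959, 22),
  (138423, 6, 162993, 15),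
  (138425, 6, 256330, 24),
  (138427, 6, 256346, 24),
  (138429, 6, 212399, 16),
  (138431, 6, 76235, 22),
  (138449, 6, 211415, 1),
  (138451, 5, 44243, 44),
  (138453, 6, 193739, 21),
  (138455, 5, 74221, 22),
  (138457, 6, 125003, 24),
  (138459, 6, 212445, 1),
  (138461, 6, 242901, 11),
  (138463, 6, 174555, 8),
  (138465, 5, 35247, 4),
  (138467, 5, 220613, 1),
  (138469, 5, 220239, 13),
  (138471, 6, 243029, 20),
  (138473, 6, 190795, 24),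
  (138475, 6, 146849, 25),
  (138477, 6, 160019, 42),
  (138479, 6, 146865, 25),
  (138513, 6, 50199, 20),
  (138515, 6, 204969, 26),
  (138517, 5, 146435, 2),
  (138519, 6, 146447, 6),
  (138521, 6, 94452, 24),
  (138523, 5, 86260, 24),
  (138525, 7, 168078, 23),
  (138527, 6, 168334, 23),
  (138529, 5, 61812, 24),
  (138531, 6, 138707, 40),
  (138533, 6, 217362, 25),
  (138535, 6, 6439, 16),
  (138537, 6, 94482, 25),
  (138539, 6, 20852, 24),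
  (138541, 4, 109010, 22),
  (138543, 5, 215093, 37),
  (138561, 6, 59405, 24),
  (138563, 4, 162078, 25),
  (138565, 6, 36109, 3),
  (138567, 5, 104557, 41),
  (138569, 6, 149895, 19),
  (138571, 6, 135642, 23),
  (138573, 6, 28835, 26),
  (138575, 5, 22814, 25),
  (138609, 6, 260374, 25),
  (138611, 7, 256285, 24),
  (138613, 6, 138685, 19),
  (138615, 6, 253039, 21),
  (138617, 6, 192831, 15),
  (138619, 6, 193853, 15),
  (138621, 6, 162923, 2),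
  (138623, 7, 211123, 19),
  (138625, 4, 246026, 23),
  (138627, 6, 117923, 19),
  (138629, 6, 36069, 19),
  (138631, 5, 115018, 23),
  (138633, 6, 59470, 24),
  (138635, 5, 203791, 17),
  (138637, 6, 30881, 26),
  (138639, 5, 241996, 22),
  (138673, 5, 138319, 40),
  (138675, 6, 32175, 14),
  (138677, 6, 146805, 20),
  (138679, 5, 163249, 15),
  (138681, 5, 196799, 12),
  (138683, 6, 220191, 17),
  (138685, 5, 97589, 3),
  (138687, 6, 256382, 24),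
  (138705, 6, 124943, 24),
  (138707, 5, 74109, 22),
  (138709, 6, 239069, 11),
  (138711, 6, 125258, 23),
  (138713, 6, 135422, 23),
  (138715, 6, 185745, 21),
  (138717, 6, 240845, 6),
  (138719, 6, 243159, 11),
  (138721, 6, 125099, 26),
  (138723, 6, 74110, 22),
  (138725, 6, 107006, 22),
  (138727, 6, 250887, 17),
  (138729, 6, 108922, 22),
  (138731, 6, 186769, 21),
  (138733, 6, 121233, 21),
  (138735, 5, 35307, 8),
  (139267, 5, 24881, 26),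
  (139269, 5, 197009, 22),
  (139270, 7, 164108, 23),
  (139273, 5, 74129, 26),
  (139274, 4, 82337, 26),
  (139276, 5, 32782, 23),
  (139279, 5, 36881, 44),
  (139283, 4, 155697, 26),
  (139285, 4, 204817, 22),
  (139286, 6, 135244, 23),
  (139289, 4, 204945, 26),
  (139290, 4, 213153, 26),
  (139292, 4, 34826, 23),
  (139295, 6, 231818, 23),
  (139297, 4, 155953, 14),
  (139298, 5, 122886, 41),
  (139300, 4, 38977, 23),
  (139303, 6, 198099, 22),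
  (139304, 4, 7169, 23),
  (139307, 6, 134483, 22),
  (139309, 5, 161805, 5),
  (139310, 6, 254068, 24),
  (139313, 3, 305, 4),
  (139314, 6, 204948, 24),
  (139316, 4, 38981, 23),
  (139319, 6, 127154, 25),
  (139320, 4, 7173, 23),
  (139323, 5, 241884, 24),
  (139325, 7, 254386, 25),
  (139326, 5, 36948, 44),
  (139329, 5, 147761, 22),
  (139330, 5, 4166, 25),
  (139332, 4, 82097, 22),
  (139335, 5, 36881, 40),
  (139336, 7, 32944, 20),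
  (139339, 4, 205214, 23),
  (139341, 4, 156022, 25),
  (139342, 6, 4515, 19),
  (139345, 4, 155665, 22),
  (139346, 5, 36870, 25),
  (139348, 5, 90129, 22),
  (139351, 6, 49287, 20),
  (139352, 6, 10266, 23),
  (139355, 6, 17643, 21),
  (139357, 6, 108698, 23),
  (139358, 6, 4523, 19),
  (139363, 6, 156019, 14),
  (139365, 3, 90358, 25),
  (139366, 5, 139666, 37),
  (139369, 3, 213478, 25),
  (139370, 5, 82098, 39),
  (139372, 4, 205270, 25),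
  (139375, 6, 150875, 1),
  (139379, 6, 189555, 7),
  (139381, 4, 12686, 19),
  (139382, 6, 190726, 10),
  (139385, 6, 246182, 25),
  (139386, 6, 17583, 21),
  (139388, 5, 81970, 42),
  (139391, 6, 178283, 11),
  (139393, 4, 205201, 16),
  (139394, 4, 37897, 25),
  (139396, 5, 122886, 43),
  (139399, 6, 26941, 26),
  (139400, 6, 139672, 5),
  (139403, 3, 213422, 23),
  (139405, 6, 205213, 16),
  (139406, 5, 139666, 38),
  (139409, 3, 401, 4),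
  (139410, 5, 37961, 25),
  (139412, 6, 204948, 14),
  (139415, 6, 229426, 21),
  (139416, 6, 139672, 11),
  (139419, 5, 139659, 37),
  (139421, 7, 180243, 20),
  (139422, 6, 209166, 3),
  (139427, 6, 136539, 22),
  (139429, 6, 43357, 26),
  (139430, 6, 155798, 12),
  (139433, 4, 12516, 19),
  (139434, 6, 12513, 19),
  (139436, 6, 163897, 20),
  (139439, 6, 199162, 24),
  (139443, 6, 177233, 22),
  (139445, 6, 34033, 25),
  (139446, 6, 182381, 26),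
  (139449, 6, 34273, 25),
  (139450, 5, 139588, 38),
  (139452, 6, 180296, 44),
  (139455, 5, 36889, 44),
  (139459, 5, 238659, 7),
  (139461, 6, 11549, 26),
  (139462, 6, 225674, 21),
  (139465, 3, 90302, 23),
  (139466, 4, 155966, 23),
  (139468, 5, 82098, 42),
  (139471, 6, 77149, 2),
  (139475, 6, 225292, 23),
  (139477, 5, 3285, 41),
  (139478, 5, 139650, 37),
  (139481, 6, 180370, 20),
  (139482, 5, 82066, 39),
  (139484, 6, 233564, 1),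
  (139487, 6, 241935, 3),
  (139489, 4, 164010, 20),
  (139490, 6, 12737, 19),
  (139492, 6, 164009, 20),
  (139495, 6, 260558, 21),
  (139496, 6, 7217, 23),
  (139499, 5, 82197, 42),
  (139501, 5, 82197, 39),
  (139502, 6, 252310, 10),
  (139505, 6, 175189, 26),
  (139506, 5, 82020, 39),
  (139508, 5, 75782, 41),
  (139511, 5, 36945, 40),
  (139512, 6, 36289, 25),
  (139515, 5, 37057, 40),
  (139517, 5, 37001, 44),
  (139518, 6, 12779, 19),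
  (139523, 4, 155905, 26),
  (139525, 4, 205185, 22),
  (139526, 6, 41034, 25),
  (139529, 4, 205057, 26),
  (139530, 5, 213249, 26),
  (139532, 5, 36870, 23),
  (139535, 6, 69671, 19),
  (139539, 4, 24833, 26),
  (139541, 4, 196625, 22),
  (139542, 7, 90116, 24),
  (139545, 4, 73985, 26),
  (139546, 4, 131146, 25),
  (139548, 5, 38914, 23),
  (139551, 4, 155722, 25),
  (139553, 3, 305, 8),
  (139554, 6, 155938, 16),
  (139556, 5, 38985, 23),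
  (139559, 6, 29060, 24),
  (139560, 4, 7177, 23),
  (139563, 5, 3285, 43),
  (139565, 6, 254018, 25),
  (139566, 5, 139650, 38),
  (139569, 3, 305, 16),
  (139570, 6, 139298, 5),
  (139572, 4, 38989, 23),
  (139575, 3, 90186, 25),
  (139576, 4, 7181, 23),
  (139579, 3, 213066, 25),
  (139581, 5, 162097, 7),
  (139582, 4, 204874, 25),
  (139585, 4, 155937, 22),
  (139586, 4, 34894, 25),
  (139588, 4, 90273, 22),
  (139591, 6, 59470, 25),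
  (139592, 6, 165958, 25),
  (139595, 6, 182350, 25),
  (139597, 6, 67821, 24),
  (139598, 6, 69923, 19),
  (139601, 4, 147473, 22),
  (139602, 5, 2126, 25),
  (139604, 4, 8268, 23),
  (139607, 4, 204876, 23),
  (139608, 7, 14354, 23),
  (139611, 5, 82085, 42),
  (139613, 5, 82085, 39),
  (139614, 6, 1451, 21),
  (139619, 7, 78085, 19),
  (139621, 5, 139659, 38),
  (139622, 6, 188502, 6),
  (139625, 6, 78116, 19),
  (139626, 6, 61770, 2),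
  (139628, 5, 82066, 42),
  (139631, 6, 192599, 6),
  (139635, 6, 189811, 7),
  (139637, 6, 45323, 26),
  (139638, 5, 139394, 37),
  (139641, 6, 106755, 26),
  (139642, 5, 82180, 42),
  (139644, 5, 188764, 14),
  (139647, 6, 184407, 6),
  (139649, 3, 401, 8),
  (139650, 4, 37899, 25),
  (139652, 6, 204948, 6),
  (139655, 6, 250276, 23),
  (139656, 6, 163952, 20),
  (139659, 4, 163958, 20),
  (139661, 6, 211341, 5),
  (139662, 6, 203162, 11),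
  (139665, 3, 401, 14),
  (139666, 4, 37963, 25),
  (139668, 6, 139396, 7),
  (139671, 3, 213068, 23),
  (139672, 5, 188790, 43),
  (139675, 6, 168021, 22),
  (139677, 6, 211357, 5),
  (139678, 5, 139394, 38),
  (139683, 6, 6569, 23),
  (139685, 6, 178441, 26),
  (139686, 6, 79051, 22),
  (139689, 6, 146699, 22),
  (139690, 5, 75782, 43),
  (139692, 5, 82020, 42),
  (139695, 5, 36945, 44),
  (139699, 4, 116754, 21),
  (139701, 4, 133550, 24),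
  (139702, 6, 38107, 25),
  (139705, 6, 77932, 19),
  (139706, 6, 180316, 20),
  (139708, 7, 34259, 25),
  (139711, 5, 139701, 37),
  (139715, 7, 225716, 23),
  (139717, 5, 192874, 21),
  (139718, 5, 36948, 40),
  (139721, 6, 94390, 23),
  (139722, 5, 81970, 39),
  (139724, 6, 67815, 24),
  (139727, 6, 177357, 10),
  (139731, 5, 238993, 5),
  (139733, 3, 90188, 23),
  (139734, 4, 155724, 23),
  (139737, 6, 151573, 22),
  (139738, 5, 209242, 16),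
  (139740, 5, 82180, 39),
  (139743, 6, 110863, 3),
  (139745, 6, 6329, 23),
  (139746, 6, 180296, 40),
  (139748, 5, 139588, 37),
  (139751, 5, 36889, 40),
  (139752, 6, 7225, 23),
  (139755, 5, 37001, 40),
  (139757, 5, 37057, 44),
  (139758, 6, 164093, 20),
  (139761, 6, 180426, 20),
  (139762, 7, 6461, 23),
  (139764, 6, 78154, 19),
  (139767, 5, 139701, 38),
  (139768, 6, 196984, 10),
  (139771, 6, 180446, 20),
  (139773, 6, 78190, 19),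
  (139774, 6, 244202, 11),
  (140289, 5, 8497, 26),
  (140291, 4, 16490, 25),
  (140301, 6, 146447, 5),
  (140303, 3, 156026, 25),
  (140305, 4, 139313, 26),
  (140307, 4, 155665, 26),
  (140317, 6, 51219, 20),
  (140319, 7, 231562, 23),
  (140325, 6, 159025, 14),
  (140327, 4, 90362, 25),
  (140329, 6, 147739, 1),
  (140331, 4, 213482, 25),
  (140341, 7, 170181, 23),
  (140343, 5, 166050, 21),
  (140345, 6, 138373, 23),
  (140347, 6, 246186, 25),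
  (140357, 6, 34979, 20),
  (140359, 5, 120897, 42),
  (140361, 6, 74142, 23),
  (140363, 6, 75993, 24),
  (140373, 6, 204167, 19),
  (140375, 5, 175109, 15),
  (140377, 5, 184622, 25),
  (140379, 5, 347, 2),
  (140385, 6, 147795, 1),
  (140387, 6, 34990, 20),
  (140397, 6, 163185, 14),
  (140399, 6, 35007, 20),
  (140401, 6, 173169, 26),
  (140403, 6, 155715, 13),
  (140413, 5, 193837, 3),
  (140415, 6, 51359, 20),
  (140421, 6, 75946, 24),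
  (140423, 6, 205207, 16),
  (140425, 6, 82350, 23),
  (140427, 5, 120841, 19),
  (140437, 5, 217420, 23),
  (140439, 4, 86348, 23),
  (140441, 4, 84394, 23),
  (140443, 6, 116745, 19),
  (140449, 6, 100573, 19),
  (140451, 6, 38049, 25),
  (140461, 5, 163249, 14),
  (140463, 6, 165951, 20),
  (140465, 5, 120961, 42),
  (140467, 6, 182286, 20),
  (140477, 6, 122103, 19),
  (140479, 6, 119905, 39),
  (140481, 5, 166050, 20),
  (140483, 6, 127050, 21),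
  (140493, 6, 243779, 7),
  (140495, 6, 91641, 21),
  (140497, 6, 142389, 26),
  (140499, 5, 192529, 22),
  (140509, 6, 36217, 25),
  (140511, 6, 258069, 22),
  (140517, 6, 126209, 17),
  (140519, 6, 251387, 22),
  (140521, 6, 251193, 3),
  (140523, 6, 61931, 10),
  (140533, 6, 36089, 25),
  (140535, 6, 40177, 25),
  (140537, 6, 36329, 25),
  (140539, 6, 182430, 20),
  (140545, 4, 155937, 26),
  (140547, 4, 139553, 26),
  (140557, 6, 192578, 25),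
  (140559, 4, 53396, 24),
  (140561, 4, 24865, 26),
  (140563, 4, 8481, 26),
  (140573, 5, 121061, 42),
  (140575, 5, 287, 16),
  (140581, 5, 158775, 2),
  (140583, 6, 127050, 25),
  (140585, 6, 5427, 8),
  (140587, 6, 34942, 20),
  (140597, 6, 7319, 19),
  (140599, 5, 311, 16),
  (140601, 7, 110868, 24),
  (140603, 6, 29995, 3),
  (140613, 4, 110996, 23),
  (140615, 4, 250218, 21),
  (140617, 5, 347, 1),
  (140619, 6, 35062, 20),
  (140629, 4, 249986, 21),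
  (140631, 6, 30798, 25),
  (140633, 4, 51410, 20),
  (140635, 7, 153678, 25),
  (140641, 6, 35050, 20),
  (140643, 6, 147795, 13),
  (140653, 6, 260166, 25),
  (140655, 6, 32115, 14),
  (140657, 6, 88134, 25),
  (140659, 6, 41251, 26),
  (140669, 6, 227398, 25),
  (140671, 6, 141821, 24),
  (140677, 5, 208263, 5),
  (140679, 6, 145705, 26),
  (140681, 6, 5523, 8),
  (140683, 6, 120969, 19),
  (140693, 4, 10414, 24),
  (140695, 6, 180370, 21),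
  (140697, 5, 182354, 20),
  (140699, 6, 5523, 14),
  (140705, 6, 177419, 22),
  (140707, 6, 213267, 13),
  (140717, 6, 260393, 26),
  (140719, 7, 245195, 22),
  (140721, 4, 141710, 24),
  (140723, 6, 155827, 10),
  (140733, 6, 129321, 26),
  (140735, 6, 141822, 24),
  (140737, 6, 157987, 26),
  (140739, 4, 127082, 21),
  (140749, 6, 242901, 6),
  (140751, 6, 211243, 26),
  (140753, 4, 182466, 20),
  (140755, 6, 184337, 22),
  (140765, 5, 244051, 7),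
  (140767, 6, 244127, 5),
  (140773, 6, 194859, 26),
  (140775, 6, 213335, 13),
  (140777, 5, 120937, 42),
  (140779, 5, 120869, 42),
  (140789, 6, 252050, 21),
  (140791, 6, 240793, 19),
  (140793, 6, 251089, 6),
  (140795, 5, 128299, 3),
  (141313, 5, 131473, 22),
  (141314, 7, 73780, 24),
  (141317, 4, 65740, 23),
  (141318, 6, 213122, 21),
  (141323, 6, 5285, 19),
  (141327, 5, 120897, 39),
  (141329, 4, 204945, 22),
  (141330, 6, 36882, 25),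
  (141333, 4, 139409, 22),
  (141334, 6, 45058, 25),
  (141339, 4, 184626, 25),
  (141343, 4, 127196, 24),
  (141347, 6, 117190, 21),
  (141351, 6, 155959, 14),
  (141353, 5, 84158, 19),
  (141354, 6, 119265, 26),
  (141357, 6, 249932, 24),
  (141358, 6, 160054, 14),
  (141363, 5, 158775, 7),
  (141367, 6, 173265, 22),
  (141369, 6, 205973, 22),
  (141370, 3, 155662, 4),
  (141373, 4, 250060, 24),
  (141374, 6, 13483, 19),
  (141379, 6, 175175, 7),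
  (141383, 3, 205276, 23),
  (141385, 6, 147830, 25),
  (141386, 6, 6486, 5),
  (141389, 6, 148841, 21),
  (141390, 6, 145754, 7),
  (141395, 6, 241676, 23),
  (141399, 4, 102690, 21),
  (141401, 5, 349, 2),
  (141402, 6, 174426, 23),
  (141405, 6, 215050, 19),
  (141406, 6, 35162, 13),
  (141409, 6, 82166, 25),
  (141410, 6, 158070, 14),
  (141413, 5, 119873, 20),
  (141414, 4, 374, 5),
  (141419, 6, 193549, 5),
  (141423, 6, 215545, 24),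
  (141425, 6, 35125, 4),
  (141426, 4, 203042, 21),
  (141429, 6, 119905, 20),
  (141430, 6, 35186, 13),
  (141435, 6, 194859, 3),
  (141439, 6, 189653, 22),
  (141443, 6, 208273, 16),
  (141447, 4, 213484, 23),
  (141449, 6, 74013, 2),
  (141450, 5, 84178, 24),
  (141453, 6, 120842, 19),
  (141454, 6, 71769, 22),
  (141459, 5, 208263, 1),
  (141463, 6, 249932, 23),
  (141465, 6, 121062, 19),
  (141466, 3, 204814, 4),
  (141469, 6, 74013, 17),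
  (141470, 6, 203162, 7),
  (141473, 6, 21867, 20),
  (141474, 6, 24998, 1),
  (141477, 6, 39073, 23),
  (141478, 6, 196790, 11),
  (141483, 6, 220177, 13),
  (141487, 6, 129533, 26),
  (141489, 6, 178261, 26),
  (141490, 6, 6501, 23),
  (141493, 6, 90389, 17),
  (141494, 6, 39205, 23),
  (141499, 6, 242901, 22),
  (141503, 6, 90399, 17),
  (141505, 6, 74069, 2),
  (141506, 3, 204870, 16),
  (141509, 4, 90364, 23),
  (141510, 3, 156028, 23),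
  (141515, 6, 241049, 16),
  (141519, 6, 5607, 19),
  (141521, 6, 35221, 4),
  (141522, 6, 33238, 13),
  (141525, 6, 231434, 19),
  (141526, 5, 26978, 38),
  (141531, 6, 256506, 23),
  (141535, 6, 232861, 16),
  (141539, 5, 241073, 16),
  (141543, 6, 13767, 19),
  (141545, 6, 129489, 6),
  (141546, 6, 72054, 5),
  (141549, 6, 233725, 11),
  (141550, 6, 43514, 13),
  (141555, 6, 259281, 22),
  (141559, 7, 195709, 26),
  (141561, 5, 120937, 39),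
  (141562, 6, 247998, 8),
  (141565, 5, 120869, 39),
  (141566, 5, 121302, 6),
  (141569, 4, 139649, 22),
  (141570, 6, 82338, 21),
  (141573, 4, 205057, 22),
  (141574, 6, 32858, 25),
  (141579, 6, 60471, 20),
  (141583, 5, 146435, 12),
  (141585, 4, 196753, 22),
  (141586, 6, 90148, 24),
  (141589, 4, 131217, 22),
  (141590, 7, 163916, 23),
  (141595, 4, 127012, 24),
  (141599, 6, 203202, 23),
  (141603, 5, 122970, 25),
  (141607, 4, 114778, 25),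
  (141609, 6, 142723, 22),
  (141610, 6, 147742, 4),
  (141613, 5, 241921, 26),
  (141614, 3, 155662, 17),
  (141619, 4, 248066, 21),
  (141623, 6, 78116, 24),
  (141625, 4, 22710, 19),
  (141626, 6, 4414, 7),
  (141629, 6, 110849, 26),
  (141630, 5, 190806, 38),
  (141635, 6, 70917, 19),
  (141639, 7, 51294, 25),
  (141641, 5, 110806, 23),
  (141642, 6, 174366, 8),
  (141645, 5, 349, 1),
  (141646, 6, 178462, 12),
  (141651, 5, 121061, 39),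
  (141655, 5, 343, 14),
  (141657, 4, 154022, 19),
  (141658, 6, 6486, 14),
  (141661, 7, 80082, 23),
  (141662, 6, 6490, 7),
  (141665, 4, 125014, 25),
  (141666, 6, 180491, 26),
  (141669, 6, 87105, 20),
  (141670, 5, 57670, 2),
  (141675, 6, 7641, 23),
  (141679, 6, 215549, 24),
  (141681, 5, 137622, 19),
  (141682, 4, 374, 7),
  (141685, 6, 35125, 16),
  (141686, 6, 139366, 5),
  (141691, 5, 193821, 5),
  (141695, 6, 193911, 7),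
  (141699, 7, 46123, 25),
  (141703, 5, 84158, 24),
  (141705, 6, 145801, 22),
  (141706, 6, 184678, 23),
  (141709, 6, 204813, 17),
  (141710, 3, 204814, 17),
  (141715, 6, 36135, 20),
  (141719, 5, 407, 14),
  (141721, 6, 121058, 23),
  (141722, 6, 205070, 4),
  (141725, 6, 157025, 20),
  (141726, 6, 153954, 23),
  (141729, 5, 120961, 39),
  (141730, 6, 46219, 25),
  (141733, 6, 112794, 19),
  (141734, 6, 186625, 26),
  (141739, 6, 7657, 23),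
  (141743, 6, 40361, 23),
  (141745, 4, 182546, 21),
  (141746, 6, 90502, 10),
  (141749, 6, 205221, 11),
  (141750, 6, 24982, 2),
  (141755, 6, 149982, 24),
  (141759, 6, 169173, 22),
  (141761, 6, 44067, 25),
  (141762, 6, 174482, 12),
  (141765, 6, 94452, 23),
  (141766, 6, 237574, 17),
  (141771, 5, 243923, 6),
  (141775, 6, 71015, 19),
  (141777, 7, 184594, 21),
  (141778, 5, 207042, 9),
  (141781, 6, 231637, 6),
  (141782, 3, 204870, 5),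
  (141787, 6, 260594, 23),
  (141791, 6, 140795, 21),
  (141795, 6, 122287, 20),
  (141799, 6, 119905, 42),
  (141801, 6, 7417, 23),
  (141802, 6, 7545, 23),
  (141805, 6, 260250, 19),
  (141806, 6, 121150, 3),
  (141811, 6, 251089, 22),
  (141815, 6, 121106, 21),
  (141817, 6, 129321, 3),
  (141818, 5, 244206, 11),
  (141821, 5, 252117, 6),
  (141822, 5, 129410, 10),
  (142345, 6, 84143, 19),
  (142347, 5, 110700, 24),
  (142349, 7, 65998, 23),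
  (142351, 6, 214497, 21),
  (142361, 5, 146435, 13),
  (142363, 5, 287, 2),
  (142365, 6, 89253, 19),
  (142367, 6, 214499, 21),
  (142369, 6, 86266, 25),
  (142371, 4, 117062, 21),
  (142373, 6, 45433, 26),
  (142375, 6, 225292, 24),
  (142385, 6, 176241, 26),
  (142387, 5, 166306, 21),
  (142389, 5, 311, 4),
  (142391, 5, 123050, 25),
  (142401, 6, 83175, 20),
  (142403, 7, 16510, 25),
  (142405, 5, 184522, 21),
  (142407, 6, 92345, 24),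
  (142417, 6, 233890, 21),
  (142419, 5, 343, 2),
  (142421, 5, 241996, 23),
  (142423, 4, 110924, 23),
  (142441, 6, 60685, 17),
  (142443, 5, 118989, 40),
  (142445, 6, 225774, 25),
  (142447, 6, 128069, 20),
  (142457, 6, 162883, 13),
  (142459, 6, 246206, 25),
  (142461, 6, 258478, 25),
  (142463, 6, 161863, 13),
  (142465, 6, 115180, 23),
  (142467, 6, 168409, 22),
  (142469, 4, 92330, 24),
  (142471, 6, 254018, 21),
  (142481, 5, 85281, 42),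
  (142483, 6, 3427, 20),
  (142485, 5, 407, 4),
  (142487, 7, 33202, 21),
  (142505, 6, 220473, 3),
  (142507, 6, 203967, 11),
  (142509, 6, 32175, 10),
  (142511, 6, 129501, 26),
  (142521, 6, 155823, 15),
  (142523, 6, 15739, 20),
  (142525, 6, 243965, 26),
  (142527, 6, 158202, 24),
  (142537, 6, 203859, 13),
  (142539, 6, 254206, 23),
  (142541, 5, 118989, 44),
  (142543, 6, 251915, 19),
  (142553, 6, 212035, 13),
  (142555, 6, 248843, 19),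
  (142557, 6, 37279, 4),
  (142559, 6, 38301, 4),
  (142561, 6, 126417, 6),
  (142563, 6, 232695, 11),
  (142565, 6, 60903, 10),
  (142567, 6, 251259, 22),
  (142577, 7, 235954, 21),
  (142579, 6, 82295, 2),
  (142581, 6, 104882, 21),
  (142583, 5, 119049, 44),
  (142601, 6, 61620, 24),
  (142603, 5, 192602, 25),
  (142605, 5, 287, 1),
  (142607, 4, 184410, 25),
  (142617, 6, 22695, 19),
  (142619, 6, 85131, 19),
  (142621, 5, 176413, 38),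
  (142623, 6, 102452, 24),
  (142625, 5, 85281, 39),
  (142627, 5, 311, 8),
  (142629, 6, 3229, 19),
  (142631, 7, 4532, 24),
  (142641, 6, 248194, 21),
  (142643, 6, 76955, 19),
  (142645, 5, 158775, 10),
  (142647, 6, 45345, 26),
  (142657, 5, 175109, 17),
  (142659, 6, 117923, 20),
  (142661, 5, 343, 1),
  (142663, 6, 92349, 24),
  (142673, 6, 99495, 20),
  (142675, 5, 176413, 37),
  (142677, 6, 85093, 20),
  (142679, 6, 53634, 21),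
  (142697, 6, 191501, 17),
  (142699, 6, 37239, 8),
  (142701, 6, 97349, 20),
  (142703, 6, 39283, 8),
  (142713, 6, 123179, 26),
  (142715, 7, 227422, 25),
  (142717, 6, 36159, 16),
  (142719, 6, 194843, 5),
  (142721, 6, 176521, 22),
  (142723, 5, 407, 8),
  (142725, 5, 92334, 24),
  (142727, 5, 217316, 23),
  (142737, 6, 26766, 24),
  (142739, 5, 208263, 11),
  (142741, 6, 150885, 20),
  (142743, 6, 168081, 22),
  (142761, 7, 223694, 24),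
  (142763, 6, 223710, 24),
  (142765, 6, 82335, 1),
  (142767, 5, 119049, 40),
  (142777, 6, 97577, 3),
  (142779, 6, 212399, 11),
  (142781, 6, 163007, 10),
  (142783, 6, 161983, 10),
  (142793, 6, 240653, 17),
  (142795, 6, 258294, 23),
  (142797, 6, 94710, 23),
  (142799, 6, 238607, 17),
  (142809, 6, 217301, 22),
  (142811, 6, 7639, 14),
  (142813, 7, 96754, 23),
  (142815, 6, 243029, 7),
  (142817, 6, 205031, 12),
  (142819, 6, 194027, 22),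
  (142821, 6, 167389, 19),
  (142823, 6, 260206, 21),
  (142833, 6, 249041, 6),
  (142835, 6, 241127, 11),
  (142837, 6, 191735, 10),
  (142839, 6, 239079, 11),
  (143361, 5, 8593, 26),
  (143362, 5, 16801, 26),
  (143364, 4, 6222, 23),
  (143367, 7, 202830, 23),
  (143369, 4, 147554, 25),
  (143370, 4, 82209, 26),
  (143372, 4, 38978, 23),
  (143375, 4, 41015, 20),
  (143377, 4, 139409, 26),
  (143378, 5, 147617, 26),
  (143380, 5, 4174, 23),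
  (143383, 6, 94460, 24),
  (143385, 4, 204817, 26),
  (143386, 4, 213025, 26),
  (143388, 4, 38982, 23),
  (143391, 5, 287, 6),
  (143395, 6, 160059, 14),
  (143397, 6, 200087, 22),
  (143398, 6, 157742, 16),
  (143403, 4, 241692, 24),
  (143405, 4, 41019, 20),
  (143406, 6, 28835, 19),
  (143411, 6, 175185, 22),
  (143413, 4, 28814, 19),
  (143414, 6, 57357, 20),
  (143419, 6, 5427, 4),
  (143421, 6, 237657, 26),
  (143422, 4, 241810, 25),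
  (143427, 5, 178189, 37),
  (143429, 6, 79950, 23),
  (143430, 6, 6490, 5),
  (143435, 5, 178241, 37),
  (143437, 5, 20902, 19),
  (143438, 7, 39250, 23),
  (143443, 4, 57478, 20),
  (143445, 4, 20878, 19),
  (143446, 6, 34993, 24),
  (143451, 6, 102435, 21),
  (143453, 5, 188470, 25),
  (143454, 6, 178242, 11),
  (143457, 6, 231817, 24),
  (143458, 6, 139642, 7),
  (143460, 5, 12598, 43),
  (143463, 6, 162171, 14),
  (143465, 4, 41146, 20),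
  (143466, 3, 156026, 14),
  (143468, 6, 192892, 5),
  (143471, 5, 191595, 7),
  (143473, 6, 173265, 26),
  (143474, 6, 155770, 16),
  (143476, 6, 166305, 24),
  (143479, 6, 189689, 26),
  (143481, 5, 192529, 5),
  (143482, 5, 57500, 20),
  (143484, 3, 156028, 4),
  (143487, 6, 163147, 1),
  (143491, 6, 196763, 11),
  (143493, 6, 188739, 21),
  (143494, 6, 209166, 15),
  (143499, 6, 135517, 22),
  (143501, 6, 39138, 23),
  (143502, 6, 39266, 23),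
  (143507, 6, 34970, 24),
  (143509, 6, 2457, 4),
  (143510, 6, 205070, 3),
  (143515, 6, 5523, 4),
  (143517, 6, 35050, 24),
  (143518, 6, 110940, 37),
  (143521, 6, 213305, 3),
  (143522, 4, 172076, 20),
  (143524, 6, 204860, 1),
  (143527, 5, 97589, 2),
  (143529, 5, 172090, 20),
  (143530, 6, 213402, 10),
  (143532, 4, 28898, 19),
  (143535, 6, 220571, 1),
  (143537, 6, 204969, 11),
  (143538, 5, 156058, 2),
  (143540, 5, 90396, 8),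
  (143543, 5, 178265, 37),
  (143545, 6, 146453, 22),
  (143546, 6, 205114, 15),
  (143548, 6, 205116, 15),
  (143551, 5, 250177, 40),
  (143553, 6, 96270, 23),
  (143554, 3, 205274, 7),
  (143556, 5, 241996, 15),
  (143559, 6, 172199, 20),
  (143561, 6, 151869, 22),
  (143562, 5, 57654, 43),
  (143564, 6, 242076, 16)]

theorem chk_rows2_15 : rows2_15.all (rowBP tr2 gensLitP 72) = true := by decide +kernel

/-- Rows 24000 to 25499. -/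
def rows2_16 : List (ℕ × ℕ × ℕ × ℕ) := [(143567, 6, 39410, 23),
  (143569, 6, 94222, 23),
  (143570, 5, 198830, 42),
  (143572, 6, 34979, 24),
  (143575, 6, 137691, 14),
  (143577, 5, 241921, 3),
  (143578, 6, 74058, 5),
  (143580, 3, 205276, 4),
  (143583, 6, 39414, 23),
  (143587, 7, 155007, 22),
  (143589, 6, 194895, 21),
  (143590, 6, 63918, 1),
  (143595, 6, 126325, 26),
  (143597, 6, 29158, 19),
  (143598, 6, 248222, 10),
  (143603, 6, 188558, 20),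
  (143605, 6, 178669, 8),
  (143606, 5, 190938, 2),
  (143611, 6, 188574, 20),
  (143613, 6, 29166, 19),
  (143614, 6, 252090, 8),
  (143617, 4, 205185, 26),
  (143618, 4, 213377, 26),
  (143620, 5, 2126, 23),
  (143623, 5, 287, 3),
  (143625, 4, 139649, 26),
  (143626, 4, 147841, 26),
  (143628, 3, 38986, 23),
  (143631, 5, 39370, 23),
  (143633, 4, 74113, 26),
  (143634, 4, 82305, 26),
  (143636, 4, 78, 23),
  (143639, 6, 57415, 20),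
  (143641, 4, 8577, 26),
  (143642, 4, 16769, 26),
  (143644, 5, 38990, 23),
  (143647, 6, 86063, 19),
  (143651, 6, 116967, 21),
  (143653, 5, 208263, 22),
  (143654, 5, 22814, 10),
  (143659, 5, 115018, 25),
  (143661, 6, 176521, 26),
  (143662, 5, 51538, 43),
  (143667, 5, 117989, 21),
  (143669, 6, 94222, 19),
  (143670, 6, 147742, 12),
  (143675, 6, 82250, 25),
  (143677, 4, 86340, 24),
  (143678, 6, 74058, 25),
  (143683, 7, 182606, 25),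
  (143685, 6, 39261, 8),
  (143686, 6, 178190, 1),
  (143691, 6, 100573, 24),
  (143693, 6, 185347, 21),
  (143694, 6, 35102, 10),
  (143699, 3, 204814, 23),
  (143701, 5, 178517, 37),
  (143702, 6, 6490, 14),
  (143707, 5, 347, 14),
  (143709, 6, 26950, 25),
  (143710, 6, 6486, 7),
  (143713, 4, 41194, 20),
  (143714, 5, 192602, 6),
  (143716, 4, 380, 17),
  (143719, 6, 94471, 19),
  (143721, 4, 117062, 25),
  (143722, 6, 25703, 22),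
  (143724, 6, 24940, 4),
  (143727, 6, 39387, 23),
  (143729, 5, 192529, 17),
  (143730, 3, 156026, 16),
  (143732, 6, 37172, 16),
  (143735, 7, 248913, 22),
  (143737, 6, 150549, 22),
  (143738, 6, 16762, 14),
  (143740, 6, 172332, 2),
  (143743, 6, 191867, 7),
  (143747, 6, 215054, 23),
  (143749, 6, 210945, 17),
  (143750, 6, 65822, 3),
  (143755, 6, 169259, 25),
  (143757, 6, 181267, 21),
  (143758, 6, 39274, 23),
  (143763, 4, 213006, 23),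
  (143765, 6, 34990, 24),
  (143766, 6, 104529, 22),
  (143771, 6, 196763, 6),
  (143773, 6, 196765, 6),
  (143774, 6, 35062, 24),
  (143777, 6, 231822, 24),
  (143778, 5, 156058, 12),
  (143780, 6, 205116, 1),
  (143783, 6, 231870, 24),
  (143785, 5, 178509, 37),
  (143786, 6, 155818, 1),
  (143788, 6, 90540, 4),
  (143791, 6, 39403, 23),
  (143793, 6, 7343, 23),
  (143794, 5, 166294, 24),
  (143796, 6, 155836, 10),
  (143799, 6, 217247, 6),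
  (143801, 6, 51219, 21),
  (143802, 6, 213146, 6),
  (143804, 4, 166374, 24),
  (143807, 6, 211363, 11),
  (143809, 4, 86340, 19),
  (143810, 6, 29018, 38),
  (143812, 4, 204876, 8),
  (143815, 6, 100543, 24),
  (143817, 7, 172274, 20),
  (143818, 6, 233818, 4),
  (143820, 6, 39034, 23),
  (143823, 5, 212061, 2),
  (143825, 4, 90126, 23),
  (143826, 3, 155662, 23),
  (143828, 6, 72075, 26),
  (143831, 6, 35007, 24),
  (143833, 5, 473, 14),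
  (143834, 4, 474, 14),
  (143836, 4, 86378, 19),
  (143839, 6, 245141, 5),
  (143843, 6, 178445, 37),
  (143845, 6, 194927, 21),
  (143846, 6, 194734, 1),
  (143851, 7, 172286, 20),
  (143853, 6, 39163, 23),
  (143854, 6, 117150, 10),
  (143859, 6, 210171, 12),
  (143861, 5, 194981, 15),
  (143862, 6, 129422, 10),
  (143867, 6, 171499, 25),
  (143869, 6, 244193, 11),
  (143870, 6, 125326, 10),
  (144389, 6, 203086, 23),
  (144391, 5, 233633, 44),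
  (144397, 7, 118844, 24),
  (144399, 6, 155770, 25),
  (144405, 7, 86268, 24),
  (144407, 4, 94444, 24),
  (144413, 4, 192570, 25),
  (144415, 5, 146435, 11),
  (144417, 6, 43050, 20),
  (144419, 6, 82410, 25),
  (144425, 6, 137347, 23),
  (144427, 6, 36003, 21),
  (144433, 5, 76867, 43),
  (144435, 5, 115114, 25),
  (144441, 6, 59418, 20),
  (144443, 6, 34979, 21),
  (144449, 7, 43170, 20),
  (144451, 6, 16750, 25),
  (144457, 5, 43186, 20),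
  (144459, 6, 43190, 20),
  (144465, 6, 209166, 23),
  (144467, 6, 38235, 6),
  (144473, 6, 43209, 24),
  (144475, 4, 37027, 21),
  (144485, 6, 163193, 14),
  (144487, 6, 15725, 12),
  (144493, 6, 170195, 23),
  (144495, 6, 159099, 14),
  (144501, 6, 224337, 22),
  (144503, 6, 189657, 26),
  (144509, 6, 174569, 24),
  (144511, 6, 59551, 20),
  (144513, 6, 164905, 25),
  (144515, 6, 108698, 24),
  (144521, 4, 174130, 20),
  (144523, 6, 108762, 24),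
  (144529, 6, 79121, 17),
  (144531, 6, 169057, 25),
  (144537, 7, 190482, 20),
  (144539, 4, 190486, 20),
  (144549, 6, 240042, 24),
  (144551, 6, 240058, 24),
  (144557, 6, 97599, 2),
  (144559, 6, 96575, 2),
  (144565, 6, 146863, 8),
  (144567, 6, 88375, 2),
  (144573, 6, 89407, 2),
  (144575, 6, 174586, 24),
  (144581, 6, 192971, 21),
  (144583, 6, 96590, 23),
  (144589, 5, 115891, 42),
  (144591, 6, 242079, 16),
  (144597, 6, 225614, 23),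
  (144599, 5, 144771, 37),
  (144605, 6, 170230, 23),
  (144607, 6, 170486, 23),
  (144609, 7, 240011, 24),
  (144611, 6, 185521, 15),
  (144617, 6, 74219, 12),
  (144619, 6, 174270, 20),
  (144625, 5, 174413, 38),
  (144627, 5, 88165, 39),
  (144633, 5, 88169, 39),
  (144635, 6, 190622, 20),
  (144645, 4, 192834, 25),
  (144647, 5, 146435, 17),
  (144653, 6, 43123, 20),
  (144655, 6, 143785, 26),
  (144661, 6, 127060, 24),
  (144663, 6, 65870, 23),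
  (144669, 4, 94292, 24),
  (144671, 6, 68777, 19),
  (144673, 5, 45524, 24),
  (144675, 6, 138635, 23),
  (144681, 6, 173319, 22),
  (144683, 6, 147739, 13),
  (144689, 6, 5427, 16),
  (144691, 6, 59470, 20),
  (144697, 4, 78164, 24),
  (144699, 6, 137615, 23),
  (144705, 6, 38235, 8),
  (144707, 4, 43238, 20),
  (144713, 5, 137370, 23),
  (144715, 6, 54403, 21),
  (144721, 6, 205070, 23),
  (144723, 5, 88293, 39),
  (144729, 6, 118915, 21),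
  (144731, 6, 22862, 25),
  (144741, 6, 260422, 25),
  (144743, 5, 76997, 43),
  (144749, 6, 150943, 19),
  (144751, 7, 240125, 24),
  (144757, 6, 38199, 16),
  (144759, 6, 227662, 25),
  (144765, 5, 144521, 37),
  (144767, 6, 208057, 19),
  (144769, 6, 202011, 13),
  (144771, 4, 84238, 23),
  (144777, 6, 108750, 24),
  (144779, 5, 144539, 37),
  (144785, 6, 39141, 19),
  (144787, 6, 82190, 23),
  (144793, 6, 165227, 25),
  (144795, 6, 43230, 24),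
  (144805, 6, 240046, 24),
  (144807, 5, 233697, 44),
  (144813, 5, 174109, 38),
  (144815, 5, 88257, 39),
  (144821, 6, 174510, 24),
  (144823, 6, 97665, 1),
  (144829, 6, 212385, 11),
  (144831, 7, 169459, 25),
  (144837, 6, 108719, 24),
  (144839, 5, 212173, 12),
  (144845, 6, 174323, 20),
  (144847, 6, 174327, 20),
  (144853, 6, 7641, 14),
  (144855, 6, 241099, 11),
  (144861, 6, 177367, 10),
  (144863, 6, 3547, 14),
  (144865, 6, 174314, 20),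
  (144867, 6, 87505, 1),
  (144873, 6, 205035, 12),
  (144875, 6, 177329, 4),
  (144881, 6, 218227, 2),
  (144883, 6, 190670, 20),
  (144889, 6, 128289, 3),
  (144891, 6, 187413, 22),
  (145411, 5, 116813, 42),
  (145415, 6, 21639, 19),
  (145419, 6, 6594, 23),
  (145423, 4, 159842, 25),
  (145427, 6, 3191, 20),
  (145431, 5, 146435, 15),
  (145435, 6, 6598, 23),
  (145439, 6, 39302, 23),
  (145441, 6, 67774, 19),
  (145442, 4, 3287, 22),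
  (145445, 5, 90594, 25),
  (145446, 6, 4414, 5),
  (145449, 6, 213234, 25),
  (145450, 6, 147742, 10),
  (145453, 7, 161793, 5),
  (145454, 4, 155966, 14),
  (145457, 6, 176337, 26),
  (145458, 6, 159750, 4),
  (145461, 5, 161805, 13),
  (145462, 5, 22814, 6),
  (145465, 6, 245938, 25),
  (145466, 6, 4414, 13),
  (145469, 6, 142485, 22),
  (145470, 6, 184404, 44),
  (145473, 6, 178253, 7),
  (145474, 6, 178190, 23),
  (145477, 7, 219178, 19),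
  (145478, 6, 131176, 44),
  (145481, 6, 79121, 26),
  (145482, 5, 33042, 37),
  (145485, 5, 178461, 16),
  (145486, 7, 21923, 19),
  (145489, 6, 110606, 23),
  (145490, 6, 87433, 21),
  (145493, 6, 39261, 6),
  (145494, 6, 178242, 4),
  (145497, 6, 6358, 23),
  (145498, 6, 6486, 23),
  (145501, 6, 37155, 21),
  (145502, 6, 69923, 21),
  (145507, 6, 86518, 25),
  (145511, 6, 145717, 38),
  (145515, 6, 30117, 19),
  (145519, 6, 214391, 22),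
  (145523, 6, 36159, 4),
  (145527, 6, 127398, 25),
  (145531, 6, 178279, 11),
  (145535, 6, 39319, 23),
  (145537, 6, 210957, 7),
  (145538, 3, 204814, 16),
  (145541, 6, 196765, 11),
  (145542, 6, 203162, 10),
  (145545, 6, 25955, 20),
  (145546, 5, 200734, 4),
  (145549, 6, 204813, 7),
  (145550, 6, 65822, 5),
  (145553, 6, 58689, 21),
  (145554, 5, 184334, 23),
  (145557, 5, 413, 4),
  (145558, 6, 6546, 13),
  (145561, 6, 6374, 23),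
  (145562, 4, 51410, 24),
  (145565, 6, 33075, 21),
  (145566, 6, 39206, 23),
  (145571, 6, 212401, 16),
  (145575, 5, 196799, 11),
  (145579, 6, 248282, 24),
  (145583, 5, 97593, 2),
  (145587, 5, 116941, 42),
  (145591, 5, 184489, 44),
  (145595, 6, 182746, 24),
  (145599, 6, 100659, 21),
  (145603, 6, 204247, 1),
  (145607, 6, 242767, 7),
  (145611, 5, 97589, 26),
  (145615, 6, 110863, 17),
  (145619, 6, 212041, 13),
  (145623, 5, 34207, 4),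
  (145627, 6, 177295, 15),
  (145631, 6, 207949, 13),
  (145633, 6, 63823, 21),
  (145634, 6, 244074, 15),
  (145637, 6, 194639, 21),
  (145638, 5, 110614, 40),
  (145641, 5, 74221, 12),
  (145642, 5, 260286, 8),
  (145645, 6, 248299, 24),
  (145646, 6, 194710, 12),
  (145649, 6, 64845, 21),
  (145650, 6, 7543, 23),
  (145653, 5, 116877, 42),
  (145654, 5, 20610, 39),
  (145657, 6, 252374, 19),
  (145658, 5, 133250, 43),
  (145661, 5, 145729, 38),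
  (145662, 6, 39223, 23),
  (145667, 6, 231438, 23),
  (145671, 6, 45284, 24),
  (145675, 4, 57690, 25),
  (145679, 4, 12516, 24),
  (145683, 6, 7441, 16),
  (145687, 6, 87055, 19),
  (145691, 6, 231637, 22),
  (145695, 5, 287, 14),
  (145697, 4, 53732, 24),
  (145698, 5, 111058, 40),
  (145701, 7, 246098, 25),
  (145702, 6, 159750, 17),
  (145705, 5, 161805, 17),
  (145706, 4, 106842, 25),
  (145709, 4, 80058, 19),
  (145710, 6, 24894, 14),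
  (145713, 6, 106889, 26),
  (145714, 4, 155966, 16),
  (145717, 5, 213330, 25),
  (145718, 5, 95243, 19),
  (145721, 6, 90450, 25),
  (145722, 6, 110644, 40),
  (145725, 6, 134293, 22),
  (145726, 5, 20910, 43),
  (145729, 4, 133550, 19),
  (145730, 6, 116885, 24),
  (145733, 6, 219306, 19),
  (145734, 6, 35102, 3),
  (145737, 5, 59734, 25),
  (145738, 6, 147851, 26),
  (145741, 6, 39066, 23),
  (145742, 6, 39194, 23),
  (145745, 4, 158038, 25),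
  (145746, 7, 87305, 19),
  (145749, 6, 106574, 23),
  (145750, 6, 16744, 44),
  (145753, 6, 184579, 21),
  (145754, 5, 143364, 38),
  (145757, 5, 349, 14),
  (145758, 6, 39198, 23),
  (145763, 6, 38269, 8),
  (145767, 6, 95495, 19),
  (145771, 6, 34173, 8),
  (145775, 6, 36217, 8),
  (145779, 6, 249041, 22),
  (145783, 6, 117057, 42),
  (145787, 6, 182749, 24),
  (145791, 6, 182781, 24),
  (145793, 5, 184331, 44),
  (145794, 6, 211350, 8),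
  (145797, 6, 116910, 24),
  (145798, 5, 182326, 41),
  (145801, 5, 413, 8),
  (145802, 6, 139406, 1),
  (145805, 5, 184619, 44),
  (145806, 5, 116982, 24),
  (145809, 6, 205213, 5),
  (145810, 6, 35125, 20),
  (145813, 6, 173171, 25),
  (145814, 4, 51382, 24),
  (145817, 6, 10633, 26),
  (145818, 5, 151838, 41),
  (145821, 5, 413, 14),
  (145822, 3, 204814, 5),
  (145827, 6, 248222, 24),
  (145831, 6, 95303, 19),
  (145835, 6, 89503, 1),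
  (145839, 6, 39339, 23),
  (145843, 6, 95309, 19),
  (145847, 6, 163185, 20),
  (145851, 6, 162993, 10),
  (145855, 6, 39343, 23),
  (145859, 6, 116895, 24),
  (145863, 6, 87367, 19),
  (145867, 5, 34269, 8),
  (145871, 6, 87399, 19),
  (145875, 6, 235739, 6),
  (145879, 6, 241049, 5),
  (145883, 5, 252117, 22),
  (145887, 6, 179579, 25),
  (145889, 6, 7419, 23),
  (145890, 6, 96687, 21),
  (145893, 6, 248239, 24),
  (145894, 6, 133510, 43),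
  (145897, 6, 161199, 22),
  (145898, 5, 10274, 41),
  (145901, 6, 243898, 19),
  (145902, 6, 186755, 26),
  (145905, 5, 252121, 6),
  (145906, 6, 127374, 10),
  (145909, 6, 252125, 6),
  (145910, 5, 254228, 42),
  (145913, 6, 186838, 19),
  (145914, 5, 252350, 8),
  (145917, 6, 260497, 5),
  (145918, 6, 242150, 11),
  (146433, 4, 20858, 25),
  (146435, 4, 86093, 42),
  (146437, 4, 235854, 23),
  (146439, 6, 94284, 24),
  (146441, 6, 25703, 20),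
  (146443, 6, 94481, 26),
  (146445, 5, 146435, 5),
  (146447, 5, 45073, 44),
  (146449, 6, 53562, 25),
  (146451, 6, 102670, 23),
  (146453, 5, 287, 4),
  (146455, 4, 57642, 25),
  (146457, 4, 102588, 24),
  (146459, 6, 68651, 19),
  (146461, 6, 170118, 23),
  (146463, 6, 50293, 20),
  (146529, 6, 163197, 14),
  (146531, 6, 138707, 23),
  (146533, 6, 32115, 2),
  (146535, 6, 183615, 3),
  (146537, 6, 159101, 14),
  (146539, 6, 256473, 24),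
  (146541, 6, 186427, 15),
  (146543, 6, 247159, 22),
  (146545, 6, 138455, 23),
  (146547, 6, 161867, 13),
  (146549, 6, 158929, 22),
  (146551, 5, 45381, 44),
  (146553, 5, 45397, 44),
  (146555, 5, 140441, 38),
  (146557, 6, 258222, 25),
  (146559, 6, 119925, 20),
  (146593, 6, 138467, 23),
  (146595, 6, 256410, 24),
  (146597, 6, 220191, 13),
  (146599, 6, 177329, 25),
  (146601, 6, 151743, 15),
  (146603, 5, 97551, 17),
  (146605, 6, 113021, 26),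
  (146607, 6, 256506, 24),
  (146609, 5, 45065, 44),
  (146611, 5, 86221, 42),
  (146613, 5, 114797, 39),
  (146615, 6, 194781, 26),
  (146617, 6, 190922, 24),
  (146619, 5, 190938, 24),
  (146621, 6, 190954, 24),
  (146623, 5, 45081, 44),
  (146625, 5, 243791, 7),
  (146627, 6, 129294, 23),
  (146629, 6, 232733, 3),
  (146631, 5, 45389, 44),
  (146633, 6, 81205, 26),
  (146635, 5, 45165, 44),
  (146637, 5, 168043, 40),
  (146639, 6, 238669, 7),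
  (146641, 6, 240845, 11),
  (146643, 6, 36253, 4),
  (146645, 6, 162001, 22),
  (146647, 6, 194705, 22),
  (146649, 5, 168221, 40),
  (146651, 6, 240733, 7),
  (146653, 6, 212029, 26),
  (146655, 6, 59643, 24),
  (146689, 4, 61684, 24),
  (146691, 5, 89259, 19),
  (146693, 6, 231758, 23),
  (146695, 6, 25685, 20),
  (146697, 5, 146435, 10),
  (146699, 5, 287, 8),
  (146701, 6, 19597, 19),
  (146703, 6, 4340, 24),
  (146705, 5, 287, 9),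
  (146707, 5, 160090, 25),
  (146709, 6, 7333, 19),
  (146711, 4, 102516, 24),
  (146713, 6, 137422, 23),
  (146715, 5, 114861, 39),
  (146717, 4, 133333, 22),
  (146719, 5, 114913, 39),
  (146785, 5, 191595, 10),
  (146787, 5, 168291, 40),
  (146789, 6, 252246, 25),
  (146791, 6, 252015, 21),
  (146793, 6, 129366, 25),
  (146795, 6, 195599, 17),
  (146797, 6, 193549, 17),
  (146799, 6, 169335, 11),
  (146801, 6, 163147, 13),
  (146803, 7, 141453, 37),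
  (146805, 5, 86285, 42),
  (146807, 6, 39223, 16),
  (146809, 5, 168213, 40),
  (146811, 5, 193837, 15),
  (146813, 6, 194859, 15),
  (146815, 6, 189821, 7),
  (146849, 5, 45121, 44),
  (146851, 6, 256414, 24),
  (146853, 6, 139455, 4),
  (146855, 6, 129211, 19),
  (146857, 5, 249235, 21),
  (146859, 6, 183699, 21),
  (146861, 6, 216351, 13),
  (146863, 5, 45137, 44),
  (146865, 5, 141745, 37),
  (146867, 6, 126139, 19),
  (146869, 6, 190894, 24),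
  (146871, 6, 113057, 26),
  (146873, 6, 173547, 25),
  (146875, 6, 177635, 25),
  (146877, 7, 56533, 19),
  (146879, 6, 208057, 12),
  (146881, 6, 61931, 21),
  (146883, 6, 195053, 22),
  (146885, 6, 192747, 21),
  (146887, 6, 39387, 8),
  (146889, 5, 137466, 23),
  (146891, 6, 185747, 21),
  (146893, 6, 242701, 17),
  (146895, 6, 170426, 23),
  (146897, 6, 239007, 5),
  (146899, 5, 128361, 21),
  (146901, 6, 203859, 2),
  (146903, 6, 123214, 23),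
  (146905, 6, 250259, 21),
  (146907, 6, 137726, 23),
  (146909, 5, 167971, 40),
  (146911, 6, 170430, 23),
  (147459, 5, 36870, 20),
  (147461, 4, 36867, 20),
  (147462, 4, 36869, 20),
  (147465, 5, 5521, 41),
  (147466, 4, 8369, 19),
  (147468, 5, 32779, 23),
  (147471, 6, 192892, 24),
  (147473, 3, 305, 10),
  (147474, 5, 197038, 38),
  (147476, 5, 34829, 23),
  (147479, 4, 61682, 25),
  (147480, 4, 2063, 23),
  (147483, 7, 184802, 25),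
  (147485, 4, 184812, 24),
  (147486, 6, 213481, 26),
  (147491, 3, 36878, 20),
  (147493, 4, 36875, 20),
  (147494, 4, 36877, 20),
  (147497, 6, 4385, 6),
  (147498, 3, 177, 19),
  (147500, 4, 5195, 23),
  (147503, 5, 196915, 38),
  (147505, 3, 305, 17),
  (147506, 6, 155938, 7),
  (147508, 4, 6217, 23),
  (147511, 6, 53295, 20),
  (147512, 4, 7179, 23),
  (147515, 6, 29995, 4),
  (147517, 4, 190, 19),
  (147518, 5, 45068, 44),
  (147521, 6, 33121, 10),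
  (147522, 5, 8593, 19),
  (147524, 4, 1097, 26),
  (147527, 5, 28854, 25),
  (147528, 5, 213008, 19),
  (147531, 6, 35073, 43),
  (147533, 5, 147461, 39),
  (147534, 6, 39206, 1),
  (147536, 6, 163952, 7),
  (147539, 6, 157041, 26),
  (147541, 5, 57590, 25),
  (147542, 5, 24754, 37),
  (147545, 4, 18539, 21),
  (147546, 5, 192602, 11),
  (147548, 5, 74130, 42),
  (147551, 6, 38269, 10),
  (147553, 6, 33121, 6),
  (147554, 3, 401, 19),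
  (147556, 5, 33801, 26),
  (147559, 5, 196917, 38),
  (147560, 4, 432, 19),
  (147563, 6, 188502, 22),
  (147565, 7, 18797, 21),
  (147566, 6, 184678, 15),
  (147568, 6, 49424, 1),
  (147571, 5, 413, 19),
  (147573, 4, 414, 19),
  (147574, 6, 174390, 10),
  (147577, 5, 238993, 26),
  (147578, 6, 192794, 3),
  (147580, 5, 34898, 43),
  (147583, 6, 447, 19),
  (147585, 3, 417, 10),
  (147586, 6, 82338, 6),
  (147588, 4, 2125, 26),
  (147591, 5, 6381, 44),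
  (147592, 6, 213384, 16),
  (147595, 5, 73971, 42),
  (147597, 6, 8438, 19),
  (147598, 5, 40972, 44),
  (147600, 3, 213264, 6),
  (147603, 6, 70761, 25),
  (147605, 6, 205109, 3),
  (147606, 6, 149869, 26),
  (147609, 6, 8444, 19),
  (147610, 5, 204970, 8),
  (147612, 5, 213180, 14),
  (147615, 6, 248239, 23),
  (147617, 4, 213409, 16),
  (147618, 6, 213122, 8),
  (147620, 5, 34829, 26),
  (147623, 6, 167951, 20),
  (147624, 6, 82184, 2),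
  (147627, 5, 245, 19),
  (147629, 4, 246, 19),
  (147630, 6, 217382, 15),
  (147632, 3, 65552, 42),
  (147635, 6, 221, 19),
  (147637, 6, 184363, 20),
  (147638, 5, 73862, 42),
  (147641, 4, 252, 19),
  (147642, 5, 147500, 39),
  (147644, 4, 250, 19),
  (147647, 6, 220235, 23),
  (147651, 5, 34155, 40),
  (147653, 6, 8662, 19),
  (147654, 6, 229670, 3),
  (147657, 5, 6493, 44),
  (147658, 5, 168084, 20),
  (147660, 5, 73906, 42),
  (147663, 6, 38381, 10),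
  (147665, 6, 8668, 19),
  (147666, 6, 90450, 5),
  (147668, 6, 156116, 17),
  (147671, 6, 42409, 22),
  (147672, 6, 90584, 20),
  (147675, 6, 184502, 20),
  (147677, 6, 208349, 26),
  (147678, 6, 216557, 26),
  (147683, 6, 147907, 14),
  (147685, 4, 470, 19),
  (147686, 5, 24738, 37),
  (147689, 5, 95243, 23),
  (147690, 6, 233890, 10),
  (147692, 5, 74002, 42),
  (147695, 6, 73145, 25),
  (147697, 4, 476, 19),
  (147698, 5, 473, 19),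
  (147700, 4, 474, 19),
  (147703, 6, 191639, 15),
  (147704, 5, 86026, 41),
  (147707, 4, 24657, 37),
  (147709, 5, 147493, 39),
  (147710, 6, 111078, 6),
  (147715, 3, 36934, 20),
  (147717, 4, 36931, 20),
  (147718, 4, 36933, 20),
  (147721, 6, 213122, 25),
  (147722, 4, 73777, 19),
  (147724, 4, 36867, 23),
  (147727, 6, 192516, 24),
  (147729, 4, 155953, 13),
  (147730, 6, 155938, 12),
  (147732, 4, 38917, 23),
  (147735, 6, 2530, 21),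
  (147736, 4, 6151, 23),
  (147739, 5, 147629, 39),
  (147741, 6, 73790, 19),
  (147742, 5, 196882, 38),
  (147747, 5, 36942, 20),
  (147749, 5, 36939, 20),
  (147750, 4, 212996, 21),
  (147753, 6, 168196, 24),
  (147754, 4, 65585, 19),
  (147756, 4, 1099, 23),
  (147759, 4, 229462, 22),
  (147761, 4, 155953, 11),
  (147762, 6, 139298, 6),
  (147764, 4, 2121, 23),
  (147767, 5, 35097, 43),
  (147768, 4, 3083, 23),
  (147771, 5, 24715, 37),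
  (147773, 6, 65598, 19),
  (147774, 6, 172170, 25),
  (147777, 6, 155938, 22),
  (147778, 5, 74001, 19),
  (147780, 5, 36939, 26),
  (147783, 6, 242065, 23),
  (147784, 4, 213136, 19),
  (147787, 6, 37078, 20),
  (147789, 6, 74038, 19),
  (147790, 5, 184622, 12),
  (147792, 6, 49424, 6),
  (147795, 5, 6361, 44),
  (147797, 6, 59733, 8),
  (147798, 6, 2474, 21),
  (147801, 4, 247942, 25),
  (147802, 6, 231566, 25),
  (147804, 5, 34838, 43),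
  (147807, 6, 244119, 23),
  (147809, 5, 73943, 42),
  (147810, 4, 65809, 19),
  (147812, 4, 4171, 26),
  (147815, 6, 249860, 21),
  (147816, 5, 65840, 19),
  (147819, 6, 33987, 40),
  (147821, 5, 5387, 41),
  (147822, 6, 39274, 2),
  (147824, 6, 49424, 13),
  (147827, 5, 34873, 43),
  (147829, 6, 65822, 19),
  (147830, 5, 24706, 37),
  (147833, 5, 34985, 43),
  (147834, 4, 53500, 20),
  (147836, 5, 12380, 43),
  (147839, 6, 158797, 2),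
  (147841, 3, 417, 14),
  (147842, 6, 82338, 10),
  (147844, 5, 38985, 26),
  (147847, 6, 2366, 24),
  (147848, 6, 82184, 6),
  (147851, 5, 5475, 41),
  (147853, 6, 168019, 20),
  (147854, 6, 2422, 24),
  (147856, 3, 131104, 39),
  (147859, 6, 213043, 17),
  (147861, 6, 90501, 16),
  (147862, 5, 73750, 42),
  (147865, 6, 11549, 22),
  (147866, 4, 67926, 24),
  (147868, 5, 147722, 39),
  (147871, 6, 252327, 23),
  (147873, 4, 213409, 11),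
  (147874, 5, 209370, 40),
  (147876, 4, 6217, 26),
  (147879, 4, 233554, 22),
  (147880, 6, 213384, 8),
  (147883, 6, 214027, 23),
  (147885, 4, 200726, 22),
  (147886, 5, 196626, 38),
  (147888, 3, 213264, 7),
  (147891, 6, 65629, 19),
  (147893, 6, 90389, 3),
  (147894, 6, 149577, 23),
  (147897, 6, 65660, 19),
  (147898, 6, 205114, 4),
  (147900, 6, 90540, 16),
  (147903, 6, 184447, 20),
  (147907, 5, 74123, 42),
  (147909, 6, 74070, 19),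
  (147910, 5, 24722, 37),
  (147913, 4, 162090, 22),
  (147914, 6, 102698, 3),
  (147916, 5, 74114, 42),
  (147919, 6, 129099, 26),
  (147921, 6, 68707, 25),
  (147922, 5, 10426, 21),
  (147924, 5, 180516, 43),
  (147927, 6, 194635, 26),
  (147928, 5, 196742, 38),
  (147931, 4, 196745, 38),
  (147933, 5, 147717, 39),
  (147934, 5, 192942, 12),
  (147939, 6, 133151, 24),
  (147941, 5, 184340, 21),
  (147942, 6, 155721, 23),
  (147945, 4, 168154, 20),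
  (147946, 6, 53334, 22),
  (147948, 5, 73762, 42),
  (147951, 6, 216141, 2),
  (147953, 6, 65884, 19),
  (147954, 5, 90594, 7),
  (147956, 5, 205172, 13),
  (147959, 6, 161867, 26),
  (147960, 6, 205160, 20),
  (147963, 6, 73195, 25),
  (147965, 6, 93259, 23),
  (147966, 6, 158795, 23),
  (148481, 5, 38914, 20),
  (148483, 3, 38918, 20),
  (148493, 4, 184700, 24),
  (148495, 6, 90329, 26),
  (148501, 6, 42433, 22),
  (148503, 5, 311, 10),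
  (148505, 4, 168412, 24),
  (148507, 6, 198799, 23),
  (148513, 4, 38922, 20),
  (148515, 4, 38926, 20),
  (148525, 6, 204886, 22),
  (148527, 5, 237590, 22),
  (148533, 4, 84326, 21),
  (148535, 6, 188697, 26),
  (148537, 4, 250218, 25),
  (148539, 6, 246122, 25),
  (148549, 5, 208263, 19),
  (148551, 5, 185353, 39),
  (148553, 6, 10569, 24),
  (148555, 5, 185419, 11),
  (148561, 6, 156019, 1),
  (148563, 6, 33139, 10),
  (148573, 6, 158075, 1),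
  (148575, 6, 220177, 19),
  (148581, 4, 94270, 25),
  (148583, 6, 90174, 25),
  (148585, 6, 155734, 22),
  (148587, 6, 39070, 20),
  (148593, 6, 189811, 8),
  (148595, 6, 210945, 19),
  (148605, 5, 193821, 3),
  (148607, 6, 23925, 12),
  (148613, 5, 233882, 22),
  (148615, 5, 423, 10),
  (148617, 6, 213419, 1),
  (148619, 6, 213163, 23),
  (148625, 6, 42313, 22),
  (148627, 6, 156051, 8),
  (148637, 6, 146849, 14),
  (148639, 6, 76154, 24),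
  (148645, 6, 185693, 39),
  (148647, 4, 141370, 24),
  (148649, 6, 125173, 19),
  (148651, 6, 213419, 16),
  (148657, 6, 66793, 25),
  (148659, 6, 9547, 22),
  (148669, 6, 163201, 14),
  (148671, 5, 185441, 39),
  (148673, 6, 82371, 12),
  (148675, 6, 170118, 20),
  (148685, 6, 257511, 19),
  (148687, 6, 252410, 22),
  (148693, 6, 118065, 17),
  (148695, 6, 92666, 21),
  (148697, 6, 186546, 20),
  (148699, 6, 186550, 20),
  (148705, 6, 68777, 25),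
  (148707, 4, 192530, 22),
  (148717, 6, 88551, 12),
  (148719, 5, 251151, 3),
  (148725, 5, 185443, 39),
  (148727, 6, 60833, 4),
  (148729, 6, 186554, 20),
  (148731, 6, 186558, 20),
  (148737, 4, 38978, 20),
  (148739, 4, 38982, 20),
  (148749, 6, 127081, 26),
  (148751, 5, 184340, 24),
  (148757, 6, 225428, 24),
  (148759, 6, 155959, 13),
  (148761, 4, 249986, 25),
  (148763, 6, 249994, 25),
  (148769, 3, 38986, 20),
  (148771, 5, 38990, 20),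
  (148781, 5, 185643, 39),
  (148783, 5, 93313, 19),
  (148789, 6, 159025, 11),
  (148791, 4, 61578, 25),
  (148793, 6, 55418, 20),
  (148795, 6, 67815, 21),
  (148805, 4, 184812, 21),
  (148807, 6, 182567, 5),
  (148809, 4, 219270, 25),
  (148811, 4, 190818, 22),
  (148817, 6, 145805, 19),
  (148819, 6, 156019, 13),
  (148829, 6, 58639, 16),
  (148831, 6, 76157, 24),
  (148837, 6, 205129, 23),
  (148839, 4, 184452, 21),
  (148841, 5, 185419, 10),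
  (148843, 6, 67821, 21),
  (148849, 6, 145821, 19),
  (148851, 6, 155715, 2),
  (148861, 6, 194694, 25),
  (148863, 6, 228481, 19),
  (148869, 5, 216097, 17),
  (148871, 6, 254308, 21),
  (148873, 6, 218539, 5),
  (148875, 6, 116881, 19),
  (148881, 4, 75890, 21),
  (148883, 5, 76062, 24),
  (148893, 6, 121255, 23),
  (148895, 6, 204081, 7),
  (148901, 6, 216481, 11),
  (148903, 6, 70835, 25),
  (148905, 6, 147851, 15),
  (148907, 6, 213003, 2),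
  (148913, 6, 213267, 7),
  (148915, 7, 95487, 41),
  (148925, 6, 206958, 24),
  (148927, 6, 90543, 16),
  (148929, 6, 68651, 25),
  (148931, 5, 192874, 22),
  (148941, 6, 170195, 20),
  (148943, 6, 248875, 17),
  (148949, 6, 60887, 8),
  (148951, 6, 178283, 26),
  (148953, 5, 185673, 39),
  (148955, 5, 185603, 39),
  (148961, 6, 26723, 26),
  (148963, 4, 53396, 21),
  (148973, 6, 191991, 19),
  (148975, 5, 220389, 12),
  (148981, 6, 76158, 21),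
  (148983, 6, 205175, 13),
  (148985, 6, 186618, 20),
  (148987, 6, 76031, 21),
  (149505, 4, 1099, 20),
  (149506, 4, 2125, 20),
  (149509, 4, 180292, 21),
  (149510, 5, 38985, 20),
  (149515, 6, 149729, 21),
  (149519, 6, 9399, 19),
  (149523, 4, 149730, 21),
  (149527, 6, 160156, 24),
  (149529, 6, 96430, 19),
  (149530, 6, 160054, 10),
  (149533, 6, 77189, 22),
  (149534, 6, 188884, 24),
  (149537, 5, 5187, 20),
  (149538, 5, 6213, 20),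
  (149541, 4, 33865, 20),
  (149542, 4, 34889, 20),
  (149547, 6, 127153, 26),
  (149551, 6, 6439, 6),
  (149555, 6, 192817, 26),
  (149559, 5, 311, 17),
  (149561, 6, 37356, 24),
  (149562, 6, 157710, 8),
  (149565, 5, 162097, 8),
  (149566, 3, 155662, 8),
  (149571, 6, 147954, 22),
  (149575, 4, 250060, 21),
  (149577, 5, 365, 2),
  (149578, 7, 87265, 26),
  (149581, 6, 39277, 10),
  (149582, 6, 139611, 23),
  (149585, 6, 83147, 20),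
  (149586, 5, 57670, 13),
  (149589, 6, 202770, 19),
  (149590, 6, 188502, 11),
  (149595, 6, 84313, 24),
  (149599, 6, 192998, 25),
  (149603, 6, 35171, 6),
  (149607, 6, 1431, 19),
  (149609, 6, 111761, 26),
  (149610, 6, 39266, 6),
  (149613, 6, 155798, 22),
  (149614, 6, 39270, 6),
  (149617, 6, 35125, 17),
  (149618, 5, 185633, 26),
  (149621, 6, 210946, 19),
  (149622, 5, 110662, 25),
  (149627, 6, 194843, 3),
  (149631, 6, 215161, 24),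
  (149635, 5, 216097, 13),
  (149639, 6, 213481, 23),
  (149641, 6, 6569, 10),
  (149642, 4, 18770, 24),
  (149645, 4, 116754, 19),
  (149646, 6, 219530, 7),
  (149649, 6, 116973, 23),
  (149650, 6, 78921, 25),
  (149653, 6, 158066, 21),
  (149654, 6, 149869, 23),
  (149659, 7, 9469, 19),
  (149663, 6, 84346, 24),
  (149667, 6, 216481, 16),
  (149671, 6, 1239, 19),
  (149673, 6, 125174, 19),
  (149674, 5, 110806, 22),
  (149677, 6, 124930, 19),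
  (149678, 5, 185419, 23),
  (149681, 5, 120841, 23),
  (149682, 6, 24998, 13),
  (149685, 5, 178461, 26),
  (149686, 6, 186669, 26),
  (149691, 6, 212017, 13),
  (149695, 5, 163249, 8),
  (149697, 6, 151994, 22),
  (149698, 6, 33190, 1),
  (149701, 6, 90361, 23),
  (149702, 4, 86138, 22),
  (149707, 6, 121315, 6),
  (149711, 6, 249229, 16),
  (149715, 6, 157946, 21),
  (149719, 6, 163197, 26),
  (149721, 6, 125099, 43),
  (149722, 6, 117054, 17),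
  (149725, 6, 212445, 26),
  (149726, 6, 194734, 12),
  (149729, 5, 247877, 7),
  (149730, 3, 213478, 7),
  (149733, 6, 37172, 21),
  (149734, 6, 147910, 14),
  (149739, 6, 81367, 20),
  (149743, 6, 252175, 3),
  (149747, 5, 248919, 7),
  (149751, 6, 156103, 14),
  (149753, 6, 245141, 26),
  (149754, 5, 100670, 17),
  (149757, 6, 130123, 23),
  (149758, 6, 113126, 6),
  (149761, 5, 33803, 20),
  (149762, 5, 34829, 20),
  (149765, 4, 5193, 20),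
  (149766, 4, 6217, 20),
  (149771, 6, 6439, 14),
  (149775, 6, 147503, 17),
  (149779, 6, 159025, 13),
  (149783, 6, 133602, 21),
  (149785, 5, 161805, 4),
  (149786, 3, 155662, 13),
  (149789, 5, 88210, 19),
  (149790, 6, 74811, 19),
  (149793, 4, 37891, 20),
  (149794, 4, 38917, 20),
  (149797, 4, 1097, 20),
  (149798, 4, 2121, 20),
  (149803, 4, 192804, 24),
  (149807, 6, 147610, 25),
  (149811, 6, 155721, 26),
  (149815, 6, 155959, 11),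
  (149817, 6, 204873, 26),
  (149818, 5, 172186, 25),
  (149821, 6, 180370, 25),
  (149822, 6, 4414, 2),
  (149827, 6, 156130, 22),
  (149831, 6, 181255, 4),
  (149833, 6, 6501, 14),
  (149834, 4, 26850, 22),
  (149837, 6, 78921, 20),
  (149838, 4, 198814, 25),
  (149841, 4, 125078, 25),
  (149842, 5, 133290, 21),
  (149845, 6, 70761, 20),
  (149846, 6, 155734, 5),
  (149851, 6, 163185, 13),
  (149855, 6, 247966, 25),
  (149859, 6, 66837, 19),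
  (149863, 6, 149565, 24),
  (149865, 6, 186733, 11),
  (149866, 6, 81995, 26),
  (149869, 5, 365, 1),
  (149870, 6, 173131, 23),
  (149873, 4, 145822, 19),
  (149874, 6, 190726, 8),
  (149877, 6, 157761, 2),
  (149878, 4, 133550, 21),
  (149883, 6, 190622, 25),
  (149887, 6, 178279, 6),
  (149891, 6, 59465, 26),
  (149895, 5, 423, 14),
  (149897, 7, 145802, 22),
  (149898, 6, 6566, 14),
  (149901, 4, 211210, 22),
  (149902, 4, 18806, 24),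
  (149905, 4, 84238, 24),
  (149906, 6, 196918, 16),
  (149909, 5, 141682, 21),
  (149910, 6, 213046, 17),
  (149915, 6, 252391, 23),
  (149919, 6, 213055, 17),
  (149923, 6, 246036, 21),
  (149927, 4, 149566, 24),
  (149929, 6, 46355, 20),
  (149930, 6, 88330, 3),
  (149933, 6, 140617, 20),
  (149934, 6, 37078, 22),
  (149937, 6, 215054, 24),
  (149938, 6, 149577, 26),
  (149941, 7, 141686, 21),
  (149942, 6, 182345, 23),
  (149947, 6, 248843, 23),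
  (149951, 6, 215166, 24),
  (149953, 4, 174534, 19),
  (149954, 6, 75089, 19),
  (149957, 5, 248225, 5),
  (149958, 4, 486, 14),
  (149963, 6, 162282, 22),
  (149967, 6, 253353, 5),
  (149971, 6, 126337, 16),
  (149975, 6, 194627, 26),
  (149977, 6, 129271, 23),
  (149978, 5, 186626, 39),
  (149981, 6, 243779, 26),
  (149982, 5, 67802, 42),
  (149985, 7, 213061, 2),
  (149986, 5, 166306, 12),
  (149989, 6, 239746, 19),
  (149990, 6, 246246, 11),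
  (149995, 6, 250070, 22),
  (149999, 6, 66935, 19),
  (150003, 6, 141566, 21),
  (150007, 6, 141822, 21),
  (150009, 6, 125963, 23),
  (150010, 6, 129306, 3),
  (150013, 6, 189551, 40),
  (150014, 6, 243942, 6),
  (150537, 6, 151994, 25),
  (150539, 5, 76867, 42),
  (150541, 4, 231698, 22),
  (150543, 6, 156074, 25),
  (150545, 6, 143729, 26),
  (150547, 6, 215266, 21),
  (150549, 5, 158775, 13),
  (150551, 6, 215522, 21),
  (150569, 6, 37244, 24),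
  (150571, 4, 45420, 24),
  (150573, 6, 215397, 21),
  (150575, 6, 221482, 25),
  (150577, 6, 4540, 24),
  (150579, 5, 158775, 11),
  (150581, 4, 127082, 25),
  (150583, 5, 88293, 44),
  (150593, 6, 66767, 20),
  (150595, 6, 35171, 10),
  (150597, 6, 3427, 2),
  (150599, 6, 205017, 23),
  (150617, 7, 109925, 22),
  (150619, 5, 174413, 43),
  (150621, 6, 193006, 25),
  (150623, 6, 186427, 5),
  (150625, 6, 221394, 22),
  (150627, 6, 157721, 24),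
  (150629, 5, 102820, 21),
  (150631, 6, 37284, 21),
  (150649, 6, 193911, 8),
  (150651, 5, 88165, 44),
  (150653, 6, 184407, 7),
  (150655, 6, 254318, 25),
  (150657, 6, 57796, 21),
  (150659, 6, 245993, 23),
  (150661, 4, 82409, 23),
  (150663, 6, 233818, 22),
  (150681, 6, 139455, 15),
  (150683, 6, 77133, 22),
  (150685, 6, 92522, 24),
  (150687, 6, 89489, 12),
  (150689, 5, 233633, 38),
  (150691, 4, 241810, 22),
  (150693, 6, 212999, 7),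
  (150695, 6, 33204, 21),
  (150713, 6, 212019, 13),
  (150715, 5, 163207, 14),
  (150717, 5, 76997, 42),
  (150719, 6, 223354, 24),
  (150729, 6, 186810, 22),
  (150731, 6, 216557, 1),
  (150733, 6, 252218, 22),
  (150735, 6, 252282, 22),
  (150737, 6, 146805, 26),
  (150739, 7, 80993, 25),
  (150741, 6, 108009, 22),
  (150743, 6, 175281, 15),
  (150761, 6, 225494, 22),
  (150763, 6, 233647, 5),
  (150765, 5, 233697, 38),
  (150767, 6, 248239, 16),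
  (150769, 6, 223358, 21),
  (150771, 5, 144771, 41),
  (150773, 6, 52695, 10),
  (150775, 6, 231603, 5),
  (150793, 6, 26791, 19),
  (150795, 6, 225434, 25),
  (150797, 7, 239874, 22),
  (150799, 4, 239938, 22),
  (150801, 4, 127122, 25),
  (150803, 6, 75089, 22),
  (150805, 4, 199010, 21),
  (150807, 7, 118938, 25),
  (150825, 6, 90217, 26),
  (150827, 6, 73833, 26),
  (150829, 6, 152877, 11),
  (150831, 6, 199141, 21),
  (150833, 6, 61586, 25),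
  (150835, 4, 198886, 21),
  (150837, 7, 53394, 25),
  (150839, 6, 201140, 24),
  (150849, 4, 96406, 25),
  (150851, 6, 199827, 19),
  (150853, 6, 254242, 22),
  (150855, 6, 26941, 24),
  (150873, 6, 194575, 4),
  (150875, 5, 88169, 44),
  (150877, 6, 192527, 4),
  (150879, 6, 193549, 4),
  (150881, 6, 147559, 12),
  (150883, 5, 30878, 25),
  (150885, 5, 144539, 41),
  (150887, 6, 180370, 22),
  (150905, 6, 194710, 25),
  (150907, 6, 194718, 25),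
  (150909, 6, 158795, 2),
  (150911, 6, 186526, 25),
  (150913, 6, 119265, 23),
  (150915, 5, 26910, 24),
  (150917, 6, 241930, 22),
  (150919, 5, 241994, 22),
  (150937, 6, 206963, 21),
  (150939, 6, 77149, 22),
  (150941, 6, 88551, 23),
  (150943, 5, 144521, 41),
  (150945, 6, 157710, 24),
  (150947, 6, 212999, 2),
  (150949, 6, 134477, 20),
  (150951, 7, 168082, 22),
  (150969, 6, 156063, 15),
  (150971, 6, 64787, 20),
  (150973, 6, 223342, 24),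
  (150975, 6, 118091, 23),
  (150985, 6, 251311, 5),
  (150987, 6, 7655, 14),
  (150989, 5, 174109, 43),
  (150991, 6, 5607, 14),
  (150993, 5, 115891, 40),
  (150995, 6, 207098, 21),
  (150997, 6, 76923, 25),
  (150999, 6, 125319, 16),
  (151017, 6, 234927, 5),
  (151019, 6, 81315, 25),
  (151021, 5, 88257, 44),
  (151023, 7, 206157, 20),
  (151025, 6, 213239, 12),
  (151027, 6, 244867, 19),
  (151029, 6, 179677, 19),
  (151031, 6, 240871, 6),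
  (151553, 6, 4385, 2),
  (151554, 4, 24721, 19),
  (151556, 4, 201, 26),
  (151559, 6, 246213, 21),
  (151561, 6, 4385, 10),
  (151562, 5, 24753, 19),
  (151564, 5, 33803, 23),
  (151567, 6, 197078, 22),
  (151571, 4, 53730, 25),
  (151573, 5, 162097, 1),
  (151574, 5, 45522, 25),
  (151579, 6, 101413, 21),
  (151581, 6, 11649, 22),
  (151582, 6, 147742, 15),
  (151585, 6, 4428, 24),
  (151586, 4, 16529, 19),
  (151588, 4, 4171, 23),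
  (151591, 6, 200779, 23),
  (151593, 6, 147465, 7),
  (151594, 5, 16561, 19),
  (151596, 4, 5193, 23),
  (151599, 6, 201801, 23),
  (151603, 6, 61486, 20),
  (151605, 6, 172441, 26),
  (151606, 5, 22814, 1),
  (151611, 6, 203785, 23),
  (151613, 6, 96613, 44),
  (151614, 5, 176586, 38),
  (151619, 5, 20902, 25),
  (151621, 6, 6501, 2),
  (151622, 4, 12694, 25),
  (151627, 6, 147830, 22),
  (151629, 6, 35177, 24),
  (151630, 5, 106654, 42),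
  (151633, 5, 49638, 25),
  (151634, 6, 42021, 22),
  (151636, 4, 41430, 25),
  (151639, 6, 24991, 19),
  (151641, 6, 25020, 19),
  (151642, 6, 61620, 20),
  (151644, 6, 160084, 17),
  (151647, 6, 192758, 25),
  (151651, 5, 185633, 16),
  (151653, 6, 39201, 17),
  (151654, 6, 143435, 23),
  (151659, 6, 45214, 20),
  (151661, 6, 131181, 13),
  (151662, 4, 125014, 22),
  (151665, 5, 192529, 15),
  (151666, 6, 102726, 25),
  (151668, 3, 156028, 17),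
  (151671, 6, 127350, 25),
  (151673, 6, 11555, 22),
  (151674, 6, 233542, 25),
  (151676, 6, 160116, 17),
  (151679, 5, 193837, 16),
  (151683, 6, 201769, 25),
  (151685, 6, 153997, 8),
  (151686, 5, 190806, 43),
  (151691, 6, 218539, 1),
  (151693, 4, 201118, 22),
  (151694, 6, 82350, 6),
  (151697, 6, 213177, 5),
  (151698, 6, 205114, 3),
  (151700, 6, 205116, 3),
  (151703, 6, 158205, 26),
  (151705, 6, 24828, 19),
  (151706, 6, 213274, 15),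
  (151708, 6, 90540, 6),
  (151711, 6, 90543, 6),
  (151715, 6, 218123, 7),
  (151717, 6, 43165, 26),
  (151718, 6, 213262, 3),
  (151723, 6, 147851, 14),
  (151725, 6, 16630, 19),
  (151726, 6, 213294, 15),
  (151729, 5, 209923, 41),
  (151730, 6, 16601, 19),
  (151732, 6, 16602, 19),
  (151735, 6, 42383, 22),
  (151737, 4, 192570, 20),
  (151738, 4, 192572, 20),
  (151740, 5, 100442, 42),
  (151743, 5, 210051, 41),
  (151745, 6, 199713, 25),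
  (151746, 6, 203785, 25),
  (151748, 6, 245836, 1),
  (151751, 5, 25047, 19),
  (151753, 6, 25076, 19),
  (151754, 6, 82250, 5),
  (151756, 6, 35171, 24),
  (151759, 6, 220651, 1),
  (151763, 6, 128207, 21),
  (151765, 6, 121137, 17),
  (151766, 6, 145898, 14),
  (151771, 6, 139755, 14),
  (151773, 6, 126143, 23),
  (151774, 6, 243882, 8),
  (151777, 6, 246967, 40),
  (151778, 3, 213066, 16),
  (151780, 6, 147948, 17),
  (151783, 5, 251301, 16),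
  (151785, 4, 161814, 22),
  (151786, 6, 102698, 17),
  (151788, 5, 141426, 39),
  (151791, 6, 260182, 22),
  (151795, 6, 42287, 22),
  (151797, 7, 199921, 25),
  (151798, 4, 98398, 42),
  (151803, 6, 192702, 20),
  (151805, 5, 210179, 41),
  (151806, 6, 162889, 23),
  (151809, 6, 147465, 4),
  (151810, 5, 90129, 19),
  (151812, 4, 37889, 23),
  (151815, 6, 45127, 20),
  (151817, 6, 4385, 3),
  (151818, 4, 90161, 19),
  (151820, 4, 37891, 23),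
  (151823, 6, 147503, 6),
  (151827, 6, 61542, 20),
  (151829, 6, 254338, 25),
  (151830, 6, 250057, 26),
  (151835, 6, 61558, 20),
  (151837, 6, 90174, 19),
  (151838, 4, 106890, 25),
  (151841, 6, 4385, 1),
  (151842, 5, 81937, 19),
  (151844, 3, 75, 23),
  (151847, 4, 192836, 24),
  (151849, 5, 63613, 37),
  (151850, 4, 81969, 19),
  (151852, 4, 1097, 23),
  (151855, 6, 24970, 25),
  (151859, 4, 242116, 24),
  (151861, 5, 250308, 24),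
  (151862, 6, 81947, 19),
  (151867, 6, 81981, 19),
  (151869, 5, 161805, 2),
  (151870, 6, 221636, 24),
  (151875, 6, 90389, 19),
  (151877, 6, 111761, 23),
  (151878, 6, 35125, 24),
  (151883, 5, 185633, 5),
  (151885, 6, 186369, 4),
  (151886, 6, 90342, 22),
  (151889, 5, 90396, 19),
  (151890, 6, 192882, 4),
  (151892, 6, 100645, 24),
  (151895, 6, 90399, 19),
  (151897, 4, 61682, 20),
  (151898, 4, 61684, 20),
  (151900, 3, 156028, 13),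
  (151903, 6, 125326, 25),
  (151907, 5, 182354, 22),
  (151909, 5, 210075, 41),
  (151910, 4, 141710, 25),
  (151915, 6, 165981, 24),
  (151917, 6, 184325, 21),
  (151918, 5, 32926, 42),
  (151921, 6, 75787, 23),
  (151922, 5, 89259, 21),
  (151924, 6, 172332, 12),
  (151927, 6, 190862, 25),
  (151929, 6, 139459, 26),
  (151930, 6, 192882, 11),
  (151932, 6, 82234, 19),
  (151935, 6, 59790, 25),
  (151939, 6, 35102, 24),
  (151941, 6, 6569, 14),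
  (151942, 5, 185633, 23),
  (151947, 5, 427, 14),
  (151949, 6, 35182, 24),
  (151950, 6, 215050, 5),
  (151953, 6, 90204, 19),
  (151954, 6, 90506, 7),
  (151956, 5, 100646, 24),
  (151959, 5, 100670, 24),
  (151961, 6, 52245, 21),
  (151962, 7, 85013, 21),
  (151964, 6, 150549, 21),
  (151967, 5, 210057, 41),
  (151971, 6, 213003, 23),
  (151973, 6, 82006, 19),
  (151974, 6, 131502, 12),
  (151979, 6, 196779, 6),
  (151981, 6, 196781, 6),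
  (151982, 6, 219530, 8),
  (151985, 6, 82012, 19),
  (151986, 6, 213274, 16),
  (151988, 5, 90396, 3),
  (151991, 6, 90399, 3),
  (151993, 6, 204969, 6),
  (151994, 5, 204970, 6),
  (151996, 6, 205116, 13),
  (151999, 6, 204975, 6),
  (152001, 5, 95409, 23),
  (152002, 6, 233890, 8),
  (152004, 6, 90450, 19),
  (152007, 6, 90455, 19),
  (152009, 5, 489, 14),
  (152010, 3, 213066, 5),
  (152012, 6, 37356, 5),
  (152015, 6, 90487, 19),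
  (152019, 5, 210313, 41),
  (152021, 6, 106813, 3),
  (152022, 6, 90459, 19),
  (152027, 6, 251313, 5),
  (152029, 5, 210185, 41),
  (152030, 6, 244138, 8),
  (152033, 7, 90123, 23),
  (152034, 6, 246250, 11),
  (152036, 5, 190754, 43),
  (152039, 6, 220229, 2),
  (152041, 6, 176346, 20),
  (152042, 6, 213098, 5),
  (152044, 6, 151573, 21),
  (152047, 6, 82295, 19),
  (152051, 6, 192750, 20),
  (152053, 6, 241901, 6),
  (152054, 5, 194790, 13),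
  (152059, 6, 82301, 19),
  (152061, 6, 194721, 4)]

theorem chk_rows2_16 : rows2_16.all (rowBP tr2 gensLitP 72) = true := by decide +kernel

/-- Rows 25500 to 26999. -/
def rows2_17 : List (ℕ × ℕ × ℕ × ℕ) := [(152062, 5, 96742, 7),
  (152581, 6, 29114, 25),
  (152583, 6, 6439, 2),
  (152589, 4, 229782, 22),
  (152591, 6, 147503, 13),
  (152593, 6, 80045, 19),
  (152595, 6, 29995, 6),
  (152601, 6, 5427, 10),
  (152603, 5, 63542, 20),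
  (152613, 6, 41145, 26),
  (152615, 4, 69963, 23),
  (152621, 6, 229541, 21),
  (152623, 6, 221242, 25),
  (152625, 5, 107569, 42),
  (152627, 6, 5427, 17),
  (152633, 6, 63546, 20),
  (152635, 4, 45452, 24),
  (152641, 5, 182582, 22),
  (152643, 6, 47238, 20),
  (152649, 6, 43337, 24),
  (152651, 6, 180598, 22),
  (152661, 6, 212399, 19),
  (152663, 5, 152683, 41),
  (152669, 6, 162171, 1),
  (152671, 6, 37239, 10),
  (152673, 7, 38177, 17),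
  (152675, 6, 47246, 20),
  (152681, 4, 217134, 25),
  (152683, 4, 190486, 22),
  (152693, 6, 212415, 19),
  (152695, 6, 163147, 14),
  (152701, 7, 234661, 21),
  (152703, 6, 146809, 1),
  (152705, 6, 1451, 10),
  (152707, 5, 427, 10),
  (152713, 7, 83371, 23),
  (152715, 6, 147851, 8),
  (152725, 6, 89393, 17),
  (152727, 6, 249005, 23),
  (152733, 6, 194611, 20),
  (152735, 6, 108922, 24),
  (152737, 6, 178186, 20),
  (152739, 6, 196779, 5),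
  (152745, 6, 213003, 7),
  (152747, 6, 32949, 21),
  (152757, 6, 239658, 24),
  (152759, 6, 212401, 1),
  (152765, 5, 97551, 2),
  (152767, 6, 204863, 13),
  (152773, 5, 252350, 22),
  (152775, 6, 248881, 19),
  (152781, 5, 107699, 42),
  (152783, 6, 204081, 25),
  (152785, 6, 120113, 17),
  (152787, 6, 177329, 15),
  (152793, 6, 82395, 12),
  (152795, 6, 250035, 5),
  (152805, 6, 227410, 22),
  (152807, 5, 152681, 41),
  (152813, 6, 251311, 16),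
  (152815, 6, 250287, 16),
  (152817, 6, 194730, 20),
  (152819, 6, 194734, 20),
  (152825, 6, 194746, 20),
  (152827, 6, 194750, 20),
  (152837, 6, 180709, 21),
  (152839, 6, 184404, 24),
  (152845, 6, 27783, 19),
  (152847, 4, 68785, 19),
  (152849, 6, 50407, 21),
  (152851, 6, 160059, 13),
  (152857, 6, 63602, 20),
  (152859, 4, 200916, 24),
  (152869, 6, 196939, 23),
  (152871, 5, 58595, 40),
  (152877, 5, 58579, 40),
  (152879, 6, 180357, 21),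
  (152881, 5, 29825, 37),
  (152883, 6, 117859, 21),
  (152889, 6, 155873, 26),
  (152891, 4, 53642, 25),
  (152897, 7, 219526, 25),
  (152899, 7, 190822, 22),
  (152905, 6, 120965, 21),
  (152907, 6, 43357, 24),
  (152917, 6, 146863, 19),
  (152919, 5, 107745, 42),
  (152925, 6, 129414, 25),
  (152927, 6, 203953, 19),
  (152929, 5, 58611, 40),
  (152931, 5, 153998, 25),
  (152937, 6, 24803, 26),
  (152939, 6, 153891, 39),
  (152949, 6, 194950, 25),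
  (152951, 6, 191867, 11),
  (152957, 6, 163231, 19),
  (152959, 6, 212129, 19),
  (152961, 6, 178242, 20),
  (152963, 6, 213419, 5),
  (152969, 6, 202939, 44),
  (152971, 5, 29851, 37),
  (152981, 6, 220209, 17),
  (152983, 6, 108862, 24),
  (152989, 6, 122279, 23),
  (152991, 7, 202099, 25),
  (152993, 6, 43253, 19),
  (152995, 6, 147595, 10),
  (153001, 6, 218123, 2),
  (153003, 6, 49301, 21),
  (153013, 6, 239662, 24),
  (153015, 6, 239678, 24),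
  (153021, 6, 95663, 16),
  (153023, 6, 145641, 26),
  (153029, 5, 128433, 23),
  (153031, 6, 248239, 5),
  (153037, 6, 258478, 22),
  (153039, 6, 3563, 14),
  (153041, 6, 178669, 19),
  (153043, 5, 194790, 20),
  (153049, 6, 194802, 20),
  (153051, 6, 250939, 17),
  (153061, 6, 219218, 22),
  (153063, 6, 203955, 25),
  (153069, 5, 220239, 2),
  (153071, 6, 91465, 23),
  (153073, 6, 210299, 13),
  (153075, 6, 194798, 20),
  (153081, 6, 194810, 20),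
  (153083, 6, 205179, 13),
  (153603, 6, 230857, 23),
  (153607, 6, 152871, 1),
  (153611, 5, 107569, 40),
  (153615, 5, 29825, 41),
  (153617, 4, 80046, 19),
  (153618, 6, 4414, 1),
  (153621, 6, 143833, 26),
  (153622, 6, 156116, 24),
  (153625, 6, 209233, 26),
  (153626, 4, 155966, 10),
  (153629, 5, 58611, 37),
  (153630, 6, 25787, 19),
  (153635, 6, 6439, 17),
  (153639, 6, 147503, 11),
  (153643, 6, 217138, 25),
  (153647, 6, 127033, 26),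
  (153649, 6, 4588, 24),
  (153650, 5, 141426, 37),
  (153653, 6, 75143, 22),
  (153654, 6, 159750, 8),
  (153657, 6, 77059, 22),
  (153658, 4, 233554, 25),
  (153661, 4, 53644, 24),
  (153662, 6, 4414, 17),
  (153665, 6, 35177, 10),
  (153666, 5, 184622, 10),
  (153669, 6, 24998, 25),
  (153670, 4, 84086, 22),
  (153673, 6, 147638, 25),
  (153674, 5, 16652, 44),
  (153677, 6, 39205, 21),
  (153678, 6, 184390, 11),
  (153683, 6, 36217, 10),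
  (153687, 6, 208349, 23),
  (153691, 6, 184566, 25),
  (153695, 6, 192599, 11),
  (153697, 6, 186657, 16),
  (153698, 6, 39274, 6),
  (153701, 6, 39277, 6),
  (153702, 6, 153930, 44),
  (153705, 6, 35177, 6),
  (153706, 4, 200726, 25),
  (153709, 6, 186669, 16),
  (153710, 5, 184334, 8),
  (153715, 6, 39223, 17),
  (153719, 5, 127334, 25),
  (153723, 6, 249974, 25),
  (153727, 6, 258150, 25),
  (153729, 6, 51466, 24),
  (153730, 6, 90501, 21),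
  (153733, 6, 14557, 26),
  (153734, 6, 148841, 23),
  (153737, 6, 9547, 20),
  (153738, 3, 213422, 10),
  (153741, 6, 35125, 21),
  (153742, 6, 131502, 14),
  (153747, 6, 249325, 23),
  (153751, 6, 216557, 23),
  (153755, 6, 249327, 23),
  (153759, 6, 117114, 24),
  (153761, 6, 196781, 5),
  (153762, 3, 213422, 7),
  (153765, 6, 182314, 24),
  (153766, 6, 131502, 2),
  (153769, 4, 211094, 22),
  (153770, 5, 182354, 24),
  (153773, 5, 58595, 37),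
  (153774, 6, 166233, 20),
  (153779, 5, 152683, 39),
  (153783, 5, 107745, 40),
  (153787, 6, 76203, 6),
  (153791, 6, 203953, 5),
  (153795, 6, 36329, 10),
  (153799, 6, 218599, 1),
  (153803, 6, 152062, 22),
  (153807, 6, 51579, 24),
  (153809, 5, 244206, 19),
  (153810, 6, 212041, 25),
  (153813, 5, 193615, 21),
  (153814, 6, 159101, 23),
  (153817, 6, 260558, 19),
  (153818, 6, 121150, 17),
  (153821, 6, 235570, 19),
  (153822, 6, 117107, 24),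
  (153827, 6, 129481, 21),
  (153831, 6, 194770, 22),
  (153835, 6, 248911, 7),
  (153839, 6, 194774, 22),
  (153841, 6, 129035, 23),
  (153842, 6, 113130, 6),
  (153845, 6, 113133, 6),
  (153846, 5, 135204, 44),
  (153849, 5, 152681, 39),
  (153850, 5, 20740, 44),
  (153853, 6, 247915, 24),
  (153854, 5, 63978, 13),
  (153859, 6, 221594, 25),
  (153863, 6, 213402, 25),
  (153867, 6, 90522, 25),
  (153871, 6, 7257, 20),
  (153873, 7, 14510, 19),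
  (153874, 6, 159750, 13),
  (153877, 7, 155661, 4),
  (153878, 5, 203050, 39),
  (153881, 5, 217316, 24),
  (153882, 6, 24894, 10),
  (153885, 6, 5241, 20),
  (153886, 6, 205028, 24),
  (153891, 5, 156058, 25),
  (153895, 5, 166098, 22),
  (153899, 4, 231638, 22),
  (153903, 5, 143716, 24),
  (153905, 6, 14526, 19),
  (153906, 6, 213193, 26),
  (153909, 7, 161793, 2),
  (153910, 4, 155966, 11),
  (153913, 4, 139465, 26),
  (153914, 6, 147657, 26),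
  (153917, 6, 153891, 44),
  (153918, 6, 160054, 11),
  (153921, 7, 53613, 21),
  (153922, 6, 184390, 13),
  (153925, 6, 202939, 38),
  (153926, 6, 182574, 12),
  (153929, 6, 39201, 3),
  (153930, 5, 177491, 23),
  (153933, 5, 365, 14),
  (153934, 6, 39206, 3),
  (153939, 6, 163193, 13),
  (153943, 6, 248222, 25),
  (153947, 6, 125342, 25),
  (153951, 6, 117150, 25),
  (153953, 6, 6501, 1),
  (153954, 5, 184334, 1),
  (153957, 5, 29851, 41),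
  (153958, 4, 51410, 22),
  (153961, 6, 8395, 26),
  (153962, 5, 131372, 44),
  (153965, 6, 182381, 24),
  (153966, 6, 184678, 11),
  (153971, 6, 146809, 13),
  (153975, 6, 182686, 25),
  (153979, 6, 59806, 25),
  (153983, 6, 192887, 11),
  (153985, 4, 43238, 19),
  (153986, 6, 51478, 24),
  (153989, 7, 116914, 19),
  (153990, 5, 201126, 8),
  (153993, 6, 43209, 26),
  (153994, 6, 82350, 10),
  (153997, 5, 58579, 37),
  (153998, 4, 213006, 5),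
  (154003, 6, 204095, 7),
  (154007, 6, 117054, 24),
  (154011, 7, 190665, 26),
  (154015, 6, 220647, 23),
  (154017, 6, 182286, 24),
  (154018, 6, 82350, 7),
  (154021, 4, 125090, 19),
  (154022, 3, 213422, 11),
  (154025, 6, 182350, 24),
  (154026, 6, 6566, 2),
  (154029, 6, 14529, 26),
  (154030, 4, 182390, 24),
  (154035, 6, 220447, 7),
  (154039, 6, 247883, 23),
  (154043, 6, 216351, 7),
  (154047, 6, 248905, 23),
  (154051, 6, 212011, 25),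
  (154055, 6, 212027, 25),
  (154059, 5, 251301, 5),
  (154063, 6, 63683, 26),
  (154065, 5, 107699, 40),
  (154066, 6, 251958, 17),
  (154069, 6, 252082, 19),
  (154070, 5, 135202, 39),
  (154073, 6, 112945, 3),
  (154074, 5, 20778, 39),
  (154077, 5, 252337, 5),
  (154078, 6, 242094, 8),
  (154083, 6, 252114, 22),
  (154087, 7, 254027, 23),
  (154091, 6, 252391, 11),
  (154095, 6, 250343, 11),
  (154097, 6, 247823, 24),
  (154098, 6, 83289, 19),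
  (154101, 6, 243949, 6),
  (154102, 6, 125214, 3),
  (154105, 6, 213245, 12),
  (154106, 5, 239850, 6),
  (154109, 6, 54549, 21),
  (154110, 6, 191561, 23),
  (154625, 5, 166294, 22),
  (154627, 5, 180299, 39),
  (154629, 4, 151900, 24),
  (154631, 6, 28889, 26),
  (154633, 4, 9295, 20),
  (154635, 6, 147642, 25),
  (154637, 6, 159914, 25),
  (154639, 6, 155818, 25),
  (154657, 5, 164941, 40),
  (154659, 6, 7251, 20),
  (154661, 7, 141522, 22),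
  (154663, 4, 174226, 22),
  (154665, 6, 92311, 19),
  (154667, 4, 239766, 22),
  (154669, 6, 110649, 26),
  (154671, 4, 61708, 24),
  (154705, 6, 162167, 1),
  (154707, 6, 60685, 4),
  (154709, 6, 125225, 24),
  (154711, 6, 57838, 25),
  (154713, 6, 184574, 25),
  (154715, 5, 180478, 25),
  (154717, 5, 78227, 42),
  (154719, 6, 26879, 37),
  (154737, 6, 119166, 25),
  (154739, 6, 146805, 1),
  (154741, 6, 127342, 25),
  (154743, 5, 14661, 44),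
  (154745, 6, 77945, 42),
  (154747, 6, 194859, 16),
  (154749, 6, 191867, 8),
  (154751, 6, 144765, 1),
  (154769, 6, 208185, 3),
  (154771, 6, 146863, 14),
  (154773, 6, 145587, 15),
  (154775, 6, 146609, 15),
  (154777, 6, 82335, 12),
  (154779, 6, 156063, 8),
  (154781, 6, 125290, 24),
  (154783, 6, 125306, 24),
  (154801, 5, 163213, 14),
  (154803, 5, 196799, 5),
  (154805, 6, 256042, 24),
  (154807, 6, 198843, 5),
  (154809, 6, 256074, 24),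
  (154811, 6, 256090, 24),
  (154813, 6, 203955, 5),
  (154815, 6, 30117, 4),
  (154817, 6, 249037, 11),
  (154819, 5, 35307, 10),
  (154821, 5, 198043, 38),
  (154823, 6, 212017, 25),
  (154825, 5, 180713, 39),
  (154827, 6, 232557, 7),
  (154829, 6, 208185, 25),
  (154831, 6, 218605, 1),
  (154849, 6, 258315, 23),
  (154851, 6, 252323, 16),
  (154853, 6, 208057, 25),
  (154855, 6, 252327, 16),
  (154857, 6, 165143, 40),
  (154859, 6, 212385, 25),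
  (154861, 6, 162006, 22),
  (154863, 6, 212401, 25),
  (154881, 6, 10407, 19),
  (154883, 4, 174534, 22),
  (154885, 6, 127201, 26),
  (154887, 4, 168052, 24),
  (154889, 6, 14583, 44),
  (154891, 4, 151668, 24),
  (154893, 6, 117125, 21),
  (154895, 6, 86426, 25),
  (154913, 6, 6439, 1),
  (154915, 5, 180587, 39),
  (154917, 6, 147503, 4),
  (154919, 6, 92323, 19),
  (154921, 6, 147503, 12),
  (154923, 7, 231574, 22),
  (154925, 7, 143732, 24),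
  (154927, 6, 12513, 26),
  (154961, 6, 15725, 14),
  (154963, 6, 162171, 13),
  (154965, 6, 252310, 25),
  (154967, 6, 252318, 25),
  (154969, 6, 159099, 13),
  (154971, 5, 191595, 6),
  (154973, 5, 163213, 19),
  (154975, 6, 121246, 25),
  (154993, 6, 119959, 20),
  (154995, 6, 205035, 26),
  (154997, 6, 162883, 2),
  (154999, 6, 186782, 25),
  (155001, 6, 109939, 22),
  (155003, 5, 193821, 15),
  (155005, 6, 194843, 15),
  (155007, 6, 161867, 2),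
  (155025, 6, 77113, 3),
  (155027, 6, 125214, 24),
  (155029, 6, 125230, 24),
  (155031, 5, 220389, 23),
  (155033, 6, 26015, 8),
  (155035, 6, 24991, 8),
  (155037, 5, 196927, 7),
  (155039, 6, 218175, 17),
  (155057, 6, 47359, 19),
  (155059, 6, 256030, 24),
  (155061, 6, 155823, 4),
  (155063, 6, 256062, 24),
  (155065, 6, 97553, 3),
  (155067, 6, 161181, 15),
  (155069, 6, 206331, 25),
  (155071, 6, 96687, 16),
  (155073, 6, 194990, 22),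
  (155075, 6, 195054, 22),
  (155077, 6, 175589, 19),
  (155079, 5, 51341, 43),
  (155081, 5, 192942, 22),
  (155083, 6, 193006, 22),
  (155085, 6, 121237, 21),
  (155087, 6, 252323, 5),
  (155105, 6, 249325, 11),
  (155107, 5, 77867, 42),
  (155109, 5, 197659, 38),
  (155111, 6, 121255, 16),
  (155113, 6, 219350, 22),
  (155115, 6, 252054, 22),
  (155117, 6, 220235, 2),
  (155119, 6, 186518, 22),
  (155649, 3, 4097, 43),
  (155650, 6, 155938, 2),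
  (155652, 4, 205202, 44),
  (155655, 4, 246214, 21),
  (155656, 3, 15, 23),
  (155659, 6, 19681, 21),
  (155661, 6, 131141, 42),
  (155662, 2, 131332, 40),
  (155665, 3, 305, 2),
  (155666, 6, 155938, 10),
  (155668, 5, 34825, 23),
  (155671, 6, 231817, 23),
  (155672, 5, 2059, 23),
  (155675, 5, 184738, 25),
  (155677, 6, 205017, 26),
  (155678, 6, 157742, 4),
  (155681, 4, 155953, 16),
  (155682, 6, 155938, 15),
  (155684, 4, 6221, 23),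
  (155687, 7, 94322, 25),
  (155688, 4, 7183, 23),
  (155691, 5, 203791, 23),
  (155693, 6, 4278, 19),
  (155694, 4, 209234, 25),
  (155697, 3, 305, 6),
  (155698, 6, 139298, 4),
  (155700, 4, 4173, 23),
  (155703, 5, 311, 6),
  (155704, 4, 5135, 23),
  (155707, 5, 250146, 25),
  (155709, 6, 204823, 22),
  (155710, 5, 43094, 44),
  (155715, 5, 2337, 40),
  (155717, 4, 12694, 19),
  (155718, 2, 65538, 37),
  (155721, 5, 8265, 39),
  (155722, 3, 131076, 42),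
  (155724, 3, 16420, 40),
  (155727, 6, 8271, 39),
  (155731, 6, 1393, 2),
  (155733, 5, 57526, 25),
  (155734, 5, 65714, 37),
  (155737, 5, 377, 2),
  (155738, 4, 53396, 20),
  (155740, 5, 131474, 42),
  (155743, 6, 3453, 2),
  (155747, 6, 189507, 7),
  (155749, 6, 186698, 21),
  (155750, 5, 45060, 40),
  (155753, 7, 4532, 19),
  (155754, 5, 8370, 39),
  (155756, 5, 188764, 5),
  (155759, 6, 37055, 20),
  (155763, 6, 147795, 14),
  (155765, 4, 122934, 25),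
  (155766, 4, 200742, 21),
  (155769, 6, 4540, 19),
  (155770, 5, 8578, 39),
  (155772, 6, 160084, 4),
  (155775, 6, 37239, 6),
  (155779, 4, 123078, 21),
  (155781, 4, 12502, 19),
  (155782, 6, 196918, 3),
  (155785, 6, 82095, 23),
  (155786, 4, 68050, 24),
  (155788, 7, 68066, 24),
  (155791, 6, 246191, 23),
  (155795, 6, 16447, 38),
  (155797, 6, 2474, 24),
  (155798, 5, 8342, 39),
  (155801, 4, 12540, 19),
  (155802, 5, 184340, 20),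
  (155804, 5, 131428, 42),
  (155807, 6, 212019, 7),
  (155811, 6, 213267, 3),
  (155813, 6, 4345, 43),
  (155814, 6, 103577, 25),
  (155817, 6, 4340, 19),
  (155818, 5, 106504, 43),
  (155820, 5, 2198, 40),
  (155823, 5, 4201, 43),
  (155827, 5, 32947, 41),
  (155829, 4, 86093, 23),
  (155830, 5, 33042, 41),
  (155833, 6, 33171, 41),
  (155834, 5, 16708, 38),
  (155836, 5, 16652, 38),
  (155839, 6, 32899, 41),
  (155841, 6, 11605, 26),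
  (155842, 6, 67987, 24),
  (155844, 5, 32926, 41),
  (155847, 6, 28029, 26),
  (155848, 6, 74104, 2),
  (155851, 6, 185809, 8),
  (155853, 5, 8613, 39),
  (155854, 6, 192702, 12),
  (155857, 5, 33141, 41),
  (155858, 4, 184452, 20),
  (155860, 5, 131372, 42),
  (155863, 5, 240755, 7),
  (155864, 5, 143364, 40),
  (155867, 5, 131365, 42),
  (155869, 6, 4123, 43),
  (155870, 6, 184510, 12),
  (155873, 5, 16621, 38),
  (155874, 5, 2342, 40),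
  (155876, 4, 131356, 42),
  (155879, 5, 4297, 43),
  (155880, 6, 254456, 19),
  (155883, 5, 32857, 41),
  (155885, 5, 33097, 41),
  (155886, 6, 253960, 43),
  (155889, 6, 8239, 39),
  (155890, 4, 69686, 21),
  (155892, 4, 135222, 21),
  (155895, 5, 16645, 38),
  (155896, 5, 172372, 40),
  (155899, 5, 242873, 5),
  (155901, 6, 240797, 26),
  (155902, 6, 249005, 26),
  (155905, 3, 305, 3),
  (155906, 6, 139298, 1),
  (155908, 4, 36869, 23),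
  (155911, 5, 33117, 41),
  (155912, 4, 4103, 23),
  (155915, 6, 201095, 23),
  (155917, 4, 184452, 24),
  (155918, 5, 16562, 38),
  (155921, 3, 305, 14),
  (155922, 5, 4518, 43),
  (155924, 4, 38913, 23),
  (155927, 7, 225284, 24),
  (155928, 5, 6147, 23),
  (155931, 6, 53334, 20),
  (155933, 6, 249860, 24),
  (155934, 5, 22814, 7),
  (155937, 3, 305, 1),
  (155938, 5, 16782, 38),
  (155940, 4, 2125, 23),
  (155943, 6, 160073, 26),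
  (155944, 5, 3087, 23),
  (155947, 6, 180426, 25),
  (155949, 4, 69686, 19),
  (155950, 6, 30994, 14),
  (155953, 3, 32833, 41),
  (155954, 6, 155938, 11),
  (155956, 3, 77, 23),
  (155959, 5, 65737, 37),
  (155960, 4, 90114, 44),
  (155963, 4, 241924, 24),
  (155965, 6, 16429, 38),
  (155966, 3, 131076, 40),
  (155971, 6, 188739, 26),
  (155973, 6, 125126, 25),
  (155974, 5, 57670, 15),
  (155977, 6, 157987, 22),
  (155978, 5, 8594, 39),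
  (155980, 6, 41340, 5),
  (155983, 6, 256206, 25),
  (155987, 5, 371, 14),
  (155989, 5, 112785, 23),
  (155990, 5, 65810, 37),
  (155993, 6, 148503, 22),
  (155994, 5, 8354, 39),
  (155996, 5, 207046, 25),
  (155999, 6, 3563, 21),
  (156003, 6, 157025, 22),
  (156005, 6, 75853, 23),
  (156006, 5, 65586, 37),
  (156009, 5, 32939, 41),
  (156010, 6, 27745, 22),
  (156012, 5, 131218, 42),
  (156015, 6, 190670, 25),
  (156019, 5, 1171, 44),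
  (156021, 6, 139621, 13),
  (156022, 3, 16420, 38),
  (156025, 5, 53466, 20),
  (156026, 2, 131332, 42),
  (156028, 2, 65538, 44),
  (156031, 6, 16495, 38),
  (156035, 6, 77909, 19),
  (156037, 7, 188774, 21),
  (156038, 6, 16744, 38),
  (156041, 4, 168050, 20),
  (156042, 4, 168052, 20),
  (156044, 5, 77938, 19),
  (156047, 6, 2373, 40),
  (156051, 5, 8523, 39),
  (156053, 6, 2478, 24),
  (156054, 6, 186657, 23),
  (156057, 6, 136215, 22),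
  (156058, 4, 65578, 37),
  (156060, 5, 2194, 40),
  (156063, 5, 32905, 41),
  (156067, 4, 198814, 24),
  (156069, 4, 190818, 21),
  (156070, 5, 33044, 41),
  (156073, 6, 146697, 22),
  (156074, 5, 65802, 37),
  (156076, 4, 198886, 24),
  (156079, 6, 150943, 15),
  (156083, 6, 168019, 22),
  (156085, 6, 81997, 23),
  (156086, 6, 196790, 6),
  (156089, 4, 184410, 20),
  (156090, 5, 4318, 43),
  (156092, 6, 184409, 20),
  (156095, 5, 2383, 40),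
  (156097, 4, 78164, 19),
  (156098, 5, 180228, 40),
  (156100, 5, 4396, 43),
  (156103, 5, 16677, 38),
  (156104, 5, 65686, 37),
  (156107, 6, 218481, 13),
  (156109, 6, 206973, 2),
  (156110, 5, 63978, 2),
  (156113, 6, 90593, 1),
  (156114, 5, 75926, 44),
  (156116, 5, 180584, 43),
  (156119, 5, 4289, 43),
  (156120, 6, 21527, 22),
  (156123, 5, 65633, 37),
  (156125, 5, 4177, 43),
  (156126, 6, 254456, 43),
  (156129, 6, 198799, 24),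
  (156130, 5, 151852, 40),
  (156132, 4, 162090, 21),
  (156135, 6, 191667, 4),
  (156136, 6, 131176, 42),
  (156139, 5, 4355, 43),
  (156141, 6, 2089, 40),
  (156142, 5, 127334, 15),
  (156145, 5, 184522, 20),
  (156146, 6, 69977, 19),
  (156148, 4, 69978, 19),
  (156151, 6, 189653, 10),
  (156152, 6, 74216, 1),
  (156155, 6, 184407, 22),
  (156157, 6, 91215, 23),
  (156158, 6, 113062, 10),
  (156677, 7, 28922, 25),
  (156679, 6, 38951, 20),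
  (156681, 5, 169999, 42),
  (156683, 5, 38966, 20),
  (156693, 5, 158775, 5),
  (156695, 6, 155737, 26),
  (156697, 6, 184746, 25),
  (156699, 6, 147739, 16),
  (156709, 6, 38955, 20),
  (156711, 6, 155959, 16),
  (156713, 6, 38970, 20),
  (156715, 4, 110924, 24),
  (156725, 5, 127034, 25),
  (156727, 6, 237587, 22),
  (156729, 6, 29979, 10),
  (156731, 6, 5427, 6),
  (156737, 6, 24899, 12),
  (156739, 6, 16622, 25),
  (156749, 5, 206881, 40),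
  (156751, 6, 39095, 20),
  (156753, 6, 156755, 22),
  (156755, 5, 371, 2),
  (156765, 6, 192958, 25),
  (156767, 6, 188862, 25),
  (156769, 6, 24931, 12),
  (156771, 6, 207001, 24),
  (156781, 6, 194627, 7),
  (156783, 6, 85485, 21),
  (156785, 6, 211349, 19),
  (156787, 6, 23763, 38),
  (156797, 6, 194643, 7),
  (156799, 6, 191501, 15),
  (156801, 4, 82349, 23),
  (156803, 6, 213043, 13),
  (156813, 6, 218167, 13),
  (156815, 6, 245935, 23),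
  (156817, 6, 84393, 23),
  (156819, 6, 100377, 19),
  (156829, 5, 163207, 8),
  (156831, 6, 212017, 7),
  (156833, 6, 170026, 20),
  (156835, 6, 124994, 21),
  (156845, 5, 170325, 42),
  (156847, 6, 207098, 24),
  (156849, 5, 98486, 21),
  (156851, 4, 141466, 24),
  (156861, 6, 77113, 17),
  (156863, 6, 186399, 20),
  (156869, 6, 77175, 2),
  (156871, 6, 60817, 4),
  (156873, 6, 218227, 13),
  (156875, 6, 170166, 20),
  (156885, 5, 235702, 21),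
  (156887, 6, 170166, 21),
  (156889, 6, 10699, 24),
  (156891, 6, 93435, 21),
  (156901, 6, 195018, 21),
  (156903, 6, 249075, 11),
  (156905, 6, 170170, 20),
  (156907, 5, 97551, 23),
  (156917, 6, 233654, 21),
  (156919, 6, 240649, 19),
  (156921, 6, 194019, 8),
  (156923, 6, 186526, 20),
  (156933, 5, 127170, 25),
  (156935, 6, 238019, 22),
  (156937, 6, 39026, 20),
  (156939, 5, 168084, 24),
  (156949, 4, 247942, 21),
  (156951, 6, 45417, 26),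
  (156953, 6, 68707, 21),
  (156955, 6, 5427, 14),
  (156965, 7, 160148, 24),
  (156967, 5, 248162, 21),
  (156969, 6, 39034, 20),
  (156971, 4, 168340, 24),
  (156981, 6, 196941, 23),
  (156983, 6, 217364, 24),
  (156985, 5, 207269, 40),
  (156987, 7, 151754, 25),
  (156993, 6, 155715, 12),
  (156995, 6, 189555, 6),
  (157005, 6, 161863, 12),
  (157007, 6, 191531, 17),
  (157009, 6, 24931, 1),
  (157011, 6, 181267, 22),
  (157021, 6, 227526, 25),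
  (157023, 6, 194879, 5),
  (157025, 5, 371, 1),
  (157027, 6, 1393, 1),
  (157037, 5, 193615, 10),
  (157039, 6, 178479, 5),
  (157041, 5, 170311, 42),
  (157043, 7, 180243, 22),
  (157053, 6, 186427, 4),
  (157055, 6, 245783, 22),
  (157057, 6, 46129, 39),
  (157059, 7, 76190, 24),
  (157069, 5, 122995, 41),
  (157071, 6, 220571, 11),
  (157073, 6, 186434, 20),
  (157075, 6, 186438, 20),
  (157085, 6, 186451, 20),
  (157087, 6, 82335, 16),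
  (157089, 6, 155827, 4),
  (157091, 5, 125026, 21),
  (157101, 6, 212399, 5),
  (157103, 6, 211305, 26),
  (157105, 6, 47317, 19),
  (157107, 6, 103651, 25),
  (157117, 6, 77175, 21),
  (157119, 6, 186463, 20),
  (157125, 5, 249297, 11),
  (157127, 5, 101523, 37),
  (157129, 6, 194859, 22),
  (157131, 5, 122963, 41),
  (157141, 5, 170013, 42),
  (157143, 5, 170065, 42),
  (157145, 5, 170073, 42),
  (157147, 6, 77051, 21),
  (157157, 6, 195050, 21),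
  (157159, 6, 196983, 13),
  (157161, 6, 193739, 10),
  (157163, 6, 193721, 4),
  (157173, 6, 240689, 17),
  (157175, 6, 191877, 15),
  (157177, 6, 74219, 1),
  (157179, 7, 76131, 26),
  (157699, 6, 209212, 24),
  (157703, 4, 28898, 25),
  (157705, 5, 92334, 19),
  (157706, 5, 196626, 44),
  (157709, 6, 156130, 25),
  (157710, 5, 8578, 44),
  (157715, 5, 53426, 25),
  (157719, 5, 100646, 21),
  (157721, 5, 161805, 11),
  (157722, 4, 168338, 25),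
  (157725, 4, 83994, 19),
  (157726, 6, 24894, 17),
  (157731, 6, 159025, 16),
  (157735, 6, 52297, 20),
  (157737, 5, 102764, 24),
  (157738, 6, 24894, 13),
  (157741, 6, 150885, 21),
  (157742, 5, 174182, 38),
  (157747, 6, 5277, 19),
  (157751, 6, 192569, 26),
  (157753, 6, 241809, 26),
  (157754, 6, 106996, 24),
  (157757, 6, 254242, 25),
  (157758, 6, 250025, 26),
  (157761, 5, 157873, 40),
  (157762, 5, 12380, 39),
  (157765, 6, 13657, 26),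
  (157766, 5, 131218, 44),
  (157771, 6, 152054, 25),
  (157775, 6, 130121, 20),
  (157777, 6, 182545, 16),
  (157778, 6, 133494, 14),
  (157781, 6, 39206, 21),
  (157782, 5, 71974, 21),
  (157787, 6, 194639, 11),
  (157791, 6, 178479, 3),
  (157793, 6, 24933, 12),
  (157794, 3, 155718, 16),
  (157797, 5, 112717, 23),
  (157798, 6, 5523, 19),
  (157803, 5, 128433, 26),
  (157807, 6, 193607, 7),
  (157809, 6, 52445, 38),
  (157810, 6, 35186, 6),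
  (157813, 6, 59733, 10),
  (157814, 5, 157722, 40),
  (157819, 6, 39283, 6),
  (157823, 6, 242767, 23),
  (157825, 5, 57670, 21),
  (157826, 6, 24982, 13),
  (157829, 4, 84394, 24),
  (157830, 6, 213142, 11),
  (157835, 6, 220209, 13),
  (157839, 6, 77113, 2),
  (157841, 6, 18826, 24),
  (157842, 6, 111827, 22),
  (157845, 6, 185705, 20),
  (157846, 6, 196790, 8),
  (157851, 6, 248299, 23),
  (157855, 6, 163201, 8),
  (157857, 5, 245833, 41),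
  (157858, 6, 5337, 22),
  (157861, 6, 120909, 23),
  (157862, 6, 5331, 19),
  (157867, 6, 215258, 24),
  (157871, 5, 5367, 19),
  (157873, 4, 164150, 21),
  (157874, 6, 6501, 20),
  (157877, 5, 47213, 39),
  (157878, 6, 74038, 17),
  (157883, 5, 5373, 19),
  (157887, 5, 205849, 44),
  (157891, 7, 32117, 26),
  (157895, 6, 93635, 12),
  (157897, 5, 74109, 2),
  (157898, 6, 194746, 12),
  (157901, 6, 81373, 26),
  (157902, 6, 129526, 6),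
  (157907, 6, 240759, 7),
  (157911, 5, 169313, 42),
  (157913, 6, 125179, 23),
  (157914, 5, 220389, 26),
  (157917, 6, 159099, 21),
  (157918, 6, 186558, 12),
  (157923, 6, 260109, 23),
  (157927, 5, 47385, 39),
  (157929, 6, 90461, 2),
  (157930, 6, 178362, 12),
  (157933, 6, 220473, 22),
  (157934, 6, 215283, 24),
  (157939, 7, 113897, 25),
  (157943, 6, 206311, 1),
  (157945, 6, 260598, 19),
  (157946, 5, 41182, 37),
  (157949, 5, 195041, 8),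
  (157950, 5, 193615, 23),
  (157955, 7, 159908, 24),
  (157959, 6, 73193, 37),
  (157961, 6, 102599, 23),
  (157962, 6, 157742, 17),
  (157965, 6, 207107, 22),
  (157966, 5, 229594, 25),
  (157971, 6, 57673, 26),
  (157975, 5, 311, 14),
  (157977, 6, 197783, 22),
  (157978, 6, 205018, 25),
  (157981, 6, 213202, 25),
  (157982, 6, 159750, 5),
  (157987, 5, 158775, 4),
  (157991, 6, 206145, 22),
  (157993, 6, 205129, 26),
  (157994, 6, 159750, 1),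
  (157997, 5, 161805, 10),
  (157998, 5, 22814, 3),
  (158003, 6, 229587, 22),
  (158007, 6, 16602, 25),
  (158009, 4, 250148, 24),
  (158010, 5, 8594, 44),
  (158013, 6, 233764, 24),
  (158014, 5, 40972, 39),
  (158017, 4, 141710, 19),
  (158018, 6, 24803, 22),
  (158021, 6, 35125, 3),
  (158022, 6, 184643, 26),
  (158027, 5, 193837, 5),
  (158031, 6, 162883, 12),
  (158033, 6, 186630, 21),
  (158034, 6, 16726, 7),
  (158037, 6, 24933, 1),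
  (158038, 3, 155718, 5),
  (158043, 5, 6519, 14),
  (158047, 6, 134635, 21),
  (158049, 6, 55658, 21),
  (158050, 6, 43230, 25),
  (158053, 6, 182545, 15),
  (158054, 6, 174390, 12),
  (158059, 6, 159201, 22),
  (158063, 6, 70967, 19),
  (158065, 5, 26838, 25),
  (158066, 5, 131474, 44),
  (158069, 6, 83049, 20),
  (158070, 5, 74130, 44),
  (158075, 5, 157829, 40),
  (158079, 7, 180439, 22),
  (158081, 6, 50475, 20),
  (158082, 6, 155798, 13),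
  (158085, 6, 86245, 23),
  (158086, 6, 24998, 2),
  (158091, 6, 212263, 7),
  (158095, 6, 220469, 13),
  (158097, 6, 43337, 26),
  (158098, 6, 51529, 26),
  (158101, 6, 205109, 7),
  (158102, 6, 111707, 25),
  (158107, 6, 18910, 24),
  (158111, 6, 111995, 25),
  (158113, 6, 205221, 5),
  (158114, 6, 196918, 4),
  (158117, 5, 215214, 24),
  (158118, 6, 24982, 14),
  (158123, 6, 204081, 13),
  (158127, 6, 248911, 23),
  (158129, 6, 10569, 26),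
  (158130, 6, 74150, 10),
  (158133, 6, 148841, 20),
  (158134, 6, 111835, 25),
  (158139, 6, 112107, 25),
  (158143, 6, 204863, 17),
  (158147, 6, 191639, 4),
  (158151, 6, 194883, 26),
  (158153, 6, 127223, 23),
  (158154, 6, 192887, 23),
  (158157, 6, 246083, 41),
  (158158, 6, 211306, 16),
  (158163, 6, 118161, 16),
  (158167, 5, 47369, 39),
  (158169, 6, 195046, 19),
  (158170, 5, 252146, 6),
  (158173, 6, 109939, 25),
  (158174, 6, 88538, 7),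
  (158179, 6, 122279, 20),
  (158183, 5, 25047, 14),
  (158185, 6, 190974, 19),
  (158186, 5, 47234, 39),
  (158189, 5, 126031, 23),
  (158190, 5, 47310, 39),
  (158195, 6, 250134, 21),
  (158199, 5, 241073, 5),
  (158201, 6, 112051, 20),
  (158202, 5, 180478, 13),
  (158205, 5, 74221, 1),
  (158206, 6, 239978, 4),
  (158721, 5, 102401, 37),
  (158723, 6, 16634, 25),
  (158725, 6, 229651, 22),
  (158727, 5, 102473, 37),
  (158737, 5, 53665, 38),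
  (158739, 5, 311, 2),
  (158741, 6, 143481, 26),
  (158743, 6, 54381, 20),
  (158753, 4, 86138, 25),
  (158755, 6, 165329, 22),
  (158757, 4, 182466, 21),
  (158759, 6, 90218, 25),
  (158769, 5, 229798, 21),
  (158771, 5, 192529, 26),
  (158773, 6, 86428, 24),
  (158775, 4, 172317, 41),
  (158793, 6, 178279, 7),
  (158795, 5, 102465, 37),
  (158797, 5, 102409, 37),
  (158799, 6, 156142, 25),
  (158809, 6, 216171, 21),
  (158811, 6, 239835, 23),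
  (158813, 5, 192942, 25),
  (158815, 5, 193615, 11),
  (158825, 6, 95479, 20),
  (158827, 6, 128401, 26),
  (158829, 6, 126029, 20),
  (158831, 6, 216557, 21),
  (158841, 6, 242865, 26),
  (158843, 6, 246078, 25),
  (158845, 5, 242873, 26),
  (158847, 6, 254254, 25),
  (158857, 6, 92618, 24),
  (158859, 6, 95621, 12),
  (158861, 6, 107833, 25),
  (158863, 6, 204095, 3),
  (158873, 6, 27082, 24),
  (158875, 6, 228495, 11),
  (158877, 6, 212269, 3),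
  (158879, 5, 83027, 44),
  (158889, 6, 223434, 24),
  (158891, 6, 90399, 2),
  (158893, 6, 126205, 19),
  (158895, 5, 102565, 37),
  (158905, 5, 251151, 23),
  (158907, 6, 125963, 19),
  (158909, 6, 32159, 10),
  (158911, 6, 157946, 24),
  (158913, 6, 90567, 12),
  (158915, 6, 127310, 21),
  (158917, 6, 250171, 22),
  (158919, 6, 235547, 19),
  (158929, 5, 249235, 16),
  (158931, 6, 257223, 11),
  (158933, 5, 11475, 39),
  (158935, 6, 162909, 26),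
  (158945, 6, 249105, 3),
  (158947, 6, 129293, 23),
  (158949, 5, 84359, 40),
  (158951, 6, 247031, 11),
  (158961, 7, 172339, 41),
  (158963, 5, 53571, 38),
  (158965, 6, 60887, 10),
  (158967, 6, 247149, 20),
  (158977, 4, 10383, 19),
  (158979, 6, 172393, 26),
  (158981, 6, 143540, 24),
  (158983, 5, 158775, 6),
  (158993, 6, 225332, 24),
  (158995, 5, 158775, 17),
  (158997, 4, 86226, 25),
  (158999, 6, 165011, 22),
  (159009, 6, 156009, 26),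
  (159011, 6, 151988, 24),
  (159013, 5, 311, 1),
  (159015, 4, 135604, 24),
  (159025, 5, 102529, 37),
  (159027, 4, 28890, 25),
  (159029, 6, 115078, 21),
  (159031, 4, 49542, 21),
  (159049, 7, 158127, 19),
  (159051, 6, 178283, 10),
  (159053, 6, 252118, 25),
  (159055, 6, 95309, 20),
  (159065, 6, 199787, 21),
  (159067, 5, 243923, 23),
  (159069, 6, 219350, 25),
  (159071, 6, 51487, 16),
  (159081, 6, 128183, 20),
  (159083, 6, 3453, 1),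
  (159085, 5, 143445, 43),
  (159087, 6, 194639, 10),
  (159097, 5, 134473, 42),
  (159099, 5, 102593, 37),
  (159101, 5, 102537, 37),
  (159103, 6, 157949, 24),
  (159113, 5, 83131, 44),
  (159115, 6, 220575, 11),
  (159117, 6, 92654, 24),
  (159119, 5, 53539, 38),
  (159129, 6, 121315, 23),
  (159131, 5, 27102, 24),
  (159133, 5, 83237, 44),
  (159135, 6, 161133, 20),
  (159145, 6, 223438, 24),
  (159147, 6, 118031, 23),
  (159149, 6, 223470, 24),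
  (159151, 6, 228513, 12),
  (159161, 6, 203953, 6),
  (159163, 6, 203955, 6),
  (159165, 6, 212263, 13),
  (159167, 5, 97551, 3),
  (159169, 6, 126355, 16),
  (159171, 6, 249303, 11),
  (159173, 6, 192750, 21),
  (159175, 6, 247255, 11),
  (159185, 5, 102507, 37),
  (159187, 6, 186774, 21),
  (159189, 5, 102501, 37),
  (159191, 6, 175521, 15),
  (159201, 5, 143763, 43),
  (159203, 6, 129386, 21),
  (159205, 6, 216397, 20),
  (159207, 6, 189621, 4),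
  (159217, 6, 191699, 10),
  (159219, 5, 240695, 17),
  (159221, 6, 157871, 24),
  (159223, 6, 191873, 15),
  (159747, 6, 114887, 21),
  (159749, 6, 28822, 19),
  (159750, 5, 82180, 40),
  (159755, 4, 151778, 25),
  (159757, 5, 28854, 19),
  (159758, 5, 8354, 44),
  (159763, 6, 29979, 12),
  (159765, 6, 57778, 25),
  (159766, 6, 147689, 26),
  (159771, 6, 138707, 42),
  (159773, 6, 207895, 22),
  (159774, 5, 22814, 13),
  (159779, 6, 147739, 3),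
  (159781, 6, 90482, 25),
  (159782, 6, 90484, 24),
  (159787, 6, 45118, 20),
  (159789, 6, 221298, 25),
  (159790, 6, 114985, 26),
  (159795, 6, 61454, 20),
  (159797, 4, 86508, 24),
  (159798, 6, 4414, 6),
  (159803, 6, 147739, 14),
  (159805, 5, 161805, 15),
  (159806, 4, 155966, 15),
  (159809, 6, 16870, 25),
  (159810, 5, 73762, 44),
  (159812, 5, 24706, 44),
  (159815, 7, 250319, 21),
  (159817, 6, 75089, 26),
  (159818, 5, 43094, 39),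
  (159820, 5, 65586, 44),
  (159823, 5, 193821, 16),
  (159825, 6, 158739, 22),
  (159826, 5, 190754, 39),
  (159828, 6, 172332, 3),
  (159831, 6, 241049, 23),
  (159833, 6, 38951, 21),
  (159834, 6, 192882, 2),
  (159836, 5, 188764, 15),
  (159839, 6, 194627, 11),
  (159841, 6, 82278, 25),
  (159842, 3, 156026, 7),
  (159844, 6, 37172, 7),
  (159847, 6, 94582, 25),
  (159849, 6, 213094, 25),
  (159850, 6, 16762, 5),
  (159852, 6, 204886, 25),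
  (159855, 6, 193853, 16),
  (159857, 4, 61578, 20),
  (159858, 4, 61580, 20),
  (159860, 6, 192892, 15),
  (159863, 6, 127286, 25),
  (159865, 4, 245798, 25),
  (159866, 6, 69671, 21),
  (159868, 5, 237590, 25),
  (159871, 6, 195599, 15),
  (159873, 6, 28884, 19),
  (159874, 6, 213146, 11),
  (159876, 6, 155911, 21),
  (159879, 5, 196927, 3),
  (159881, 6, 230689, 25),
  (159882, 6, 68663, 21),
  (159884, 4, 100834, 24),
  (159887, 6, 201183, 22),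
  (159889, 5, 91203, 44),
  (159890, 5, 71766, 39),
  (159892, 4, 28890, 19),
  (159895, 5, 163213, 8),
  (159897, 4, 192530, 20),
  (159898, 7, 67639, 21),
  (159900, 5, 192529, 20),
  (159903, 6, 35322, 24),
  (159905, 6, 204969, 5),
  (159906, 6, 213178, 11),
  (159908, 6, 213276, 3),
  (159911, 6, 234681, 25),
  (159913, 7, 176186, 20),
  (159914, 5, 156058, 14),
  (159916, 5, 213180, 2),
  (159919, 6, 231674, 24),
  (159921, 6, 60481, 21),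
  (159922, 5, 93313, 21),
  (159924, 4, 20559, 23),
  (159927, 6, 192527, 20),
  (159929, 6, 20732, 19),
  (159930, 5, 166098, 24),
  (159932, 6, 131127, 21),
  (159935, 6, 218189, 23),
  (159939, 5, 242795, 7),
  (159941, 6, 129313, 17),
  (159942, 5, 252350, 10),
  (159947, 6, 176310, 20),
  (159949, 6, 232753, 25),
  (159950, 6, 243898, 8),
  (159955, 6, 195667, 22),
  (159957, 5, 44243, 39),
  (159958, 5, 191801, 23),
  (159963, 6, 192662, 20),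
  (159965, 5, 35307, 24),
  (159966, 5, 69718, 39),
  (159971, 5, 215335, 40),
  (159973, 6, 232625, 25),
  (159974, 6, 162266, 14),
  (159979, 6, 242849, 5),
  (159981, 6, 20982, 19),
  (159982, 5, 178658, 2),
  (159987, 5, 54595, 38),
  (159989, 6, 195053, 8),
  (159990, 6, 252050, 8),
  (159995, 5, 147931, 14),
  (159997, 6, 95309, 23),
  (159998, 5, 129111, 22),
  (160003, 6, 147739, 11),
  (160005, 5, 161805, 12),
  (160006, 4, 155966, 12),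
  (160011, 6, 45174, 20),
  (160013, 6, 205191, 22),
  (160014, 6, 73927, 22),
  (160019, 5, 204161, 23),
  (160021, 6, 61507, 20),
  (160022, 6, 28958, 15),
  (160027, 6, 29995, 1),
  (160029, 4, 94270, 19),
  (160030, 6, 94267, 19),
  (160035, 6, 5427, 1),
  (160037, 6, 209353, 26),
  (160038, 4, 172490, 25),
  (160043, 5, 143812, 24),
  (160045, 6, 181255, 21),
  (160046, 6, 157710, 1),
  (160051, 6, 86045, 19),
  (160053, 6, 156098, 25),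
  (160054, 5, 8370, 44),
  (160059, 5, 215093, 40),
  (160061, 5, 217412, 24),
  (160062, 5, 82098, 44),
  (160065, 6, 238019, 26),
  (160066, 6, 45284, 20),
  (160068, 5, 188764, 1),
  (160071, 6, 223719, 22),
  (160073, 5, 192529, 4),
  (160074, 5, 192602, 13),
  (160076, 6, 37172, 3),
  (160079, 6, 192971, 26),
  (160081, 6, 54381, 21),
  (160082, 6, 139642, 16),
  (160084, 5, 88482, 42),
  (160087, 5, 6523, 14),
  (160089, 5, 377, 14),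
  (160090, 4, 155722, 5),
  (160092, 6, 192892, 14),
  (160095, 5, 248919, 22),
  (160097, 6, 44335, 39),
  (160098, 6, 27749, 22),
  (160100, 4, 174534, 25),
  (160103, 6, 7539, 1),
  (160105, 7, 86324, 19),
  (160106, 6, 147907, 26),
  (160108, 6, 61788, 5),
  (160111, 5, 191819, 7),
  (160113, 5, 149958, 25),
  (160114, 5, 16562, 44),
  (160116, 5, 65714, 44),
  (160119, 6, 166077, 24),
  (160121, 6, 86332, 19),
  (160122, 5, 73906, 44),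
  (160124, 5, 24754, 44),
  (160127, 6, 27086, 25),
  (160129, 4, 94292, 19),
  (160130, 6, 213402, 11),
  (160132, 7, 176225, 20),
  (160135, 5, 91307, 44),
  (160137, 6, 213305, 13),
  (160138, 6, 94321, 19),
  (160140, 6, 204860, 11),
  (160143, 6, 100862, 24),
  (160145, 6, 35214, 24),
  (160146, 6, 205114, 16),
  (160148, 6, 213276, 1),
  (160151, 6, 129481, 26),
  (160153, 5, 104557, 37),
  (160154, 6, 213178, 6),
  (160156, 5, 213180, 6),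
  (160159, 6, 146863, 15),
  (160161, 6, 83983, 23),
  (160162, 6, 92323, 21),
  (160164, 6, 157987, 21),
  (160167, 6, 160019, 43),
  (160169, 6, 50199, 21),
  (160170, 4, 231638, 24),
  (160172, 6, 204988, 6),
  (160175, 6, 216141, 23),
  (160177, 5, 86108, 19),
  (160178, 6, 192588, 20),
  (160180, 6, 204860, 8),
  (160183, 5, 163207, 15),
  (160185, 5, 192602, 20),
  (160186, 4, 81943, 21),
  (160188, 4, 86138, 19),
  (160191, 5, 196799, 6),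
  (160195, 6, 128401, 16),
  (160197, 6, 128181, 23),
  (160198, 5, 104594, 37),
  (160203, 6, 160111, 22),
  (160205, 6, 194705, 4),
  (160206, 5, 260138, 17),
  (160211, 5, 215331, 40),
  (160213, 5, 35247, 24),
  (160214, 6, 129454, 10),
  (160219, 6, 94589, 19),
  (160221, 6, 94590, 19),
  (160222, 6, 174270, 1),
  (160227, 5, 128433, 16),
  (160229, 6, 243745, 17),
  (160230, 6, 43498, 2),
  (160235, 6, 193715, 4),
  (160237, 6, 244133, 5),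
  (160238, 6, 158797, 23),
  (160243, 6, 189657, 10),
  (160245, 6, 233725, 6),
  (160246, 6, 113070, 10),
  (160251, 6, 192734, 20),
  (160253, 6, 205165, 13),
  (160254, 6, 229630, 6),
  (160769, 4, 201052, 24),
  (160771, 5, 164941, 42),
  (160777, 6, 164119, 22),
  (160779, 6, 147739, 8),
  (160785, 5, 180299, 41),
  (160787, 6, 155857, 26),
  (160793, 4, 63506, 20),
  (160795, 5, 180587, 41),
  (160801, 4, 86378, 25),
  (160803, 6, 167253, 22),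
  (160809, 6, 14583, 39),
  (160811, 6, 213098, 25),
  (160817, 6, 63498, 20),
  (160819, 4, 69903, 23),
  (160825, 5, 249898, 25),
  (160827, 6, 174103, 22),
  (160837, 6, 146809, 14),
  (160839, 6, 183387, 11),
  (160845, 6, 174187, 7),
  (160847, 6, 246263, 22),
  (160853, 6, 191561, 11),
  (160855, 5, 6519, 2),
  (160861, 6, 192702, 25),
  (160863, 6, 188606, 25),
  (160869, 6, 193847, 16),
  (160871, 6, 90494, 25),
  (160877, 6, 186399, 15),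
  (160879, 6, 192831, 16),
  (160885, 6, 38269, 6),
  (160887, 5, 191595, 11),
  (160893, 6, 34173, 6),
  (160895, 6, 150875, 14),
  (160901, 6, 218175, 13),
  (160903, 6, 121913, 19),
  (160909, 6, 109034, 24),
  (160911, 6, 213055, 13),
  (160917, 6, 163215, 8),
  (160919, 6, 194567, 20),
  (160925, 5, 97593, 17),
  (160927, 5, 77867, 43),
  (160933, 5, 180713, 41),
  (160935, 6, 165143, 42),
  (160941, 5, 239850, 24),
  (160943, 6, 239866, 24),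
  (160949, 6, 211363, 1),
  (160951, 6, 24991, 10),
  (160957, 6, 174314, 24),
  (160959, 6, 174330, 24),
  (160961, 6, 128289, 17),
  (160963, 6, 178342, 20),
  (160969, 6, 251089, 11),
  (160971, 5, 128299, 17),
  (160977, 6, 238889, 3),
  (160979, 6, 250259, 16),
  (160985, 6, 242977, 3),
  (160987, 6, 39095, 21),
  (160993, 6, 178346, 20),
  (160995, 6, 77945, 43),
  (161001, 6, 90603, 12),
  (161003, 6, 239835, 24),
  (161009, 5, 194698, 20),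
  (161011, 6, 193665, 15),
  (161017, 5, 242867, 5),
  (161019, 6, 194718, 20),
  (161025, 5, 250306, 25),
  (161027, 6, 174407, 22),
  (161033, 6, 29979, 16),
  (161035, 6, 5427, 3),
  (161041, 6, 63554, 20),
  (161043, 4, 233556, 24),
  (161049, 4, 86466, 25),
  (161051, 7, 200788, 24),
  (161057, 6, 51427, 21),
  (161059, 6, 168404, 24),
  (161065, 6, 199949, 23),
  (161067, 6, 50311, 21),
  (161073, 6, 63562, 20),
  (161075, 4, 152010, 25),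
  (161081, 6, 63578, 20),
  (161083, 6, 49287, 21),
  (161093, 6, 191791, 5),
  (161095, 6, 260558, 25),
  (161101, 6, 129478, 25),
  (161103, 6, 38199, 3),
  (161109, 6, 63683, 20),
  (161111, 5, 191819, 11),
  (161117, 5, 163207, 19),
  (161119, 6, 96718, 25),
  (161125, 6, 195014, 25),
  (161127, 6, 183675, 11),
  (161133, 5, 6523, 1),
  (161135, 6, 47359, 20),
  (161141, 6, 162246, 25),
  (161143, 6, 162941, 12),
  (161149, 6, 194831, 15),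
  (161151, 6, 192599, 10),
  (161157, 5, 198043, 44),
  (161159, 6, 178279, 20),
  (161165, 6, 109038, 24),
  (161167, 5, 97589, 9),
  (161173, 6, 194627, 20),
  (161175, 6, 139455, 10),
  (161181, 5, 51341, 38),
  (161183, 6, 208185, 7),
  (161189, 6, 178283, 20),
  (161191, 6, 239806, 24),
  (161197, 6, 60639, 19),
  (161199, 5, 196927, 13),
  (161205, 6, 212017, 17),
  (161207, 6, 194639, 20),
  (161213, 6, 220191, 2),
  (161215, 5, 163213, 15),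
  (161217, 6, 232491, 25),
  (161219, 6, 178406, 20),
  (161225, 6, 178418, 20),
  (161227, 6, 193681, 4),
  (161233, 6, 194754, 20),
  (161235, 5, 14661, 39),
  (161241, 6, 194770, 20),
  (161243, 6, 194774, 20),
  (161249, 5, 78227, 43),
  (161251, 6, 242939, 6),
  (161257, 5, 193837, 22),
  (161259, 6, 26075, 14),
  (161265, 6, 26879, 40),
  (161267, 6, 61931, 8),
  (161273, 6, 194778, 20),
  (161275, 6, 185521, 4),
  (161793, 6, 99329, 37),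
  (161794, 5, 205172, 24),
  (161797, 4, 66765, 23),
  (161798, 6, 30994, 13),
  (161801, 6, 147698, 25),
  (161802, 6, 28958, 13),
  (161805, 4, 75921, 40),
  (161806, 4, 143554, 25),
  (161809, 6, 208019, 22),
  (161810, 6, 37266, 25),
  (161813, 6, 84026, 19)]

theorem chk_rows2_17 : rows2_17.all (rowBP tr2 gensLitP 72) = true := by decide +kernel

/-- Rows 27000 to 28499. -/
def rows2_18 : List (ℕ × ℕ × ℕ × ℕ) := [(161814, 3, 155662, 11),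
  (161817, 4, 233900, 24),
  (161818, 6, 217185, 26),
  (161821, 6, 99571, 37),
  (161822, 6, 159750, 11),
  (161825, 5, 161805, 7),
  (161826, 3, 155662, 16),
  (161829, 4, 86348, 24),
  (161830, 6, 90452, 24),
  (161833, 6, 213106, 25),
  (161834, 6, 159750, 16),
  (161837, 7, 155661, 7),
  (161838, 5, 22814, 9),
  (161841, 6, 165937, 42),
  (161842, 6, 6261, 20),
  (161845, 6, 141459, 22),
  (161846, 5, 110850, 25),
  (161849, 4, 96406, 19),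
  (161850, 6, 21689, 19),
  (161853, 6, 241689, 26),
  (161854, 6, 147742, 14),
  (161859, 6, 239069, 23),
  (161863, 5, 22533, 38),
  (161867, 5, 165893, 42),
  (161871, 6, 184407, 11),
  (161875, 6, 241113, 23),
  (161879, 5, 99507, 37),
  (161883, 5, 99569, 37),
  (161887, 6, 121977, 20),
  (161891, 6, 243727, 23),
  (161895, 5, 148811, 44),
  (161899, 7, 21941, 19),
  (161903, 6, 248057, 24),
  (161907, 6, 122313, 21),
  (161911, 5, 57389, 41),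
  (161915, 5, 57373, 41),
  (161919, 6, 242765, 23),
  (161923, 6, 247277, 23),
  (161927, 6, 26015, 4),
  (161931, 6, 28015, 20),
  (161935, 6, 117242, 24),
  (161939, 6, 51610, 24),
  (161943, 5, 200987, 43),
  (161947, 5, 22645, 38),
  (161951, 6, 216555, 23),
  (161955, 5, 201193, 43),
  (161959, 5, 242873, 25),
  (161963, 6, 248026, 24),
  (161967, 6, 156063, 14),
  (161971, 5, 243923, 22),
  (161975, 6, 208057, 5),
  (161979, 6, 212399, 1),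
  (161983, 5, 57475, 41),
  (161985, 6, 243821, 7),
  (161986, 6, 249974, 4),
  (161989, 6, 240689, 25),
  (161990, 5, 75866, 40),
  (161993, 5, 252117, 11),
  (161994, 6, 129326, 17),
  (161997, 6, 235578, 19),
  (161998, 6, 127278, 17),
  (162001, 5, 201115, 43),
  (162002, 5, 129334, 17),
  (162005, 6, 127285, 17),
  (162006, 5, 200842, 43),
  (162009, 6, 244001, 3),
  (162010, 5, 69658, 39),
  (162013, 5, 212061, 26),
  (162014, 6, 159099, 23),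
  (162017, 6, 240801, 25),
  (162018, 6, 194575, 23),
  (162021, 5, 260138, 19),
  (162022, 5, 75798, 40),
  (162025, 6, 241057, 25),
  (162026, 5, 75910, 40),
  (162029, 5, 241073, 25),
  (162030, 6, 248051, 24),
  (162033, 5, 252337, 16),
  (162034, 6, 192527, 23),
  (162037, 5, 57491, 41),
  (162038, 5, 151596, 38),
  (162041, 5, 57507, 41),
  (162042, 5, 135460, 38),
  (162045, 6, 239658, 19),
  (162046, 5, 250014, 8),
  (162049, 4, 10414, 19),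
  (162050, 6, 95249, 19),
  (162053, 6, 242113, 26),
  (162054, 6, 147742, 11),
  (162057, 6, 26766, 19),
  (162058, 5, 155876, 24),
  (162061, 5, 13723, 39),
  (162062, 5, 190754, 44),
  (162065, 6, 199827, 22),
  (162066, 3, 205274, 25),
  (162069, 4, 233572, 24),
  (162070, 6, 4414, 14),
  (162073, 6, 90578, 25),
  (162074, 6, 157710, 5),
  (162077, 5, 162097, 5),
  (162078, 3, 155662, 5),
  (162081, 5, 99377, 37),
  (162082, 6, 4414, 10),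
  (162085, 6, 208133, 22),
  (162086, 6, 28958, 14),
  (162089, 6, 140677, 22),
  (162090, 3, 155662, 1),
  (162093, 4, 135652, 24),
  (162094, 6, 87091, 19),
  (162097, 4, 148483, 44),
  (162098, 5, 22814, 14),
  (162101, 4, 92330, 19),
  (162102, 6, 131546, 25),
  (162105, 6, 25042, 25),
  (162106, 6, 157742, 5),
  (162109, 6, 13339, 39),
  (162110, 4, 474, 25),
  (162115, 6, 158183, 22),
  (162119, 6, 21879, 1),
  (162123, 6, 243159, 23),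
  (162127, 6, 158795, 12),
  (162131, 6, 223710, 25),
  (162135, 5, 148809, 44),
  (162139, 6, 92638, 25),
  (162143, 6, 212435, 23),
  (162147, 6, 191561, 10),
  (162151, 6, 162923, 12),
  (162155, 6, 240653, 23),
  (162159, 7, 51678, 25),
  (162163, 6, 62829, 8),
  (162167, 5, 13337, 39),
  (162171, 5, 99521, 37),
  (162175, 6, 238669, 23),
  (162179, 6, 117150, 24),
  (162183, 6, 212017, 2),
  (162187, 6, 60719, 20),
  (162191, 6, 218599, 23),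
  (162195, 5, 242795, 25),
  (162199, 5, 51646, 24),
  (162203, 6, 243051, 25),
  (162207, 6, 117015, 21),
  (162211, 6, 247823, 23),
  (162215, 6, 247998, 24),
  (162219, 6, 243115, 25),
  (162223, 6, 24991, 14),
  (162227, 6, 182430, 24),
  (162231, 6, 242939, 25),
  (162235, 6, 198843, 6),
  (162239, 6, 212401, 5),
  (162241, 6, 129425, 16),
  (162242, 6, 95569, 19),
  (162245, 6, 252090, 19),
  (162246, 5, 135212, 38),
  (162249, 6, 124331, 20),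
  (162250, 5, 106514, 37),
  (162253, 6, 95479, 23),
  (162254, 6, 194778, 13),
  (162257, 6, 121233, 16),
  (162258, 6, 95661, 21),
  (162261, 5, 165917, 42),
  (162262, 5, 75794, 40),
  (162265, 6, 195014, 19),
  (162266, 5, 75906, 40),
  (162269, 5, 22721, 38),
  (162270, 6, 163187, 23),
  (162273, 6, 129457, 16),
  (162274, 6, 192758, 13),
  (162277, 6, 243965, 6),
  (162278, 5, 49444, 42),
  (162281, 6, 185623, 21),
  (162282, 5, 180548, 42),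
  (162285, 6, 243882, 19),
  (162286, 6, 194810, 13),
  (162289, 6, 211305, 13),
  (162290, 6, 111022, 10),
  (162293, 6, 211309, 13),
  (162294, 5, 254132, 42),
  (162297, 6, 10699, 26),
  (162298, 5, 106926, 10),
  (162301, 6, 53527, 21),
  (162302, 6, 244074, 4),
  (162881, 5, 133297, 40),
  (162883, 5, 133409, 40),
  (162885, 6, 29166, 25),
  (162887, 5, 40969, 39),
  (162889, 5, 41033, 39),
  (162891, 6, 194843, 16),
  (162893, 5, 133153, 40),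
  (162895, 6, 246135, 22),
  (162897, 6, 162923, 13),
  (162899, 6, 120141, 21),
  (162901, 6, 61870, 25),
  (162903, 6, 250957, 21),
  (162905, 6, 184510, 25),
  (162907, 6, 59865, 24),
  (162909, 5, 191819, 8),
  (162911, 5, 6523, 2),
  (162913, 6, 194639, 7),
  (162915, 6, 228395, 19),
  (162917, 6, 32083, 2),
  (162919, 6, 90478, 25),
  (162921, 6, 111921, 26),
  (162923, 5, 41139, 39),
  (162925, 6, 183675, 8),
  (162927, 6, 38311, 21),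
  (162929, 6, 177329, 26),
  (162931, 6, 193681, 26),
  (162933, 6, 127278, 25),
  (162935, 6, 253001, 21),
  (162937, 6, 36217, 6),
  (162939, 6, 193549, 15),
  (162941, 5, 17617, 38),
  (162943, 6, 37287, 21),
  (162945, 6, 135345, 42),
  (162947, 6, 216223, 11),
  (162949, 6, 24991, 4),
  (162951, 6, 31197, 26),
  (162953, 6, 204081, 3),
  (162955, 6, 242977, 25),
  (162957, 6, 125418, 24),
  (162959, 6, 242993, 25),
  (162961, 5, 97589, 17),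
  (162963, 6, 59802, 24),
  (162965, 5, 135531, 42),
  (162967, 6, 193917, 20),
  (162969, 6, 212183, 22),
  (162971, 6, 97599, 17),
  (162973, 6, 220575, 16),
  (162975, 6, 212263, 3),
  (162977, 5, 98377, 41),
  (162979, 6, 242849, 25),
  (162981, 5, 98793, 41),
  (162983, 5, 133287, 40),
  (162985, 6, 90543, 12),
  (162987, 6, 32099, 20),
  (162989, 6, 183645, 20),
  (162991, 5, 98505, 41),
  (162993, 5, 67601, 37),
  (162995, 6, 7539, 20),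
  (162997, 6, 178365, 26),
  (162999, 6, 189821, 20),
  (163001, 6, 239081, 25),
  (163003, 6, 190682, 24),
  (163005, 6, 190698, 24),
  (163007, 5, 98435, 41),
  (163137, 6, 125325, 24),
  (163139, 6, 242901, 23),
  (163141, 6, 161867, 12),
  (163143, 6, 36159, 3),
  (163145, 6, 129494, 25),
  (163147, 5, 98397, 41),
  (163149, 5, 121302, 25),
  (163151, 6, 178279, 10),
  (163153, 6, 189759, 5),
  (163155, 6, 106987, 26),
  (163157, 6, 219606, 25),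
  (163159, 6, 111075, 26),
  (163161, 5, 133465, 40),
  (163163, 6, 96734, 25),
  (163165, 6, 88534, 25),
  (163167, 6, 17759, 38),
  (163169, 5, 6519, 1),
  (163171, 5, 20597, 43),
  (163173, 6, 186838, 25),
  (163175, 6, 186846, 25),
  (163177, 6, 63958, 25),
  (163179, 6, 194627, 10),
  (163181, 6, 120199, 21),
  (163183, 6, 55774, 25),
  (163185, 5, 9635, 44),
  (163187, 5, 135435, 42),
  (163189, 6, 154070, 25),
  (163191, 5, 98401, 41),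
  (163193, 5, 41049, 39),
  (163195, 6, 194643, 10),
  (163197, 5, 133157, 40),
  (163199, 6, 190717, 24),
  (163201, 5, 20493, 43),
  (163203, 6, 212269, 7),
  (163205, 6, 125358, 24),
  (163207, 4, 17769, 38),
  (163209, 6, 125390, 24),
  (163211, 6, 174569, 26),
  (163213, 4, 98419, 41),
  (163215, 5, 17699, 38),
  (163217, 5, 67617, 37),
  (163219, 6, 59806, 24),
  (163221, 6, 163197, 20),
  (163223, 5, 133283, 40),
  (163225, 6, 203991, 22),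
  (163227, 6, 145587, 10),
  (163229, 5, 135253, 42),
  (163231, 5, 67621, 37),
  (163233, 6, 157887, 4),
  (163235, 6, 32159, 14),
  (163237, 6, 204095, 13),
  (163239, 5, 242867, 25),
  (163241, 5, 41159, 39),
  (163243, 6, 64803, 20),
  (163245, 6, 116119, 21),
  (163247, 6, 211363, 5),
  (163249, 4, 68017, 37),
  (163251, 5, 126123, 19),
  (163253, 6, 159101, 20),
  (163255, 6, 163201, 15),
  (163257, 6, 190670, 24),
  (163259, 6, 190686, 24),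
  (163261, 6, 137431, 22),
  (163263, 6, 190718, 24),
  (163843, 6, 22562, 25),
  (163845, 4, 197040, 22),
  (163846, 5, 188790, 42),
  (163849, 5, 36941, 24),
  (163850, 4, 131233, 19),
  (163852, 6, 135244, 1),
  (163855, 6, 36109, 2),
  (163857, 4, 24833, 22),
  (163858, 4, 38978, 25),
  (163860, 4, 24705, 22),
  (163863, 6, 63602, 25),
  (163864, 7, 114736, 20),
  (163867, 6, 186722, 25),
  (163869, 6, 190834, 25),
  (163870, 6, 35162, 17),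
  (163873, 6, 139396, 19),
  (163874, 5, 139393, 19),
  (163876, 4, 33867, 26),
  (163879, 6, 159805, 24),
  (163880, 5, 82352, 19),
  (163883, 6, 13697, 23),
  (163885, 6, 186657, 14),
  (163886, 6, 211346, 25),
  (163888, 5, 209370, 43),
  (163891, 6, 189811, 26),
  (163893, 6, 139406, 19),
  (163894, 4, 139403, 19),
  (163897, 5, 192529, 13),
  (163898, 4, 114748, 20),
  (163900, 6, 192892, 3),
  (163903, 6, 146805, 8),
  (163907, 6, 131395, 3),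
  (163909, 4, 213392, 22),
  (163910, 6, 165958, 16),
  (163913, 4, 38917, 24),
  (163914, 4, 131489, 19),
  (163916, 6, 135244, 12),
  (163919, 7, 90299, 26),
  (163921, 4, 24865, 22),
  (163922, 4, 38982, 25),
  (163924, 5, 24737, 22),
  (163927, 5, 45524, 23),
  (163928, 6, 131496, 19),
  (163931, 5, 347, 17),
  (163933, 6, 131502, 19),
  (163934, 6, 6486, 1),
  (163937, 6, 33121, 12),
  (163938, 4, 139649, 19),
  (163940, 4, 32843, 26),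
  (163943, 6, 3427, 4),
  (163944, 3, 213168, 19),
  (163947, 6, 219558, 25),
  (163949, 6, 20845, 21),
  (163950, 6, 39266, 5),
  (163952, 5, 8606, 39),
  (163955, 6, 121062, 25),
  (163957, 6, 125174, 25),
  (163958, 3, 155718, 12),
  (163961, 6, 139692, 19),
  (163962, 6, 155754, 8),
  (163964, 6, 117125, 24),
  (163967, 6, 260598, 25),
  (163969, 4, 5135, 24),
  (163970, 4, 7181, 25),
  (163972, 5, 3087, 26),
  (163975, 6, 229383, 20),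
  (163976, 4, 33863, 24),
  (163979, 6, 93367, 26),
  (163981, 6, 225332, 22),
  (163982, 6, 7453, 25),
  (163984, 4, 3141, 25),
  (163987, 4, 245798, 20),
  (163989, 6, 45284, 23),
  (163990, 6, 245797, 20),
  (163993, 5, 84158, 23),
  (163994, 6, 216487, 26),
  (163996, 5, 182290, 42),
  (163999, 6, 7549, 25),
  (164000, 4, 35911, 26),
  (164003, 6, 181475, 15),
  (164005, 6, 24970, 22),
  (164006, 6, 139459, 19),
  (164009, 5, 250217, 3),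
  (164010, 3, 213066, 4),
  (164012, 6, 249860, 13),
  (164015, 6, 59790, 22),
  (164017, 6, 139468, 19),
  (164018, 4, 139465, 19),
  (164020, 4, 28982, 21),
  (164023, 6, 191735, 15),
  (164024, 6, 232903, 26),
  (164027, 6, 218227, 7),
  (164029, 6, 252125, 5),
  (164030, 6, 251966, 16),
  (164033, 4, 7173, 24),
  (164034, 5, 5133, 25),
  (164036, 4, 2063, 26),
  (164039, 6, 5181, 25),
  (164040, 4, 35845, 24),
  (164043, 7, 176244, 22),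
  (164045, 5, 123050, 23),
  (164046, 6, 231438, 4),
  (164048, 5, 1093, 25),
  (164051, 6, 57641, 22),
  (164053, 6, 131534, 19),
  (164054, 5, 207042, 8),
  (164057, 5, 92334, 23),
  (164058, 5, 209242, 3),
  (164060, 6, 205260, 16),
  (164063, 6, 241115, 1),
  (164064, 4, 34887, 26),
  (164067, 4, 57642, 22),
  (164069, 6, 45297, 23),
  (164070, 6, 5277, 25),
  (164073, 6, 13489, 23),
  (164074, 6, 82250, 17),
  (164076, 5, 45442, 43),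
  (164079, 6, 250949, 13),
  (164081, 7, 245930, 20),
  (164082, 6, 77189, 24),
  (164084, 6, 90468, 11),
  (164087, 5, 5373, 25),
  (164088, 6, 196984, 6),
  (164091, 6, 245950, 20),
  (164093, 5, 195041, 14),
  (164094, 5, 244206, 7),
  (164099, 6, 204824, 23),
  (164101, 4, 213040, 22),
  (164102, 5, 33142, 42),
  (164105, 5, 38985, 24),
  (164106, 4, 196641, 19),
  (164108, 6, 135244, 10),
  (164111, 3, 155662, 25),
  (164113, 5, 24849, 22),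
  (164114, 5, 32782, 25),
  (164116, 4, 24721, 22),
  (164119, 5, 175109, 2),
  (164120, 6, 163846, 25),
  (164123, 6, 177227, 4),
  (164125, 6, 104598, 23),
  (164126, 6, 6490, 2),
  (164129, 6, 33121, 16),
  (164130, 4, 204801, 19),
  (164132, 4, 37897, 26),
  (164135, 4, 90126, 25),
  (164136, 5, 16816, 19),
  (164139, 4, 213006, 25),
  (164141, 6, 6501, 8),
  (164142, 3, 204814, 25),
  (164144, 6, 49424, 11),
  (164147, 6, 155715, 6),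
  (164149, 3, 204814, 19),
  (164150, 3, 155718, 6),
  (164153, 6, 245766, 25),
  (164154, 6, 159810, 6),
  (164156, 6, 237574, 25),
  (164159, 6, 4583, 21),
  (164163, 6, 163952, 22),
  (164165, 4, 196656, 22),
  (164166, 6, 163846, 6),
  (164169, 4, 36869, 24),
  (164170, 4, 196897, 19),
  (164172, 6, 37124, 15),
  (164175, 5, 95243, 26),
  (164177, 4, 196876, 19),
  (164178, 4, 34826, 25),
  (164180, 4, 196874, 19),
  (164183, 6, 45532, 23),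
  (164184, 7, 114928, 20),
  (164187, 7, 110725, 24),
  (164189, 7, 209931, 26),
  (164190, 6, 218123, 26),
  (164193, 6, 180225, 6),
  (164194, 4, 205057, 19),
  (164196, 4, 37899, 26),
  (164199, 6, 57778, 22),
  (164200, 4, 147632, 19),
  (164203, 6, 215050, 25),
  (164205, 5, 365, 16),
  (164206, 6, 119819, 26),
  (164208, 6, 49424, 2),
  (164211, 6, 189443, 26),
  (164213, 6, 124930, 25),
  (164214, 5, 163894, 42),
  (164217, 4, 114938, 20),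
  (164218, 6, 205097, 19),
  (164220, 6, 37172, 15),
  (164223, 6, 127365, 24),
  (164225, 4, 7179, 24),
  (164226, 4, 7183, 25),
  (164228, 4, 7177, 26),
  (164231, 6, 7231, 25),
  (164232, 4, 35907, 24),
  (164235, 4, 229462, 20),
  (164237, 6, 196710, 19),
  (164238, 4, 184626, 23),
  (164240, 5, 3143, 25),
  (164243, 6, 158721, 26),
  (164245, 6, 3191, 25),
  (164246, 4, 45420, 23),
  (164249, 6, 207873, 26),
  (164250, 4, 12467, 21),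
  (164252, 6, 203785, 26),
  (164255, 6, 240653, 2),
  (164256, 4, 35841, 26),
  (164259, 6, 7343, 25),
  (164261, 3, 204870, 19),
  (164262, 6, 231458, 5),
  (164265, 5, 26910, 22),
  (164266, 6, 131306, 13),
  (164268, 6, 3479, 25),
  (164271, 6, 247883, 17),
  (164273, 4, 204876, 19),
  (164274, 6, 204873, 19),
  (164276, 4, 204874, 19),
  (164279, 6, 126355, 1),
  (164280, 6, 232449, 26),
  (164283, 6, 259345, 13),
  (164285, 6, 245883, 20),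
  (164286, 6, 113070, 7),
  (164289, 5, 5125, 24),
  (164290, 4, 5135, 25),
  (164292, 4, 7179, 26),
  (164295, 6, 35267, 14),
  (164296, 5, 33797, 24),
  (164299, 4, 168052, 22),
  (164301, 6, 229587, 20),
  (164302, 4, 102516, 22),
  (164304, 4, 1095, 25),
  (164307, 6, 196941, 19),
  (164309, 6, 74069, 3),
  (164310, 6, 196939, 19),
  (164313, 6, 26941, 22),
  (164314, 6, 237850, 4),
  (164316, 6, 233564, 8),
  (164319, 6, 243029, 13),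
  (164320, 4, 35843, 26),
  (164323, 4, 12540, 21),
  (164325, 7, 25018, 22),
  (164326, 6, 147910, 12),
  (164329, 5, 229594, 20),
  (164330, 3, 213066, 17),
  (164332, 6, 37356, 17),
  (164335, 7, 5567, 25),
  (164337, 4, 245994, 20),
  (164338, 6, 156098, 12),
  (164340, 6, 90484, 3),
  (164343, 6, 232695, 12),
  (164344, 6, 74216, 16),
  (164347, 6, 205165, 19),
  (164349, 5, 74221, 16),
  (164350, 6, 96726, 10),
  (164865, 5, 123905, 38),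
  (164867, 6, 131395, 8),
  (164877, 6, 36169, 17),
  (164879, 6, 91291, 26),
  (164885, 6, 176324, 23),
  (164887, 5, 343, 10),
  (164889, 6, 37085, 24),
  (164891, 4, 198814, 23),
  (164901, 6, 35171, 4),
  (164903, 6, 25026, 22),
  (164905, 5, 185633, 14),
  (164907, 6, 215466, 25),
  (164913, 6, 173427, 26),
  (164915, 6, 189811, 3),
  (164925, 6, 39223, 12),
  (164927, 5, 109653, 44),
  (164929, 6, 164865, 11),
  (164931, 6, 131395, 16),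
  (164941, 4, 106890, 23),
  (164943, 6, 86505, 21),
  (164949, 4, 86378, 21),
  (164951, 6, 59518, 25),
  (164953, 6, 86123, 21),
  (164955, 6, 182638, 25),
  (164965, 6, 176337, 23),
  (164967, 4, 86508, 21),
  (164969, 6, 215221, 19),
  (164971, 6, 215470, 25),
  (164977, 6, 33139, 12),
  (164979, 6, 24931, 22),
  (164989, 5, 124113, 38),
  (164991, 6, 97553, 19),
  (164997, 6, 35267, 4),
  (164999, 5, 455, 10),
  (165001, 6, 94321, 21),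
  (165003, 6, 213178, 23),
  (165009, 6, 57673, 22),
  (165011, 5, 238993, 1),
  (165021, 6, 3453, 25),
  (165023, 6, 241049, 1),
  (165025, 6, 231434, 20),
  (165027, 6, 34273, 4),
  (165037, 6, 250887, 13),
  (165039, 5, 124067, 38),
  (165045, 6, 3325, 25),
  (165047, 6, 7413, 25),
  (165049, 6, 247866, 20),
  (165051, 6, 247870, 20),
  (165061, 6, 34183, 10),
  (165063, 6, 232449, 7),
  (165065, 6, 248037, 19),
  (165067, 6, 230857, 1),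
  (165073, 6, 143540, 23),
  (165075, 6, 157975, 26),
  (165085, 6, 125358, 23),
  (165087, 6, 37279, 10),
  (165089, 6, 230561, 11),
  (165091, 6, 94460, 21),
  (165101, 5, 124129, 38),
  (165103, 6, 7657, 4),
  (165109, 6, 247859, 7),
  (165111, 6, 248881, 7),
  (165113, 5, 242873, 11),
  (165115, 6, 247998, 20),
  (165121, 6, 131395, 7),
  (165123, 6, 20494, 25),
  (165133, 6, 159750, 25),
  (165135, 6, 159758, 25),
  (165141, 7, 7567, 19),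
  (165143, 5, 204161, 19),
  (165145, 6, 59733, 22),
  (165147, 5, 184334, 25),
  (165157, 6, 94214, 25),
  (165159, 6, 147559, 10),
  (165161, 5, 59734, 22),
  (165163, 6, 100446, 20),
  (165169, 5, 109571, 44),
  (165171, 6, 211345, 19),
  (165181, 6, 146809, 11),
  (165183, 6, 183387, 17),
  (165185, 6, 22530, 25),
  (165187, 6, 131395, 5),
  (165197, 5, 124145, 38),
  (165199, 6, 36169, 1),
  (165205, 6, 160941, 42),
  (165207, 6, 63498, 25),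
  (165209, 5, 177491, 13),
  (165211, 5, 116982, 20),
  (165221, 6, 28949, 24),
  (165223, 6, 181255, 6),
  (165225, 6, 45333, 24),
  (165227, 5, 185633, 7),
  (165233, 6, 156019, 15),
  (165235, 6, 147795, 5),
  (165245, 7, 59895, 22),
  (165247, 6, 159101, 15),
  (165253, 6, 36225, 14),
  (165255, 6, 25048, 22),
  (165257, 4, 151668, 22),
  (165259, 6, 217266, 23),
  (165265, 5, 77938, 21),
  (165267, 6, 7271, 25),
  (165277, 6, 121270, 23),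
  (165279, 5, 124035, 38),
  (165281, 4, 57690, 22),
  (165283, 6, 230561, 12),
  (165293, 6, 7655, 8),
  (165295, 5, 27102, 22),
  (165301, 6, 249303, 5),
  (165303, 6, 7415, 25),
  (165305, 6, 247930, 20),
  (165307, 6, 7655, 25),
  (165317, 6, 232833, 11),
  (165319, 6, 15403, 26),
  (165321, 6, 77945, 21),
  (165323, 4, 231638, 20),
  (165329, 5, 238659, 2),
  (165331, 5, 248038, 20),
  (165341, 6, 248051, 20),
  (165343, 6, 212011, 26),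
  (165345, 6, 166101, 19),
  (165347, 6, 5287, 25),
  (165357, 6, 78205, 21),
  (165359, 6, 54549, 24),
  (165365, 5, 241073, 11),
  (165367, 5, 5367, 25),
  (165369, 6, 248058, 20),
  (165371, 6, 5607, 25),
  (165889, 5, 131504, 22),
  (165890, 6, 163846, 16),
  (165893, 4, 196912, 22),
  (165894, 6, 165958, 12),
  (165899, 7, 238605, 39),
  (165903, 6, 132263, 19),
  (165907, 4, 151778, 21),
  (165911, 6, 185693, 43),
  (165913, 6, 151651, 21),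
  (165914, 6, 26837, 20),
  (165917, 4, 190818, 25),
  (165918, 6, 218539, 26),
  (165923, 6, 182567, 14),
  (165927, 6, 152036, 21),
  (165929, 6, 39277, 4),
  (165930, 6, 39206, 5),
  (165933, 6, 39201, 12),
  (165934, 6, 120043, 26),
  (165937, 5, 177491, 26),
  (165938, 6, 155734, 4),
  (165941, 5, 211218, 19),
  (165942, 5, 149902, 40),
  (165947, 6, 38199, 12),
  (165951, 5, 185443, 43),
  (165953, 4, 147856, 22),
  (165954, 6, 163846, 4),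
  (165957, 3, 213264, 22),
  (165958, 5, 8606, 40),
  (165963, 5, 153910, 25),
  (165967, 6, 36169, 2),
  (165971, 6, 36113, 10),
  (165975, 5, 343, 17),
  (165977, 6, 209299, 26),
  (165978, 6, 145754, 3),
  (165981, 5, 349, 17),
  (165982, 7, 108709, 24),
  (165987, 6, 140677, 19),
  (165991, 6, 14629, 24),
  (165993, 6, 110803, 26),
  (165994, 6, 39270, 5),
  (165997, 6, 39205, 24),
  (165998, 6, 184678, 14),
  (166001, 5, 116982, 25),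
  (166002, 6, 155990, 10),
  (166005, 6, 38113, 20),
  (166006, 6, 16726, 17),
  (166011, 6, 162171, 3),
  (166015, 6, 260582, 25),
  (166019, 6, 36295, 4),
  (166023, 6, 31807, 26),
  (166025, 4, 114938, 23),
  (166026, 6, 233870, 7),
  (166029, 4, 248066, 19),
  (166030, 4, 61684, 22),
  (166033, 4, 12516, 23),
  (166034, 6, 33238, 1),
  (166037, 6, 160114, 21),
  (166038, 6, 123017, 22),
  (166043, 6, 7641, 10),
  (166047, 6, 239007, 1),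
  (166049, 6, 12513, 23),
  (166050, 4, 486, 13),
  (166053, 6, 160116, 21),
  (166054, 6, 147910, 2),
  (166059, 6, 13793, 23),
  (166063, 6, 125326, 22),
  (166067, 6, 195959, 26),
  (166071, 6, 249041, 5),
  (166073, 5, 194981, 14),
  (166074, 6, 242094, 7),
  (166077, 5, 252121, 5),
  (166078, 6, 244138, 7),
  (166083, 6, 36225, 10),
  (166087, 6, 65863, 17),
  (166089, 5, 248038, 19),
  (166090, 6, 110836, 22),
  (166093, 6, 143540, 22),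
  (166094, 5, 235594, 16),
  (166097, 6, 89253, 24),
  (166098, 4, 205270, 10),
  (166101, 5, 185643, 43),
  (166102, 4, 45364, 23),
  (166107, 6, 93527, 20),
  (166111, 6, 223726, 23),
  (166113, 4, 231638, 19),
  (166114, 6, 33190, 13),
  (166117, 5, 247877, 13),
  (166118, 4, 45361, 23),
  (166123, 5, 185673, 43),
  (166127, 6, 125358, 22),
  (166131, 6, 123179, 22),
  (166135, 6, 194943, 26),
  (166137, 6, 243901, 11),
  (166138, 5, 129410, 6),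
  (166141, 6, 129298, 19),
  (166142, 6, 244202, 7),
  (166145, 3, 213168, 22),
  (166146, 6, 165958, 17),
  (166149, 4, 147632, 22),
  (166150, 6, 163846, 5),
  (166155, 6, 36169, 16),
  (166159, 6, 135649, 21),
  (166163, 6, 175175, 4),
  (166167, 4, 45452, 23),
  (166169, 6, 178253, 4),
  (166170, 7, 197673, 19),
  (166173, 6, 112695, 41),
  (166174, 6, 6486, 15),
  (166179, 6, 123154, 22),
  (166183, 4, 135652, 21),
  (166185, 6, 35177, 16),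
  (166186, 5, 184622, 16),
  (166189, 6, 111617, 26),
  (166190, 4, 125078, 22),
  (166193, 5, 185353, 43),
  (166194, 6, 139366, 13),
  (166197, 6, 211346, 19),
  (166198, 6, 16726, 2),
  (166203, 6, 253982, 25),
  (166207, 6, 191867, 15),
  (166209, 4, 196784, 22),
  (166210, 6, 163846, 13),
  (166213, 5, 131248, 22),
  (166214, 5, 155766, 44),
  (166219, 4, 242114, 23),
  (166223, 6, 197927, 19),
  (166227, 6, 59418, 25),
  (166231, 6, 197903, 19),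
  (166233, 5, 178461, 11),
  (166234, 6, 178462, 11),
  (166237, 5, 88450, 19),
  (166238, 6, 197931, 19),
  (166243, 4, 135404, 21),
  (166247, 4, 83994, 25),
  (166249, 6, 186369, 6),
  (166250, 6, 13657, 23),
  (166253, 6, 39201, 8),
  (166254, 6, 39274, 7),
  (166257, 6, 59733, 1),
  (166258, 6, 184804, 37),
  (166261, 4, 116754, 25),
  (166262, 6, 185347, 26),
  (166267, 6, 127397, 24),
  (166271, 6, 159099, 15),
  (166275, 6, 27657, 26),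
  (166279, 6, 31745, 26),
  (166281, 6, 42387, 20),
  (166282, 6, 39302, 14),
  (166285, 6, 248194, 19),
  (166286, 6, 89089, 26),
  (166289, 6, 7339, 24),
  (166290, 5, 207042, 6),
  (166293, 4, 143730, 21),
  (166294, 4, 205270, 11),
  (166299, 6, 252406, 23),
  (166303, 5, 185441, 43),
  (166305, 5, 247877, 17),
  (166306, 4, 188678, 44),
  (166309, 6, 90522, 22),
  (166310, 6, 246246, 8),
  (166315, 6, 125214, 22),
  (166319, 6, 125342, 22),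
  (166323, 6, 143606, 21),
  (166327, 5, 249297, 5),
  (166329, 6, 240649, 26),
  (166330, 6, 111022, 7),
  (166333, 6, 61861, 14),
  (166334, 6, 191699, 24),
  (166339, 6, 27659, 26),
  (166343, 6, 36225, 8),
  (166345, 6, 182502, 19),
  (166346, 6, 235590, 5),
  (166349, 6, 203209, 5),
  (166350, 6, 233542, 5),
  (166353, 4, 12540, 23),
  (166354, 6, 229718, 16),
  (166357, 5, 146435, 26),
  (166358, 6, 237974, 11),
  (166363, 6, 238669, 2),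
  (166367, 6, 242079, 11),
  (166369, 4, 143484, 21),
  (166370, 6, 206145, 19),
  (166373, 6, 9399, 25),
  (166374, 3, 213478, 8),
  (166379, 5, 185603, 43),
  (166383, 6, 125374, 22),
  (166387, 6, 92531, 3),
  (166391, 6, 213079, 17),
  (166393, 6, 13565, 23),
  (166394, 5, 112734, 41),
  (166397, 6, 244739, 26),
  (166398, 6, 113130, 7),
  (166921, 6, 217185, 21),
  (166923, 5, 229594, 23),
  (166925, 4, 162090, 25),
  (166927, 6, 196826, 23),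
  (166929, 6, 55418, 25),
  (166931, 5, 143812, 23),
  (166933, 6, 73101, 19),
  (166935, 6, 36113, 12),
  (166945, 7, 217188, 21),
  (166947, 4, 84154, 25),
  (166949, 6, 147559, 7),
  (166951, 4, 92330, 25),
  (166969, 6, 252410, 25),
  (166971, 6, 248314, 25),
  (166973, 6, 125383, 22),
  (166975, 6, 259547, 26),
  (166985, 6, 215207, 19),
  (166987, 7, 149822, 25),
  (166989, 6, 78011, 26),
  (166991, 6, 39183, 10),
  (166993, 6, 83015, 20),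
  (166995, 6, 160019, 26),
  (166997, 6, 36069, 20),
  (166999, 6, 90593, 22),
  (167009, 6, 147559, 15),
  (167011, 5, 84158, 25),
  (167013, 6, 35171, 12),
  (167015, 5, 90594, 22),
  (167033, 6, 37239, 12),
  (167035, 6, 194643, 13),
  (167037, 6, 163197, 3),
  (167039, 6, 104885, 24),
  (167041, 7, 11309, 25),
  (167043, 6, 131527, 8),
  (167045, 6, 167389, 44),
  (167047, 6, 90568, 22),
  (167065, 6, 241099, 16),
  (167067, 6, 6619, 10),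
  (167069, 6, 212415, 26),
  (167071, 6, 235739, 5),
  (167081, 7, 13791, 20),
  (167083, 6, 249229, 1),
  (167085, 6, 125390, 22),
  (167087, 5, 193615, 24),
  (167089, 6, 104927, 19),
  (167091, 6, 93635, 6),
  (167093, 6, 241127, 16),
  (167095, 6, 176549, 23),
  (167105, 6, 231623, 19),
  (167107, 6, 232901, 1),
  (167109, 5, 455, 4),
  (167111, 6, 30751, 26),
  (167129, 5, 214407, 37),
  (167131, 5, 209043, 39),
  (167133, 6, 92654, 23),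
  (167135, 6, 239069, 1),
  (167145, 6, 248055, 19),
  (167147, 5, 55385, 41),
  (167149, 6, 177329, 23),
  (167151, 6, 92654, 22),
  (167153, 6, 126337, 6),
  (167155, 6, 123239, 2),
  (167157, 6, 225662, 21),
  (167159, 6, 90603, 22),
  (167177, 6, 91177, 26),
  (167179, 6, 36109, 1),
  (167181, 5, 70098, 23),
  (167183, 6, 180404, 22),
  (167185, 6, 6329, 24),
  (167187, 7, 61470, 25),
  (167189, 5, 201058, 21),
  (167191, 6, 90577, 22),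
  (167201, 5, 92545, 38),
  (167203, 6, 90450, 22),
  (167205, 6, 3427, 8),
  (167207, 6, 90578, 22),
  (167225, 6, 162881, 6),
  (167227, 6, 162883, 6),
  (167229, 6, 144765, 11),
  (167231, 5, 214149, 37),
  (167241, 6, 200809, 21),
  (167243, 6, 103755, 43),
  (167245, 6, 78274, 23),
  (167247, 4, 36917, 24),
  (167249, 4, 143580, 23),
  (167251, 5, 200938, 21),
  (167253, 5, 175109, 6),
  (167255, 7, 201194, 21),
  (167265, 6, 182567, 7),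
  (167267, 6, 143833, 23),
  (167269, 6, 134293, 19),
  (167271, 5, 92549, 38),
  (167289, 6, 125303, 22),
  (167291, 5, 208915, 39),
  (167293, 5, 191595, 2),
  (167295, 6, 195591, 6),
  (167297, 5, 92449, 38),
  (167299, 5, 455, 8),
  (167301, 6, 200133, 20),
  (167303, 6, 34183, 14),
  (167321, 6, 212445, 11),
  (167323, 6, 252150, 23),
  (167325, 6, 174555, 15),
  (167327, 6, 219382, 23),
  (167337, 6, 5607, 8),
  (167339, 6, 248911, 17),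
  (167341, 6, 248875, 2),
  (167343, 6, 92638, 22),
  (167345, 6, 247255, 5),
  (167347, 5, 248919, 17),
  (167349, 6, 126325, 3),
  (167351, 6, 126327, 3),
  (167361, 6, 34183, 8),
  (167363, 6, 36295, 14),
  (167365, 6, 9279, 25),
  (167367, 6, 35203, 8),
  (167385, 5, 214055, 37),
  (167387, 5, 244051, 13),
  (167389, 5, 96742, 23),
  (167391, 6, 227558, 23),
  (167401, 5, 55461, 41),
  (167403, 6, 126355, 19),
  (167405, 6, 183541, 19),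
  (167407, 6, 234927, 11),
  (167409, 6, 248119, 7),
  (167411, 6, 60903, 14),
  (167413, 6, 209278, 21),
  (167415, 5, 92597, 38),
  (167937, 4, 4173, 24),
  (167938, 4, 147585, 19),
  (167940, 5, 155694, 40),
  (167943, 6, 25787, 26),
  (167945, 4, 36877, 24),
  (167946, 5, 147617, 19),
  (167948, 6, 135244, 14),
  (167951, 5, 120961, 41),
  (167955, 6, 210970, 23),
  (167957, 5, 349, 10),
  (167958, 6, 178242, 8),
  (167963, 4, 122934, 20),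
  (167965, 7, 45254, 23),
  (167966, 6, 201769, 21),
  (167971, 4, 57606, 22),
  (167973, 6, 35177, 4),
  (167974, 4, 57478, 22),
  (167979, 6, 176157, 24),
  (167981, 6, 184365, 24),
  (167982, 6, 184390, 12),
  (167985, 6, 24839, 22),
  (167986, 6, 45370, 5),
  (167988, 4, 109010, 25),
  (167991, 6, 194859, 14),
  (167993, 6, 238931, 26),
  (167994, 6, 192882, 3),
  (167996, 6, 155818, 19),
  (167999, 6, 36159, 12),
  (168001, 4, 38981, 24),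
  (168002, 4, 147841, 19),
  (168004, 6, 135244, 2),
  (168007, 6, 250305, 21),
  (168009, 4, 106642, 20),
  (168010, 5, 147873, 19),
  (168012, 6, 37124, 10),
  (168015, 5, 45522, 23),
  (168019, 5, 177491, 1),
  (168021, 5, 178461, 8),
  (168022, 6, 147851, 19),
  (168027, 4, 12694, 23),
  (168029, 6, 164905, 21),
  (168030, 6, 6490, 17),
  (168035, 6, 47429, 24),
  (168037, 6, 24998, 22),
  (168038, 6, 39274, 5),
  (168043, 4, 12691, 23),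
  (168045, 6, 156070, 19),
  (168046, 4, 211094, 25),
  (168049, 5, 123050, 20),
  (168050, 3, 156026, 3),
  (168052, 3, 156028, 3),
  (168055, 6, 129477, 24),
  (168057, 5, 248038, 25),
  (168058, 6, 16762, 1),
  (168060, 6, 24940, 11),
  (168063, 6, 260342, 25),
  (168067, 6, 237574, 20),
  (168069, 6, 35273, 4),
  (168070, 6, 202822, 4),
  (168075, 5, 237590, 20),
  (168077, 6, 237587, 20),
  (168078, 6, 235910, 7),
  (168081, 5, 473, 10),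
  (168082, 6, 242138, 10),
  (168084, 4, 204876, 1),
  (168087, 6, 245139, 1),
  (168089, 6, 26889, 22),
  (168090, 6, 147689, 19),
  (168092, 6, 242004, 3),
  (168095, 7, 45542, 23),
  (168097, 6, 237578, 20),
  (168098, 6, 237580, 20),
  (168100, 6, 24718, 22),
  (168103, 6, 186795, 14),
  (168105, 5, 155876, 19),
  (168106, 5, 151838, 40),
  (168108, 6, 155874, 19),
  (168111, 6, 155879, 19),
  (168115, 6, 128289, 2),
  (168117, 6, 260497, 1),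
  (168118, 6, 247870, 16),
  (168123, 6, 155885, 19),
  (168125, 5, 252117, 5),
  (168126, 6, 251958, 16),
  (168131, 6, 196939, 3),
  (168133, 6, 196941, 3),
  (168134, 6, 39302, 13),
  (168139, 4, 151900, 22),
  (168141, 6, 163897, 21),
  (168142, 6, 235590, 16),
  (168145, 6, 147916, 19),
  (168146, 5, 153626, 23),
  (168148, 6, 237580, 1),
  (168151, 6, 219226, 23),
  (168153, 5, 121061, 41),
  (168154, 3, 205274, 10),
  (168156, 5, 200750, 37),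
  (168159, 6, 97477, 24),
  (168161, 5, 489, 4),
  (168162, 4, 237708, 20),
  (168164, 6, 110644, 41),
  (168167, 5, 120937, 41),
  (168169, 4, 12467, 23),
  (168170, 6, 136589, 25),
  (168172, 6, 156130, 19),
  (168175, 6, 248875, 7),
  (168179, 6, 250939, 7),
  (168181, 6, 156110, 19),
  (168182, 6, 127374, 6),
  (168187, 5, 128361, 2),
  (168189, 6, 156142, 19),
  (168190, 6, 252022, 16),
  (168193, 4, 6217, 24),
  (168194, 4, 212993, 19),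
  (168196, 5, 4518, 37),
  (168199, 6, 212999, 19),
  (168201, 4, 38921, 24),
  (168202, 4, 213025, 19),
  (168204, 6, 37124, 17),
  (168207, 6, 205284, 22),
  (168211, 5, 177491, 15),
  (168213, 4, 213006, 19),
  (168214, 6, 213003, 19),
  (168219, 4, 12686, 23),
  (168221, 4, 57606, 25),
  (168222, 6, 218121, 21),
  (168227, 6, 213262, 25),
  (168229, 6, 24982, 22),
  (168230, 6, 205070, 25),
  (168235, 5, 120841, 21),
  (168237, 6, 186733, 15),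
  (168238, 6, 39206, 7),
  (168241, 5, 120897, 41),
  (168242, 6, 139642, 11),
  (168244, 6, 149729, 24),
  (168247, 5, 193821, 13),
  (168249, 6, 155721, 6),
  (168250, 4, 155722, 6),
  (168252, 4, 380, 15),
  (168255, 6, 221231, 19),
  (168257, 4, 36933, 24),
  (168258, 5, 213249, 19),
  (168260, 6, 135244, 11),
  (168263, 6, 39243, 14),
  (168265, 5, 4165, 24),
  (168266, 4, 213281, 19),
  (168268, 6, 135244, 7),
  (168271, 6, 36109, 8),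
  (168275, 6, 110789, 24),
  (168277, 6, 213262, 19),
  (168278, 6, 123077, 24),
  (168283, 6, 51466, 25),
  (168285, 6, 213294, 19),
  (168286, 6, 178462, 4),
  (168291, 4, 215306, 25),
  (168293, 6, 16749, 3),
  (168294, 5, 184334, 6),
  (168299, 6, 106718, 20),
  (168301, 6, 46219, 26),
  (168302, 6, 39270, 7),
  (168305, 4, 248066, 25),
  (168306, 6, 57399, 22),
  (168308, 6, 172332, 1),
  (168311, 6, 192527, 6),
  (168313, 6, 173187, 26),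
  (168314, 5, 190806, 44),
  (168316, 5, 188764, 13),
  (168319, 6, 193675, 26),
  (168323, 5, 93313, 26),
  (168325, 4, 213062, 19),
  (168326, 5, 57500, 22),
  (168331, 6, 27777, 26),
  (168333, 6, 213094, 19),
  (168334, 5, 235594, 17),
  (168337, 3, 213068, 19),
  (168338, 3, 205274, 11),
  (168340, 3, 213066, 19),
  (168343, 6, 112069, 16),
  (168345, 7, 254066, 20),
  (168346, 5, 209242, 4),
  (168348, 6, 229674, 43),
  (168351, 6, 119905, 43),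
  (168353, 6, 13483, 23),
  (168354, 6, 249922, 17),
  (168356, 6, 157997, 21),
  (168359, 6, 251149, 13),
  (168361, 5, 489, 8),
  (168362, 5, 250146, 16),
  (168364, 6, 249860, 8),
  (168367, 6, 59802, 22),
  (168371, 7, 126191, 21),
  (168373, 6, 24991, 22),
  (168374, 6, 248126, 16),
  (168379, 6, 138735, 25),
  (168381, 6, 27035, 22),
  (168382, 6, 113062, 7),
  (168387, 6, 127201, 21),
  (168389, 6, 25020, 22),
  (168390, 5, 39370, 14),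
  (168395, 6, 169089, 10),
  (168397, 6, 35273, 14),
  (168398, 4, 45434, 23),
  (168401, 4, 83994, 23),
  (168402, 6, 237978, 11),
  (168404, 5, 26978, 44),
  (168407, 6, 215130, 23),
  (168409, 5, 216103, 37),
  (168410, 6, 37266, 2),
  (168412, 3, 205276, 2),
  (168415, 7, 246809, 21),
  (168417, 6, 24894, 22),
  (168418, 6, 102698, 15),
  (168420, 6, 245836, 8),
  (168423, 5, 120869, 41),
  (168425, 7, 221540, 19),
  (168426, 6, 233890, 11),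
  (168428, 6, 246092, 13),
  (168431, 5, 220613, 5),
  (168435, 6, 112069, 24),
  (168437, 6, 129489, 1),
  (168438, 5, 63978, 14),
  (168443, 6, 185521, 10),
  (168445, 6, 183321, 21),
  (168446, 6, 113126, 7),
  (168965, 5, 209242, 23),
  (168967, 5, 245833, 37),
  (168973, 6, 74811, 26),
  (168975, 6, 39183, 2),
  (168977, 6, 55658, 25),
  (168979, 5, 347, 10),
  (168985, 7, 186474, 25),
  (168987, 5, 177491, 3),
  (168993, 5, 57670, 22),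
  (168995, 4, 84394, 25),
  (169001, 6, 84373, 19),
  (169003, 6, 39081, 21),
  (169013, 6, 189821, 3),
  (169015, 6, 125434, 25),
  (169021, 6, 194843, 1),
  (169023, 6, 193911, 3),
  (169029, 6, 184769, 21),
  (169031, 4, 69978, 23),
  (169037, 7, 176338, 23),
  (169039, 6, 164009, 21),
  (169041, 4, 125090, 20),
  (169043, 6, 24933, 22),
  (169049, 6, 125106, 20),
  (169051, 6, 71893, 24),
  (169057, 5, 185419, 13),
  (169059, 6, 120901, 21),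
  (169065, 6, 108698, 20),
  (169067, 5, 215214, 25),
  (169077, 6, 203967, 19),
  (169079, 5, 25063, 22),
  (169085, 6, 260350, 25),
  (169087, 6, 125119, 20),
  (169089, 5, 157873, 42),
  (169091, 6, 201801, 7),
  (169097, 5, 168252, 22),
  (169099, 6, 143778, 23),
  (169109, 6, 227674, 23),
  (169111, 6, 138357, 25),
  (169117, 6, 243029, 3),
  (169119, 6, 169145, 21),
  (169125, 5, 35307, 4),
  (169127, 6, 249871, 13),
  (169133, 6, 118231, 19),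
  (169135, 6, 27082, 22),
  (169137, 6, 256042, 20),
  (169139, 5, 126031, 21),
  (169145, 5, 128299, 2),
  (169147, 6, 177295, 24),
  (169153, 6, 34187, 10),
  (169155, 6, 52445, 44),
  (169161, 6, 143538, 23),
  (169163, 4, 239766, 20),
  (169173, 5, 34207, 10),
  (169175, 6, 88410, 23),
  (169181, 6, 38295, 10),
  (169183, 6, 176630, 23),
  (169189, 6, 232695, 19),
  (169191, 6, 25070, 22),
  (169197, 6, 59882, 22),
  (169199, 6, 166073, 21),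
  (169201, 6, 259163, 13),
  (169203, 6, 194027, 14),
  (169209, 6, 128363, 2),
  (169211, 5, 157829, 42),
  (169221, 5, 160006, 25),
  (169223, 6, 216481, 19),
  (169229, 6, 19847, 19),
  (169231, 4, 28942, 25),
  (169233, 5, 125026, 20),
  (169235, 6, 205985, 26),
  (169241, 6, 73193, 40),
  (169243, 6, 47241, 24),
  (169249, 6, 108618, 20),
  (169251, 6, 144779, 23),
  (169257, 6, 170009, 24),
  (169259, 5, 185419, 17),
  (169269, 6, 174187, 4),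
  (169271, 5, 25047, 22),
  (169277, 6, 165951, 12),
  (169279, 6, 212401, 19),
  (169285, 6, 95403, 26),
  (169287, 5, 47213, 41),
  (169293, 6, 36169, 14),
  (169295, 6, 13483, 26),
  (169297, 4, 198938, 23),
  (169299, 6, 119907, 21),
  (169305, 6, 177227, 2),
  (169307, 6, 125174, 20),
  (169313, 4, 57718, 22),
  (169315, 6, 108750, 20),
  (169321, 6, 108762, 20),
  (169323, 6, 88330, 25),
  (169333, 6, 193549, 6),
  (169335, 5, 205849, 39),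
  (169341, 6, 125179, 20),
  (169343, 6, 163197, 15),
  (169345, 6, 134191, 25),
  (169347, 5, 248225, 19),
  (169353, 6, 196939, 7),
  (169355, 6, 34187, 14),
  (169365, 6, 244743, 2),
  (169367, 5, 47385, 41),
  (169373, 5, 212433, 11),
  (169375, 6, 243727, 2),
  (169381, 5, 251151, 13),
  (169383, 6, 162923, 24),
  (169389, 6, 246083, 37),
  (169391, 5, 241073, 19),
  (169393, 6, 257185, 26),
  (169395, 5, 147707, 10),
  (169401, 6, 112107, 16),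
  (169403, 6, 56473, 21),
  (169409, 6, 213274, 23),
  (169411, 6, 37259, 8),
  (169417, 6, 34187, 8),
  (169419, 6, 11427, 26),
  (169429, 5, 169313, 43),
  (169431, 6, 203859, 17),
  (169437, 5, 47369, 41),
  (169439, 5, 243791, 2),
  (169445, 6, 177403, 23),
  (169447, 5, 251023, 6),
  (169453, 6, 239835, 20),
  (169455, 5, 35247, 8),
  (169457, 6, 250171, 7),
  (169459, 6, 129457, 19),
  (169465, 6, 143551, 23),
  (169467, 7, 71125, 24),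
  (169987, 4, 241690, 23),
  (169991, 6, 148615, 19),
  (169995, 6, 233769, 21),
  (169999, 4, 161826, 25),
  (170001, 6, 4333, 24),
  (170002, 6, 174426, 3),
  (170005, 6, 90501, 22),
  (170006, 6, 214155, 21),
  (170009, 5, 178461, 1),
  (170010, 6, 178242, 12),
  (170013, 4, 203042, 19),
  (170014, 6, 178242, 25),
  (170017, 6, 186669, 14),
  (170018, 4, 72082, 25),
  (170021, 6, 90502, 22),
  (170022, 5, 184622, 14),
  (170025, 6, 170281, 21),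
  (170026, 5, 100442, 43),
  (170029, 6, 111707, 26),
  (170030, 5, 80070, 44),
  (170035, 6, 144765, 8),
  (170039, 6, 129506, 25),
  (170043, 5, 252146, 25),
  (170047, 6, 260322, 25),
  (170051, 6, 46129, 43),
  (170055, 6, 39183, 6),
  (170059, 6, 147924, 22),
  (170063, 6, 94267, 26),
  (170065, 4, 202926, 19),
  (170066, 6, 6486, 17),
  (170069, 7, 104538, 23),
  (170070, 6, 6490, 1),
  (170073, 4, 182390, 25),
  (170074, 6, 92229, 20),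
  (170077, 6, 34033, 20),
  (170078, 6, 178246, 25),
  (170081, 6, 186733, 14),
  (170082, 6, 53475, 26),
  (170085, 5, 365, 4),
  (170086, 6, 46355, 23),
  (170089, 6, 6501, 4),
  (170090, 5, 184334, 4),
  (170093, 5, 170311, 41),
  (170094, 4, 125090, 22),
  (170099, 6, 121334, 25),
  (170103, 6, 129510, 25),
  (170107, 5, 170013, 41),
  (170111, 6, 162167, 3),
  (170113, 5, 169999, 41),
  (170114, 6, 146445, 25),
  (170117, 6, 90508, 22),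
  (170118, 5, 39370, 1),
  (170121, 6, 117190, 19),
  (170122, 6, 4348, 22),
  (170125, 6, 142645, 25),
  (170126, 4, 69945, 21),
  (170131, 6, 177367, 15),
  (170135, 5, 170325, 41),
  (170139, 5, 244051, 3),
  (170143, 6, 101787, 12),
  (170147, 6, 185575, 15),
  (170151, 7, 156871, 19),
  (170155, 6, 235833, 21),
  (170159, 6, 252263, 3),
  (170161, 5, 206881, 39),
  (170162, 6, 149982, 2),
  (170165, 6, 129313, 2),
  (170166, 5, 192942, 14),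
  (170169, 6, 121310, 19),
  (170170, 5, 199034, 15),
  (170173, 6, 129321, 2),
  (170174, 6, 146909, 25),
  (170177, 6, 90412, 22),
  (170178, 6, 22695, 26),
  (170181, 6, 90540, 22),
  (170182, 4, 184410, 23),
  (170185, 6, 140581, 25),
  (170186, 6, 233542, 16),
  (170189, 5, 207269, 39),
  (170190, 4, 45362, 23),
  (170195, 5, 122995, 38),
  (170199, 6, 243159, 1),
  (170203, 6, 125225, 22),
  (170207, 6, 240733, 13),
  (170211, 6, 129477, 21),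
  (170215, 6, 253005, 13),
  (170219, 5, 170073, 41),
  (170223, 6, 5607, 4),
  (170225, 6, 195053, 14),
  (170226, 6, 195054, 14),
  (170229, 6, 90543, 22),
  (170230, 5, 67806, 43),
  (170233, 6, 190957, 14),
  (170234, 6, 249974, 16),
  (170237, 6, 125325, 6),
  (170238, 6, 125326, 6),
  (170243, 6, 39183, 14),
  (170247, 6, 147742, 25),
  (170251, 6, 44167, 20),
  (170255, 4, 45450, 23),
  (170257, 6, 90389, 22),
  (170258, 6, 6490, 15),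
  (170261, 5, 178461, 13),
  (170262, 6, 214027, 19),
  (170265, 6, 39081, 24),
  (170266, 6, 6486, 2),
  (170269, 6, 54537, 21),
  (170270, 6, 145754, 4),
  (170273, 6, 137321, 24),
  (170274, 6, 205086, 25),
  (170277, 6, 182381, 21),
  (170278, 6, 184390, 17),
  (170281, 5, 365, 8),
  (170282, 7, 12619, 23),
  (170285, 6, 39277, 16),
  (170286, 6, 65822, 25),
  (170291, 6, 161867, 6),
  (170295, 6, 184407, 17),
  (170299, 6, 123166, 25),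
  (170303, 6, 193665, 26),
  (170307, 6, 119265, 21),
  (170311, 4, 149786, 25),
  (170315, 6, 156100, 22),
  (170319, 6, 214311, 19),
  (170321, 6, 54627, 21),
  (170322, 6, 35102, 2),
  (170325, 4, 182546, 25),
  (170326, 6, 178190, 6),
  (170329, 6, 86245, 24),
  (170330, 6, 214313, 19),
  (170333, 6, 45214, 23),
  (170334, 6, 35102, 15),
  (170337, 6, 186669, 7),
  (170338, 4, 122934, 22),
  (170341, 6, 6501, 16),
  (170342, 4, 198938, 25),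
  (170345, 6, 12507, 23),
  (170346, 6, 184678, 16),
  (170349, 7, 51465, 21)]

theorem chk_rows2_18 : rows2_18.all (rowBP tr2 gensLitP 72) = true := by decide +kernel

/-- Rows 28500 to 29999. -/
def rows2_19 : List (ℕ × ℕ × ℕ × ℕ) := [(170350, 6, 39266, 7),
  (170355, 5, 101523, 44),
  (170359, 6, 194575, 6),
  (170363, 5, 170065, 41),
  (170367, 6, 15725, 16),
  (170369, 5, 90396, 22),
  (170370, 6, 35221, 20),
  (170373, 5, 122970, 23),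
  (170374, 6, 233542, 17),
  (170377, 6, 203205, 11),
  (170378, 5, 80070, 43),
  (170381, 6, 196941, 7),
  (170382, 6, 146719, 25),
  (170387, 6, 224393, 26),
  (170391, 6, 256090, 23),
  (170395, 6, 242701, 2),
  (170399, 6, 125337, 22),
  (170403, 6, 123166, 22),
  (170407, 5, 212433, 20),
  (170411, 6, 146863, 25),
  (170415, 6, 125338, 22),
  (170417, 6, 90399, 22),
  (170418, 5, 106926, 7),
  (170421, 6, 142583, 25),
  (170422, 6, 129498, 10),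
  (170425, 6, 55774, 19),
  (170426, 5, 180478, 1),
  (170429, 6, 113133, 16),
  (170430, 5, 260286, 9),
  (170433, 4, 114714, 23),
  (170434, 6, 202822, 17),
  (170437, 4, 117154, 19),
  (170438, 6, 144415, 25),
  (170441, 6, 104909, 1),
  (170442, 6, 235910, 11),
  (170445, 6, 140599, 25),
  (170446, 6, 94284, 22),
  (170451, 6, 202839, 17),
  (170455, 6, 111845, 24),
  (170459, 6, 244119, 11),
  (170463, 6, 45502, 23),
  (170467, 5, 122963, 38),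
  (170471, 6, 252047, 6),
  (170475, 6, 12795, 23),
  (170479, 7, 117017, 21),
  (170481, 6, 233725, 12),
  (170482, 6, 124389, 24),
  (170485, 6, 127445, 1),
  (170486, 5, 75866, 43),
  (170489, 6, 129501, 1),
  (170490, 6, 111078, 7),
  (170493, 6, 52505, 21),
  (170494, 5, 100670, 15),
  (171009, 6, 49609, 21),
  (171011, 6, 3283, 20),
  (171013, 7, 31018, 25),
  (171015, 5, 26922, 25),
  (171017, 4, 143554, 23),
  (171019, 6, 168361, 21),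
  (171021, 6, 85381, 19),
  (171023, 6, 198947, 19),
  (171057, 6, 228363, 40),
  (171059, 6, 191867, 3),
  (171061, 5, 193837, 14),
  (171063, 6, 248911, 21),
  (171065, 6, 168125, 24),
  (171067, 6, 248058, 25),
  (171069, 6, 243067, 26),
  (171071, 5, 193821, 1),
  (171073, 4, 22846, 25),
  (171075, 6, 90468, 22),
  (171077, 6, 39243, 12),
  (171079, 6, 90596, 22),
  (171081, 6, 143570, 23),
  (171083, 4, 149566, 25),
  (171085, 6, 36109, 6),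
  (171087, 6, 36169, 12),
  (171121, 6, 146787, 16),
  (171123, 6, 38269, 12),
  (171125, 6, 187591, 21),
  (171127, 6, 90599, 22),
  (171129, 6, 163185, 3),
  (171131, 6, 34173, 12),
  (171133, 6, 60685, 6),
  (171135, 6, 36217, 12),
  (171153, 6, 3547, 10),
  (171155, 6, 129306, 23),
  (171157, 6, 260442, 23),
  (171159, 6, 163231, 26),
  (171161, 6, 244127, 1),
  (171163, 6, 110863, 2),
  (171165, 6, 7639, 10),
  (171167, 6, 146805, 25),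
  (171169, 6, 123214, 22),
  (171171, 6, 251915, 13),
  (171173, 6, 123342, 22),
  (171175, 6, 137707, 8),
  (171177, 6, 248843, 13),
  (171179, 6, 92490, 22),
  (171181, 6, 37351, 4),
  (171183, 6, 247823, 13),
  (171217, 6, 252186, 23),
  (171219, 6, 90477, 22),
  (171221, 6, 242135, 1),
  (171223, 6, 259139, 21),
  (171225, 6, 143606, 23),
  (171227, 7, 227607, 26),
  (171229, 6, 175515, 8),
  (171231, 6, 39319, 10),
  (171233, 6, 140461, 25),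
  (171235, 6, 90478, 22),
  (171237, 6, 47359, 26),
  (171239, 6, 177587, 23),
  (171241, 6, 125290, 22),
  (171243, 5, 129111, 26),
  (171245, 6, 248911, 13),
  (171247, 6, 169429, 20),
  (171265, 6, 36169, 3),
  (171267, 6, 90452, 22),
  (171269, 7, 237914, 23),
  (171271, 4, 106842, 23),
  (171273, 6, 39183, 1),
  (171275, 6, 39243, 16),
  (171277, 6, 119177, 21),
  (171279, 6, 53641, 21),
  (171313, 6, 192887, 15),
  (171315, 6, 194843, 13),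
  (171317, 6, 177295, 23),
  (171319, 6, 242849, 26),
  (171321, 6, 178279, 4),
  (171323, 6, 158795, 6),
  (171325, 6, 158797, 6),
  (171327, 6, 119070, 25),
  (171329, 4, 229658, 23),
  (171331, 6, 90484, 22),
  (171333, 6, 134309, 19),
  (171335, 6, 36981, 24),
  (171337, 6, 246153, 21),
  (171339, 4, 9387, 26),
  (171341, 4, 22802, 25),
  (171343, 6, 4213, 24),
  (171377, 6, 127477, 24),
  (171379, 6, 90487, 22),
  (171381, 6, 150875, 5),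
  (171383, 6, 163185, 15),
  (171385, 6, 129298, 25),
  (171387, 6, 129306, 25),
  (171389, 6, 162171, 15),
  (171391, 6, 163193, 15),
  (171409, 6, 208349, 11),
  (171411, 6, 90461, 22),
  (171413, 5, 212173, 6),
  (171415, 6, 252323, 19),
  (171417, 6, 113055, 1),
  (171419, 6, 241679, 2),
  (171421, 6, 125401, 22),
  (171423, 6, 42383, 14),
  (171425, 6, 233647, 12),
  (171427, 6, 125293, 21),
  (171429, 6, 250949, 17),
  (171431, 6, 252175, 13),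
  (171433, 6, 125274, 22),
  (171435, 6, 44201, 26),
  (171437, 6, 3563, 8),
  (171439, 6, 92634, 22),
  (171473, 6, 242759, 2),
  (171475, 6, 241735, 2),
  (171477, 6, 248154, 23),
  (171479, 6, 243779, 2),
  (171481, 6, 242767, 2),
  (171483, 6, 232733, 7),
  (171485, 6, 134645, 20),
  (171487, 6, 257461, 44),
  (171489, 5, 126123, 26),
  (171491, 6, 90494, 22),
  (171493, 7, 130211, 26),
  (171495, 6, 39339, 8),
  (171497, 6, 125306, 22),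
  (171499, 5, 220239, 17),
  (171501, 6, 36267, 8),
  (171503, 6, 92666, 22),
  (172033, 5, 131377, 22),
  (172034, 4, 6210, 25),
  (172036, 5, 65713, 22),
  (172039, 7, 30834, 25),
  (172040, 7, 98373, 24),
  (172043, 6, 153954, 25),
  (172045, 5, 178189, 38),
  (172046, 6, 178462, 7),
  (172049, 4, 155697, 22),
  (172050, 5, 38914, 25),
  (172052, 4, 90161, 22),
  (172055, 5, 343, 6),
  (172056, 6, 114704, 20),
  (172059, 6, 38235, 4),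
  (172061, 7, 100506, 23),
  (172062, 6, 145754, 2),
  (172067, 6, 208925, 24),
  (172069, 6, 24933, 10),
  (172070, 6, 188502, 12),
  (172073, 6, 215522, 25),
  (172074, 5, 192602, 12),
  (172076, 3, 156028, 5),
  (172079, 6, 143527, 19),
  (172083, 6, 189441, 13),
  (172085, 6, 125106, 25),
  (172086, 6, 16726, 6),
  (172089, 4, 114714, 20),
  (172090, 4, 155722, 4),
  (172092, 6, 29018, 37),
  (172095, 6, 21991, 21),
  (172097, 4, 73868, 23),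
  (172098, 4, 6214, 25),
  (172100, 4, 82065, 22),
  (172103, 4, 135559, 19),
  (172104, 6, 98480, 20),
  (172107, 5, 98486, 20),
  (172109, 5, 178241, 38),
  (172110, 7, 39250, 5),
  (172113, 4, 139313, 22),
  (172114, 3, 38918, 25),
  (172116, 4, 73777, 22),
  (172119, 5, 63542, 25),
  (172120, 6, 82184, 19),
  (172123, 6, 112645, 24),
  (172125, 6, 21867, 21),
  (172126, 6, 35102, 13),
  (172131, 6, 88294, 25),
  (172133, 6, 41307, 26),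
  (172134, 6, 80086, 25),
  (172137, 6, 106963, 26),
  (172138, 6, 192882, 14),
  (172140, 5, 57654, 41),
  (172143, 6, 227830, 25),
  (172147, 6, 173169, 22),
  (172149, 6, 47317, 23),
  (172150, 6, 112790, 25),
  (172153, 7, 143788, 19),
  (172154, 6, 235910, 25),
  (172156, 6, 61788, 8),
  (172159, 5, 191819, 1),
  (172163, 6, 27959, 26),
  (172165, 6, 238037, 16),
  (172166, 6, 174482, 14),
  (172169, 6, 29809, 21),
  (172170, 5, 12598, 41),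
  (172172, 6, 139740, 5),
  (172175, 6, 239069, 16),
  (172179, 5, 158775, 26),
  (172181, 6, 87215, 24),
  (172182, 5, 207042, 11),
  (172185, 4, 135404, 19),
  (172186, 4, 474, 13),
  (172188, 5, 241996, 3),
  (172191, 6, 245783, 20),
  (172193, 6, 90577, 6),
  (172194, 6, 156098, 2),
  (172196, 4, 143554, 19),
  (172199, 5, 249235, 1),
  (172200, 6, 74216, 3),
  (172203, 6, 242783, 24),
  (172205, 7, 110047, 26),
  (172206, 6, 162250, 2),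
  (172209, 6, 38970, 21),
  (172210, 6, 156114, 2),
  (172212, 5, 205172, 15),
  (172215, 6, 235578, 21),
  (172216, 6, 232647, 26),
  (172219, 6, 242911, 24),
  (172221, 6, 178445, 38),
  (172222, 6, 162266, 2),
  (172227, 4, 135621, 19),
  (172229, 4, 192834, 21),
  (172230, 6, 229541, 20),
  (172233, 4, 135652, 19),
  (172234, 6, 242138, 7),
  (172236, 3, 205276, 16),
  (172239, 5, 212173, 5),
  (172243, 6, 176241, 22),
  (172245, 5, 86108, 23),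
  (172246, 5, 51538, 41),
  (172249, 4, 92330, 23),
  (172250, 6, 196826, 8),
  (172252, 6, 198799, 26),
  (172255, 6, 38269, 25),
  (172257, 5, 143812, 19),
  (172258, 4, 229548, 20),
  (172260, 6, 90484, 11),
  (172263, 6, 126325, 2),
  (172264, 6, 147704, 15),
  (172267, 6, 229566, 20),
  (172269, 6, 220571, 22),
  (172270, 6, 235706, 11),
  (172273, 5, 178509, 38),
  (172274, 6, 213234, 8),
  (172276, 6, 205028, 2),
  (172279, 6, 38141, 25),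
  (172280, 6, 15413, 23),
  (172283, 6, 38381, 25),
  (172285, 7, 143854, 19),
  (172286, 6, 243882, 11),
  (172289, 4, 139553, 22),
  (172290, 5, 32846, 25),
  (172292, 5, 73889, 22),
  (172295, 6, 246250, 21),
  (172296, 6, 16808, 19),
  (172299, 4, 98422, 20),
  (172301, 4, 200742, 19),
  (172302, 6, 5537, 21),
  (172305, 4, 147505, 22),
  (172306, 4, 78, 25),
  (172308, 4, 81969, 22),
  (172311, 6, 200719, 19),
  (172312, 6, 213384, 19),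
  (172315, 5, 178517, 38),
  (172317, 3, 155718, 25),
  (172318, 6, 178462, 16),
  (172323, 6, 1393, 8),
  (172325, 6, 182638, 21),
  (172326, 6, 155734, 6),
  (172329, 6, 245830, 25),
  (172330, 6, 5285, 21),
  (172332, 5, 198830, 39),
  (172335, 6, 42365, 16),
  (172339, 6, 120842, 21),
  (172341, 4, 90182, 25),
  (172342, 6, 54537, 26),
  (172345, 4, 213062, 25),
  (172346, 6, 50293, 22),
  (172348, 3, 204870, 25),
  (172351, 6, 34173, 16),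
  (172353, 4, 155905, 22),
  (172354, 4, 34890, 25),
  (172356, 4, 90241, 22),
  (172359, 5, 343, 3),
  (172360, 6, 12294, 23),
  (172363, 5, 209286, 23),
  (172365, 6, 53381, 24),
  (172366, 6, 6486, 10),
  (172369, 4, 131121, 22),
  (172370, 5, 2122, 25),
  (172372, 4, 65585, 22),
  (172375, 6, 114887, 20),
  (172376, 7, 114896, 20),
  (172379, 6, 211330, 23),
  (172381, 5, 349, 16),
  (172382, 6, 178242, 5),
  (172387, 6, 121062, 21),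
  (172389, 6, 35125, 8),
  (172390, 6, 110940, 38),
  (172393, 5, 192529, 6),
  (172394, 3, 156026, 8),
  (172396, 6, 147548, 7),
  (172399, 6, 256074, 25),
  (172403, 6, 24931, 3),
  (172405, 6, 24933, 3),
  (172406, 6, 215050, 21),
  (172409, 5, 377, 16),
  (172410, 4, 114908, 20),
  (172412, 4, 380, 16),
  (172415, 6, 195891, 7),
  (172419, 4, 229478, 20),
  (172421, 6, 146697, 26),
  (172422, 6, 200771, 19),
  (172425, 6, 145705, 22),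
  (172426, 6, 13489, 21),
  (172428, 6, 205260, 14),
  (172431, 6, 211433, 22),
  (172435, 6, 245830, 20),
  (172437, 5, 89259, 24),
  (172438, 6, 74070, 15),
  (172441, 5, 241921, 13),
  (172442, 6, 37266, 14),
  (172444, 3, 205276, 14),
  (172447, 7, 97545, 26),
  (172449, 6, 155873, 10),
  (172450, 5, 213330, 4),
  (172452, 5, 205172, 1),
  (172455, 5, 178265, 38),
  (172456, 6, 15403, 22),
  (172459, 6, 177403, 4),
  (172461, 6, 208998, 19),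
  (172462, 5, 194790, 1),
  (172465, 6, 36071, 25),
  (172466, 6, 205282, 11),
  (172468, 5, 153626, 21),
  (172471, 6, 123239, 3),
  (172472, 6, 36295, 25),
  (172475, 5, 242867, 12),
  (172477, 6, 190957, 15),
  (172478, 6, 211434, 11),
  (172483, 6, 160073, 22),
  (172485, 6, 35221, 8),
  (172486, 4, 192804, 23),
  (172489, 5, 241921, 7),
  (172490, 3, 205274, 8),
  (172492, 5, 201058, 19),
  (172495, 6, 240733, 2),
  (172499, 4, 114714, 21),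
  (172501, 6, 82012, 23),
  (172502, 6, 147548, 23),
  (172505, 6, 77059, 26),
  (172506, 6, 143570, 1),
  (172508, 6, 66012, 16),
  (172511, 6, 212445, 5),
  (172513, 6, 175363, 26),
  (172514, 6, 156114, 12),
  (172516, 6, 156116, 12),
  (172519, 5, 250177, 44),
  (172520, 6, 34183, 25),
  (172523, 6, 229630, 20),
  (172525, 6, 209254, 19),
  (172526, 6, 248094, 4),
  (172529, 6, 70917, 24),
  (172530, 4, 83994, 21),
  (172532, 6, 90468, 3),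
  (172535, 6, 189621, 10),
  (172536, 6, 74104, 6),
  (172539, 6, 193721, 10),
  (172541, 6, 120069, 24),
  (172542, 6, 244138, 11),
  (173061, 5, 116813, 39),
  (173063, 6, 100391, 20),
  (173065, 6, 177227, 5),
  (173067, 7, 100406, 20),
  (173077, 6, 63546, 25),
  (173079, 6, 168106, 21),
  (173081, 4, 116754, 20),
  (173083, 6, 116758, 20),
  (173089, 6, 189507, 5),
  (173091, 6, 24931, 10),
  (173101, 6, 60735, 2),
  (173103, 6, 194639, 5),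
  (173105, 5, 184331, 40),
  (173107, 6, 39082, 21),
  (173117, 6, 87399, 21),
  (173119, 6, 116767, 20),
  (173125, 6, 30846, 25),
  (173127, 4, 237708, 23),
  (173129, 6, 182545, 22),
  (173131, 5, 177491, 14),
  (173141, 4, 201052, 23),
  (173143, 4, 164010, 21),
  (173145, 5, 76170, 23),
  (173147, 6, 182574, 25),
  (173153, 6, 198813, 19),
  (173155, 6, 155715, 5),
  (173165, 5, 249235, 22),
  (173167, 6, 184407, 13),
  (173169, 5, 371, 4),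
  (173171, 5, 184619, 40),
  (173181, 5, 6523, 4),
  (173183, 6, 116895, 20),
  (173185, 6, 231458, 20),
  (173187, 5, 213180, 23),
  (173197, 6, 115134, 23),
  (173199, 6, 145717, 37),
  (173201, 4, 102586, 21),
  (173203, 7, 94492, 23),
  (173213, 6, 39387, 4),
  (173215, 6, 247831, 20),
  (173221, 6, 191921, 14),
  (173223, 5, 25063, 10),
  (173225, 6, 234591, 24),
  (173227, 6, 242767, 24),
  (173237, 6, 235706, 21),
  (173239, 6, 247823, 20),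
  (173241, 6, 36333, 25),
  (173243, 6, 95479, 21),
  (173249, 6, 90540, 23),
  (173251, 7, 238593, 7),
  (173261, 6, 231603, 20),
  (173263, 6, 92575, 26),
  (173265, 5, 238659, 13),
  (173267, 4, 247942, 20),
  (173277, 6, 34173, 25),
  (173279, 6, 7641, 4),
  (173285, 6, 195014, 21),
  (173287, 5, 249297, 1),
  (173289, 5, 147707, 15),
  (173291, 6, 95485, 21),
  (173301, 6, 118135, 2),
  (173303, 6, 38133, 25),
  (173305, 6, 239863, 26),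
  (173307, 6, 247966, 20),
  (173317, 6, 3471, 19),
  (173319, 5, 175109, 12),
  (173321, 6, 184390, 25),
  (173323, 6, 38235, 3),
  (173333, 6, 36113, 14),
  (173335, 6, 116807, 20),
  (173337, 4, 72082, 23),
  (173339, 6, 151630, 25),
  (173345, 6, 173347, 22),
  (173347, 5, 371, 8),
  (173357, 6, 191561, 17),
  (173359, 5, 6519, 8),
  (173361, 6, 156019, 7),
  (173363, 6, 145805, 23),
  (173373, 6, 62829, 3),
  (173375, 6, 163185, 7),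
  (173381, 6, 63554, 25),
  (173383, 6, 63562, 25),
  (173385, 6, 186434, 25),
  (173387, 6, 37013, 24),
  (173397, 6, 29995, 26),
  (173399, 5, 343, 16),
  (173401, 6, 110613, 24),
  (173403, 5, 347, 16),
  (173409, 6, 120898, 25),
  (173411, 6, 173347, 26),
  (173421, 6, 178279, 12),
  (173423, 6, 158795, 17),
  (173425, 6, 132209, 22),
  (173427, 5, 371, 16),
  (173437, 5, 128299, 26),
  (173439, 6, 179677, 23),
  (173441, 6, 176425, 22),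
  (173443, 5, 238659, 17),
  (173453, 6, 36159, 25),
  (173455, 6, 250038, 23),
  (173457, 6, 151665, 22),
  (173459, 5, 90396, 23),
  (173469, 6, 97577, 26),
  (173471, 6, 117057, 39),
  (173477, 5, 116941, 39),
  (173479, 5, 184489, 40),
  (173481, 6, 236635, 24),
  (173483, 5, 116877, 39),
  (173493, 6, 247883, 20),
  (173495, 6, 241049, 19),
  (173497, 5, 128361, 3),
  (173499, 6, 128363, 3),
  (173505, 6, 94628, 23),
  (173507, 6, 142627, 26),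
  (173517, 6, 177295, 10),
  (173519, 6, 39319, 8),
  (173521, 6, 213276, 23),
  (173523, 6, 11555, 26),
  (173533, 6, 79227, 21),
  (173535, 6, 79355, 21),
  (173541, 6, 195046, 21),
  (173543, 6, 21909, 24),
  (173545, 6, 231674, 20),
  (173547, 5, 145729, 37),
  (173557, 6, 241057, 11),
  (173559, 6, 38135, 25),
  (173561, 6, 248026, 20),
  (173563, 6, 259377, 7),
  (174083, 6, 22642, 25),
  (174087, 5, 233633, 40),
  (174089, 7, 84398, 19),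
  (174090, 6, 136353, 19),
  (174093, 6, 65758, 23),
  (174094, 5, 172372, 37),
  (174099, 4, 241692, 23),
  (174103, 5, 175109, 13),
  (174105, 6, 39261, 4),
  (174106, 7, 106741, 24),
  (174109, 4, 215306, 19),
  (174110, 6, 6486, 6),
  (174113, 6, 14529, 23),
  (174114, 6, 54627, 26),
  (174117, 6, 182350, 21),
  (174118, 5, 57670, 17),
  (174123, 6, 241789, 24),
  (174127, 6, 227810, 25),
  (174129, 6, 59733, 17),
  (174130, 3, 155718, 4),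
  (174133, 4, 125090, 25),
  (174134, 6, 139366, 11),
  (174139, 6, 152807, 21),
  (174143, 5, 191595, 15),
  (174147, 7, 119234, 21),
  (174151, 6, 205260, 23),
  (174153, 5, 215214, 19),
  (174154, 5, 33044, 37),
  (174157, 6, 88330, 19),
  (174158, 6, 59585, 20),
  (174163, 6, 136589, 19),
  (174167, 6, 172273, 22),
  (174169, 5, 182582, 25),
  (174170, 6, 178462, 2),
  (174173, 6, 104485, 24),
  (174174, 6, 136619, 19),
  (174177, 4, 198814, 19),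
  (174178, 6, 190726, 2),
  (174181, 6, 186438, 21),
  (174182, 4, 219270, 21),
  (174187, 5, 115891, 39),
  (174191, 6, 192887, 14),
  (174193, 6, 166186, 21),
  (174194, 5, 174374, 43),
  (174197, 5, 144539, 38),
  (174198, 6, 174390, 15),
  (174203, 6, 144813, 19),
  (174207, 6, 144815, 19),
  (174209, 6, 100814, 19),
  (174210, 6, 237574, 16),
  (174213, 6, 82172, 23),
  (174214, 6, 240018, 7),
  (174219, 6, 241113, 16),
  (174223, 6, 167131, 15),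
  (174225, 5, 168250, 21),
  (174226, 3, 204870, 4),
  (174229, 6, 44149, 25),
  (174230, 4, 69946, 21),
  (174235, 6, 248314, 23),
  (174239, 5, 76997, 41),
  (174243, 6, 125390, 21),
  (174247, 6, 256206, 21),
  (174249, 7, 160885, 21),
  (174250, 6, 194778, 12),
  (174253, 6, 113057, 12),
  (174254, 5, 260138, 16),
  (174259, 6, 235834, 21),
  (174263, 5, 233697, 40),
  (174265, 6, 121334, 19),
  (174266, 6, 128245, 22),
  (174269, 6, 117049, 2),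
  (174270, 5, 10390, 41),
  (174273, 6, 42021, 25),
  (174274, 6, 197078, 10),
  (174277, 6, 7333, 24),
  (174278, 6, 156012, 23),
  (174283, 6, 46381, 25),
  (174287, 6, 208349, 16),
  (174289, 6, 145431, 26),
  (174290, 6, 237574, 4),
  (174293, 6, 74069, 17),
  (174294, 6, 74070, 17),
  (174299, 6, 77175, 20),
  (174303, 7, 161275, 21),
  (174307, 6, 249303, 1),
  (174311, 6, 247255, 1),
  (174313, 6, 147709, 15),
  (174314, 5, 45262, 41),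
  (174317, 6, 129306, 19),
  (174318, 6, 129430, 6),
  (174323, 5, 174109, 37),
  (174327, 5, 88257, 42),
  (174329, 6, 155885, 15),
  (174330, 5, 67734, 41),
  (174333, 6, 178593, 8),
  (174334, 5, 195041, 20),
  (174339, 7, 115178, 21),
  (174343, 4, 245994, 21),
  (174345, 6, 188502, 25),
  (174346, 6, 136353, 21),
  (174349, 6, 39261, 3),
  (174350, 6, 178242, 1),
  (174355, 6, 250122, 21),
  (174359, 6, 16478, 25),
  (174361, 6, 155734, 25),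
  (174362, 6, 201769, 19),
  (174365, 5, 88293, 42),
  (174366, 5, 8342, 41),
  (174369, 6, 182545, 13),
  (174370, 6, 133494, 11),
  (174373, 6, 47241, 23),
  (174374, 4, 98398, 25),
  (174379, 6, 254046, 25),
  (174383, 5, 144771, 38),
  (174385, 6, 38059, 20),
  (174386, 5, 57670, 10),
  (174389, 6, 82006, 25),
  (174390, 5, 88326, 42),
  (174395, 6, 36217, 16),
  (174399, 6, 162941, 10),
  (174403, 4, 242116, 23),
  (174407, 5, 175109, 10),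
  (174409, 6, 136297, 21),
  (174410, 6, 6490, 3),
  (174413, 4, 37029, 24),
  (174414, 7, 202019, 19),
  (174419, 4, 246026, 21),
  (174423, 6, 19681, 20),
  (174425, 6, 118821, 24),
  (174426, 5, 65686, 41),
  (174429, 6, 80066, 23),
  (174430, 6, 136619, 21),
  (174433, 7, 133278, 19),
  (174434, 6, 16726, 10),
  (174437, 4, 80282, 19),
  (174438, 3, 155718, 17),
  (174443, 6, 256090, 25),
  (174447, 6, 247898, 25),
  (174449, 6, 14557, 23),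
  (174450, 4, 215306, 21),
  (174453, 6, 51466, 21),
  (174454, 6, 34033, 22),
  (174459, 6, 178479, 11),
  (174463, 6, 3453, 16),
  (174465, 5, 76867, 41),
  (174466, 6, 51621, 20),
  (174469, 5, 86260, 23),
  (174470, 6, 197078, 11),
  (174475, 6, 224521, 26),
  (174479, 6, 211305, 22),
  (174481, 6, 35221, 14),
  (174482, 5, 174182, 37),
  (174485, 6, 231818, 19),
  (174486, 6, 237574, 5),
  (174491, 6, 39319, 14),
  (174495, 6, 219634, 23),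
  (174499, 6, 175351, 4),
  (174503, 6, 116119, 1),
  (174505, 5, 174413, 37),
  (174506, 5, 240755, 24),
  (174509, 5, 88165, 42),
  (174510, 5, 67602, 41),
  (174515, 6, 252186, 21),
  (174519, 6, 248881, 2),
  (174521, 6, 125325, 1),
  (174522, 6, 192758, 1),
  (174525, 6, 256410, 19),
  (174526, 6, 194802, 1),
  (174529, 6, 166094, 19),
  (174530, 5, 88458, 42),
  (174533, 6, 5285, 24),
  (174534, 3, 204870, 17),
  (174539, 6, 144633, 21),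
  (174543, 6, 202087, 19),
  (174545, 4, 180506, 21),
  (174546, 6, 213274, 21),
  (174549, 6, 42103, 25),
  (174550, 6, 33238, 14),
  (174555, 5, 144521, 38),
  (174559, 6, 159201, 20),
  (174563, 6, 118231, 1),
  (174567, 6, 260326, 21),
  (174569, 5, 88169, 42),
  (174570, 5, 163860, 37),
  (174573, 6, 129434, 19),
  (174574, 6, 97355, 22),
  (174579, 6, 191665, 10),
  (174583, 7, 47549, 23),
  (174585, 6, 252049, 6),
  (174586, 5, 254116, 37),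
  (174589, 6, 113923, 26),
  (174590, 6, 242094, 11),
  (175105, 4, 98780, 23),
  (175107, 4, 18554, 25),
  (175109, 4, 86093, 39),
  (175111, 6, 245834, 21),
  (175121, 4, 233898, 21),
  (175123, 6, 51258, 25),
  (175125, 5, 117989, 20),
  (175127, 6, 198923, 19),
  (175145, 5, 193615, 5),
  (175147, 6, 32083, 6),
  (175149, 6, 227818, 25),
  (175151, 5, 45389, 40),
  (175161, 6, 233725, 24),
  (175163, 6, 241901, 24),
  (175165, 6, 242939, 26),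
  (175167, 6, 38269, 4),
  (175169, 6, 198799, 19),
  (175171, 5, 175109, 7),
  (175173, 6, 246033, 22),
  (175175, 5, 45073, 40),
  (175185, 5, 175109, 11),
  (175187, 6, 68707, 20),
  (175189, 5, 343, 4),
  (175191, 6, 33194, 21),
  (175209, 6, 183699, 22),
  (175211, 5, 168043, 44),
  (175213, 5, 45165, 40),
  (175215, 6, 161867, 5),
  (175225, 5, 252350, 25),
  (175227, 6, 194627, 13),
  (175229, 6, 112949, 24),
  (175231, 6, 256430, 25),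
  (175241, 6, 241115, 16),
  (175243, 6, 232861, 1),
  (175245, 6, 235833, 22),
  (175247, 6, 81367, 6),
  (175257, 5, 212173, 11),
  (175259, 6, 248058, 23),
  (175261, 5, 168291, 44),
  (175263, 6, 128207, 24),
  (175265, 6, 44205, 25),
  (175267, 6, 126279, 17),
  (175269, 6, 190670, 21),
  (175271, 6, 178593, 23),
  (175281, 5, 45121, 40),
  (175283, 6, 139751, 8),
  (175285, 6, 104890, 21),
  (175287, 6, 251365, 20),
  (175305, 6, 208347, 16),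
  (175307, 6, 112069, 12),
  (175309, 6, 226681, 21),
  (175311, 6, 226809, 21),
  (175321, 6, 125418, 23),
  (175323, 6, 243779, 13),
  (175325, 6, 244807, 13),
  (175327, 6, 47519, 10),
  (175329, 6, 106983, 12),
  (175331, 6, 185819, 22),
  (175333, 5, 248919, 13),
  (175335, 6, 260166, 21),
  (175345, 5, 97589, 24),
  (175347, 6, 93527, 17),
  (175349, 6, 81205, 24),
  (175351, 5, 45137, 40),
  (175361, 6, 102868, 23),
  (175363, 5, 343, 8),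
  (175365, 6, 53334, 25),
  (175367, 4, 200916, 23),
  (175377, 5, 343, 9),
  (175379, 6, 36003, 20),
  (175381, 5, 237916, 23),
  (175383, 4, 53642, 21),
  (175401, 6, 162923, 10),
  (175403, 6, 238889, 26),
  (175405, 6, 7539, 8),
  (175407, 6, 242977, 26),
  (175417, 6, 162167, 7),
  (175419, 6, 60685, 1),
  (175421, 5, 252121, 24),
  (175423, 6, 217182, 25),
  (175425, 4, 53730, 21),
  (175427, 6, 63578, 25),
  (175429, 6, 19653, 20),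
  (175431, 6, 72075, 19),
  (175441, 6, 30802, 25),
  (175443, 4, 9515, 26),
  (175445, 5, 114861, 42),
  (175447, 5, 114913, 42),
  (175465, 5, 168221, 44),
  (175467, 6, 191939, 22),
  (175469, 6, 163147, 5),
  (175471, 6, 202221, 21),
  (175481, 6, 127285, 24),
  (175483, 5, 167971, 44),
  (175485, 6, 219218, 25),
  (175487, 6, 219226, 25),
  (175497, 6, 44335, 25),
  (175499, 6, 208169, 26),
  (175501, 6, 238669, 17),
  (175503, 5, 45381, 40),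
  (175513, 6, 240733, 17),
  (175515, 5, 86285, 39),
  (175517, 7, 141453, 38),
  (175519, 6, 38295, 14),
  (175521, 5, 45065, 40),
  (175523, 5, 114797, 42),
  (175525, 5, 86221, 39),
  (175527, 6, 243051, 22),
  (175537, 5, 141745, 38),
  (175539, 6, 186778, 21),
  (175541, 6, 220645, 20),
  (175543, 6, 185521, 22),
  (175561, 5, 45397, 40),
  (175563, 6, 258278, 23),
  (175565, 5, 140441, 37),
  (175567, 6, 121227, 19),
  (175577, 5, 168213, 44),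
  (175579, 6, 242901, 12),
  (175581, 5, 243923, 12),
  (175583, 6, 211419, 5),
  (175585, 6, 63974, 21),
  (175587, 6, 129382, 21),
  (175589, 5, 194790, 21),
  (175591, 5, 45081, 40),
  (175601, 6, 145661, 23),
  (175603, 7, 105771, 20),
  (175605, 6, 178365, 23),
  (175607, 6, 159201, 15),
  (176131, 6, 106534, 20),
  (176133, 6, 151686, 19),
  (176134, 6, 174366, 7),
  (176139, 5, 85281, 41),
  (176141, 6, 118829, 24),
  (176142, 6, 122933, 24),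
  (176147, 5, 208926, 23),
  (176149, 6, 86253, 24),
  (176150, 6, 6486, 13),
  (176155, 5, 347, 6),
  (176157, 5, 349, 6),
  (176158, 6, 123061, 24),
  (176161, 7, 84450, 25),
  (176162, 6, 3191, 22),
  (176164, 6, 24940, 10),
  (176167, 6, 162923, 7),
  (176169, 6, 215266, 25),
  (176170, 5, 176586, 44),
  (176172, 6, 245797, 24),
  (176175, 6, 124283, 26),
  (176177, 4, 117154, 25),
  (176178, 6, 159810, 4),
  (176180, 6, 172332, 17),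
  (176183, 6, 193549, 13),
  (176185, 5, 122906, 20),
  (176186, 6, 139642, 15),
  (176188, 5, 59670, 37),
  (176191, 6, 257141, 22),
  (176195, 6, 118979, 21),
  (176197, 5, 85281, 43),
  (176198, 6, 217475, 21),
  (176203, 6, 14738, 23),
  (176205, 6, 157814, 25),
  (176206, 6, 35162, 5),
  (176211, 5, 200734, 23),
  (176213, 6, 139419, 26),
  (176214, 6, 124997, 24),
  (176219, 6, 174197, 22),
  (176221, 6, 39261, 2),
  (176222, 6, 178190, 4),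
  (176225, 6, 155721, 5),
  (176226, 4, 106668, 20),
  (176228, 6, 192820, 5),
  (176231, 6, 158797, 5),
  (176233, 6, 106682, 20),
  (176234, 6, 68651, 21),
  (176236, 6, 172332, 15),
  (176239, 6, 144765, 16),
  (176241, 5, 377, 4),
  (176242, 5, 203050, 41),
  (176244, 6, 192892, 4),
  (176247, 6, 129462, 25),
  (176249, 6, 142389, 22),
  (176250, 6, 14615, 23),
  (176252, 4, 239766, 25),
  (176255, 6, 7539, 4),
  (176257, 7, 96286, 23),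
  (176258, 6, 196826, 11),
  (176260, 6, 3471, 26),
  (176263, 6, 240845, 5),
  (176265, 6, 204873, 7),
  (176266, 6, 242066, 7),
  (176268, 4, 151778, 19),
  (176271, 6, 207947, 7),
  (176273, 7, 253954, 20),
  (176274, 5, 209242, 15),
  (176276, 6, 242076, 4),
  (176279, 6, 242701, 13),
  (176281, 6, 207895, 26),
  (176282, 4, 14630, 23),
  (176284, 6, 66012, 6),
  (176287, 6, 128191, 24),
  (176291, 6, 94683, 6),
  (176293, 6, 246141, 3),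
  (176294, 6, 52719, 26),
  (176299, 6, 185595, 15),
  (176301, 6, 186621, 15),
  (176302, 6, 159971, 19),
  (176307, 5, 118989, 42),
  (176309, 7, 48359, 23),
  (176310, 5, 252146, 8),
  (176315, 6, 82395, 6),
  (176317, 6, 159982, 19),
  (176318, 6, 255159, 24),
  (176321, 6, 88094, 23),
  (176322, 6, 94339, 21),
  (176324, 5, 176586, 40),
  (176327, 6, 219613, 22),
  (176329, 6, 152036, 19),
  (176330, 6, 143570, 12),
  (176332, 6, 19653, 24),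
  (176335, 6, 174555, 14),
  (176337, 5, 473, 4),
  (176338, 6, 37266, 13),
  (176340, 4, 152010, 19),
  (176343, 6, 3547, 4),
  (176345, 5, 176413, 40),
  (176346, 5, 219302, 43),
  (176348, 6, 205004, 2),
  (176351, 6, 238669, 13),
  (176355, 6, 112107, 12),
  (176357, 6, 113133, 12),
  (176358, 6, 237741, 20),
  (176363, 6, 101435, 21),
  (176365, 6, 24005, 24),
  (176366, 6, 237757, 20),
  (176371, 6, 130245, 21),
  (176373, 6, 212017, 22),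
  (176374, 6, 113777, 22),
  (176379, 6, 81221, 24),
  (176381, 6, 121213, 2),
  (176382, 6, 169437, 25),
  (176387, 6, 114923, 21),
  (176389, 5, 188742, 25),
  (176390, 6, 178242, 17),
  (176395, 6, 139621, 22),
  (176397, 5, 57670, 25),
  (176398, 6, 218123, 21),
  (176403, 6, 147790, 25),
  (176405, 6, 73822, 23),
  (176406, 6, 35102, 7),
  (176411, 7, 16718, 25),
  (176413, 4, 217134, 19),
  (176414, 6, 217131, 19),
  (176417, 7, 225284, 19),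
  (176418, 6, 192882, 8),
  (176420, 5, 188764, 12),
  (176423, 6, 194627, 17),
  (176425, 5, 377, 8),
  (176426, 4, 106620, 20),
  (176428, 6, 37172, 17),
  (176431, 6, 3453, 8),
  (176433, 6, 225292, 19),
  (176434, 6, 61770, 10),
  (176436, 6, 160084, 14),
  (176439, 6, 249325, 21),
  (176441, 5, 122970, 20),
  (176442, 5, 192602, 17),
  (176444, 6, 147548, 6),
  (176447, 5, 119049, 42),
  (176451, 5, 347, 3),
  (176453, 5, 349, 3),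
  (176454, 6, 217507, 21),
  (176459, 6, 38235, 1),
  (176461, 6, 144779, 26),
  (176462, 6, 145754, 8),
  (176467, 4, 123078, 20),
  (176469, 7, 65630, 23),
  (176470, 6, 218529, 21),
  (176475, 7, 123094, 20),
  (176477, 7, 217390, 19),
  (176478, 6, 213003, 21),
  (176481, 6, 158983, 22),
  (176482, 6, 16762, 3),
  (176484, 4, 239938, 25),
  (176487, 6, 252391, 21),
  (176489, 5, 176413, 44),
  (176490, 6, 155754, 1),
  (176492, 5, 219302, 41),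
  (176495, 6, 161867, 17),
  (176497, 6, 134193, 22),
  (176498, 6, 89253, 21),
  (176500, 6, 24940, 3),
  (176503, 7, 225551, 19),
  (176505, 6, 84290, 25),
  (176506, 6, 192882, 16),
  (176508, 6, 82245, 24),
  (176511, 6, 92490, 25),
  (176513, 4, 92190, 23),
  (176514, 6, 143570, 13),
  (176516, 6, 237580, 8),
  (176519, 6, 243779, 17),
  (176521, 5, 473, 8),
  (176522, 6, 242138, 8),
  (176524, 5, 203050, 43),
  (176527, 6, 47594, 23),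
  (176529, 6, 254018, 20),
  (176530, 6, 237850, 16),
  (176532, 6, 233564, 11),
  (176535, 6, 97531, 24),
  (176537, 6, 11649, 26),
  (176538, 6, 196826, 6),
  (176540, 6, 117923, 24),
  (176543, 7, 254039, 20),
  (176547, 7, 171183, 25),
  (176549, 5, 118989, 39),
  (176550, 5, 219478, 4),
  (176555, 6, 191873, 26),
  (176557, 6, 252971, 24),
  (176558, 6, 187785, 26),
  (176563, 6, 126337, 26),
  (176565, 6, 220209, 22),
  (176566, 7, 225355, 19),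
  (176571, 6, 194027, 15),
  (176573, 6, 195053, 15),
  (176574, 5, 127334, 3),
  (176577, 5, 217412, 19),
  (176578, 5, 59670, 38),
  (176580, 6, 139740, 12),
  (176583, 6, 228747, 26),
  (176585, 6, 142723, 26),
  (176586, 4, 14650, 23),
  (176588, 6, 165143, 25),
  (176591, 6, 36253, 8),
  (176593, 5, 217420, 19),
  (176594, 6, 74058, 3),
  (176596, 5, 241996, 13),
  (176599, 5, 119049, 39),
  (176601, 6, 14526, 23),
  (176602, 6, 81947, 21),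
  (176604, 6, 242076, 14),
  (176607, 6, 47614, 23),
  (176611, 6, 237806, 20),
  (176613, 6, 82301, 3),
  (176614, 6, 227751, 21),
  (176619, 6, 120283, 1),
  (176621, 6, 183323, 21),
  (176622, 6, 47483, 23),
  (176627, 6, 242939, 12),
  (176629, 6, 243965, 12),
  (176630, 5, 250014, 6),
  (176635, 6, 251001, 2),
  (176637, 6, 129481, 1),
  (176638, 6, 47487, 23),
  (177153, 5, 102401, 40),
  (177155, 4, 114763, 21),
  (177161, 4, 145538, 23),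
  (177163, 6, 38059, 21),
  (177169, 6, 124930, 20),
  (177171, 6, 78029, 24),
  (177177, 6, 102571, 21),
  (177179, 6, 182314, 25),
  (177189, 6, 96762, 25),
  (177191, 6, 92666, 25),
  (177197, 5, 191801, 14),
  (177199, 6, 230903, 22),
  (177205, 6, 169335, 16),
  (177207, 6, 36217, 4),
  (177213, 6, 39283, 4),
  (177215, 6, 208185, 19),
  (177217, 5, 53665, 44),
  (177219, 4, 71966, 23),
  (177225, 6, 153710, 25),
  (177227, 5, 102529, 40),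
  (177233, 5, 347, 4),
  (177235, 5, 119873, 21),
  (177241, 6, 38235, 2),
  (177243, 4, 125078, 20),
  (177253, 6, 96766, 25),
  (177255, 5, 97593, 19),
  (177261, 6, 216223, 19),
  (177263, 6, 191867, 14),
  (177269, 5, 193615, 13),
  (177271, 6, 240689, 22),
  (177277, 5, 260286, 25),
  (177279, 6, 183675, 14),
  (177285, 6, 243159, 16),
  (177287, 6, 242135, 16),
  (177293, 6, 13767, 10),
  (177295, 5, 143763, 38),
  (177301, 6, 225630, 23),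
  (177303, 6, 249129, 19),
  (177309, 6, 238607, 13),
  (177311, 6, 178662, 23),
  (177313, 6, 250259, 1),
  (177315, 6, 60887, 26),
  (177321, 7, 145571, 23),
  (177323, 6, 126295, 26),
  (177329, 5, 102465, 40),
  (177331, 6, 126029, 21),
  (177337, 6, 192747, 15),
  (177339, 6, 139755, 8),
  (177349, 6, 42383, 10),
  (177351, 7, 56533, 24),
  (177357, 5, 102507, 40),
  (177359, 6, 178674, 23),
  (177365, 6, 242767, 13),
  (177367, 5, 53571, 44),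
  (177373, 6, 178422, 23),
  (177375, 6, 7633, 4),
  (177377, 6, 146611, 23),
  (177379, 6, 129095, 21),
  (177385, 6, 145587, 23),
  (177387, 5, 134473, 43),
  (177393, 6, 235765, 19),
  (177395, 6, 256142, 20),
  (177401, 5, 252117, 19),
  (177403, 5, 102593, 40),
  (177409, 6, 71769, 24),
  (177411, 5, 76062, 23),
  (177417, 6, 53574, 25),
  (177419, 5, 347, 8),
  (177425, 5, 347, 9),
  (177427, 6, 124998, 20),
  (177433, 5, 177491, 5),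
  (177435, 4, 125014, 20),
  (177445, 6, 108651, 20),
  (177447, 6, 241127, 22),
  (177453, 6, 127302, 25),
  (177455, 6, 127310, 25),
  (177461, 6, 162171, 7),
  (177463, 5, 102565, 40),
  (177469, 5, 53539, 44),
  (177471, 6, 146787, 11),
  (177473, 6, 53475, 21),
  (177475, 6, 186698, 25),
  (177481, 4, 108786, 20),
  (177483, 6, 145818, 23),
  (177489, 6, 91555, 26),
  (177491, 4, 172317, 37),
  (177497, 6, 77909, 24),
  (177499, 4, 145822, 23),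
  (177509, 6, 194859, 7),
  (177511, 6, 162883, 17),
  (177517, 5, 83237, 39),
  (177519, 6, 21879, 3),
  (177525, 5, 83027, 39),
  (177527, 6, 227658, 25),
  (177533, 6, 62891, 26),
  (177535, 5, 191801, 7),
  (177541, 6, 89211, 24),
  (177543, 5, 84359, 42),
  (177549, 6, 251035, 21),
  (177551, 6, 239735, 20),
  (177557, 6, 189929, 21),
  (177559, 6, 241935, 13),
  (177565, 6, 238863, 13),
  (177567, 6, 111943, 3),
  (177569, 5, 102409, 40),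
  (177571, 6, 241057, 26),
  (177577, 6, 239738, 20),
  (177579, 5, 143445, 38),
  (177585, 6, 256074, 20),
  (177587, 5, 242873, 12),
  (177593, 6, 60833, 26),
  (177595, 6, 259163, 17),
  (177605, 5, 11475, 41),
  (177607, 6, 212035, 17),
  (177613, 5, 102501, 40),
  (177615, 6, 240845, 12),
  (177621, 6, 194017, 21),
  (177623, 6, 256199, 20),
  (177629, 6, 187591, 19),
  (177631, 6, 211415, 5),
  (177633, 5, 239850, 20),
  (177635, 5, 129127, 21),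
  (177641, 6, 239866, 20),
  (177643, 5, 102537, 40),
  (177649, 6, 146623, 23),
  (177651, 6, 256206, 20),
  (177657, 6, 193715, 10),
  (177659, 6, 169447, 25),
  (178177, 5, 102401, 44),
  (178178, 6, 73845, 24),
  (178181, 4, 86093, 24),
  (178182, 6, 152707, 19),
  (178185, 5, 53665, 40),
  (178186, 5, 73862, 43),
  (178189, 4, 157794, 25),
  (178190, 5, 143364, 37),
  (178193, 6, 50505, 21),
  (178194, 6, 6490, 6),
  (178197, 5, 59682, 25),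
  (178198, 6, 125169, 20),
  (178201, 6, 102573, 24),
  (178202, 6, 125173, 22),
  (178205, 6, 47238, 23),
  (178206, 6, 6490, 13),
  (178211, 6, 194879, 14),
  (178215, 6, 192831, 14),
  (178219, 6, 137335, 11),
  (178223, 7, 105771, 21),
  (178227, 6, 118221, 21),
  (178231, 5, 84359, 39),
  (178235, 5, 11475, 43),
  (178239, 6, 191501, 13),
  (178241, 4, 18806, 25),
  (178242, 5, 196742, 41),
  (178245, 6, 39141, 24),
  (178246, 5, 65686, 43),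
  (178249, 6, 14546, 23),
  (178250, 6, 197931, 21),
  (178253, 5, 102529, 44),
  (178254, 6, 178242, 16),
  (178257, 6, 102430, 23),
  (178258, 6, 174366, 2),
  (178261, 5, 349, 4),
  (178262, 6, 178462, 15),
  (178265, 4, 219270, 19),
  (178266, 6, 92261, 24),
  (178269, 6, 190502, 25),
  (178270, 6, 35102, 6),
  (178275, 6, 165951, 11),
  (178279, 5, 143763, 37),
  (178283, 5, 102507, 44),
  (178287, 6, 227558, 25),
  (178291, 6, 129381, 24),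
  (178295, 6, 161167, 19),
  (178299, 5, 102501, 44),
  (178303, 6, 162923, 15),
  (178307, 6, 260126, 23),
  (178311, 6, 260190, 23),
  (178315, 6, 14818, 23),
  (178319, 5, 249297, 20),
  (178323, 6, 152781, 19),
  (178327, 6, 163007, 26),
  (178331, 6, 242901, 5),
  (178335, 6, 240653, 13),
  (178337, 6, 127285, 2),
  (178338, 6, 211306, 15),
  (178341, 6, 204095, 22),
  (178342, 5, 63978, 1),
  (178345, 6, 175525, 25),
  (178346, 5, 100670, 5),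
  (178349, 6, 250895, 24),
  (178350, 5, 14842, 13),
  (178353, 5, 102409, 44),
  (178354, 6, 88538, 6),
  (178357, 6, 162993, 22),
  (178358, 6, 224397, 21),
  (178361, 5, 121302, 19),
  (178362, 5, 75906, 43),
  (178365, 5, 251023, 24),
  (178366, 6, 106696, 44),
  (178371, 5, 212433, 16),
  (178375, 6, 31167, 26),
  (178379, 6, 93543, 20),
  (178383, 6, 212445, 16),
  (178387, 6, 249886, 23),
  (178391, 6, 249950, 23),
  (178395, 5, 83237, 42),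
  (178399, 6, 100767, 6),
  (178401, 7, 173221, 25),
  (178402, 5, 254116, 39),
  (178405, 6, 220447, 22),
  (178406, 5, 102622, 43),
  (178409, 6, 173477, 25),
  (178410, 5, 235702, 11),
  (178413, 5, 134473, 41),
  (178414, 6, 125342, 6),
  (178417, 6, 235766, 19),
  (178418, 5, 180488, 40),
  (178421, 5, 143445, 37),
  (178422, 5, 67730, 43),
  (178425, 6, 252118, 19),
  (178426, 6, 252007, 26),
  (178429, 5, 102537, 44),
  (178430, 6, 117150, 6),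
  (178433, 6, 2478, 19),
  (178434, 6, 218113, 19),
  (178437, 6, 180331, 21),
  (178438, 6, 213163, 21),
  (178441, 5, 349, 8),
  (178442, 6, 218145, 19),
  (178445, 5, 120841, 24),
  (178446, 6, 35162, 10),
  (178449, 5, 349, 9),
  (178450, 6, 178190, 5),
  (178453, 6, 215466, 19),
  (178454, 6, 218123, 19),
  (178457, 6, 215221, 22),
  (178458, 5, 172372, 38),
  (178461, 4, 172317, 38),
  (178462, 5, 86026, 42),
  (178467, 6, 254302, 25),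
  (178471, 6, 97489, 20),
  (178475, 6, 194639, 17),
  (178479, 5, 53571, 40),
  (178483, 6, 211193, 24),
  (178487, 6, 192599, 17),
  (178491, 6, 243897, 24),
  (178495, 6, 183541, 22),
  (178497, 6, 53477, 24),
  (178498, 6, 174426, 25),
  (178501, 6, 100446, 23),
  (178502, 6, 6490, 10),
  (178505, 6, 39261, 1),
  (178506, 6, 24805, 24),
  (178509, 4, 72106, 19),
  (178510, 6, 6486, 3),
  (178513, 5, 178461, 7),
  (178514, 6, 131176, 40),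
  (178517, 4, 84394, 19),
  (178518, 5, 73750, 43),
  (178521, 6, 180491, 21),
  (178522, 6, 108581, 20),
  (178525, 4, 18770, 25),
  (178526, 6, 35061, 22),
  (178531, 6, 161863, 17),
  (178535, 6, 248154, 25),
  (178539, 6, 125274, 25),
  (178543, 6, 36153, 8),
  (178547, 6, 161879, 17),
  (178551, 6, 186399, 6),
  (178555, 6, 113711, 20),
  (178559, 6, 189759, 7),
  (178563, 6, 47519, 14),
  (178567, 6, 7641, 8),
  (178571, 5, 243791, 17),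
  (178575, 6, 163201, 26),
  (178579, 6, 239069, 5),
  (178583, 5, 102565, 44),
  (178587, 5, 83027, 42),
  (178591, 6, 47534, 23),
  (178593, 5, 102465, 44),
  (178594, 5, 190938, 12),
  (178597, 6, 220235, 24),
  (178598, 6, 81007, 22),
  (178601, 6, 62891, 20),
  (178602, 5, 172116, 38),
  (178605, 6, 244154, 19),
  (178606, 6, 67970, 41),
  (178609, 6, 39414, 19),
  (178610, 5, 27102, 2),
  (178613, 5, 195041, 15),
  (178614, 6, 194810, 1),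
  (178617, 6, 175591, 25),
  (178618, 5, 51646, 14),
  (178621, 6, 240058, 19),
  (178622, 5, 137466, 13),
  (178627, 6, 38301, 8),
  (178631, 6, 159185, 20),
  (178635, 5, 14842, 23),
  (178639, 6, 81373, 16),
  (178643, 5, 53539, 40),
  (178647, 6, 175261, 10),
  (178651, 6, 235765, 22),
  (178655, 5, 212433, 5),
  (178657, 6, 241901, 12),
  (178658, 4, 172114, 38),
  (178661, 6, 139517, 4),
  (178662, 5, 75798, 43),
  (178665, 5, 128299, 20),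
  (178666, 6, 26085, 24),
  (178669, 5, 102593, 44),
  (178670, 6, 178362, 13),
  (178673, 6, 203953, 22),
  (178674, 5, 102622, 44),
  (178677, 6, 260429, 13),
  (178678, 5, 110614, 43),
  (178681, 6, 244133, 11),
  (178682, 6, 215323, 21),
  (178685, 6, 47295, 23),
  (178686, 6, 247966, 6),
  (179233, 7, 46579, 26),
  (179235, 6, 183675, 3),
  (179237, 6, 193853, 14),
  (179239, 6, 232823, 22),
  (179241, 6, 193607, 5),
  (179243, 6, 165367, 22),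
  (179245, 6, 111995, 26),
  (179247, 6, 194627, 5),
  (179249, 6, 146631, 23),
  (179251, 6, 7419, 20),
  (179253, 6, 177403, 26),
  (179255, 6, 34173, 4),
  (179257, 6, 252090, 25),
  (179259, 6, 192599, 5),
  (179261, 6, 37239, 4),
  (179263, 6, 39339, 21),
  (179297, 6, 55751, 21),
  (179299, 6, 89211, 20),
  (179301, 6, 158795, 5),
  (179303, 6, 92654, 25),
  (179305, 6, 183387, 13),
  (179307, 6, 97387, 20),
  (179309, 6, 162883, 5),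
  (179311, 6, 36267, 21),
  (179313, 6, 121278, 25),
  (179315, 6, 3453, 4),
  (179317, 6, 129454, 25),
  (179319, 6, 194639, 13),
  (179321, 5, 6519, 4),
  (179323, 6, 247998, 25),
  (179325, 6, 260270, 25),
  (179327, 6, 256174, 25),
  (179329, 7, 170429, 22),
  (179331, 6, 244179, 16),
  (179333, 6, 81373, 6),
  (179335, 6, 32159, 26),
  (179337, 6, 103487, 24),
  (179339, 6, 207949, 7),
  (179341, 6, 118221, 19),
  (179343, 6, 178594, 23),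
  (179345, 6, 175213, 25),
  (179347, 5, 212061, 7),
  (179349, 6, 146623, 26),
  (179351, 5, 34269, 4),
  (179353, 6, 212165, 11),
  (179355, 6, 177357, 15),
  (179357, 6, 178342, 23),
  (179359, 5, 243923, 5),
  (179393, 6, 243727, 7),
  (179395, 6, 186845, 22),
  (179397, 6, 14783, 26),
  (179399, 6, 242701, 7),
  (179401, 6, 81229, 17),
  (179403, 6, 240653, 7),
  (179405, 6, 249037, 19),
  (179407, 6, 7413, 24),
  (179409, 6, 66935, 20),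
  (179411, 6, 119070, 23),
  (179413, 6, 173181, 25),
  (179415, 5, 243791, 13),
  (179417, 6, 145654, 23),
  (179419, 6, 145910, 23),
  (179421, 6, 211007, 26),
  (179423, 6, 227359, 26),
  (179489, 6, 146635, 23),
  (179491, 6, 175591, 22),
  (179493, 5, 191819, 5),
  (179495, 5, 6523, 8),
  (179497, 6, 18847, 19),
  (179499, 6, 145867, 23),
  (179501, 6, 119126, 25),
  (179503, 5, 193615, 17),
  (179505, 6, 38079, 20),
  (179507, 6, 163197, 7),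
  (179509, 6, 217430, 25),
  (179511, 6, 112033, 26),
  (179513, 6, 252299, 21),
  (179515, 6, 186763, 21),
  (179517, 6, 121227, 21),
  (179519, 6, 186427, 2),
  (179553, 6, 191531, 10),
  (179555, 6, 260442, 25),
  (179557, 6, 178283, 12),
  (179559, 5, 193837, 7),
  (179561, 6, 129362, 25),
  (179563, 6, 189895, 22),
  (179565, 6, 121170, 25)]

theorem chk_rows2_19 : rows2_19.all (rowBP tr2 gensLitP 72) = true := by decide +kernel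

/-- Rows 30000 to 31499. -/
def rows2_20 : List (ℕ × ℕ × ℕ × ℕ) := [(179567, 6, 255303, 22),
  (179569, 6, 194879, 7),
  (179571, 6, 232625, 22),
  (179573, 6, 192831, 7),
  (179575, 5, 6519, 16),
  (179577, 5, 191819, 13),
  (179579, 5, 6523, 16),
  (179581, 6, 23797, 20),
  (179583, 6, 88410, 25),
  (179585, 6, 175151, 25),
  (179587, 6, 178669, 22),
  (179589, 6, 36333, 19),
  (179591, 6, 6619, 8),
  (179593, 6, 145642, 23),
  (179595, 6, 145898, 23),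
  (179597, 6, 3547, 8),
  (179599, 6, 242767, 17),
  (179601, 6, 39399, 19),
  (179603, 6, 123166, 23),
  (179605, 6, 241115, 5),
  (179607, 6, 186545, 22),
  (179609, 6, 243159, 5),
  (179611, 6, 242135, 5),
  (179613, 6, 32161, 26),
  (179615, 5, 34207, 14),
  (179649, 6, 248094, 23),
  (179651, 6, 37279, 8),
  (179653, 6, 241935, 7),
  (179655, 6, 38133, 24),
  (179657, 5, 34207, 8),
  (179659, 6, 145914, 23),
  (179661, 6, 178362, 23),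
  (179663, 6, 178618, 23),
  (179665, 6, 128117, 24),
  (179667, 6, 119925, 24),
  (179669, 6, 111733, 24),
  (179671, 6, 112069, 1),
  (179673, 5, 212061, 17),
  (179675, 6, 101803, 19),
  (179677, 5, 34269, 14),
  (179679, 6, 178622, 23),
  (180225, 5, 123905, 40),
  (180226, 4, 139409, 19),
  (180228, 4, 1099, 26),
  (180231, 6, 197106, 22),
  (180232, 3, 213264, 19),
  (180235, 6, 91379, 26),
  (180237, 6, 74971, 26),
  (180238, 5, 4318, 42),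
  (180240, 6, 22562, 21),
  (180243, 6, 24931, 6),
  (180245, 6, 24933, 6),
  (180246, 6, 190726, 7),
  (180249, 6, 118834, 20),
  (180250, 6, 192882, 10),
  (180252, 6, 180709, 24),
  (180255, 6, 139455, 19),
  (180257, 6, 33121, 17),
  (180258, 4, 131217, 19),
  (180260, 5, 33803, 26),
  (180263, 6, 35171, 17),
  (180264, 5, 131248, 19),
  (180267, 6, 102430, 20),
  (180269, 6, 35177, 17),
  (180270, 4, 122998, 22),
  (180272, 6, 163952, 5),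
  (180275, 6, 189747, 26),
  (180277, 6, 118827, 20),
  (180278, 6, 35186, 17),
  (180281, 4, 37325, 24),
  (180282, 6, 22695, 21),
  (180284, 5, 30982, 41),
  (180287, 6, 60685, 2),
  (180289, 6, 33121, 2),
  (180290, 4, 139665, 19),
  (180292, 3, 75, 26),
  (180295, 4, 139671, 19),
  (180296, 5, 82192, 19),
  (180299, 4, 154022, 25),
  (180301, 5, 109571, 42),
  (180302, 5, 84178, 22),
  (180304, 6, 49424, 3),
  (180307, 6, 156019, 26),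
  (180309, 6, 139678, 19),
  (180310, 6, 158070, 10),
  (180313, 6, 27941, 22),
  (180314, 6, 16762, 17),
  (180316, 5, 157722, 39),
  (180319, 6, 191867, 1),
  (180321, 6, 131476, 19),
  (180322, 5, 131473, 19),
  (180324, 5, 32779, 26),
  (180327, 6, 200793, 23),
  (180328, 5, 131504, 19),
  (180331, 5, 185633, 8),
  (180333, 6, 186369, 7),
  (180334, 6, 114859, 26),
  (180336, 6, 49424, 10),
  (180339, 5, 371, 17),
  (180341, 6, 71769, 23),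
  (180342, 6, 139366, 12),
  (180345, 5, 377, 17),
  (180346, 4, 155722, 8),
  (180348, 6, 192892, 17),
  (180351, 6, 195893, 8),
  (180355, 6, 72749, 25),
  (180357, 5, 248225, 1),
  (180358, 5, 166306, 14),
  (180361, 6, 82107, 23),
  (180362, 6, 213098, 4),
  (180364, 5, 217412, 15),
  (180367, 6, 203258, 22),
  (180369, 6, 90593, 6),
  (180370, 5, 90594, 6),
  (180372, 6, 90596, 6),
  (180375, 6, 175351, 15),
  (180376, 6, 25048, 20),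
  (180379, 6, 139517, 19),
  (180381, 6, 178593, 14),
  (180382, 5, 239850, 8),
  (180387, 6, 60471, 26),
  (180389, 6, 44063, 26),
  (180390, 5, 219302, 44),
  (180393, 7, 159798, 22),
  (180394, 6, 61558, 22),
  (180396, 6, 196844, 14),
  (180399, 6, 126143, 26),
  (180401, 5, 249898, 20),
  (180402, 5, 249900, 20),
  (180404, 5, 180692, 43),
  (180407, 5, 124129, 40),
  (180408, 6, 196856, 14),
  (180411, 6, 249918, 20),
  (180413, 5, 124113, 40),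
  (180414, 6, 249263, 26),
  (180419, 4, 139733, 19),
  (180421, 4, 192836, 21),
  (180422, 6, 18543, 26),
  (180425, 6, 30841, 21),
  (180426, 5, 71982, 39),
  (180428, 6, 66837, 25),
  (180431, 6, 219610, 22),
  (180433, 6, 139740, 19),
  (180434, 6, 155874, 12),
  (180436, 5, 205172, 3),
  (180439, 6, 205175, 3),
  (180440, 6, 27693, 22),
  (180443, 6, 250038, 20),
  (180445, 6, 250035, 20),
  (180446, 5, 178658, 14),
  (180451, 6, 233614, 20),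
  (180453, 6, 43039, 26),
  (180454, 5, 166306, 2),
  (180457, 6, 213481, 16),
  (180458, 5, 250146, 15),
  (180460, 4, 213484, 16),
  (180463, 6, 241782, 22),
  (180465, 5, 124145, 40),
  (180466, 6, 182567, 26),
  (180468, 6, 131546, 19),
  (180471, 6, 190783, 26),
  (180472, 6, 155864, 15),
  (180475, 6, 60719, 22),
  (180477, 7, 131582, 19),
  (180478, 4, 12502, 42),
  (180481, 6, 33121, 3),
  (180482, 4, 204817, 19),
  (180484, 5, 37961, 26),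
  (180487, 6, 147559, 6),
  (180488, 4, 213392, 19),
  (180491, 5, 185633, 13),
  (180493, 6, 39201, 14),
  (180494, 6, 204942, 25),
  (180496, 6, 163952, 1),
  (180499, 6, 189507, 4),
  (180501, 6, 6498, 21),
  (180502, 6, 16726, 15),
  (180505, 6, 204860, 19),
  (180506, 3, 156026, 4),
  (180508, 6, 37172, 4),
  (180511, 6, 204863, 19),
  (180513, 6, 102474, 20),
  (180514, 4, 196625, 19),
  (180516, 4, 5193, 26),
  (180519, 6, 24718, 25),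
  (180520, 4, 196656, 19),
  (180523, 6, 147598, 25),
  (180525, 6, 6501, 21),
  (180526, 5, 221652, 43),
  (180528, 6, 49424, 4),
  (180531, 6, 156019, 11),
  (180533, 4, 57478, 25),
  (180534, 6, 139366, 6),
  (180537, 6, 196668, 19),
  (180538, 6, 139642, 4),
  (180540, 6, 6439, 21),
  (180543, 6, 162171, 11),
  (180545, 6, 205076, 19),
  (180546, 4, 205073, 19),
  (180548, 4, 37963, 26),
  (180551, 6, 35171, 14),
  (180552, 3, 82320, 19),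
  (180555, 6, 205109, 19),
  (180557, 6, 184325, 24),
  (180558, 6, 6569, 21),
  (180560, 6, 49424, 15),
  (180563, 6, 6378, 21),
  (180565, 6, 205086, 19),
  (180566, 5, 185419, 26),
  (180569, 5, 238659, 26),
  (180570, 6, 119028, 20),
  (180572, 6, 205114, 19),
  (180575, 6, 194843, 11),
  (180577, 6, 33121, 1),
  (180578, 5, 196881, 19),
  (180580, 4, 5195, 26),
  (180583, 6, 160005, 24),
  (180584, 4, 196912, 19),
  (180587, 4, 163958, 22),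
  (180589, 6, 35177, 1),
  (180590, 4, 98422, 22),
  (180592, 6, 163952, 8),
  (180595, 6, 196893, 19),
  (180597, 6, 24933, 16),
  (180598, 5, 12598, 39),
  (180601, 6, 196924, 19),
  (180602, 6, 60471, 22),
  (180604, 6, 24940, 16),
  (180607, 5, 196927, 19),
  (180611, 6, 233542, 20),
  (180613, 6, 204886, 19),
  (180614, 5, 78058, 22),
  (180617, 4, 233554, 20),
  (180618, 4, 233556, 20),
  (180620, 4, 213484, 14),
  (180623, 6, 211434, 22),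
  (180625, 6, 138635, 24),
  (180626, 6, 142739, 24),
  (180628, 7, 150947, 24),
  (180631, 5, 124067, 40),
  (180632, 6, 74104, 12),
  (180635, 6, 193739, 4),
  (180637, 5, 109653, 42),
  (180638, 6, 129422, 7),
  (180643, 6, 181475, 4),
  (180645, 6, 196694, 19),
  (180646, 6, 215522, 11),
  (180649, 6, 196724, 19),
  (180650, 6, 250122, 16),
  (180652, 6, 86070, 22),
  (180655, 6, 249974, 22),
  (180657, 6, 196700, 19),
  (180658, 6, 155874, 13),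
  (180660, 6, 205028, 6),
  (180663, 6, 205031, 6),
  (180664, 6, 27675, 23),
  (180667, 6, 193771, 4),
  (180669, 6, 212041, 26),
  (180670, 6, 129454, 7),
  (180675, 6, 233670, 20),
  (180677, 6, 225674, 22),
  (180678, 6, 231782, 16),
  (180681, 5, 205172, 19),
  (180682, 6, 249922, 5),
  (180684, 6, 14649, 21),
  (180687, 6, 205175, 19),
  (180689, 6, 205148, 19),
  (180690, 6, 156130, 12),
  (180692, 4, 14650, 21),
  (180695, 5, 14842, 21),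
  (180696, 6, 90568, 16),
  (180699, 5, 128299, 9),
  (180701, 5, 252117, 12),
  (180702, 6, 205179, 19),
  (180707, 4, 168050, 22),
  (180709, 5, 247877, 2),
  (180710, 4, 102514, 22),
  (180713, 4, 135222, 22),
  (180714, 6, 71055, 25),
  (180716, 4, 69686, 22),
  (180719, 6, 196983, 19),
  (180721, 6, 155873, 4),
  (180722, 6, 90450, 3),
  (180724, 6, 90596, 16),
  (180727, 6, 215129, 23),
  (180728, 6, 196984, 19),
  (180731, 6, 243077, 24),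
  (180733, 6, 67063, 25),
  (180734, 6, 220235, 26),
  (181253, 6, 151869, 24),
  (181255, 5, 202001, 41),
  (181257, 6, 182343, 39),
  (181259, 6, 196763, 23),
  (181265, 6, 58689, 22),
  (181267, 5, 371, 10),
  (181277, 6, 206331, 26),
  (181279, 5, 191801, 1),
  (181285, 6, 221298, 22),
  (181287, 6, 78169, 23),
  (181289, 4, 37213, 24),
  (181291, 5, 188470, 22),
  (181297, 6, 4509, 24),
  (181299, 6, 156019, 8),
  (181309, 6, 36217, 17),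
  (181311, 6, 162167, 8),
  (181317, 5, 30789, 37),
  (181319, 6, 24667, 26),
  (181321, 4, 182546, 22),
  (181323, 5, 30785, 37),
  (181329, 6, 189555, 13),
  (181331, 6, 88298, 21),
  (181341, 6, 144765, 3),
  (181343, 6, 190974, 25),
  (181349, 4, 229548, 21),
  (181351, 6, 182567, 8),
  (181353, 6, 202011, 23),
  (181355, 6, 170261, 24),
  (181361, 6, 24931, 4),
  (181363, 6, 121006, 20),
  (181373, 5, 78899, 42),
  (181375, 6, 256382, 25),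
  (181377, 5, 168250, 22),
  (181379, 6, 147907, 8),
  (181389, 6, 126439, 19),
  (181391, 6, 249105, 19),
  (181397, 6, 175521, 14),
  (181399, 6, 161199, 24),
  (181401, 6, 177569, 14),
  (181403, 6, 251958, 20),
  (181409, 4, 102588, 21),
  (181411, 6, 235534, 20),
  (181421, 6, 121255, 12),
  (181423, 7, 95579, 23),
  (181429, 6, 191873, 14),
  (181431, 5, 241073, 1),
  (181433, 6, 251962, 20),
  (181435, 6, 251966, 20),
  (181441, 6, 146453, 24),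
  (181443, 5, 181611, 40),
  (181453, 6, 248299, 1),
  (181455, 6, 252378, 22),
  (181461, 6, 96634, 21),
  (181463, 6, 252071, 20),
  (181465, 6, 252082, 20),
  (181467, 6, 120273, 12),
  (181473, 6, 245763, 7),
  (181475, 5, 79131, 42),
  (181485, 6, 209014, 22),
  (181487, 6, 241718, 22),
  (181493, 6, 126279, 2),
  (181495, 6, 96766, 21),
  (181497, 6, 252090, 20),
  (181499, 6, 252094, 20),
  (181509, 4, 94342, 25),
  (181511, 7, 94350, 25),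
  (181513, 7, 38177, 14),
  (181515, 7, 185345, 12),
  (181521, 5, 181321, 40),
  (181523, 6, 59815, 43),
  (181533, 6, 193847, 13),
  (181535, 6, 258190, 25),
  (181541, 6, 213106, 22),
  (181543, 4, 28814, 25),
  (181545, 6, 151686, 25),
  (181547, 7, 151694, 25),
  (181553, 6, 147795, 7),
  (181555, 7, 25939, 22),
  (181565, 6, 60887, 22),
  (181567, 5, 79113, 42),
  (181573, 6, 254338, 22),
  (181575, 6, 151573, 24),
  (181577, 6, 71785, 21),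
  (181579, 6, 167957, 24),
  (181585, 6, 155715, 4),
  (181587, 6, 121062, 20),
  (181597, 6, 161867, 4),
  (181599, 5, 242795, 26),
  (181605, 6, 35171, 1),
  (181607, 6, 229426, 22),
  (181609, 6, 104666, 20),
  (181611, 4, 153738, 25),
  (181617, 6, 189507, 2),
  (181619, 6, 24931, 16),
  (181629, 6, 163007, 19),
  (181631, 5, 194698, 25),
  (181633, 5, 57580, 21),
  (181635, 6, 235590, 20),
  (181645, 6, 60903, 19),
  (181647, 6, 244202, 22),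
  (181653, 7, 58841, 22),
  (181655, 6, 252007, 20),
  (181657, 6, 252018, 20),
  (181659, 6, 252022, 20),
  (181665, 5, 235594, 20),
  (181667, 6, 245763, 2),
  (181677, 6, 220649, 11),
  (181679, 6, 247823, 2),
  (181685, 6, 80246, 21),
  (181687, 6, 252015, 20),
  (181689, 6, 192747, 4),
  (181691, 6, 128347, 3),
  (181697, 6, 34273, 14),
  (181699, 6, 82371, 16),
  (181709, 5, 79235, 42),
  (181711, 6, 118161, 19),
  (181717, 6, 80250, 21),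
  (181719, 6, 90567, 16),
  (181721, 5, 252146, 20),
  (181723, 6, 121233, 19),
  (181729, 6, 147907, 15),
  (181731, 6, 70823, 25),
  (181741, 5, 181289, 40),
  (181743, 6, 126337, 19),
  (181749, 6, 162923, 26),
  (181751, 6, 249105, 7),
  (181753, 6, 242849, 6),
  (181755, 6, 90603, 16),
  (182275, 4, 115148, 21),
  (182279, 4, 30882, 25),
  (182281, 6, 98523, 23),
  (182282, 6, 184678, 10),
  (182285, 6, 65755, 23),
  (182286, 5, 16708, 43),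
  (182289, 6, 100573, 23),
  (182290, 4, 153762, 21),
  (182293, 6, 153954, 21),
  (182294, 6, 35186, 1),
  (182299, 6, 27871, 20),
  (182303, 6, 195042, 25),
  (182307, 6, 241689, 23),
  (182311, 6, 147559, 11),
  (182313, 6, 6497, 6),
  (182314, 5, 184334, 16),
  (182317, 6, 6501, 6),
  (182318, 4, 132275, 19),
  (182321, 5, 30789, 44),
  (182322, 6, 190726, 14),
  (182325, 4, 20877, 24),
  (182326, 4, 154022, 21),
  (182331, 6, 252274, 25),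
  (182335, 6, 163185, 8),
  (182339, 4, 22710, 25),
  (182343, 5, 213330, 22),
  (182345, 5, 181321, 39),
  (182346, 5, 137622, 25),
  (182349, 6, 35177, 2),
  (182350, 5, 184334, 11),
  (182353, 4, 143699, 26),
  (182354, 4, 374, 1),
  (182357, 6, 35125, 10),
  (182358, 6, 139366, 8),
  (182363, 7, 153835, 21),
  (182367, 6, 195046, 25),
  (182371, 6, 52481, 10),
  (182375, 6, 181255, 7),
  (182377, 6, 39201, 6),
  (182378, 6, 168987, 23),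
  (182381, 5, 365, 17),
  (182382, 6, 39206, 6),
  (182385, 6, 153710, 21),
  (182386, 6, 16726, 1),
  (182389, 6, 24933, 4),
  (182390, 3, 155718, 8),
  (182395, 6, 252278, 25),
  (182399, 6, 244133, 24),
  (182401, 6, 182343, 43),
  (182402, 6, 246246, 10),
  (182405, 4, 231698, 19),
  (182406, 6, 231782, 3),
  (182411, 6, 7657, 10),
  (182415, 6, 203130, 22),
  (182419, 6, 163191, 26),
  (182423, 6, 159185, 8),
  (182425, 6, 169455, 24),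
  (182426, 6, 220647, 26),
  (182429, 6, 121233, 12),
  (182430, 5, 96742, 6),
  (182433, 5, 168252, 21),
  (182434, 6, 196710, 4),
  (182437, 6, 230857, 20),
  (182438, 4, 61682, 22),
  (182443, 6, 258294, 22),
  (182447, 6, 192758, 22),
  (182451, 6, 240689, 13),
  (182455, 6, 191699, 15),
  (182457, 6, 233725, 5),
  (182458, 5, 129334, 5),
  (182461, 5, 78899, 41),
  (182462, 5, 164196, 43),
  (182465, 6, 74789, 25),
  (182466, 3, 213478, 10),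
  (182469, 6, 100626, 19),
  (182470, 6, 156009, 23),
  (182475, 6, 252047, 11),
  (182479, 6, 121255, 6),
  (182483, 6, 162167, 26),
  (182487, 6, 82295, 17),
  (182489, 6, 139517, 15),
  (182490, 6, 162026, 12),
  (182493, 6, 162171, 21),
  (182494, 6, 140795, 19),
  (182497, 7, 239830, 19),
  (182498, 6, 246246, 7),
  (182501, 6, 143538, 22),
  (182502, 5, 30982, 44),
  (182507, 5, 241910, 22),
  (182511, 6, 216557, 16),
  (182515, 5, 79235, 41),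
  (182519, 5, 181289, 39),
  (182521, 6, 113057, 6),
  (182522, 5, 49508, 43),
  (182525, 6, 244127, 26),
  (182526, 6, 113062, 6),
  (182531, 6, 35171, 3),
  (182535, 6, 205154, 22),
  (182537, 6, 186657, 13),
  (182538, 6, 39274, 3),
  (182541, 6, 39277, 3),
  (182542, 5, 119873, 26),
  (182545, 5, 202001, 38),
  (182546, 3, 155718, 13),
  (182549, 6, 71893, 23),
  (182550, 6, 155990, 11),
  (182555, 6, 60735, 1),
  (182559, 5, 193615, 4),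
  (182563, 5, 181611, 39),
  (182567, 5, 79131, 41),
  (182569, 6, 155798, 25),
  (182570, 6, 184390, 1),
  (182573, 6, 147638, 22),
  (182574, 5, 131428, 43),
  (182577, 6, 6569, 24),
  (182578, 6, 158070, 11),
  (182581, 6, 59733, 3),
  (182582, 4, 374, 2),
  (182587, 6, 126231, 22),
  (182591, 6, 180382, 25),
  (182595, 6, 156098, 22),
  (182599, 6, 147559, 17),
  (182601, 6, 59815, 37),
  (182602, 6, 39270, 14),
  (182605, 7, 111683, 26),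
  (182606, 6, 184390, 5),
  (182609, 6, 173131, 26),
  (182610, 5, 182326, 43),
  (182613, 4, 72082, 19),
  (182614, 6, 188502, 5),
  (182619, 6, 126261, 22),
  (182623, 6, 126389, 22),
  (182627, 6, 182567, 11),
  (182631, 6, 143653, 24),
  (182633, 6, 196790, 22),
  (182634, 4, 141466, 25),
  (182637, 6, 131181, 17),
  (182638, 5, 184622, 11),
  (182641, 6, 100377, 23),
  (182642, 6, 148555, 26),
  (182645, 6, 137582, 21),
  (182646, 5, 57670, 14),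
  (182651, 6, 194879, 11),
  (182655, 6, 192831, 11),
  (182657, 6, 34187, 20),
  (182658, 6, 90540, 21),
  (182661, 4, 188524, 21),
  (182662, 6, 33190, 14),
  (182667, 6, 145898, 22),
  (182671, 6, 211306, 22),
  (182675, 6, 191561, 26),
  (182679, 7, 219637, 23),
  (182681, 5, 194765, 4),
  (182682, 6, 127374, 7),
  (182685, 6, 252049, 12),
  (182686, 5, 49412, 43),
  (182689, 5, 30785, 44),
  (182690, 6, 197713, 19),
  (182693, 7, 247809, 2),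
  (182694, 3, 213478, 11),
  (182699, 6, 234989, 5),
  (182703, 6, 184566, 22),
  (182707, 6, 145654, 21),
  (182711, 6, 145910, 21),
  (182713, 6, 63998, 19),
  (182714, 6, 44531, 24),
  (182717, 6, 260482, 19),
  (182718, 6, 129450, 7),
  (182721, 6, 127201, 23),
  (182722, 5, 59670, 39),
  (182725, 6, 74807, 25),
  (182726, 6, 29018, 39),
  (182731, 6, 162250, 22),
  (182735, 6, 37351, 14),
  (182739, 6, 145658, 21),
  (182743, 6, 60817, 8),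
  (182745, 6, 194798, 19),
  (182746, 5, 163876, 43),
  (182749, 5, 79113, 41),
  (182750, 6, 238757, 24),
  (182753, 7, 180508, 21),
  (182754, 6, 213276, 21),
  (182757, 5, 108930, 19),
  (182758, 6, 33190, 2),
  (182763, 6, 93259, 26),
  (182767, 6, 250287, 11),
  (182771, 6, 158795, 26),
  (182775, 6, 162883, 26),
  (182777, 5, 251301, 24),
  (182778, 6, 145898, 12),
  (182781, 5, 129410, 19),
  (182782, 6, 126143, 22),
  (183297, 6, 182567, 1),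
  (183299, 6, 229593, 23),
  (183301, 6, 77189, 19),
  (183303, 6, 245836, 21),
  (183321, 5, 191819, 16),
  (183323, 5, 6523, 10),
  (183325, 6, 195050, 25),
  (183327, 6, 190954, 25),
  (183329, 4, 233900, 21),
  (183331, 6, 84026, 25),
  (183333, 4, 20765, 24),
  (183335, 6, 207107, 19),
  (183353, 6, 126279, 22),
  (183355, 6, 248186, 25),
  (183357, 6, 34173, 17),
  (183359, 6, 21645, 41),
  (183361, 7, 22718, 25),
  (183363, 6, 147559, 5),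
  (183365, 5, 21649, 41),
  (183367, 6, 35171, 2),
  (183385, 6, 146809, 3),
  (183387, 5, 25841, 37),
  (183389, 5, 21835, 41),
  (183391, 6, 189821, 1),
  (183393, 4, 88126, 25),
  (183395, 6, 77059, 19),
  (183397, 6, 36045, 20),
  (183399, 5, 198965, 38),
  (183417, 6, 3453, 17),
  (183419, 6, 93543, 22),
  (183421, 6, 126439, 22),
  (183423, 6, 258459, 26),
  (183433, 6, 248239, 1),
  (183435, 6, 165101, 15),
  (183437, 6, 235834, 22),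
  (183439, 6, 81205, 25),
  (183441, 6, 175525, 14),
  (183443, 6, 91465, 22),
  (183445, 6, 173477, 14),
  (183447, 6, 118161, 12),
  (183465, 6, 115983, 2),
  (183467, 6, 220229, 7),
  (183469, 6, 99693, 17),
  (183471, 6, 106777, 42),
  (183473, 6, 191877, 14),
  (183475, 6, 189653, 15),
  (183477, 5, 240695, 13),
  (183479, 6, 227830, 21),
  (183497, 6, 186778, 22),
  (183499, 6, 249325, 1),
  (183501, 6, 90603, 23),
  (183503, 5, 251023, 11),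
  (183505, 6, 227450, 21),
  (183507, 6, 213239, 5),
  (183509, 6, 227706, 21),
  (183511, 6, 104723, 19),
  (183529, 5, 100585, 43),
  (183531, 6, 126211, 19),
  (183533, 6, 118091, 2),
  (183535, 6, 176310, 22),
  (183537, 5, 240755, 13),
  (183539, 6, 113923, 19),
  (183541, 5, 25063, 4),
  (183543, 6, 26085, 4),
  (183553, 6, 102865, 23),
  (183555, 6, 145705, 24),
  (183557, 5, 180460, 21),
  (183559, 6, 182567, 13),
  (183577, 6, 194639, 4),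
  (183579, 6, 93525, 22),
  (183581, 6, 32083, 8),
  (183583, 5, 250014, 25),
  (183585, 6, 213234, 22),
  (183587, 6, 245938, 22),
  (183589, 6, 237913, 23),
  (183591, 4, 53644, 21),
  (183609, 6, 163197, 11),
  (183611, 6, 93527, 22),
  (183613, 6, 32115, 8),
  (183615, 5, 100393, 43),
  (183617, 4, 53732, 21),
  (183619, 6, 3427, 3),
  (183621, 4, 254210, 22),
  (183623, 6, 67987, 19),
  (183641, 5, 137561, 44),
  (183643, 6, 260250, 25),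
  (183645, 5, 193821, 11),
  (183647, 6, 252058, 25),
  (183649, 6, 196850, 22),
  (183651, 5, 180620, 21),
  (183653, 5, 21659, 41),
  (183655, 4, 22682, 25),
  (183673, 6, 126327, 22),
  (183675, 5, 25793, 37),
  (183677, 6, 193853, 11),
  (183679, 6, 186399, 10),
  (183689, 6, 178602, 22),
  (183691, 5, 249235, 19),
  (183693, 5, 220389, 6),
  (183695, 6, 38311, 14),
  (183697, 6, 191593, 26),
  (183699, 5, 25047, 8),
  (183701, 6, 196983, 7),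
  (183703, 6, 219381, 23),
  (183721, 6, 198747, 38),
  (183723, 5, 106595, 42),
  (183725, 5, 151798, 22),
  (183727, 6, 184502, 22),
  (183729, 6, 211062, 21),
  (183731, 6, 211190, 21),
  (183733, 6, 213335, 7),
  (183735, 6, 126295, 3),
  (183753, 6, 194954, 22),
  (183755, 6, 195018, 22),
  (183757, 6, 220651, 5),
  (183759, 6, 252263, 13),
  (183761, 5, 191595, 26),
  (183763, 6, 211194, 21),
  (183765, 6, 211322, 21),
  (183767, 6, 77175, 3),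
  (183785, 6, 200950, 22),
  (183787, 6, 233654, 22),
  (183789, 6, 204267, 5),
  (183791, 6, 251311, 11),
  (183793, 6, 124283, 22),
  (183795, 6, 239987, 13),
  (183797, 6, 155879, 4),
  (183799, 6, 93527, 3),
  (184323, 6, 133494, 22),
  (184325, 5, 365, 10),
  (184326, 6, 14738, 25),
  (184331, 4, 153762, 25),
  (184333, 5, 184331, 39),
  (184334, 4, 65578, 41),
  (184337, 5, 377, 10),
  (184338, 4, 127012, 20),
  (184340, 4, 380, 10),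
  (184343, 6, 195891, 1),
  (184345, 6, 155836, 19),
  (184346, 5, 111058, 42),
  (184348, 6, 24940, 6),
  (184351, 6, 194802, 25),
  (184355, 6, 110606, 20),
  (184357, 6, 20845, 24),
  (184358, 6, 39266, 17),
  (184363, 5, 185419, 15),
  (184365, 5, 365, 6),
  (184366, 6, 39274, 17),
  (184369, 6, 147612, 19),
  (184370, 6, 155770, 11),
  (184372, 5, 188764, 3),
  (184375, 6, 129394, 25),
  (184377, 5, 127034, 20),
  (184378, 5, 127036, 20),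
  (184380, 6, 37172, 8),
  (184383, 6, 234541, 21),
  (184387, 6, 118981, 21),
  (184389, 6, 184645, 21),
  (184390, 5, 180584, 39),
  (184395, 7, 38177, 10),
  (184397, 6, 39277, 2),
  (184398, 7, 145558, 25),
  (184401, 6, 139731, 26),
  (184402, 6, 139642, 3),
  (184404, 5, 156058, 19),
  (184407, 5, 116941, 43),
  (184409, 5, 192529, 11),
  (184410, 3, 156026, 10),
  (184412, 6, 37172, 10),
  (184415, 6, 60833, 22),
  (184419, 6, 110734, 20),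
  (184421, 6, 147862, 19),
  (184422, 5, 184622, 15),
  (184427, 6, 110750, 20),
  (184429, 6, 70745, 23),
  (184430, 6, 153674, 8),
  (184433, 6, 25895, 22),
  (184434, 6, 159810, 8),
  (184436, 5, 108886, 25),
  (184439, 6, 129398, 25),
  (184441, 6, 203205, 24),
  (184442, 6, 139642, 10),
  (184444, 5, 151838, 37),
  (184447, 5, 6523, 17),
  (184449, 5, 489, 10),
  (184450, 5, 163894, 37),
  (184452, 3, 213068, 1),
  (184455, 6, 155863, 19),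
  (184457, 4, 135486, 22),
  (184458, 6, 246250, 10),
  (184460, 5, 69822, 22),
  (184463, 6, 155895, 19),
  (184467, 6, 58637, 22),
  (184469, 6, 258083, 20),
  (184470, 6, 129306, 5),
  (184475, 6, 90603, 6),
  (184477, 6, 200053, 25),
  (184478, 6, 183615, 23),
  (184481, 6, 59465, 21),
  (184482, 6, 110940, 42),
  (184484, 5, 51538, 40),
  (184487, 6, 220235, 7),
  (184489, 4, 241690, 20),
  (184490, 4, 241692, 20),
  (184492, 6, 37356, 7),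
  (184495, 6, 216139, 7),
  (184499, 6, 58639, 22),
  (184501, 5, 191819, 21),
  (184502, 5, 78318, 6),
  (184507, 6, 147709, 19),
  (184509, 5, 74221, 6),
  (184510, 5, 10274, 37),
  (184513, 6, 156116, 19),
  (184514, 6, 184804, 39),
  (184516, 6, 156114, 19),
  (184519, 6, 26879, 26),
  (184521, 4, 241810, 20),
  (184522, 4, 490, 1),
  (184524, 6, 249860, 1),
  (184527, 5, 220389, 5),
  (184531, 6, 205179, 3),
  (184533, 6, 121309, 12),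
  (184534, 6, 156123, 19),
  (184539, 6, 212165, 24),
  (184541, 6, 174569, 14),
  (184542, 6, 211178, 8),
  (184545, 6, 147924, 19),
  (184546, 6, 131306, 12),
  (184548, 4, 79922, 22),
  (184551, 6, 243826, 22),
  (184553, 6, 147956, 19),
  (184554, 6, 249922, 16),
  (184556, 5, 217412, 3),
  (184559, 6, 243830, 22),
  (184563, 6, 192971, 14),
  (184565, 6, 241789, 13),
  (184566, 5, 133250, 38),
  (184571, 6, 202221, 25),
  (184573, 5, 220613, 24),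
  (184574, 5, 106926, 6),
  (184579, 5, 110662, 20),
  (184581, 6, 131181, 10),
  (184582, 4, 76006, 22),
  (184587, 7, 110678, 20),
  (184589, 6, 90502, 25),
  (184590, 6, 184678, 12),
  (184593, 6, 221212, 19),
  (184594, 6, 16762, 2),
  (184596, 6, 41340, 3),
  (184599, 6, 193853, 13),
  (184601, 6, 115078, 25),
  (184602, 6, 155754, 6),
  (184604, 5, 182326, 37),
  (184607, 6, 60817, 22),
  (184611, 6, 14681, 24),
  (184613, 6, 39201, 1),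
  (184614, 6, 87241, 26),
  (184619, 4, 182390, 22),
  (184621, 5, 184619, 39),
  (184622, 4, 131356, 44),
  (184625, 4, 127082, 20),
  (184626, 3, 156026, 11),
  (184628, 6, 192892, 2),
  (184631, 5, 191595, 4),
  (184633, 4, 49542, 25),
  (184634, 6, 16762, 15),
  (184636, 4, 41350, 25),
  (184639, 6, 213055, 19),
  (184643, 5, 185419, 12),
  (184645, 5, 365, 3),
  (184646, 6, 39274, 14),
  (184651, 5, 110806, 20),
  (184653, 6, 35177, 14),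
  (184654, 5, 76170, 25),
  (184657, 6, 155721, 4),
  (184658, 5, 192602, 5),
  (184660, 6, 192892, 13),
  (184663, 5, 184489, 39),
  (184665, 7, 117122, 25),
  (184666, 5, 60465, 22),
  (184668, 5, 108930, 25),
  (184671, 6, 193739, 26),
  (184675, 6, 176453, 24),
  (184677, 6, 184645, 24),
  (184678, 5, 106504, 42),
  (184683, 6, 18826, 25),
  (184685, 6, 186657, 11),
  (184686, 6, 132185, 23),
  (184689, 6, 213276, 19),
  (184690, 6, 184404, 39),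
  (184692, 6, 213274, 19),
  (184695, 6, 226507, 26),
  (184697, 6, 213308, 19),
  (184698, 5, 20910, 38),
  (184700, 3, 156028, 2),
  (184703, 6, 213311, 19),
  (184705, 6, 199719, 25),
  (184706, 5, 203791, 25),
  (184708, 4, 80046, 22),
  (184711, 6, 251313, 23),
  (184713, 6, 143662, 22),
  (184714, 6, 82250, 15),
  (184716, 5, 217412, 1),
  (184719, 6, 204095, 25),
  (184723, 6, 145717, 44),
  (184725, 6, 129457, 1),
  (184726, 5, 110614, 42),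
  (184731, 6, 204143, 25),
  (184733, 6, 122039, 23),
  (184734, 6, 133510, 38),
  (184737, 6, 213481, 11),
  (184738, 4, 490, 2),
  (184740, 6, 24667, 23),
  (184743, 6, 203967, 25),
  (184745, 6, 213108, 19),
  (184746, 5, 149902, 41),
  (184748, 6, 196844, 6),
  (184751, 6, 252022, 22),
  (184755, 6, 15835, 24),
  (184757, 6, 212169, 26),
  (184758, 6, 248094, 16),
  (184763, 6, 205035, 6),
  (184765, 6, 28059, 22),
  (184766, 6, 213115, 19),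
  (184769, 5, 250217, 13),
  (184770, 5, 182326, 40),
  (184772, 6, 147948, 12),
  (184775, 5, 116877, 43),
  (184777, 6, 197927, 25),
  (184778, 6, 131306, 1),
  (184780, 6, 148549, 24),
  (184783, 5, 35307, 14),
  (184787, 6, 258278, 20),
  (184789, 5, 74109, 3),
  (184790, 5, 20610, 41),
  (184795, 6, 117057, 43),
  (184797, 6, 243821, 2),
  (184798, 5, 254228, 43),
  (184801, 6, 81947, 23),
  (184802, 6, 82250, 3),
  (184804, 5, 213330, 19),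
  (184807, 5, 145729, 44),
  (184809, 5, 145745, 44),
  (184810, 4, 81949, 21),
  (184812, 3, 213068, 11),
  (184815, 6, 252323, 11),
  (184819, 6, 213341, 19),
  (184821, 6, 90461, 3),
  (184822, 6, 213339, 19),
  (184827, 6, 258302, 20),
  (184829, 6, 162269, 15),
  (184830, 6, 194734, 13),
  (185345, 6, 99329, 40),
  (185347, 5, 185633, 1),
  (185353, 4, 164150, 22),
  (185355, 5, 99377, 40),
  (185365, 6, 140795, 26),
  (185367, 5, 201193, 38),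
  (185373, 6, 194810, 25),
  (185375, 6, 204081, 19),
  (185377, 6, 51401, 21),
  (185379, 6, 112654, 20),
  (185385, 6, 157814, 22),
  (185387, 6, 45325, 24),
  (185397, 6, 20989, 24),
  (185399, 6, 125306, 25),
  (185405, 6, 238907, 26),
  (185407, 6, 129087, 20),
  (185409, 6, 178261, 24),
  (185411, 6, 165937, 43),
  (185417, 7, 185345, 11),
  (185419, 4, 148483, 39),
  (185429, 6, 58853, 22),
  (185431, 5, 252117, 24),
  (185437, 5, 129203, 20),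
  (185439, 6, 190718, 25),
  (185441, 4, 88366, 25),
  (185443, 4, 174130, 22),
  (185449, 6, 112794, 20),
  (185451, 6, 112798, 20),
  (185461, 5, 22645, 44),
  (185463, 6, 194879, 8),
  (185469, 6, 129211, 20),
  (185471, 5, 191819, 14),
  (185477, 6, 252323, 1),
  (185479, 6, 27871, 26),
  (185485, 6, 5607, 10),
  (185487, 6, 232753, 19),
  (185489, 6, 113133, 19),
  (185491, 6, 252209, 19),
  (185497, 7, 260146, 20),
  (185499, 6, 120187, 17),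
  (185509, 6, 234543, 13),
  (185511, 6, 243727, 20),
  (185517, 6, 109631, 26),
  (185519, 6, 240929, 19),
  (185521, 5, 165893, 43),
  (185523, 6, 260142, 20),
  (185529, 6, 129501, 19),
  (185531, 6, 244001, 19),
  (185541, 5, 201115, 38),
  (185543, 6, 118065, 19),
  (185549, 6, 38311, 10),
  (185551, 6, 118221, 12),
  (185553, 6, 243949, 19),
  (185555, 6, 224429, 23),
  (185561, 6, 60777, 22),
  (185563, 6, 144633, 15),
  (185573, 6, 251915, 7),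
  (185575, 5, 57507, 37),
  (185581, 6, 211062, 22),
  (185583, 6, 87385, 23),
  (185585, 5, 99569, 40),
  (185587, 5, 57373, 37),
  (185593, 7, 198125, 25),
  (185595, 5, 99521, 40),
  (185601, 4, 217478, 25),
  (185603, 4, 174438, 22),
  (185609, 6, 120973, 21),
  (185611, 6, 178441, 24),
  (185621, 6, 186399, 12),
  (185623, 5, 129127, 20),
  (185629, 6, 194627, 4),
  (185631, 6, 127374, 25),
  (185633, 4, 75921, 42),
  (185635, 6, 116841, 21),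
  (185641, 5, 13723, 41),
  (185643, 4, 20878, 25),
  (185653, 6, 192902, 25),
  (185655, 6, 159099, 11),
  (185661, 6, 163185, 11),
  (185663, 6, 212385, 19),
  (185665, 6, 190726, 22),
  (185667, 6, 168021, 24),
  (185673, 4, 188678, 22),
  (185675, 4, 68017, 19),
  (185685, 5, 200987, 38),
  (185687, 6, 178279, 2),
  (185693, 5, 129410, 25),
  (185695, 6, 129271, 20),
  (185697, 6, 99571, 40),
  (185699, 6, 120929, 21),
  (185705, 5, 185633, 11),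
  (185707, 6, 13339, 41),
  (185717, 5, 191801, 11),
  (185719, 5, 57475, 37),
  (185725, 6, 129275, 20),
  (185727, 6, 194639, 2),
  (185733, 6, 243779, 20),
  (185735, 5, 244206, 22),
  (185741, 6, 242094, 22),
  (185743, 6, 252391, 5),
  (185745, 5, 22533, 44),
  (185747, 5, 148811, 39),
  (185753, 6, 251001, 17),
  (185755, 6, 198009, 7),
  (185765, 6, 219250, 22),
  (185767, 5, 243791, 20),
  (185773, 6, 60887, 19),
  (185775, 6, 251958, 22),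
  (185777, 6, 243003, 13),
  (185779, 6, 260206, 20),
  (185785, 6, 213339, 7),
  (185787, 6, 54429, 21),
  (185797, 6, 121315, 1),
  (185799, 5, 57491, 37),
  (185805, 5, 165917, 43),
  (185807, 6, 249037, 12),
  (185809, 5, 99507, 40),
  (185811, 5, 57389, 37),
  (185817, 5, 148809, 39),
  (185819, 5, 13337, 41),
  (185829, 5, 195041, 21),
  (185831, 6, 235570, 22),
  (185837, 5, 22721, 44),
  (185839, 6, 83289, 23),
  (185841, 6, 224483, 26),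
  (185843, 6, 129441, 19),
  (185849, 6, 194781, 19),
  (185851, 6, 113057, 19),
  (186369, 5, 149505, 39),
  (186370, 6, 6546, 25),
  (186373, 6, 39201, 2),
  (186374, 5, 139588, 43),
  (186377, 5, 136593, 41),
  (186378, 4, 246, 22),
  (186381, 6, 6501, 10),
  (186382, 4, 145538, 25),
  (186387, 6, 178479, 14),
  (186391, 6, 3453, 10),
  (186395, 6, 186610, 25),
  (186399, 5, 75161, 42),
  (186401, 6, 51529, 21),
  (186402, 6, 39270, 17),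
  (186405, 6, 182345, 21),
  (186406, 6, 184390, 8),
  (186409, 6, 39277, 17),
  (186410, 6, 125174, 22),
  (186413, 6, 186733, 16),
  (186414, 6, 210946, 25),
  (186419, 6, 121202, 25),
  (186423, 6, 37239, 17),
  (186427, 5, 74867, 42),
  (186431, 5, 74809, 42),
  (186433, 7, 53573, 21),
  (186434, 5, 180516, 39),
  (186437, 6, 170085, 24),
  (186438, 5, 4396, 39),
  (186441, 6, 39201, 10),
  (186442, 5, 2198, 42),
  (186445, 5, 149509, 39),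
  (186446, 6, 82006, 22),
  (186451, 5, 193821, 8),
  (186455, 6, 193911, 1),
  (186459, 6, 186614, 25),
  (186463, 5, 194790, 25),
  (186465, 6, 6501, 17),
  (186466, 4, 108786, 22),
  (186469, 6, 16749, 4),
  (186470, 4, 80134, 25),
  (186473, 6, 153957, 24),
  (186474, 6, 184390, 16),
  (186477, 6, 34009, 20),
  (186478, 6, 182574, 15),
  (186483, 5, 6519, 17),
  (186487, 6, 129382, 25),
  (186491, 6, 252022, 25),
  (186495, 5, 191801, 8),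
  (186499, 6, 137726, 22),
  (186503, 5, 71917, 44),
  (186507, 6, 212269, 25),
  (186511, 6, 251311, 1),
  (186513, 7, 58703, 21),
  (186514, 6, 243942, 8),
  (186517, 6, 252210, 19),
  (186518, 5, 212061, 25),
  (186521, 6, 156125, 8),
  (186522, 6, 125214, 5),
  (186525, 6, 208245, 25),
  (186526, 5, 194790, 12),
  (186531, 5, 220239, 7),
  (186535, 6, 194802, 22),
  (186539, 5, 136553, 41),
  (186543, 5, 75033, 42),
  (186545, 5, 136195, 41),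
  (186546, 5, 212173, 25),
  (186549, 6, 191563, 21),
  (186550, 5, 10386, 42),
  (186553, 6, 130073, 23),
  (186554, 5, 135460, 39),
  (186557, 7, 38205, 21),
  (186558, 5, 69658, 42),
  (186563, 6, 157141, 19),
  (186567, 5, 220613, 16),
  (186571, 6, 210221, 25),
  (186575, 7, 171481, 20),
  (186577, 6, 213245, 5),
  (186578, 6, 129450, 6),
  (186581, 6, 193607, 21),
  (186582, 6, 129454, 6),
  (186585, 5, 220389, 24),
  (186586, 7, 199997, 21),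
  (186589, 6, 93609, 22),
  (186590, 6, 248094, 15),
  (186595, 6, 243954, 22),
  (186599, 6, 178418, 22),
  (186603, 6, 220649, 16),
  (186607, 6, 178422, 22),
  (186609, 6, 243966, 19),
  (186610, 5, 164132, 39),
  (186613, 6, 162001, 15),
  (186614, 5, 20748, 39),
  (186617, 6, 220645, 24),
  (186618, 5, 172116, 43),
  (186621, 5, 149541, 39),
  (186622, 5, 126123, 22),
  (186625, 5, 149905, 39),
  (186626, 4, 205214, 25),
  (186629, 6, 186669, 13),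
  (186630, 5, 184334, 5),
  (186633, 6, 170281, 24),
  (186634, 5, 43226, 43),
  (186637, 6, 205094, 22),
  (186638, 5, 71766, 44),
  (186643, 7, 222237, 19),
  (186647, 6, 246174, 25),
  (186651, 5, 191801, 13),
  (186655, 6, 193607, 4),
  (186657, 5, 149793, 39),
  (186658, 6, 139678, 25),
  (186661, 6, 186369, 2),
  (186662, 5, 2194, 42),
  (186665, 6, 24982, 25),
  (186666, 5, 116982, 22),
  (186669, 5, 50387, 40),
  (186670, 4, 414, 25),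
  (186675, 7, 124183, 22),
  (186679, 6, 124311, 22),
  (186683, 6, 193549, 2),
  (186687, 6, 126355, 22),
  (186689, 6, 39277, 14),
  (186690, 6, 115915, 26),
  (186693, 6, 186733, 13),
  (186694, 7, 199066, 25),
  (186697, 6, 6497, 3),
  (186698, 5, 184334, 13),
  (186701, 5, 136525, 41),
  (186702, 4, 90182, 22),
  (186707, 6, 256410, 25),
  (186711, 6, 15609, 20),
  (186715, 6, 125338, 25),
  (186719, 6, 7417, 20),
  (186721, 6, 55649, 21),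
  (186722, 5, 65802, 41),
  (186725, 7, 186465, 21),
  (186726, 5, 147722, 41),
  (186729, 6, 39277, 1),
  (186730, 5, 75782, 42),
  (186733, 5, 149797, 39),
  (186734, 6, 35062, 22),
  (186739, 6, 137335, 17),
  (186743, 6, 214303, 19),
  (186747, 5, 43273, 43),
  (186751, 6, 51610, 25),
  (186755, 5, 251023, 12),
  (186759, 6, 218609, 23),
  (186763, 5, 35247, 14),
  (186767, 6, 212287, 25),
  (186769, 5, 136201, 41),
  (186770, 5, 47310, 42),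
  (186773, 6, 129477, 16),
  (186774, 5, 67730, 42),
  (186777, 6, 129481, 16),
  (186778, 5, 151586, 41),
  (186781, 6, 93593, 22),
  (186782, 5, 163940, 39),
  (186787, 5, 252146, 22),
  (186791, 6, 186610, 22),
  (186795, 5, 74851, 42),
  (186799, 6, 186614, 22),
  (186801, 6, 47614, 19),
  (186802, 6, 211178, 6),
  (186805, 5, 191595, 21),
  (186806, 7, 224427, 21),
  (186809, 6, 63966, 19),
  (186810, 5, 178658, 12),
  (186813, 6, 213341, 7),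
  (186814, 6, 162026, 13),
  (186819, 6, 101663, 20),
  (186823, 6, 227662, 22),
  (186827, 6, 160206, 22),
  (186831, 6, 225614, 22),
  (186833, 6, 47597, 14),
  (186834, 5, 49444, 39),
  (186837, 5, 252121, 12),
  (186838, 5, 135212, 39),
  (186841, 6, 57757, 8),
  (186842, 5, 164116, 43),
  (186845, 5, 149765, 39),
  (186846, 5, 104594, 42),
  (186851, 6, 248239, 11),
  (186855, 5, 251151, 7),
  (186859, 6, 252327, 11),
  (186863, 6, 170230, 22),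
  (186865, 6, 251365, 24),
  (186866, 6, 243882, 6),
  (186869, 6, 155885, 4),
  (186870, 6, 121150, 15),
  (186873, 6, 206311, 25),
  (186874, 5, 126011, 22),
  (186877, 6, 113058, 19),
  (186878, 6, 117054, 15),
  (187409, 6, 55802, 25),
  (187411, 6, 161235, 26),
  (187413, 5, 63978, 25),
  (187415, 6, 59882, 25),
  (187417, 6, 194879, 1),
  (187419, 6, 182522, 25),
  (187421, 6, 192831, 1),
  (187423, 5, 6519, 10),
  (187441, 6, 226317, 41),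
  (187443, 6, 118091, 21),
  (187445, 6, 129386, 25),
  (187447, 6, 162171, 8),
  (187449, 6, 126275, 22),
  (187451, 6, 247930, 25),
  (187453, 6, 38269, 17),
  (187455, 6, 93635, 22),
  (187473, 6, 23925, 17),
  (187475, 6, 240845, 23),
  (187477, 6, 36159, 10),
  (187479, 6, 194843, 8),
  (187481, 6, 163147, 16),
  (187483, 6, 93259, 20),
  (187485, 6, 146805, 3),
  (187487, 6, 39223, 10),
  (187505, 6, 186399, 7),
  (187507, 6, 192831, 8),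
  (187509, 6, 129390, 25),
  (187511, 6, 42237, 20),
  (187513, 6, 95303, 20),
  (187515, 7, 165293, 21),
  (187517, 6, 260206, 25),
  (187519, 6, 258331, 26),
  (187521, 6, 3563, 10),
  (187523, 6, 227709, 44),
  (187525, 6, 235838, 22),
  (187527, 5, 251301, 1),
  (187529, 6, 248875, 13),
  (187531, 6, 97367, 26),
  (187533, 6, 7655, 10),
  (187535, 6, 233854, 22),
  (187553, 6, 258331, 23),
  (187555, 6, 185541, 15),
  (187557, 7, 190665, 21),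
  (187559, 6, 239069, 20),
  (187561, 5, 220389, 11),
  (187563, 6, 216141, 7),
  (187565, 6, 162038, 22),
  (187567, 6, 212405, 25),
  (187585, 6, 252391, 1),
  (187587, 6, 186846, 22),
  (187589, 6, 179677, 20),
  (187591, 5, 35247, 10),
  (187593, 6, 256199, 19),
  (187595, 6, 247915, 13),
  (187597, 6, 257221, 19),
  (187599, 6, 138357, 24),
  (187617, 6, 249005, 11),
  (187619, 6, 243890, 22),
  (187621, 6, 249871, 7),
  (187623, 6, 186795, 8),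
  (187625, 6, 247823, 7),
  (187627, 6, 243894, 22),
  (187629, 6, 146805, 24),
  (187631, 6, 255415, 40),
  (187665, 6, 258454, 25),
  (187667, 6, 162923, 6),
  (187669, 6, 183675, 5),
  (187671, 6, 194879, 13),
  (187673, 6, 185719, 5),
  (187675, 6, 173289, 26),
  (187677, 6, 126417, 22),
  (187679, 6, 203991, 23),
  (187697, 6, 14783, 19),
  (187699, 6, 14825, 24),
  (187701, 6, 186427, 12),
  (187703, 6, 91607, 22),
  (187705, 6, 60685, 14),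
  (187707, 6, 192527, 2),
  (187709, 6, 240985, 23),
  (187711, 6, 211363, 19),
  (187729, 6, 145583, 19),
  (187731, 6, 158797, 4),
  (187733, 6, 185575, 21),
  (187735, 6, 252314, 25),
  (187737, 6, 191867, 13),
  (187739, 6, 125963, 20),
  (187741, 6, 209141, 24),
  (187743, 5, 5373, 20),
  (187761, 6, 193607, 2),
  (187763, 6, 192583, 2),
  (187765, 6, 11517, 20),
  (187767, 6, 194627, 2),
  (187769, 5, 193615, 2),
  (187771, 6, 63898, 25),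
  (187773, 6, 256025, 43),
  (187775, 6, 193847, 11),
  (187777, 5, 34207, 20),
  (187779, 6, 123245, 21),
  (187781, 6, 212445, 20),
  (187783, 6, 248299, 5),
  (187785, 5, 220613, 11),
  (187787, 6, 212263, 25),
  (187789, 7, 241966, 22),
  (187791, 6, 185541, 4),
  (187809, 6, 216557, 11),
  (187811, 6, 118091, 3),
  (187813, 6, 208349, 20),
  (187815, 6, 251907, 2),
  (187817, 6, 219382, 22),
  (187819, 6, 249871, 2),
  (187821, 6, 153846, 22),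
  (187823, 6, 251915, 2),
  (187841, 6, 249229, 11),
  (187843, 6, 185461, 24),
  (187845, 6, 38381, 14),
  (187847, 6, 117171, 19),
  (187849, 6, 192910, 22),
  (187851, 6, 232749, 7),
  (187853, 6, 249005, 6),
  (187855, 6, 258382, 22),
  (187873, 6, 252175, 7),
  (187875, 6, 249927, 2),
  (187877, 6, 97507, 26),
  (187879, 6, 88551, 16),
  (187881, 6, 202998, 22),
  (187883, 5, 235702, 22),
  (187885, 5, 251301, 11),
  (187887, 6, 170166, 22),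
  (188419, 7, 131443, 22),
  (188421, 6, 102435, 20),
  (188422, 6, 14546, 25),
  (188425, 6, 143540, 19),
  (188426, 6, 102452, 20),
  (188428, 5, 188764, 16),
  (188431, 6, 91643, 26),
  (188435, 6, 155715, 11),
  (188437, 6, 35125, 2),
  (188438, 6, 155990, 15),
  (188441, 6, 206035, 26),
  (188442, 6, 155754, 4),
  (188444, 6, 160084, 15),
  (188447, 6, 161867, 11),
  (188451, 6, 135317, 19),
  (188453, 6, 157761, 7),
  (188454, 6, 50475, 26),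
  (188457, 6, 134449, 22),
  (188458, 6, 3185, 22),
  (188460, 4, 68785, 22),
  (188463, 6, 162883, 7),
  (188467, 5, 371, 6),
  (188469, 6, 182545, 14),
  (188470, 4, 374, 6),
  (188473, 6, 155703, 22),
  (188474, 6, 16762, 13),
  (188476, 6, 90167, 22),
  (188479, 6, 260402, 25),
  (188483, 5, 92449, 40),
  (188485, 5, 92545, 40),
  (188486, 4, 217478, 21),
  (188489, 6, 73871, 23),
  (188490, 6, 23721, 21),
  (188492, 4, 141782, 25),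
  (188495, 6, 183675, 1),
  (188499, 6, 173171, 22),
  (188501, 6, 59733, 12),
  (188502, 5, 88482, 44),
  (188505, 4, 182694, 25),
  (188506, 6, 42103, 22),
  (188508, 6, 24940, 7),
  (188511, 6, 162941, 5),
  (188515, 6, 147795, 3),
  (188517, 6, 59733, 2),
  (188518, 6, 133494, 10),
  (188521, 4, 102586, 20),
  (188522, 4, 102588, 20),
  (188524, 3, 156028, 16),
  (188527, 6, 186427, 11),
  (188531, 6, 188467, 26),
  (188533, 6, 124982, 25),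
  (188534, 5, 57654, 42),
  (188537, 5, 192529, 7),
  (188538, 5, 192602, 16),
  (188540, 6, 37172, 6),
  (188543, 6, 260406, 25),
  (188545, 6, 101413, 25),
  (188546, 6, 156130, 2),
  (188548, 6, 155918, 21),
  (188551, 7, 201211, 22),
  (188552, 6, 196984, 12),
  (188555, 6, 107833, 2),
  (188557, 6, 143606, 19),
  (188558, 5, 27102, 13),
  (188561, 4, 143580, 19),
  (188562, 6, 249860, 20),
  (188564, 6, 249857, 20),
  (188567, 6, 235582, 21),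
  (188568, 6, 205160, 12),
  (188571, 6, 243167, 24),
  (188573, 6, 32115, 21),
  (188574, 5, 106702, 39),
  (188577, 6, 59466, 21),
  (188578, 6, 213234, 11),
  (188580, 6, 156116, 5),
  (188583, 6, 135383, 19),
  (188584, 6, 7225, 22),
  (188587, 5, 214407, 44),
  (188589, 6, 243949, 5),
  (188590, 6, 145898, 2),
  (188593, 6, 71055, 24),
  (188594, 7, 135385, 19),
  (188596, 5, 188868, 40),
  (188599, 6, 249871, 20),
  (188600, 6, 147928, 5),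
  (188603, 6, 192631, 22),
  (188605, 6, 243965, 5),
  (188606, 5, 252350, 7),
  (188609, 6, 90285, 23),
  (188610, 4, 94342, 21),
  (188612, 4, 143826, 19)]

theorem chk_rows2_20 : rows2_20.all (rowBP tr2 gensLitP 72) = true := by decide +kernel

/-- Rows 31500 to 32999. -/
def rows2_21 : List (ℕ × ℕ × ℕ × ℕ) := [(188615, 6, 196983, 3),
  (188616, 6, 90488, 20),
  (188619, 6, 185745, 8),
  (188621, 6, 129477, 12),
  (188622, 6, 247870, 4),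
  (188625, 4, 249986, 20),
  (188626, 5, 188868, 41),
  (188628, 4, 133199, 26),
  (188631, 6, 191877, 8),
  (188632, 6, 74104, 20),
  (188635, 6, 242739, 7),
  (188637, 6, 194949, 8),
  (188638, 6, 103773, 25),
  (188641, 6, 63554, 21),
  (188642, 5, 213330, 3),
  (188644, 6, 90452, 11),
  (188647, 5, 55461, 38),
  (188648, 6, 23583, 23),
  (188651, 5, 214055, 44),
  (188653, 6, 32125, 21),
  (188654, 6, 252090, 11),
  (188657, 6, 249994, 20),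
  (188658, 5, 180692, 40),
  (188660, 6, 131134, 21),
  (188663, 6, 190527, 26),
  (188664, 6, 74104, 17),
  (188667, 5, 250014, 20),
  (188669, 5, 194981, 8),
  (188670, 5, 51646, 13),
  (188675, 6, 147795, 11),
  (188677, 4, 123078, 25),
  (188678, 3, 213422, 21),
  (188681, 4, 102514, 20),
  (188682, 4, 102516, 20),
  (188684, 6, 192892, 12),
  (188687, 6, 146787, 7),
  (188691, 6, 120846, 21),
  (188693, 5, 208926, 19),
  (188694, 6, 174390, 16),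
  (188697, 5, 192529, 12),
  (188698, 6, 196814, 25),
  (188700, 3, 156028, 14),
  (188703, 6, 118871, 20),
  (188707, 6, 189555, 4),
  (188709, 4, 200726, 19),
  (188710, 6, 215466, 21),
  (188713, 6, 206145, 26),
  (188714, 6, 7333, 21),
  (188716, 6, 117089, 24),
  (188719, 6, 174187, 17),
  (188723, 6, 180339, 22),
  (188725, 5, 184334, 21),
  (188726, 5, 57670, 3),
  (188729, 6, 7271, 21),
  (188730, 6, 61770, 3),
  (188732, 6, 200762, 19),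
  (188735, 6, 7655, 21),
  (188739, 5, 371, 3),
  (188741, 6, 184678, 21),
  (188742, 4, 374, 3),
  (188745, 7, 209204, 19),
  (188746, 6, 139642, 8),
  (188748, 6, 180357, 24),
  (188751, 6, 7657, 21),
  (188755, 6, 116750, 21),
  (188757, 6, 182286, 21),
  (188758, 6, 35186, 14),
  (188761, 6, 7275, 21),
  (188762, 6, 155770, 17),
  (188764, 4, 188678, 41),
  (188767, 6, 163197, 5),
  (188771, 6, 189441, 10),
  (188773, 6, 186722, 21),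
  (188774, 6, 16726, 3),
  (188777, 4, 182466, 25),
  (188778, 6, 159810, 1),
  (188780, 5, 71982, 44),
  (188783, 6, 193549, 10),
  (188787, 6, 189555, 12),
  (188789, 5, 92549, 40),
  (188790, 4, 213006, 21),
  (188793, 6, 131127, 22),
  (188794, 6, 7343, 21),
  (188796, 4, 141506, 25),
  (188799, 5, 92597, 40),
  (188801, 4, 233570, 20),
  (188802, 4, 233572, 20),
  (188804, 6, 233569, 20),
  (188807, 6, 191699, 4),
  (188808, 6, 155864, 13),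
  (188811, 6, 251185, 13),
  (188813, 6, 209014, 19),
  (188814, 5, 254132, 40),
  (188817, 6, 249922, 20),
  (188818, 6, 213234, 6),
  (188820, 6, 90452, 15),
  (188823, 5, 252337, 23),
  (188824, 6, 101703, 25),
  (188827, 6, 144633, 10),
  (188829, 6, 253419, 24),
  (188830, 6, 121246, 7),
  (188833, 6, 142657, 26),
  (188834, 4, 92330, 21),
  (188836, 6, 90468, 15),
  (188839, 5, 55385, 38),
  (188840, 6, 196984, 4),
  (188843, 5, 209043, 43),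
  (188845, 6, 209141, 6),
  (188846, 6, 158815, 23),
  (188849, 6, 155857, 10),
  (188850, 6, 249932, 20),
  (188852, 6, 24669, 23),
  (188855, 6, 249886, 21),
  (188856, 6, 147704, 13),
  (188859, 6, 185595, 4),
  (188861, 6, 122347, 24),
  (188862, 5, 14842, 2),
  (188865, 6, 90577, 16),
  (188866, 6, 209233, 19),
  (188868, 4, 209234, 19),
  (188871, 6, 103487, 25),
  (188872, 6, 147704, 7),
  (188875, 6, 233718, 20),
  (188877, 6, 244001, 7),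
  (188878, 5, 10442, 37),
  (188881, 6, 99431, 25),
  (188882, 5, 90594, 10),
  (188884, 5, 155876, 7),
  (188887, 7, 103551, 25),
  (188888, 6, 101699, 26),
  (188891, 6, 250070, 20),
  (188893, 5, 214149, 44),
  (188894, 5, 96742, 10),
  (188897, 6, 103755, 37),
  (188898, 6, 140677, 24),
  (188900, 6, 201042, 19),
  (188903, 6, 163147, 26),
  (188904, 6, 147928, 15),
  (188907, 6, 204907, 17),
  (188909, 5, 208915, 43),
  (188910, 6, 72182, 10),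
  (188913, 4, 201052, 19),
  (188914, 4, 250060, 20),
  (188916, 6, 250057, 20),
  (188919, 6, 60837, 8),
  (188920, 6, 156104, 15),
  (188923, 6, 250078, 20),
  (188925, 6, 242021, 13),
  (188926, 6, 260194, 5),
  (189441, 5, 149505, 40),
  (189443, 5, 149905, 40),
  (189453, 6, 162298, 25),
  (189455, 5, 136201, 42),
  (189457, 5, 136593, 42),
  (189459, 6, 156755, 26),
  (189469, 6, 36159, 2),
  (189471, 6, 21879, 6),
  (189473, 6, 155715, 7),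
  (189475, 6, 24899, 10),
  (189485, 6, 227706, 25),
  (189487, 6, 162881, 7),
  (189489, 6, 120842, 20),
  (189491, 6, 120846, 20),
  (189501, 6, 260410, 25),
  (189503, 6, 162923, 11),
  (189505, 6, 74125, 23),
  (189507, 5, 149793, 40),
  (189517, 5, 136195, 42),
  (189519, 6, 89577, 21),
  (189521, 6, 189441, 11),
  (189523, 6, 147795, 16),
  (189533, 7, 205051, 26),
  (189535, 6, 190910, 25),
  (189537, 6, 181521, 22),
  (189539, 6, 156019, 16),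
  (189549, 6, 249233, 22),
  (189551, 5, 249297, 22),
  (189553, 6, 155715, 15),
  (189555, 5, 50387, 38),
  (189565, 6, 228535, 19),
  (189567, 6, 38199, 6),
  (189573, 6, 125319, 12),
  (189575, 6, 254286, 21),
  (189577, 6, 235570, 20),
  (189579, 6, 213183, 23),
  (189589, 6, 235710, 21),
  (189591, 6, 251911, 20),
  (189593, 6, 97395, 21),
  (189595, 6, 128401, 12),
  (189605, 6, 190922, 21),
  (189607, 6, 256330, 21),
  (189609, 5, 71917, 37),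
  (189611, 6, 235582, 20),
  (189621, 5, 75161, 44),
  (189623, 5, 25047, 10),
  (189625, 6, 242939, 5),
  (189627, 5, 128433, 12),
  (189637, 6, 192966, 21),
  (189639, 7, 254125, 23),
  (189641, 5, 128433, 6),
  (189643, 5, 235702, 20),
  (189653, 5, 74867, 44),
  (189655, 6, 240689, 7),
  (189657, 5, 136553, 42),
  (189659, 5, 74851, 44),
  (189669, 6, 126295, 2),
  (189671, 6, 235695, 20),
  (189673, 6, 235706, 20),
  (189675, 6, 235710, 20),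
  (189685, 5, 74809, 44),
  (189687, 6, 252047, 20),
  (189689, 5, 75033, 44),
  (189691, 6, 252062, 20),
  (189697, 7, 70037, 23),
  (189699, 6, 189441, 12),
  (189709, 6, 38269, 3),
  (189711, 5, 191595, 17),
  (189713, 6, 189811, 5),
  (189715, 6, 189555, 17),
  (189725, 5, 128361, 26),
  (189727, 6, 163147, 11),
  (189729, 6, 157025, 26),
  (189731, 6, 155715, 10),
  (189741, 6, 241057, 22),
  (189743, 6, 36153, 1),
  (189745, 5, 371, 9),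
  (189747, 5, 136525, 42),
  (189757, 6, 120923, 20),
  (189759, 5, 149765, 40),
  (189761, 6, 1393, 3),
  (189763, 6, 188739, 22),
  (189773, 6, 260290, 25),
  (189775, 6, 243051, 26),
  (189777, 6, 58723, 26),
  (189779, 6, 156019, 5),
  (189789, 6, 128363, 26),
  (189791, 6, 73195, 21),
  (189793, 6, 147795, 15),
  (189795, 7, 80265, 19),
  (189805, 6, 192917, 24),
  (189807, 6, 36217, 1),
  (189809, 6, 25955, 26),
  (189811, 5, 149797, 40),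
  (189821, 5, 149541, 40),
  (189823, 7, 79211, 26),
  (189829, 5, 240695, 2),
  (189831, 6, 254318, 21),
  (189833, 6, 101679, 25),
  (189835, 6, 217271, 23),
  (189845, 6, 252062, 21),
  (189847, 6, 186526, 21),
  (189849, 6, 81011, 21),
  (189851, 6, 81139, 21),
  (189861, 6, 60817, 14),
  (189863, 6, 92509, 23),
  (189865, 6, 81013, 21),
  (189867, 6, 235646, 20),
  (189877, 5, 250014, 21),
  (189879, 5, 240755, 17),
  (189881, 7, 222495, 23),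
  (189883, 7, 105959, 25),
  (189893, 6, 192998, 21),
  (189895, 5, 249235, 11),
  (189897, 6, 235762, 20),
  (189899, 6, 242977, 7),
  (189909, 6, 247966, 21),
  (189911, 5, 43273, 39),
  (189913, 6, 139755, 15),
  (189915, 6, 82395, 16),
  (189925, 6, 195042, 21),
  (189927, 6, 103607, 25),
  (189929, 5, 147931, 15),
  (189931, 5, 242867, 6),
  (189941, 5, 248919, 2),
  (189943, 6, 103671, 25),
  (189945, 6, 252122, 20),
  (189947, 6, 252126, 20),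
  (190465, 6, 59733, 4),
  (190466, 6, 205109, 24),
  (190469, 4, 26850, 25),
  (190470, 5, 82066, 44),
  (190475, 6, 183615, 1),
  (190479, 6, 15725, 10),
  (190481, 7, 80262, 19),
  (190482, 6, 16726, 13),
  (190485, 4, 198938, 19),
  (190486, 3, 155718, 11),
  (190491, 6, 191791, 1),
  (190495, 6, 36153, 2),
  (190497, 6, 46355, 26),
  (190498, 5, 57670, 1),
  (190501, 4, 211210, 19),
  (190502, 5, 151838, 43),
  (190507, 6, 219506, 25),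
  (190511, 6, 200049, 22),
  (190513, 5, 21649, 38),
  (190514, 6, 139366, 4),
  (190517, 6, 155827, 22),
  (190518, 6, 158070, 15),
  (190523, 6, 252210, 25),
  (190527, 5, 6519, 6),
  (190529, 6, 53574, 21),
  (190530, 5, 34838, 39),
  (190533, 6, 184390, 21),
  (190534, 6, 190726, 15),
  (190539, 6, 186399, 11),
  (190543, 6, 162278, 25),
  (190545, 4, 51382, 25),
  (190546, 6, 151651, 26),
  (190549, 6, 35118, 21),
  (190550, 5, 57670, 5),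
  (190555, 6, 34173, 2),
  (190559, 6, 36217, 2),
  (190561, 4, 84086, 25),
  (190562, 5, 88450, 21),
  (190565, 6, 186434, 21),
  (190566, 6, 155734, 8),
  (190571, 5, 194981, 24),
  (190575, 6, 159101, 16),
  (190577, 4, 211094, 19),
  (190578, 6, 188502, 16),
  (190581, 5, 21659, 38),
  (190582, 6, 51433, 20),
  (190587, 6, 252214, 25),
  (190591, 6, 158795, 15),
  (190595, 6, 60887, 4),
  (190599, 6, 150993, 8),
  (190601, 6, 106813, 2),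
  (190602, 6, 194810, 12),
  (190605, 6, 163185, 21),
  (190606, 5, 163249, 21),
  (190611, 5, 249297, 16),
  (190615, 6, 126355, 12),
  (190617, 6, 129510, 19),
  (190618, 6, 244074, 3),
  (190621, 6, 129425, 12),
  (190622, 5, 151588, 42),
  (190627, 6, 125386, 21),
  (190631, 5, 100585, 37),
  (190633, 6, 241901, 5),
  (190634, 6, 7417, 22),
  (190637, 6, 252253, 3),
  (190638, 6, 106696, 41),
  (190643, 6, 7655, 20),
  (190647, 6, 159201, 8),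
  (190649, 5, 21835, 38),
  (190650, 6, 127223, 22),
  (190653, 6, 129457, 12),
  (190654, 5, 151588, 43),
  (190659, 6, 127430, 21),
  (190663, 6, 198747, 40),
  (190665, 6, 129457, 6),
  (190666, 6, 162042, 12),
  (190669, 6, 163193, 21),
  (190670, 5, 250014, 11),
  (190675, 5, 240695, 7),
  (190679, 5, 100670, 21),
  (190681, 6, 127445, 12),
  (190682, 5, 20748, 42),
  (190685, 6, 211309, 3),
  (190686, 5, 243834, 16),
  (190691, 6, 129474, 21),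
  (190695, 6, 260290, 21),
  (190697, 5, 137561, 42),
  (190698, 5, 106584, 41),
  (190701, 6, 163197, 21),
  (190702, 6, 175525, 24),
  (190707, 6, 60817, 10),
  (190711, 6, 98622, 21),
  (190713, 6, 260342, 19),
  (190714, 5, 106514, 41),
  (190717, 5, 74109, 17),
  (190718, 5, 127334, 5),
  (190721, 7, 123094, 25),
  (190722, 6, 82350, 21),
  (190725, 6, 203162, 19),
  (190726, 5, 198830, 40),
  (190731, 6, 138465, 21),
  (190735, 6, 60765, 16),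
  (190737, 6, 35125, 14),
  (190738, 6, 50505, 26),
  (190741, 6, 46401, 26),
  (190742, 6, 65758, 25),
  (190747, 6, 39223, 14),
  (190751, 6, 213214, 25),
  (190753, 6, 35125, 1),
  (190754, 4, 84394, 21),
  (190757, 7, 211338, 19),
  (190758, 6, 35186, 10),
  (190763, 6, 36159, 1),
  (190767, 6, 180446, 25),
  (190769, 6, 24933, 8),
  (190770, 6, 188502, 1),
  (190773, 5, 198965, 40),
  (190774, 5, 34898, 39),
  (190779, 6, 91465, 26),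
  (190783, 5, 191819, 15),
  (190785, 6, 110789, 23),
  (190786, 6, 139366, 1),
  (190789, 6, 184422, 21),
  (190790, 6, 158070, 12),
  (190795, 5, 6523, 3),
  (190799, 6, 248026, 25),
  (190801, 6, 139621, 15),
  (190802, 6, 190726, 11),
  (190805, 4, 132275, 22),
  (190806, 4, 84238, 21),
  (190811, 6, 109631, 20),
  (190815, 6, 37239, 14),
  (190817, 6, 59733, 14),
  (190818, 3, 155718, 1),
  (190821, 4, 51410, 25),
  (190822, 6, 139366, 17),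
  (190827, 6, 190682, 25),
  (190831, 6, 150875, 15),
  (190833, 6, 9547, 26),
  (190834, 5, 81970, 44),
  (190837, 5, 76170, 19),
  (190838, 6, 82190, 21),
  (190843, 6, 144765, 5),
  (190847, 6, 146809, 5),
  (190851, 6, 126417, 16),
  (190855, 6, 240689, 2),
  (190857, 6, 252209, 13),
  (190858, 6, 146609, 21),
  (190861, 6, 252314, 19),
  (190862, 5, 151596, 43),
  (190867, 6, 210013, 19),
  (190871, 6, 106777, 41),
  (190873, 6, 63974, 19),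
  (190874, 6, 146611, 21),
  (190877, 6, 21645, 38),
  (190878, 6, 10278, 44),
  (190883, 6, 191735, 4),
  (190887, 6, 256234, 21),
  (190889, 5, 25841, 44),
  (190890, 6, 251958, 5),
  (190893, 6, 146805, 21),
  (190894, 5, 151586, 43),
  (190899, 6, 26085, 8),
  (190903, 6, 119070, 21),
  (190905, 6, 244001, 13),
  (190906, 6, 111078, 10),
  (190909, 6, 81217, 26),
  (190910, 5, 106702, 41),
  (190915, 5, 191819, 26),
  (190919, 5, 106595, 41),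
  (190921, 6, 146553, 21),
  (190922, 5, 151820, 43),
  (190925, 6, 146809, 21),
  (190926, 6, 244074, 16),
  (190931, 6, 175281, 10),
  (190935, 6, 117022, 21),
  (190937, 5, 194790, 19),
  (190938, 4, 172114, 39),
  (190941, 5, 100393, 37),
  (190942, 6, 210299, 19),
  (190947, 6, 129506, 21),
  (190951, 6, 260322, 21),
  (190953, 6, 190718, 19),
  (190954, 5, 151820, 42),
  (190957, 5, 25793, 44),
  (190958, 6, 249974, 5),
  (190963, 6, 231603, 6),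
  (190967, 6, 60833, 8),
  (190969, 6, 194806, 19),
  (190970, 6, 146623, 21),
  (190973, 6, 151805, 4),
  (190974, 5, 129334, 15),
  (191497, 6, 154106, 25),
  (191499, 6, 32115, 6),
  (191501, 5, 163909, 42),
  (191503, 5, 49281, 41),
  (191513, 6, 186810, 25),
  (191515, 6, 216347, 19),
  (191517, 6, 194986, 25),
  (191519, 6, 189623, 22),
  (191529, 6, 191867, 16),
  (191531, 5, 66971, 37),
  (191533, 6, 232753, 22),
  (191535, 5, 10573, 40),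
  (191545, 5, 242867, 26),
  (191547, 6, 7539, 6),
  (191549, 6, 155895, 22),
  (191551, 6, 191561, 15),
  (191561, 5, 12361, 39),
  (191563, 5, 69889, 43),
  (191565, 6, 162923, 5),
  (191567, 6, 220649, 21),
  (191577, 6, 150875, 16),
  (191579, 6, 195599, 11),
  (191581, 6, 193549, 11),
  (191583, 6, 220651, 21),
  (191593, 5, 10589, 40),
  (191595, 4, 132203, 44),
  (191597, 6, 249105, 22),
  (191599, 6, 249169, 22),
  (191609, 6, 252222, 25),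
  (191611, 6, 248126, 25),
  (191613, 6, 260398, 25),
  (191615, 6, 178279, 13),
  (191617, 6, 109613, 25),
  (191619, 6, 247859, 13),
  (191621, 6, 82429, 23),
  (191623, 6, 213245, 23),
  (191633, 6, 1519, 20),
  (191635, 6, 126327, 17),
  (191637, 6, 249303, 16),
  (191639, 5, 49493, 41),
  (191649, 5, 69705, 43),
  (191651, 6, 125258, 21),
  (191653, 6, 110045, 19),
  (191655, 6, 256074, 21),
  (191665, 5, 18689, 38),
  (191667, 5, 49331, 41),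
  (191669, 6, 249325, 20),
  (191671, 6, 247277, 20),
  (191681, 6, 132589, 44),
  (191683, 6, 93543, 17),
  (191685, 5, 25047, 4),
  (191687, 6, 185805, 20),
  (191697, 6, 231870, 21),
  (191699, 5, 164139, 42),
  (191701, 6, 257127, 13),
  (191703, 6, 126417, 12),
  (191713, 6, 87399, 20),
  (191715, 6, 205031, 5),
  (191717, 6, 252253, 23),
  (191719, 5, 69833, 43),
  (191729, 6, 178231, 26),
  (191731, 6, 220469, 24),
  (191733, 6, 98750, 21),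
  (191735, 5, 18693, 38),
  (191753, 6, 27055, 19),
  (191755, 6, 233687, 23),
  (191757, 6, 250070, 25),
  (191759, 6, 250078, 25),
  (191769, 6, 225494, 25),
  (191771, 5, 66843, 37),
  (191773, 6, 252377, 24),
  (191775, 6, 38199, 14),
  (191785, 6, 175521, 22),
  (191787, 6, 161867, 10),
  (191789, 6, 93389, 20),
  (191791, 5, 69733, 43),
  (191801, 4, 10661, 40),
  (191803, 6, 159966, 25),
  (191805, 5, 49265, 41),
  (191807, 5, 49345, 41),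
  (191817, 5, 49389, 41),
  (191819, 4, 12691, 39),
  (191821, 6, 194627, 12),
  (191823, 6, 252122, 25),
  (191833, 6, 192599, 12),
  (191835, 6, 227546, 25),
  (191837, 6, 194643, 12),
  (191839, 6, 162171, 5),
  (191849, 6, 191873, 22),
  (191851, 6, 194778, 25),
  (191853, 5, 66617, 37),
  (191855, 6, 34173, 1),
  (191865, 5, 12377, 39),
  (191867, 5, 12307, 39),
  (191869, 5, 193837, 11),
  (191871, 6, 49649, 41),
  (191873, 5, 18721, 38),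
  (191875, 6, 257127, 17),
  (191877, 5, 132507, 44),
  (191879, 6, 189653, 4),
  (191889, 5, 18561, 38),
  (191891, 6, 36267, 20),
  (191893, 6, 205175, 7),
  (191895, 6, 218605, 20),
  (191905, 6, 59882, 21),
  (191907, 6, 125290, 21),
  (191909, 6, 190698, 21),
  (191911, 6, 257185, 12),
  (191921, 5, 18865, 38),
  (191923, 5, 25063, 8),
  (191925, 6, 216557, 20),
  (191927, 6, 126279, 3),
  (191937, 6, 61926, 21),
  (191939, 5, 127334, 21),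
  (191941, 5, 240755, 2),
  (191943, 5, 132363, 44),
  (191953, 5, 132517, 44),
  (191955, 6, 182686, 21),
  (191957, 6, 117150, 21),
  (191959, 5, 18565, 38),
  (191969, 6, 63970, 21),
  (191971, 6, 60887, 14),
  (191973, 6, 232823, 13),
  (191975, 6, 260194, 21),
  (191985, 6, 156103, 15),
  (191987, 6, 111847, 25),
  (191989, 6, 191639, 10),
  (191991, 5, 18869, 38),
  (192513, 4, 110626, 20),
  (192514, 6, 6594, 25),
  (192516, 5, 204930, 44),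
  (192519, 6, 225661, 24),
  (192521, 4, 149730, 25),
  (192522, 5, 45068, 39),
  (192524, 6, 172332, 4),
  (192527, 5, 45121, 39),
  (192529, 4, 86093, 43),
  (192530, 3, 156026, 2),
  (192532, 6, 147548, 1),
  (192535, 6, 63922, 25),
  (192537, 5, 158775, 22),
  (192538, 6, 16762, 6),
  (192540, 4, 174226, 25),
  (192543, 6, 194738, 25),
  (192545, 6, 42387, 26),
  (192546, 6, 74069, 24),
  (192548, 6, 34187, 26),
  (192551, 6, 194843, 14),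
  (192553, 6, 155721, 7),
  (192554, 5, 192602, 8),
  (192556, 6, 192892, 16),
  (192559, 5, 212061, 23),
  (192561, 6, 52297, 21),
  (192562, 6, 139642, 2),
  (192564, 6, 12383, 23),
  (192567, 6, 126991, 20),
  (192569, 5, 377, 6),
  (192570, 3, 156026, 15),
  (192572, 3, 156028, 15),
  (192575, 6, 210013, 23),
  (192577, 6, 110754, 20),
  (192578, 5, 74114, 44),
  (192580, 6, 160084, 16),
  (192583, 5, 45065, 39),
  (192585, 5, 45129, 39),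
  (192586, 5, 110772, 20),
  (192588, 5, 45060, 39),
  (192591, 5, 141745, 40),
  (192593, 6, 160156, 19),
  (192594, 6, 39302, 25),
  (192596, 5, 247877, 24),
  (192599, 5, 86221, 43),
  (192601, 4, 127122, 20),
  (192602, 4, 217486, 38),
  (192604, 4, 380, 11),
  (192607, 6, 240759, 22),
  (192609, 4, 84326, 25),
  (192610, 6, 45370, 6),
  (192612, 6, 160116, 16),
  (192615, 6, 96630, 25),
  (192617, 6, 151988, 19),
  (192618, 6, 202822, 25),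
  (192620, 6, 149957, 24),
  (192623, 6, 110783, 20),
  (192625, 6, 141363, 22),
  (192626, 6, 43123, 22),
  (192628, 6, 41340, 8),
  (192631, 5, 129334, 25),
  (192633, 5, 114861, 41),
  (192634, 5, 45442, 39),
  (192636, 5, 188764, 4),
  (192639, 6, 239735, 22),
  (192643, 6, 213211, 11),
  (192645, 5, 252337, 1),
  (192646, 6, 219254, 4),
  (192651, 6, 241718, 20),
  (192653, 6, 125325, 12),
  (192654, 6, 192758, 12),
  (192659, 6, 236653, 25),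
  (192661, 6, 159966, 19),
  (192662, 5, 180478, 12),
  (192667, 5, 168291, 42),
  (192669, 6, 251311, 24),
  (192670, 6, 10278, 38),
  (192675, 6, 227359, 23),
  (192677, 6, 190795, 21),
  (192678, 6, 52655, 26),
  (192683, 6, 241726, 20),
  (192685, 5, 151798, 19),
  (192686, 6, 162909, 23),
  (192691, 6, 194675, 22),
  (192693, 5, 45165, 39),
  (192694, 5, 244206, 10),
  (192699, 6, 193739, 15),
  (192701, 5, 194765, 15),
  (192702, 5, 10386, 37),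
  (192707, 6, 251001, 13),
  (192709, 6, 192839, 21),
  (192710, 6, 251958, 4),
  (192715, 6, 201075, 3),
  (192717, 6, 252049, 11),
  (192718, 6, 251966, 4),
  (192723, 6, 128475, 12),
  (192725, 6, 129501, 12),
  (192726, 6, 98392, 39),
  (192731, 7, 179319, 22),
  (192733, 5, 126123, 23),
  (192734, 5, 151798, 12),
  (192739, 5, 45397, 39),
  (192741, 5, 168221, 42),
  (192742, 6, 152019, 19),
  (192747, 5, 168213, 42),
  (192749, 6, 89181, 23),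
  (192750, 5, 190938, 14),
  (192755, 5, 140441, 44),
  (192757, 6, 244193, 1),
  (192758, 5, 75910, 37),
  (192763, 6, 234989, 25),
  (192765, 6, 152062, 19),
  (192766, 5, 27102, 1),
  (192769, 4, 246214, 25),
  (192770, 6, 82095, 21),
  (192772, 5, 238022, 25),
  (192775, 6, 195599, 12),
  (192777, 6, 225332, 19),
  (192778, 6, 192882, 12),
  (192780, 6, 160084, 1),
  (192783, 6, 37239, 3),
  (192785, 6, 213446, 25),
  (192786, 6, 52339, 22),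
  (192788, 6, 160116, 14),
  (192791, 5, 193837, 13),
  (192793, 6, 127058, 20),
  (192794, 5, 174450, 38),
  (192796, 5, 248225, 24),
  (192799, 6, 248951, 22),
  (192801, 5, 192529, 2),
  (192802, 4, 84139, 21),
  (192804, 3, 156028, 1),
  (192807, 6, 248299, 21),
  (192809, 6, 140581, 22),
  (192810, 5, 141426, 40),
  (192812, 6, 24940, 15),
  (192815, 6, 178283, 17),
  (192817, 5, 45073, 39),
  (192818, 5, 192602, 1),
  (192820, 5, 65810, 44),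
  (192823, 6, 156110, 25),
  (192825, 6, 16838, 25),
  (192826, 5, 74002, 44),
  (192828, 6, 8646, 25),
  (192831, 5, 45137, 39),
  (192833, 5, 377, 3),
  (192834, 3, 156026, 12),
  (192836, 3, 156028, 12),
  (192839, 5, 114797, 41),
  (192841, 6, 155911, 22),
  (192842, 6, 16762, 10),
  (192844, 6, 160116, 12),
  (192847, 6, 125386, 25),
  (192849, 5, 127170, 20),
  (192850, 5, 127172, 20),
  (192852, 6, 37172, 5),
  (192855, 6, 251365, 21),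
  (192857, 4, 134199, 22),
  (192858, 6, 83983, 21),
  (192860, 6, 41340, 4),
  (192863, 6, 247823, 21),
  (192865, 6, 217364, 19),
  (192866, 6, 139642, 12),
  (192868, 6, 217362, 19),
  (192871, 6, 190922, 25),
  (192873, 4, 110842, 20),
  (192874, 4, 155722, 1),
  (192876, 6, 192820, 1),
  (192879, 7, 110847, 20),
  (192881, 6, 75203, 26),
  (192882, 5, 196882, 44),
  (192884, 6, 61788, 4),
  (192887, 5, 45081, 39),
  (192889, 5, 114913, 41),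
  (192890, 4, 127196, 20),
  (192892, 5, 155924, 40),
  (192895, 6, 146805, 5),
  (192899, 6, 189659, 4),
  (192901, 6, 127445, 16),
  (192902, 5, 254228, 40),
  (192907, 6, 241782, 20),
  (192909, 6, 119991, 23),
  (192910, 5, 75794, 37),
  (192915, 6, 120273, 16),
  (192917, 5, 45389, 39),
  (192918, 6, 117150, 7),
  (192923, 6, 220595, 23),
  (192925, 6, 213245, 6),
  (192926, 6, 258133, 20),
  (192931, 6, 239081, 5),
  (192933, 5, 168043, 42),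
  (192934, 5, 45190, 39),
  (192939, 6, 185819, 15),
  (192941, 6, 186845, 15),
  (192942, 4, 114820, 41),
  (192947, 6, 186483, 22),
  (192949, 6, 113057, 1),
  (192950, 5, 260138, 5),
  (192955, 6, 238889, 13),
  (192957, 6, 217214, 19),
  (192958, 5, 243834, 17),
  (192963, 6, 234543, 25),
  (192965, 6, 185541, 24),
  (192966, 5, 164116, 40),
  (192971, 5, 86285, 43),
  (192973, 6, 162001, 4),
  (192974, 5, 45190, 37),
  (192979, 5, 45381, 39),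
  (192981, 6, 250949, 24),
  (192982, 6, 234591, 25),
  (192987, 6, 177329, 10),
  (192989, 6, 225662, 19),
  (192990, 5, 121302, 7),
  (192995, 6, 241902, 20),
  (192997, 6, 217430, 19),
  (192998, 5, 106584, 39),
  (193003, 6, 234927, 25),
  (193005, 5, 167971, 42),
  (193006, 5, 45262, 39),
  (193011, 6, 93635, 26),
  (193013, 6, 230647, 25),
  (193014, 6, 186550, 13),
  (193019, 6, 193681, 10),
  (193021, 6, 230903, 25),
  (193022, 6, 186558, 13),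
  (193541, 6, 135345, 43),
  (193543, 5, 98377, 37),
  (193549, 5, 20493, 38),
  (193551, 6, 60685, 12),
  (193557, 6, 178279, 15),
  (193559, 6, 158795, 11),
  (193565, 6, 194859, 1),
  (193567, 6, 162883, 11),
  (193573, 6, 161867, 7),
  (193575, 6, 192887, 16),
  (193581, 6, 227450, 25),
  (193583, 5, 41159, 41),
  (193589, 6, 129035, 20),
  (193591, 6, 94701, 24),
  (193597, 6, 194639, 15),
  (193599, 6, 208169, 19),
  (193605, 6, 137335, 15),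
  (193607, 5, 67601, 40),
  (193613, 5, 67617, 40),
  (193615, 4, 68017, 40),
  (193621, 6, 63934, 25),
  (193623, 6, 155867, 26),
  (193629, 6, 194750, 25),
  (193631, 5, 240695, 22),
  (193637, 6, 195029, 24),
  (193639, 6, 112815, 20),
  (193645, 6, 162261, 24),
  (193647, 6, 223358, 25),
  (193653, 6, 161863, 15),
  (193655, 6, 125246, 25),
  (193661, 6, 191791, 8),
  (193663, 6, 256062, 25),
  (193665, 5, 133297, 42),
  (193667, 6, 251313, 1),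
  (193673, 5, 128361, 17),
  (193675, 5, 147931, 8),
  (193681, 5, 133409, 42),
  (193683, 6, 195635, 22),
  (193689, 6, 129477, 19),
  (193691, 5, 20597, 38),
  (193697, 5, 41033, 41),
  (193699, 6, 125003, 21),
  (193705, 6, 243770, 20),
  (193707, 6, 243774, 20),
  (193713, 6, 26075, 10),
  (193715, 5, 41139, 41),
  (193721, 5, 98397, 37),
  (193723, 6, 37055, 21),
  (193729, 6, 91565, 23),
  (193731, 6, 127047, 21),
  (193737, 6, 251025, 11),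
  (193739, 5, 9635, 39),
  (193745, 6, 93609, 23),
  (193747, 6, 128069, 21),
  (193753, 6, 100543, 21),
  (193755, 5, 135435, 43),
  (193761, 6, 243882, 20),
  (193763, 6, 205035, 5),
  (193769, 5, 133465, 42),
  (193771, 5, 41049, 41),
  (193777, 5, 242795, 13),
  (193779, 6, 185819, 14),
  (193785, 6, 260250, 20),
  (193787, 6, 188843, 8),
  (193797, 6, 34173, 3),
  (193799, 5, 98793, 37),
  (193805, 6, 127430, 25),
  (193807, 6, 191501, 12),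
  (193813, 6, 181741, 21),
  (193815, 5, 133287, 42),
  (193821, 4, 17769, 44),
  (193823, 5, 129111, 20),
  (193829, 6, 192966, 25),
  (193831, 6, 192974, 25),
  (193837, 4, 98419, 37),
  (193839, 6, 77149, 23),
  (193845, 6, 129099, 20),
  (193847, 5, 98505, 37),
  (193853, 5, 17699, 44),
  (193855, 6, 186399, 2),
  (193861, 5, 135531, 43),
  (193863, 6, 89529, 19),
  (193869, 6, 194027, 26),
  (193871, 6, 162923, 17),
  (193877, 6, 128491, 26),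
  (193879, 6, 112107, 26),
  (193885, 5, 133283, 42),
  (193887, 6, 162167, 5),
  (193893, 6, 39283, 1),
  (193895, 6, 195018, 25),
  (193901, 5, 135253, 43),
  (193903, 6, 81321, 19),
  (193909, 6, 194843, 7),
  (193911, 5, 98435, 37),
  (193917, 5, 67621, 40),
  (193919, 6, 31178, 25),
  (193921, 6, 243810, 20),
  (193923, 6, 250171, 13),
  (193929, 6, 128475, 16),
  (193931, 6, 243830, 20),
  (193937, 5, 40969, 41),
  (193939, 6, 260166, 20),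
  (193945, 6, 205179, 7),
  (193947, 6, 260182, 20),
  (193953, 5, 133153, 42),
  (193955, 6, 210171, 6),
  (193961, 5, 243834, 20),
  (193963, 5, 242795, 17),
  (193969, 6, 73179, 24),
  (193971, 6, 90399, 23),
  (193977, 6, 192971, 15),
  (193979, 6, 260190, 20),
  (193985, 6, 251259, 13),
  (193987, 6, 243942, 20),
  (193993, 6, 243954, 20),
  (193995, 6, 243958, 20),
  (194001, 6, 97697, 23),
  (194003, 6, 228513, 23),
  (194009, 6, 116895, 21),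
  (194011, 5, 98401, 37),
  (194017, 5, 242873, 6),
  (194019, 5, 17617, 44),
  (194025, 6, 251313, 11),
  (194027, 5, 133157, 42),
  (194033, 5, 147707, 4),
  (194035, 6, 82207, 23),
  (194041, 6, 17759, 44),
  (194043, 6, 49311, 21),
  (194563, 6, 133623, 22),
  (194567, 5, 69705, 37),
  (194571, 6, 131575, 22),
  (194575, 5, 18689, 40),
  (194579, 6, 3327, 20),
  (194583, 6, 160927, 19),
  (194587, 6, 161863, 11),
  (194591, 6, 191735, 22),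
  (194595, 6, 132589, 42),
  (194599, 6, 200053, 22),
  (194603, 6, 219250, 25),
  (194607, 6, 127261, 24),
  (194611, 5, 6523, 6),
  (194615, 6, 126201, 20),
  (194619, 5, 193615, 15),
  (194623, 6, 260130, 25),
  (194627, 5, 18721, 40),
  (194631, 6, 31206, 25),
  (194635, 5, 18561, 40),
  (194639, 5, 18865, 40),
  (194643, 5, 132507, 42),
  (194647, 6, 63910, 25),
  (194651, 6, 38269, 2),
  (194655, 6, 175351, 22),
  (194659, 6, 163185, 16),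
  (194663, 6, 96614, 25),
  (194667, 5, 132517, 42),
  (194671, 6, 163197, 16),
  (194675, 5, 193837, 8),
  (194679, 6, 162883, 15),
  (194683, 6, 251958, 25),
  (194687, 6, 52473, 20),
  (194689, 6, 109038, 19),
  (194690, 6, 190714, 12),
  (194693, 6, 112945, 2),
  (194694, 5, 127334, 17),
  (194697, 6, 81239, 26),
  (194698, 4, 12502, 43),
  (194701, 5, 251151, 24),
  (194702, 6, 43498, 1),
  (194705, 5, 163909, 41),
  (194706, 6, 239978, 3),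
  (194709, 6, 189517, 21),
  (194710, 5, 10390, 39),
  (194713, 6, 129478, 19),
  (194714, 5, 164196, 41),
  (194717, 6, 39231, 21),
  (194718, 5, 151588, 40),
  (194721, 5, 12361, 43),
  (194722, 6, 121150, 5),
  (194725, 5, 10589, 39),
  (194726, 6, 256473, 20),
  (194729, 6, 219381, 11),
  (194730, 5, 133250, 44),
  (194733, 6, 244010, 19),
  (194734, 5, 75906, 44),
  (194737, 6, 244133, 1),
  (194738, 5, 69718, 37),
  (194741, 6, 191561, 21),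
  (194742, 6, 10278, 39),
  (194745, 6, 113021, 17),
  (194746, 5, 69658, 37),
  (194749, 6, 239914, 19),
  (194750, 5, 164196, 40),
  (194753, 6, 124141, 23),
  (194754, 5, 112734, 44),
  (194757, 6, 129481, 12),
  (194758, 6, 161235, 19),
  (194761, 6, 256206, 19),
  (194762, 6, 61854, 13),
  (194765, 4, 10661, 39),
  (194766, 6, 243810, 16),
  (194769, 6, 243942, 19),
  (194770, 5, 135204, 40),
  (194773, 6, 146611, 22),
  (194774, 5, 163940, 41),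
  (194777, 6, 211031, 26),
  (194778, 5, 10386, 39),
  (194781, 5, 49265, 38),
  (194782, 5, 260138, 4),
  (194785, 5, 49389, 38),
  (194786, 5, 163860, 39),
  (194789, 6, 194627, 21),
  (194790, 4, 172114, 42),
  (194793, 6, 190941, 14),
  (194794, 6, 21725, 22),
  (194797, 5, 12377, 43),
  (194798, 5, 219478, 3),
  (194801, 6, 186845, 14),
  (194802, 5, 180548, 40),
  (194805, 5, 66617, 44),
  (194806, 5, 49412, 38),
  (194809, 6, 209141, 5),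
  (194810, 5, 10274, 39),
  (194813, 6, 145591, 22),
  (194814, 6, 243165, 25),
  (194819, 6, 169335, 15),
  (194823, 6, 246238, 25),
  (194827, 6, 139751, 22),
  (194831, 5, 49331, 38),
  (194835, 6, 36031, 20),
  (194839, 6, 213470, 25),
  (194843, 5, 49493, 38),
  (194847, 6, 204243, 23),
  (194851, 6, 178279, 17),
  (194855, 6, 38199, 1),
  (194859, 5, 164139, 41),
  (194863, 6, 240733, 23),
  (194867, 6, 248051, 22),
  (194871, 5, 69833, 37),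
  (194875, 6, 248055, 22),
  (194879, 5, 18693, 40),
  (194883, 5, 193615, 12),
  (194887, 6, 248282, 25),
  (194891, 6, 156103, 22),
  (194895, 5, 6519, 3),
  (194899, 6, 186427, 6),
  (194903, 6, 146787, 15),
  (194907, 6, 232695, 22),
  (194911, 6, 163185, 5),
  (194915, 5, 190938, 25),
  (194919, 6, 191501, 10),
  (194923, 6, 59866, 25),
  (194927, 5, 191595, 12),
  (194931, 5, 132363, 42),
  (194935, 6, 149978, 25),
  (194939, 5, 18565, 40),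
  (194943, 5, 18869, 40),
  (194945, 6, 211309, 7),
  (194946, 6, 90543, 21),
  (194949, 5, 66971, 44),
  (194950, 5, 20610, 44),
  (194953, 6, 175561, 26),
  (194954, 5, 49508, 38),
  (194957, 6, 129501, 16),
  (194958, 5, 200842, 42),
  (194961, 5, 49281, 38),
  (194962, 6, 91565, 21),
  (194965, 5, 10573, 39),
  (194966, 6, 122305, 26),
  (194969, 6, 44489, 26),
  (194970, 6, 106696, 43),
  (194973, 6, 121309, 16),
  (194974, 5, 10390, 44),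
  (194977, 5, 69889, 37),
  (194978, 5, 10442, 39),
  (194981, 4, 132203, 42),
  (194982, 5, 164116, 41),
  (194985, 6, 243821, 17),
  (194986, 5, 164132, 41),
  (194989, 6, 244138, 19),
  (194990, 5, 20778, 42),
  (194993, 6, 240871, 25),
  (194994, 5, 151798, 13),
  (194997, 6, 191593, 21),
  (194998, 6, 113130, 10),
  (195001, 6, 241127, 25),
  (195002, 6, 121079, 22),
  (195005, 6, 241789, 17),
  (195006, 6, 211306, 4),
  (195009, 6, 116027, 20),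
  (195010, 5, 163876, 40),
  (195013, 6, 252285, 13),
  (195014, 5, 49444, 38),
  (195017, 5, 66843, 44),
  (195018, 5, 106584, 37),
  (195021, 6, 104890, 19),
  (195022, 6, 72054, 3),
  (195025, 6, 178406, 19),
  (195026, 5, 75798, 44),
  (195029, 5, 69733, 37),
  (195030, 6, 133510, 44),
  (195033, 6, 178353, 10),
  (195034, 6, 226681, 19),
  (195037, 5, 49345, 38),
  (195038, 6, 247998, 6),
  (195041, 4, 12691, 43),
  (195042, 5, 151820, 40),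
  (195045, 6, 129450, 19),
  (195046, 5, 163876, 41),
  (195049, 6, 190686, 19),
  (195050, 5, 163860, 41),
  (195053, 5, 12307, 43),
  (195054, 5, 186626, 42),
  (195057, 6, 178422, 19),
  (195058, 5, 47234, 44),
  (195061, 6, 147709, 4),
  (195062, 6, 162010, 1),
  (195065, 6, 113133, 1),
  (195066, 6, 184510, 13),
  (195069, 6, 49649, 38),
  (195070, 6, 186554, 13),
  (195585, 6, 201085, 24),
  (195587, 6, 186427, 13),
  (195589, 5, 223537, 40),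
  (195591, 5, 223393, 40),
  (195593, 6, 153850, 25),
  (195595, 6, 204091, 19),
  (195597, 6, 162026, 25),
  (195599, 5, 223489, 40),
  (195601, 6, 38199, 2),
  (195603, 6, 209389, 24),
  (195605, 6, 163147, 8),
  (195607, 6, 128253, 20),
  (195609, 6, 186554, 25),
  (195611, 6, 182458, 25),
  (195613, 6, 194730, 25),
  (195615, 5, 193837, 1),
  (195617, 6, 88442, 25),
  (195619, 6, 84346, 25),
  (195621, 5, 193821, 14),
  (195623, 6, 247883, 21),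
  (195625, 6, 219258, 25),
  (195627, 6, 158797, 7),
  (195629, 6, 111931, 26),
  (195631, 6, 211243, 19),
  (195633, 5, 5367, 20),
  (195635, 5, 191819, 3),
  (195637, 6, 126205, 20),
  (195639, 6, 248905, 21),
  (195641, 6, 251962, 25),
  (195643, 6, 247866, 25),
  (195645, 5, 260138, 25),
  (195647, 6, 256042, 25),
  (195649, 6, 194805, 24),
  (195651, 7, 182743, 22),
  (195653, 6, 12795, 26),
  (195655, 5, 191801, 9),
  (195657, 6, 153854, 25),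
  (195659, 6, 180695, 22),
  (195661, 6, 224397, 19),
  (195663, 6, 94555, 26),
  (195665, 6, 191501, 11),
  (195667, 5, 51646, 25),
  (195669, 6, 63918, 25),
  (195671, 6, 250949, 21),
  (195673, 5, 191595, 13),
  (195675, 6, 182462, 25),
  (195677, 6, 194734, 25),
  (195679, 5, 35247, 21),
  (195681, 6, 194575, 7),
  (195683, 6, 150875, 3),
  (195685, 6, 192527, 7),
  (195687, 6, 193549, 7),
  (195689, 6, 15725, 17),
  (195691, 6, 162171, 16),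
  (195693, 6, 52445, 20),
  (195695, 6, 223342, 25),
  (195697, 6, 121150, 25),
  (195699, 6, 117054, 25),
  (195701, 6, 129326, 25),
  (195703, 6, 194859, 8),
  (195705, 6, 251966, 25),
  (195707, 6, 247870, 25),
  (195709, 6, 161867, 15),
  (195711, 6, 36159, 6),
  (195841, 6, 36217, 3),
  (195843, 6, 193549, 12),
  (195845, 6, 250326, 25),
  (195847, 6, 239975, 22),
  (195849, 6, 235833, 24),
  (195851, 6, 172519, 22),
  (195853, 6, 192599, 4),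
  (195855, 6, 119262, 25),
  (195857, 7, 105937, 23),
  (195859, 6, 194859, 13),
  (195861, 6, 191867, 5),
  (195863, 6, 95485, 20),
  (195865, 6, 193911, 5),
  (195867, 6, 36159, 14),
  (195869, 6, 184407, 4),
  (195871, 6, 86494, 25),
  (195873, 6, 158795, 10),
  (195875, 6, 175589, 22),
  (195877, 6, 184790, 25),
  (195879, 6, 247915, 21),
  (195881, 6, 162883, 10),
  (195883, 6, 61918, 25),
  (195885, 6, 53718, 25),
  (195887, 6, 161863, 10),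
  (195889, 6, 237855, 23),
  (195891, 5, 223637, 40),
  (195893, 5, 223541, 40),
  (195895, 5, 171271, 42),
  (195897, 6, 29142, 25),
  (195899, 6, 113065, 24),
  (195901, 6, 20950, 25),
  (195903, 6, 161879, 10),
  (195905, 6, 112069, 23),
  (195907, 6, 260570, 25),
  (195909, 6, 252370, 25),
  (195911, 6, 252378, 25),
  (195913, 6, 129490, 25),
  (195915, 6, 129498, 25),
  (195917, 6, 121298, 25),
  (195919, 6, 191561, 12),
  (195921, 6, 199923, 22),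
  (195923, 6, 101435, 20),
  (195925, 6, 38269, 14),
  (195927, 6, 219610, 25),
  (195929, 6, 162941, 17),
  (195931, 6, 96730, 25),
  (195933, 6, 34173, 14),
  (195935, 6, 88538, 25),
  (195937, 6, 195026, 25),
  (195939, 6, 192599, 2),
  (195941, 6, 186834, 25),
  (195943, 6, 186842, 25),
  (195945, 6, 63954, 25),
  (195947, 6, 81323, 19),
  (195949, 6, 55762, 25),
  (195951, 6, 38269, 1),
  (195953, 6, 103479, 20),
  (195955, 6, 162266, 25),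
  (195957, 6, 146613, 19),
  (195959, 5, 223253, 40),
  (195961, 6, 31186, 25),
  (195963, 6, 31194, 25),
  (195965, 6, 162965, 19),
  (195967, 6, 76203, 19),
  (196611, 6, 1411, 12),
  (196613, 5, 5521, 44),
  (196614, 5, 16816, 21),
  (196617, 5, 36942, 24),
  (196618, 5, 16561, 21),
  (196620, 4, 16689, 21),
  (196623, 6, 35073, 40),
  (196625, 3, 401, 12),
  (196626, 4, 36931, 25),
  (196628, 6, 204948, 13),
  (196631, 5, 6493, 43),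
  (196632, 6, 139672, 1),
  (196635, 5, 34155, 41),
  (196637, 5, 73971, 37),
  (196638, 5, 57590, 24),
  (196641, 3, 417, 12),
  (196642, 6, 213122, 4),
  (196644, 4, 32845, 26),
  (196647, 4, 164111, 20),
  (196648, 5, 197038, 42),
  (196651, 6, 217507, 25),
  (196653, 7, 14726, 22),
  (196654, 5, 201126, 15),
  (196656, 3, 213264, 2),
  (196659, 6, 16630, 21),
  (196661, 6, 16758, 21),
  (196662, 6, 155830, 24),
  (196665, 6, 14599, 22),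
  (196666, 6, 155818, 8),
  (196668, 5, 90396, 7),
  (196671, 6, 192766, 24),
  (196673, 4, 3081, 24),
  (196674, 4, 4103, 25),
  (196676, 5, 1037, 26),
  (196679, 5, 147461, 38),
  (196680, 4, 3137, 24),
  (196683, 5, 192604, 22),
  (196685, 6, 33190, 19),
  (196686, 6, 233870, 3),
  (196688, 4, 32839, 25),
  (196691, 6, 16634, 21),
  (196693, 6, 16762, 21),
  (196694, 5, 73906, 37),
  (196697, 5, 6381, 43),
  (196698, 6, 233818, 2),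
  (196700, 5, 40972, 43),
  (196703, 6, 7639, 12),
  (196704, 5, 33861, 26),
  (196707, 5, 45346, 22),
  (196709, 4, 41350, 19),
  (196710, 5, 74130, 37),
  (196713, 4, 14630, 22),
  (196714, 5, 24754, 39),
  (196716, 6, 205207, 25),
  (196719, 6, 7655, 12),
  (196721, 6, 90593, 2),
  (196722, 6, 213234, 16),
  (196724, 5, 205172, 17),
  (196727, 6, 127223, 25),
  (196728, 6, 14375, 22),
  (196731, 6, 21909, 23),
  (196733, 6, 239069, 26),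
  (196734, 6, 242135, 25),
  (196739, 6, 213384, 23),
  (196741, 6, 204824, 22),
  (196742, 4, 213392, 21),
  (196745, 3, 38918, 24),
  (196746, 5, 24737, 21),
  (196748, 4, 24865, 21),
  (196751, 6, 63494, 24),
  (196753, 3, 401, 17),
  (196754, 5, 33803, 25),
  (196756, 6, 139396, 1),
  (196759, 4, 53732, 23),
  (196760, 6, 139672, 12),
  (196763, 5, 74123, 37),
  (196765, 5, 5475, 44),
  (196766, 6, 203162, 2),
  (196769, 4, 213409, 14),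
  (196770, 6, 82338, 1),
  (196772, 4, 34889, 26),
  (196775, 4, 45450, 22),
  (196776, 6, 213384, 11),
  (196779, 5, 6361, 43),
  (196781, 5, 147629, 38),
  (196782, 6, 47246, 22),
  (196784, 3, 131104, 38),
  (196787, 6, 45323, 22),
  (196789, 6, 53477, 23),
  (196790, 5, 196742, 42),
  (196793, 6, 205097, 16),
  (196794, 5, 49468, 20),
  (196796, 4, 41194, 19),
  (196799, 4, 196745, 42),
  (196801, 4, 3083, 24),
  (196802, 5, 3087, 25),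
  (196804, 4, 3081, 26),
  (196807, 6, 25064, 21),
  (196808, 4, 3139, 24),
  (196811, 6, 93361, 26),
  (196813, 6, 33254, 19),
  (196814, 5, 235594, 11),
  (196816, 5, 35847, 25),
  (196819, 6, 24810, 21),
  (196821, 6, 68651, 24),
  (196822, 5, 74114, 37),
  (196825, 6, 33260, 19),
  (196826, 5, 24722, 39),
  (196828, 6, 33258, 19),
  (196831, 6, 191503, 25),
  (196832, 4, 35905, 26),
  (196835, 6, 181475, 7),
  (196837, 6, 24940, 21),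
  (196838, 5, 34838, 40),
  (196841, 6, 33178, 20),
  (196842, 6, 33180, 20),
  (196844, 5, 196882, 42),
  (196847, 6, 126201, 26),
  (196849, 6, 155857, 13),
  (196850, 5, 180516, 40),
  (196852, 5, 147722, 38),
  (196855, 5, 147717, 38),
  (196856, 5, 73750, 37),
  (196859, 6, 248847, 25),
  (196861, 6, 241113, 26),
  (196862, 5, 243834, 11),
  (196867, 6, 1411, 1),
  (196869, 6, 2433, 1),
  (196870, 4, 432, 21),
  (196873, 3, 38986, 24),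
  (196874, 3, 177, 21),
  (196876, 3, 305, 21),
  (196879, 6, 233890, 23),
  (196881, 4, 205201, 13),
  (196882, 4, 37953, 25),
  (196884, 6, 139396, 6),
  (196887, 5, 161805, 26),
  (196888, 6, 204824, 7),
  (196891, 6, 196763, 17),
  (196893, 5, 371, 21),
  (196894, 6, 209166, 12),
  (196897, 3, 417, 16),
  (196898, 6, 82338, 3),
  (196900, 4, 38925, 26),
  (196903, 5, 95409, 25),
  (196904, 6, 213384, 4),
  (196907, 5, 245, 21),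
  (196909, 6, 153997, 5),
  (196910, 6, 88330, 2),
  (196912, 3, 65552, 37),
  (196915, 4, 246, 21),
  (196917, 4, 374, 21),
  (196918, 5, 86026, 44),
  (196921, 6, 119, 21),
  (196922, 5, 183, 21),
  (196924, 5, 147500, 38),
  (196927, 4, 24657, 39),
  (196929, 4, 3085, 24),
  (196930, 5, 5125, 25),
  (196932, 4, 6159, 26),
  (196935, 7, 29749, 25),
  (196936, 4, 3141, 24),
  (196939, 5, 196917, 42),
  (196941, 5, 196915, 42),
  (196942, 6, 39302, 10),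
  (196944, 5, 33861, 25),
  (196947, 4, 250, 21),
  (196949, 4, 378, 21),
  (196950, 5, 74002, 37),
  (196953, 6, 68685, 24),
  (196954, 5, 24738, 39),
  (196956, 6, 233564, 10),
  (196959, 6, 47541, 22),
  (196960, 4, 34823, 26),
  (196963, 4, 252, 21),
  (196965, 4, 380, 21),
  (196966, 5, 34898, 40),
  (196969, 6, 134477, 24),
  (196970, 6, 250122, 12),
  (196972, 5, 45068, 43),
  (196975, 6, 509, 21),
  (196977, 6, 199949, 24),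
  (196978, 4, 190, 21),
  (196980, 4, 318, 21),
  (196983, 5, 147493, 38),
  (196984, 5, 73862, 37),
  (196987, 6, 251001, 10),
  (196989, 6, 243727, 26),
  (196990, 6, 251958, 1),
  (196995, 5, 73943, 37),
  (196997, 6, 98374, 19),
  (196998, 5, 213424, 21),
  (197001, 5, 36870, 24),
  (197002, 4, 8353, 21),
  (197004, 4, 8481, 21),
  (197007, 6, 33987, 41),
  (197009, 4, 205201, 15),
  (197010, 5, 32779, 25),
  (197012, 6, 204948, 7),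
  (197015, 4, 94342, 24),
  (197016, 5, 209370, 41),
  (197019, 6, 98413, 19),
  (197021, 6, 208909, 26),
  (197022, 6, 186630, 23),
  (197025, 4, 213409, 15),
  (197026, 6, 82338, 14),
  (197028, 4, 36877, 26),
  (197031, 5, 34985, 40),
  (197032, 6, 82184, 1),
  (197035, 5, 34873, 40),
  (197037, 5, 24715, 39),
  (197038, 4, 57606, 24),
  (197040, 3, 213264, 5),
  (197043, 6, 8422, 21),
  (197045, 6, 8550, 21),
  (197046, 6, 90502, 24),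
  (197049, 6, 8295, 21),
  (197050, 5, 156058, 4),
  (197052, 6, 90540, 5),
  (197055, 6, 47519, 22),
  (197057, 5, 3087, 24),
  (197058, 4, 2063, 25),
  (197060, 4, 4111, 26),
  (197063, 5, 5387, 44),
  (197064, 4, 33232, 20),
  (197067, 6, 33238, 20),
  (197069, 4, 127122, 23),
  (197070, 6, 233542, 6),
  (197072, 4, 34823, 25),
  (197075, 5, 49638, 20),
  (197077, 4, 53500, 23)]

theorem chk_rows2_21 : rows2_21.all (rowBP tr2 gensLitP 72) = true := by decide +kernel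

/-- Rows 33000 to 34499. -/
def rows2_22 : List (ℕ × ℕ × ℕ × ℕ) := [(197078, 5, 73762, 37),
  (197081, 4, 96406, 23),
  (197082, 6, 212999, 26),
  (197084, 5, 196626, 42),
  (197087, 6, 241735, 6),
  (197088, 4, 32775, 26),
  (197091, 6, 8428, 21),
  (197093, 6, 8556, 21),
  (197094, 5, 12380, 40),
  (197097, 5, 35097, 40),
  (197098, 5, 24706, 39),
  (197100, 6, 14526, 22),
  (197103, 6, 249927, 6),
  (197105, 6, 155873, 2),
  (197106, 5, 90594, 14),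
  (197108, 6, 156116, 13),
  (197111, 6, 192527, 26),
  (197112, 6, 8239, 21),
  (197115, 6, 247823, 25),
  (197117, 6, 200047, 24),
  (197118, 6, 249871, 26),
  (197633, 5, 123905, 41),
  (197635, 6, 1411, 6),
  (197645, 6, 160059, 25),
  (197647, 4, 241692, 22),
  (197653, 6, 139581, 26),
  (197655, 6, 182567, 20),
  (197657, 6, 47429, 22),
  (197659, 4, 82163, 21),
  (197669, 6, 151614, 24),
  (197671, 6, 184769, 23),
  (197673, 6, 147851, 1),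
  (197675, 6, 213419, 25),
  (197681, 6, 156051, 1),
  (197683, 6, 82166, 21),
  (197693, 6, 82295, 21),
  (197695, 6, 192750, 24),
  (197701, 6, 28735, 25),
  (197703, 5, 109571, 37),
  (197705, 6, 74170, 23),
  (197707, 4, 82169, 21),
  (197713, 5, 238993, 3),
  (197715, 4, 182694, 20),
  (197725, 6, 108990, 23),
  (197727, 6, 239806, 23),
  (197729, 6, 147907, 1),
  (197731, 6, 82172, 21),
  (197741, 6, 82301, 21),
  (197743, 6, 251311, 3),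
  (197749, 6, 118161, 17),
  (197751, 6, 159185, 1),
  (197753, 6, 120187, 10),
  (197755, 6, 90603, 2),
  (197761, 6, 1411, 2),
  (197763, 6, 114768, 21),
  (197773, 5, 204161, 14),
  (197775, 6, 90593, 21),
  (197781, 4, 96406, 24),
  (197783, 5, 90594, 21),
  (197785, 6, 112790, 24),
  (197787, 6, 104598, 24),
  (197797, 6, 90468, 21),
  (197799, 5, 95243, 25),
  (197801, 6, 218123, 5),
  (197803, 6, 35102, 20),
  (197809, 6, 104605, 19),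
  (197811, 6, 90342, 21),
  (197821, 6, 220191, 5),
  (197823, 5, 163213, 9),
  (197829, 6, 36225, 17),
  (197831, 6, 35207, 20),
  (197833, 6, 196939, 1),
  (197835, 6, 34187, 17),
  (197841, 6, 90218, 21),
  (197843, 6, 151988, 23),
  (197853, 6, 125342, 23),
  (197855, 6, 90603, 21),
  (197857, 6, 35210, 20),
  (197859, 6, 90348, 21),
  (197869, 6, 90477, 21),
  (197871, 6, 249005, 15),
  (197877, 5, 109653, 37),
  (197879, 5, 240755, 11),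
  (197881, 5, 124067, 41),
  (197883, 5, 51646, 20),
  (197889, 6, 1411, 16),
  (197891, 6, 65776, 21),
  (197901, 6, 55418, 24),
  (197903, 5, 204161, 7),
  (197909, 7, 184524, 23),
  (197911, 6, 205207, 13),
  (197913, 6, 185705, 25),
  (197915, 6, 47306, 24),
  (197925, 4, 3287, 19),
  (197927, 5, 423, 16),
  (197929, 6, 218537, 25),
  (197931, 5, 427, 16),
  (197937, 5, 137370, 24),
  (197939, 5, 124145, 41),
  (197949, 6, 186618, 24),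
  (197951, 6, 185805, 23),
  (197957, 6, 34183, 16),
  (197959, 6, 232449, 4),
  (197961, 6, 34187, 16),
  (197963, 6, 75815, 26),
  (197969, 6, 54381, 25),
  (197971, 6, 50285, 25),
  (197981, 6, 193917, 25),
  (197983, 6, 243894, 23),
  (197985, 6, 142605, 24),
  (197987, 6, 43047, 26),
  (197997, 6, 185541, 6),
  (197999, 6, 253409, 7),
  (198005, 5, 124113, 41),
  (198007, 7, 66046, 21),
  (198009, 5, 124129, 41),
  (198011, 6, 247277, 25),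
  (198017, 6, 12310, 24),
  (198019, 6, 1411, 3),
  (198029, 6, 196700, 22),
  (198031, 4, 249986, 23),
  (198037, 6, 74082, 21),
  (198039, 4, 184812, 23),
  (198041, 6, 202011, 5),
  (198043, 4, 219270, 23),
  (198053, 6, 74084, 21),
  (198055, 6, 74212, 21),
  (198057, 6, 213419, 15),
  (198059, 6, 73957, 21),
  (198065, 6, 73830, 21),
  (198067, 6, 213267, 5),
  (198077, 6, 220447, 5),
  (198079, 6, 97489, 19),
  (198085, 6, 35267, 20),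
  (198087, 6, 34183, 3),
  (198089, 6, 147548, 22),
  (198091, 6, 215233, 19),
  (198097, 6, 73834, 21),
  (198099, 5, 238659, 6),
  (198109, 6, 129430, 23),
  (198111, 6, 74219, 21),
  (198113, 4, 45434, 22),
  (198115, 6, 147907, 13),
  (198125, 6, 248239, 15),
  (198127, 5, 74221, 21),
  (198133, 6, 129031, 25),
  (198135, 6, 12795, 22),
  (198137, 6, 90459, 1),
  (198139, 6, 237607, 26),
  (198657, 6, 2433, 6),
  (198658, 4, 147632, 21),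
  (198661, 6, 2433, 12),
  (198662, 4, 147888, 21),
  (198667, 5, 241884, 22),
  (198671, 6, 197098, 23),
  (198675, 6, 110849, 22),
  (198679, 6, 147954, 21),
  (198681, 6, 156755, 20),
  (198682, 6, 112645, 22),
  (198685, 6, 211357, 3),
  (198686, 6, 139406, 8),
  (198691, 5, 110850, 22),
  (198695, 6, 147956, 21),
  (198697, 4, 80134, 22),
  (198698, 6, 21825, 23),
  (198701, 6, 46401, 20),
  (198702, 6, 188502, 24),
  (198705, 6, 205109, 8),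
  (198706, 6, 147638, 21),
  (198709, 6, 147830, 21),
  (198710, 6, 155798, 24),
  (198715, 6, 162911, 20),
  (198719, 6, 82335, 17),
  (198723, 6, 35267, 6),
  (198727, 6, 34183, 19),
  (198729, 6, 206035, 20),
  (198730, 4, 127196, 22),
  (198733, 6, 73978, 23),
  (198734, 5, 106654, 37),
  (198737, 6, 231637, 7),
  (198738, 6, 240018, 3),
  (198741, 4, 53396, 23),
  (198742, 6, 34187, 19),
  (198747, 5, 147707, 21),
  (198751, 6, 244127, 3),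
  (198753, 5, 248225, 3),
  (198754, 4, 110626, 22),
  (198757, 6, 53393, 23),
  (198758, 6, 215266, 16),
  (198763, 6, 147709, 21),
  (198767, 6, 113062, 22),
  (198771, 6, 175521, 16),
  (198775, 6, 193917, 26),
  (198777, 6, 246263, 25),
  (198778, 6, 117150, 17),
  (198781, 6, 156125, 1),
  (198782, 6, 145898, 7),
  (198785, 6, 196613, 5),
  (198786, 3, 82320, 21),
  (198789, 6, 2433, 2),
  (198790, 4, 213136, 21),
  (198795, 6, 155873, 21),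
  (198799, 5, 204161, 8),
  (198803, 5, 162097, 26),
  (198807, 5, 407, 17),
  (198809, 6, 121006, 19),
  (198810, 6, 209166, 7),
  (198813, 5, 413, 17),
  (198814, 3, 204814, 8),
  (198819, 5, 155876, 21),
  (198823, 4, 14630, 24),
  (198825, 6, 55590, 24),
  (198826, 6, 6566, 5),
  (198829, 6, 39206, 24),
  (198830, 4, 43302, 24),
  (198833, 6, 155750, 21),
  (198834, 6, 74150, 13),
  (198837, 6, 169057, 20),
  (198838, 6, 156070, 21),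
  (198843, 5, 210313, 44),
  (198847, 6, 212401, 8),
  (198851, 6, 31793, 26),
  (198855, 6, 232449, 5),
  (198857, 6, 19531, 24),
  (198858, 6, 34273, 19),
  (198861, 6, 196941, 1),
  (198862, 6, 155994, 23),
  (198865, 6, 35221, 17),
  (198866, 6, 155818, 21),
  (198869, 6, 202818, 19),
  (198870, 6, 237574, 8),
  (198875, 6, 155883, 21),
  (198879, 6, 156139, 21),
  (198881, 6, 78122, 22),
  (198882, 6, 42433, 19),
  (198885, 6, 156012, 21),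
  (198886, 3, 213478, 14),
  (198891, 6, 155885, 21),
  (198895, 6, 113070, 22),
  (198899, 6, 26085, 2),
  (198903, 5, 210185, 44),
  (198905, 5, 252350, 19),
  (198906, 6, 155823, 21),
  (198909, 5, 210057, 44),
  (198910, 6, 211306, 7),
  (198913, 6, 2246, 19),
  (198914, 5, 131248, 21),
  (198917, 6, 196613, 4),
  (198918, 5, 131504, 21),
  (198923, 5, 204161, 13),
  (198927, 6, 63578, 24),
  (198931, 6, 246967, 41),
  (198935, 4, 53644, 23),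
  (198937, 6, 210957, 4),
  (198938, 3, 204814, 13),
  (198941, 6, 196765, 17),
  (198942, 6, 203162, 16),
  (198947, 5, 216097, 10),
  (198951, 6, 53641, 23),
  (198953, 6, 170090, 24),
  (198954, 6, 112662, 22),
  (198957, 6, 112645, 26),
  (198958, 6, 112790, 22),
  (198961, 5, 209923, 44),
  (198962, 6, 24982, 10),
  (198965, 4, 153738, 24),
  (198966, 6, 213142, 17),
  (198971, 6, 21965, 23),
  (198975, 6, 194778, 24),
  (198979, 6, 36225, 16),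
  (198983, 6, 65863, 14),
  (198985, 6, 75791, 26),
  (198986, 6, 83983, 26),
  (198989, 6, 79879, 26),
  (198990, 4, 143730, 23),
  (198993, 6, 50293, 25),
  (198994, 6, 197078, 16),
  (198997, 6, 131450, 21),
  (198998, 5, 141426, 38),
  (199003, 5, 212433, 13),
  (199007, 6, 211446, 23),
  (199009, 6, 83125, 25),
  (199010, 3, 213478, 16),
  (199013, 6, 96613, 43),
  (199014, 6, 215522, 16),
  (199019, 6, 112950, 22),
  (199023, 5, 220613, 13),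
  (199027, 7, 110899, 22),
  (199031, 5, 210179, 44),
  (199033, 6, 21725, 23),
  (199034, 4, 98398, 37),
  (199037, 5, 210051, 44),
  (199038, 6, 251911, 26),
  (199041, 6, 2433, 3),
  (199042, 5, 82352, 21),
  (199045, 5, 63613, 39),
  (199046, 3, 213168, 21),
  (199051, 5, 250306, 23),
  (199055, 6, 99431, 19),
  (199059, 7, 155661, 26),
  (199063, 6, 77990, 24),
  (199065, 6, 204813, 26),
  (199066, 6, 6546, 15),
  (199069, 6, 74013, 1),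
  (199070, 6, 205070, 8),
  (199075, 6, 57357, 26),
  (199079, 6, 81947, 25),
  (199081, 4, 51382, 19),
  (199082, 5, 178461, 20),
  (199085, 6, 139621, 21),
  (199086, 6, 6566, 15),
  (199089, 6, 139366, 21),
  (199090, 6, 20845, 23),
  (199093, 6, 90389, 1),
  (199094, 6, 74150, 24),
  (199099, 6, 127398, 24),
  (199103, 6, 139751, 21),
  (199107, 5, 210075, 44),
  (199111, 6, 28679, 26),
  (199113, 4, 182694, 19),
  (199114, 4, 114908, 22),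
  (199117, 6, 147612, 22),
  (199118, 5, 32926, 37),
  (199121, 6, 139370, 21),
  (199122, 5, 190754, 40),
  (199125, 6, 74069, 1),
  (199126, 6, 198753, 20),
  (199131, 6, 243779, 6),
  (199135, 6, 139755, 21),
  (199137, 5, 166294, 19),
  (199138, 6, 231782, 11),
  (199141, 5, 247877, 6),
  (199142, 6, 139692, 21),
  (199147, 6, 112958, 22),
  (199151, 6, 113086, 22),
  (199155, 6, 216351, 24),
  (199159, 6, 249105, 5),
  (199161, 6, 155885, 2),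
  (199162, 5, 96742, 14),
  (199165, 6, 90461, 1),
  (199166, 5, 190938, 4),
  (199689, 6, 98794, 23),
  (199691, 6, 142419, 20),
  (199693, 4, 143580, 22),
  (199695, 7, 7553, 12),
  (199697, 5, 407, 12),
  (199699, 6, 213234, 21),
  (199701, 4, 184452, 23),
  (199703, 4, 28814, 24),
  (199713, 5, 423, 12),
  (199715, 6, 82107, 25),
  (199717, 6, 213364, 21),
  (199719, 5, 216097, 15),
  (199737, 6, 152773, 23),
  (199739, 6, 213239, 21),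
  (199741, 6, 156063, 1),
  (199743, 6, 129107, 19),
  (199745, 5, 455, 12),
  (199747, 6, 16447, 25),
  (199749, 5, 184331, 38),
  (199751, 6, 36295, 6),
  (199769, 6, 213115, 21),
  (199771, 6, 180607, 25),
  (199773, 6, 213371, 21),
  (199775, 5, 244051, 8),
  (199785, 6, 253353, 3),
  (199787, 5, 116941, 40),
  (199789, 6, 113126, 22),
  (199791, 6, 185745, 23),
  (199793, 6, 224521, 24),
  (199795, 6, 175351, 11),
  (199797, 6, 111075, 22),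
  (199799, 6, 116119, 17),
  (199817, 5, 63542, 24),
  (199819, 5, 203791, 11),
  (199821, 7, 47158, 24),
  (199823, 5, 38966, 24),
  (199825, 6, 110921, 22),
  (199827, 5, 208263, 14),
  (199829, 6, 184484, 23),
  (199831, 6, 78281, 22),
  (199841, 6, 221284, 21),
  (199843, 6, 212999, 5),
  (199845, 6, 111050, 22),
  (199847, 7, 78282, 22),
  (199865, 6, 145717, 43),
  (199867, 6, 121270, 24),
  (199869, 6, 113103, 22),
  (199871, 6, 117057, 40),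
  (199873, 6, 65863, 12),
  (199875, 5, 455, 2),
  (199877, 6, 155864, 22),
  (199879, 6, 34183, 17),
  (199897, 6, 212401, 26),
  (199899, 5, 116877, 40),
  (199901, 6, 113133, 22),
  (199903, 5, 34207, 17),
  (199913, 6, 220645, 14),
  (199915, 5, 184489, 38),
  (199917, 6, 185521, 23),
  (199919, 6, 220191, 25),
  (199921, 6, 191921, 3),
  (199923, 5, 25063, 2),
  (199925, 6, 179577, 26),
  (199927, 6, 126279, 6),
  (199945, 6, 39034, 24),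
  (199947, 6, 47210, 24),
  (199949, 5, 203791, 10),
  (199951, 6, 63562, 24),
  (199953, 6, 181255, 20),
  (199955, 6, 196850, 21),
  (199957, 4, 22682, 24),
  (199959, 6, 197106, 21),
  (199969, 6, 196724, 21),
  (199971, 6, 152009, 23),
  (199973, 5, 153626, 24),
  (199975, 6, 108755, 19),
  (199993, 6, 152781, 23),
  (199995, 6, 216223, 17),
  (199997, 6, 24991, 1),
  (199999, 6, 80343, 22),
  (200001, 6, 133575, 19),
  (200003, 6, 196856, 21),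
  (200005, 5, 455, 1),
  (200007, 6, 14375, 26),
  (200025, 6, 243727, 4),
  (200027, 6, 243958, 23),
  (200029, 6, 241679, 4),
  (200031, 6, 211190, 23),
  (200041, 6, 113014, 22),
  (200043, 6, 80246, 22),
  (200045, 6, 81221, 20),
  (200047, 5, 35247, 16),
  (200049, 5, 251023, 20),
  (200051, 6, 93543, 14),
  (200053, 5, 25047, 1),
  (200055, 5, 243923, 19),
  (200073, 6, 51367, 19),
  (200075, 6, 85187, 19),
  (200077, 4, 86466, 23),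
  (200079, 6, 163996, 22),
  (200081, 6, 205207, 15),
  (200083, 6, 139309, 26),
  (200085, 6, 205154, 21),
  (200087, 5, 145745, 43),
  (200097, 4, 28982, 24),
  (200099, 6, 205028, 21),
  (200101, 4, 111066, 22),
  (200103, 6, 205284, 21),
  (200121, 6, 55487, 19),
  (200123, 6, 205031, 21),
  (200125, 6, 90399, 1),
  (200127, 6, 102838, 24),
  (200129, 6, 36225, 3),
  (200131, 6, 30751, 25),
  (200133, 5, 184619, 38),
  (200135, 6, 232833, 15),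
  (200153, 6, 113021, 22),
  (200155, 5, 145729, 43),
  (200157, 6, 96726, 23),
  (200159, 6, 241049, 15),
  (200169, 5, 251151, 5),
  (200171, 6, 227359, 25),
  (200173, 6, 205165, 21),
  (200175, 6, 205293, 21),
  (200177, 6, 129047, 25),
  (200179, 6, 155879, 2),
  (200181, 6, 184509, 23),
  (200183, 6, 248055, 10),
  (200705, 5, 4174, 24),
  (200706, 4, 90257, 21),
  (200708, 4, 155921, 21),
  (200711, 6, 49287, 19),
  (200713, 3, 36878, 24),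
  (200714, 4, 73761, 21),
  (200716, 5, 139297, 21),
  (200719, 5, 203791, 15),
  (200723, 6, 139419, 11),
  (200725, 6, 205213, 3),
  (200726, 3, 204814, 12),
  (200731, 6, 45214, 24),
  (200733, 6, 205085, 26),
  (200734, 4, 188678, 39),
  (200739, 6, 213419, 3),
  (200741, 4, 57478, 19),
  (200742, 3, 213422, 3),
  (200747, 6, 1451, 12),
  (200749, 6, 106589, 26),
  (200750, 4, 172317, 20),
  (200753, 6, 21639, 23),
  (200754, 6, 213178, 16),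
  (200756, 6, 205116, 17),
  (200759, 6, 159998, 24),
  (200761, 6, 213177, 7),
  (200762, 5, 156058, 10),
  (200764, 6, 90540, 11),
  (200767, 6, 192702, 24),
  (200771, 5, 127193, 21),
  (200773, 4, 49542, 19),
  (200774, 6, 12567, 25),
  (200779, 5, 185353, 38),
  (200781, 6, 155703, 25),
  (200782, 6, 82172, 22),
  (200785, 5, 96298, 23),
  (200786, 6, 196826, 16),
  (200788, 6, 66012, 8),
  (200791, 6, 259547, 21),
  (200793, 5, 473, 12),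
  (200794, 6, 242066, 3),
  (200796, 5, 241996, 5),
  (200799, 6, 53718, 23),
  (200801, 6, 21651, 23),
  (200802, 6, 213226, 16),
  (200804, 6, 162077, 21),
  (200807, 6, 246191, 3),
  (200809, 5, 489, 12),
  (200810, 4, 172444, 20),
  (200812, 6, 249860, 12),
  (200815, 6, 243745, 21),
  (200819, 6, 177569, 16),
  (200821, 6, 121233, 17),
  (200822, 6, 121150, 1),
  (200827, 6, 188862, 20),
  (200829, 6, 57774, 19),
  (200830, 6, 117054, 1),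
  (200833, 4, 38982, 24),
  (200834, 4, 82065, 21),
  (200836, 5, 147729, 21),
  (200839, 4, 45452, 22),
  (200841, 4, 6214, 24),
  (200842, 4, 73777, 21),
  (200844, 4, 139313, 21),
  (200847, 4, 53730, 23),
  (200851, 6, 45325, 22),
  (200853, 6, 211357, 8),
  (200854, 6, 6546, 17),
  (200859, 5, 20902, 23),
  (200861, 6, 173105, 21),
  (200862, 6, 47241, 22),
  (200867, 6, 116949, 21),
  (200869, 4, 12686, 22),
  (200870, 6, 51433, 26),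
  (200875, 6, 213419, 14),
  (200877, 6, 14730, 22),
  (200878, 6, 131502, 15),
  (200881, 4, 57642, 20),
  (200882, 6, 213402, 2),
  (200884, 6, 117190, 24),
  (200887, 5, 185673, 38),
  (200889, 5, 57580, 19),
  (200890, 6, 76230, 24),
  (200892, 6, 204860, 2),
  (200895, 5, 185603, 38),
  (200899, 4, 41350, 20),
  (200901, 6, 158983, 25),
  (200902, 4, 143466, 23),
  (200907, 6, 230857, 8),
  (200909, 5, 49638, 19),
  (200910, 5, 86260, 22),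
  (200913, 5, 241921, 16),
  (200914, 6, 37266, 17),
  (200916, 3, 205276, 17),
  (200919, 6, 101435, 24),
  (200921, 6, 57778, 20),
  (200922, 6, 184804, 40),
  (200924, 6, 233564, 14),
  (200927, 6, 242957, 16),
  (200929, 6, 57796, 19),
  (200930, 6, 250122, 10),
  (200932, 6, 184404, 43),
  (200935, 6, 152781, 13),
  (200937, 6, 213481, 14),
  (200938, 4, 490, 5),
  (200940, 6, 249932, 14),
  (200943, 6, 57831, 19),
  (200947, 6, 185595, 7),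
  (200949, 6, 175577, 26),
  (200950, 5, 14842, 5),
  (200955, 6, 118031, 25),
  (200957, 6, 113057, 4),
  (200958, 5, 112734, 37),
  (200961, 4, 6218, 24),
  (200962, 4, 90289, 21),
  (200964, 4, 155953, 21),
  (200967, 6, 213098, 23),
  (200969, 4, 38922, 24),
  (200970, 4, 90113, 21),
  (200972, 4, 155649, 21),
  (200975, 6, 63546, 24),
  (200979, 6, 45333, 22),
  (200981, 6, 189811, 21),
  (200982, 6, 211350, 4),
  (200987, 4, 20878, 23),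
  (200989, 6, 205213, 13),
  (200990, 6, 139406, 6),
  (200995, 6, 218539, 7),
  (200997, 4, 12694, 22),
  (200998, 6, 82350, 3),
  (201003, 6, 124929, 21),
  (201005, 6, 14738, 22),
  (201006, 6, 6566, 7),
  (201009, 6, 12567, 22),
  (201010, 6, 93367, 21),
  (201012, 4, 149730, 24),
  (201015, 6, 162042, 24),
  (201017, 6, 20623, 23),
  (201018, 4, 174226, 24),
  (201020, 6, 158721, 21),
  (201023, 6, 194746, 24),
  (201027, 4, 45364, 22),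
  (201029, 6, 90218, 23),
  (201030, 6, 235590, 13),
  (201035, 6, 156012, 22),
  (201037, 5, 53466, 23),
  (201038, 6, 90348, 22),
  (201041, 6, 185693, 38),
  (201042, 5, 149902, 42),
  (201044, 6, 101413, 24),
  (201047, 6, 174555, 11),
  (201049, 4, 114988, 19),
  (201050, 6, 242138, 4),
  (201052, 3, 205276, 13),
  (201055, 5, 212173, 2),
  (201057, 4, 172490, 20),
  (201058, 4, 490, 7),
  (201060, 6, 249860, 7),
  (201063, 5, 220389, 2),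
  (201065, 6, 214181, 25),
  (201066, 6, 98794, 15),
  (201068, 5, 111058, 41),
  (201071, 6, 170467, 11),
  (201075, 5, 185443, 38),
  (201077, 6, 252049, 17),
  (201078, 6, 251966, 1),
  (201083, 6, 185745, 5),
  (201085, 5, 185441, 38),
  (201086, 6, 242901, 25),
  (201089, 3, 36934, 24),
  (201090, 4, 82097, 21),
  (201092, 5, 147761, 21),
  (201095, 5, 203791, 12),
  (201097, 5, 4166, 24),
  (201098, 4, 267, 25),
  (201100, 4, 155665, 21),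
  (201103, 6, 41303, 20),
  (201107, 6, 180491, 25),
  (201109, 6, 196765, 10),
  (201110, 4, 123078, 24),
  (201115, 4, 57718, 20),
  (201117, 6, 204813, 6),
  (201118, 3, 204814, 6),
  (201123, 6, 116981, 21),
  (201125, 6, 53574, 24),
  (201126, 4, 217486, 42),
  (201131, 6, 213003, 6),
  (201133, 6, 41307, 20),
  (201134, 4, 213006, 6),
  (201137, 6, 204969, 4),
  (201138, 6, 205114, 11),
  (201140, 5, 213180, 10),
  (201143, 6, 127430, 24),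
  (201145, 7, 95487, 44),
  (201146, 6, 213178, 1),
  (201148, 6, 205116, 2),
  (201151, 6, 57727, 20),
  (201155, 6, 90247, 26),
  (201157, 5, 185643, 38),
  (201158, 6, 139370, 23),
  (201163, 4, 41430, 20),
  (201165, 5, 192529, 21),
  (201166, 6, 20623, 26),
  (201169, 6, 242065, 15),
  (201170, 6, 74058, 7),
  (201172, 5, 115018, 19),
  (201175, 6, 251387, 21),
  (201177, 6, 14649, 22),
  (201178, 6, 95249, 21),
  (201180, 6, 139740, 13),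
  (201183, 5, 244051, 11),
  (201185, 6, 250273, 15),
  (201186, 5, 250146, 8),
  (201188, 6, 37356, 15),
  (201191, 6, 45502, 22),
  (201193, 4, 14650, 22),
  (201194, 6, 131306, 5),
  (201196, 6, 245836, 6),
  (201199, 6, 260113, 21),
  (201203, 6, 57838, 20),
  (201205, 6, 123214, 19),
  (201206, 6, 252094, 1),
  (201211, 6, 90603, 14),
  (201213, 6, 156125, 13),
  (201214, 6, 247998, 1),
  (201733, 6, 182343, 38),
  (201735, 4, 86378, 23),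
  (201741, 6, 73789, 26),
  (201743, 5, 30785, 39),
  (201745, 5, 219434, 23),
  (201747, 6, 120929, 19),
  (201753, 6, 196763, 7),
  (201755, 5, 181611, 41),
  (201761, 6, 152707, 23),
  (201763, 6, 218411, 14),
  (201769, 5, 427, 12),
  (201771, 6, 174366, 20),
  (201781, 6, 89489, 17),
  (201783, 6, 159982, 24),
  (201789, 6, 184510, 24),
  (201791, 6, 146611, 11),
  (201793, 6, 199141, 19),
  (201795, 5, 30789, 39),
  (201801, 5, 202001, 44),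
  (201803, 6, 147503, 25),
  (201813, 6, 194011, 21),
  (201815, 6, 239007, 3),
  (201821, 6, 242849, 21),
  (201823, 6, 184790, 23),
  (201829, 6, 94655, 25),
  (201831, 6, 88551, 2),
  (201837, 5, 251301, 3),
  (201839, 6, 14818, 22),
  (201841, 6, 120209, 17),
  (201843, 6, 190894, 20),
  (201849, 6, 219613, 19),
  (201851, 6, 240985, 24),
  (201861, 7, 7553, 17),
  (201863, 6, 43271, 20),
  (201869, 7, 203777, 11),
  (201871, 6, 68705, 19),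
  (201873, 5, 59682, 20),
  (201875, 6, 5523, 17),
  (201881, 6, 80086, 24),
  (201883, 6, 139419, 13),
  (201889, 5, 181321, 41),
  (201891, 6, 213003, 5),
  (201897, 6, 59815, 40),
  (201899, 6, 6486, 24),
  (201909, 6, 129494, 24),
  (201911, 5, 121302, 24),
  (201917, 6, 96726, 24),
  (201919, 6, 175281, 21),
  (201921, 4, 45420, 22),
  (201923, 6, 78122, 23),
  (201929, 7, 184628, 22),
  (201931, 6, 198753, 19),
  (201941, 6, 185819, 21),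
  (201943, 5, 79235, 37),
  (201949, 6, 184566, 23),
  (201951, 6, 177329, 21),
  (201957, 6, 220649, 14),
  (201959, 6, 247823, 5),
  (201965, 6, 47594, 22),
  (201967, 5, 97551, 25),
  (201969, 7, 152759, 23),
  (201971, 6, 59822, 20),
  (201977, 6, 240971, 24),
  (201979, 6, 155867, 13),
  (201989, 4, 3303, 19),
  (201991, 6, 80045, 26),
  (201997, 5, 184522, 23),
  (201999, 6, 101601, 19),
  (202001, 4, 190818, 20),
  (202003, 6, 205833, 4),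
  (202009, 6, 39066, 24),
  (202011, 5, 79131, 37),
  (202017, 6, 2293, 19),
  (202019, 6, 147851, 5),
  (202025, 6, 213419, 7),
  (202027, 6, 178186, 24),
  (202037, 6, 153850, 24),
  (202039, 6, 162026, 24),
  (202045, 6, 186554, 24),
  (202047, 6, 194730, 24),
  (202049, 6, 221482, 23),
  (202051, 4, 174534, 20),
  (202057, 6, 26791, 26),
  (202059, 6, 230857, 7),
  (202069, 6, 175577, 11),
  (202071, 6, 92522, 23),
  (202077, 7, 161967, 26),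
  (202079, 6, 184798, 23),
  (202085, 6, 38311, 16),
  (202087, 5, 78899, 37),
  (202093, 6, 248299, 7),
  (202095, 6, 14834, 22),
  (202097, 6, 251025, 17),
  (202099, 6, 193739, 6),
  (202105, 5, 128433, 3),
  (202107, 6, 190974, 20),
  (202117, 6, 45532, 22),
  (202119, 6, 53334, 24),
  (202125, 7, 242052, 22),
  (202127, 4, 242116, 22),
  (202129, 5, 110806, 24),
  (202131, 6, 196763, 10),
  (202137, 6, 205833, 6),
  (202139, 6, 14681, 22),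
  (202145, 6, 196779, 4),
  (202147, 6, 218123, 6),
  (202153, 7, 151723, 23),
  (202155, 6, 147851, 13),
  (202165, 6, 216351, 5),
  (202167, 6, 97553, 1),
  (202173, 6, 162991, 2),
  (202175, 6, 156063, 13),
  (202177, 6, 205098, 23),
  (202179, 6, 34187, 3),
  (202185, 4, 192804, 22),
  (202187, 6, 151994, 23),
  (202197, 6, 244119, 15),
  (202199, 5, 181289, 41),
  (202205, 6, 238669, 6),
  (202207, 6, 193681, 21),
  (202213, 6, 185595, 23),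
  (202215, 6, 252285, 21),
  (202221, 5, 79113, 37),
  (202223, 5, 14842, 22),
  (202225, 6, 59882, 20),
  (202227, 6, 252175, 25),
  (202233, 6, 240975, 24),
  (202235, 6, 242849, 4),
  (202755, 5, 249898, 23),
  (202759, 6, 50311, 19),
  (202763, 6, 45118, 24),
  (202767, 6, 53634, 23),
  (202769, 6, 4509, 12),
  (202770, 5, 154030, 38),
  (202773, 7, 42353, 20),
  (202774, 6, 209166, 14),
  (202777, 5, 413, 12),
  (202778, 6, 65822, 1),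
  (202781, 6, 196765, 7),
  (202782, 6, 211350, 3),
  (202785, 6, 59733, 21),
  (202786, 6, 131502, 7),
  (202789, 6, 6569, 12),
  (202790, 6, 229674, 44),
  (202793, 6, 153997, 1),
  (202794, 5, 141426, 41),
  (202797, 5, 184334, 24),
  (202798, 6, 39249, 20),
  (202803, 6, 146849, 16),
  (202807, 6, 139455, 11),
  (202811, 6, 89393, 10),
  (202815, 6, 208185, 8),
  (202817, 6, 78116, 22),
  (202818, 5, 39370, 6),
  (202821, 4, 127082, 23),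
  (202822, 5, 151852, 38),
  (202825, 6, 35273, 6),
  (202826, 5, 20818, 23),
  (202829, 6, 196941, 14),
  (202830, 6, 235910, 3),
  (202835, 5, 260138, 23),
  (202839, 5, 107699, 37),
  (202843, 6, 242977, 21),
  (202847, 6, 113057, 22),
  (202851, 6, 129501, 21),
  (202855, 6, 248239, 3),
  (202859, 5, 152683, 44),
  (202863, 6, 3563, 12),
  (202865, 6, 178593, 16),
  (202866, 6, 249105, 24),
  (202869, 6, 249129, 24),
  (202870, 6, 185837, 26),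
  (202873, 6, 243029, 26),
  (202874, 6, 194734, 8),
  (202877, 6, 243826, 19),
  (202878, 6, 53527, 23),
  (202883, 7, 110860, 22),
  (202887, 6, 175185, 20),
  (202891, 7, 20962, 23),
  (202895, 6, 50407, 19),
  (202897, 6, 121062, 24),
  (202898, 6, 205070, 7),
  (202901, 6, 202939, 43),
  (202902, 5, 174374, 41),
  (202905, 6, 205213, 8),
  (202906, 6, 205086, 10),
  (202909, 5, 29851, 39),
  (202910, 4, 76006, 24),
  (202913, 6, 136539, 20),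
  (202914, 6, 110606, 22),
  (202917, 6, 39270, 24),
  (202918, 5, 203050, 44),
  (202921, 6, 215469, 14),
  (202922, 6, 82350, 1),
  (202925, 4, 75890, 19),
  (202926, 3, 213422, 14),
  (202931, 6, 118231, 21),
  (202935, 6, 113126, 24),
  (202939, 5, 96742, 24),
  (202943, 6, 212269, 16),
  (202945, 6, 198099, 20),
  (202946, 6, 39302, 17),
  (202949, 6, 184409, 21),
  (202950, 6, 23721, 26),
  (202953, 6, 248198, 19),
  (202954, 5, 188868, 42),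
  (202957, 4, 45361, 21),
  (202958, 6, 233542, 11),
  (202963, 5, 163249, 26),
  (202967, 6, 243818, 23),
  (202971, 6, 239069, 8),
  (202975, 6, 37279, 17),
  (202979, 6, 121309, 21),
  (202983, 6, 111022, 22),
  (202987, 5, 107745, 37),
  (202991, 6, 112945, 21),
  (202993, 6, 244001, 16),
  (202994, 6, 111078, 13),
  (202997, 6, 179673, 26),
  (202998, 5, 135202, 44),
  (203001, 6, 252318, 19),
  (203002, 5, 135204, 38),
  (203005, 7, 80299, 22),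
  (203006, 6, 113130, 13),
  (203011, 7, 7553, 16),
  (203015, 4, 110996, 22),
  (203019, 6, 47162, 24),
  (203023, 4, 53642, 23),
  (203025, 6, 6378, 24),
  (203026, 5, 200734, 1),
  (203029, 6, 204813, 4),
  (203030, 6, 65822, 2),
  (203033, 6, 74013, 8),
  (203034, 4, 20814, 23),
  (203037, 6, 1393, 20),
  (203038, 5, 112785, 22),
  (203041, 5, 107569, 37),
  (203042, 3, 213422, 16),
  (203045, 6, 153674, 24),
  (203046, 6, 131502, 11),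
  (203049, 6, 6569, 16),
  (203050, 4, 174130, 24),
  (203053, 4, 108786, 19),
  (203054, 6, 6481, 20),
  (203059, 6, 145658, 24),
  (203063, 6, 162010, 24),
  (203067, 6, 178362, 24),
  (203071, 6, 194714, 24),
  (203073, 6, 17717, 25),
  (203074, 6, 233542, 13),
  (203077, 6, 75089, 20),
  (203078, 5, 110772, 22),
  (203081, 4, 10383, 26),
  (203082, 7, 18575, 26),
  (203085, 6, 221484, 22),
  (203086, 5, 235594, 13),
  (203091, 6, 256042, 23),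
  (203095, 6, 212445, 13),
  (203099, 5, 152681, 44),
  (203103, 6, 208349, 13),
  (203107, 6, 129533, 21),
  (203111, 7, 81233, 20),
  (203115, 6, 252047, 17),
  (203119, 6, 121255, 3),
  (203121, 6, 137726, 19),
  (203122, 6, 61854, 10),
  (203125, 5, 194765, 6),
  (203126, 5, 20778, 44),
  (203129, 6, 129457, 3),
  (203130, 5, 20740, 38),
  (203133, 6, 90477, 14),
  (203134, 5, 250014, 17),
  (203139, 5, 58611, 41),
  (203143, 6, 147739, 25),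
  (203147, 5, 143812, 22),
  (203151, 6, 153891, 38),
  (203153, 6, 50547, 21),
  (203154, 6, 110621, 22),
  (203157, 6, 210957, 6),
  (203158, 6, 205086, 11),
  (203161, 6, 196637, 12),
  (203162, 5, 198830, 44),
  (203165, 6, 132209, 20),
  (203166, 6, 209166, 8),
  (203169, 5, 29825, 39),
  (203170, 6, 21867, 23),
  (203173, 6, 213267, 25),
  (203174, 6, 110750, 22),
  (203177, 6, 177419, 20),
  (203178, 6, 215050, 6),
  (203181, 4, 80282, 22),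
  (203182, 6, 82350, 14),
  (203187, 6, 96687, 14),
  (203191, 6, 111078, 24),
  (203195, 6, 94694, 24),
  (203199, 6, 90543, 14),
  (203201, 6, 73871, 26),
  (203202, 5, 39370, 15),
  (203205, 5, 58579, 41),
  (203206, 5, 4396, 38),
  (203209, 5, 58595, 41),
  (203210, 4, 20858, 23),
  (203213, 6, 197713, 20),
  (203214, 6, 235910, 12),
  (203219, 6, 239658, 23),
  (203223, 5, 243791, 6),
  (203227, 6, 112953, 22),
  (203231, 6, 159879, 26),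
  (203235, 6, 110910, 22),
  (203239, 6, 252157, 21),
  (203243, 6, 251311, 15),
  (203247, 6, 129297, 21),
  (203249, 6, 170430, 19),
  (203250, 6, 239903, 25),
  (203253, 6, 162269, 13),
  (203254, 6, 252090, 1),
  (203257, 6, 186782, 19),
  (203258, 5, 121302, 2),
  (203261, 6, 117015, 25),
  (203262, 6, 97553, 21),
  (203777, 6, 99329, 41),
  (203779, 6, 117859, 19),
  (203781, 4, 250218, 23),
  (203783, 7, 203777, 15),
  (203785, 5, 204161, 3),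
  (203787, 6, 165937, 40),
  (203789, 5, 99377, 41),
  (203791, 4, 148483, 38),
  (203825, 6, 60887, 21),
  (203827, 6, 126295, 21),
  (203829, 7, 151774, 24),
  (203831, 6, 185735, 23),
  (203833, 6, 241057, 21),
  (203835, 6, 258389, 26),
  (203837, 6, 146863, 16),
  (203839, 6, 88375, 10),
  (203857, 6, 241049, 3),
  (203859, 5, 201115, 42),
  (203861, 6, 6619, 12),
  (203863, 6, 7641, 12),
  (203865, 6, 184447, 25),
  (203867, 6, 177569, 21),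
  (203869, 6, 112033, 21),
  (203871, 6, 177367, 11),
  (203873, 6, 86463, 25),
  (203875, 6, 153043, 23),
  (203877, 6, 111078, 22),
  (203879, 5, 191801, 24),
  (203881, 5, 201193, 42),
  (203883, 5, 240755, 19),
  (203885, 6, 113057, 21),
  (203887, 6, 80354, 22),
  (203905, 4, 110924, 22),
  (203907, 6, 102698, 23),
  (203909, 6, 175189, 20),
  (203911, 4, 102762, 23),
  (203913, 4, 151778, 23),
  (203915, 6, 68707, 19),
  (203917, 6, 117893, 19),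
  (203919, 4, 41393, 21),
  (203953, 5, 22533, 43),
  (203955, 5, 99507, 41),
  (203957, 6, 212263, 16),
  (203959, 5, 148809, 38),
  (203961, 5, 148811, 38),
  (203963, 5, 57389, 39),
  (203965, 6, 78247, 4),
  (203967, 5, 13337, 44),
  (203985, 6, 125963, 24),
  (203987, 6, 175515, 3),
  (203989, 6, 244074, 23),
  (203991, 5, 165917, 40),
  (203993, 5, 151798, 23),
  (203995, 5, 57491, 39),
  (203997, 6, 241115, 8),
  (203999, 6, 242775, 11),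
  (204001, 6, 232557, 11),
  (204003, 5, 200987, 42),
  (204005, 6, 248843, 5),
  (204007, 5, 78318, 22),
  (204009, 5, 191819, 24),
  (204011, 6, 118091, 6),
  (204013, 6, 113130, 22),
  (204015, 6, 191867, 24),
  (204033, 6, 164887, 20),
  (204035, 4, 78164, 22),
  (204037, 6, 246122, 23),
  (204039, 6, 30794, 24),
  (204041, 6, 38970, 24),
  (204043, 4, 152010, 23),
  (204045, 6, 19653, 19),
  (204047, 6, 63498, 24),
  (204081, 5, 165893, 40),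
  (204083, 5, 99569, 41),
  (204085, 6, 191735, 21),
  (204087, 7, 78295, 22),
  (204089, 6, 170170, 24),
  (204091, 5, 57373, 39),
  (204093, 6, 126337, 21),
  (204095, 5, 99521, 41),
  (204113, 6, 81229, 14),
  (204115, 6, 240653, 4),
  (204117, 6, 62829, 25),
  (204119, 6, 125290, 23),
  (204121, 6, 126029, 24),
  (204123, 5, 57507, 39),
  (204125, 6, 128385, 21),
  (204127, 6, 145575, 26),
  (204129, 6, 133623, 19),
  (204131, 5, 22645, 43),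
  (204133, 6, 95661, 25),
  (204135, 6, 191805, 24),
  (204137, 6, 113010, 22),
  (204139, 6, 249325, 7),
  (204141, 6, 191853, 24),
  (204143, 5, 251023, 17),
  (204161, 4, 75921, 37),
  (204163, 6, 99571, 41),
  (204165, 5, 13723, 44),
  (204167, 5, 204161, 15),
  (204169, 6, 173319, 20),
  (204171, 6, 175363, 20),
  (204173, 4, 241924, 22),
  (204175, 6, 13339, 44),
  (204209, 6, 97709, 14),
  (204211, 6, 258331, 25),
  (204213, 6, 204975, 4),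
  (204215, 6, 248951, 21),
  (204217, 6, 94710, 24),
  (204219, 6, 191889, 21),
  (204221, 6, 138357, 20),
  (204223, 6, 60817, 21),
  (204241, 6, 239914, 23),
  (204243, 5, 249235, 20),
  (204245, 6, 185595, 21),
  (204247, 5, 22721, 43),
  (204249, 5, 126031, 24),
  (204251, 6, 152062, 23),
  (204253, 6, 184510, 23),
  (204255, 6, 143527, 26),
  (204257, 6, 110974, 22),
  (204259, 5, 251301, 15),
  (204261, 6, 252323, 15),
  (204263, 6, 191807, 24),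
  (204265, 6, 250287, 15),
  (204267, 5, 57475, 39),
  (204269, 6, 129425, 21),
  (204271, 6, 248911, 6),
  (204801, 3, 4097, 41),
  (204802, 4, 89, 22),
  (204804, 6, 204948, 1),
  (204807, 4, 94270, 24),
  (204808, 6, 139672, 16),
  (204811, 4, 164150, 20),
  (204813, 5, 2337, 44),
  (204814, 2, 65538, 38),
  (204817, 3, 401, 6),
  (204818, 4, 36867, 25),
  (204820, 6, 139298, 21),
  (204823, 5, 33117, 43),
  (204824, 5, 8606, 42),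
  (204827, 6, 199082, 23),
  (204829, 6, 208925, 22),
  (204830, 5, 200734, 12),
  (204835, 4, 164142, 20),
  (204837, 4, 217134, 24),
  (204838, 6, 24982, 6),
  (204841, 6, 134427, 22),
  (204842, 5, 32926, 43),
  (204844, 6, 17717, 21),
  (204847, 6, 200155, 22),
  (204851, 7, 209054, 24),
  (204853, 6, 180491, 20),
  (204854, 6, 16744, 37),
  (204857, 4, 180506, 20),
  (204858, 5, 4396, 41),
  (204860, 5, 180228, 44),
  (204863, 5, 16677, 37),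
  (204867, 6, 131141, 39),
  (204869, 6, 68777, 24),
  (204870, 2, 131332, 44),
  (204873, 5, 8265, 42),
  (204874, 3, 16420, 44),
  (204876, 3, 131076, 39),
  (204879, 6, 8271, 42),
  (204883, 4, 110626, 21),
  (204885, 6, 57399, 25),
  (204886, 5, 16562, 37),
  (204889, 6, 205973, 26),
  (204890, 6, 135642, 7),
  (204892, 5, 8594, 42),
  (204895, 6, 240058, 23),
  (204897, 6, 82151, 25),
  (204898, 7, 96414, 21),
  (204900, 4, 162078, 21),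
  (204903, 6, 94455, 25),
  (204904, 6, 147928, 1),
  (204907, 5, 8613, 42),
  (204909, 6, 112953, 4),
  (204910, 6, 242150, 15),
  (204913, 4, 45452, 19),
  (204914, 5, 180620, 20),
  (204916, 4, 45450, 19),
  (204919, 6, 2373, 44),
  (204920, 5, 65686, 38),
  (204923, 6, 157131, 1),
  (204925, 6, 125337, 17),
  (204926, 5, 129334, 1),
  (204929, 4, 205201, 14),
  (204930, 4, 33867, 25),
  (204932, 6, 204948, 12),
  (204935, 7, 246156, 23),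
  (204936, 5, 33142, 43),
  (204939, 6, 47238, 24),
  (204941, 6, 189507, 25),
  (204942, 5, 45060, 44),
  (204945, 3, 401, 2),
  (204946, 4, 1099, 25),
  (204948, 5, 16782, 37),
  (204951, 6, 237657, 22),
  (204952, 6, 49424, 20),
  (204955, 6, 148555, 25),
  (204957, 6, 25955, 21),
  (204958, 5, 65586, 38),
  (204963, 6, 4345, 41),
  (204965, 6, 90389, 6),
  (204966, 6, 55649, 23),
  (204969, 5, 16621, 37),
  (204970, 4, 131356, 39),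
  (204972, 5, 2342, 44),
  (204975, 5, 4297, 41),
  (204979, 4, 80134, 24),
  (204981, 4, 174130, 21),
  (204982, 5, 33044, 43),
  (204985, 6, 25703, 21),
  (204986, 4, 108806, 24),
  (204988, 5, 151852, 44),
  (204991, 6, 212389, 8),
  (204995, 6, 33190, 20),
  (204997, 5, 60487, 25),
  (204998, 4, 188700, 23),
  (205001, 7, 33202, 20),
  (205002, 5, 209242, 7),
  (205004, 5, 8370, 42),
  (205007, 6, 37351, 19),
  (205011, 4, 49542, 20),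
  (205013, 6, 77932, 23),
  (205014, 6, 141526, 16),
  (205017, 5, 32939, 43),
  (205018, 5, 131218, 39),
  (205020, 6, 199817, 26),
  (205023, 6, 256410, 23),
  (205025, 6, 33194, 20),
  (205026, 5, 2198, 44),
  (205028, 5, 106504, 41),
  (205031, 5, 4201, 41),
  (205032, 6, 23603, 22),
  (205035, 5, 33097, 43),
  (205037, 5, 32857, 43),
  (205038, 6, 253960, 41),
  (205041, 6, 175185, 26),
  (205042, 4, 79922, 21),
  (205044, 5, 65802, 38),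
  (205047, 6, 77175, 12),
  (205048, 6, 131176, 39),
  (205051, 6, 2089, 44),
  (205053, 5, 4355, 41),
  (205054, 5, 250014, 12),
  (205057, 3, 401, 1),
  (205058, 5, 5185, 25),
  (205060, 6, 204948, 11),
  (205063, 6, 29809, 25),
  (205064, 6, 139672, 8),
  (205067, 5, 201126, 23),
  (205069, 6, 1393, 21),
  (205070, 5, 65714, 38),
  (205073, 3, 401, 16),
  (205074, 4, 37889, 25),
  (205076, 5, 4518, 41),
  (205079, 7, 253954, 21),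
  (205080, 6, 139672, 14),
  (205083, 5, 185633, 25),
  (205085, 5, 413, 16),
  (205086, 5, 65810, 38),
  (205091, 6, 125174, 21),
  (205093, 6, 16447, 37),
  (205094, 5, 8342, 42),
  (205097, 5, 33141, 43),
  (205098, 5, 131372, 39),
  (205100, 4, 110626, 19),
  (205103, 5, 163213, 5),
  (205107, 6, 124930, 21),
  (205109, 5, 8523, 42),
  (205110, 6, 111761, 25),
  (205113, 6, 213177, 2),
  (205114, 5, 180584, 41),
  (205116, 5, 75926, 40),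
  (205119, 5, 4289, 41),
  (205123, 6, 156009, 22),
  (205125, 5, 110772, 23),
  (205126, 6, 174482, 8),
  (205129, 5, 473, 1),
  (205130, 5, 131474, 39),
  (205132, 4, 102690, 19),
  (205135, 6, 3547, 1),
  (205139, 6, 126978, 21),
  (205141, 6, 102670, 19),
  (205142, 5, 207042, 5),
  (205145, 6, 76039, 26),
  (205146, 5, 145714, 23),
  (205148, 5, 8354, 42),
  (205151, 6, 3325, 24),
  (205153, 4, 164330, 20),
  (205154, 5, 131428, 39),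
  (205156, 5, 110850, 19),
  (205159, 6, 191877, 5),
  (205160, 5, 143364, 44),
  (205163, 6, 4123, 41),
  (205165, 5, 131365, 39),
  (205166, 6, 111078, 15),
  (205169, 6, 43271, 26),
  (205170, 5, 2194, 44),
  (205172, 4, 65578, 38),
  (205175, 5, 32905, 43),
  (205176, 6, 23581, 23),
  (205179, 5, 4177, 41),
  (205181, 5, 65633, 38),
  (205182, 6, 254456, 41),
  (205185, 3, 401, 3),
  (205186, 4, 32843, 25),
  (205188, 6, 139396, 8),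
  (205191, 5, 407, 3),
  (205192, 6, 139672, 10),
  (205195, 4, 217478, 23),
  (205197, 6, 74013, 16),
  (205198, 4, 57478, 24),
  (205201, 3, 32833, 43),
  (205202, 3, 75, 25),
  (205204, 6, 204948, 10),
  (205207, 5, 65737, 38),
  (205208, 6, 204824, 3),
  (205211, 6, 139419, 17),
  (205213, 5, 1171, 40),
  (205214, 3, 16420, 37),
  (205219, 4, 114763, 25),
  (205221, 5, 32947, 43),
  (205222, 5, 33042, 43),
  (205225, 6, 8239, 42),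
  (205226, 4, 41350, 24),
  (205228, 4, 49542, 24),
  (205231, 5, 16645, 37),
  (205235, 6, 81995, 25),
  (205237, 6, 45325, 26),
  (205238, 6, 24998, 3),
  (205241, 5, 110700, 19),
  (205242, 4, 49500, 20),
  (205244, 6, 49497, 20),
  (205247, 6, 211243, 11),
  (205251, 6, 155911, 26),
  (205253, 5, 127124, 23),
  (205254, 5, 43094, 40),
  (205257, 6, 33266, 20),
  (205258, 6, 237850, 8),
  (205260, 5, 8578, 42),
  (205263, 6, 37279, 3),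
  (205267, 6, 16429, 37),
  (205269, 4, 192530, 21),
  (205270, 3, 131076, 44),
  (205273, 5, 102764, 19),
  (205274, 2, 65538, 40),
  (205276, 2, 131332, 39),
  (205279, 6, 16495, 37),
  (205281, 6, 33171, 43),
  (205282, 5, 16652, 37),
  (205284, 5, 16708, 37),
  (205287, 6, 32899, 43),
  (205288, 5, 172372, 44),
  (205291, 6, 163171, 22),
  (205293, 5, 195041, 7),
  (205294, 6, 97507, 22),
  (205297, 4, 110924, 19),
  (205298, 6, 110921, 19),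
  (205300, 5, 4318, 41),
  (205303, 5, 2383, 44),
  (205304, 6, 147704, 2),
  (205307, 6, 215119, 25),
  (205309, 6, 110863, 26),
  (205310, 6, 244074, 11),
  (205829, 6, 188882, 21),
  (205831, 4, 229548, 23),
  (205833, 5, 157873, 44),
  (205835, 6, 166233, 22),
  (205845, 7, 237730, 21),
  (205847, 6, 73193, 38),
  (205849, 4, 182546, 20),
  (205851, 6, 5523, 6),
  (205857, 5, 200734, 24),
  (205859, 4, 125014, 21),
  (205869, 7, 232859, 22),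
  (205871, 6, 216125, 15),
  (205873, 6, 71893, 19),
  (205875, 6, 114859, 25),
  (205885, 6, 212263, 8),
  (205887, 6, 182559, 20),
  (205889, 5, 166306, 20),
  (205891, 6, 204988, 23),
  (205901, 6, 106942, 23),
  (205903, 6, 253001, 19),
  (205905, 6, 53295, 25),
  (205907, 6, 156693, 26),
  (205917, 5, 243923, 7),
  (205919, 6, 240653, 15),
  (205925, 6, 126337, 17),
  (205927, 6, 150993, 1),
  (205929, 5, 147931, 1),
  (205931, 6, 183675, 22),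
  (205941, 6, 191639, 5),
  (205943, 6, 126355, 17),
  (205945, 6, 250287, 25),
  (205947, 6, 246083, 43),
  (205957, 6, 208273, 14),
  (205959, 6, 72777, 19),
  (205961, 6, 196763, 15),
  (205963, 5, 185419, 25),
  (205973, 5, 208263, 8),
  (205975, 6, 157721, 26),
  (205977, 6, 112662, 24),
  (205979, 6, 79121, 12),
  (205985, 5, 245833, 43),
  (205987, 6, 119883, 25),
  (205997, 6, 259139, 25),
  (205999, 5, 47385, 42),
  (206001, 6, 155827, 7),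
  (206003, 5, 43186, 21),
  (206013, 6, 122039, 19),
  (206015, 5, 196927, 16),
  (206017, 5, 53466, 21),
  (206019, 6, 76955, 24),
  (206029, 5, 252337, 22),
  (206031, 6, 243727, 5),
  (206033, 6, 155737, 22),
  (206035, 5, 238659, 11),
  (206045, 6, 208057, 26),
  (206047, 6, 51607, 20),
  (206053, 6, 186846, 21),
  (206055, 5, 35247, 20),
  (206057, 6, 213339, 1),
  (206059, 6, 126417, 26),
  (206069, 6, 60817, 17),
  (206071, 6, 97359, 25),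
  (206073, 6, 51610, 20),
  (206075, 5, 220239, 25),
  (206085, 5, 102820, 23),
  (206087, 5, 96298, 24),
  (206089, 6, 79121, 14),
  (206091, 6, 112714, 24),
  (206101, 6, 200793, 22),
  (206103, 5, 407, 16),
  (206105, 6, 104666, 24),
  (206107, 6, 196763, 2),
  (206113, 6, 59638, 21),
  (206115, 6, 112857, 19),
  (206125, 6, 163215, 5),
  (206127, 5, 169313, 39),
  (206129, 6, 136281, 22),
  (206131, 6, 156051, 5),
  (206141, 6, 89393, 14),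
  (206143, 5, 47369, 42),
  (206145, 5, 238659, 10),
  (206147, 4, 166374, 20),
  (206157, 6, 242767, 10),
  (206159, 6, 177367, 6),
  (206161, 6, 26919, 26),
  (206163, 6, 90412, 23),
  (206173, 5, 34207, 16),
  (206175, 6, 11517, 24),
  (206181, 6, 95485, 25),
  (206183, 6, 240689, 4),
  (206185, 6, 218605, 25),
  (206187, 6, 208349, 24),
  (206197, 6, 260226, 21),
  (206199, 6, 186845, 23),
  (206201, 6, 182746, 20),
  (206203, 6, 155037, 23),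
  (206213, 6, 35171, 20),
  (206215, 6, 242113, 22),
  (206217, 6, 52445, 37),
  (206219, 6, 202011, 11),
  (206229, 6, 28973, 26),
  (206231, 6, 65900, 23),
  (206233, 5, 88450, 23),
  (206235, 6, 84169, 19),
  (206241, 4, 12694, 24),
  (206243, 5, 47213, 42),
  (206253, 7, 187625, 23),
  (206255, 6, 157887, 2),
  (206257, 6, 132185, 22),
  (206259, 6, 75993, 19),
  (206269, 6, 127254, 24),
  (206271, 5, 163249, 7),
  (206273, 6, 192801, 22),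
  (206275, 6, 225428, 23),
  (206285, 6, 38301, 3),
  (206287, 6, 194639, 25),
  (206289, 4, 127122, 21),
  (206291, 6, 61586, 21),
  (206301, 5, 157829, 44)]

theorem chk_rows2_22 : rows2_22.all (rowBP tr2 gensLitP 72) = true := by decide +kernel

/-- Rows 34500 to 35999. -/
def rows2_23 : List (ℕ × ℕ × ℕ × ℕ) := [(206303, 7, 78127, 26),
  (206309, 5, 35307, 20),
  (206311, 5, 205849, 40),
  (206313, 6, 35322, 20),
  (206315, 5, 242873, 4),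
  (206325, 6, 186621, 23),
  (206327, 6, 156103, 13),
  (206329, 6, 186805, 19),
  (206331, 5, 147707, 2),
  (206851, 7, 229868, 23),
  (206855, 6, 38023, 19),
  (206857, 6, 196637, 15),
  (206858, 6, 38049, 19),
  (206861, 6, 58689, 20),
  (206862, 6, 209166, 2),
  (206867, 5, 249900, 23),
  (206871, 6, 159805, 26),
  (206873, 6, 204813, 15),
  (206874, 6, 65822, 13),
  (206877, 6, 211341, 3),
  (206878, 6, 38059, 19),
  (206881, 4, 82163, 25),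
  (206882, 6, 74038, 13),
  (206885, 6, 90501, 17),
  (206886, 6, 90502, 17),
  (206891, 6, 150943, 1),
  (206895, 6, 204081, 8),
  (206897, 6, 46129, 42),
  (206898, 6, 204982, 24),
  (206901, 7, 43298, 21),
  (206902, 6, 74150, 5),
  (206907, 5, 97593, 10),
  (206911, 5, 101523, 38),
  (206913, 5, 169999, 39),
  (206914, 5, 172412, 23),
  (206917, 5, 235594, 19),
  (206918, 5, 207042, 16),
  (206923, 5, 206881, 44),
  (206927, 6, 38311, 19),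
  (206929, 6, 203206, 19),
  (206930, 5, 127193, 22),
  (206933, 5, 45346, 21),
  (206934, 6, 117089, 20),
  (206939, 6, 238607, 15),
  (206943, 6, 212165, 13),
  (206947, 6, 125319, 17),
  (206951, 6, 94439, 25),
  (206953, 6, 125325, 17),
  (206954, 6, 125326, 17),
  (206957, 6, 260186, 19),
  (206958, 5, 252350, 3),
  (206963, 5, 122995, 43),
  (206967, 6, 126325, 10),
  (206969, 6, 242901, 26),
  (206970, 6, 125342, 17),
  (206973, 5, 122963, 43),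
  (206974, 6, 62685, 22),
  (206979, 6, 38085, 19),
  (206983, 6, 205207, 14),
  (206985, 6, 196765, 15),
  (206986, 6, 211350, 14),
  (206989, 6, 157025, 21),
  (206990, 5, 200734, 11),
  (206995, 7, 237874, 21),
  (206999, 5, 79910, 24),
  (207001, 5, 413, 2),
  (207002, 6, 139406, 4),
  (207005, 6, 2457, 2),
  (207006, 5, 108582, 24),
  (207009, 6, 100510, 19),
  (207010, 6, 55649, 26),
  (207013, 6, 6566, 24),
  (207014, 6, 55585, 23),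
  (207019, 6, 63910, 24),
  (207023, 6, 97709, 10),
  (207025, 6, 205221, 8),
  (207026, 6, 196918, 7),
  (207029, 5, 71974, 24),
  (207030, 6, 24982, 17),
  (207035, 6, 129318, 24),
  (207039, 6, 24991, 17),
  (207041, 6, 231822, 19),
  (207042, 4, 217486, 41),
  (207045, 4, 184410, 21),
  (207046, 4, 205270, 14),
  (207051, 6, 242701, 5),
  (207055, 6, 85243, 24),
  (207057, 6, 235910, 19),
  (207058, 6, 199141, 20),
  (207061, 4, 45362, 21),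
  (207062, 6, 197078, 14),
  (207067, 5, 243791, 11),
  (207071, 6, 177367, 7),
  (207075, 5, 170325, 39),
  (207079, 6, 252126, 21),
  (207081, 6, 248254, 19),
  (207082, 5, 178658, 15),
  (207085, 5, 248919, 25),
  (207086, 6, 162026, 16),
  (207091, 6, 191735, 7),
  (207095, 6, 189657, 22),
  (207097, 6, 243821, 11),
  (207098, 5, 67806, 42),
  (207101, 6, 244193, 8),
  (207102, 5, 75866, 42),
  (207107, 5, 208263, 7),
  (207111, 6, 205129, 22),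
  (207113, 6, 132209, 21),
  (207114, 6, 168294, 23),
  (207117, 5, 413, 1),
  (207118, 6, 6546, 10),
  (207123, 4, 80058, 24),
  (207127, 6, 168153, 22),
  (207129, 6, 196765, 2),
  (207130, 4, 108786, 24),
  (207133, 6, 80133, 26),
  (207134, 6, 37085, 22),
  (207137, 6, 83185, 25),
  (207138, 6, 111617, 19),
  (207141, 6, 21825, 20),
  (207142, 6, 196790, 5),
  (207147, 5, 243834, 24),
  (207151, 6, 260186, 24),
  (207153, 6, 6358, 19),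
  (207154, 6, 103569, 25),
  (207157, 6, 108762, 19),
  (207158, 6, 55565, 23),
  (207163, 5, 170013, 39),
  (207167, 5, 170065, 39),
  (207169, 6, 110836, 23),
  (207170, 6, 237574, 1),
  (207173, 6, 74069, 14),
  (207174, 6, 90217, 22),
  (207179, 6, 242166, 23),
  (207183, 6, 209398, 23),
  (207185, 6, 19597, 24),
  (207186, 4, 205270, 16),
  (207189, 6, 35221, 16),
  (207190, 4, 188524, 23),
  (207195, 6, 244210, 23),
  (207199, 6, 243159, 7),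
  (207203, 5, 240695, 4),
  (207207, 6, 191873, 5),
  (207209, 6, 239887, 26),
  (207210, 6, 113122, 15),
  (207213, 6, 216557, 24),
  (207214, 5, 14842, 7),
  (207219, 6, 111885, 19),
  (207223, 6, 82295, 14),
  (207225, 5, 170073, 39),
  (207226, 6, 129450, 3),
  (207229, 6, 151021, 24),
  (207230, 6, 129454, 3),
  (207235, 5, 250308, 23),
  (207239, 6, 160005, 26),
  (207241, 6, 189747, 20),
  (207242, 6, 14529, 22),
  (207245, 6, 23763, 37),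
  (207246, 6, 139406, 17),
  (207251, 6, 24667, 25),
  (207255, 6, 123154, 21),
  (207257, 5, 170311, 39),
  (207258, 6, 203162, 12),
  (207261, 7, 156769, 20),
  (207262, 6, 209166, 11),
  (207265, 5, 20902, 24),
  (207266, 6, 24998, 24),
  (207269, 4, 182390, 21),
  (207270, 6, 196918, 11),
  (207275, 6, 61862, 24),
  (207279, 6, 162881, 20),
  (207281, 6, 169259, 20),
  (207282, 6, 196790, 13),
  (207285, 6, 55469, 23),
  (207286, 6, 155798, 17),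
  (207291, 6, 163201, 13),
  (207295, 6, 212019, 12),
  (207297, 6, 231765, 11),
  (207298, 6, 74070, 7),
  (207301, 6, 35221, 3),
  (207302, 6, 160084, 23),
  (207307, 6, 242957, 5),
  (207311, 6, 212035, 12),
  (207313, 5, 207269, 44),
  (207314, 4, 172076, 23),
  (207317, 7, 106604, 23),
  (207318, 6, 103755, 19),
  (207323, 6, 112069, 8),
  (207327, 6, 224353, 20),
  (207331, 6, 150993, 13),
  (207335, 6, 111943, 19),
  (207337, 6, 243901, 4),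
  (207338, 6, 216535, 24),
  (207341, 6, 227546, 19),
  (207342, 5, 78022, 38),
  (207347, 6, 150943, 24),
  (207351, 6, 111951, 19),
  (207353, 6, 147709, 2),
  (207354, 6, 248126, 8),
  (207357, 7, 148637, 22),
  (207358, 6, 63918, 3),
  (207873, 5, 102401, 38),
  (207875, 6, 28949, 26),
  (207877, 6, 66028, 23),
  (207879, 5, 102473, 38),
  (207889, 4, 132199, 20),
  (207891, 6, 172450, 21),
  (207893, 6, 143577, 22),
  (207895, 5, 208263, 3),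
  (207913, 6, 213055, 15),
  (207915, 6, 127445, 26),
  (207917, 6, 249950, 24),
  (207919, 6, 187777, 23),
  (207929, 6, 220469, 14),
  (207931, 6, 241902, 24),
  (207933, 6, 97599, 10),
  (207935, 6, 96575, 10),
  (207945, 6, 177295, 5),
  (207947, 5, 102409, 38),
  (207949, 5, 102465, 38),
  (207951, 6, 205054, 23),
  (207961, 7, 206071, 20),
  (207963, 6, 239866, 23),
  (207965, 6, 177357, 11),
  (207967, 6, 247883, 19),
  (207969, 6, 63966, 21),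
  (207971, 6, 154065, 23),
  (207973, 6, 247859, 15),
  (207975, 6, 60887, 6),
  (207985, 5, 83131, 40),
  (207987, 6, 178594, 21),
  (207989, 6, 126327, 10),
  (207991, 5, 53539, 37),
  (208001, 4, 115148, 23),
  (208003, 4, 22710, 24),
  (208005, 6, 14649, 26),
  (208007, 6, 213196, 23),
  (208017, 6, 205017, 22),
  (208019, 5, 407, 2),
  (208021, 6, 106930, 21),
  (208023, 4, 41394, 21),
  (208041, 6, 97553, 6),
  (208043, 5, 84359, 44),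
  (208045, 6, 250963, 25),
  (208047, 6, 96687, 10),
  (208057, 5, 143763, 41),
  (208059, 6, 93275, 19),
  (208061, 6, 112950, 24),
  (208063, 6, 211363, 8),
  (208073, 6, 248239, 19),
  (208075, 6, 220235, 19),
  (208077, 6, 252209, 22),
  (208079, 6, 93435, 24),
  (208089, 6, 252327, 19),
  (208091, 5, 143445, 41),
  (208093, 6, 3547, 2),
  (208095, 6, 242767, 11),
  (208097, 6, 55774, 21),
  (208099, 6, 220651, 20),
  (208101, 6, 213335, 1),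
  (208103, 5, 102565, 38),
  (208113, 6, 244146, 21),
  (208115, 6, 178610, 21),
  (208117, 6, 89175, 25),
  (208119, 6, 257185, 15),
  (208129, 5, 53665, 37),
  (208131, 6, 172489, 22),
  (208133, 5, 407, 1),
  (208135, 6, 104651, 19),
  (208145, 6, 254338, 21),
  (208147, 4, 114988, 23),
  (208149, 5, 208263, 13),
  (208151, 6, 14629, 26),
  (208169, 5, 97589, 14),
  (208171, 5, 11475, 42),
  (208173, 6, 228399, 10),
  (208175, 6, 240971, 22),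
  (208185, 5, 102507, 38),
  (208187, 5, 102501, 38),
  (208189, 6, 252122, 24),
  (208191, 6, 146609, 12),
  (208201, 6, 93389, 24),
  (208203, 5, 241910, 23),
  (208205, 6, 161133, 25),
  (208207, 5, 243791, 10),
  (208217, 6, 27853, 24),
  (208219, 6, 243954, 23),
  (208221, 5, 193837, 25),
  (208223, 6, 70999, 14),
  (208225, 6, 63998, 21),
  (208227, 6, 191699, 6),
  (208229, 6, 257127, 10),
  (208231, 5, 83027, 40),
  (208241, 6, 119997, 25),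
  (208243, 5, 83237, 40),
  (208245, 5, 129410, 21),
  (208247, 6, 239835, 19),
  (208257, 5, 28854, 24),
  (208259, 6, 115058, 21),
  (208261, 5, 241921, 22),
  (208263, 4, 172317, 43),
  (208273, 5, 102529, 38),
  (208275, 6, 86070, 24),
  (208277, 4, 229740, 23),
  (208279, 4, 69686, 24),
  (208297, 7, 172339, 43),
  (208299, 6, 204095, 11),
  (208301, 5, 53571, 37),
  (208303, 6, 206309, 21),
  (208313, 6, 212269, 11),
  (208315, 6, 206055, 21),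
  (208317, 5, 163207, 13),
  (208319, 6, 212017, 12),
  (208329, 6, 194977, 22),
  (208331, 5, 195041, 22),
  (208333, 6, 94678, 23),
  (208335, 6, 225494, 23),
  (208345, 5, 134473, 39),
  (208347, 5, 102537, 38),
  (208349, 5, 102593, 38),
  (208351, 6, 206315, 21),
  (208353, 5, 129111, 25),
  (208355, 6, 232823, 11),
  (208357, 6, 220229, 20),
  (208359, 6, 252030, 21),
  (208369, 6, 60833, 3),
  (208371, 6, 191639, 17),
  (208373, 6, 60837, 3),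
  (208375, 5, 248919, 6),
  (208899, 6, 53381, 19),
  (208901, 7, 8605, 26),
  (208902, 6, 153710, 23),
  (208907, 5, 92545, 44),
  (208909, 5, 92449, 44),
  (208910, 4, 122934, 24),
  (208915, 4, 217134, 23),
  (208917, 6, 74013, 10),
  (208918, 3, 90358, 24),
  (208923, 6, 110750, 24),
  (208925, 5, 413, 6),
  (208926, 4, 414, 6),
  (208929, 6, 23683, 23),
  (208930, 6, 204886, 24),
  (208932, 6, 204988, 1),
  (208935, 7, 57853, 26),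
  (208937, 6, 213219, 25),
  (208938, 4, 172348, 20),
  (208940, 4, 245798, 24),
  (208943, 6, 24991, 6),
  (208945, 4, 61580, 19),
  (208946, 6, 61577, 19),
  (208948, 4, 61578, 19),
  (208951, 6, 212269, 8),
  (208953, 6, 213305, 14),
  (208954, 4, 188700, 20),
  (208956, 6, 188697, 20),
  (208959, 6, 55751, 23),
  (208961, 6, 172450, 20),
  (208962, 5, 209242, 14),
  (208964, 6, 53634, 19),
  (208967, 6, 215549, 22),
  (208969, 6, 147559, 25),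
  (208970, 4, 22802, 23),
  (208972, 6, 101601, 24),
  (208975, 6, 81373, 2),
  (208977, 4, 53644, 19),
  (208978, 6, 242138, 15),
  (208980, 4, 53642, 19),
  (208983, 6, 175261, 5),
  (208985, 7, 188818, 20),
  (208986, 6, 77859, 21),
  (208988, 6, 139740, 4),
  (208991, 6, 36089, 24),
  (208995, 6, 172462, 20),
  (208997, 6, 154065, 1),
  (208998, 5, 129410, 17),
  (209003, 6, 250939, 15),
  (209005, 6, 112945, 4),
  (209006, 6, 194746, 8),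
  (209011, 6, 188814, 20),
  (209013, 6, 129425, 17),
  (209014, 5, 254132, 44),
  (209019, 6, 193681, 5),
  (209021, 6, 61870, 19),
  (209022, 5, 10442, 38),
  (209027, 6, 205833, 5),
  (209029, 6, 41251, 20),
  (209030, 6, 71893, 22),
  (209035, 6, 202011, 1),
  (209037, 6, 74013, 6),
  (209038, 6, 202770, 11),
  (209043, 4, 57606, 20),
  (209045, 6, 211341, 8),
  (209046, 6, 124998, 24),
  (209051, 6, 79942, 24),
  (209053, 6, 210945, 11),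
  (209054, 6, 65822, 6),
  (209057, 6, 39366, 24),
  (209058, 6, 205114, 7),
  (209060, 6, 90540, 10),
  (209063, 6, 41263, 20),
  (209065, 6, 6598, 24),
  (209066, 6, 213274, 10),
  (209068, 5, 90396, 6),
  (209071, 5, 55461, 37),
  (209073, 6, 142361, 22),
  (209074, 6, 213146, 12),
  (209076, 4, 117062, 24),
  (209079, 5, 55385, 37),
  (209081, 6, 103755, 38),
  (209082, 6, 57628, 20),
  (209084, 6, 141363, 21),
  (209087, 6, 240733, 22),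
  (209089, 6, 11665, 26),
  (209090, 4, 19873, 26),
  (209092, 6, 3465, 26),
  (209095, 6, 240653, 5),
  (209097, 4, 53732, 19),
  (209098, 3, 205274, 14),
  (209100, 4, 53730, 19),
  (209103, 6, 112069, 10),
  (209105, 6, 157721, 22),
  (209106, 6, 87193, 21),
  (209108, 6, 36003, 24),
  (209111, 6, 144589, 13),
  (209113, 4, 22710, 23),
  (209114, 5, 71982, 40),
  (209116, 6, 237580, 2),
  (209119, 6, 243779, 11),
  (209123, 6, 193771, 7),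
  (209125, 5, 214407, 40),
  (209126, 6, 129454, 1),
  (209131, 6, 232923, 24),
  (209133, 5, 214055, 40),
  (209134, 6, 248094, 10),
  (209139, 6, 188843, 3),
  (209141, 5, 209043, 41),
  (209142, 6, 56695, 23),
  (209147, 5, 208915, 41),
  (209149, 6, 155853, 13),
  (209150, 6, 243810, 11),
  (209155, 6, 5523, 1),
  (209157, 6, 204813, 10),
  (209158, 6, 205086, 12),
  (209163, 6, 202011, 15),
  (209165, 6, 145805, 26),
  (209166, 5, 88482, 40),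
  (209171, 5, 188742, 20),
  (209173, 6, 88298, 24),
  (209174, 6, 71962, 14),
  (209179, 6, 112794, 24),
  (209181, 6, 121002, 24),
  (209182, 6, 211350, 16),
  (209185, 4, 172394, 20),
  (209186, 6, 126977, 19),
  (209188, 6, 126978, 19),
  (209191, 6, 227450, 24),
  (209193, 4, 127012, 19),
  (209194, 4, 9295, 22),
  (209196, 5, 188868, 43),
  (209199, 6, 212019, 4),
  (209201, 6, 126988, 19),
  (209202, 6, 213274, 12),
  (209204, 6, 90540, 3),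
  (209207, 5, 128433, 25),
  (209209, 6, 22671, 23),
  (209210, 5, 204970, 5),
  (209212, 5, 213180, 11),
  (209215, 7, 55759, 23),
  (209217, 6, 157997, 22),
  (209218, 6, 237850, 12),
  (209220, 6, 205004, 8),
  (209223, 6, 238669, 10),
  (209225, 4, 22682, 23),
  (209226, 6, 196826, 5),
  (209228, 6, 137615, 26),
  (209231, 6, 241099, 7),
  (209233, 5, 241921, 15),
  (209234, 3, 205274, 16),
  (209236, 6, 24686, 23),
  (209239, 6, 119055, 19),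
  (209241, 6, 36045, 24),
  (209242, 4, 188678, 43),
  (209244, 6, 205260, 13),
  (209247, 6, 241115, 7),
  (209251, 6, 232861, 24),
  (209253, 6, 194943, 21),
  (209254, 5, 106702, 42),
  (209259, 6, 242739, 4),
  (209261, 6, 194949, 5),
  (209262, 6, 55643, 23),
  (209267, 6, 130301, 21),
  (209269, 6, 174569, 11),
  (209270, 6, 211178, 5),
  (209275, 5, 214149, 40),
  (209277, 6, 127278, 19),
  (209278, 5, 178658, 11),
  (209283, 6, 79121, 16),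
  (209285, 5, 413, 3),
  (209286, 4, 414, 3),
  (209291, 6, 22954, 23),
  (209293, 6, 209285, 22),
  (209294, 5, 57654, 39),
  (209299, 5, 110662, 24),
  (209301, 6, 78221, 26),
  (209302, 5, 200734, 6),
  (209307, 5, 92549, 44),
  (209309, 6, 211341, 15),
  (209310, 4, 90182, 24),
  (209313, 6, 51319, 21),
  (209314, 5, 188868, 44),
  (209316, 7, 41321, 20),
  (209319, 6, 127047, 19),
  (209321, 6, 127076, 19),
  (209322, 6, 8646, 24),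
  (209324, 5, 180692, 44),
  (209327, 6, 210375, 22),
  (209329, 6, 205097, 11),
  (209330, 6, 196939, 25),
  (209332, 6, 127050, 19),
  (209335, 6, 127302, 24),
  (209337, 4, 57690, 20),
  (209338, 6, 127081, 19),
  (209340, 4, 127082, 19),
  (209343, 6, 203955, 4),
  (209345, 6, 205191, 26),
  (209346, 6, 213383, 26),
  (209348, 6, 66012, 17),
  (209351, 6, 206958, 23),
  (209353, 5, 241921, 5),
  (209354, 6, 37266, 3),
  (209356, 5, 241996, 14),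
  (209359, 6, 55802, 23),
  (209361, 6, 35983, 24),
  (209362, 6, 57796, 20),
  (209364, 6, 233564, 6),
  (209367, 6, 36031, 24),
  (209369, 6, 8583, 26),
  (209370, 4, 22846, 23),
  (209372, 6, 36071, 24),
  (209375, 5, 92597, 44),
  (209379, 6, 194027, 7),
  (209381, 6, 242063, 26),
  (209382, 5, 137466, 5),
  (209387, 5, 242867, 4),
  (209389, 5, 127334, 19),
  (209390, 5, 194698, 17),
  (209395, 6, 122109, 21),
  (209397, 6, 113133, 8),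
  (209398, 5, 260286, 1),
  (209403, 6, 192667, 17),
  (209405, 6, 127342, 19),
  (209406, 6, 72054, 7),
  (209921, 6, 202011, 8),
  (209923, 4, 88366, 23),
  (209929, 6, 102430, 24),
  (209931, 6, 110606, 24),
  (209937, 7, 217390, 23),
  (209939, 6, 190726, 20),
  (209945, 6, 184363, 25),
  (209947, 6, 110734, 24),
  (209957, 6, 204095, 8),
  (209959, 6, 77113, 4),
  (209965, 6, 249918, 24),
  (209967, 6, 198747, 44),
  (209973, 6, 220473, 14),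
  (209975, 6, 163201, 1),
  (209981, 5, 212061, 22),
  (209983, 5, 106595, 43),
  (209989, 6, 81367, 2),
  (209991, 6, 167131, 11),
  (209997, 6, 111943, 10),
  (209999, 6, 186834, 23),
  (210005, 6, 44201, 24),
  (210007, 6, 204123, 14),
  (210013, 5, 34269, 6),
  (210015, 6, 186838, 23),
  (210017, 6, 152019, 1),
  (210019, 6, 241049, 24),
  (210025, 6, 251313, 3),
  (210027, 6, 241113, 24),
  (210033, 6, 128401, 17),
  (210035, 6, 190862, 20),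
  (210041, 6, 175561, 24),
  (210043, 6, 175577, 24),
  (210049, 6, 170261, 22),
  (210051, 4, 43302, 20),
  (210057, 4, 153762, 23),
  (210059, 6, 6358, 24),
  (210065, 6, 5523, 2),
  (210067, 7, 59654, 20),
  (210073, 6, 202011, 16),
  (210075, 4, 154022, 23),
  (210085, 6, 63958, 24),
  (210087, 5, 100585, 38),
  (210093, 6, 31190, 24),
  (210095, 6, 22998, 24),
  (210101, 6, 212399, 8),
  (210103, 6, 121174, 24),
  (210109, 6, 96598, 24),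
  (210111, 6, 88406, 24),
  (210117, 6, 211310, 23),
  (210119, 6, 28057, 26),
  (210125, 5, 242867, 21),
  (210127, 6, 208347, 14),
  (210133, 6, 7639, 2),
  (210135, 6, 78190, 23),
  (210141, 6, 186614, 23),
  (210143, 6, 77149, 12),
  (210145, 6, 192747, 7),
  (210147, 6, 128347, 6),
  (210153, 5, 137561, 39),
  (210155, 6, 241115, 24),
  (210161, 5, 25841, 40),
  (210163, 6, 175515, 24),
  (210169, 6, 59802, 20),
  (210171, 5, 25793, 40),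
  (210177, 7, 174434, 20),
  (210179, 4, 174438, 20),
  (210185, 4, 153738, 23),
  (210187, 6, 112650, 24),
  (210193, 6, 5523, 16),
  (210195, 6, 170009, 22),
  (210201, 6, 139419, 12),
  (210203, 4, 10661, 26),
  (210213, 5, 97593, 14),
  (210215, 6, 220469, 15),
  (210221, 5, 163207, 5),
  (210223, 5, 260138, 24),
  (210229, 6, 190795, 20),
  (210231, 6, 106777, 43),
  (210237, 6, 146849, 11),
  (210239, 6, 260266, 24),
  (210245, 6, 212183, 2),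
  (210247, 6, 7633, 1),
  (210253, 6, 6619, 1),
  (210255, 6, 7641, 1),
  (210261, 6, 38295, 16),
  (210263, 6, 90478, 23),
  (210269, 6, 155079, 19),
  (210271, 6, 37279, 16),
  (210273, 6, 174570, 20),
  (210275, 6, 251185, 15),
  (210281, 6, 250171, 15),
  (210283, 6, 189659, 6),
  (210289, 6, 190922, 20),
  (210291, 6, 21645, 37),
  (210297, 5, 190938, 20),
  (210299, 5, 100393, 38),
  (210305, 5, 21649, 37),
  (210307, 6, 205221, 26),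
  (210313, 4, 43378, 20),
  (210315, 5, 21659, 37),
  (210321, 6, 196763, 4),
  (210323, 5, 198965, 44),
  (210329, 6, 133213, 22),
  (210331, 5, 59734, 20),
  (210341, 6, 36031, 19),
  (210343, 6, 208057, 4),
  (210349, 6, 204081, 11),
  (210351, 6, 20950, 24),
  (210357, 6, 198843, 4),
  (210359, 6, 119126, 24),
  (210365, 6, 30117, 3),
  (210367, 6, 203953, 4),
  (210373, 6, 207214, 23),
  (210375, 5, 34207, 3),
  (210381, 6, 186618, 23),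
  (210383, 6, 207949, 12),
  (210389, 6, 215129, 22),
  (210391, 5, 212061, 12),
  (210397, 6, 174555, 7),
  (210399, 6, 175577, 7),
  (210401, 5, 21835, 37),
  (210403, 6, 251313, 15),
  (210409, 6, 43514, 20),
  (210411, 5, 147931, 13),
  (210417, 6, 193681, 17),
  (210419, 6, 183321, 22),
  (210425, 6, 59866, 20),
  (210427, 6, 106987, 8),
  (210945, 5, 149505, 44),
  (210946, 5, 12372, 42),
  (210949, 5, 149905, 44),
  (210950, 5, 81970, 40),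
  (210953, 6, 173347, 21),
  (210954, 5, 24738, 40),
  (210957, 5, 149793, 44),
  (210958, 5, 131474, 40),
  (210961, 7, 132211, 20),
  (210962, 6, 112857, 22),
  (210965, 6, 210945, 15),
  (210966, 6, 139406, 11),
  (210969, 6, 2457, 6),
  (210970, 5, 149902, 44),
  (210973, 6, 41251, 21),
  (210974, 6, 71962, 13),
  (210979, 6, 218167, 15),
  (210983, 6, 225374, 24),
  (210987, 6, 241726, 24),
  (210991, 7, 225507, 25),
  (210995, 5, 163207, 1),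
  (210999, 6, 225502, 24),
  (211003, 6, 241854, 24),
  (211007, 5, 97589, 10),
  (211011, 6, 260142, 23),
  (211015, 5, 136201, 39),
  (211019, 5, 136195, 39),
  (211023, 6, 118009, 24),
  (211027, 6, 39387, 6),
  (211031, 5, 212173, 13),
  (211035, 6, 22998, 23),
  (211039, 6, 194781, 22),
  (211041, 6, 199166, 19),
  (211042, 6, 244202, 15),
  (211045, 6, 90599, 25),
  (211046, 5, 47310, 40),
  (211049, 5, 252337, 3),
  (211050, 5, 249297, 24),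
  (211053, 5, 243834, 19),
  (211054, 6, 127374, 17),
  (211057, 6, 23767, 23),
  (211058, 6, 129430, 17),
  (211061, 6, 123303, 25),
  (211062, 5, 49444, 44),
  (211065, 6, 219606, 19),
  (211066, 5, 164132, 44),
  (211069, 6, 194705, 5),
  (211070, 6, 184510, 8),
  (211073, 6, 204813, 5),
  (211074, 6, 139406, 16),
  (211077, 6, 196637, 11),
  (211078, 4, 43238, 24),
  (211081, 6, 80145, 26),
  (211082, 5, 219302, 39),
  (211085, 6, 205213, 14),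
  (211086, 4, 414, 5),
  (211089, 6, 207001, 22),
  (211090, 6, 209166, 10),
  (211093, 6, 204813, 11),
  (211094, 3, 204814, 11),
  (211097, 6, 74013, 12),
  (211098, 6, 211350, 2),
  (211101, 7, 181361, 20),
  (211102, 5, 200734, 8),
  (211107, 6, 63974, 24),
  (211111, 6, 47590, 24),
  (211115, 6, 220447, 1),
  (211119, 6, 62695, 19),
  (211123, 6, 204081, 16),
  (211127, 6, 214363, 25),
  (211131, 6, 96614, 24),
  (211135, 6, 55719, 23),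
  (211139, 6, 243758, 23),
  (211143, 6, 240649, 5),
  (211147, 6, 97585, 26),
  (211151, 5, 97593, 26),
  (211155, 6, 162993, 26),
  (211159, 6, 7633, 2),
  (211163, 6, 241971, 21),
  (211167, 6, 7641, 2),
  (211169, 5, 71917, 38),
  (211170, 5, 249235, 24),
  (211173, 6, 227450, 19),
  (211174, 5, 67730, 40),
  (211177, 6, 248222, 19),
  (211178, 5, 10386, 40),
  (211181, 6, 211066, 19),
  (211182, 7, 81203, 21),
  (211185, 6, 183691, 24),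
  (211186, 6, 251958, 8),
  (211189, 6, 223354, 19),
  (211190, 5, 135212, 44),
  (211193, 5, 74109, 12),
  (211194, 5, 20748, 44),
  (211197, 5, 194981, 3),
  (211198, 6, 61854, 17),
  (211201, 5, 136593, 39),
  (211202, 4, 75890, 24),
  (211205, 6, 207117, 22),
  (211206, 6, 75853, 22),
  (211209, 6, 210945, 10),
  (211210, 3, 204814, 1),
  (211213, 6, 74013, 14),
  (211214, 6, 203162, 4),
  (211217, 6, 211357, 7),
  (211218, 4, 414, 7),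
  (211221, 6, 211341, 13),
  (211222, 6, 202770, 13),
  (211225, 6, 202909, 22),
  (211226, 5, 200734, 13),
  (211229, 6, 205213, 7),
  (211230, 6, 65822, 14),
  (211235, 6, 211066, 24),
  (211239, 6, 128007, 19),
  (211243, 5, 74867, 40),
  (211247, 6, 163201, 5),
  (211251, 6, 211194, 24),
  (211255, 6, 227546, 24),
  (211259, 6, 243898, 24),
  (211263, 5, 43273, 42),
  (211267, 6, 7639, 1),
  (211271, 6, 100767, 3),
  (211275, 7, 156141, 22),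
  (211279, 6, 55706, 23),
  (211283, 5, 252121, 22),
  (211287, 6, 240733, 10),
  (211291, 6, 252125, 22),
  (211295, 6, 52477, 24),
  (211297, 6, 249229, 24),
  (211298, 6, 113130, 15),
  (211301, 6, 252209, 15),
  (211302, 5, 151586, 39),
  (211305, 5, 136553, 39),
  (211306, 5, 135460, 44),
  (211309, 5, 74851, 40),
  (211310, 5, 243834, 13),
  (211313, 6, 183693, 24),
  (211314, 7, 97725, 21),
  (211317, 6, 183725, 24),
  (211318, 5, 164116, 42),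
  (211321, 6, 139517, 12),
  (211322, 5, 172116, 42),
  (211325, 6, 82301, 14),
  (211326, 5, 128299, 19),
  (211329, 6, 34990, 19),
  (211330, 5, 71982, 38),
  (211333, 6, 88298, 19),
  (211334, 6, 184804, 38),
  (211337, 6, 204813, 12),
  (211338, 6, 65822, 10),
  (211341, 5, 50387, 37),
  (211342, 6, 211350, 12),
  (211345, 5, 413, 9),
  (211346, 5, 131218, 40),
  (211349, 5, 136525, 39),
  (211350, 5, 24722, 40),
  (211353, 6, 173347, 20),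
  (211354, 5, 82066, 40),
  (211357, 5, 149797, 44),
  (211358, 5, 204946, 40),
  (211363, 5, 75161, 40),
  (211367, 5, 196927, 11),
  (211371, 5, 74809, 40),
  (211375, 6, 128103, 19),
  (211379, 5, 127334, 24),
  (211383, 5, 163213, 13),
  (211387, 5, 97551, 1),
  (211391, 6, 55727, 23),
  (211395, 6, 239662, 23),
  (211399, 6, 240845, 10),
  (211403, 6, 257447, 20),
  (211407, 6, 39319, 3),
  (211411, 6, 120141, 19),
  (211415, 5, 149765, 44),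
  (211419, 5, 149541, 44),
  (211423, 7, 182493, 22),
  (211425, 6, 195053, 7),
  (211426, 5, 241910, 13),
  (211429, 5, 252337, 15),
  (211430, 5, 163940, 44),
  (211433, 5, 75033, 40),
  (211434, 5, 69658, 40),
  (211437, 6, 211194, 19),
  (211438, 6, 233846, 11),
  (211441, 7, 223575, 25),
  (211442, 6, 194710, 17),
  (211445, 7, 56511, 23),
  (211446, 5, 104594, 40),
  (211449, 6, 186774, 19),
  (211450, 5, 128361, 19),
  (211453, 6, 207098, 19),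
  (211454, 6, 252310, 12),
  (212001, 6, 154819, 23),
  (212003, 6, 82427, 25),
  (212005, 6, 95621, 17),
  (212007, 6, 90603, 25),
  (212009, 6, 132589, 40),
  (212011, 5, 196927, 8),
  (212013, 6, 216223, 13),
  (212015, 6, 112763, 19),
  (212017, 5, 18721, 37),
  (212019, 5, 132507, 40),
  (212021, 6, 228495, 13),
  (212023, 6, 211243, 8),
  (212025, 6, 233662, 24),
  (212027, 5, 163213, 1),
  (212029, 5, 250014, 24),
  (212031, 5, 132363, 40),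
  (212033, 6, 260398, 23),
  (212035, 5, 163909, 39),
  (212037, 6, 232861, 3),
  (212039, 5, 49281, 43),
  (212041, 5, 12361, 42),
  (212043, 6, 240845, 7),
  (212045, 5, 69889, 41),
  (212047, 6, 126201, 24),
  (212049, 6, 197879, 20),
  (212051, 6, 127278, 23),
  (212053, 6, 61743, 25),
  (212055, 6, 127342, 23),
  (212057, 5, 49389, 43),
  (212059, 6, 242701, 15),
  (212061, 4, 12691, 42),
  (212063, 6, 186774, 23),
  (212129, 5, 69705, 41),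
  (212131, 6, 155003, 20),
  (212133, 6, 47606, 24),
  (212135, 6, 39414, 24),
  (212137, 6, 116895, 19),
  (212139, 6, 128347, 25),
  (212141, 6, 155823, 7),
  (212143, 5, 69833, 41),
  (212145, 6, 129398, 24),
  (212147, 6, 121206, 24),
  (212149, 6, 113014, 24),
  (212151, 6, 228513, 15),
  (212153, 6, 96630, 24),
  (212155, 6, 32159, 17),
  (212157, 6, 204095, 16),
  (212159, 6, 72054, 24),
  (212161, 6, 212445, 14),
  (212163, 6, 32145, 26),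
  (212165, 5, 66971, 38),
  (212167, 5, 10573, 44),
  (212169, 5, 10589, 44),
  (212171, 6, 97553, 26),
  (212173, 4, 132203, 40),
  (212175, 6, 97561, 26),
  (212177, 6, 146609, 26),
  (212179, 6, 216171, 19),
  (212181, 6, 238669, 11),
  (212183, 5, 69733, 41),
  (212185, 6, 212017, 26),
  (212187, 5, 66617, 38),
  (212189, 6, 186550, 23),
  (212191, 6, 6619, 2),
  (212257, 6, 2303, 19),
  (212259, 6, 97599, 14),
  (212261, 6, 220575, 13),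
  (212263, 5, 49493, 43),
  (212265, 6, 235578, 24),
  (212267, 6, 228495, 17),
  (212269, 5, 164139, 39),
  (212271, 6, 220473, 15),
  (212273, 5, 18561, 37),
  (212275, 6, 156063, 5),
  (212277, 6, 7413, 19),
  (212279, 6, 125179, 19),
  (212281, 5, 132517, 40),
  (212283, 6, 243882, 24),
  (212285, 6, 252058, 24),
  (212287, 5, 18565, 37),
  (212289, 6, 256302, 23),
  (212291, 6, 125230, 23),
  (212293, 6, 93525, 20),
  (212295, 6, 211367, 26),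
  (212297, 6, 77149, 14),
  (212299, 6, 243779, 10),
  (212301, 6, 244807, 10),
  (212303, 6, 126205, 24),
  (212305, 6, 254254, 23),
  (212307, 6, 128377, 21),
  (212309, 5, 66843, 38),
  (212311, 6, 39319, 16),
  (212313, 6, 241935, 15),
  (212315, 6, 242957, 15),
  (212317, 6, 186526, 23),
  (212319, 6, 239069, 7),
  (212385, 5, 18689, 37),
  (212387, 6, 97531, 19),
  (212389, 5, 49331, 43),
  (212391, 6, 96507, 19),
  (212393, 6, 177543, 22),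
  (212395, 6, 20982, 24),
  (212397, 6, 126355, 21),
  (212399, 5, 18693, 37),
  (212401, 5, 18865, 37),
  (212403, 6, 93435, 19),
  (212405, 5, 196799, 4),
  (212407, 6, 220191, 6),
  (212409, 6, 204863, 12),
  (212411, 6, 212263, 11),
  (212413, 6, 186543, 23),
  (212415, 5, 18869, 37),
  (212417, 5, 194981, 22),
  (212419, 6, 205231, 26),
  (212421, 6, 36253, 3),
  (212423, 6, 212041, 12),
  (212425, 6, 153850, 23),
  (212427, 6, 154106, 23),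
  (212429, 6, 186554, 23),
  (212431, 6, 177295, 17),
  (212433, 4, 10661, 44),
  (212435, 5, 49265, 43),
  (212437, 6, 237934, 23),
  (212439, 5, 49345, 43),
  (212441, 5, 12377, 42),
  (212443, 5, 243923, 10),
  (212445, 5, 12307, 42),
  (212447, 6, 49649, 43),
  (212993, 3, 4097, 40),
  (212994, 6, 82338, 17),
  (212996, 3, 77, 26),
  (212999, 5, 8265, 38),
  (213000, 6, 213384, 6),
  (213003, 5, 2337, 41),
  (213005, 6, 168211, 20),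
  (213006, 3, 131076, 37),
  (213008, 4, 213296, 2),
  (213011, 6, 53475, 25),
  (213013, 6, 139613, 26),
  (213014, 6, 24998, 6),
  (213017, 4, 184626, 20),
  (213018, 6, 41145, 19),
  (213020, 4, 41146, 19),
  (213023, 6, 203955, 7),
  (213025, 3, 417, 6),
  (213026, 6, 82338, 5),
  (213028, 5, 32781, 26),
  (213031, 5, 423, 6),
  (213032, 6, 213384, 12),
  (213035, 6, 4515, 6),
  (213037, 5, 208926, 22),
  (213038, 4, 57718, 24),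
  (213040, 3, 65552, 38),
  (213043, 5, 33141, 44),
  (213045, 4, 18806, 21),
  (213046, 5, 143364, 41),
  (213049, 6, 16447, 42),
  (213050, 4, 41430, 24),
  (213052, 5, 49638, 24),
  (213055, 5, 131365, 37),
  (213059, 4, 127196, 21),
  (213061, 6, 131141, 37),
  (213062, 3, 16420, 41),
  (213065, 4, 168338, 20),
  (213066, 2, 65538, 39),
  (213068, 2, 131332, 41),
  (213071, 6, 8271, 38),
  (213073, 4, 18554, 21),
  (213074, 5, 32926, 44),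
  (213076, 7, 41370, 19),
  (213079, 5, 8613, 38),
  (213080, 6, 74216, 2),
  (213083, 6, 184807, 25),
  (213085, 6, 206301, 26),
  (213086, 6, 194778, 11),
  (213091, 5, 192602, 22),
  (213093, 6, 90167, 25),
  (213094, 5, 131474, 37),
  (213097, 6, 107669, 26),
  (213098, 5, 65714, 39),
  (213100, 6, 246092, 5),
  (213103, 6, 37351, 6),
  (213105, 6, 33180, 19),
  (213106, 5, 131372, 37),
  (213108, 5, 131428, 37),
  (213111, 6, 4123, 40),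
  (213112, 5, 8342, 38),
  (213115, 5, 128299, 4),
  (213117, 6, 129321, 4),
  (213118, 6, 194810, 11),
  (213121, 3, 417, 2),
  (213122, 5, 8606, 38),
  (213124, 4, 2121, 26),
  (213127, 6, 246153, 23),
  (213128, 6, 82000, 19),
  (213131, 6, 214155, 25),
  (213133, 6, 75993, 26),
  (213134, 5, 8594, 38),
  (213136, 3, 131104, 42),
  (213139, 4, 26850, 21),
  (213141, 4, 219270, 24),
  (213142, 5, 65686, 39),
  (213145, 6, 26723, 21),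
  (213146, 5, 180228, 41),
  (213148, 4, 247942, 24),
  (213151, 6, 211363, 14),
  (213153, 3, 417, 17),
  (213154, 6, 82338, 13),
  (213156, 5, 34825, 26),
  (213159, 6, 200809, 23),
  (213160, 5, 4518, 40),
  (213163, 5, 427, 17),
  (213165, 6, 186630, 24),
  (213166, 5, 8354, 38),
  (213168, 2, 32776, 44),
  (213171, 6, 156051, 3),
  (213173, 6, 71785, 23),
  (213174, 6, 137321, 23),
  (213177, 5, 8523, 38),
  (213178, 5, 75926, 43),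
  (213180, 4, 65578, 39),
  (213183, 5, 65633, 39),
  (213187, 6, 151922, 22),
  (213189, 4, 41430, 19),
  (213190, 6, 231458, 8),
  (213193, 5, 33117, 44),
  (213194, 5, 250146, 10),
  (213196, 5, 16562, 42),
  (213199, 6, 219634, 22),
  (213201, 7, 53666, 20),
  (213202, 5, 4396, 40),
  (213204, 5, 26922, 21),
  (213207, 6, 123239, 6),
  (213208, 6, 16744, 42),
  (213211, 5, 16677, 42),
  (213213, 6, 2373, 41),
  (213214, 5, 127334, 6),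
  (213219, 5, 60465, 26),
  (213221, 6, 33238, 19),
  (213222, 5, 122970, 22),
  (213225, 7, 33268, 19),
  (213226, 5, 65810, 39),
  (213228, 5, 217412, 4),
  (213231, 6, 37279, 20),
  (213233, 6, 33244, 19),
  (213234, 5, 180584, 40),
  (213236, 5, 2194, 41),
  (213239, 5, 4177, 40),
  (213240, 6, 232833, 26),
  (213243, 5, 4289, 40),
  (213245, 5, 32905, 44),
  (213246, 6, 254456, 40),
  (213249, 4, 213409, 13),
  (213250, 5, 33142, 44),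
  (213252, 4, 38989, 26),
  (213255, 7, 254452, 21),
  (213256, 6, 213384, 10),
  (213259, 6, 218123, 4),
  (213261, 5, 112717, 26),
  (213262, 5, 8370, 38),
  (213264, 2, 32776, 40),
  (213267, 5, 16621, 42),
  (213269, 6, 2418, 21),
  (213270, 6, 2482, 21),
  (213273, 6, 204969, 2),
  (213274, 5, 2342, 41),
  (213276, 5, 106504, 40),
  (213279, 5, 32857, 44),
  (213281, 3, 417, 1),
  (213282, 6, 82338, 15),
  (213284, 4, 6221, 26),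
  (213287, 6, 253956, 21),
  (213288, 6, 82184, 5),
  (213291, 6, 196779, 17),
  (213293, 5, 200734, 22),
  (213294, 5, 8578, 38),
  (213296, 3, 65552, 39),
  (213299, 6, 8239, 38),
  (213301, 6, 33171, 44),
  (213302, 5, 172372, 41),
  (213305, 5, 32947, 44),
  (213306, 4, 184700, 20),
  (213308, 5, 16708, 42),
  (213311, 5, 97589, 8),
  (213315, 6, 168390, 20),
  (213317, 6, 192892, 21),
  (213318, 5, 166306, 8),
  (213321, 7, 157994, 22),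
  (213322, 5, 45060, 41),
  (213324, 4, 92330, 22),
  (213327, 6, 3453, 24),
  (213329, 6, 4345, 40),
  (213330, 4, 131356, 37),
  (213332, 5, 2198, 41),
  (213335, 5, 33097, 44),
  (213336, 6, 15413, 22),
  (213339, 5, 4297, 40),
  (213341, 5, 4201, 40),
  (213342, 6, 253960, 40),
  (213347, 4, 184410, 22),
  (213349, 6, 90217, 23),
  (213350, 6, 215266, 5),
  (213353, 5, 489, 1),
  (213354, 4, 168412, 20),
  (213356, 5, 43094, 43),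
  (213359, 6, 3563, 1),
  (213361, 4, 141383, 26),
  (213362, 4, 184812, 20),
  (213364, 5, 16652, 42),
  (213367, 6, 128117, 25),
  (213368, 5, 33042, 44),
  (213371, 5, 16645, 42),
  (213373, 6, 32899, 44),
  (213374, 6, 243029, 25),
  (213377, 3, 417, 3),
  (213378, 6, 82100, 21),
  (213380, 5, 36941, 26),
  (213383, 5, 32939, 44),
  (213384, 5, 16782, 42),
  (213387, 6, 217475, 23),
  (213389, 6, 211330, 22),
  (213390, 6, 184579, 23),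
  (213392, 3, 131104, 37),
  (213395, 6, 106589, 19),
  (213397, 6, 120965, 23),
  (213398, 6, 131176, 37),
  (213401, 4, 106620, 19),
  (213402, 5, 151852, 41),
  (213404, 5, 65802, 39),
  (213407, 5, 4355, 40),
  (213409, 3, 32833, 44),
  (213410, 6, 213122, 1),
  (213412, 4, 90114, 43),
  (213415, 5, 160006, 24),
  (213416, 6, 213384, 15),
  (213419, 5, 1171, 43),
  (213421, 4, 98422, 19),
  (213422, 2, 131332, 37),
  (213424, 4, 196912, 5),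
  (213427, 5, 209286, 24),
  (213429, 4, 217478, 24),
  (213430, 6, 24982, 3),
  (213433, 6, 68651, 23),
  (213434, 6, 10407, 21),
  (213436, 5, 4318, 40),
  (213439, 6, 199787, 23),
  (213443, 6, 57415, 26),
  (213445, 4, 184700, 21),
  (213446, 5, 131218, 37),
  (213449, 6, 215175, 25),
  (213450, 5, 65586, 39),
  (213452, 6, 86476, 17),
  (213455, 6, 227810, 22),
  (213457, 4, 53730, 20),
  (213458, 4, 53732, 20),
  (213460, 4, 106842, 19),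
  (213463, 6, 2089, 41),
  (213464, 5, 33044, 44),
  (213467, 6, 251193, 5),
  (213469, 6, 233725, 10),
  (213470, 5, 129334, 10),
  (213475, 6, 82371, 14),
  (213477, 6, 16429, 42),
  (213478, 2, 65538, 43),
  (213481, 5, 65737, 39),
  (213482, 3, 16420, 42),
  (213484, 3, 131076, 41),
  (213487, 6, 16495, 42),
  (213489, 6, 139335, 26),
  (213490, 4, 10414, 21),
  (213492, 6, 199719, 24),
  (213495, 6, 159823, 26),
  (213496, 6, 74104, 1),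
  (213499, 6, 218227, 12),
  (213501, 5, 2383, 41),
  (213502, 6, 242094, 12),
  (214021, 6, 188884, 21),
  (214023, 6, 24669, 26),
  (214025, 7, 65963, 23),
  (214027, 5, 92449, 41),
  (214033, 6, 46401, 22),
  (214035, 6, 155989, 26),
  (214045, 6, 30117, 6),
  (214047, 6, 203953, 7),
  (214053, 6, 94267, 25),
  (214055, 4, 241690, 22),
  (214057, 6, 213003, 15),
  (214059, 6, 87339, 23),
  (214065, 4, 84086, 21),
  (214067, 4, 12686, 24),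
  (214077, 6, 97535, 19),
  (214079, 6, 97577, 4),
  (214081, 6, 11529, 24),
  (214083, 5, 92545, 41),
  (214093, 6, 160191, 25),
  (214095, 6, 234927, 3),
  (214101, 6, 84346, 21),
  (214103, 6, 191699, 11),
  (214105, 7, 76223, 23),
  (214107, 6, 74219, 2),
  (214113, 6, 34273, 6),
  (214115, 6, 181475, 11),
  (214125, 6, 247823, 15),
  (214127, 6, 252263, 8),
  (214133, 6, 186795, 20),
  (214135, 6, 249041, 7),
  (214137, 6, 186810, 20),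
  (214139, 6, 251089, 7),
  (214149, 4, 161814, 24),
  (214151, 7, 246100, 21),
  (214153, 6, 196779, 15),
  (214155, 5, 427, 2),
  (214161, 4, 211094, 24),
  (214163, 6, 155827, 13),
  (214173, 6, 212385, 14),
  (214175, 6, 252054, 24),
  (214181, 5, 216097, 11),
  (214183, 6, 39183, 20),
  (214185, 6, 39194, 20),
  (214187, 6, 39198, 20),
  (214193, 6, 211350, 24),
  (214195, 6, 13643, 22),
  (214205, 6, 88375, 12),
  (214207, 6, 252310, 24),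
  (214209, 4, 184626, 22),
  (214211, 6, 39302, 20),
  (214221, 6, 121227, 4),
  (214223, 6, 39319, 20),
  (214229, 6, 92522, 21),
  (214231, 6, 126337, 4),
  (214233, 6, 250939, 5),
  (214235, 6, 15725, 22),
  (214241, 5, 110772, 21),
  (214243, 6, 39310, 20),
  (214253, 6, 142443, 24),
  (214255, 6, 252391, 8),
  (214261, 6, 245151, 19),
  (214263, 5, 214149, 43),
  (214265, 5, 241073, 26),
  (214267, 7, 15727, 22),
  (214277, 6, 102817, 23),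
  (214279, 4, 162090, 24),
  (214281, 6, 67697, 21),
  (214283, 6, 196779, 2),
  (214289, 6, 186722, 20),
  (214291, 6, 186726, 20),
  (214301, 5, 214407, 43),
  (214303, 5, 214055, 43),
  (214309, 6, 213353, 23),
  (214311, 5, 216097, 4),
  (214313, 5, 427, 1),
  (214315, 6, 214313, 25),
  (214321, 6, 14557, 19),
  (214323, 6, 14730, 24),
  (214333, 6, 216427, 23),
  (214335, 5, 63978, 24),
  (214337, 6, 245763, 4),
  (214339, 6, 181475, 6),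
  (214349, 6, 251915, 4),
  (214351, 6, 232749, 15),
  (214357, 6, 126295, 8),
  (214359, 6, 186855, 20),
  (214361, 6, 67707, 21),
  (214363, 5, 55461, 42),
  (214369, 6, 230561, 17),
  (214371, 6, 184346, 22),
  (214381, 6, 217182, 22),
  (214383, 6, 249886, 22),
  (214389, 6, 126327, 8),
  (214391, 5, 249297, 7),
  (214393, 6, 207949, 24),
  (214395, 6, 247149, 25),
  (214405, 6, 94339, 25),
  (214407, 4, 242114, 22),
  (214409, 6, 218411, 5),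
  (214411, 6, 218113, 12),
  (214417, 6, 118915, 25),
  (214419, 6, 103755, 39),
  (214429, 5, 209043, 40),
  (214431, 6, 90383, 16),
  (214437, 6, 39243, 20),
  (214439, 6, 65897, 23),
  (214441, 6, 197931, 23),
  (214443, 6, 218411, 11),
  (214449, 6, 213043, 12),
  (214451, 4, 76006, 21),
  (214461, 6, 204095, 5),
  (214463, 6, 250262, 24),
  (214465, 4, 53500, 21),
  (214467, 6, 39366, 20),
  (214477, 6, 115983, 16),
  (214479, 6, 220229, 12),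
  (214485, 6, 92531, 1),
  (214487, 5, 208915, 40),
  (214489, 5, 55385, 42),
  (214491, 6, 252047, 25),
  (214497, 5, 39370, 20),
  (214499, 5, 92549, 41),
  (214509, 6, 39387, 20),
  (214511, 5, 92597, 41),
  (214517, 6, 179615, 19),
  (214519, 6, 93635, 14),
  (214521, 6, 55802, 20),
  (214523, 6, 185809, 7),
  (215043, 6, 131546, 22),
  (215047, 6, 28835, 25),
  (215049, 6, 140379, 20),
  (215050, 5, 73762, 43),
  (215053, 4, 198938, 22),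
  (215054, 5, 43094, 38),
  (215057, 6, 149618, 21),
  (215058, 6, 196790, 16),
  (215061, 6, 79233, 22),
  (215062, 6, 155798, 11),
  (215067, 5, 97551, 4),
  (215071, 6, 192990, 24),
  (215075, 6, 249897, 23),
  (215079, 6, 36169, 20),
  (215081, 6, 153773, 11),
  (215082, 5, 190754, 38),
  (215085, 6, 138707, 37),
  (215086, 6, 6566, 6),
  (215089, 5, 91203, 43),
  (215090, 6, 213142, 16),
  (215093, 4, 20878, 24),
  (215094, 6, 33947, 19),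
  (215099, 6, 252971, 23),
  (215103, 6, 61918, 24),
  (215105, 6, 61788, 21),
  (215106, 5, 24706, 43),
  (215109, 5, 192604, 21),
  (215110, 5, 65586, 43),
  (215115, 7, 208095, 20),
  (215119, 5, 220389, 13),
  (215123, 6, 191873, 16),
  (215127, 6, 112033, 22),
  (215129, 5, 74221, 2),
  (215130, 5, 260138, 12),
  (215133, 6, 76031, 23),
  (215134, 6, 162250, 7),
  (215137, 6, 225434, 22),
  (215138, 6, 231782, 2),
  (215141, 6, 127081, 23),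
  (215142, 5, 166306, 10),
  (215147, 6, 128181, 26),
  (215151, 6, 248843, 15),
  (215155, 5, 44243, 38),
  (215159, 5, 34207, 19),
  (215161, 5, 252117, 7),
  (215162, 5, 251301, 26),
  (215165, 6, 260162, 19),
  (215166, 5, 69718, 38),
  (215171, 6, 91291, 25),
  (215175, 5, 216097, 5),
  (215177, 6, 196781, 15),
  (215178, 6, 190502, 24),
  (215181, 6, 170022, 24),
  (215182, 5, 201126, 14),
  (215185, 4, 157794, 21),
  (215186, 6, 90502, 13),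
  (215189, 6, 205221, 14),
  (215190, 6, 24982, 5),
  (215195, 6, 162993, 13),
  (215199, 6, 215503, 23),
  (215203, 6, 138567, 20),
  (215207, 5, 423, 17),
  (215209, 5, 112785, 26),
  (215210, 6, 82350, 13),
  (215213, 6, 153997, 3),
  (215214, 4, 213006, 8),
  (215217, 6, 112798, 19),
  (215218, 6, 186657, 26),
  (215221, 5, 104557, 39),
  (215222, 6, 33947, 25),
  (215227, 5, 215331, 41),
  (215231, 6, 158183, 21),
  (215233, 5, 247877, 11),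
  (215234, 5, 166306, 3),
  (215237, 6, 90329, 23),
  (215238, 6, 246246, 2),
  (215243, 6, 254427, 23),
  (215247, 6, 216223, 25),
  (215251, 6, 163185, 26),
  (215255, 6, 248881, 5),
  (215257, 5, 91307, 43),
  (215258, 5, 104594, 39),
  (215261, 6, 219218, 19),
  (215262, 5, 137466, 16),
  (215265, 6, 150539, 24),
  (215266, 5, 88482, 37),
  (215269, 4, 45364, 21),
  (215270, 6, 33190, 17),
  (215275, 5, 35247, 17),
  (215279, 5, 242795, 23),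
  (215283, 5, 34269, 19),
  (215287, 6, 158190, 21),
  (215289, 6, 191639, 25),
  (215290, 6, 243882, 12),
  (215293, 6, 121309, 10),
  (215294, 6, 194974, 3),
  (215299, 6, 139722, 22),
  (215303, 6, 205130, 22),
  (215305, 6, 196781, 2),
  (215306, 3, 213422, 4),
  (215309, 6, 186698, 24),
  (215310, 6, 131502, 8),
  (215313, 6, 90389, 8),
  (215314, 6, 111633, 22),
  (215317, 7, 153994, 24),
  (215318, 6, 111761, 22),
  (215323, 5, 215335, 41),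
  (215327, 6, 97553, 8),
  (215331, 4, 14650, 24),
  (215335, 4, 168154, 22),
  (215337, 6, 39274, 24),
  (215338, 4, 43378, 24),
  (215341, 6, 196781, 17),
  (215342, 6, 10569, 20),
  (215345, 6, 185347, 20),
  (215346, 6, 24998, 7),
  (215349, 6, 133494, 21),
  (215350, 6, 196790, 17),
  (215355, 5, 54595, 42),
  (215359, 5, 196799, 17),
  (215361, 6, 156074, 22),
  (215362, 6, 246246, 4),
  (215365, 6, 221482, 22)]

theorem chk_rows2_23 : rows2_23.all (rowBP tr2 gensLitP 72) = true := by decide +kernel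

/-- Rows 36000 to 37499. -/
def rows2_24 : List (ℕ × ℕ × ℕ × ℕ) := [(215366, 6, 90218, 22),
  (215371, 6, 158186, 22),
  (215375, 6, 220645, 13),
  (215379, 6, 111921, 22),
  (215383, 6, 133626, 21),
  (215385, 6, 81205, 22),
  (215386, 6, 247998, 17),
  (215389, 6, 252114, 19),
  (215390, 5, 194790, 6),
  (215393, 4, 141782, 19),
  (215394, 6, 33190, 10),
  (215397, 5, 247877, 10),
  (215398, 5, 53466, 22),
  (215403, 6, 250078, 22),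
  (215407, 6, 253005, 10),
  (215411, 6, 249303, 7),
  (215415, 6, 161863, 26),
  (215417, 6, 216141, 24),
  (215418, 6, 29166, 7),
  (215421, 6, 211015, 26),
  (215422, 5, 191595, 23),
  (215427, 6, 44335, 38),
  (215431, 7, 246004, 21),
  (215433, 6, 6569, 3),
  (215434, 6, 184643, 23),
  (215437, 5, 84178, 19),
  (215438, 6, 196763, 25),
  (215441, 6, 172109, 26),
  (215442, 6, 196790, 1),
  (215445, 6, 136297, 20),
  (215446, 6, 74150, 14),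
  (215451, 5, 163249, 13),
  (215455, 6, 220473, 5),
  (215459, 5, 229594, 22),
  (215463, 6, 123156, 21),
  (215465, 6, 141413, 21),
  (215466, 5, 16562, 43),
  (215469, 5, 215093, 41),
  (215470, 5, 73906, 43),
  (215473, 5, 141414, 21),
  (215474, 6, 74038, 10),
  (215477, 5, 201126, 24),
  (215478, 6, 90502, 14),
  (215483, 6, 218167, 12),
  (215487, 6, 242086, 24),
  (215489, 6, 92311, 25),
  (215490, 4, 28898, 22),
  (215493, 6, 201801, 20),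
  (215494, 6, 229670, 8),
  (215499, 6, 39339, 3),
  (215503, 5, 251023, 4),
  (215507, 6, 126209, 16),
  (215511, 6, 126417, 8),
  (215513, 6, 160019, 40),
  (215514, 6, 260194, 6),
  (215517, 6, 241735, 26),
  (215518, 6, 249927, 26),
  (215521, 6, 213146, 22),
  (215522, 5, 65714, 43),
  (215525, 5, 207042, 19),
  (215526, 5, 24754, 43),
  (215531, 6, 99701, 19),
  (215535, 6, 180446, 22),
  (215539, 6, 77175, 1),
  (215543, 6, 90567, 14),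
  (215545, 5, 252121, 10),
  (215546, 6, 244138, 12),
  (215549, 5, 74109, 1),
  (215550, 6, 252050, 1),
  (216065, 4, 135486, 24),
  (216067, 6, 143662, 24),
  (216069, 4, 229658, 22),
  (216071, 5, 45129, 38),
  (216089, 6, 204863, 15),
  (216091, 6, 212263, 14),
  (216093, 6, 184798, 24),
  (216095, 6, 76203, 2),
  (216097, 4, 86093, 40),
  (216099, 6, 172452, 21),
  (216101, 5, 250217, 23),
  (216103, 4, 28942, 24),
  (216121, 6, 113991, 22),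
  (216123, 6, 163007, 11),
  (216125, 5, 168291, 37),
  (216127, 7, 122219, 23),
  (216137, 6, 223719, 19),
  (216139, 5, 45065, 38),
  (216141, 5, 45121, 38),
  (216143, 5, 141745, 41),
  (216145, 5, 241073, 3),
  (216147, 6, 216267, 20),
  (216149, 6, 189653, 11),
  (216151, 6, 240689, 15),
  (216169, 6, 225502, 22),
  (216171, 5, 86221, 40),
  (216173, 6, 159966, 22),
  (216175, 6, 128363, 23),
  (216177, 6, 215166, 21),
  (216179, 6, 191735, 11),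
  (216181, 6, 212445, 19),
  (216183, 5, 193821, 26),
  (216193, 4, 168338, 22),
  (216195, 5, 423, 2),
  (216197, 6, 180436, 21),
  (216199, 6, 213193, 23),
  (216217, 6, 218175, 5),
  (216219, 6, 81229, 22),
  (216221, 6, 243894, 24),
  (216223, 5, 86285, 40),
  (216225, 6, 205018, 22),
  (216227, 5, 153910, 24),
  (216229, 6, 145718, 24),
  (216231, 4, 102761, 23),
  (216249, 6, 146611, 13),
  (216251, 5, 45381, 38),
  (216253, 6, 244153, 26),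
  (216255, 6, 89393, 12),
  (216265, 6, 253005, 11),
  (216267, 5, 114797, 44),
  (216269, 6, 3563, 2),
  (216271, 6, 252274, 22),
  (216273, 6, 158963, 13),
  (216275, 6, 203859, 19),
  (216277, 6, 146809, 26),
  (216279, 6, 247859, 5),
  (216297, 5, 220613, 14),
  (216299, 6, 212435, 20),
  (216301, 6, 243051, 23),
  (216303, 6, 238669, 20),
  (216305, 5, 45389, 38),
  (216307, 6, 212035, 19),
  (216309, 6, 205175, 1),
  (216311, 6, 223726, 21),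
  (216321, 6, 21689, 25),
  (216323, 4, 172490, 22),
  (216325, 6, 212999, 4),
  (216327, 6, 254068, 21),
  (216345, 6, 256109, 26),
  (216347, 5, 45397, 38),
  (216349, 6, 186842, 24),
  (216351, 5, 168213, 37),
  (216353, 6, 168967, 20),
  (216355, 6, 114985, 23),
  (216357, 5, 423, 1),
  (216359, 5, 114861, 44),
  (216377, 6, 249131, 23),
  (216379, 5, 140441, 43),
  (216381, 6, 220191, 10),
  (216383, 6, 81367, 22),
  (216393, 6, 249005, 17),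
  (216395, 6, 190954, 22),
  (216397, 5, 129127, 26),
  (216399, 6, 28029, 24),
  (216401, 6, 246927, 20),
  (216403, 5, 168221, 37),
  (216405, 5, 199034, 21),
  (216407, 6, 178279, 26),
  (216425, 6, 158797, 24),
  (216427, 5, 250014, 22),
  (216429, 6, 96359, 26),
  (216431, 6, 124267, 23),
  (216433, 5, 45165, 38),
  (216435, 6, 126355, 3),
  (216437, 5, 248919, 10),
  (216439, 6, 199166, 21),
  (216449, 5, 216097, 6),
  (216451, 6, 115060, 21),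
  (216453, 6, 86465, 23),
  (216455, 4, 135222, 24),
  (216473, 6, 95639, 8),
  (216475, 6, 250038, 24),
  (216477, 6, 203967, 10),
  (216479, 6, 81373, 22),
  (216481, 5, 45073, 38),
  (216483, 6, 28827, 25),
  (216485, 6, 131290, 22),
  (216487, 5, 114913, 44),
  (216505, 6, 232747, 23),
  (216507, 6, 192667, 25),
  (216509, 6, 95621, 14),
  (216511, 6, 220209, 12),
  (216521, 6, 239007, 20),
  (216523, 6, 195042, 22),
  (216525, 6, 118031, 16),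
  (216527, 7, 28031, 24),
  (216529, 5, 168043, 37),
  (216531, 6, 207082, 21),
  (216533, 6, 232695, 10),
  (216535, 5, 167971, 37),
  (216553, 6, 213214, 22),
  (216555, 5, 45081, 38),
  (216557, 5, 45137, 38),
  (216559, 6, 121315, 8),
  (216561, 6, 60817, 3),
  (216563, 6, 79227, 22),
  (216565, 6, 207214, 21),
  (216567, 6, 79355, 22),
  (217091, 6, 147595, 11),
  (217093, 5, 169999, 37),
  (217094, 4, 156022, 24),
  (217099, 6, 131422, 22),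
  (217101, 5, 184622, 24),
  (217102, 5, 201126, 3),
  (217105, 4, 139733, 26),
  (217106, 4, 192804, 20),
  (217108, 6, 192801, 20),
  (217111, 6, 211243, 14),
  (217113, 6, 205097, 14),
  (217114, 6, 213402, 15),
  (217116, 6, 196941, 26),
  (217119, 6, 192958, 24),
  (217123, 6, 217131, 23),
  (217125, 6, 210970, 22),
  (217126, 5, 200750, 42),
  (217131, 5, 427, 6),
  (217133, 6, 196781, 13),
  (217134, 3, 213422, 15),
  (217137, 6, 172437, 26),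
  (217138, 5, 100442, 38),
  (217140, 6, 16870, 24),
  (217143, 6, 219243, 23),
  (217145, 6, 42021, 21),
  (217146, 6, 74789, 21),
  (217148, 5, 80070, 38),
  (217151, 6, 192831, 20),
  (217153, 7, 149822, 22),
  (217154, 6, 36113, 24),
  (217156, 5, 84158, 22),
  (217159, 5, 206881, 41),
  (217161, 6, 36169, 24),
  (217162, 6, 233890, 3),
  (217164, 5, 217412, 17),
  (217167, 6, 36217, 24),
  (217171, 6, 61931, 6),
  (217173, 6, 211305, 14),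
  (217174, 6, 211306, 14),
  (217179, 6, 185521, 5),
  (217181, 6, 206173, 26),
  (217182, 5, 100670, 1),
  (217185, 5, 250217, 8),
  (217186, 6, 63578, 22),
  (217188, 6, 37356, 6),
  (217191, 6, 260186, 22),
  (217193, 6, 213031, 25),
  (217194, 6, 246250, 15),
  (217196, 6, 204823, 25),
  (217199, 6, 260190, 22),
  (217203, 5, 192942, 20),
  (217205, 5, 252121, 7),
  (217206, 6, 190714, 11),
  (217211, 6, 192958, 20),
  (217213, 6, 129313, 4),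
  (217214, 5, 194698, 8),
  (217219, 6, 213003, 11),
  (217221, 6, 186438, 24),
  (217222, 6, 131502, 3),
  (217227, 6, 218411, 1),
  (217229, 5, 57590, 19),
  (217230, 6, 157766, 24),
  (217233, 6, 46129, 38),
  (217234, 6, 83095, 21),
  (217236, 6, 57562, 19),
  (217239, 6, 249229, 23),
  (217241, 7, 57596, 19),
  (217242, 5, 207046, 24),
  (217244, 6, 155836, 13),
  (217247, 5, 122963, 44),
  (217251, 6, 147851, 3),
  (217253, 6, 45323, 20),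
  (217254, 6, 45325, 20),
  (217259, 6, 201769, 23),
  (217261, 6, 6569, 17),
  (217262, 6, 136297, 23),
  (217265, 6, 235974, 24),
  (217266, 5, 156058, 3),
  (217268, 6, 204972, 12),
  (217271, 5, 170073, 37),
  (217273, 6, 203206, 24),
  (217274, 6, 205114, 10),
  (217276, 6, 213276, 4),
  (217279, 6, 61759, 20),
  (217281, 5, 153910, 22),
  (217282, 6, 131306, 16),
  (217284, 5, 208263, 25),
  (217287, 6, 247883, 11),
  (217289, 6, 91291, 23),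
  (217290, 6, 36179, 24),
  (217292, 6, 145461, 21),
  (217295, 6, 251149, 16),
  (217299, 5, 242867, 15),
  (217301, 5, 122995, 44),
  (217302, 6, 211434, 14),
  (217307, 5, 101523, 39),
  (217309, 6, 243901, 15),
  (217310, 6, 109967, 25),
  (217313, 4, 45450, 20),
  (217314, 4, 45452, 20),
  (217316, 4, 213484, 17),
  (217319, 6, 256090, 22),
  (217321, 6, 19847, 25),
  (217322, 6, 3471, 25),
  (217324, 4, 92190, 22),
  (217327, 6, 249325, 8),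
  (217331, 5, 170013, 37),
  (217333, 6, 232491, 24),
  (217334, 6, 121246, 1),
  (217339, 5, 170065, 37),
  (217341, 6, 139517, 13),
  (217342, 6, 117150, 1),
  (217347, 6, 147851, 11),
  (217349, 6, 153962, 24),
  (217350, 6, 213294, 12),
  (217355, 6, 122933, 19),
  (217357, 4, 122934, 19),
  (217358, 6, 217382, 12),
  (217361, 6, 137674, 24),
  (217362, 5, 156058, 11),
  (217364, 5, 213180, 8),
  (217367, 6, 162298, 24),
  (217369, 6, 192882, 20),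
  (217370, 6, 155818, 6),
  (217372, 6, 204972, 11),
  (217375, 5, 194765, 26),
  (217379, 6, 125169, 21),
  (217381, 6, 153773, 12),
  (217382, 5, 174182, 43),
  (217387, 6, 23763, 42),
  (217389, 6, 6569, 1),
  (217390, 6, 82350, 15),
  (217393, 5, 192874, 20),
  (217394, 5, 80070, 39),
  (217396, 4, 114714, 19),
  (217399, 6, 220571, 7),
  (217401, 4, 114748, 19),
  (217402, 6, 192892, 20),
  (217404, 6, 192889, 20),
  (217407, 6, 63930, 24),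
  (217409, 6, 36109, 24),
  (217410, 6, 249922, 13),
  (217412, 4, 217486, 40),
  (217415, 6, 248843, 4),
  (217417, 6, 213481, 13),
  (217418, 5, 250146, 12),
  (217420, 4, 213484, 13),
  (217423, 6, 176599, 20),
  (217427, 6, 192998, 20),
  (217429, 5, 170325, 37),
  (217430, 5, 190938, 11),
  (217435, 6, 243003, 15),
  (217437, 6, 123198, 19),
  (217438, 6, 252090, 17),
  (217441, 5, 153626, 22),
  (217442, 6, 70917, 25),
  (217444, 6, 196844, 8),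
  (217447, 6, 248875, 4),
  (217449, 6, 91177, 23),
  (217450, 6, 82250, 14),
  (217452, 6, 88094, 22),
  (217455, 6, 250949, 10),
  (217459, 6, 193006, 20),
  (217461, 6, 61861, 16),
  (217462, 6, 193005, 20),
  (217467, 6, 128005, 21),
  (217469, 6, 232557, 24),
  (217470, 5, 78022, 39),
  (217475, 5, 427, 3),
  (217477, 6, 184390, 24),
  (217478, 3, 213422, 12),
  (217483, 6, 4515, 3),
  (217485, 4, 122998, 19),
  (217486, 3, 155718, 24),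
  (217489, 6, 213305, 5),
  (217490, 7, 61796, 20),
  (217492, 5, 122970, 19),
  (217495, 6, 220191, 12),
  (217497, 5, 61810, 20),
  (217498, 5, 61812, 20),
  (217500, 7, 61809, 20),
  (217503, 6, 220469, 5),
  (217507, 5, 170311, 37),
  (217509, 5, 207269, 41),
  (217510, 5, 188742, 24),
  (217515, 7, 197673, 23),
  (217517, 7, 198686, 22),
  (217518, 5, 201126, 12),
  (217521, 6, 52339, 21),
  (217522, 5, 238022, 24),
  (217524, 4, 246214, 24),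
  (217527, 6, 24991, 3),
  (217529, 6, 15643, 22),
  (217530, 6, 213146, 1),
  (217532, 6, 213446, 24),
  (217535, 7, 57739, 25),
  (217537, 7, 123220, 19),
  (217538, 6, 82250, 7),
  (217540, 6, 151869, 21),
  (217543, 5, 220239, 12),
  (217545, 5, 45522, 20),
  (217546, 5, 45524, 20),
  (217548, 6, 147948, 13),
  (217551, 6, 118221, 8),
  (217555, 6, 61926, 20),
  (217557, 6, 129501, 8),
  (217558, 5, 67806, 38),
  (217563, 6, 74219, 14),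
  (217565, 6, 125319, 25),
  (217566, 5, 75866, 38),
  (217569, 6, 73927, 26),
  (217570, 6, 102698, 10),
  (217572, 4, 83994, 22),
  (217575, 6, 232749, 5),
  (217577, 6, 115060, 19),
  (217578, 6, 233890, 12),
  (217580, 6, 167015, 24),
  (217583, 6, 258069, 21),
  (217587, 6, 128289, 16),
  (217589, 6, 61931, 20),
  (217590, 6, 162042, 5),
  (217595, 6, 251089, 10),
  (217597, 6, 232559, 24),
  (217598, 6, 247966, 1),
  (218113, 5, 149505, 41),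
  (218115, 6, 24789, 26),
  (218121, 5, 149905, 41),
  (218123, 5, 149793, 41),
  (218133, 6, 152062, 24),
  (218135, 5, 163249, 1),
  (218141, 6, 205181, 26),
  (218143, 5, 192942, 24),
  (218145, 5, 136593, 37),
  (218147, 6, 218113, 15),
  (218153, 6, 217131, 25),
  (218155, 6, 196779, 13),
  (218165, 6, 194859, 20),
  (218167, 5, 136553, 37),
  (218173, 6, 162993, 11),
  (218175, 5, 74851, 43),
  (218181, 6, 248254, 22),
  (218183, 5, 136195, 37),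
  (218189, 5, 136201, 37),
  (218191, 6, 178583, 20),
  (218193, 6, 189657, 11),
  (218195, 6, 194982, 20),
  (218201, 6, 194994, 20),
  (218203, 7, 222549, 26),
  (218213, 6, 38381, 6),
  (218215, 7, 90431, 25),
  (218221, 6, 137707, 1),
  (218223, 6, 260126, 22),
  (218225, 6, 194986, 20),
  (218227, 5, 74867, 43),
  (218233, 6, 240713, 24),
  (218235, 6, 128289, 4),
  (218241, 7, 10481, 26),
  (218243, 6, 4515, 2),
  (218249, 6, 218113, 11),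
  (218251, 6, 214155, 23),
  (218261, 6, 46541, 22),
  (218263, 6, 252118, 24),
  (218269, 6, 207225, 26),
  (218271, 6, 97665, 4),
  (218273, 6, 218539, 8),
  (218275, 6, 152971, 25),
  (218281, 6, 218411, 16),
  (218283, 6, 213419, 8),
  (218293, 6, 63787, 20),
  (218295, 6, 82335, 10),
  (218301, 6, 63803, 20),
  (218303, 6, 139455, 13),
  (218309, 6, 7655, 2),
  (218311, 6, 252406, 22),
  (218317, 5, 251151, 16),
  (218319, 6, 97679, 25),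
  (218321, 5, 128361, 6),
  (218323, 6, 63910, 20),
  (218329, 6, 63922, 20),
  (218331, 5, 242873, 15),
  (218341, 5, 163207, 25),
  (218343, 6, 163215, 25),
  (218349, 6, 252047, 15),
  (218351, 6, 47519, 20),
  (218353, 6, 63914, 20),
  (218355, 6, 63918, 20),
  (218361, 6, 63930, 20),
  (218363, 5, 43273, 38),
  (218369, 6, 213003, 4),
  (218371, 6, 201889, 23),
  (218377, 6, 147595, 12),
  (218379, 6, 213419, 13),
  (218389, 5, 71917, 39),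
  (218391, 6, 162282, 24),
  (218397, 6, 186810, 24),
  (218399, 6, 194986, 24),
  (218401, 6, 6490, 24),
  (218403, 6, 213003, 10),
  (218409, 6, 39194, 24),
  (218411, 5, 50387, 42),
  (218421, 6, 97599, 8),
  (218423, 5, 75033, 43),
  (218429, 5, 163249, 11),
  (218431, 6, 63914, 24),
  (218437, 6, 256430, 22),
  (218439, 6, 242865, 23),
  (218445, 6, 251907, 4),
  (218447, 5, 242867, 23),
  (218449, 6, 195042, 20),
  (218451, 6, 193771, 6),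
  (218457, 6, 195058, 20),
  (218459, 6, 109917, 24),
  (218469, 6, 219226, 22),
  (218471, 6, 260473, 21),
  (218477, 6, 252175, 15),
  (218479, 6, 7657, 1),
  (218481, 5, 75161, 43),
  (218483, 5, 74809, 43),
  (218489, 5, 147707, 12),
  (218491, 6, 240733, 24),
  (218497, 6, 217475, 25),
  (218499, 6, 196779, 10),
  (218505, 6, 213003, 12),
  (218507, 7, 59541, 21),
  (218517, 6, 63843, 20),
  (218519, 5, 196799, 10),
  (218525, 6, 225494, 24),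
  (218527, 5, 97593, 1),
  (218529, 5, 427, 9),
  (218531, 6, 151947, 25),
  (218537, 5, 136525, 37),
  (218539, 5, 149797, 41),
  (218549, 7, 225517, 26),
  (218551, 6, 250326, 24),
  (218557, 7, 48603, 22),
  (218559, 6, 217558, 24),
  (218565, 6, 128401, 23),
  (218567, 6, 216305, 19),
  (218573, 6, 38309, 3),
  (218575, 6, 38311, 3),
  (218577, 6, 185521, 17),
  (218579, 6, 63974, 20),
  (218585, 6, 188647, 26),
  (218587, 6, 15737, 22),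
  (218597, 6, 175151, 24),
  (218599, 5, 149541, 41),
  (218605, 5, 149765, 41),
  (218607, 7, 31119, 25),
  (218609, 5, 63978, 20),
  (218611, 5, 242795, 6),
  (218617, 5, 128299, 16),
  (218619, 6, 15739, 22),
  (219137, 4, 76006, 19),
  (219138, 6, 139638, 24),
  (219141, 6, 66793, 23),
  (219142, 5, 36948, 38),
  (219145, 5, 164941, 37),
  (219146, 5, 74002, 43),
  (219149, 6, 196781, 7),
  (219150, 6, 217382, 2),
  (219155, 6, 163201, 16),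
  (219159, 6, 212019, 15),
  (219163, 6, 176574, 24),
  (219167, 5, 163213, 16),
  (219169, 5, 180299, 44),
  (219170, 6, 184363, 23),
  (219173, 4, 20814, 24),
  (219174, 6, 88330, 1),
  (219177, 6, 213043, 25),
  (219178, 6, 131502, 10),
  (219181, 5, 180587, 44),
  (219182, 6, 82350, 5),
  (219187, 6, 95621, 2),
  (219191, 6, 97665, 2),
  (219195, 6, 208057, 13),
  (219199, 6, 36217, 20),
  (219203, 6, 121255, 17),
  (219207, 6, 115983, 4),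
  (219211, 6, 234543, 15),
  (219215, 6, 206331, 23),
  (219217, 6, 211309, 14),
  (219218, 5, 63978, 6),
  (219221, 6, 252018, 19),
  (219222, 6, 118065, 24),
  (219225, 6, 179493, 21),
  (219226, 5, 14842, 9),
  (219229, 6, 205165, 14),
  (219230, 7, 250230, 2),
  (219235, 6, 250887, 15),
  (219239, 6, 194778, 22),
  (219243, 5, 35307, 6),
  (219247, 6, 194782, 22),
  (219249, 6, 252125, 7),
  (219250, 5, 127334, 13),
  (219253, 5, 194981, 16),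
  (219254, 5, 180548, 44),
  (219257, 6, 248905, 24),
  (219258, 5, 135306, 39),
  (219261, 5, 77867, 40),
  (219262, 6, 241735, 25),
  (219265, 5, 137622, 22),
  (219266, 6, 213262, 7),
  (219269, 6, 153773, 13),
  (219270, 3, 213422, 2),
  (219273, 6, 115915, 23),
  (219274, 6, 213294, 10),
  (219277, 6, 6569, 2),
  (219278, 5, 141414, 24),
  (219283, 6, 111885, 22),
  (219287, 6, 243942, 24),
  (219291, 6, 227558, 24),
  (219295, 6, 220209, 5),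
  (219297, 6, 186726, 24),
  (219298, 6, 6566, 17),
  (219301, 4, 141466, 22),
  (219302, 4, 174438, 24),
  (219305, 4, 125078, 19),
  (219306, 5, 51538, 42),
  (219309, 7, 75874, 19),
  (219310, 5, 201126, 2),
  (219315, 6, 260582, 24),
  (219319, 6, 244198, 24),
  (219323, 5, 14661, 38),
  (219327, 6, 211430, 24),
  (219331, 6, 251341, 8),
  (219335, 6, 219510, 22),
  (219339, 6, 152054, 22),
  (219343, 6, 7657, 2),
  (219345, 5, 198043, 43),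
  (219346, 6, 192758, 4),
  (219349, 6, 219250, 19),
  (219350, 5, 135554, 43),
  (219353, 6, 118091, 24),
  (219354, 5, 163940, 42),
  (219357, 5, 195041, 9),
  (219358, 6, 194810, 4),
  (219363, 6, 183323, 24),
  (219367, 5, 252121, 21),
  (219371, 5, 251023, 15),
  (219375, 6, 190686, 22),
  (219377, 6, 248843, 24),
  (219378, 6, 89499, 21),
  (219381, 5, 51341, 42),
  (219382, 5, 180488, 44),
  (219385, 6, 82301, 12),
  (219386, 6, 98392, 40),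
  (219389, 6, 127397, 4),
  (219390, 6, 36255, 25),
  (219393, 4, 141710, 22),
  (219394, 5, 141682, 24),
  (219397, 6, 14583, 38),
  (219398, 6, 14681, 20),
  (219401, 6, 103651, 23),
  (219402, 5, 201126, 16),
  (219405, 6, 205070, 22),
  (219406, 6, 136547, 23),
  (219411, 6, 145914, 24),
  (219415, 6, 156063, 11),
  (219419, 6, 77945, 40),
  (219423, 6, 123967, 19),
  (219425, 6, 6506, 24),
  (219426, 5, 201126, 4),
  (219429, 5, 137370, 22),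
  (219430, 6, 180331, 23),
  (219433, 4, 10445, 26),
  (219434, 4, 213006, 1),
  (219437, 6, 115817, 23),
  (219438, 6, 215050, 1),
  (219443, 5, 14842, 24),
  (219447, 5, 97593, 8),
  (219451, 6, 220177, 10),
  (219455, 6, 63898, 24),
  (219459, 6, 220649, 13),
  (219463, 6, 232557, 10),
  (219467, 6, 156142, 22),
  (219471, 6, 216557, 13),
  (219473, 5, 180713, 44),
  (219474, 6, 111669, 22),
  (219477, 5, 252146, 19),
  (219478, 4, 114820, 42),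
  (219481, 6, 165143, 37),
  (219482, 6, 67970, 43),
  (219485, 6, 235762, 19),
  (219486, 6, 118133, 24),
  (219491, 6, 7655, 1),
  (219495, 6, 5607, 1),
  (219499, 5, 251151, 15),
  (219503, 6, 233647, 17),
  (219505, 6, 125337, 3),
  (219506, 5, 235702, 17),
  (219509, 6, 260322, 19),
  (219510, 5, 164132, 42),
  (219513, 6, 147709, 12),
  (219514, 5, 135306, 43),
  (219517, 6, 243938, 19),
  (219518, 6, 129430, 3),
  (219521, 6, 165147, 20),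
  (219522, 6, 131502, 16),
  (219525, 6, 110789, 26),
  (219526, 6, 82350, 2),
  (219529, 6, 59526, 19),
  (219530, 5, 26978, 41),
  (219533, 6, 136281, 20),
  (219534, 6, 139366, 24),
  (219539, 5, 78227, 40),
  (219543, 5, 220613, 23),
  (219547, 6, 97599, 1),
  (219551, 6, 151743, 17),
  (219553, 6, 184678, 24),
  (219554, 6, 170261, 20),
  (219557, 6, 168294, 24),
  (219558, 5, 74114, 43),
  (219561, 4, 198814, 22),
  (219562, 5, 139650, 43),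
  (219565, 6, 132185, 20),
  (219566, 6, 90389, 21),
  (219571, 6, 26879, 41),
  (219575, 6, 242150, 24),
  (219579, 6, 150943, 7),
  (219583, 6, 204081, 5),
  (219587, 6, 162278, 22),
  (219591, 5, 35247, 3),
  (219595, 6, 234927, 15),
  (219599, 6, 52607, 24),
  (219601, 6, 118031, 24),
  (219602, 6, 186550, 17),
  (219605, 6, 185471, 21),
  (219606, 5, 135554, 39),
  (219609, 6, 194958, 19),
  (219610, 5, 200842, 39),
  (219613, 5, 74221, 14),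
  (219614, 6, 184510, 17),
  (219619, 6, 248026, 22),
  (219623, 6, 249037, 10),
  (219627, 6, 252263, 11),
  (219631, 6, 216171, 12),
  (219633, 6, 129313, 16),
  (219634, 5, 250014, 1),
  (219637, 6, 243821, 6),
  (219638, 6, 149978, 16),
  (219641, 6, 248911, 24),
  (219642, 5, 248919, 24),
  (219645, 5, 252117, 10),
  (219646, 6, 248951, 24),
  (220177, 5, 133297, 37),
  (220179, 6, 160213, 26),
  (220181, 5, 163207, 16),
  (220183, 6, 212017, 15),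
  (220185, 6, 212401, 3),
  (220187, 6, 158795, 20),
  (220189, 5, 196799, 7),
  (220191, 5, 9635, 38),
  (220209, 5, 133409, 37),
  (220211, 6, 192917, 26),
  (220213, 6, 191699, 21),
  (220215, 6, 42365, 20),
  (220217, 6, 253225, 23),
  (220219, 6, 162883, 20),
  (220221, 5, 20597, 42),
  (220223, 5, 135435, 40),
  (220225, 6, 135345, 40),
  (220227, 6, 100715, 10),
  (220229, 5, 20493, 42),
  (220231, 5, 67617, 41),
  (220233, 5, 98377, 39),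
  (220235, 5, 67601, 41),
  (220237, 6, 185541, 11),
  (220239, 4, 68017, 41),
  (220257, 6, 118091, 10),
  (220259, 6, 260250, 22),
  (220261, 6, 249229, 3),
  (220263, 6, 194714, 22),
  (220265, 6, 249871, 15),
  (220267, 6, 213055, 25),
  (220269, 6, 251915, 15),
  (220271, 5, 128361, 23),
  (220305, 6, 260342, 24),
  (220307, 6, 212399, 14),
  (220309, 6, 163007, 13),
  (220311, 6, 235766, 24),
  (220313, 6, 208301, 14),
  (220315, 6, 219382, 24),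
  (220317, 6, 211190, 24),
  (220319, 6, 202998, 24),
  (220337, 5, 40969, 44),
  (220339, 6, 194961, 26),
  (220341, 6, 90543, 4),
  (220343, 6, 173181, 20),
  (220345, 6, 227830, 24),
  (220347, 6, 260369, 26),
  (220349, 6, 211446, 24),
  (220351, 5, 98401, 39),
  (220353, 6, 5607, 2),
  (220355, 5, 135531, 40),
  (220357, 6, 252214, 22),
  (220359, 6, 220575, 25),
  (220361, 5, 98793, 39),
  (220363, 6, 178613, 21),
  (220365, 6, 250949, 11),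
  (220367, 6, 252175, 16),
  (220385, 6, 202199, 20),
  (220387, 6, 163231, 25),
  (220389, 4, 17769, 43),
  (220391, 5, 133283, 37),
  (220393, 5, 133287, 37),
  (220395, 6, 32159, 25),
  (220397, 5, 191595, 24),
  (220399, 6, 248299, 8),
  (220433, 5, 41033, 44),
  (220435, 6, 145898, 24),
  (220437, 6, 154074, 24),
  (220439, 5, 133465, 37),
  (220441, 6, 189455, 20),
  (220443, 6, 90399, 8),
  (220445, 6, 186778, 24),
  (220447, 5, 41049, 44),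
  (220465, 6, 151743, 12),
  (220467, 5, 97551, 14),
  (220469, 5, 98397, 39),
  (220471, 6, 31178, 24),
  (220473, 5, 41139, 44),
  (220475, 6, 203967, 17),
  (220477, 6, 3453, 20),
  (220479, 6, 214429, 7),
  (220481, 6, 247823, 4),
  (220483, 6, 249075, 19),
  (220485, 6, 256302, 22),
  (220487, 6, 248051, 19),
  (220489, 6, 216555, 13),
  (220491, 6, 60765, 24),
  (220493, 5, 41159, 44),
  (220495, 6, 254318, 22),
  (220513, 6, 191501, 24),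
  (220515, 6, 247883, 10),
  (220517, 6, 248911, 10),
  (220519, 6, 251341, 7),
  (220521, 6, 158167, 19),
  (220523, 6, 252062, 22),
  (220525, 6, 127365, 21),
  (220527, 6, 186526, 22),
  (220561, 5, 133153, 37),
  (220563, 5, 97589, 1),
  (220565, 5, 241910, 24),
  (220567, 6, 212401, 15),
  (220569, 6, 96575, 1),
  (220571, 5, 17617, 43),
  (220573, 5, 97551, 16),
  (220575, 5, 133157, 37),
  (220593, 6, 47295, 19),
  (220595, 5, 196927, 5),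
  (220597, 6, 216223, 10),
  (220599, 6, 17759, 43),
  (220601, 6, 155885, 26),
  (220603, 6, 139501, 26),
  (220605, 6, 209398, 24),
  (220607, 6, 132221, 20),
  (220609, 6, 194982, 22),
  (220611, 6, 36267, 3),
  (220613, 4, 98419, 39),
  (220615, 5, 135253, 40),
  (220617, 6, 192934, 22),
  (220619, 6, 192998, 22),
  (220621, 6, 61671, 26),
  (220623, 6, 63893, 21),
  (220641, 6, 191503, 24),
  (220643, 6, 249005, 4),
  (220645, 5, 17699, 43),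
  (220647, 5, 67621, 41),
  (220649, 5, 98505, 39),
  (220651, 5, 98435, 39),
  (220653, 6, 232557, 6),
  (220655, 6, 182430, 22),
  (221187, 6, 131419, 22),
  (221189, 6, 8541, 26),
  (221190, 6, 16749, 26),
  (221193, 6, 65711, 23),
  (221194, 6, 213178, 4),
  (221196, 6, 205116, 5),
  (221199, 6, 168247, 20),
  (221203, 5, 108582, 21),
  (221205, 6, 205221, 3),
  (221206, 6, 213046, 12),
  (221209, 6, 144415, 22),
  (221210, 6, 238038, 24),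
  (221212, 5, 221652, 42),
  (221215, 6, 242783, 22),
  (221219, 6, 37013, 19),
  (221221, 6, 88173, 23),
  (221222, 7, 204854, 12),
  (221225, 5, 168250, 20),
  (221226, 5, 168252, 20),
  (221228, 6, 37042, 19),
  (221231, 5, 221589, 37),
  (221235, 6, 213267, 14),
  (221237, 6, 90389, 10),
  (221238, 7, 110683, 22),
  (221241, 6, 37052, 19),
  (221242, 5, 204970, 4),
  (221244, 6, 213276, 5),
  (221247, 6, 37055, 19),
  (221249, 6, 16615, 25),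
  (221250, 6, 156114, 7),
  (221252, 6, 90596, 8),
  (221255, 6, 45463, 19),
  (221256, 6, 8255, 23),
  (221259, 6, 19705, 21),
  (221261, 6, 69097, 24),
  (221262, 7, 19897, 21),
  (221265, 6, 3465, 24),
  (221266, 5, 79910, 21),
  (221268, 6, 3489, 24),
  (221271, 6, 259163, 22),
  (221272, 7, 213208, 10),
  (221275, 5, 221589, 42),
  (221277, 6, 45502, 19),
  (221278, 6, 242094, 3),
  (221281, 6, 90577, 2),
  (221282, 6, 37265, 19),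
  (221284, 5, 221652, 37),
  (221287, 6, 260570, 21),
  (221288, 6, 205160, 11),
  (221291, 6, 228399, 23),
  (221293, 6, 97391, 23),
  (221294, 6, 244074, 2),
  (221297, 6, 114727, 25),
  (221298, 5, 90594, 5),
  (221300, 6, 156116, 4),
  (221303, 6, 37279, 19),
  (221304, 6, 29743, 23),
  (221307, 6, 192747, 11),
  (221309, 6, 121145, 4),
  (221310, 6, 241943, 25),
  (221315, 6, 115915, 25),
  (221317, 6, 37155, 20),
  (221318, 7, 156038, 15),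
  (221321, 6, 213305, 1),
  (221322, 5, 221652, 38),
  (221324, 6, 37169, 20),
  (221327, 6, 194694, 24),
  (221331, 6, 210950, 24),
  (221333, 6, 141401, 26),
  (221334, 6, 107611, 22),
  (221337, 6, 204969, 15),
  (221338, 6, 155818, 4),
  (221340, 6, 90540, 7),
  (221343, 6, 146611, 7),
  (221347, 6, 213043, 11),
  (221349, 6, 90501, 10),
  (221350, 6, 74038, 6),
  (221353, 6, 27749, 21),
  (221354, 7, 27813, 21),
  (221356, 6, 27941, 21),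
  (221359, 6, 216223, 15),
  (221363, 6, 37085, 19),
  (221365, 6, 53515, 20),
  (221366, 6, 196790, 12),
  (221369, 6, 213305, 16),
  (221370, 6, 37113, 19),
  (221372, 5, 106654, 40),
  (221375, 6, 260358, 24),
  (221377, 5, 45524, 19),
  (221378, 6, 37284, 20),
  (221380, 5, 45522, 19),
  (221383, 5, 221589, 38),
  (221384, 6, 155864, 10),
  (221387, 6, 249039, 25),
  (221389, 6, 257223, 25),
  (221390, 6, 113062, 1),
  (221393, 6, 155873, 13),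
  (221394, 5, 213330, 7),
  (221396, 5, 205172, 4),
  (221399, 6, 93527, 12),
  (221400, 7, 199879, 25),
  (221403, 6, 3547, 24),
  (221405, 6, 3563, 24),
  (221406, 6, 216297, 26),
  (221409, 6, 199819, 24),
  (221410, 6, 199827, 24),
  (221412, 7, 199843, 24),
  (221415, 6, 93543, 12),
  (221416, 6, 196984, 1),
  (221419, 6, 183503, 25),
  (221421, 6, 81007, 23),
  (221422, 6, 244202, 2),
  (221425, 4, 53642, 20),
  (221426, 4, 53644, 20),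
  (221428, 6, 37338, 19),
  (221431, 5, 40201, 44),
  (221432, 6, 147704, 10),
  (221435, 6, 257201, 26),
  (221437, 6, 240793, 26),
  (221438, 6, 129430, 1),
  (221443, 6, 155827, 6),
  (221445, 5, 219434, 24),
  (221446, 6, 90502, 15),
  (221449, 6, 3185, 21),
  (221450, 6, 3249, 21),
  (221452, 5, 248162, 24),
  (221455, 6, 260429, 26),
  (221459, 6, 110621, 19),
  (221461, 6, 184643, 20),
  (221462, 6, 74150, 3),
  (221465, 6, 205097, 15),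
  (221466, 6, 110649, 19),
  (221468, 7, 184657, 20),
  (221471, 6, 234591, 22),
  (221475, 6, 140617, 22),
  (221477, 6, 190834, 21),
  (221478, 6, 153933, 26),
  (221481, 6, 204969, 17),
  (221482, 5, 156058, 8),
  (221484, 5, 90396, 5),
  (221487, 6, 216351, 15),
  (221491, 4, 80282, 24),
  (221493, 6, 205221, 13),
  (221494, 6, 196918, 12),
  (221497, 6, 3191, 21),
  (221498, 4, 109010, 24),
  (221500, 6, 3383, 21),
  (221503, 6, 259377, 25),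
  (221505, 6, 174407, 26),
  (221506, 5, 221652, 39),
  (221508, 6, 160062, 21),
  (221511, 6, 194895, 26),
  (221512, 7, 90472, 11),
  (221515, 6, 168438, 20),
  (221517, 5, 221589, 39),
  (221518, 6, 192758, 6),
  (221521, 6, 155857, 12),
  (221522, 7, 110873, 19),
  (221524, 6, 184769, 20),
  (221527, 6, 63823, 26),
  (221528, 6, 196856, 2),
  (221531, 6, 192971, 11),
  (221533, 6, 241789, 10),
  (221534, 6, 111022, 3),
  (221537, 6, 155873, 12),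
  (221538, 6, 213234, 5),
  (221540, 6, 205028, 8),
  (221543, 6, 175525, 5),
  (221544, 7, 197957, 25),
  (221547, 6, 3325, 21),
  (221549, 6, 3453, 21),
  (221550, 6, 93417, 22),
  (221553, 6, 134285, 24),
  (221554, 6, 94214, 21),
  (221556, 5, 106654, 41),
  (221559, 6, 184783, 20),
  (221560, 6, 74104, 11),
  (221563, 5, 40201, 43),
  (221565, 6, 102718, 19),
  (221566, 6, 127374, 3),
  (221571, 6, 213267, 11),
  (221573, 6, 90389, 16),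
  (221574, 7, 78019, 22),
  (221577, 6, 86151, 23),
  (221578, 6, 205114, 8),
  (221580, 5, 213180, 7),
  (221583, 6, 37239, 20),
  (221587, 6, 155827, 17),
  (221589, 4, 190486, 21),
  (221590, 6, 24982, 15),
  (221593, 6, 11363, 21),
  (221594, 5, 106654, 43),
  (221596, 6, 245766, 24),
  (221599, 6, 252291, 23),
  (221603, 6, 102485, 19),
  (221605, 6, 37227, 20),
  (221606, 6, 24998, 15),
  (221609, 4, 102516, 19),
  (221610, 6, 37244, 20),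
  (221612, 4, 102514, 19),
  (221615, 5, 40201, 40),
  (221619, 6, 163931, 22),
  (221621, 6, 12621, 26),
  (221622, 6, 131181, 23),
  (221625, 6, 66607, 23),
  (221626, 6, 213178, 13),
  (221628, 6, 205116, 14),
  (221631, 7, 197743, 23),
  (221633, 6, 37346, 20),
  (221634, 6, 90450, 7),
  (221636, 5, 155876, 8),
  (221639, 6, 37351, 20),
  (221640, 6, 231623, 25),
  (221643, 6, 120273, 8),
  (221645, 6, 241901, 10),
  (221646, 6, 192791, 23),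
  (221649, 6, 3471, 24),
  (221650, 6, 3479, 24),
  (221652, 4, 161814, 21),
  (221655, 6, 260497, 23),
  (221656, 6, 147928, 10),
  (221659, 6, 53718, 20),
  (221661, 5, 40201, 41),
  (221662, 6, 249974, 6),
  (221665, 6, 90577, 14),
  (221666, 5, 106654, 44),
  (221668, 6, 37353, 20),
  (221671, 6, 252410, 21),
  (221672, 6, 74216, 11),
  (221675, 6, 199903, 24),
  (221677, 6, 228769, 22),
  (221678, 6, 113130, 2),
  (221681, 6, 18631, 25),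
  (221682, 6, 156114, 16),
  (221684, 6, 90596, 17),
  (221687, 7, 26831, 25),
  (221688, 6, 16415, 22),
  (221691, 7, 180319, 22),
  (221693, 7, 78159, 26),
  (221694, 7, 102779, 19),
  (222209, 6, 65965, 23),
  (222211, 6, 213267, 8),
  (222221, 6, 162991, 5),
  (222223, 6, 156063, 16),
  (222225, 4, 201118, 24),
  (222227, 6, 155827, 5),
  (222237, 6, 204081, 14),
  (222239, 6, 258542, 24),
  (222241, 6, 86123, 25),
  (222243, 6, 165209, 22),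
  (222253, 6, 119166, 24),
  (222255, 5, 97593, 4),
  (222257, 6, 118827, 25),
  (222259, 6, 176155, 22),
  (222269, 6, 146623, 5),
  (222271, 6, 126025, 19),
  (222277, 6, 228363, 38),
  (222279, 6, 213239, 13),
  (222281, 6, 170418, 20),
  (222283, 6, 124331, 17),
  (222293, 6, 186755, 20),
  (222295, 6, 159201, 1),
  (222297, 6, 111995, 10),
  (222299, 6, 193739, 11),
  (222309, 6, 247189, 3),
  (222311, 6, 208057, 24),
  (222313, 6, 170426, 20),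
  (222315, 6, 185595, 11),
  (222325, 6, 186763, 20),
  (222327, 6, 205031, 13),
  (222329, 6, 139755, 1),
  (222331, 6, 82395, 2),
  (222337, 6, 168211, 22),
  (222339, 6, 39206, 20),
  (222349, 6, 212401, 14),
  (222351, 6, 39223, 20),
  (222353, 6, 140379, 22),
  (222355, 6, 213267, 16),
  (222365, 6, 145587, 7),
  (222367, 6, 226507, 25),
  (222369, 4, 51410, 21),
  (222371, 5, 137622, 24),
  (222381, 6, 126143, 19),
  (222383, 6, 193739, 25),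
  (222385, 7, 106678, 21),
  (222387, 7, 203030, 24),
  (222397, 6, 93543, 21),
  (222399, 5, 97589, 12),
  (222405, 6, 249303, 8),
  (222407, 6, 130255, 25),
  (222409, 6, 112107, 10),
  (222411, 6, 93417, 21),
  (222421, 6, 243894, 21),
  (222423, 6, 118161, 4),
  (222425, 7, 260517, 19),
  (222427, 6, 215129, 19),
  (222437, 6, 251313, 22),
  (222439, 6, 212041, 19),
  (222441, 6, 251001, 11),
  (222443, 6, 198009, 1),
  (222453, 5, 240695, 5),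
  (222455, 6, 31951, 25),
  (222457, 6, 128475, 10),
  (222459, 6, 55710, 20),
  (222465, 4, 10445, 19),
  (222467, 4, 211210, 24),
  (222477, 6, 252282, 24),
  (222479, 6, 24991, 16),
  (222481, 6, 203162, 24),
  (222483, 6, 168987, 22),
  (222493, 6, 252410, 24),
  (222495, 6, 212401, 7),
  (222497, 6, 213267, 15),
  (222499, 6, 83049, 25),
  (222509, 6, 146863, 5),
  (222511, 6, 129386, 24),
  (222513, 6, 155827, 12),
  (222515, 4, 57478, 21),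
  (222525, 6, 208057, 17),
  (222527, 6, 83311, 23),
  (222533, 6, 257185, 17),
  (222535, 7, 236761, 19),
  (222537, 5, 242795, 10),
  (222539, 5, 252121, 19),
  (222549, 6, 126279, 8),
  (222551, 6, 194694, 21),
  (222553, 6, 186834, 20),
  (222555, 6, 186838, 20),
  (222565, 6, 118135, 8),
  (222567, 6, 116119, 3),
  (222569, 6, 158205, 19),
  (222571, 6, 170494, 20),
  (222581, 6, 247859, 4),
  (222583, 6, 248881, 4),
  (222585, 6, 186842, 20),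
  (222587, 6, 194027, 11),
  (222593, 6, 39266, 20),
  (222595, 6, 39270, 20),
  (222605, 6, 39283, 20),
  (222607, 6, 90399, 16),
  (222609, 4, 125078, 21),
  (222611, 4, 200726, 24),
  (222621, 6, 121219, 23),
  (222623, 6, 208301, 15),
  (222625, 6, 39274, 20),
  (222627, 6, 139621, 26),
  (222637, 6, 220473, 11),
  (222639, 6, 163201, 7),
  (222641, 6, 24933, 26),
  (222643, 6, 20683, 25),
  (222653, 6, 89489, 14),
  (222655, 6, 257461, 37),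
  (222661, 6, 118231, 8),
  (222663, 6, 39399, 20),
  (222665, 6, 39410, 20),
  (222667, 6, 194915, 22),
  (222677, 6, 191665, 17),
  (222679, 6, 194710, 21),
  (222681, 5, 194981, 19),
  (222683, 6, 259403, 11),
  (222693, 6, 39403, 20),
  (222695, 6, 252282, 21),
  (222697, 6, 186567, 25),
  (222699, 6, 251259, 11),
  (222709, 6, 175281, 17),
  (222711, 6, 139751, 13),
  (222713, 6, 206127, 23),
  (222715, 6, 55774, 20),
  (223233, 6, 16627, 25),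
  (223234, 5, 219, 22),
  (223237, 6, 90389, 4),
  (223238, 6, 20845, 26),
  (223243, 6, 228363, 37),
  (223247, 6, 90543, 17),
  (223249, 4, 132203, 20),
  (223250, 6, 111835, 22),
  (223253, 4, 43302, 21),
  (223254, 6, 196918, 14),
  (223259, 6, 228513, 13),
  (223263, 7, 64873, 20),
  (223265, 6, 45333, 26),
  (223266, 6, 196790, 4),
  (223269, 6, 112714, 19),
  (223270, 6, 74150, 17),
  (223275, 6, 97599, 4),
  (223279, 6, 253039, 23),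
  (223281, 6, 80086, 19),
  (223282, 6, 205094, 21),
  (223285, 6, 108618, 19),
  (223286, 6, 184365, 26),
  (223291, 6, 89407, 4),
  (223295, 6, 38079, 19),
  (223299, 6, 240871, 7),
  (223303, 6, 205175, 14),
  (223305, 6, 223726, 19),
  (223306, 6, 174270, 8),
  (223309, 6, 219381, 13),
  (223310, 6, 162266, 7),
  (223315, 6, 244006, 21),
  (223319, 6, 196983, 14),
  (223321, 5, 194765, 11),
  (223322, 6, 244138, 3),
  (223325, 5, 128361, 20),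
  (223326, 6, 251966, 12),
  (223331, 6, 191921, 16),
  (223335, 6, 38295, 19),
  (223337, 6, 186621, 11),
  (223338, 6, 229630, 4),
  (223341, 6, 216297, 24),
  (223342, 5, 106926, 17),
  (223347, 6, 38301, 19),
  (223351, 6, 213335, 14),
  (223353, 6, 227830, 19),
  (223354, 5, 96742, 5),
  (223357, 6, 242845, 26),
  (223358, 5, 239850, 4),
  (223361, 6, 114893, 23),
  (223362, 6, 74150, 1),
  (223365, 6, 14681, 26),
  (223366, 6, 24998, 17),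
  (223371, 6, 96563, 6),
  (223375, 6, 159201, 21),
  (223377, 6, 90389, 12),
  (223378, 6, 74971, 25),
  (223381, 6, 84169, 23),
  (223382, 7, 149833, 23),
  (223387, 6, 89503, 4),
  (223391, 6, 88375, 6),
  (223393, 4, 154022, 24),
  (223394, 6, 196918, 10),
  (223397, 5, 182354, 21),
  (223398, 6, 213046, 11),
  (223403, 6, 129457, 26),
  (223407, 6, 191561, 20),
  (223409, 6, 112790, 19),
  (223410, 6, 155798, 16),
  (223413, 6, 139419, 22),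
  (223414, 6, 24998, 5),
  (223419, 6, 38141, 19),
  (223423, 6, 244006, 24),
  (223427, 6, 119262, 21),
  (223431, 5, 249297, 8),
  (223433, 6, 256430, 19),
  (223434, 5, 180478, 4),
  (223437, 6, 113133, 10),
  (223438, 5, 260286, 12),
  (223443, 6, 175351, 7),
  (223447, 6, 112950, 21),
  (223449, 6, 206331, 20),
  (223450, 6, 252090, 12),
  (223453, 6, 215130, 19),
  (223454, 6, 252094, 12),
  (223459, 6, 220647, 20),
  (223463, 6, 243821, 23),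
  (223465, 6, 129481, 10),
  (223466, 5, 244206, 2),
  (223469, 6, 27097, 2),
  (223470, 5, 129410, 1),
  (223475, 6, 126417, 10),
  (223479, 6, 240689, 5),
  (223481, 6, 111663, 23),
  (223482, 6, 235706, 12),
  (223485, 6, 129501, 10),
  (223486, 6, 162010, 16),
  (223489, 4, 57718, 21),
  (223490, 6, 24982, 7),
  (223493, 6, 205221, 7),
  (223494, 6, 74038, 14),
  (223499, 6, 111669, 19),
  (223503, 6, 208057, 2),
  (223505, 6, 190726, 21),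
  (223506, 6, 24998, 10),
  (223509, 6, 47429, 26),
  (223510, 6, 38107, 22),
  (223515, 6, 220191, 4),
  (223519, 6, 260570, 24),
  (223521, 6, 141645, 26),
  (223522, 7, 182317, 23),
  (223525, 6, 90389, 14),
  (223526, 6, 182381, 23),
  (223531, 6, 113018, 24),
  (223535, 6, 89393, 8),
  (223537, 4, 72106, 24),
  (223538, 6, 213046, 13),
  (223541, 4, 57606, 21),
  (223542, 6, 111617, 25),
  (223547, 6, 212385, 13),
  (223551, 6, 129498, 24),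
  (223555, 6, 60817, 16),
  (223559, 6, 258302, 21),
  (223561, 6, 186845, 11),
  (223562, 6, 194802, 6),
  (223565, 6, 243821, 10),
  (223566, 6, 211434, 16),
  (223571, 6, 260358, 21),
  (223575, 6, 191921, 5),
  (223577, 6, 162278, 19),
  (223578, 6, 113066, 3),
  (223581, 6, 248026, 19),
  (223582, 6, 113070, 3),
  (223587, 6, 173477, 5),
  (223591, 6, 256109, 23),
  (223593, 7, 259251, 20),
  (223594, 6, 178418, 6),
  (223597, 6, 91465, 20),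
  (223598, 6, 121246, 3),
  (223603, 6, 119861, 25),
  (223607, 6, 158963, 12),
  (223609, 5, 242867, 20),
  (223610, 6, 195054, 11),
  (223613, 6, 260189, 10),
  (223614, 6, 129422, 3),
  (223617, 6, 118981, 23),
  (223618, 6, 184645, 23),
  (223621, 6, 176453, 26),
  (223622, 6, 184645, 26),
  (223627, 6, 111733, 19),
  (223631, 6, 155823, 17),
  (223633, 6, 205221, 15),
  (223634, 6, 213142, 13),
  (223637, 4, 200742, 24),
  (223638, 6, 196918, 8),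
  (223643, 6, 95621, 8),
  (223647, 6, 97665, 8),
  (223649, 7, 151974, 24),
  (223650, 6, 156070, 24),
  (223653, 7, 182386, 21),
  (223654, 6, 74150, 2),
  (223659, 5, 163207, 7),
  (223663, 6, 232559, 23),
  (223665, 6, 196763, 22),
  (223666, 6, 16717, 26),
  (223669, 6, 98413, 23),
  (223670, 5, 219, 25),
  (223675, 6, 146849, 13),
  (223679, 6, 139455, 17),
  (223683, 6, 175591, 7),
  (223687, 6, 220233, 20),
  (223689, 6, 139517, 2),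
  (223690, 7, 190638, 17),
  (223693, 6, 82301, 1),
  (223694, 6, 145898, 16),
  (223699, 6, 159201, 13),
  (223703, 6, 84191, 25),
  (223705, 6, 194982, 19),
  (223706, 6, 72182, 14),
  (223709, 6, 243965, 10),
  (223710, 5, 252350, 12),
  (223715, 6, 216223, 24),
  (223719, 5, 249235, 15),
  (223721, 6, 252285, 11),
  (223722, 6, 96726, 14),
  (223725, 6, 227530, 19),
  (223726, 5, 151798, 5),
  (223731, 6, 118065, 16),
  (223735, 6, 257461, 38),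
  (223737, 6, 157911, 25),
  (223738, 6, 248094, 8),
  (223741, 6, 223434, 19),
  (223742, 6, 162266, 16),
  (224265, 6, 233854, 24),
  (224267, 6, 216305, 21),
  (224269, 6, 64845, 20),
  (224271, 6, 156139, 25),
  (224281, 6, 209141, 26),
  (224283, 6, 242158, 24),
  (224285, 6, 150943, 16),
  (224287, 6, 212399, 3),
  (224297, 6, 96575, 4),
  (224299, 6, 213371, 25),
  (224301, 5, 97551, 10),
  (224303, 6, 220575, 3),
  (224313, 6, 250171, 25),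
  (224315, 6, 82335, 2),
  (224317, 6, 119262, 24),
  (224319, 6, 125003, 19),
  (224321, 6, 61918, 21),
  (224323, 6, 236635, 19),
  (224325, 6, 93609, 24),
  (224327, 6, 205053, 23),
  (224337, 5, 25047, 12),
  (224339, 6, 28057, 24),
  (224341, 6, 113062, 21),
  (224343, 6, 193691, 22),
  (224353, 5, 25063, 12),
  (224355, 5, 249235, 3),
  (224357, 6, 126279, 10),
  (224359, 6, 260186, 21),
  (224369, 6, 211415, 19),
  (224371, 6, 176550, 21),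
  (224373, 6, 139751, 1),
  (224375, 6, 192667, 22),
  (224393, 5, 196799, 15),
  (224395, 6, 220191, 11),
  (224397, 5, 97589, 6),
  (224399, 6, 170166, 24),
  (224409, 6, 89393, 6),
  (224411, 6, 251958, 24),
  (224413, 6, 216351, 16),
  (224415, 6, 146863, 3),
  (224425, 6, 125119, 19),
  (224427, 6, 24991, 2),
  (224429, 5, 196927, 1),
  (224431, 6, 189517, 20),
  (224441, 6, 260406, 24),
  (224443, 6, 93259, 19),
  (224445, 5, 163213, 3),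
  (224447, 6, 163215, 3),
  (224449, 6, 247255, 8),
  (224451, 5, 248919, 11),
  (224453, 6, 90589, 23),
  (224455, 6, 126327, 6),
  (224465, 6, 125401, 23),
  (224467, 6, 28059, 24),
  (224469, 6, 175525, 3),
  (224471, 6, 198747, 19),
  (224481, 6, 218599, 20),
  (224483, 5, 25047, 2),
  (224485, 6, 196983, 1),
  (224487, 6, 211019, 19),
  (224497, 6, 191873, 3),
  (224499, 6, 207947, 19),
  (224501, 6, 155867, 22),
  (224503, 6, 189653, 7),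
  (224521, 5, 196927, 15),
  (224523, 6, 244074, 24),
  (224525, 6, 200049, 21),
  (224527, 6, 244069, 26),
  (224537, 5, 163213, 11),
  (224539, 5, 196799, 2),
  (224541, 6, 252378, 24)]

theorem chk_rows2_24 : rows2_24.all (rowBP tr2 gensLitP 72) = true := by decide +kernel

/-- Rows 37500 to 38999. -/
def rows2_25 : List (ℕ × ℕ × ℕ × ℕ) := [(224543, 6, 198843, 2),
  (224553, 6, 218489, 25),
  (224555, 6, 146611, 6),
  (224557, 6, 200053, 21),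
  (224559, 6, 25933, 20),
  (224569, 6, 251193, 25),
  (224571, 6, 113130, 24),
  (224573, 6, 96613, 26),
  (224575, 6, 162993, 12),
  (224577, 6, 188843, 22),
  (224579, 6, 77175, 14),
  (224581, 6, 192766, 21),
  (224583, 6, 191735, 6),
  (224593, 5, 240755, 10),
  (224595, 6, 194950, 21),
  (224597, 5, 25063, 1),
  (224599, 6, 26085, 1),
  (224609, 6, 118161, 3),
  (224611, 6, 93527, 14),
  (224613, 6, 194810, 21),
  (224615, 6, 175351, 6),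
  (224625, 6, 126337, 3),
  (224627, 6, 192902, 21),
  (224629, 6, 127366, 21),
  (224631, 6, 123245, 23),
  (224649, 6, 189759, 20),
  (224651, 6, 139455, 2),
  (224653, 6, 176310, 24),
  (224655, 6, 242021, 26),
  (224665, 6, 220209, 6),
  (224667, 6, 249910, 24),
  (224669, 6, 241718, 24),
  (224671, 6, 217307, 25),
  (224681, 6, 212017, 6),
  (224683, 6, 205165, 26),
  (224685, 6, 158797, 20),
  (224687, 6, 211243, 5),
  (224697, 6, 90477, 26),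
  (224699, 6, 208103, 21),
  (224701, 6, 208231, 21),
  (224703, 7, 92363, 19),
  (224705, 6, 127445, 23),
  (224707, 6, 119166, 21),
  (224709, 6, 82295, 1),
  (224711, 6, 218189, 20),
  (224721, 6, 129489, 23),
  (224723, 6, 246939, 22),
  (224725, 6, 129430, 21),
  (224727, 6, 241057, 15),
  (224737, 6, 55802, 21),
  (224739, 5, 240755, 6),
  (224741, 6, 216141, 20),
  (224743, 6, 240759, 6),
  (224753, 6, 213211, 22),
  (224755, 6, 158879, 24),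
  (224757, 6, 158895, 24),
  (224759, 7, 214125, 20),
  (225281, 6, 8661, 26),
  (225282, 5, 156058, 7),
  (225284, 6, 90540, 8),
  (225287, 6, 225662, 24),
  (225289, 6, 204969, 7),
  (225290, 6, 205114, 14),
  (225292, 5, 213180, 13),
  (225295, 6, 161181, 16),
  (225297, 6, 68777, 23),
  (225298, 4, 205270, 24),
  (225300, 3, 213478, 24),
  (225303, 6, 32159, 12),
  (225305, 6, 233870, 24),
  (225306, 6, 237974, 24),
  (225308, 6, 246182, 24),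
  (225311, 6, 192791, 20),
  (225313, 4, 53396, 19),
  (225314, 6, 213402, 3),
  (225316, 6, 204860, 12),
  (225319, 6, 32175, 12),
  (225321, 6, 213305, 8),
  (225322, 6, 53425, 19),
  (225324, 5, 53426, 19),
  (225327, 6, 220191, 15),
  (225329, 6, 86063, 23),
  (225330, 6, 205114, 2),
  (225332, 5, 213180, 1),
  (225335, 7, 257489, 21),
  (225337, 6, 204969, 13),
  (225338, 6, 213274, 14),
  (225340, 6, 204972, 13),
  (225343, 6, 237607, 21),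
  (225347, 6, 228363, 42),
  (225349, 6, 252253, 8),
  (225350, 6, 88538, 5),
  (225355, 6, 205179, 14),
  (225357, 6, 213245, 13),
  (225358, 6, 178362, 8),
  (225363, 6, 242939, 7),
  (225365, 6, 129457, 17),
  (225366, 6, 149982, 7),
  (225371, 6, 195679, 22),
  (225373, 6, 36329, 24),
  (225374, 5, 199034, 14),
  (225379, 6, 232601, 24),
  (225381, 6, 113057, 17),
  (225382, 6, 239978, 2),
  (225387, 6, 250259, 3),
  (225389, 6, 53686, 19),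
  (225390, 6, 113066, 17),
  (225395, 6, 192910, 20),
  (225397, 6, 117049, 4),
  (225398, 6, 243942, 4),
  (225403, 6, 177329, 5),
  (225405, 6, 227359, 22),
  (225406, 6, 125214, 1),
  (225409, 4, 49239, 21),
  (225410, 6, 61649, 19),
  (225412, 6, 155804, 1),
  (225415, 5, 97551, 12),
  (225417, 4, 61684, 19),
  (225418, 4, 45364, 20),
  (225420, 4, 61682, 19),
  (225423, 5, 240695, 21),
  (225425, 6, 235590, 24),
  (225426, 6, 213178, 12),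
  (225428, 5, 213180, 12),
  (225431, 6, 260166, 24),
  (225433, 6, 202822, 24),
  (225434, 5, 156058, 15),
  (225436, 6, 205116, 4),
  (225439, 6, 249227, 23),
  (225441, 6, 53460, 19),
  (225442, 4, 174534, 24),
  (225444, 6, 204988, 12),
  (225447, 6, 195014, 24),
  (225449, 6, 72749, 23),
  (225450, 6, 90506, 1),
  (225452, 5, 149958, 24),
  (225455, 6, 162246, 24),
  (225457, 4, 61706, 20),
  (225458, 4, 61708, 20),
  (225460, 4, 248134, 24),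
  (225463, 5, 249297, 21),
  (225465, 4, 53500, 19),
  (225466, 6, 213402, 14),
  (225468, 7, 260178, 37),
  (225471, 6, 228495, 15),
  (225475, 6, 259345, 16),
  (225477, 6, 61910, 19),
  (225478, 6, 113070, 1),
  (225483, 7, 113719, 21),
  (225485, 6, 147709, 13),
  (225486, 6, 248126, 10),
  (225491, 6, 177403, 7),
  (225493, 6, 36267, 24),
  (225494, 5, 194790, 4),
  (225499, 6, 36315, 24),
  (225501, 6, 155885, 13),
  (225502, 5, 219478, 7),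
  (225507, 6, 193739, 7),
  (225509, 6, 53718, 19),
  (225510, 6, 129422, 1),
  (225515, 6, 45502, 20),
  (225517, 6, 129457, 4),
  (225518, 6, 125326, 1),
  (225523, 6, 191665, 26),
  (225525, 6, 175257, 26),
  (225526, 6, 229566, 12),
  (225531, 6, 61854, 20),
  (225533, 6, 127445, 10),
  (225534, 6, 125342, 1),
  (225537, 6, 141583, 22),
  (225538, 5, 207186, 24),
  (225540, 6, 155959, 21),
  (225543, 6, 227706, 24),
  (225545, 6, 70823, 23),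
  (225546, 6, 213146, 5),
  (225548, 6, 73871, 22),
  (225551, 6, 204095, 15),
  (225553, 4, 192834, 20),
  (225554, 4, 192836, 20),
  (225556, 6, 204860, 10),
  (225559, 6, 212263, 15),
  (225561, 5, 127036, 19),
  (225562, 6, 90522, 15),
  (225564, 5, 127034, 19),
  (225567, 6, 78247, 3),
  (225569, 6, 142605, 22),
  (225570, 6, 205114, 12),
  (225572, 6, 205116, 12),
  (225575, 6, 82335, 3),
  (225577, 6, 85037, 23),
  (225578, 6, 213178, 5),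
  (225580, 6, 90540, 15),
  (225583, 6, 139455, 6),
  (225585, 7, 192842, 20),
  (225586, 6, 147503, 23),
  (225588, 6, 204988, 8),
  (225591, 6, 163007, 12),
  (225593, 7, 118844, 19),
  (225594, 6, 90119, 21),
  (225596, 4, 117154, 24),
  (225599, 6, 129466, 24),
  (225603, 6, 210161, 2),
  (225605, 6, 127254, 19),
  (225606, 5, 27102, 7),
  (225611, 6, 127285, 19),
  (225613, 5, 194981, 5),
  (225614, 5, 51646, 10),
  (225619, 6, 212401, 23),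
  (225621, 6, 193917, 21),
  (225622, 5, 106926, 3),
  (225627, 6, 129031, 21),
  (225629, 6, 220191, 22),
  (225630, 5, 180478, 6),
  (225635, 6, 232605, 24),
  (225637, 6, 121213, 8),
  (225638, 7, 96602, 14),
  (225643, 6, 90459, 14),
  (225645, 6, 193543, 21),
  (225646, 6, 243882, 17),
  (225651, 5, 128361, 8),
  (225653, 6, 192971, 20),
  (225654, 6, 252022, 13),
  (225659, 6, 186463, 22),
  (225661, 5, 195041, 11),
  (225662, 5, 244206, 4),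
  (225665, 6, 204969, 10),
  (225666, 6, 213274, 11),
  (225668, 6, 204972, 10),
  (225671, 6, 246263, 21),
  (225673, 6, 143623, 22),
  (225674, 5, 204970, 1),
  (225676, 6, 213276, 2),
  (225679, 6, 159942, 24),
  (225681, 6, 233542, 24),
  (225682, 6, 237638, 24),
  (225684, 6, 204988, 10),
  (225687, 6, 232539, 22),
  (225689, 6, 82371, 25),
  (225690, 3, 204870, 24),
  (225692, 4, 213062, 24),
  (225695, 6, 212399, 15),
  (225697, 6, 213305, 11),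
  (225698, 4, 45420, 20),
  (225700, 6, 45417, 20),
  (225703, 6, 192966, 24),
  (225705, 4, 45434, 20),
  (225706, 6, 90522, 14),
  (225708, 6, 204860, 6),
  (225711, 6, 220575, 15),
  (225713, 6, 147907, 25),
  (225714, 5, 156058, 16),
  (225716, 6, 90540, 17),
  (225719, 6, 94669, 26),
  (225721, 6, 133151, 22),
  (225722, 6, 155818, 5),
  (225724, 5, 90396, 4),
  (225727, 6, 225606, 24),
  (225731, 6, 177643, 7),
  (225733, 6, 121309, 8),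
  (225734, 6, 121150, 10),
  (225739, 6, 144633, 2),
  (225741, 6, 127350, 19),
  (225742, 6, 117054, 10),
  (225747, 6, 36255, 24),
  (225749, 6, 244133, 15),
  (225750, 6, 129326, 10),
  (225755, 6, 61910, 20),
  (225757, 6, 252049, 4),
  (225758, 6, 194746, 17),
  (225763, 6, 238889, 5),
  (225765, 6, 127285, 16),
  (225766, 6, 260342, 13),
  (225771, 6, 242977, 5),
  (225773, 6, 143823, 26),
  (225774, 5, 100670, 10),
  (225779, 6, 120113, 16),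
  (225781, 6, 178353, 17),
  (225782, 6, 162026, 5),
  (225787, 6, 82395, 14),
  (225789, 6, 257461, 39),
  (225790, 6, 178362, 17),
  (226309, 6, 220447, 8),
  (226311, 6, 121977, 19),
  (226317, 5, 74109, 26),
  (226319, 6, 97553, 4),
  (226325, 6, 227709, 39),
  (226327, 6, 157887, 5),
  (226333, 6, 101803, 23),
  (226335, 6, 208057, 7),
  (226341, 6, 214429, 3),
  (226343, 6, 57757, 26),
  (226349, 6, 106813, 26),
  (226351, 5, 196799, 13),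
  (226357, 6, 86526, 24),
  (226359, 6, 90399, 10),
  (226365, 6, 194843, 20),
  (226367, 6, 89393, 4),
  (226369, 6, 178594, 20),
  (226371, 6, 226317, 37),
  (226377, 6, 178610, 20),
  (226379, 6, 206015, 23),
  (226385, 5, 128433, 17),
  (226387, 6, 208057, 23),
  (226393, 6, 193715, 5),
  (226395, 6, 195615, 22),
  (226401, 6, 251259, 8),
  (226403, 6, 240793, 24),
  (226409, 6, 178618, 20),
  (226411, 6, 94683, 2),
  (226417, 6, 194954, 20),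
  (226419, 6, 194958, 20),
  (226425, 7, 194970, 20),
  (226427, 6, 205035, 13),
  (226437, 6, 220575, 8),
  (226439, 6, 151743, 13),
  (226445, 6, 162006, 24),
  (226447, 6, 220473, 1),
  (226453, 6, 260182, 24),
  (226455, 6, 251990, 24),
  (226461, 6, 130183, 19),
  (226463, 6, 155823, 13),
  (226469, 6, 47403, 20),
  (226471, 6, 204081, 1),
  (226477, 6, 162262, 24),
  (226479, 6, 154070, 24),
  (226485, 6, 96575, 12),
  (226487, 6, 252246, 24),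
  (226493, 6, 211243, 1),
  (226495, 5, 219478, 24),
  (226497, 6, 233651, 15),
  (226499, 6, 218481, 1),
  (226505, 6, 184631, 22),
  (226507, 5, 147707, 13),
  (226513, 6, 244133, 19),
  (226515, 6, 120187, 6),
  (226521, 6, 90459, 12),
  (226523, 6, 224337, 26),
  (226529, 6, 201075, 1),
  (226531, 6, 60817, 26),
  (226537, 6, 185745, 3),
  (226539, 5, 128433, 4),
  (226545, 6, 175281, 26),
  (226547, 7, 78127, 23),
  (226553, 6, 240689, 26),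
  (226555, 6, 63902, 20),
  (226565, 6, 219514, 24),
  (226567, 7, 234661, 23),
  (226573, 6, 195053, 26),
  (226575, 6, 178669, 26),
  (226581, 5, 97551, 8),
  (226583, 6, 113133, 26),
  (226589, 6, 163201, 11),
  (226591, 6, 212269, 15),
  (226597, 6, 89407, 8),
  (226599, 6, 96618, 24),
  (226605, 6, 27871, 19),
  (226607, 6, 129322, 24),
  (226613, 6, 161983, 12),
  (226615, 6, 235547, 22),
  (226621, 6, 95621, 3),
  (226623, 6, 220209, 4),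
  (226625, 5, 178658, 20),
  (226627, 6, 178662, 20),
  (226633, 6, 210171, 2),
  (226635, 6, 239081, 7),
  (226641, 6, 195010, 20),
  (226643, 6, 185595, 6),
  (226649, 6, 195026, 20),
  (226651, 6, 187423, 22),
  (226657, 6, 120187, 8),
  (226659, 6, 177403, 6),
  (226665, 6, 240845, 24),
  (226667, 6, 243945, 19),
  (226673, 6, 195018, 20),
  (226675, 5, 242867, 17),
  (226681, 5, 242873, 17),
  (226683, 6, 186399, 22),
  (226693, 6, 89503, 8),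
  (226695, 6, 89393, 1),
  (226701, 6, 146623, 2),
  (226703, 6, 191639, 21),
  (226709, 6, 162993, 17),
  (226711, 6, 218175, 6),
  (226717, 6, 199775, 22),
  (226719, 6, 97577, 1),
  (226725, 6, 245125, 22),
  (226727, 6, 192971, 25),
  (226733, 6, 212263, 5),
  (226735, 6, 47487, 20),
  (226741, 6, 198747, 22),
  (226743, 6, 255415, 42),
  (226749, 6, 225622, 24),
  (226751, 6, 217430, 24),
  (226753, 6, 120283, 8),
  (226755, 6, 47590, 20),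
  (226761, 6, 95639, 23),
  (226763, 6, 172519, 26),
  (226769, 6, 251001, 6),
  (226771, 6, 193715, 17),
  (226777, 6, 193721, 17),
  (226779, 6, 251025, 4),
  (226785, 6, 250259, 15),
  (226787, 6, 95707, 14),
  (226793, 6, 55751, 25),
  (226795, 6, 256025, 38),
  (226801, 6, 177329, 17),
  (226803, 6, 121977, 21),
  (226809, 5, 25063, 26),
  (226811, 6, 139755, 13),
  (227331, 6, 209278, 24),
  (227335, 6, 225630, 24),
  (227339, 6, 226317, 39),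
  (227343, 6, 94589, 26),
  (227347, 6, 77113, 10),
  (227351, 6, 200169, 23),
  (227355, 6, 211363, 3),
  (227359, 5, 196927, 14),
  (227363, 5, 163249, 16),
  (227367, 6, 220473, 8),
  (227371, 6, 127285, 26),
  (227375, 6, 253037, 23),
  (227379, 6, 126417, 21),
  (227383, 6, 155823, 11),
  (227387, 6, 146863, 1),
  (227391, 6, 258083, 25),
  (227393, 6, 243949, 7),
  (227394, 6, 118161, 24),
  (227397, 5, 25063, 25),
  (227398, 5, 252146, 4),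
  (227401, 6, 179495, 21),
  (227402, 6, 129454, 17),
  (227405, 6, 194721, 5),
  (227406, 6, 118257, 24),
  (227409, 6, 243965, 7),
  (227410, 5, 192942, 10),
  (227413, 6, 247930, 19),
  (227414, 6, 247870, 12),
  (227417, 6, 199037, 14),
  (227418, 6, 175483, 23),
  (227421, 6, 244133, 3),
  (227422, 6, 251958, 12),
  (227425, 6, 227709, 38),
  (227426, 6, 113062, 17),
  (227429, 6, 46493, 26),
  (227430, 5, 47234, 40),
  (227433, 6, 246141, 8),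
  (227434, 6, 113070, 17),
  (227437, 6, 127285, 4),
  (227438, 6, 111022, 17),
  (227441, 6, 211446, 19),
  (227442, 6, 102679, 25),
  (227445, 6, 195673, 21),
  (227446, 6, 129306, 1),
  (227449, 6, 227798, 19),
  (227450, 5, 194790, 11),
  (227453, 6, 213341, 14),
  (227454, 6, 54715, 19),
  (227459, 5, 194790, 24),
  (227463, 6, 96575, 6),
  (227467, 6, 162022, 24),
  (227471, 6, 95639, 4),
  (227475, 6, 146623, 7),
  (227479, 6, 162041, 26),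
  (227483, 6, 227430, 24),
  (227487, 6, 83419, 25),
  (227491, 6, 195046, 24),
  (227495, 6, 178662, 24),
  (227499, 6, 204095, 1),
  (227503, 6, 236653, 23),
  (227507, 6, 212263, 1),
  (227511, 6, 220469, 16),
  (227515, 6, 220473, 16),
  (227519, 6, 212017, 5),
  (227521, 6, 240046, 19),
  (227522, 6, 111022, 1),
  (227525, 6, 249303, 25),
  (227526, 5, 67806, 40),
  (227529, 7, 81233, 26),
  (227530, 5, 106926, 1),
  (227533, 6, 118231, 25),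
  (227534, 6, 129498, 13),
  (227537, 6, 178429, 7),
  (227538, 6, 87453, 21),
  (227541, 6, 121213, 6),
  (227542, 6, 247998, 12),
  (227545, 6, 178593, 3),
  (227546, 5, 190938, 15),
  (227549, 6, 251001, 20),
  (227550, 6, 60639, 22),
  (227553, 5, 194765, 7),
  (227554, 6, 127374, 1),
  (227557, 6, 252049, 15),
  (227558, 5, 102622, 40),
  (227561, 6, 60887, 25),
  (227562, 6, 252022, 11),
  (227565, 6, 129477, 10),
  (227566, 6, 249974, 11),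
  (227569, 6, 252209, 16),
  (227570, 7, 127390, 1),
  (227573, 6, 110703, 23),
  (227574, 6, 29166, 5),
  (227577, 6, 211309, 1),
  (227578, 6, 211429, 20),
  (227581, 6, 194949, 3),
  (227582, 5, 235702, 12),
  (227587, 6, 212399, 7),
  (227591, 6, 227674, 24),
  (227595, 6, 128053, 19),
  (227599, 6, 157887, 6),
  (227603, 6, 76203, 3),
  (227607, 6, 203953, 2),
  (227611, 6, 185521, 25),
  (227615, 5, 163249, 5),
  (227619, 6, 80250, 24),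
  (227623, 7, 96602, 24),
  (227627, 6, 112954, 24),
  (227631, 6, 90399, 14),
  (227635, 6, 120113, 25),
  (227639, 6, 128289, 25),
  (227643, 7, 27085, 26),
  (227647, 6, 129434, 24),
  (227649, 6, 209141, 2),
  (227650, 6, 194810, 6),
  (227653, 6, 26085, 25),
  (227654, 6, 96601, 20),
  (227657, 6, 148725, 25),
  (227658, 5, 41182, 40),
  (227661, 5, 74109, 14),
  (227662, 5, 127334, 2),
  (227665, 6, 52621, 24),
  (227666, 6, 129498, 15),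
  (227669, 6, 248058, 19),
  (227670, 5, 45190, 40),
  (227673, 6, 113057, 3),
  (227674, 5, 260286, 17),
  (227677, 6, 231674, 19),
  (227678, 6, 113062, 3),
  (227681, 6, 141822, 19),
  (227682, 6, 215503, 26),
  (227685, 6, 249005, 24),
  (227686, 6, 117150, 3),
  (227689, 6, 155885, 12),
  (227690, 6, 120113, 19),
  (227693, 6, 178593, 5),
  (227694, 6, 84313, 20),
  (227697, 6, 190957, 11),
  (227698, 6, 249974, 13),
  (227701, 6, 125325, 3),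
  (227702, 5, 10442, 40),
  (227705, 6, 162262, 19),
  (227706, 5, 129410, 3),
  (227709, 5, 239850, 19),
  (227710, 6, 244202, 4),
  (227715, 6, 146863, 7),
  (227719, 6, 128087, 19),
  (227723, 6, 89407, 1),
  (227727, 6, 126231, 21),
  (227731, 6, 208057, 10),
  (227735, 6, 167131, 22),
  (227739, 6, 161983, 17),
  (227743, 6, 256025, 42),
  (227747, 6, 192998, 24),
  (227751, 5, 97589, 16),
  (227755, 5, 97593, 16),
  (227759, 6, 232557, 23),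
  (227763, 6, 89393, 16),
  (227767, 5, 147931, 25),
  (227771, 6, 179495, 20),
  (227775, 6, 82335, 14),
  (227777, 6, 178669, 7),
  (227778, 6, 86463, 21),
  (227781, 6, 184447, 21),
  (227782, 6, 243882, 1),
  (227785, 6, 190862, 19),
  (227786, 6, 118231, 24),
  (227789, 6, 203002, 19),
  (227790, 6, 161111, 23),
  (227793, 6, 130257, 23),
  (227794, 6, 127278, 10),
  (227797, 6, 129481, 8),
  (227798, 5, 41380, 42),
  (227801, 6, 216223, 22),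
  (227802, 6, 129526, 2),
  (227805, 6, 52719, 24),
  (227806, 6, 192702, 17),
  (227809, 6, 248189, 11),
  (227810, 5, 63978, 15),
  (227813, 6, 162001, 2),
  (227814, 6, 219323, 21),
  (227817, 6, 249039, 24),
  (227818, 5, 69718, 40),
  (227821, 6, 244001, 5),
  (227822, 6, 111078, 2),
  (227825, 6, 106543, 23),
  (227826, 6, 89529, 21),
  (227829, 6, 223466, 19),
  (227830, 5, 178658, 4),
  (227833, 6, 255415, 37),
  (227834, 6, 244133, 20),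
  (227837, 6, 207082, 19),
  (227838, 6, 120187, 19),
  (228353, 6, 166303, 22),
  (228355, 6, 155823, 5),
  (228357, 6, 90399, 4),
  (228359, 6, 225614, 24),
  (228361, 6, 233790, 24),
  (228363, 5, 147707, 25),
  (228365, 6, 204975, 7),
  (228367, 6, 104571, 19),
  (228369, 6, 212187, 22),
  (228371, 6, 204095, 14),
  (228373, 6, 189653, 21),
  (228375, 6, 159965, 26),
  (228377, 6, 24991, 12),
  (228379, 6, 242094, 24),
  (228381, 6, 250270, 24),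
  (228383, 6, 100475, 19),
  (228385, 6, 95639, 2),
  (228387, 6, 78190, 24),
  (228389, 6, 203967, 13),
  (228391, 6, 232797, 22),
  (228393, 6, 102718, 24),
  (228395, 5, 97589, 4),
  (228397, 6, 119070, 24),
  (228399, 5, 223637, 37),
  (228401, 6, 70142, 24),
  (228403, 5, 78318, 24),
  (228405, 6, 86494, 24),
  (228407, 6, 123179, 25),
  (228409, 6, 88375, 4),
  (228411, 6, 111022, 24),
  (228413, 6, 146611, 5),
  (228415, 6, 127374, 24),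
  (228481, 5, 223537, 37),
  (228483, 6, 220469, 1),
  (228485, 6, 178422, 24),
  (228487, 6, 97599, 6),
  (228489, 6, 162038, 24),
  (228491, 6, 128475, 25),
  (228493, 6, 145654, 24),
  (228495, 5, 223541, 37),
  (228497, 6, 208091, 22),
  (228499, 6, 252022, 24),
  (228501, 6, 243830, 24),
  (228503, 6, 89407, 6),
  (228505, 6, 90399, 12),
  (228507, 6, 219254, 24),
  (228509, 6, 211062, 24),
  (228511, 6, 67707, 19),
  (228513, 5, 223393, 37),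
  (228515, 6, 194011, 25),
  (228517, 6, 236821, 22),
  (228519, 6, 185819, 25),
  (228521, 6, 112945, 26),
  (228523, 6, 129297, 26),
  (228525, 6, 112953, 26),
  (228527, 5, 171271, 40),
  (228529, 5, 223249, 37),
  (228531, 6, 194705, 26),
  (228533, 6, 244086, 24),
  (228535, 5, 97593, 12),
  (228537, 6, 163201, 3),
  (228539, 6, 212269, 1),
  (228541, 6, 211318, 24),
  (228543, 5, 223253, 37),
  (228609, 6, 203130, 24),
  (228611, 6, 211306, 24),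
  (228613, 6, 239887, 22),
  (228615, 6, 204081, 15),
  (228617, 6, 235834, 24),
  (228619, 6, 244010, 24),
  (228621, 6, 32159, 16),
  (228623, 6, 21853, 20),
  (228625, 6, 203258, 24),
  (228627, 6, 211434, 24),
  (228629, 6, 219610, 24),
  (228631, 6, 30117, 1),
  (228633, 6, 212019, 10),
  (228635, 5, 163207, 11),
  (228637, 6, 252314, 24),
  (228639, 6, 260490, 24),
  (228641, 6, 248111, 23),
  (228643, 6, 80234, 24),
  (228645, 6, 11517, 19),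
  (228647, 6, 146623, 6),
  (228649, 6, 155823, 12),
  (228651, 6, 112938, 24),
  (228653, 6, 19805, 20),
  (228655, 6, 129290, 24),
  (228657, 6, 72186, 24),
  (228659, 6, 80362, 24),
  (228661, 6, 212399, 13),
  (228663, 6, 96714, 24),
  (228665, 6, 97665, 3),
  (228667, 6, 113066, 24),
  (228669, 6, 247149, 23),
  (228671, 6, 129418, 24),
  (228737, 6, 192758, 24),
  (228739, 6, 184566, 24),
  (228741, 6, 146611, 2),
  (228743, 6, 145587, 2),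
  (228745, 6, 188909, 26),
  (228747, 5, 151798, 24),
  (228749, 6, 143606, 24),
  (228751, 7, 152669, 20),
  (228753, 6, 122305, 23),
  (228755, 6, 249974, 24),
  (228757, 6, 241782, 24),
  (228759, 6, 212385, 15),
  (228761, 6, 199903, 22),
  (228763, 6, 163007, 17),
  (228765, 6, 209014, 24),
  (228767, 6, 220355, 23),
  (228769, 5, 223489, 37),
  (228771, 5, 163213, 7),
  (228773, 6, 176630, 24),
  (228775, 6, 168438, 24),
  (228777, 6, 220469, 11),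
  (228779, 6, 152054, 24),
  (228781, 6, 97599, 16),
  (228783, 6, 96575, 16),
  (228785, 6, 52721, 21),
  (228787, 5, 74221, 26),
  (228789, 6, 146863, 13),
  (228791, 6, 233846, 24),
  (228793, 7, 254359, 21),
  (228795, 6, 90543, 8),
  (228797, 6, 156063, 7),
  (228799, 6, 99693, 23),
  (229377, 4, 4111, 24),
  (229378, 4, 120, 22),
  (229380, 4, 1039, 26),
  (229383, 5, 455, 6),
  (229384, 4, 32839, 24),
  (229387, 6, 197050, 23),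
  (229389, 6, 229651, 20),
  (229390, 7, 145683, 25),
  (229392, 4, 135, 24),
  (229395, 6, 29060, 23),
  (229397, 6, 35221, 12),
  (229398, 6, 197078, 15),
  (229401, 5, 241921, 14),
  (229402, 6, 242138, 3),
  (229404, 4, 164010, 19),
  (229407, 6, 175515, 1),
  (229408, 4, 33863, 26),
  (229411, 6, 143391, 24),
  (229413, 6, 20852, 21),
  (229414, 6, 246246, 3),
  (229417, 4, 229658, 20),
  (229418, 5, 250146, 14),
  (229420, 6, 249932, 12),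
  (229423, 6, 172199, 19),
  (229425, 6, 173399, 26),
  (229426, 5, 213330, 2),
  (229428, 6, 205028, 1),
  (229431, 6, 125099, 40),
  (229432, 6, 30727, 22),
  (229435, 6, 246078, 20),
  (229437, 7, 20855, 21),
  (229438, 6, 252094, 16),
  (229441, 4, 229762, 20),
  (229442, 4, 6151, 25),
  (229444, 3, 15, 26),
  (229447, 6, 36295, 12),
  (229448, 5, 35847, 24),
  (229451, 4, 229782, 20),
  (229453, 6, 20857, 21),
  (229454, 6, 82095, 26),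
  (229456, 4, 34887, 25),
  (229459, 6, 155959, 26),
  (229461, 4, 20858, 21),
  (229462, 3, 204870, 12),
  (229465, 6, 205207, 26),
  (229466, 4, 141614, 23),
  (229468, 6, 168404, 4),
  (229471, 6, 242901, 13),
  (229472, 4, 32839, 26),
  (229475, 6, 20732, 21),
  (229477, 6, 61649, 23),
  (229478, 3, 213478, 3),
  (229481, 6, 172452, 19),
  (229482, 6, 233890, 15),
  (229484, 6, 172450, 19),
  (229487, 6, 63910, 22),
  (229489, 6, 246186, 20),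
  (229490, 6, 156114, 10),
  (229492, 6, 90596, 11),
  (229495, 6, 129271, 25),
  (229496, 6, 229831, 26),
  (229499, 6, 252391, 25),
  (229501, 6, 172462, 19),
  (229502, 6, 178362, 11),
  (229505, 5, 5133, 24),
  (229506, 4, 1039, 25),
  (229508, 4, 3083, 26),
  (229511, 6, 35267, 17),
  (229512, 5, 33861, 24),
  (229515, 6, 213402, 23),
  (229517, 6, 35273, 17),
  (229518, 4, 180506, 23),
  (229520, 4, 33799, 25),
  (229523, 4, 28898, 21),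
  (229525, 7, 61668, 23),
  (229526, 6, 61577, 22),
  (229529, 6, 181255, 25),
  (229530, 6, 28835, 21),
  (229532, 6, 242076, 17),
  (229535, 6, 248222, 23),
  (229536, 4, 35907, 26),
  (229539, 4, 61706, 22),
  (229541, 5, 247877, 5),
  (229542, 4, 61578, 22),
  (229545, 6, 250273, 14),
  (229546, 5, 98588, 20),
  (229548, 3, 213068, 14),
  (229551, 6, 252323, 14),
  (229553, 4, 172236, 19),
  (229554, 4, 114988, 20),
  (229556, 6, 114985, 20),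
  (229559, 6, 191867, 26),
  (229560, 6, 74216, 13),
  (229563, 6, 193681, 13),
  (229565, 6, 241115, 26),
  (229566, 5, 186626, 38),
  (229569, 4, 6151, 24),
  (229570, 4, 3083, 25),
  (229572, 5, 2059, 26),
  (229575, 6, 30727, 24),
  (229576, 4, 34823, 24),
  (229579, 6, 201801, 5),
  (229581, 6, 196941, 16),
  (229582, 4, 106620, 22),
  (229584, 4, 35843, 25),
  (229587, 5, 238993, 8),
  (229589, 4, 61684, 23),
  (229590, 5, 61812, 23),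
  (229593, 5, 473, 17),
  (229594, 4, 474, 17),
  (229596, 4, 164330, 19),
  (229599, 6, 245141, 8),
  (229600, 5, 34883, 26),
  (229603, 6, 14599, 24),
  (229605, 5, 29036, 21),
  (229606, 6, 231782, 7),
  (229609, 6, 98714, 20),
  (229610, 6, 213098, 8),
  (229612, 6, 28973, 21),
  (229615, 6, 63918, 22),
  (229617, 5, 115114, 20),
  (229618, 6, 172489, 19),
  (229620, 4, 172490, 19),
  (229623, 6, 125963, 25),
  (229624, 6, 205160, 16),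
  (229627, 6, 248843, 25),
  (229629, 6, 205165, 16),
  (229630, 5, 67802, 37),
  (229633, 5, 6155, 24),
  (229634, 4, 7169, 25),
  (229636, 4, 7181, 26),
  (229639, 6, 31793, 25),
  (229640, 5, 34883, 24),
  (229643, 6, 34187, 1),
  (229645, 6, 159025, 25),
  (229646, 6, 235590, 1),
  (229648, 4, 35905, 25),
  (229651, 5, 238659, 4),
  (229653, 6, 4466, 21),
  (229654, 6, 4530, 21),
  (229657, 6, 242065, 13),
  (229658, 3, 205274, 4),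
  (229660, 5, 38966, 23),
  (229663, 6, 63739, 24),
  (229664, 4, 35845, 26),
  (229667, 6, 34273, 16),
  (229669, 6, 237574, 19),
  (229670, 5, 88326, 44),
  (229673, 6, 216481, 25),
  (229674, 5, 204161, 25),
  (229676, 6, 245836, 7),
  (229679, 6, 249005, 2),
  (229681, 5, 175109, 26),
  (229682, 6, 4278, 21),
  (229684, 5, 43226, 37),
  (229687, 6, 130289, 25),
  (229688, 6, 147928, 14),
  (229691, 5, 242795, 4),
  (229693, 6, 129313, 14),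
  (229694, 5, 252350, 16),
  (229697, 4, 5127, 24),
  (229698, 4, 7173, 25),
  (229700, 4, 7183, 26),
  (229703, 6, 213112, 23),
  (229704, 4, 33799, 24),
  (229707, 6, 4345, 21),
  (229709, 6, 35273, 1),
  (229710, 6, 202822, 1),
  (229712, 4, 35909, 25),
  (229715, 6, 246246, 20),
  (229717, 6, 4474, 21),
  (229718, 5, 174450, 41),
  (229721, 6, 4219, 21),
  (229722, 6, 196826, 17),
  (229724, 5, 203791, 26),
  (229727, 6, 240845, 2),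
  (229728, 5, 35847, 26),
  (229731, 6, 4348, 21),
  (229733, 5, 248225, 7),
  (229734, 5, 166306, 11),
  (229737, 5, 489, 16),
  (229738, 5, 63542, 22),
  (229740, 3, 213068, 7),
  (229743, 6, 237863, 19),
  (229745, 5, 117989, 25),
  (229746, 5, 71766, 37),
  (229748, 6, 4414, 21),
  (229751, 6, 195599, 26),
  (229752, 6, 232901, 25),
  (229755, 6, 213211, 17),
  (229757, 5, 252337, 7),
  (229758, 6, 219254, 1),
  (229761, 4, 7177, 24),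
  (229762, 3, 15, 25),
  (229764, 5, 5133, 26),
  (229767, 6, 232903, 15),
  (229768, 4, 35905, 24),
  (229771, 6, 12513, 21),
  (229773, 4, 229478, 19),
  (229774, 6, 139279, 25),
  (229776, 4, 32775, 25),
  (229779, 7, 204867, 6),
  (229781, 6, 23721, 24),
  (229782, 3, 204870, 6),
  (229785, 6, 115058, 20),
  (229786, 5, 209242, 11),
  (229788, 6, 242004, 2),
  (229791, 6, 252310, 23),
  (229792, 5, 33797, 26),
  (229795, 4, 12516, 21),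
  (229797, 6, 90119, 25),
  (229798, 4, 486, 15),
  (229801, 6, 212999, 25),
  (229802, 6, 102698, 7),
  (229804, 5, 30878, 22),
  (229807, 6, 63902, 22),
  (229809, 6, 237644, 19),
  (229810, 6, 156114, 4),
  (229812, 6, 90596, 5),
  (229815, 6, 193549, 26),
  (229816, 6, 30751, 22),
  (229819, 6, 115070, 20),
  (229821, 6, 242701, 26),
  (229822, 6, 88538, 2),
  (229825, 4, 4103, 24),
  (229826, 5, 2059, 25),
  (229828, 4, 5135, 26),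
  (229831, 5, 455, 3),
  (229832, 4, 32775, 24),
  (229835, 6, 229733, 19),
  (229837, 6, 196668, 22),
  (229838, 6, 87055, 26),
  (229840, 5, 34819, 25),
  (229843, 6, 12522, 21),
  (229845, 6, 86151, 24),
  (229846, 6, 237574, 6),
  (229849, 4, 229740, 19),
  (229850, 6, 37266, 15),
  (229852, 6, 63494, 23),
  (229855, 6, 12779, 21),
  (229856, 4, 33799, 26),
  (229859, 6, 245763, 6),
  (229861, 6, 29114, 22),
  (229862, 6, 33190, 15),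
  (229865, 6, 213481, 15),
  (229866, 4, 98780, 20),
  (229868, 6, 249860, 6),
  (229871, 6, 118091, 1),
  (229873, 7, 115178, 20),
  (229874, 6, 213234, 1),
  (229876, 5, 205172, 2),
  (229879, 6, 189551, 41),
  (229880, 6, 230407, 26),
  (229883, 6, 115198, 20),
  (229885, 6, 237934, 19),
  (229886, 6, 178418, 5),
  (230405, 6, 9279, 26),
  (230407, 5, 181321, 38),
  (230409, 4, 231698, 20),
  (230411, 4, 192572, 22),
  (230417, 6, 182343, 40),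
  (230419, 6, 28993, 22),
  (230429, 6, 39319, 12),
  (230431, 6, 240733, 15),
  (230433, 6, 42103, 26),
  (230435, 4, 84139, 25),
  (230445, 6, 184447, 24),
  (230447, 7, 231711, 20),
  (230453, 6, 73183, 19),
  (230455, 6, 82295, 10),
  (230457, 6, 252395, 25),
  (230459, 6, 248299, 25),
  (230469, 6, 8255, 26),
  (230471, 6, 34183, 6),
  (230473, 4, 143484, 22),
  (230475, 5, 204970, 23),
  (230481, 4, 86138, 21),
  (230483, 6, 86266, 21),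
  (230493, 6, 108974, 23),
  (230495, 6, 175577, 1),
  (230497, 6, 231818, 20),
  (230499, 6, 34273, 12),
  (230509, 6, 63974, 22),
  (230511, 6, 31206, 22),
  (230517, 6, 175281, 11),
  (230519, 6, 248239, 20),
  (230521, 6, 250035, 7),
  (230523, 6, 139755, 16),
  (230533, 6, 232833, 14),
  (230535, 6, 59815, 39),
  (230537, 6, 34187, 2),
  (230539, 6, 213146, 23),
  (230545, 6, 5277, 24),
  (230547, 6, 158995, 26),
  (230557, 6, 117150, 23),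
  (230559, 6, 247966, 23),
  (230561, 5, 202001, 42),
  (230563, 6, 87055, 25),
  (230573, 6, 185837, 3),
  (230575, 6, 194017, 23),
  (230581, 5, 248919, 5),
  (230583, 6, 94694, 21),
  (230585, 6, 250887, 25),
  (230587, 6, 117054, 20),
  (230597, 6, 36295, 2),
  (230599, 7, 31755, 25),
  (230601, 6, 90506, 23),
  (230603, 6, 196939, 16),
  (230609, 4, 117154, 20),
  (230611, 6, 29033, 22),
  (230621, 6, 125326, 23),
  (230623, 6, 3547, 17),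
  (230625, 6, 43123, 26),
  (230627, 4, 94444, 21),
  (230637, 5, 220239, 5),
  (230639, 6, 194033, 23),
  (230645, 6, 240689, 11),
  (230647, 5, 79113, 44),
  (230649, 7, 240115, 26),
  (230651, 6, 185521, 7),
  (230661, 6, 35203, 1),
  (230663, 6, 36225, 1),
  (230665, 6, 93221, 26),
  (230667, 6, 169089, 12),
  (230673, 5, 248162, 20),
  (230675, 7, 69874, 21),
  (230685, 6, 104886, 23),
  (230687, 5, 235702, 23),
  (230689, 5, 30789, 43),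
  (230691, 6, 231758, 20),
  (230701, 6, 63958, 22),
  (230703, 6, 31190, 22),
  (230709, 6, 77175, 8),
  (230711, 6, 60817, 1),
  (230713, 6, 128289, 14),
  (230715, 5, 79235, 44),
  (230725, 6, 35267, 1),
  (230727, 5, 455, 16),
  (230729, 6, 196939, 15),
  (230731, 6, 201801, 4),
  (230737, 6, 78999, 24),
  (230739, 6, 160156, 23),
  (230749, 6, 113062, 23),
  (230751, 6, 242135, 13),
  (230753, 4, 133333, 19),
  (230755, 6, 147907, 5),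
  (230765, 6, 252323, 7),
  (230767, 6, 126417, 19),
  (230773, 5, 78899, 44),
  (230775, 6, 126205, 25),
  (230777, 6, 250939, 10),
  (230779, 5, 181289, 38),
  (230789, 6, 213112, 22),
  (230791, 6, 74104, 23),
  (230793, 5, 181611, 38),
  (230795, 6, 230857, 15),
  (230801, 5, 30785, 43),
  (230803, 7, 117094, 20),
  (230813, 6, 81367, 8),
  (230815, 6, 192527, 25),
  (230817, 6, 35221, 19),
  (230819, 6, 42021, 26),
  (230829, 6, 193769, 23),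
  (230831, 6, 249325, 15),
  (230837, 6, 78182, 21),
  (230839, 5, 212433, 19),
  (230841, 6, 117114, 20),
  (230843, 6, 249871, 25),
  (230853, 6, 196984, 23),
  (230855, 6, 65863, 16),
  (230857, 5, 79131, 44),
  (230859, 6, 84417, 19),
  (230865, 7, 238593, 6),
  (230867, 5, 78058, 21),
  (230877, 6, 129414, 23),
  (230879, 6, 208349, 15),
  (230881, 6, 181475, 2),
  (230883, 6, 100814, 20),
  (230893, 6, 63998, 22),
  (230895, 6, 216557, 15),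
  (230901, 6, 78190, 21),
  (230903, 5, 78318, 21),
  (230905, 6, 117242, 20),
  (230907, 6, 251915, 25),
  (231427, 6, 34183, 12),
  (231431, 6, 196984, 22),
  (231433, 6, 78999, 26),
  (231434, 5, 235594, 12),
  (231437, 5, 107569, 41),
  (231438, 5, 16652, 43),
  (231441, 6, 72142, 19),
  (231442, 6, 126977, 22),
  (231445, 6, 20623, 24),
  (231446, 6, 100833, 20),
  (231451, 6, 38295, 12),
  (231455, 6, 199166, 23),
  (231457, 4, 151668, 21),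
  (231458, 5, 154030, 43),
  (231461, 6, 92323, 25),
  (231462, 5, 166306, 7),
  (231467, 6, 38311, 12),
  (231471, 6, 129414, 22),
  (231475, 5, 151798, 21),
  (231479, 6, 152054, 21),
  (231481, 6, 243159, 26),
  (231482, 6, 129031, 22),
  (231485, 6, 243167, 26),
  (231486, 6, 252090, 16),
  (231491, 6, 147928, 22),
  (231495, 6, 28735, 26),
  (231497, 6, 203209, 3),
  (231498, 4, 172394, 23),
  (231501, 5, 29825, 44),
  (231502, 6, 235910, 15),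
  (231505, 6, 51319, 25),
  (231506, 4, 29012, 23),
  (231509, 6, 34273, 20),
  (231510, 6, 151994, 21),
  (231515, 6, 211419, 3),
  (231519, 6, 165295, 19),
  (231521, 6, 84151, 25),
  (231522, 6, 147910, 10),
  (231525, 5, 58611, 39),
  (231526, 6, 173443, 19),
  (231531, 6, 127223, 26),
  (231535, 6, 216171, 15),
  (231539, 5, 220239, 20),
  (231543, 6, 152062, 21),
  (231545, 6, 242135, 26),
  (231546, 6, 250343, 26),
  (231549, 6, 129362, 19),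
  (231550, 6, 173483, 19),
  (231555, 7, 134599, 20),
  (231559, 6, 36225, 2),
  (231561, 6, 221372, 22),
  (231562, 6, 235910, 14),
  (231565, 6, 155836, 22),
  (231566, 5, 89259, 26),
  (231569, 4, 159842, 21),
  (231570, 6, 149957, 20),
  (231573, 6, 50199, 25),
  (231574, 6, 33238, 17),
  (231579, 6, 129293, 22),
  (231583, 5, 212433, 8),
  (231585, 7, 159844, 21),
  (231586, 6, 229670, 7),
  (231589, 5, 207186, 19),
  (231590, 6, 33190, 5),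
  (231595, 6, 252327, 14),
  (231599, 6, 129422, 22),
  (231603, 5, 107699, 41),
  (231607, 6, 60833, 2),
  (231609, 6, 113133, 4),
  (231610, 6, 184510, 16),
  (231613, 7, 246807, 25),
  (231614, 5, 20778, 38),
  (231619, 6, 202939, 42),
  (231623, 5, 455, 17),
  (231625, 6, 204988, 22),
  (231626, 6, 235534, 11),
  (231629, 6, 38951, 24),
  (231630, 6, 233870, 2),
  (231633, 7, 159850, 21),
  (231634, 5, 203050, 42),
  (231637, 5, 58579, 39),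
  (231638, 3, 204870, 8),
  (231643, 6, 129325, 22),
  (231647, 6, 183323, 25),
  (231649, 7, 213061, 5),
  (231650, 5, 166306, 15),
  (231653, 6, 6439, 24),
  (231654, 6, 246246, 14),
  (231659, 6, 129326, 22),
  (231663, 6, 129454, 22),
  (231667, 6, 159982, 21),
  (231671, 5, 241073, 8),
  (231673, 6, 252094, 19),
  (231674, 5, 135202, 38),
  (231677, 6, 244187, 26),
  (231678, 6, 244074, 7),
  (231683, 6, 232833, 13),
  (231687, 6, 34183, 1),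
  (231689, 6, 35273, 16),
  (231690, 6, 233542, 1),
  (231693, 6, 151740, 22),
  (231694, 4, 53500, 22),
  (231697, 6, 74069, 8),
  (231698, 3, 204870, 13),
  (231701, 4, 61580, 23),
  (231702, 4, 61708, 23),
  (231707, 6, 191639, 20),
  (231711, 6, 242767, 4),
  (231713, 6, 2518, 19),
  (231714, 6, 33190, 7),
  (231717, 6, 61577, 23),
  (231718, 4, 127122, 22),
  (231723, 6, 36329, 16),
  (231727, 6, 129430, 22),
  (231731, 6, 191501, 26),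
  (231735, 5, 152681, 38),
  (231737, 5, 152683, 38),
  (231738, 6, 249974, 1),
  (231741, 6, 57757, 1),
  (231742, 5, 20740, 43),
  (231747, 6, 36295, 1),
  (231751, 6, 232901, 13),
  (231753, 6, 196941, 15),
  (231754, 6, 153930, 43),
  (231757, 6, 159013, 25),
  (231758, 5, 39370, 7),
  (231761, 6, 137422, 19),
  (231762, 6, 237574, 13),
  (231765, 5, 58595, 39),
  (231766, 6, 240018, 4),
  (231771, 6, 244198, 23),
  (231775, 6, 211430, 23),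
  (231777, 6, 28889, 23),
  (231778, 6, 246246, 16),
  (231781, 4, 109010, 19),
  (231782, 5, 198830, 38),
  (231787, 5, 129334, 22),
  (231791, 6, 129462, 22),
  (231795, 6, 60887, 1),
  (231799, 6, 238863, 19),
  (231801, 5, 107745, 41),
  (231802, 5, 135204, 43),
  (231805, 6, 112945, 8),
  (231806, 5, 127334, 14),
  (231811, 6, 35267, 3),
  (231815, 6, 16415, 25),
  (231817, 5, 213180, 22),
  (231818, 5, 39370, 3),
  (231821, 4, 86226, 23),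
  (231822, 5, 131372, 43),
  (231825, 6, 39310, 19),
  (231826, 5, 29036, 23),
  (231829, 6, 203202, 19),
  (231830, 5, 207042, 13),
  (231835, 6, 252374, 23),
  (231839, 6, 241115, 15),
  (231841, 6, 143460, 21),
  (231842, 6, 147910, 4),
  (231845, 4, 81943, 25),
  (231846, 5, 238659, 19),
  (231851, 6, 121255, 14),
  (231855, 6, 129438, 22),
  (231859, 6, 238669, 19),
  (231863, 6, 205175, 11),
  (231865, 6, 243949, 4),
  (231866, 6, 143527, 21),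
  (231869, 6, 241901, 4),
  (231870, 5, 252146, 1),
  (231875, 5, 29851, 44),
  (231879, 6, 230727, 19),
  (231881, 5, 127170, 23),
  (231882, 4, 192834, 23),
  (231885, 5, 84418, 19),
  (231886, 6, 39302, 15),
  (231889, 4, 143466, 21),
  (231890, 6, 74070, 10),
  (231893, 6, 51219, 25),
  (231894, 6, 174482, 4),
  (231899, 7, 222223, 26),
  (231903, 6, 208347, 15),
  (231905, 7, 247809, 6),
  (231906, 5, 127034, 22),
  (231909, 6, 153891, 43),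
  (231910, 6, 215266, 1),
  (231915, 6, 129342, 22),
  (231919, 6, 216555, 15),
  (231923, 6, 126295, 1),
  (231927, 6, 138465, 20),
  (231929, 6, 238607, 26),
  (231930, 6, 121246, 2),
  (231933, 6, 242695, 26),
  (231934, 6, 250887, 26),
  (232449, 5, 149505, 38),
  (232451, 7, 18491, 25),
  (232453, 5, 136593, 44),
  (232455, 6, 36225, 12),
  (232473, 6, 100862, 23),
  (232475, 6, 217331, 21),
  (232477, 6, 129477, 22),
  (232479, 6, 96709, 22),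
  (232489, 6, 118221, 17),
  (232491, 5, 220389, 7),
  (232493, 6, 129478, 22),
  (232495, 6, 96710, 22),
  (232497, 7, 152783, 20),
  (232499, 6, 205175, 8),
  (232501, 6, 213239, 7),
  (232503, 5, 244051, 19),
  (232513, 6, 36225, 6),
  (232515, 6, 18495, 25),
  (232517, 6, 35267, 12),
  (232519, 5, 149509, 38),
  (232537, 5, 71917, 43),
  (232539, 5, 243923, 13),
  (232541, 6, 212445, 3),
  (232543, 7, 105655, 24),
  (232553, 6, 37351, 12),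
  (232555, 6, 220651, 3),
  (232557, 5, 75161, 37),
  (232559, 5, 96742, 22),
  (232561, 6, 217214, 21),
  (232563, 6, 220235, 20),
  (232565, 6, 127459, 22),
  (232567, 6, 192917, 23),
  (232577, 5, 149905, 38),
  (232579, 6, 36295, 17),
  (232581, 6, 21527, 25),
  (232583, 6, 35203, 2),
  (232601, 5, 212061, 11),
  (232603, 6, 46317, 24),
  (232605, 5, 34269, 17),
  (232607, 6, 215262, 23),
  (232617, 7, 225381, 21),
  (232619, 6, 96590, 22),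
  (232621, 5, 251301, 14),
  (232623, 6, 96718, 22),
  (232625, 5, 136201, 44),
  (232627, 6, 52695, 17),
  (232629, 6, 191639, 13),
  (232631, 6, 148725, 7),
  (232641, 6, 232901, 14),
  (232643, 6, 232903, 14),
  (232645, 6, 90568, 23),
  (232647, 5, 136525, 44),
  (232665, 6, 211379, 26),
  (232667, 6, 256206, 23),
  (232669, 6, 129517, 22),
  (232671, 6, 223438, 23),
  (232681, 6, 129390, 22),
  (232683, 6, 55607, 24),
  (232685, 6, 220235, 5),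
  (232687, 6, 39223, 24),
  (232689, 6, 191699, 13),
  (232691, 5, 240695, 11),
  (232693, 6, 192693, 23),
  (232695, 5, 149765, 38),
  (232705, 6, 27693, 26),
  (232707, 6, 35267, 16),
  (232709, 6, 36295, 16),
  (232711, 6, 231875, 19),
  (232729, 5, 243791, 4),
  (232731, 6, 235766, 23),
  (232733, 5, 136553, 44),
  (232735, 6, 244119, 13),
  (232745, 6, 129366, 22),
  (232747, 5, 35307, 16),
  (232749, 5, 74867, 37),
  (232751, 6, 96726, 22),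
  (232753, 5, 136195, 44),
  (232755, 6, 200950, 21),
  (232757, 6, 195621, 26),
  (232759, 6, 244179, 19),
  (232769, 6, 230407, 20),
  (232771, 6, 131527, 5),
  (232773, 6, 232903, 13),
  (232775, 6, 27693, 25),
  (232793, 6, 113126, 23),
  (232795, 6, 243942, 23),
  (232797, 5, 75033, 37),
  (232799, 6, 211174, 23),
  (232809, 6, 3563, 16),
  (232811, 6, 96630, 22),
  (232813, 5, 74809, 37),
  (232815, 5, 251301, 7),
  (232817, 6, 250895, 20),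
  (232819, 6, 247859, 10),
  (232821, 7, 7653, 20),
  (232823, 5, 149541, 38),
  (232833, 5, 149793, 38),
  (232835, 6, 167299, 20),
  (232837, 6, 147704, 22),
  (232839, 6, 36295, 3),
  (232857, 5, 121302, 23),
  (232859, 6, 239069, 15),
  (232861, 5, 74851, 37),
  (232863, 6, 241113, 15),
  (232873, 7, 161001, 23),
  (232875, 6, 100715, 16),
  (232877, 6, 220229, 6),
  (232879, 5, 43273, 40),
  (232881, 6, 208998, 21),
  (232883, 6, 212435, 19),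
  (232885, 6, 209254, 21),
  (232887, 6, 94683, 22),
  (232897, 6, 232449, 6),
  (232899, 7, 30747, 25),
  (232901, 5, 50387, 41),
  (232903, 5, 149797, 38),
  (232921, 6, 129478, 23),
  (232923, 5, 212173, 4),
  (232925, 6, 96710, 23),
  (232927, 6, 227526, 23),
  (232937, 6, 161017, 23),
  (232939, 6, 209133, 21),
  (232941, 6, 193721, 23),
  (232943, 6, 96766, 22),
  (232945, 5, 251151, 20),
  (232947, 6, 213335, 5),
  (232949, 6, 205031, 4),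
  (232951, 6, 209390, 21),
  (233475, 6, 12383, 24),
  (233477, 6, 29060, 22),
  (233478, 6, 17583, 26),
  (233483, 6, 34187, 12),
  (233485, 5, 76867, 37),
  (233486, 5, 2194, 37),
  (233489, 6, 254242, 20),
  (233490, 6, 91291, 21),
  (233492, 6, 205004, 1),
  (233495, 6, 227450, 23),
  (233497, 6, 206103, 26),
  (233498, 6, 143570, 11),
  (233500, 6, 197903, 26),
  (233503, 6, 242135, 3),
  (233505, 6, 84387, 25),
  (233506, 6, 131306, 11),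
  (233508, 6, 147559, 24),
  (233511, 7, 62915, 23),
  (233513, 6, 237850, 20),
  (233514, 6, 249922, 12),
  (233516, 6, 233764, 17),
  (233519, 5, 174413, 40),
  (233523, 6, 121315, 25),
  (233525, 6, 82301, 10),
  (233526, 6, 247998, 16),
  (233531, 7, 63747, 22),
  (233533, 6, 61639, 23),
  (233534, 5, 243923, 25),
  (233539, 6, 37259, 6),
  (233541, 4, 86138, 23),
  (233542, 5, 75926, 37),
  (233547, 6, 90167, 26),
  (233549, 6, 213404, 22),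
  (233550, 6, 145431, 25),
  (233553, 4, 139671, 26),
  (233554, 3, 205274, 3),
  (233556, 3, 205276, 3),
  (233559, 6, 219258, 23),
  (233561, 6, 28822, 23),
  (233562, 6, 254388, 20),
  (233564, 5, 174182, 40),
  (233567, 6, 61910, 23),
  (233569, 5, 250217, 14),
  (233570, 3, 213066, 12),
  (233572, 3, 213068, 12),
  (233575, 6, 61862, 22),
  (233577, 6, 237978, 20),
  (233578, 6, 237980, 20),
  (233580, 4, 30882, 22),
  (233583, 6, 232749, 8),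
  (233587, 6, 30103, 23),
  (233589, 6, 188814, 19),
  (233590, 6, 126407, 24),
  (233595, 6, 120113, 10),
  (233597, 6, 178353, 11),
  (233598, 6, 162026, 8),
  (233603, 4, 61708, 22),
  (233605, 6, 180569, 21),
  (233606, 4, 61580, 22),
  (233611, 6, 110649, 21),
  (233613, 6, 201140, 22),
  (233614, 5, 39370, 17),
  (233617, 6, 142739, 26),
  (233618, 6, 143570, 4),
  (233620, 6, 66012, 10),
  (233623, 6, 212445, 8),
  (233625, 5, 180460, 19)]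

theorem chk_rows2_25 : rows2_25.all (rowBP tr2 gensLitP 72) = true := by decide +kernel

/-- Rows 39000 to 40499. -/
def rows2_26 : List (ℕ × ℕ × ℕ × ℕ) := [(233626, 6, 74058, 6),
  (233628, 5, 88458, 43),
  (233631, 6, 39387, 17),
  (233633, 4, 28942, 22),
  (233634, 6, 61454, 22),
  (233636, 4, 28814, 22),
  (233639, 6, 248909, 5),
  (233641, 6, 28835, 23),
  (233642, 6, 82250, 6),
  (233644, 5, 88458, 38),
  (233647, 5, 88169, 43),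
  (233651, 5, 115891, 41),
  (233653, 6, 123179, 20),
  (233654, 5, 45262, 37),
  (233659, 6, 123198, 20),
  (233661, 6, 61671, 23),
  (233662, 5, 163860, 40),
  (233667, 6, 200762, 23),
  (233669, 7, 69754, 23),
  (233670, 5, 39370, 5),
  (233675, 6, 180709, 19),
  (233677, 4, 61682, 23),
  (233678, 5, 61810, 23),
  (233681, 6, 71738, 23),
  (233682, 5, 209242, 10),
  (233684, 6, 139740, 3),
  (233687, 5, 174109, 40),
  (233689, 5, 28854, 23),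
  (233690, 4, 28982, 23),
  (233692, 6, 61558, 23),
  (233695, 6, 6619, 17),
  (233697, 4, 106890, 20),
  (233698, 5, 174374, 40),
  (233700, 6, 249860, 14),
  (233703, 6, 216141, 5),
  (233705, 7, 31018, 22),
  (233706, 6, 246250, 14),
  (233708, 6, 77059, 25),
  (233711, 6, 220229, 5),
  (233715, 6, 61743, 22),
  (233717, 6, 174555, 26),
  (233718, 5, 67734, 37),
  (233723, 6, 189657, 13),
  (233725, 5, 144521, 44),
  (233726, 5, 254116, 40),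
  (233731, 6, 221242, 23),
  (233733, 6, 245766, 19),
  (233734, 6, 202822, 13),
  (233739, 6, 245797, 19),
  (233741, 4, 245798, 19),
  (233742, 6, 235910, 16),
  (233745, 5, 233633, 42),
  (233746, 6, 254308, 20),
  (233748, 6, 242076, 13),
  (233751, 6, 223354, 23),
  (233753, 4, 28814, 23),
  (233754, 4, 28942, 23),
  (233756, 6, 66012, 15),
  (233759, 6, 77149, 8),
  (233761, 6, 253956, 19),
  (233762, 6, 82250, 2),
  (233764, 5, 174450, 40),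
  (233767, 6, 220651, 7),
  (233769, 5, 250217, 15),
  (233770, 4, 63506, 22),
  (233772, 6, 37356, 16),
  (233775, 5, 88165, 43),
  (233779, 6, 254318, 20),
  (233781, 6, 129321, 14),
  (233782, 6, 243898, 5),
  (233787, 5, 144771, 44),
  (233789, 5, 252121, 17),
  (233790, 5, 67602, 37),
  (233795, 5, 238022, 20),
  (233797, 6, 238019, 20),
  (233798, 6, 235910, 4),
  (233803, 6, 238038, 20),
  (233805, 6, 221580, 22),
  (233806, 6, 90316, 22),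
  (233809, 6, 204873, 4),
  (233810, 6, 242066, 4),
  (233812, 4, 246026, 19),
  (233815, 5, 233697, 42),
  (233817, 6, 254450, 20),
  (233818, 5, 88326, 43),
  (233820, 6, 139740, 2),
  (233823, 6, 239069, 13),
  (233825, 4, 28982, 22),
  (233826, 6, 246250, 16),
  (233828, 4, 254210, 19),
  (233831, 6, 199787, 4),
  (233833, 5, 88293, 43),
  (233834, 6, 213098, 1),
  (233836, 5, 217412, 12),
  (233839, 6, 63922, 22),
  (233843, 6, 169211, 12),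
  (233845, 5, 76997, 37),
  (233846, 5, 10390, 37),
  (233851, 6, 107833, 8),
  (233853, 6, 254254, 19),
  (233854, 5, 27102, 10),
  (233859, 6, 196939, 11),
  (233861, 6, 155911, 25),
  (233862, 7, 61596, 22),
  (233867, 5, 143716, 22),
  (233869, 6, 24839, 25),
  (233870, 5, 2342, 38),
  (233873, 6, 245836, 19),
  (233874, 4, 141370, 23),
  (233876, 6, 245834, 19),
  (233879, 6, 81373, 8),
  (233881, 6, 204873, 6),
  (233882, 4, 474, 15),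
  (233884, 4, 204876, 6),
  (233887, 6, 63897, 22),
  (233889, 6, 28958, 22),
  (233890, 5, 88482, 43),
  (233892, 5, 217412, 14),
  (233895, 6, 61854, 22),
  (233897, 4, 106842, 20),
  (233898, 3, 213066, 6),
  (233900, 3, 213068, 6),
  (233903, 6, 63898, 22),
  (233907, 6, 205179, 11),
  (233909, 6, 213245, 10),
  (233910, 6, 178362, 5),
  (233915, 6, 130073, 21),
  (233917, 6, 187561, 24),
  (233918, 6, 191665, 24),
  (233923, 5, 144539, 44),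
  (233925, 6, 203205, 15),
  (233926, 5, 2198, 37),
  (233931, 6, 29114, 23),
  (233933, 6, 106963, 20),
  (233934, 7, 24647, 24),
  (233937, 6, 102599, 24),
  (233938, 6, 237850, 11),
  (233940, 6, 205260, 12),
  (233943, 5, 88257, 43),
  (233945, 7, 28862, 23),
  (233946, 6, 73927, 24),
  (233948, 6, 237580, 6),
  (233951, 7, 94407, 24),
  (233953, 7, 28990, 22),
  (233954, 6, 198923, 25),
  (233956, 6, 207107, 25),
  (233959, 6, 249871, 6),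
  (233961, 6, 254308, 19),
  (233962, 6, 82250, 10),
  (233964, 6, 157721, 21),
  (233967, 6, 63930, 22),
  (233971, 6, 122103, 21),
  (233973, 6, 254286, 19),
  (233974, 5, 251023, 26),
  (233979, 6, 128347, 1),
  (233981, 6, 177295, 26),
  (233982, 6, 194974, 4),
  (234497, 6, 230857, 3),
  (234499, 7, 28996, 22),
  (234505, 6, 74807, 26),
  (234507, 6, 196939, 8),
  (234517, 6, 239069, 3),
  (234519, 6, 96634, 23),
  (234525, 6, 70999, 10),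
  (234527, 6, 243159, 3),
  (234533, 5, 251023, 13),
  (234535, 6, 121255, 2),
  (234541, 5, 35247, 12),
  (234543, 5, 25841, 39),
  (234545, 6, 120273, 17),
  (234547, 6, 256302, 20),
  (234553, 6, 159879, 23),
  (234555, 6, 205179, 8),
  (234561, 6, 61649, 21),
  (234563, 5, 21649, 44),
  (234569, 6, 240018, 20),
  (234571, 6, 34187, 6),
  (234581, 6, 219514, 23),
  (234583, 6, 156063, 26),
  (234589, 6, 63969, 22),
  (234591, 5, 212061, 15),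
  (234597, 6, 61926, 22),
  (234599, 5, 21835, 44),
  (234605, 6, 63970, 22),
  (234607, 6, 218599, 3),
  (234609, 6, 87505, 17),
  (234611, 6, 256430, 20),
  (234617, 6, 177329, 11),
  (234619, 6, 44201, 21),
  (234625, 6, 11443, 26),
  (234627, 4, 108806, 20),
  (234633, 6, 117125, 19),
  (234635, 6, 37259, 2),
  (234645, 6, 211322, 23),
  (234647, 6, 80250, 23),
  (234653, 5, 242873, 21),
  (234655, 6, 192998, 23),
  (234661, 6, 248911, 5),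
  (234663, 5, 137561, 43),
  (234669, 6, 192739, 23),
  (234671, 6, 31178, 22),
  (234673, 6, 251143, 25),
  (234675, 5, 251151, 25),
  (234681, 5, 147707, 7),
  (234683, 6, 125246, 20),
  (234689, 5, 108930, 20),
  (234691, 4, 69946, 23),
  (234697, 6, 230857, 14),
  (234699, 6, 41145, 21),
  (234709, 5, 244051, 1),
  (234711, 6, 244127, 8),
  (234717, 6, 7641, 17),
  (234719, 6, 241099, 14),
  (234725, 6, 186539, 7),
  (234727, 5, 220389, 15),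
  (234733, 5, 63978, 22),
  (234735, 6, 31210, 22),
  (234737, 6, 74219, 4),
  (234739, 6, 125358, 20),
  (234745, 6, 239987, 26),
  (234747, 6, 61931, 2),
  (234753, 4, 239938, 20),
  (234755, 4, 29012, 22),
  (234761, 6, 172332, 22),
  (234763, 6, 61577, 21),
  (234773, 6, 144589, 6),
  (234775, 5, 100585, 40),
  (234781, 6, 243779, 4),
  (234783, 6, 193673, 21),
  (234789, 6, 193739, 23),
  (234791, 6, 37351, 16),
  (234797, 6, 63954, 22),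
  (234799, 6, 192971, 23),
  (234801, 6, 251089, 17),
  (234803, 5, 128299, 14),
  (234809, 6, 218227, 10),
  (234811, 6, 64649, 21),
  (234817, 4, 133349, 19),
  (234819, 6, 37975, 24),
  (234825, 6, 123017, 21),
  (234827, 5, 198965, 42),
  (234837, 6, 13767, 16),
  (234839, 6, 177295, 6),
  (234845, 6, 106777, 37),
  (234847, 6, 192990, 23),
  (234853, 6, 5607, 16),
  (234855, 6, 194011, 23),
  (234861, 6, 21645, 44),
  (234863, 6, 224445, 25),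
  (234865, 5, 128361, 14),
  (234867, 5, 147931, 5),
  (234873, 6, 256506, 20),
  (234875, 6, 152019, 5),
  (234881, 6, 205114, 23),
  (234883, 6, 74042, 23),
  (234889, 6, 159914, 23),
  (234891, 5, 108886, 20),
  (234901, 6, 198747, 42),
  (234903, 6, 76154, 23),
  (234909, 5, 106595, 37),
  (234911, 6, 193006, 23),
  (234917, 6, 252391, 15),
  (234919, 6, 194027, 23),
  (234925, 6, 192747, 23),
  (234927, 5, 25793, 39),
  (234929, 6, 125290, 20),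
  (234931, 6, 161199, 23),
  (234937, 6, 125306, 20),
  (234939, 6, 124331, 14),
  (234945, 6, 91303, 26),
  (234947, 5, 21659, 44),
  (234953, 4, 109010, 20),
  (234955, 4, 192836, 22),
  (234965, 5, 199034, 23),
  (234967, 6, 113055, 8),
  (234973, 6, 192766, 23),
  (234975, 6, 212445, 15),
  (234981, 6, 186795, 7),
  (234983, 6, 220645, 15),
  (234989, 5, 100393, 40),
  (234991, 6, 232557, 12),
  (234993, 6, 205035, 4),
  (234995, 6, 213339, 5),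
  (235001, 6, 193771, 2),
  (235003, 6, 192747, 2),
  (235521, 5, 127034, 23),
  (235522, 4, 192570, 23),
  (235525, 4, 20559, 24),
  (235526, 6, 180296, 38),
  (235529, 5, 180299, 38),
  (235530, 4, 252, 22),
  (235533, 6, 196924, 22),
  (235534, 5, 131428, 40),
  (235539, 6, 242775, 15),
  (235543, 5, 180713, 38),
  (235547, 5, 34207, 12),
  (235551, 6, 111943, 4),
  (235555, 6, 248299, 3),
  (235559, 6, 127366, 22),
  (235563, 6, 185541, 5),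
  (235567, 5, 129410, 22),
  (235569, 6, 127397, 2),
  (235570, 5, 194790, 8),
  (235573, 6, 139517, 11),
  (235574, 6, 155863, 24),
  (235577, 6, 121309, 17),
  (235578, 5, 219478, 2),
  (235581, 6, 213245, 7),
  (235582, 5, 190938, 10),
  (235585, 4, 198886, 19),
  (235586, 4, 127012, 22),
  (235589, 6, 94628, 22),
  (235590, 5, 180228, 38),
  (235593, 6, 149559, 25),
  (235594, 4, 131356, 43),
  (235597, 6, 213276, 22),
  (235598, 5, 221652, 40),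
  (235603, 5, 198043, 42),
  (235607, 6, 127397, 22),
  (235611, 6, 129313, 22),
  (235615, 6, 211415, 3),
  (235619, 6, 189829, 19),
  (235623, 5, 78227, 37),
  (235627, 6, 129314, 22),
  (235631, 6, 26879, 39),
  (235633, 6, 117049, 10),
  (235634, 6, 248094, 2),
  (235637, 6, 129394, 19),
  (235638, 6, 162266, 10),
  (235641, 6, 121137, 10),
  (235642, 6, 208169, 21),
  (235645, 6, 113010, 19),
  (235646, 5, 178658, 7),
  (235649, 6, 49497, 21),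
  (235650, 6, 235590, 8),
  (235653, 6, 14583, 43),
  (235654, 6, 233542, 8),
  (235657, 4, 28898, 23),
  (235658, 5, 180692, 38),
  (235661, 4, 199010, 19),
  (235662, 6, 181475, 19),
  (235667, 6, 243770, 23),
  (235671, 5, 243834, 23),
  (235675, 6, 29158, 23),
  (235679, 6, 61862, 23),
  (235683, 6, 55751, 17),
  (235687, 6, 250287, 14),
  (235691, 6, 248239, 14),
  (235695, 5, 251151, 1),
  (235697, 6, 61861, 2),
  (235698, 6, 126991, 22),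
  (235701, 6, 151805, 7),
  (235702, 4, 114820, 40),
  (235705, 6, 121246, 19),
  (235706, 5, 180548, 38),
  (235709, 6, 147709, 7),
  (235710, 5, 164132, 40),
  (235713, 6, 158995, 25),
  (235714, 6, 202822, 8),
  (235717, 6, 173265, 20),
  (235718, 6, 134427, 25),
  (235721, 4, 247942, 19),
  (235722, 6, 235910, 2),
  (235725, 6, 217364, 22),
  (235726, 7, 260470, 44),
  (235731, 6, 120275, 21),
  (235735, 6, 175345, 20),
  (235739, 5, 51341, 40),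
  (235743, 6, 241049, 8),
  (235747, 6, 127278, 22),
  (235751, 5, 252117, 21),
  (235755, 6, 129322, 22),
  (235759, 6, 129450, 22),
  (235761, 6, 235710, 19),
  (235762, 5, 135554, 42),
  (235765, 5, 74221, 4),
  (235766, 5, 135554, 44),
  (235769, 5, 244051, 26),
  (235770, 5, 180488, 38),
  (235773, 6, 211309, 16),
  (235774, 6, 113066, 13),
  (235777, 5, 164941, 41),
  (235778, 6, 7441, 25),
  (235781, 6, 188537, 21),
  (235782, 5, 39370, 10),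
  (235785, 6, 38955, 24),
  (235786, 6, 8428, 22),
  (235789, 4, 61578, 23),
  (235790, 4, 61706, 23),
  (235795, 6, 224397, 26),
  (235799, 6, 165143, 41),
  (235803, 6, 241049, 13),
  (235807, 6, 129425, 22),
  (235811, 6, 127254, 22),
  (235815, 6, 77945, 37),
  (235819, 6, 121315, 3),
  (235823, 6, 249229, 13),
  (235825, 5, 252117, 17),
  (235826, 5, 78022, 37),
  (235829, 6, 260594, 19),
  (235830, 6, 67970, 42),
  (235833, 5, 74109, 8),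
  (235834, 5, 135306, 44),
  (235837, 6, 244210, 19),
  (235838, 5, 135306, 42),
  (235841, 7, 114746, 23),
  (235842, 7, 127028, 22),
  (235845, 6, 27941, 25),
  (235846, 5, 180346, 23),
  (235849, 4, 28890, 23),
  (235850, 6, 233870, 4),
  (235853, 4, 100834, 19),
  (235854, 3, 90188, 22),
  (235859, 6, 127285, 22),
  (235863, 6, 247930, 23),
  (235867, 6, 241113, 13),
  (235871, 6, 129457, 22),
  (235875, 6, 127286, 22),
  (235879, 6, 251311, 7),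
  (235883, 5, 14661, 43),
  (235887, 6, 88551, 3),
  (235889, 6, 137470, 19),
  (235890, 5, 163940, 40),
  (235893, 6, 112953, 8),
  (235894, 5, 200842, 44),
  (235897, 6, 106813, 8),
  (235898, 6, 98392, 37),
  (235901, 6, 154065, 5),
  (235902, 5, 129203, 22),
  (235905, 6, 35273, 3),
  (235906, 5, 172090, 23),
  (235909, 6, 196941, 11),
  (235910, 5, 180584, 38),
  (235913, 5, 180587, 38),
  (235914, 4, 12516, 22),
  (235917, 7, 61610, 23),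
  (235918, 5, 287, 25),
  (235923, 6, 243159, 15),
  (235927, 6, 239738, 23),
  (235931, 5, 77867, 37),
  (235935, 6, 61870, 23),
  (235939, 6, 146553, 24),
  (235943, 6, 62891, 23),
  (235947, 6, 90399, 25),
  (235951, 5, 220389, 10),
  (235953, 6, 52607, 21),
  (235954, 6, 129454, 14),
  (235957, 6, 194721, 2),
  (235958, 6, 158929, 24),
  (235961, 6, 55710, 19),
  (235962, 6, 175281, 24),
  (235965, 6, 219381, 10),
  (235966, 6, 162266, 4),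
  (235969, 6, 196941, 5),
  (235970, 5, 127036, 22),
  (235973, 7, 84450, 19),
  (235974, 5, 180516, 38),
  (235977, 6, 188697, 21),
  (235978, 5, 82020, 40),
  (235981, 6, 18707, 25),
  (235982, 5, 78046, 37),
  (235987, 5, 197659, 42),
  (235991, 6, 243727, 6),
  (235995, 6, 175577, 13),
  (235999, 6, 61886, 23),
  (236003, 6, 251915, 6),
  (236007, 6, 249005, 10),
  (236011, 6, 129338, 22),
  (236015, 6, 247823, 6),
  (236017, 6, 213341, 5),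
  (236018, 6, 117150, 2),
  (236021, 6, 94655, 22),
  (236022, 6, 127167, 22),
  (236025, 6, 186526, 19),
  (236026, 6, 90599, 24),
  (236029, 6, 190941, 13),
  (236030, 6, 243882, 13),
  (236561, 6, 37279, 12),
  (236563, 6, 241115, 3),
  (236565, 6, 242957, 14),
  (236567, 6, 255067, 21),
  (236569, 6, 227709, 43),
  (236571, 6, 160198, 23),
  (236573, 6, 194667, 25),
  (236575, 6, 238863, 14),
  (236577, 6, 127302, 22),
  (236579, 6, 170467, 16),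
  (236581, 6, 249325, 3),
  (236583, 6, 252047, 13),
  (236585, 6, 219323, 25),
  (236587, 6, 128087, 26),
  (236589, 6, 129474, 22),
  (236591, 6, 192527, 24),
  (236625, 6, 252218, 23),
  (236627, 6, 122103, 24),
  (236629, 6, 39387, 12),
  (236631, 6, 259155, 21),
  (236633, 5, 212433, 3),
  (236635, 5, 34269, 12),
  (236637, 6, 192662, 23),
  (236639, 6, 104803, 19),
  (236641, 5, 127334, 22),
  (236643, 6, 38381, 12),
  (236645, 6, 216557, 3),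
  (236647, 6, 121315, 2),
  (236649, 6, 129378, 22),
  (236651, 6, 249005, 7),
  (236653, 5, 35307, 12),
  (236655, 6, 36329, 12),
  (236689, 5, 5373, 24),
  (236691, 6, 242901, 15),
  (236693, 5, 243923, 15),
  (236695, 6, 113018, 23),
  (236697, 6, 157127, 20),
  (236699, 6, 204131, 19),
  (236701, 6, 129481, 22),
  (236703, 6, 112069, 4),
  (236705, 6, 127310, 22),
  (236707, 6, 117085, 21),
  (236709, 6, 204267, 8),
  (236711, 6, 251311, 14),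
  (236713, 6, 252175, 1),
  (236715, 6, 249927, 5),
  (236717, 6, 87319, 25),
  (236719, 6, 193549, 24),
  (236753, 6, 129271, 24),
  (236755, 6, 7639, 17),
  (236757, 7, 235898, 23),
  (236759, 6, 243029, 1),
  (236761, 6, 239007, 8),
  (236763, 6, 173497, 21),
  (236765, 6, 203859, 5),
  (236767, 6, 192950, 23),
  (236769, 6, 234927, 8),
  (236771, 6, 204123, 20),
  (236773, 6, 193715, 23),
  (236775, 6, 92531, 19),
  (236777, 6, 249325, 14),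
  (236779, 6, 96618, 22),
  (236781, 6, 112763, 26),
  (236783, 5, 6519, 24),
  (236817, 6, 224429, 26),
  (236819, 6, 243029, 15),
  (236821, 5, 244051, 15),
  (236823, 6, 238669, 4),
  (236825, 6, 203859, 10),
  (236827, 6, 160206, 23),
  (236829, 6, 241735, 4),
  (236831, 6, 192910, 23),
  (236833, 6, 226317, 44),
  (236835, 6, 232557, 4),
  (236837, 6, 190717, 21),
  (236839, 6, 161867, 24),
  (236841, 6, 177295, 20),
  (236843, 6, 216557, 7),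
  (236845, 6, 129490, 22),
  (236847, 7, 71125, 20),
  (236881, 7, 246807, 20),
  (236883, 6, 207949, 4),
  (236885, 6, 248186, 23),
  (236887, 6, 121315, 19),
  (236889, 6, 95479, 24),
  (236891, 6, 232861, 7),
  (236893, 6, 129521, 22),
  (236895, 6, 255415, 41),
  (236897, 6, 127350, 22),
  (236899, 6, 94582, 22),
  (236901, 6, 7655, 16),
  (236903, 6, 94710, 22),
  (236905, 6, 248239, 7),
  (236907, 6, 21879, 24),
  (236909, 6, 192667, 23),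
  (236911, 6, 224429, 25),
  (236945, 6, 242135, 15),
  (236947, 6, 240845, 4),
  (236949, 6, 239994, 23),
  (236951, 6, 108922, 23),
  (236953, 6, 177295, 2),
  (236955, 6, 207947, 6),
  (236957, 6, 207949, 6),
  (236959, 5, 192942, 23),
  (236961, 6, 51709, 21),
  (236963, 6, 220235, 6),
  (236965, 6, 185541, 17),
  (236967, 5, 220239, 6),
  (236969, 6, 51607, 19),
  (236971, 6, 216139, 6),
  (236973, 6, 216141, 6),
  (236975, 6, 96730, 22),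
  (237009, 6, 127223, 24),
  (237011, 6, 194843, 25),
  (237013, 6, 231802, 23),
  (237015, 5, 212433, 15),
  (237017, 6, 240649, 6),
  (237019, 6, 174555, 13),
  (237021, 6, 240653, 6),
  (237023, 6, 192958, 23),
  (237025, 6, 232749, 11),
  (237027, 6, 53623, 24),
  (237029, 6, 128167, 26),
  (237031, 6, 256025, 40),
  (237033, 6, 159995, 23),
  (237035, 6, 248843, 6),
  (237037, 6, 125337, 21),
  (237039, 6, 220649, 15),
  (237571, 6, 229670, 20),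
  (237573, 6, 86063, 24),
  (237574, 5, 82180, 44),
  (237577, 6, 65726, 23),
  (237578, 5, 24706, 40),
  (237580, 5, 73762, 40),
  (237583, 7, 127103, 24),
  (237587, 5, 238659, 15),
  (237589, 6, 74069, 10),
  (237590, 4, 205270, 15),
  (237593, 6, 159805, 22),
  (237594, 5, 209242, 2),
  (237596, 6, 168106, 19),
  (237599, 6, 222399, 26),
  (237601, 6, 229674, 20),
  (237602, 6, 204823, 24),
  (237604, 6, 90468, 10),
  (237607, 5, 25047, 6),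
  (237608, 6, 74104, 13),
  (237611, 6, 251025, 13),
  (237613, 5, 194765, 5),
  (237614, 5, 137466, 11),
  (237617, 4, 246026, 20),
  (237618, 7, 176265, 19),
  (237620, 6, 90484, 10),
  (237623, 5, 91307, 40),
  (237624, 6, 155864, 14),
  (237627, 6, 252323, 25),
  (237629, 6, 252209, 14),
  (237630, 5, 104594, 38),
  (237635, 5, 229798, 20),
  (237637, 4, 106668, 23),
  (237638, 5, 8354, 40),
  (237641, 6, 149785, 22),
  (237642, 5, 65586, 40),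
  (237644, 5, 43094, 42),
  (237647, 5, 244051, 14),
  (237651, 6, 155703, 26),
  (237653, 6, 168334, 19),
  (237654, 6, 147503, 26),
  (237657, 5, 241921, 8),
  (237658, 6, 37266, 6),
  (237660, 5, 241996, 17),
  (237663, 6, 241789, 22),
  (237665, 6, 30865, 23),
  (237666, 4, 96406, 21),
  (237668, 6, 19847, 24),
  (237671, 6, 57727, 26),
  (237672, 6, 90568, 17),
  (237675, 6, 32145, 23),
  (237677, 6, 176550, 19),
  (237678, 6, 247966, 4),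
  (237681, 6, 90577, 17),
  (237682, 6, 156098, 10),
  (237684, 6, 246153, 20),
  (237687, 6, 239658, 21),
  (237688, 6, 147704, 8),
  (237691, 6, 242977, 8),
  (237693, 6, 237791, 26),
  (237694, 5, 100670, 13),
  (237699, 6, 213404, 23),
  (237701, 6, 74069, 6),
  (237702, 6, 213402, 21),
  (237705, 6, 82078, 23),
  (237706, 6, 37266, 5),
  (237708, 3, 205276, 5),
  (237711, 6, 246174, 23),
  (237715, 6, 188537, 22),
  (237717, 6, 35221, 2),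
  (237718, 4, 143484, 23),
  (237721, 6, 44335, 42),
  (237722, 4, 149786, 23),
  (237724, 6, 199819, 26),
  (237727, 6, 36253, 2),
  (237729, 6, 155873, 7),
  (237730, 6, 90450, 6),
  (237732, 6, 90596, 10),
  (237735, 6, 63969, 23),
  (237736, 6, 31777, 23),
  (237739, 6, 32161, 23),
  (237741, 5, 215335, 44),
  (237742, 6, 194734, 16),
  (237745, 6, 83015, 25),
  (237746, 6, 205973, 24),
  (237748, 6, 214181, 24),
  (237751, 6, 160019, 41),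
  (237752, 6, 74104, 3),
  (237755, 6, 193665, 13),
  (237757, 5, 252337, 14),
  (237758, 6, 129526, 1),
  (237763, 6, 221580, 23),
  (237765, 6, 168390, 19),
  (237766, 6, 86225, 22),
  (237769, 6, 90254, 23),
  (237770, 6, 155918, 23),
  (237772, 6, 66012, 7),
  (237775, 6, 244179, 14),
  (237779, 6, 79879, 24),
  (237781, 5, 172090, 21),
  (237782, 6, 240018, 2),
  (237785, 7, 115090, 20),
  (237786, 6, 233818, 7),
  (237788, 6, 73789, 22),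
  (237791, 5, 212061, 5),
  (237793, 7, 176580, 19),
  (237794, 5, 90594, 1),
  (237796, 5, 205172, 16),
  (237799, 6, 252374, 21),
  (237800, 6, 31793, 23),
  (237803, 6, 98750, 20),
  (237805, 6, 194721, 7),
  (237806, 5, 96742, 1),
  (237809, 6, 71943, 24),
  (237810, 6, 156130, 3),
  (237812, 4, 141370, 21),
  (237815, 6, 93259, 25),
  (237816, 6, 196984, 16),
  (237819, 6, 193715, 7),
  (237821, 6, 244133, 8),
  (237822, 6, 207947, 25),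
  (237827, 6, 201140, 23),
  (237829, 6, 231765, 15),
  (237830, 6, 73961, 22),
  (237833, 6, 208133, 26),
  (237834, 6, 143570, 6),
  (237836, 5, 190754, 42),
  (237839, 6, 163185, 25),
  (237843, 6, 233485, 19),
  (237845, 5, 60465, 25),
  (237846, 6, 229718, 12),
  (237849, 6, 104651, 24),
  (237850, 5, 88482, 39),
  (237852, 6, 139740, 14),
  (237855, 5, 34269, 16),
  (237857, 5, 91203, 40),
  (237858, 4, 229740, 20),
  (237860, 5, 71766, 42),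
  (237863, 5, 240755, 4),
  (237864, 6, 156104, 14),
  (237867, 5, 44243, 42),
  (237869, 6, 245005, 26),
  (237870, 5, 212433, 25),
  (237873, 6, 63498, 21),
  (237874, 6, 90450, 2),
  (237876, 6, 156116, 14),
  (237879, 6, 251001, 22),
  (237880, 6, 232833, 25),
  (237883, 5, 5367, 21),
  (237885, 5, 215331, 44),
  (237886, 6, 145898, 11),
  (237891, 6, 158983, 26),
  (237893, 6, 138707, 39),
  (237894, 5, 207042, 17),
  (237897, 6, 38023, 24),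
  (237898, 5, 209242, 12),
  (237900, 6, 242076, 1),
  (237903, 6, 242701, 10),
  (237907, 4, 246214, 20),
  (237909, 6, 231637, 2),
  (237910, 6, 246213, 20),
  (237913, 5, 473, 16),
  (237914, 6, 242138, 16),
  (237916, 4, 204876, 7),
  (237919, 5, 97551, 26),
  (237921, 4, 241924, 19),
  (237922, 5, 241921, 19),
  (237924, 7, 17799, 24),
  (237927, 6, 260598, 21),
  (237928, 6, 5181, 21),
  (237931, 5, 5373, 21),
  (237933, 6, 241958, 19),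
  (237934, 5, 69718, 42),
  (237937, 5, 104557, 38),
  (237938, 5, 90594, 3),
  (237940, 6, 90596, 3),
  (237943, 6, 175351, 12),
  (237944, 6, 5181, 22),
  (237947, 6, 246238, 20),
  (237949, 6, 246235, 20),
  (237950, 6, 129306, 2),
  (237955, 4, 114938, 21),
  (237957, 6, 233542, 19),
  (237958, 6, 33238, 3),
  (237961, 4, 233572, 19),
  (237962, 6, 242138, 12),
  (237964, 4, 233570, 19),
  (237967, 6, 250262, 23),
  (237971, 6, 204860, 23),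
  (237973, 6, 115011, 20),
  (237974, 5, 8370, 40),
  (237977, 5, 88210, 23),
  (237978, 5, 65714, 40),
  (237980, 5, 16562, 40),
  (237983, 6, 13795, 21),
  (237985, 6, 203785, 24),
  (237986, 4, 98383, 25),
  (237988, 5, 216097, 24),
  (237991, 6, 241735, 19),
  (237992, 6, 147928, 4),
  (237995, 6, 242939, 4),
  (237997, 5, 54595, 37),
  (237998, 6, 149982, 4),
  (238001, 5, 115018, 20),
  (238002, 6, 156098, 4),
  (238004, 6, 241738, 19),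
  (238007, 5, 240695, 12),
  (238008, 6, 196856, 13),
  (238011, 6, 61931, 3),
  (238013, 6, 211305, 11),
  (238014, 6, 211306, 11),
  (238019, 5, 238659, 12),
  (238021, 6, 74069, 16),
  (238022, 4, 205270, 12),
  (238025, 4, 94342, 23),
  (238026, 5, 160006, 23),
  (238028, 6, 49287, 24),
  (238031, 6, 244807, 12),
  (238035, 5, 122906, 21),
  (238037, 5, 215093, 44),
  (238038, 5, 82098, 40),
  (238041, 6, 115154, 20),
  (238042, 5, 24754, 40),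
  (238044, 5, 73906, 40),
  (238047, 6, 260482, 23),
  (238049, 6, 98794, 20),
  (238050, 6, 8583, 24),
  (238052, 5, 153910, 21),
  (238055, 6, 125003, 25),
  (238056, 6, 74104, 16),
  (238059, 6, 247883, 25),
  (238061, 5, 74109, 16),
  (238062, 5, 251151, 26),
  (238065, 5, 241996, 19),
  (238066, 4, 115148, 20),
  (238068, 4, 82183, 24),
  (238071, 5, 25063, 3),
  (238072, 6, 155864, 17),
  (238075, 6, 155867, 17),
  (238077, 6, 242030, 19),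
  (238078, 6, 29166, 3),
  (238593, 6, 99329, 38),
  (238595, 4, 18539, 25),
  (238605, 6, 162171, 25),
  (238607, 5, 22533, 37),
  (238609, 4, 248066, 20),
  (238611, 6, 192569, 22),
  (238621, 6, 206015, 26),
  (238623, 6, 100767, 2),
  (238629, 6, 96507, 25),
  (238631, 6, 199031, 8),
  (238633, 6, 193739, 5),
  (238635, 6, 163201, 23),
  (238645, 6, 243882, 21),
  (238647, 6, 191873, 1),
  (238649, 6, 251185, 14),
  (238651, 6, 248094, 20),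
  (238657, 6, 74156, 23),
  (238659, 4, 75921, 44),
  (238669, 5, 165893, 39),
  (238671, 6, 110863, 10),
  (238673, 6, 248194, 20),
  (238675, 5, 13723, 42),
  (238685, 6, 194879, 25),
  (238687, 6, 207949, 15),
  (238693, 6, 199903, 19),
  (238695, 6, 260438, 21),
  (238697, 5, 128299, 10),
  (238699, 6, 231870, 20),
  (238709, 6, 203991, 19),
  (238711, 6, 125119, 25),
  (238713, 6, 219381, 19),
  (238715, 6, 248239, 25),
  (238721, 5, 238659, 5),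
  (238723, 4, 114778, 21),
  (238733, 6, 193607, 25),
  (238735, 5, 148811, 40),
  (238737, 5, 99377, 38),
  (238739, 6, 158739, 26),
  (238749, 6, 212041, 11),
  (238751, 6, 240845, 15),
  (238757, 5, 201193, 41),
  (238759, 5, 195041, 23),
  (238761, 6, 162977, 23),
  (238763, 5, 100670, 20),
  (238773, 6, 95303, 25),
  (238775, 6, 178362, 21),
  (238777, 6, 251313, 14),
  (238779, 6, 194027, 3),
  (238785, 6, 90508, 23),
  (238787, 7, 204867, 5),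
  (238797, 7, 100787, 20),
  (238799, 6, 95721, 21),
  (238801, 6, 141363, 26),
  (238803, 4, 41146, 21),
  (238813, 6, 162883, 25),
  (238815, 7, 256138, 23),
  (238821, 6, 186838, 21),
  (238823, 6, 205175, 16),
  (238825, 6, 162993, 23),
  (238827, 5, 163249, 23),
  (238837, 6, 194805, 23),
  (238839, 6, 196983, 16),
  (238841, 6, 112919, 24),
  (238843, 6, 117150, 20),
  (238849, 6, 159013, 26),
  (238851, 6, 231782, 20),
  (238861, 6, 163193, 25),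
  (238863, 5, 99507, 38),
  (238865, 6, 27941, 26),
  (238867, 4, 61578, 21),
  (238877, 6, 104882, 23),
  (238879, 5, 148809, 40),
  (238885, 6, 190974, 21),
  (238887, 5, 200987, 41),
  (238889, 5, 201115, 41),
  (238891, 6, 250259, 13),
  (238901, 5, 194765, 23),
  (238903, 5, 194698, 21),
  (238905, 6, 120113, 14),
  (238907, 5, 165917, 39),
  (238913, 4, 61682, 21),
  (238915, 6, 99571, 38),
  (238925, 5, 99569, 38),
  (238927, 6, 122313, 19),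
  (238929, 6, 213308, 23),
  (238931, 5, 238993, 7),
  (238941, 6, 113058, 23),
  (238943, 6, 191805, 25),
  (238949, 5, 22645, 37),
  (238951, 6, 93437, 25),
  (238953, 6, 193681, 6),
  (238955, 5, 191819, 22),
  (238965, 6, 194781, 23),
  (238967, 6, 87319, 24),
  (238969, 6, 248282, 20),
  (238971, 5, 22721, 37),
  (238977, 6, 165937, 39),
  (238979, 6, 140581, 26),
  (238989, 6, 121977, 24),
  (238991, 5, 57389, 43),
  (238993, 4, 148483, 40),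
  (238995, 4, 117062, 20),
  (239005, 6, 235739, 4),
  (239007, 5, 13337, 42),
  (239013, 5, 193837, 26),
  (239015, 6, 159201, 7),
  (239017, 5, 128433, 14),
  (239019, 5, 57491, 43),
  (239029, 6, 260250, 21),
  (239031, 6, 195053, 23),
  (239033, 6, 189657, 17),
  (239035, 6, 189659, 17),
  (239041, 4, 100834, 20),
  (239043, 6, 192833, 22),
  (239053, 5, 57373, 43),
  (239055, 6, 194635, 25),
  (239057, 6, 196924, 23),
  (239059, 6, 13339, 42),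
  (239069, 5, 99521, 38),
  (239071, 6, 161867, 25),
  (239077, 6, 191735, 2),
  (239079, 5, 57475, 43),
  (239081, 5, 57507, 43),
  (239083, 6, 100862, 20),
  (239093, 6, 26085, 3),
  (239095, 6, 191921, 7),
  (239097, 6, 132221, 22),
  (239099, 6, 102679, 24),
  (239617, 4, 57690, 21),
  (239618, 5, 204818, 40),
  (239621, 5, 164941, 39),
  (239622, 6, 174482, 7),
  (239627, 6, 175577, 16),
  (239631, 6, 81229, 10),
  (239633, 5, 127036, 23),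
  (239634, 4, 192572, 23),
  (239637, 6, 144415, 26),
  (239638, 5, 207042, 4),
  (239643, 6, 212183, 7),
  (239647, 6, 199162, 23),
  (239651, 6, 125383, 17),
  (239655, 6, 122305, 20),
  (239657, 6, 252049, 13),
  (239658, 5, 127334, 1),
  (239661, 6, 260442, 19),
  (239662, 5, 51646, 9),
  (239667, 5, 198043, 40),
  (239671, 6, 177295, 19),
  (239673, 6, 31941, 23),
  (239674, 6, 113062, 5),
  (239677, 6, 256346, 19),
  (239678, 5, 163940, 37),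
  (239681, 6, 12567, 26),
  (239682, 6, 16601, 22),
  (239685, 6, 74069, 4),
  (239686, 5, 8594, 40),
  (239691, 6, 144589, 5),
  (239695, 6, 94655, 26),
  (239697, 6, 231765, 14),
  (239698, 6, 74070, 1),
  (239701, 6, 35221, 6),
  (239702, 6, 184444, 23),
  (239707, 6, 240106, 23),
  (239711, 6, 39319, 6),
  (239715, 6, 129494, 21),
  (239719, 6, 90567, 17),
  (239721, 6, 129321, 10),
  (239722, 6, 177569, 19),
  (239725, 5, 252117, 13),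
  (239726, 7, 63894, 6),
  (239731, 6, 239914, 21),
  (239735, 5, 249235, 9),
  (239737, 6, 219382, 19),
  (239738, 5, 135554, 40),
  (239741, 6, 244001, 8),
  (239742, 6, 111078, 5),
  (239745, 4, 114908, 23),
  (239746, 5, 45442, 40),
  (239749, 6, 15643, 26),
  (239750, 6, 110644, 44),
  (239755, 6, 244119, 14),
  (239759, 6, 213470, 23),
  (239761, 6, 70829, 24),
  (239762, 6, 209210, 21),
  (239765, 6, 45370, 21),
  (239766, 3, 204870, 11),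
  (239771, 6, 248282, 23),
  (239775, 6, 81373, 10),
  (239779, 5, 180713, 43),
  (239783, 6, 165143, 39),
  (239785, 6, 117182, 19),
  (239786, 6, 32097, 23),
  (239789, 6, 77945, 41),
  (239790, 6, 67970, 40),
  (239795, 6, 177357, 19),
  (239799, 6, 112954, 21),
  (239801, 5, 78227, 41),
  (239802, 6, 192702, 16),
  (239805, 6, 195053, 3),
  (239806, 5, 200842, 38),
  (239809, 6, 14583, 42),
  (239810, 6, 215397, 20),
  (239813, 6, 90316, 23),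
  (239814, 6, 33238, 5),
  (239819, 6, 111943, 12),
  (239823, 6, 242135, 14),
  (239825, 6, 27731, 25),
  (239826, 6, 205114, 21),
  (239829, 6, 71719, 24),
  (239830, 6, 237574, 11),
  (239835, 5, 34269, 2),
  (239839, 6, 169455, 19),
  (239843, 5, 121302, 21),
  (239847, 6, 252118, 21),
  (239849, 6, 213245, 15),
  (239850, 4, 114820, 37),
  (239853, 6, 161133, 21),
  (239854, 6, 177635, 19),
  (239859, 6, 204143, 20),
  (239863, 5, 25047, 17),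
  (239865, 5, 243923, 26),
  (239866, 5, 135554, 38),
  (239869, 6, 199037, 16),
  (239870, 6, 194810, 16),
  (239873, 5, 180299, 43),
  (239874, 6, 33238, 10),
  (239877, 6, 205097, 22),
  (239878, 6, 73833, 22),
  (239883, 6, 212041, 10),
  (239887, 5, 34207, 1),
  (239889, 6, 6598, 19),
  (239890, 6, 237974, 16),
  (239893, 4, 61706, 21),
  (239894, 6, 74070, 2),
  (239899, 6, 234541, 19),
  (239903, 5, 212061, 10),
  (239907, 6, 240759, 4),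
  (239911, 6, 242695, 19),
  (239913, 6, 162001, 6),
  (239914, 5, 129334, 14),
  (239917, 6, 127285, 14),
  (239918, 5, 135306, 38),
  (239923, 6, 242701, 19),
  (239927, 6, 139751, 11),
  (239929, 6, 23030, 19),
  (239930, 6, 178365, 20),
  (239933, 5, 14661, 42),
  (239934, 6, 98392, 41),
  (239937, 4, 133326, 19),
  (239938, 3, 204870, 1),
  (239941, 5, 180587, 43),
  (239942, 5, 143716, 23),
  (239947, 6, 242150, 23),
  (239951, 6, 209382, 23),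
  (239953, 4, 114748, 23),
  (239954, 6, 33238, 7),
  (239957, 7, 57610, 21),
  (239958, 6, 37113, 22),
  (239963, 5, 240695, 20),
  (239967, 6, 211426, 23),
  (239971, 5, 249297, 13),
  (239975, 5, 77867, 41),
  (239977, 6, 194705, 6),
  (239978, 5, 180548, 43),
  (239981, 6, 38311, 24),
  (239982, 6, 93259, 22),
  (239987, 5, 51341, 37),
  (239991, 6, 159185, 5),
  (239993, 6, 153846, 19),
  (239994, 5, 180488, 43),
  (239997, 6, 125402, 19),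
  (239998, 6, 38141, 22),
  (240001, 6, 35214, 19),
  (240002, 6, 12513, 22),
  (240005, 4, 49239, 25),
  (240006, 6, 213178, 21),
  (240011, 6, 39387, 3),
  (240015, 5, 212173, 10),
  (240017, 6, 39302, 19),
  (240018, 5, 8578, 40),
  (240021, 4, 106620, 23),
  (240022, 6, 174482, 16),
  (240027, 6, 252370, 23),
  (240031, 6, 241099, 15),
  (240035, 6, 189621, 2),
  (240039, 6, 196983, 11),
  (240041, 5, 51646, 19),
  (240042, 5, 192942, 16),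
  (240045, 6, 243745, 12),
  (240046, 5, 135306, 40),
  (240051, 6, 191873, 13),
  (240055, 6, 242767, 19),
  (240057, 6, 26879, 44),
  (240058, 5, 63978, 3),
  (240061, 6, 233725, 4),
  (240062, 5, 242795, 19),
  (240065, 5, 127172, 23),
  (240066, 4, 192836, 23),
  (240069, 6, 144647, 26),
  (240070, 5, 207042, 1),
  (240075, 6, 6619, 3),
  (240079, 6, 77149, 16),
  (240081, 6, 170118, 19),
  (240082, 6, 141526, 17),
  (240085, 6, 69671, 24),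
  (240086, 5, 205186, 40),
  (240091, 6, 242775, 12),
  (240095, 6, 241935, 11),
  (240099, 6, 121334, 21),
  (240103, 6, 252150, 21),
  (240105, 5, 194981, 7),
  (240106, 5, 164132, 37),
  (240109, 6, 96730, 19),
  (240110, 6, 127374, 2),
  (240115, 6, 126279, 1),
  (240119, 5, 240755, 12),
  (240121, 6, 186550, 19),
  (240122, 6, 229566, 13),
  (240125, 6, 113057, 8),
  (240126, 6, 243051, 19),
  (240649, 5, 133297, 44),
  (240651, 6, 229630, 23),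
  (240653, 5, 133409, 44),
  (240655, 5, 40969, 42),
  (240665, 6, 218227, 21),
  (240667, 6, 238669, 15),
  (240669, 6, 194859, 25),
  (240671, 6, 7639, 6),
  (240673, 6, 135345, 39),
  (240675, 6, 196983, 8),
  (240677, 6, 93543, 10),
  (240679, 6, 230779, 22),
  (240689, 5, 20493, 41),
  (240691, 6, 178602, 21),
  (240693, 6, 191699, 5),
  (240695, 4, 17769, 37),
  (240713, 5, 41033, 42),
  (240715, 5, 133153, 44),
  (240717, 6, 243029, 14),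
  (240719, 6, 94623, 26),
  (240729, 6, 109034, 23),
  (240731, 5, 239850, 23),
  (240733, 5, 98397, 43),
  (240735, 6, 177295, 11),
  (240737, 6, 60817, 6),
  (240739, 6, 129366, 21),
  (240741, 6, 194705, 23),
  (240743, 6, 194961, 23),
  (240753, 6, 240042, 21),
  (240755, 4, 98419, 43),
  (240757, 6, 144633, 22),
  (240759, 5, 17699, 37),
  (240777, 6, 242767, 5),
  (240779, 6, 232733, 1),
  (240781, 6, 257221, 20),
  (240783, 6, 213214, 23),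
  (240793, 5, 34207, 2),
  (240795, 6, 248026, 23),
  (240797, 5, 20597, 41),
  (240799, 6, 215258, 23),
  (240801, 5, 98377, 43),
  (240803, 5, 98793, 43),
  (240805, 6, 194721, 23),
  (240807, 5, 133287, 44),
  (240817, 6, 206311, 8),
  (240819, 6, 60887, 17),
  (240821, 6, 232823, 16),
  (240823, 5, 194981, 23),
  (240841, 6, 186769, 22),
  (240843, 6, 81373, 4),
  (240845, 5, 41139, 42),
  (240847, 6, 39095, 24),
  (240857, 6, 125386, 23),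
  (240859, 6, 120887, 24),
  (240861, 6, 242701, 11),
  (240863, 6, 223434, 23),
  (240865, 6, 213239, 15),
  (240867, 6, 81243, 19),
  (240869, 6, 232605, 19),
  (240871, 5, 98505, 43),
  (240881, 5, 41159, 42),
  (240883, 6, 88375, 24),
  (240885, 6, 236693, 19),
  (240887, 6, 189621, 7),
  (240905, 6, 240845, 17),
  (240907, 6, 233718, 23),
  (240909, 6, 120923, 24),
  (240911, 6, 129099, 24),
  (240921, 6, 211415, 7),
  (240923, 6, 235762, 23),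
  (240925, 6, 151805, 22),
  (240927, 6, 184509, 22),
  (240929, 5, 249235, 13),
  (240931, 5, 135531, 39),
  (240933, 6, 190718, 21),
  (240935, 6, 244187, 19),
  (240945, 5, 67617, 38),
  (240947, 6, 241115, 19),
  (240949, 6, 129418, 21),
  (240951, 5, 133283, 44),
  (240969, 6, 111078, 23),
  (240971, 5, 212061, 4),
  (240973, 6, 256265, 22),
  (240975, 5, 34269, 1),
  (240985, 5, 133465, 44),
  (240987, 6, 243938, 23),
  (240989, 6, 80354, 23),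
  (240991, 6, 17759, 37),
  (240993, 6, 191791, 26),
  (240995, 6, 126327, 14),
  (240997, 6, 249303, 13),
  (240999, 6, 191639, 6),
  (241009, 6, 60719, 26),
  (241011, 5, 135253, 39),
  (241013, 6, 173477, 11),
  (241015, 5, 67621, 38),
  (241033, 6, 178593, 22),
  (241035, 6, 250070, 23),
  (241037, 6, 244001, 22),
  (241039, 6, 130121, 24),
  (241049, 5, 9635, 40),
  (241051, 6, 252114, 23),
  (241053, 5, 135435, 39),
  (241055, 5, 98401, 43),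
  (241057, 5, 67601, 38),
  (241059, 6, 177635, 22),
  (241061, 6, 36253, 19),
  (241063, 6, 211419, 19),
  (241073, 4, 68017, 38),
  (241075, 6, 208347, 19),
  (241077, 5, 220389, 20),
  (241079, 6, 240689, 12),
  (241097, 6, 7641, 3),
  (241099, 5, 17617, 37),
  (241101, 6, 243779, 12),
  (241103, 6, 37047, 24),
  (241113, 5, 41049, 42),
  (241115, 5, 133157, 44),
  (241117, 6, 242957, 11),
  (241119, 6, 210411, 21),
  (241121, 6, 162041, 23),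
  (241123, 6, 121206, 21),
  (241125, 6, 186614, 21),
  (241127, 5, 98435, 43),
  (241137, 6, 256410, 21),
  (241139, 6, 42287, 26),
  (241141, 6, 125338, 21),
  (241143, 6, 59802, 21),
  (241665, 4, 184452, 19),
  (241666, 5, 204930, 40),
  (241668, 6, 30846, 23),
  (241671, 6, 254427, 21),
  (241673, 6, 184484, 19),
  (241674, 6, 237850, 14),
  (241676, 5, 74114, 40),
  (241679, 5, 45065, 42),
  (241681, 4, 94270, 23),
  (241682, 5, 159806, 23),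
  (241684, 6, 82151, 24),
  (241687, 6, 244807, 15),
  (241689, 5, 473, 6),
  (241690, 3, 205274, 15),
  (241692, 3, 205276, 15),
  (241695, 5, 114797, 43),
  (241699, 5, 128433, 2),
  (241701, 6, 90477, 10),
  (241702, 6, 194802, 8),
  (241707, 6, 241695, 24),
  (241709, 6, 129481, 17),
  (241710, 6, 194810, 8),
  (241715, 6, 250171, 14),
  (241717, 6, 211309, 8),
  (241718, 5, 254228, 44),
  (241723, 6, 112683, 21),
  (241725, 6, 63687, 23),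
  (241726, 5, 164116, 44),
  (241729, 4, 88126, 23),
  (241730, 6, 143570, 8),
  (241732, 5, 45068, 42),
  (241735, 5, 45121, 42),
  (241737, 5, 45129, 42),
  (241738, 5, 45060, 42),
  (241740, 5, 184738, 19),
  (241743, 5, 141745, 44),
  (241745, 6, 254338, 20),
  (241746, 6, 237850, 2),
  (241748, 6, 242076, 15),
  (241751, 6, 37279, 6),
  (241753, 6, 204823, 26),
  (241754, 6, 237978, 15),
  (241756, 6, 66012, 11),
  (241759, 6, 63958, 23),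
  (241763, 6, 218227, 15),
  (241765, 6, 192902, 19),
  (241766, 6, 242094, 15),
  (241771, 6, 128289, 10),
  (241773, 6, 57757, 6),
  (241774, 6, 162042, 8),
  (241779, 6, 121255, 25),
  (241781, 6, 192910, 19),
  (241782, 5, 75794, 38),
  (241787, 6, 238889, 8),
  (241789, 5, 86285, 41),
  (241790, 5, 45190, 38),
  (241793, 6, 137525, 22),
  (241794, 6, 6261, 22),
  (241796, 6, 147739, 21),
  (241799, 6, 243029, 16),
  (241801, 4, 30882, 23),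
  (241802, 6, 237978, 14),
  (241804, 6, 168404, 3),
  (241807, 6, 63970, 23),
  (241809, 5, 241921, 1),
  (241810, 3, 205274, 2),
  (241812, 4, 83173, 24),
  (241815, 6, 95485, 24),
  (241817, 6, 123154, 20),
  (241818, 6, 123156, 20),
  (241820, 6, 139740, 15),
  (241823, 6, 63974, 23),
  (241827, 6, 210013, 24),
  (241829, 6, 255303, 25),
  (241830, 6, 72951, 22),
  (241835, 5, 168221, 39),
  (241837, 5, 45397, 42),
  (241838, 6, 106813, 20),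
  (241843, 5, 168043, 39),
  (241845, 6, 162041, 7),
  (241846, 5, 45190, 42),
  (241851, 6, 123166, 20),
  (241853, 6, 192750, 19),
  (241854, 5, 106584, 42),
  (241857, 6, 204873, 5),
  (241858, 6, 242138, 14),
  (241860, 5, 241996, 4),
  (241863, 5, 191819, 25),
  (241865, 6, 106930, 20),
  (241866, 6, 74811, 21),
  (241868, 6, 63602, 23),
  (241871, 6, 184807, 19),
  (241873, 6, 141459, 26),
  (241874, 6, 196826, 12),
  (241876, 5, 141426, 44),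
  (241879, 6, 177357, 13),
  (241881, 4, 184812, 19),
  (241882, 6, 242066, 2),
  (241884, 4, 204876, 2),
  (241887, 7, 184815, 19),
  (241891, 5, 106926, 20),
  (241893, 6, 192966, 19),
  (241894, 6, 240971, 25),
  (241899, 6, 118091, 25),
  (241901, 5, 168213, 39),
  (241902, 5, 194790, 16),
  (241907, 6, 111995, 12),
  (241909, 6, 113021, 12),
  (241910, 4, 114820, 43),
  (241915, 5, 167971, 39),
  (241917, 6, 63735, 23),
  (241918, 5, 45262, 42),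
  (241921, 4, 86093, 41),
  (241922, 6, 74058, 2),
  (241924, 3, 205276, 1),
  (241927, 6, 223358, 23),
  (241929, 6, 237938, 20),
  (241930, 5, 95243, 21),
  (241932, 6, 63562, 23),
  (241935, 5, 86221, 41),
  (241937, 6, 90174, 23),
  (241938, 6, 237978, 16),
  (241940, 6, 73101, 26),
  (241943, 5, 243923, 17),
  (241945, 5, 249900, 19),
  (241946, 6, 37266, 7),
  (241948, 5, 249898, 19),
  (241951, 6, 129211, 24),
  (241955, 6, 237934, 20),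
  (241957, 6, 219243, 24),
  (241958, 5, 78318, 15),
  (241963, 6, 251259, 15),
  (241965, 6, 252285, 15),
  (241966, 6, 98392, 42),
  (241971, 5, 45389, 42),
  (241973, 6, 121145, 14),
  (241974, 6, 243882, 5),
  (241979, 6, 129035, 21),
  (241981, 5, 45381, 42),
  (241982, 6, 63823, 23),
  (241985, 5, 208263, 26),
  (241986, 4, 149566, 23),
  (241988, 6, 66012, 3),
  (241991, 6, 215166, 23),
  (241993, 4, 250148, 19),
  (241994, 4, 474, 10),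
  (241996, 4, 217486, 37),
  (241999, 6, 163215, 26),
  (242001, 6, 250124, 19),
  (242002, 5, 95409, 21),
  (242004, 5, 174450, 37),
  (242007, 6, 97679, 26),
  (242009, 4, 11655, 26),
  (242010, 6, 135642, 8),
  (242012, 6, 83015, 24),
  (242015, 6, 95303, 24),
  (242019, 6, 129271, 21),
  (242021, 5, 168291, 39),
  (242022, 6, 10278, 37),
  (242027, 5, 220389, 25),
  (242029, 7, 179599, 26),
  (242030, 5, 106926, 15),
  (242035, 6, 90603, 3),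
  (242037, 6, 126389, 25),
  (242038, 6, 258315, 19),
  (242043, 6, 254430, 20),
  (242045, 6, 178593, 11),
  (242046, 5, 239850, 5),
  (242049, 6, 72777, 24),
  (242050, 6, 164175, 25),
  (242052, 6, 139740, 1),
  (242055, 6, 249927, 19),
  (242057, 6, 140677, 26),
  (242058, 6, 135642, 4),
  (242060, 6, 136589, 26),
  (242063, 5, 63978, 23),
  (242065, 5, 45073, 42),
  (242066, 5, 65810, 40),
  (242068, 5, 241996, 2),
  (242071, 6, 204926, 23),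
  (242073, 6, 149565, 22),
  (242074, 6, 233818, 8),
  (242076, 5, 196882, 40),
  (242079, 5, 45081, 42),
  (242083, 5, 45165, 42),
  (242085, 6, 243085, 26),
  (242086, 5, 199034, 11),
  (242091, 6, 193721, 2),
  (242093, 5, 140441, 40),
  (242094, 5, 75910, 38),
  (242099, 6, 185521, 2),
  (242101, 6, 112013, 26),
  (242102, 5, 100670, 7),
  (242107, 6, 31151, 23),
  (242109, 6, 216125, 22),
  (242110, 6, 194778, 17),
  (242113, 5, 473, 3),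
  (242114, 3, 205274, 12),
  (242116, 3, 205276, 12),
  (242119, 6, 190795, 25),
  (242121, 5, 114861, 43),
  (242122, 5, 209242, 8),
  (242124, 5, 45442, 42),
  (242127, 6, 161167, 26),
  (242129, 6, 65598, 23),
  (242130, 6, 131134, 23),
  (242132, 5, 74002, 40)]

theorem chk_rows2_26 : rows2_26.all (rowBP tr2 gensLitP 72) = true := by decide +kernel

/-- Rows 40500 to 41999. -/
def rows2_27 : List (ℕ × ℕ × ℕ × ℕ) := [(242135, 5, 45137, 42),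
  (242137, 5, 114913, 43),
  (242138, 5, 155924, 44),
  (242140, 4, 250218, 19),
  (242143, 6, 175515, 7),
  (242147, 5, 242795, 12),
  (242149, 6, 243821, 12),
  (242150, 5, 10386, 38),
  (242155, 6, 107006, 20),
  (242157, 6, 63739, 23),
  (242158, 5, 129410, 2),
  (242163, 6, 123342, 20),
  (242165, 6, 162001, 17),
  (242166, 5, 235702, 13),
  (242171, 6, 31167, 23),
  (242173, 6, 244001, 11),
  (242174, 6, 162010, 17),
  (242693, 6, 9663, 26),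
  (242695, 5, 69705, 38),
  (242701, 5, 18721, 44),
  (242703, 6, 195010, 23),
  (242709, 6, 47519, 12),
  (242711, 6, 94590, 23),
  (242717, 5, 243791, 15),
  (242719, 6, 195014, 23),
  (242721, 6, 239914, 20),
  (242723, 6, 185745, 1),
  (242729, 6, 219371, 25),
  (242731, 6, 251001, 15),
  (242737, 6, 189659, 5),
  (242739, 5, 66971, 40),
  (242745, 6, 88533, 19),
  (242747, 6, 128475, 17),
  (242757, 6, 8639, 26),
  (242759, 5, 18689, 44),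
  (242765, 5, 18561, 44),
  (242767, 5, 18865, 44),
  (242773, 6, 139455, 26),
  (242775, 5, 49331, 37),
  (242781, 6, 204863, 26),
  (242783, 5, 34207, 6),
  (242785, 6, 183583, 22),
  (242787, 5, 129111, 21),
  (242793, 6, 240058, 20),
  (242795, 4, 10661, 42),
  (242801, 6, 146553, 22),
  (242803, 6, 251259, 14),
  (242809, 5, 66843, 40),
  (242811, 6, 256414, 20),
  (242821, 6, 132589, 39),
  (242823, 6, 28059, 26),
  (242829, 6, 241049, 14),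
  (242831, 6, 195042, 23),
  (242837, 6, 177295, 13),
  (242839, 6, 39319, 2),
  (242845, 5, 194790, 23),
  (242847, 6, 212035, 11),
  (242849, 5, 12361, 41),
  (242851, 5, 10589, 42),
  (242857, 5, 49389, 37),
  (242859, 6, 242701, 24),
  (242865, 5, 69889, 38),
  (242867, 4, 132203, 39),
  (242873, 4, 12691, 41),
  (242875, 6, 125214, 20),
  (242885, 6, 203134, 23),
  (242887, 6, 250195, 21),
  (242893, 5, 132517, 39),
  (242895, 6, 241115, 14),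
  (242901, 5, 164139, 43),
  (242903, 6, 163147, 25),
  (242909, 6, 194806, 23),
  (242911, 5, 212173, 15),
  (242913, 6, 124331, 10),
  (242915, 6, 108974, 20),
  (242921, 6, 210299, 16),
  (242923, 5, 12377, 41),
  (242929, 6, 193739, 13),
  (242931, 6, 125326, 20),
  (242937, 6, 125338, 20),
  (242939, 5, 12307, 41),
  (242949, 6, 3567, 19),
  (242951, 6, 239975, 20),
  (242957, 5, 132507, 39),
  (242959, 6, 195018, 23),
  (242965, 6, 7655, 19),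
  (242967, 6, 90494, 23),
  (242973, 6, 112069, 3),
  (242975, 6, 175261, 12),
  (242977, 5, 163909, 43),
  (242979, 6, 211019, 24),
  (242985, 6, 239994, 20),
  (242987, 6, 175525, 26),
  (242993, 5, 49281, 37),
  (242995, 5, 10573, 42),
  (243001, 6, 256346, 20),
  (243003, 5, 69733, 38),
  (243013, 6, 238607, 10),
  (243015, 6, 212399, 26),
  (243021, 6, 39387, 1),
  (243023, 6, 146863, 26),
  (243029, 5, 49493, 37),
  (243031, 6, 60733, 25),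
  (243037, 6, 32175, 26),
  (243039, 6, 241049, 7),
  (243041, 6, 240106, 20),
  (243043, 6, 38359, 24),
  (243049, 6, 189711, 22),
  (243051, 5, 49265, 37),
  (243057, 6, 138361, 22),
  (243059, 6, 120187, 14),
  (243065, 6, 177569, 11),
  (243067, 5, 49345, 37),
  (243077, 5, 34269, 3),
  (243079, 6, 220649, 19),
  (243085, 5, 243923, 4),
  (243087, 6, 240653, 12),
  (243093, 6, 95661, 26),
  (243095, 5, 69833, 38),
  (243101, 5, 132363, 39),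
  (243103, 6, 195054, 23),
  (243105, 6, 193715, 2),
  (243107, 6, 212041, 24),
  (243113, 6, 111995, 16),
  (243115, 5, 66617, 40),
  (243121, 6, 162991, 23),
  (243123, 6, 212169, 24),
  (243129, 6, 125274, 20),
  (243131, 6, 74219, 8),
  (243141, 5, 243791, 12),
  (243143, 6, 67966, 23),
  (243149, 6, 194810, 23),
  (243151, 6, 73193, 19),
  (243157, 6, 95663, 26),
  (243159, 5, 18693, 44),
  (243165, 5, 18565, 44),
  (243167, 5, 18869, 44),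
  (243169, 6, 185819, 13),
  (243171, 6, 109038, 20),
  (243177, 6, 188843, 7),
  (243179, 6, 173479, 26),
  (243185, 6, 163007, 23),
  (243187, 6, 192971, 13),
  (243193, 6, 185595, 2),
  (243195, 6, 49649, 37),
  (243715, 6, 135345, 41),
  (243719, 5, 98377, 38),
  (243723, 6, 42383, 12),
  (243727, 5, 67601, 44),
  (243731, 6, 6619, 6),
  (243735, 5, 98793, 38),
  (243739, 5, 135531, 41),
  (243743, 6, 118257, 20),
  (243745, 5, 133297, 39),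
  (243746, 6, 211434, 15),
  (243749, 6, 129457, 2),
  (243750, 6, 192758, 8),
  (243753, 6, 215283, 25),
  (243754, 6, 193697, 19),
  (243757, 6, 249871, 24),
  (243758, 5, 27102, 6),
  (243761, 6, 72182, 19),
  (243762, 6, 113070, 5),
  (243765, 6, 127445, 17),
  (243766, 6, 133510, 39),
  (243769, 6, 129501, 17),
  (243770, 5, 20778, 37),
  (243773, 6, 239994, 19),
  (243774, 5, 151586, 40),
  (243779, 5, 20493, 37),
  (243783, 6, 203859, 15),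
  (243787, 5, 67617, 44),
  (243791, 4, 68017, 44),
  (243795, 6, 249918, 23),
  (243799, 6, 212035, 15),
  (243803, 6, 243965, 22),
  (243807, 6, 240845, 13),
  (243809, 5, 252121, 13),
  (243810, 5, 67802, 44),
  (243813, 5, 74109, 4),
  (243814, 6, 252050, 4),
  (243817, 6, 129313, 10),
  (243818, 5, 250014, 4),
  (243821, 5, 9635, 42),
  (243822, 6, 149978, 10),
  (243825, 6, 252285, 14),
  (243826, 5, 135202, 40),
  (243829, 6, 125306, 19),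
  (243830, 5, 135212, 41),
  (243833, 6, 219350, 19),
  (243834, 4, 114820, 44),
  (243837, 6, 108922, 19),
  (243838, 6, 249967, 26),
  (243843, 6, 238669, 5),
  (243847, 6, 242079, 14),
  (243851, 6, 243003, 21),
  (243855, 6, 185575, 19),
  (243859, 6, 241726, 23),
  (243863, 6, 241790, 23),
  (243867, 6, 38301, 2),
  (243871, 6, 63910, 23),
  (243873, 5, 41033, 43),
  (243874, 6, 145898, 15),
  (243877, 6, 218189, 24),
  (243878, 6, 64803, 23),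
  (243881, 6, 117150, 19),
  (243882, 5, 10274, 40),
  (243885, 6, 155885, 7),
  (243886, 5, 172116, 39),
  (243889, 5, 133153, 39),
  (243890, 5, 252350, 14),
  (243893, 6, 190957, 3),
  (243894, 5, 75794, 42),
  (243897, 5, 195041, 3),
  (243898, 5, 106514, 42),
  (243901, 5, 17617, 40),
  (243902, 5, 49508, 39),
  (243907, 6, 235582, 23),
  (243911, 5, 41159, 43),
  (243915, 6, 238907, 21),
  (243919, 6, 63922, 23),
  (243923, 4, 98419, 38),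
  (243927, 6, 150875, 25),
  (243931, 5, 135253, 41),
  (243935, 6, 183537, 20),
  (243937, 6, 231614, 19),
  (243938, 5, 67734, 44),
  (243941, 6, 96634, 19),
  (243942, 5, 180488, 41),
  (243945, 5, 133465, 39),
  (243946, 6, 194017, 19),
  (243949, 5, 41049, 43),
  (243950, 6, 125214, 6),
  (243953, 5, 235702, 19),
  (243954, 5, 135554, 41),
  (243957, 5, 194765, 13),
  (243958, 5, 135202, 41),
  (243961, 6, 129457, 10),
  (243962, 5, 67734, 42),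
  (243965, 5, 133157, 39),
  (243966, 5, 194698, 4),
  (243971, 6, 177295, 12),
  (243975, 6, 207949, 10),
  (243979, 6, 31178, 23),
  (243983, 6, 205165, 22),
  (243987, 6, 80123, 24),
  (243991, 5, 133287, 39),
  (243995, 6, 252157, 22),
  (243999, 6, 186621, 22),
  (244001, 5, 133409, 39),
  (244002, 6, 249229, 26),
  (244005, 6, 245125, 26),
  (244006, 5, 67602, 42),
  (244009, 6, 216305, 25),
  (244010, 5, 20740, 39),
  (244013, 6, 251915, 24),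
  (244014, 5, 135306, 41),
  (244017, 5, 40969, 43),
  (244018, 6, 121150, 14),
  (244021, 6, 256506, 19),
  (244022, 6, 224445, 21),
  (244025, 6, 249009, 25),
  (244026, 6, 67970, 44),
  (244029, 6, 257185, 25),
  (244030, 5, 67602, 44),
  (244035, 6, 242901, 2),
  (244039, 6, 240653, 10),
  (244043, 6, 31194, 23),
  (244047, 5, 163207, 26),
  (244051, 4, 17769, 40),
  (244055, 5, 251151, 19),
  (244059, 5, 133283, 39),
  (244063, 6, 239007, 7),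
  (244065, 6, 250939, 20),
  (244066, 5, 49412, 39),
  (244069, 5, 20597, 37),
  (244070, 5, 151596, 39),
  (244073, 6, 21991, 24),
  (244074, 5, 75910, 42),
  (244077, 5, 135435, 41),
  (244078, 6, 229630, 5),
  (244081, 6, 156125, 5),
  (244082, 5, 67730, 44),
  (244085, 6, 125434, 19),
  (244086, 5, 20610, 37),
  (244089, 6, 87399, 24),
  (244090, 6, 236693, 25),
  (244093, 5, 98401, 38),
  (244094, 5, 96742, 3),
  (244099, 6, 250949, 19),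
  (244103, 6, 246011, 21),
  (244107, 6, 238607, 12),
  (244111, 6, 63914, 23),
  (244115, 6, 250957, 19),
  (244119, 5, 98505, 38),
  (244123, 6, 243029, 5),
  (244127, 5, 98435, 38),
  (244129, 6, 199037, 11),
  (244130, 6, 15591, 22),
  (244133, 5, 41139, 43),
  (244134, 6, 98392, 38),
  (244137, 5, 194765, 17),
  (244138, 5, 135460, 41),
  (244141, 6, 113021, 16),
  (244142, 5, 20740, 37),
  (244145, 6, 52605, 21),
  (244146, 5, 14842, 15),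
  (244149, 6, 213335, 25),
  (244150, 6, 52473, 22),
  (244153, 5, 74221, 8),
  (244154, 5, 41182, 43),
  (244157, 6, 82263, 25),
  (244158, 6, 162250, 4),
  (244163, 6, 242767, 12),
  (244167, 6, 158929, 20),
  (244171, 6, 212183, 4),
  (244175, 6, 63930, 23),
  (244179, 5, 17699, 40),
  (244183, 6, 111943, 1),
  (244187, 5, 67621, 44),
  (244191, 6, 63934, 23),
  (244193, 5, 98397, 38),
  (244194, 5, 20748, 37),
  (244197, 6, 37351, 24),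
  (244198, 5, 135204, 41),
  (244201, 6, 182430, 19),
  (244202, 5, 133250, 39),
  (244205, 6, 209141, 4),
  (244206, 4, 98398, 38),
  (244209, 6, 241789, 12),
  (244210, 5, 67806, 44),
  (244213, 6, 92666, 19),
  (244214, 6, 36089, 22),
  (244217, 6, 17759, 40),
  (244218, 6, 129430, 2),
  (244221, 6, 69991, 24),
  (244222, 6, 235706, 13),
  (244737, 6, 57819, 21),
  (244739, 5, 223537, 44),
  (244741, 6, 112069, 17),
  (244743, 5, 223393, 44),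
  (244745, 6, 243115, 21),
  (244747, 6, 164349, 22),
  (244749, 7, 79167, 26),
  (244751, 5, 212433, 9),
  (244753, 6, 7641, 6),
  (244755, 6, 127294, 23),
  (244757, 6, 243779, 15),
  (244759, 6, 160927, 26),
  (244761, 6, 186427, 25),
  (244763, 6, 162246, 23),
  (244765, 6, 194694, 23),
  (244767, 6, 194950, 23),
  (244801, 6, 252222, 23),
  (244803, 6, 121150, 23),
  (244805, 6, 60885, 20),
  (244807, 5, 223489, 44),
  (244809, 6, 162002, 23),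
  (244811, 6, 224355, 20),
  (244813, 6, 78143, 26),
  (244815, 6, 246109, 22),
  (244817, 6, 211193, 22),
  (244819, 6, 241935, 8),
  (244821, 6, 143551, 26),
  (244823, 6, 119166, 23),
  (244825, 6, 162006, 23),
  (244827, 6, 162262, 23),
  (244829, 6, 194710, 23),
  (244831, 6, 212041, 15),
  (244865, 6, 244030, 23),
  (244867, 5, 244051, 16),
  (244869, 6, 244094, 23),
  (244871, 6, 95309, 24),
  (244873, 6, 242759, 5),
  (244875, 6, 241735, 5),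
  (244877, 6, 77149, 6),
  (244879, 6, 243779, 5),
  (244881, 6, 207949, 11),
  (244883, 6, 110910, 23),
  (244885, 6, 146619, 26),
  (244887, 6, 95437, 24),
  (244889, 6, 162022, 23),
  (244891, 6, 162278, 23),
  (244893, 6, 241935, 1),
  (244895, 6, 194982, 23),
  (244929, 6, 235838, 23),
  (244931, 6, 186837, 22),
  (244933, 6, 207947, 5),
  (244935, 6, 189653, 20),
  (244937, 6, 167131, 13),
  (244939, 6, 184789, 22),
  (244941, 6, 239069, 14),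
  (244943, 6, 194994, 23),
  (244945, 6, 240653, 11),
  (244947, 6, 102718, 23),
  (244949, 6, 233854, 23),
  (244951, 6, 238607, 11),
  (244953, 6, 162038, 23),
  (244955, 6, 162294, 23),
  (244957, 6, 183541, 20),
  (244959, 6, 39387, 2),
  (244993, 6, 39319, 1),
  (244995, 6, 240733, 4),
  (244997, 6, 188667, 21),
  (244999, 6, 252395, 19),
  (245001, 6, 212035, 10),
  (245003, 6, 162250, 23),
  (245005, 5, 194698, 23),
  (245007, 6, 129035, 24),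
  (245009, 7, 56633, 25),
  (245011, 6, 212445, 7),
  (245013, 6, 242901, 17),
  (245015, 6, 248299, 19),
  (245017, 6, 173223, 20),
  (245019, 6, 39387, 16),
  (245021, 6, 24005, 19),
  (245023, 6, 194958, 23),
  (245057, 6, 248126, 23),
  (245059, 6, 117054, 23),
  (245061, 6, 248190, 23),
  (245063, 5, 243923, 2),
  (245065, 5, 212173, 17),
  (245067, 6, 162266, 23),
  (245069, 6, 194714, 23),
  (245071, 5, 5367, 24),
  (245073, 6, 244127, 7),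
  (245075, 6, 110863, 8),
  (245077, 6, 7639, 16),
  (245079, 6, 115070, 23),
  (245081, 6, 241099, 13),
  (245083, 6, 6619, 16),
  (245085, 6, 194718, 23),
  (245087, 6, 194974, 23),
  (245121, 5, 35247, 19),
  (245123, 6, 220651, 19),
  (245125, 5, 212061, 6),
  (245127, 6, 97353, 24),
  (245129, 6, 162026, 23),
  (245131, 6, 162282, 23),
  (245133, 6, 194730, 23),
  (245135, 6, 242901, 4),
  (245137, 6, 160087, 25),
  (245139, 5, 223541, 44),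
  (245141, 5, 223637, 44),
  (245143, 5, 171271, 39),
  (245145, 6, 55687, 19),
  (245147, 6, 175523, 20),
  (245149, 6, 194734, 23),
  (245151, 5, 223253, 44),
  (245185, 6, 231742, 23),
  (245187, 5, 100670, 23),
  (245189, 6, 231806, 23),
  (245191, 6, 100734, 23),
  (245193, 6, 162042, 23),
  (245195, 6, 238669, 12),
  (245197, 6, 194746, 23),
  (245199, 6, 7639, 3),
  (245201, 6, 229694, 23),
  (245203, 6, 98622, 23),
  (245205, 6, 185585, 21),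
  (245207, 6, 238863, 11),
  (245209, 6, 162046, 23),
  (245211, 6, 240931, 20),
  (245213, 6, 194750, 23),
  (245215, 6, 148725, 20),
  (245763, 5, 157873, 41),
  (245765, 5, 188764, 21),
  (245766, 5, 139394, 43),
  (245769, 6, 172212, 19),
  (245770, 5, 12380, 38),
  (245772, 5, 196626, 43),
  (245775, 6, 199162, 22),
  (245777, 5, 250146, 20),
  (245778, 4, 250148, 20),
  (245780, 5, 172186, 19),
  (245783, 5, 25063, 6),
  (245784, 6, 147704, 14),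
  (245787, 7, 186851, 25),
  (245789, 6, 244001, 14),
  (245790, 6, 162010, 11),
  (245795, 6, 230561, 13),
  (245797, 5, 247877, 15),
  (245798, 3, 213478, 15),
  (245801, 5, 159806, 22),
  (245802, 6, 98794, 17),
  (245804, 4, 94270, 22),
  (245807, 6, 248911, 15),
  (245809, 6, 163996, 19),
  (245810, 4, 22710, 21),
  (245812, 6, 30841, 23),
  (245815, 6, 189759, 26),
  (245816, 6, 31803, 23),
  (245819, 6, 128363, 4),
  (245821, 6, 239007, 26),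
  (245822, 5, 244051, 25),
  (245827, 6, 22695, 25),
  (245829, 6, 213402, 22),
  (245830, 5, 65810, 43),
  (245833, 4, 149786, 22),
  (245834, 5, 131218, 43),
  (245836, 5, 8578, 43),
  (245839, 6, 195591, 24),
  (245841, 4, 172444, 19),
  (245842, 6, 250276, 20),
  (245844, 6, 90484, 7),
  (245847, 6, 63735, 25),
  (245848, 6, 156104, 16),
  (245851, 6, 192667, 11),
  (245853, 6, 61861, 6),
  (245854, 6, 72054, 1),
  (245859, 6, 233870, 20),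
  (245861, 4, 172076, 21),
  (245862, 6, 33190, 6),
  (245865, 5, 233882, 20),
  (245866, 5, 233884, 20),
  (245868, 6, 147948, 16),
  (245871, 6, 118221, 2),
  (245873, 6, 204167, 24),
  (245874, 5, 208263, 24),
  (245876, 4, 22846, 21),
  (245879, 6, 250287, 20),
  (245880, 6, 74104, 7),
  (245883, 5, 169313, 37),
  (245885, 6, 252049, 7),
  (245886, 6, 194746, 11),
  (245891, 4, 114908, 21),
  (245893, 6, 11355, 26),
  (245894, 6, 147910, 15),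
  (245897, 7, 172276, 19),
  (245898, 6, 147739, 23),
  (245900, 6, 246092, 16),
  (245903, 5, 220613, 8),
  (245905, 6, 136589, 24),
  (245906, 4, 30882, 21),
  (245908, 6, 90468, 6),
  (245911, 6, 159099, 26),
  (245912, 6, 90568, 13),
  (245915, 6, 251001, 5),
  (245917, 6, 129481, 4),
  (245918, 6, 216555, 26),
  (245923, 6, 102670, 20),
  (245925, 6, 77945, 23),
  (245926, 6, 231782, 10),
  (245929, 6, 148615, 25),
  (245930, 6, 131306, 4),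
  (245932, 6, 90174, 22),
  (245935, 5, 35307, 17),
  (245937, 6, 50311, 25),
  (245938, 5, 90594, 13),
  (245940, 5, 155876, 1),
  (245943, 6, 31206, 21),
  (245944, 6, 34245, 24),
  (245947, 6, 177329, 13),
  (245949, 6, 164094, 19),
  (245950, 5, 121302, 1),
  (245955, 6, 34273, 2),
  (245957, 6, 123017, 23),
  (245958, 4, 86226, 22),
  (245961, 6, 73193, 39),
  (245962, 6, 199819, 25),
  (245964, 5, 88210, 22),
  (245967, 6, 251915, 11),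
  (245969, 6, 141651, 26),
  (245970, 7, 30890, 21),
  (245972, 6, 153930, 42),
  (245975, 6, 246083, 44),
  (245976, 6, 147928, 6),
  (245979, 6, 248971, 25),
  (245981, 6, 244193, 14),
  (245982, 6, 125326, 13),
  (245987, 6, 147907, 3),
  (245989, 6, 204858, 22),
  (245990, 6, 204860, 21),
  (245993, 5, 489, 17),
  (245994, 3, 213066, 8),
  (245996, 6, 37356, 8),
  (245999, 6, 102815, 20),
  (246001, 6, 90593, 4),
  (246002, 6, 156114, 3),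
  (246004, 6, 156116, 3),
  (246007, 6, 62891, 22),
  (246008, 6, 31791, 22),
  (246011, 5, 47369, 38),
  (246013, 6, 32175, 22),
  (246014, 6, 174270, 4),
  (246019, 6, 147907, 11),
  (246021, 5, 237590, 19),
  (246022, 6, 237587, 19),
  (246025, 6, 250273, 13),
  (246026, 3, 213066, 13),
  (246028, 6, 147948, 14),
  (246031, 5, 163249, 25),
  (246033, 5, 245833, 44),
  (246034, 6, 156114, 11),
  (246036, 5, 155876, 6),
  (246039, 6, 155879, 6),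
  (246040, 6, 6199, 23),
  (246043, 6, 257093, 26),
  (246045, 6, 237630, 19),
  (246046, 6, 162266, 11),
  (246051, 6, 52445, 42),
  (246053, 6, 93233, 25),
  (246054, 6, 225292, 21),
  (246057, 6, 6261, 21),
  (246058, 6, 249922, 1),
  (246060, 6, 229426, 19),
  (246063, 6, 36267, 1),
  (246065, 4, 250218, 20),
  (246066, 6, 229401, 19),
  (246068, 5, 250217, 20),
  (246071, 6, 6646, 21),
  (246072, 6, 35267, 24),
  (246075, 7, 64791, 22),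
  (246077, 5, 6519, 21),
  (246078, 5, 41182, 39),
  (246083, 5, 60487, 26),
  (246085, 6, 233923, 20),
  (246086, 6, 215266, 17),
  (246089, 6, 168967, 24),
  (246090, 6, 6329, 21),
  (246092, 5, 174182, 42),
  (246095, 6, 220235, 4),
  (246097, 6, 175175, 26),
  (246098, 6, 213234, 17),
  (246100, 6, 156116, 2),
  (246103, 6, 244133, 23),
  (246104, 6, 14375, 23),
  (246107, 5, 47385, 38),
  (246109, 5, 6523, 21),
  (246110, 6, 237883, 19),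
  (246115, 6, 181475, 12),
  (246117, 6, 200762, 22),
  (246118, 6, 229651, 19),
  (246121, 6, 216357, 25),
  (246122, 5, 157722, 41),
  (246124, 6, 208149, 25),
  (246127, 6, 97359, 26),
  (246129, 5, 47213, 38),
  (246130, 5, 43226, 39),
  (246132, 4, 229658, 19),
  (246135, 5, 249235, 7),
  (246136, 6, 196856, 17),
  (246139, 6, 94683, 3),
  (246141, 5, 205849, 43),
  (246142, 5, 220239, 26),
  (246147, 6, 102726, 20),
  (246149, 6, 90247, 25),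
  (246150, 6, 246246, 12),
  (246153, 5, 250217, 5),
  (246154, 6, 14434, 22),
  (246156, 6, 37356, 3),
  (246159, 6, 250259, 23),
  (246161, 6, 90577, 8),
  (246162, 6, 153930, 37),
  (246164, 6, 213364, 14),
  (246167, 6, 14818, 21),
  (246168, 6, 74216, 5),
  (246171, 6, 179673, 24),
  (246173, 6, 113057, 14),
  (246174, 5, 47234, 38),
  (246179, 5, 180346, 22),
  (246181, 4, 229462, 19),
  (246182, 5, 45060, 38),
  (246185, 6, 74811, 23),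
  (246186, 5, 131474, 43),
  (246188, 5, 8594, 43),
  (246191, 5, 157829, 41),
  (246193, 6, 49287, 25),
  (246194, 6, 11665, 24),
  (246196, 4, 14630, 21),
  (246199, 6, 32185, 24),
  (246200, 6, 196984, 14),
  (246203, 6, 119166, 20),
  (246205, 6, 32159, 22),
  (246206, 5, 129410, 14),
  (246211, 6, 230561, 10),
  (246213, 5, 247877, 12),
  (246214, 3, 213478, 12),
  (246217, 6, 94339, 23),
  (246218, 6, 250122, 11),
  (246220, 5, 217412, 2),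
  (246223, 6, 14825, 21),
  (246225, 5, 237916, 19),
  (246226, 6, 205154, 8),
  (246228, 6, 119265, 20),
  (246231, 5, 193615, 26),
  (246232, 6, 147704, 17),
  (246235, 5, 147707, 17),
  (246237, 6, 242767, 26),
  (246238, 5, 47310, 38),
  (246243, 6, 143623, 24),
  (246245, 6, 229718, 19),
  (246246, 5, 139666, 43),
  (246249, 6, 131134, 22),
  (246250, 5, 74130, 43),
  (246252, 5, 40972, 38),
  (246255, 7, 197755, 23),
  (246257, 6, 201095, 24),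
  (246258, 6, 205282, 12),
  (246260, 6, 213383, 24),
  (246263, 5, 25047, 3),
  (246264, 6, 31807, 22),
  (246267, 5, 128433, 8),
  (246269, 6, 90477, 16),
  (246270, 6, 194802, 5),
  (246785, 6, 181475, 5),
  (246787, 6, 235782, 20),
  (246797, 6, 234989, 3),
  (246799, 6, 232557, 15),
  (246805, 6, 26085, 6),
  (246807, 6, 191921, 1),
  (246809, 6, 185595, 5),
  (246811, 6, 252214, 20),
  (246817, 7, 110764, 21),
  (246819, 4, 192570, 22),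
  (246829, 6, 251341, 3),
  (246831, 6, 5607, 6),
  (246837, 6, 88438, 21),
  (246839, 6, 158963, 11),
  (246841, 5, 242867, 13),
  (246843, 5, 128361, 4),
  (246849, 4, 180506, 22),
  (246851, 6, 235910, 20),
  (246861, 6, 55751, 12),
  (246863, 6, 248282, 22),
  (246869, 6, 252323, 20),
  (246871, 6, 252327, 20),
  (246873, 6, 233651, 7),
  (246875, 6, 198747, 41),
  (246881, 4, 106668, 21),
  (246883, 6, 235918, 20),
  (246893, 6, 38309, 6),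
  (246895, 6, 38311, 6),
  (246901, 6, 191665, 11),
  (246903, 6, 125383, 2),
  (246905, 6, 193721, 11),
  (246907, 5, 252350, 20),
  (246913, 7, 168242, 22),
  (246915, 6, 27731, 26),
  (246925, 6, 104723, 20),
  (246927, 5, 35247, 2),
  (246933, 6, 241057, 14),
  (246935, 6, 121127, 20),
  (246937, 6, 193715, 13),
  (246939, 5, 251023, 25),
  (246945, 6, 34273, 17),
  (246947, 6, 82371, 10),
  (246957, 6, 36329, 17),
  (246959, 6, 62829, 24),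
  (246965, 6, 96614, 21),
  (246967, 5, 96742, 21),
  (246969, 6, 96359, 21),
  (246971, 6, 120113, 12),
  (246977, 6, 53460, 21),
  (246979, 6, 104838, 20),
  (246989, 6, 185575, 13),
  (246991, 6, 252370, 22),
  (246997, 6, 96618, 21),
  (246999, 6, 121255, 20),
  (247001, 6, 128289, 6),
  (247003, 5, 106595, 44),
  (247009, 6, 23683, 25),
  (247011, 4, 69945, 23),
  (247021, 6, 204926, 22),
  (247023, 6, 3563, 17),
  (247029, 6, 21645, 42),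
  (247031, 5, 100393, 39),
  (247033, 6, 106777, 44),
  (247035, 6, 121278, 20),
  (247041, 6, 23721, 25),
  (247043, 4, 172394, 22),
  (247053, 6, 240042, 22),
  (247055, 5, 249297, 19),
  (247061, 6, 93527, 8),
  (247063, 5, 137561, 37),
  (247065, 6, 252274, 20),
  (247067, 6, 252278, 20),
  (247073, 5, 21649, 42),
  (247075, 4, 61580, 21),
  (247085, 6, 217214, 22),
  (247087, 6, 249918, 22),
  (247093, 5, 21835, 42),
  (247095, 6, 72182, 21),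
  (247097, 6, 39387, 24),
  (247099, 6, 185521, 12),
  (247105, 4, 61684, 21),
  (247107, 6, 235974, 20),
  (247117, 6, 111011, 23),
  (247119, 6, 250343, 13),
  (247125, 6, 240871, 2),
  (247127, 6, 252391, 20),
  (247129, 5, 100585, 39),
  (247131, 6, 252406, 20),
  (247137, 6, 213305, 23),
  (247139, 5, 21659, 42),
  (247149, 5, 35307, 1),
  (247151, 6, 249871, 10),
  (247157, 6, 191921, 11),
  (247159, 5, 25063, 16),
  (247161, 6, 250259, 7),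
  (247163, 6, 252414, 20),
  (247169, 6, 34273, 3),
  (247171, 6, 181475, 17),
  (247181, 6, 38381, 3),
  (247183, 6, 244194, 22),
  (247189, 5, 25841, 43),
  (247191, 6, 80354, 21),
  (247193, 6, 251259, 5),
  (247195, 6, 121206, 20),
  (247201, 6, 147907, 7),
  (247203, 6, 20623, 25),
  (247213, 6, 159879, 25),
  (247215, 6, 88551, 8),
  (247221, 6, 126337, 14),
  (247223, 6, 80358, 21),
  (247225, 6, 152019, 7),
  (247227, 6, 107833, 1),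
  (247233, 7, 53492, 21),
  (247235, 4, 192834, 22),
  (247245, 6, 260482, 22),
  (247247, 6, 233647, 10),
  (247253, 6, 121315, 20),
  (247255, 5, 25793, 43),
  (247257, 6, 121330, 20),
  (247259, 6, 121334, 20),
  (247265, 5, 198965, 41),
  (247267, 5, 57500, 21),
  (247277, 5, 251023, 10),
  (247279, 6, 121255, 8),
  (247285, 6, 63619, 25),
  (247287, 6, 199031, 5),
  (247289, 6, 121338, 20),
  (247291, 6, 185745, 7),
  (247809, 6, 99329, 39),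
  (247810, 4, 250, 22),
  (247813, 6, 196922, 22),
  (247814, 6, 215266, 4),
  (247819, 6, 95479, 26),
  (247823, 5, 165893, 37),
  (247827, 6, 126279, 4),
  (247831, 5, 240755, 15),
  (247833, 6, 210391, 26),
  (247834, 6, 129430, 5),
  (247837, 6, 184783, 24),
  (247838, 6, 235706, 16),
  (247841, 6, 127033, 23),
  (247842, 6, 215522, 15),
  (247845, 4, 239938, 19),
  (247846, 6, 24855, 24),
  (247851, 6, 128183, 26),
  (247855, 5, 99569, 39),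
  (247859, 5, 201115, 40),
  (247863, 6, 126337, 2),
  (247865, 6, 96766, 19),
  (247866, 5, 250014, 16),
  (247869, 5, 22645, 42),
  (247870, 5, 69658, 38),
  (247873, 4, 12375, 26),
  (247874, 6, 16602, 22),
  (247877, 4, 75921, 41),
  (247878, 6, 225428, 21),
  (247883, 5, 22533, 42),
  (247887, 6, 199787, 15),
  (247891, 6, 128289, 22),
  (247895, 6, 154106, 21),
  (247897, 6, 151805, 5),
  (247898, 5, 75866, 41),
  (247901, 6, 121170, 19),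
  (247902, 6, 252310, 15),
  (247905, 6, 172332, 21),
  (247906, 4, 110842, 22),
  (247909, 6, 99571, 39),
  (247910, 6, 35273, 20),
  (247915, 5, 99507, 39),
  (247919, 6, 179495, 24),
  (247923, 6, 159201, 16),
  (247927, 5, 129127, 25),
  (247929, 5, 200987, 40),
  (247930, 5, 200842, 40),
  (247933, 6, 242079, 26),
  (247934, 6, 250287, 26),
  (247937, 4, 49500, 21),
  (247938, 6, 173265, 19),
  (247941, 6, 180316, 21),
  (247942, 3, 213478, 2),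
  (247947, 6, 246235, 23),
  (247951, 6, 97531, 26),
  (247955, 6, 191665, 13),
  (247959, 6, 161181, 24),
  (247961, 6, 129454, 19),
  (247962, 6, 161955, 21),
  (247965, 6, 185805, 24),
  (247966, 5, 106514, 39),
  (247969, 6, 110649, 23),
  (247970, 5, 57654, 44),
  (247973, 6, 155834, 22),
  (247974, 6, 245830, 8),
  (247979, 6, 254206, 22),
  (247983, 6, 188670, 22),
  (247987, 6, 175281, 13),
  (247991, 6, 162278, 21),
  (247993, 5, 97551, 22),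
  (247994, 6, 162261, 20),
  (247997, 6, 97679, 22),
  (247998, 5, 75906, 41),
  (248001, 6, 93331, 25),
  (248002, 6, 215266, 12),
  (248005, 5, 13723, 38),
  (248006, 6, 196710, 8),
  (248011, 6, 137707, 3),
  (248015, 6, 249871, 11),
  (248019, 6, 162026, 21),
  (248023, 6, 162171, 26),
  (248025, 6, 129313, 6),
  (248026, 5, 135212, 42),
  (248029, 6, 211419, 26),
  (248030, 6, 242150, 14),
  (248033, 4, 239766, 19),
  (248034, 6, 205116, 21),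
  (248037, 5, 248225, 8),
  (248038, 4, 486, 17),
  (248043, 5, 148809, 43),
  (248047, 6, 129211, 26),
  (248051, 5, 165917, 37),
  (248055, 5, 22721, 42),
  (248057, 5, 260286, 19),
  (248058, 5, 75794, 41),
  (248061, 6, 173289, 20),
  (248062, 6, 252331, 26),
  (248065, 5, 247877, 4),
  (248066, 3, 213478, 4),
  (248069, 6, 205098, 22),
  (248070, 6, 147910, 11),
  (248075, 6, 126029, 26),
  (248079, 7, 137713, 21),
  (248083, 6, 128273, 22),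
  (248087, 6, 128401, 22),
  (248089, 5, 201193, 40),
  (248090, 6, 248909, 26),
  (248093, 6, 252370, 19),
  (248094, 5, 75910, 41),
  (248097, 6, 165937, 37),
  (248098, 6, 245830, 1),
  (248101, 4, 61708, 21),
  (248102, 6, 231782, 12),
  (248107, 6, 179351, 20),
  (248111, 5, 57373, 44),
  (248115, 5, 241073, 13),
  (248119, 5, 57507, 44),
  (248121, 5, 126011, 23),
  (248122, 6, 216141, 26),
  (248125, 6, 129501, 3),
  (248126, 5, 135460, 42),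
  (248129, 4, 141510, 19),
  (248130, 6, 196710, 1),
  (248133, 7, 213061, 4),
  (248134, 3, 90186, 22),
  (248139, 5, 148811, 43),
  (248143, 6, 238903, 19),
  (248147, 5, 137466, 21),
  (248151, 5, 128433, 22),
  (248153, 5, 97589, 22),
  (248154, 5, 75798, 41),
  (248157, 6, 213245, 17),
  (248158, 6, 238907, 19),
  (248161, 6, 114745, 23),
  (248162, 4, 486, 10),
  (248165, 6, 93221, 25),
  (248166, 6, 37114, 22),
  (248171, 5, 57389, 44),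
  (248175, 6, 97351, 26),
  (248179, 5, 57491, 44),
  (248183, 6, 137726, 21),
  (248185, 6, 127285, 8),
  (248186, 5, 151596, 42),
  (248189, 5, 57475, 44),
  (248190, 5, 63978, 7),
  (248193, 5, 99377, 39),
  (248194, 5, 157722, 38),
  (248197, 6, 86225, 23),
  (248198, 5, 213180, 21),
  (248203, 6, 250887, 12),
  (248207, 6, 128069, 26),
  (248211, 6, 191921, 13),
  (248215, 6, 204009, 20),
  (248217, 6, 238669, 26),
  (248218, 6, 113062, 14),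
  (248221, 6, 97693, 22),
  (248222, 5, 180548, 37),
  (248225, 4, 148483, 43),
  (248226, 4, 114938, 22),
  (248229, 6, 147642, 22),
  (248230, 6, 215266, 13),
  (248235, 6, 155079, 7),
  (248239, 5, 99521, 39),
  (248243, 6, 125319, 14),
  (248247, 6, 49311, 25),
  (248249, 6, 63934, 19),
  (248250, 6, 244202, 12),
  (248253, 6, 106813, 1),
  (248254, 5, 244206, 12),
  (248257, 6, 127169, 23),
  (248258, 6, 215522, 12),
  (248261, 4, 68050, 19),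
  (248262, 6, 238931, 19),
  (248267, 6, 252175, 11),
  (248271, 7, 227650, 22),
  (248275, 6, 126327, 1),
  (248279, 6, 145898, 21),
  (248281, 6, 194734, 19),
  (248282, 5, 49444, 37),
  (248285, 6, 147709, 17),
  (248286, 6, 111078, 14),
  (248289, 4, 188700, 21),
  (248290, 6, 231458, 6),
  (248293, 6, 13339, 38),
  (248294, 5, 90396, 21),
  (248299, 5, 13337, 38),
  (248303, 6, 95303, 26),
  (248307, 6, 125383, 14),
  (248311, 6, 134377, 20),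
  (248313, 6, 97599, 22),
  (248314, 5, 254132, 37),
  (248317, 6, 129457, 8),
  (248318, 6, 192758, 5),
  (248841, 6, 98811, 23),
  (248843, 5, 18721, 41),
  (248845, 6, 66043, 23),
  (248847, 5, 18561, 41),
  (248849, 6, 219250, 21),
  (248851, 6, 161111, 26),
  (248853, 6, 63723, 25),
  (248855, 6, 219634, 21),
  (248873, 6, 37247, 24),
  (248875, 5, 132507, 37),
  (248877, 6, 247883, 15),
  (248879, 6, 7655, 6),
  (248881, 5, 163909, 44),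
  (248883, 6, 219382, 21),
  (248885, 6, 219510, 21),
  (248887, 6, 125035, 25),
  (248905, 5, 69705, 39),
  (248907, 6, 182746, 22),
  (248909, 5, 18689, 41),
  (248911, 5, 18865, 41),
  (248913, 6, 60833, 6),
  (248915, 6, 191639, 11),
  (248917, 5, 212173, 19),
  (248919, 4, 10661, 38),
  (248937, 6, 219261, 21),
  (248939, 6, 241854, 22),
  (248941, 6, 251259, 23),
  (248943, 6, 120187, 23),
  (248945, 6, 218183, 20),
  (248947, 6, 121145, 23),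
  (248949, 6, 36333, 20),
  (248951, 5, 49265, 42),
  (248969, 6, 73195, 10),
  (248971, 5, 220239, 11),
  (248973, 6, 82395, 23),
  (248975, 6, 213211, 23),
  (248977, 6, 125383, 4),
  (248979, 6, 144813, 24),
  (248981, 6, 119959, 25),
  (248983, 5, 66843, 43),
  (249001, 6, 38269, 24),
  (249003, 6, 232749, 1),
  (249005, 5, 49493, 42),
  (249007, 6, 111995, 23),
  (249009, 5, 49281, 42),
  (249011, 6, 227558, 21),
  (249013, 6, 54423, 25),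
  (249015, 6, 118065, 12),
  (249033, 6, 186770, 22),
  (249035, 6, 186834, 22),
  (249037, 5, 49331, 42),
  (249039, 5, 35307, 2),
  (249041, 5, 66971, 43),
  (249043, 6, 241127, 14),
  (249045, 6, 191735, 13),
  (249047, 6, 227818, 21),
  (249065, 6, 205054, 22),
  (249067, 6, 121227, 10),
  (249069, 6, 112827, 26),
  (249071, 6, 252323, 8),
  (249073, 5, 10573, 38),
  (249075, 5, 69733, 39),
  (249077, 6, 175351, 13),
  (249079, 5, 49345, 42),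
  (249097, 6, 132589, 37),
  (249099, 6, 252323, 13),
  (249101, 6, 239914, 22),
  (249103, 5, 132517, 37),
  (249105, 5, 12361, 40),
  (249107, 5, 49389, 42),
  (249109, 6, 239987, 15),
  (249111, 6, 247031, 17),
  (249129, 5, 35247, 1),
  (249131, 5, 220613, 7),
  (249133, 5, 220239, 10),
  (249135, 6, 184510, 22),
  (249137, 6, 126417, 3),
  (249139, 6, 232695, 17),
  (249141, 6, 60903, 16),
  (249143, 6, 92531, 8),
  (249161, 6, 111075, 23),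
  (249163, 6, 190922, 22),
  (249165, 6, 158949, 19),
  (249167, 6, 252391, 13),
  (249169, 5, 10589, 38),
  (249171, 6, 248843, 20),
  (249173, 6, 203130, 21),
  (249175, 5, 12377, 40),
  (249193, 6, 193847, 24),
  (249195, 6, 251915, 10),
  (249197, 6, 135422, 22),
  (249199, 6, 169271, 24),
  (249201, 6, 250887, 20),
  (249203, 5, 66617, 43),
  (249205, 6, 203134, 21),
  (249207, 6, 117113, 23),
  (249225, 6, 118091, 16),
  (249227, 5, 178658, 22),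
  (249229, 5, 164139, 44),
  (249231, 6, 244066, 22),
  (249233, 5, 69889, 39),
  (249235, 4, 12691, 40),
  (249237, 6, 126279, 16),
  (249239, 6, 211426, 21),
  (249257, 6, 238907, 23),
  (249259, 5, 132363, 37),
  (249261, 6, 238971, 23),
  (249263, 5, 18565, 41),
  (249265, 6, 128347, 22),
  (249267, 6, 211174, 21),
  (249269, 6, 128475, 22),
  (249271, 6, 60887, 3),
  (249289, 6, 7657, 3),
  (249291, 6, 250949, 12),
  (249293, 6, 128103, 26),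
  (249295, 5, 251151, 11),
  (249297, 4, 132203, 37),
  (249299, 6, 211178, 21),
  (249301, 6, 211306, 21),
  (249303, 5, 12307, 40),
  (249321, 5, 69833, 39),
  (249323, 6, 229566, 22),
  (249325, 5, 18693, 41),
  (249327, 5, 18869, 41),
  (249329, 6, 251143, 20),
  (249331, 6, 196983, 5),
  (249333, 6, 93543, 16),
  (249335, 6, 49649, 42),
  (249857, 5, 102401, 39),
  (249858, 4, 241924, 20),
  (249860, 5, 90130, 43),
  (249863, 6, 118091, 4),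
  (249865, 6, 131390, 22),
  (249866, 5, 34898, 38),
  (249868, 6, 65726, 22),
  (249871, 5, 102465, 39),
  (249875, 6, 155867, 11),
  (249877, 6, 188574, 19),
  (249878, 6, 29166, 6),
  (249883, 6, 258358, 20),
  (249885, 6, 162001, 11),
  (249886, 5, 235702, 16),
  (249889, 5, 53665, 42),
  (249890, 5, 137378, 43),
  (249892, 5, 217412, 5),
  (249895, 6, 241935, 20),
  (249897, 5, 489, 6),
  (249898, 4, 490, 6),
  (249900, 4, 213484, 15),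
  (249903, 6, 123967, 26),
  (249907, 5, 242873, 13),
  (249909, 6, 180382, 19),
  (249910, 5, 199034, 2),
  (249915, 6, 259163, 15),
  (249917, 6, 260189, 15),
  (249918, 5, 172116, 44),
  (249921, 6, 74921, 23),
  (249922, 5, 24722, 43),
  (249924, 6, 246092, 17),
  (249927, 5, 102409, 39),
  (249929, 5, 102473, 39),
  (249930, 5, 250146, 2),
  (249932, 5, 8370, 43),
  (249935, 6, 213470, 22),
  (249939, 6, 208301, 23),
  (249941, 6, 30117, 22),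
  (249942, 6, 244074, 14),
  (249947, 6, 64801, 22),
  (249949, 6, 113133, 2),
  (249950, 5, 260286, 4),
  (249953, 6, 84263, 25),
  (249954, 6, 71943, 25),
  (249956, 6, 86476, 11),
  (249959, 5, 243834, 22),
  (249961, 6, 138567, 24),
  (249962, 6, 82250, 1),
  (249964, 6, 139309, 21),
  (249967, 5, 220239, 15),
  (249971, 5, 11475, 38),
  (249973, 6, 129477, 2),
  (249974, 5, 75906, 38),
  (249979, 6, 252007, 25),
  (249981, 5, 83027, 43),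
  (249982, 6, 129326, 13),
  (249985, 4, 49245, 21),
  (249986, 3, 213066, 11),
  (249988, 6, 37356, 11),
  (249991, 7, 246237, 21),
  (249993, 6, 83335, 25),
  (249994, 5, 30982, 37),
  (249996, 6, 245836, 2),
  (249999, 6, 118031, 12),
  (250003, 6, 193721, 13),
  (250005, 5, 83131, 43),
  (250006, 5, 254116, 41),
  (250011, 6, 242939, 15),
  (250013, 6, 243965, 15),
  (250014, 4, 172114, 44),
  (250017, 6, 180436, 19),
  (250018, 6, 59514, 22),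
  (250020, 6, 149785, 21),
  (250023, 6, 110863, 20),
  (250025, 5, 250217, 16),
  (250026, 5, 250146, 7),
  (250028, 6, 147948, 15),
  (250031, 5, 126011, 26),
  (250035, 5, 102507, 39),
  (250037, 6, 175515, 26),
  (250038, 5, 96742, 13),
  (250043, 6, 127294, 20),
  (250045, 5, 180478, 19),
  (250046, 6, 42383, 25),
  (250049, 6, 188884, 19),
  (250050, 6, 213226, 12),
  (250052, 5, 217412, 16),
  (250055, 6, 219606, 22),
  (250057, 5, 250217, 1),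
  (250058, 4, 110996, 20),
  (250060, 3, 213068, 2),
  (250063, 6, 161863, 24),
  (250067, 6, 127398, 20),
  (250069, 6, 188894, 19),
  (250070, 5, 180488, 42),
  (250075, 6, 210171, 15),
  (250077, 5, 53539, 42),
  (250078, 5, 102622, 39),
  (250081, 4, 141370, 22),
  (250082, 6, 102698, 6),
  (250084, 6, 196844, 12),
  (250087, 6, 239738, 22),
  (250089, 6, 70713, 23),
  (250090, 6, 73789, 21),
  (250092, 6, 5241, 23),
  (250095, 6, 165101, 13),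
  (250099, 5, 102501, 39),
  (250101, 5, 83237, 43),
  (250102, 6, 220563, 21),
  (250107, 6, 120209, 10),
  (250109, 6, 219591, 24),
  (250110, 6, 129454, 13),
  (250113, 4, 141614, 22),
  (250114, 6, 102698, 14),
  (250116, 6, 11665, 25),
  (250119, 6, 162171, 24),
  (250121, 6, 70835, 23),
  (250122, 5, 88326, 37),
  (250124, 5, 161805, 21),
  (250127, 6, 162993, 25),
  (250131, 6, 242849, 2),
  (250133, 6, 253982, 19),
  (250134, 5, 178658, 8),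
  (250139, 6, 191685, 26),
  (250141, 6, 155885, 6),
  (250142, 6, 258421, 20),
  (250145, 5, 241994, 20),
  (250146, 4, 188678, 37),
  (250148, 3, 213068, 10),
  (250151, 6, 97585, 25),
  (250153, 5, 216097, 25),
  (250154, 6, 131306, 6),
  (250156, 4, 88126, 22),
  (250159, 6, 252030, 22),
  (250163, 7, 172339, 44),
  (250165, 5, 212173, 26),
  (250166, 6, 248222, 16),
  (250171, 5, 53571, 42),
  (250173, 6, 193549, 21),
  (250174, 6, 67970, 37),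
  (250177, 4, 242114, 20),
  (250178, 4, 242116, 20),
  (250180, 6, 37356, 4),
  (250183, 6, 193607, 24),
  (250185, 6, 155918, 22),
  (250186, 6, 138373, 25),
  (250188, 6, 196844, 11),
  (250191, 6, 242135, 20),
  (250195, 5, 84359, 41),
  (250197, 6, 193911, 21),
  (250198, 6, 179493, 23),
  (250203, 6, 210299, 15),
  (250205, 5, 102565, 39),
  (250206, 6, 145898, 8),
  (250209, 6, 246036, 19),
  (250210, 6, 39034, 22),
  (250212, 5, 162097, 21),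
  (250215, 5, 97589, 25),
  (250217, 4, 172317, 44),
  (250218, 3, 213066, 1),
  (250220, 6, 249860, 10),
  (250223, 6, 235646, 22),
  (250227, 6, 185595, 12),
  (250229, 6, 186621, 12),
  (250230, 6, 106696, 39),
  (250235, 6, 210375, 24),
  (250237, 6, 246078, 19),
  (250238, 6, 162250, 8),
  (250241, 6, 213383, 25),
  (250242, 6, 246250, 12),
  (250244, 6, 196844, 10),
  (250247, 6, 163193, 24),
  (250249, 6, 254068, 19),
  (250250, 6, 213098, 6),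
  (250252, 6, 77990, 22),
  (250255, 6, 37351, 3),
  (250259, 5, 143763, 40),
  (250261, 6, 254046, 19),
  (250262, 5, 102622, 38),
  (250267, 6, 127350, 20),
  (250269, 6, 177357, 26),
  (250270, 5, 75798, 38),
  (250273, 5, 102529, 39),
  (250274, 4, 110924, 20),
  (250276, 5, 8354, 43),
  (250279, 5, 134473, 37),
  (250281, 4, 149566, 22),
  (250282, 5, 24738, 43),
  (250284, 6, 8583, 25),
  (250287, 5, 102593, 39),
  (250291, 6, 250939, 12),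
  (250293, 6, 112945, 1),
  (250294, 6, 194746, 5),
  (250299, 5, 128361, 16),
  (250301, 6, 112953, 1),
  (250302, 6, 242150, 12),
  (250305, 5, 489, 3),
  (250306, 4, 490, 3),
  (250308, 4, 213484, 12),
  (250311, 5, 143445, 40),
  (250313, 4, 254324, 19),
  (250314, 6, 139335, 24),
  (250316, 4, 94342, 22),
  (250319, 6, 248911, 12),
  (250323, 6, 241863, 24),
  (250325, 6, 254302, 19),
  (250326, 5, 67730, 38),
  (250331, 6, 218481, 5),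
  (250333, 6, 260369, 11),
  (250334, 5, 110614, 38),
  (250337, 6, 111050, 20),
  (250338, 5, 34838, 38),
  (250340, 6, 233764, 14),
  (250343, 5, 102537, 39),
  (250345, 4, 111066, 20),
  (250346, 5, 250146, 11),
  (250348, 5, 41030, 38),
  (250351, 6, 246135, 19),
  (250355, 6, 246109, 19),
  (250357, 6, 129481, 14),
  (250358, 6, 194810, 5),
  (250363, 6, 251025, 10),
  (250365, 5, 194765, 2),
  (250366, 5, 137466, 17),
  (250885, 6, 231870, 22),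
  (250887, 5, 12361, 38),
  (250893, 6, 186795, 1),
  (250895, 5, 69889, 40),
  (250897, 6, 62789, 22),
  (250899, 6, 132589, 43),
  (250905, 6, 238889, 14),
  (250907, 6, 192971, 16),
  (250917, 6, 227450, 22),
  (250919, 6, 233647, 13),
  (250925, 6, 241837, 21),
  (250927, 6, 253005, 15),
  (250929, 6, 4575, 24),
  (250931, 6, 260398, 20),
  (250937, 6, 194027, 16),
  (250939, 5, 164139, 37),
  (250949, 5, 163909, 37),
  (250951, 6, 252175, 8),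
  (250957, 5, 49281, 44),
  (250959, 6, 244119, 20),
  (250961, 6, 139767, 26),
  (250963, 5, 147707, 5),
  (250969, 6, 205175, 26),
  (250971, 6, 203991, 24),
  (250981, 6, 211066, 22),
  (250983, 6, 220229, 15),
  (250989, 6, 218489, 23),
  (250991, 6, 244127, 20),
  (250993, 6, 242939, 13),
  (250995, 6, 259403, 14),
  (251001, 5, 49493, 44),
  (251003, 6, 193715, 11),
  (251013, 6, 180701, 21),
  (251015, 5, 49389, 44),
  (251021, 6, 76923, 26),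
  (251023, 4, 12691, 38),
  (251025, 5, 18721, 42),
  (251027, 6, 129318, 20),
  (251033, 6, 259403, 16),
  (251035, 5, 129334, 20),
  (251045, 6, 223354, 22),
  (251047, 6, 216171, 11),
  (251053, 5, 66843, 39),
  (251055, 6, 256062, 22),
  (251057, 5, 18561, 42),
  (251059, 5, 132517, 43),
  (251065, 6, 38301, 24),
  (251067, 6, 129342, 20),
  (251077, 6, 252310, 22),
  (251079, 6, 248843, 11),
  (251085, 6, 250262, 22),
  (251087, 6, 250326, 22),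
  (251089, 5, 132507, 43),
  (251091, 5, 128299, 6),
  (251097, 6, 218227, 5),
  (251099, 5, 132363, 43),
  (251109, 6, 240823, 19),
  (251111, 6, 248875, 11),
  (251117, 6, 7657, 17),
  (251119, 6, 248239, 8),
  (251121, 6, 90603, 4),
  (251123, 6, 129454, 20),
  (251129, 6, 211415, 24),
  (251131, 5, 18565, 42),
  (251141, 6, 251311, 13),
  (251143, 5, 10589, 41),
  (251149, 5, 66971, 39),
  (251151, 4, 132203, 43),
  (251153, 5, 69705, 40),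
  (251155, 6, 145867, 24),
  (251161, 6, 260466, 20),
  (251163, 6, 90459, 8),
  (251173, 5, 97593, 25),
  (251175, 6, 251962, 22),
  (251181, 6, 39339, 1),
  (251183, 6, 251966, 22),
  (251185, 5, 18689, 42),
  (251187, 6, 118121, 25),
  (251193, 5, 49331, 44),
  (251195, 6, 244193, 19),
  (251205, 6, 112033, 23),
  (251207, 6, 242849, 23),
  (251213, 5, 10573, 41),
  (251215, 6, 242851, 23),
  (251217, 6, 62711, 21),
  (251219, 6, 240871, 26),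
  (251225, 6, 260594, 20),
  (251227, 5, 69833, 40),
  (251237, 6, 213371, 23),
  (251239, 6, 235578, 22),
  (251245, 6, 250887, 10),
  (251247, 6, 118091, 14),
  (251249, 6, 243159, 24),
  (251251, 6, 260590, 20),
  (251257, 6, 210391, 24),
  (251259, 5, 18693, 42),
  (251269, 6, 120209, 23),
  (251271, 6, 251025, 23),
  (251277, 6, 247823, 12),
  (251279, 6, 242150, 22),
  (251281, 6, 129378, 20),
  (251283, 6, 129382, 20),
  (251289, 6, 129394, 20),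
  (251291, 6, 185595, 17),
  (251301, 4, 10661, 41),
  (251303, 5, 12377, 38),
  (251309, 6, 215166, 22),
  (251311, 5, 12307, 38),
  (251313, 5, 18865, 42),
  (251315, 6, 213211, 10),
  (251321, 5, 147931, 7),
  (251323, 6, 32091, 22),
  (251333, 6, 192599, 24),
  (251335, 5, 66617, 39),
  (251341, 5, 69733, 40),
  (251343, 6, 5607, 3),
  (251345, 6, 129506, 20),
  (251347, 6, 112107, 14),
  (251353, 6, 259345, 11),
  (251355, 6, 129526, 20),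
  (251365, 5, 49265, 44),
  (251367, 5, 220613, 15),
  (251373, 5, 49345, 44)]

theorem chk_rows2_27 : rows2_27.all (rowBP tr2 gensLitP 72) = true := by decide +kernel

/-- Rows 42000 to 43499. -/
def rows2_28 : List (ℕ × ℕ × ℕ × ℕ) := [(251375, 6, 49649, 44),
  (251377, 6, 242135, 24),
  (251379, 6, 251001, 12),
  (251385, 6, 193739, 2),
  (251387, 5, 18869, 42),
  (251907, 5, 133297, 41),
  (251911, 5, 41033, 38),
  (251915, 5, 133409, 41),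
  (251919, 6, 249005, 13),
  (251921, 6, 135345, 37),
  (251922, 6, 229566, 16),
  (251925, 6, 113057, 2),
  (251926, 6, 156119, 24),
  (251929, 6, 241789, 15),
  (251930, 6, 212269, 21),
  (251933, 6, 97665, 22),
  (251934, 6, 104953, 20),
  (251939, 6, 252175, 14),
  (251943, 6, 194810, 22),
  (251947, 6, 146631, 20),
  (251951, 6, 227363, 25),
  (251953, 5, 195041, 16),
  (251954, 6, 128007, 22),
  (251957, 6, 129147, 23),
  (251958, 5, 10274, 42),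
  (251961, 6, 96734, 19),
  (251962, 5, 20740, 41),
  (251965, 6, 195053, 16),
  (251966, 5, 135460, 37),
  (251971, 6, 149982, 22),
  (251975, 5, 133153, 41),
  (251979, 5, 40969, 38),
  (251983, 6, 206315, 23),
  (251985, 6, 147709, 5),
  (251986, 6, 248126, 2),
  (251989, 6, 121202, 19),
  (251990, 5, 41380, 38),
  (251993, 6, 182519, 25),
  (251994, 6, 194710, 11),
  (251997, 6, 97697, 22),
  (251998, 6, 248222, 15),
  (252003, 6, 243962, 22),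
  (252007, 5, 251023, 7),
  (252011, 6, 212039, 20),
  (252015, 5, 35247, 6),
  (252017, 5, 135531, 37),
  (252018, 5, 20778, 40),
  (252021, 6, 243965, 13),
  (252022, 5, 106514, 43),
  (252025, 6, 220647, 24),
  (252026, 6, 67970, 39),
  (252029, 6, 129481, 2),
  (252030, 5, 41182, 38),
  (252035, 6, 189653, 19),
  (252039, 6, 203126, 22),
  (252043, 6, 97395, 26),
  (252047, 5, 98397, 44),
  (252049, 5, 20493, 40),
  (252050, 5, 67802, 39),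
  (252053, 6, 219506, 19),
  (252054, 5, 67734, 39),
  (252057, 6, 129477, 4),
  (252058, 5, 49412, 41),
  (252061, 6, 116119, 25),
  (252062, 5, 20748, 40),
  (252067, 6, 218605, 8),
  (252071, 5, 133465, 41),
  (252075, 6, 26015, 25),
  (252079, 6, 190718, 22),
  (252081, 5, 67617, 39),
  (252082, 5, 190938, 3),
  (252085, 6, 112763, 23),
  (252086, 6, 128143, 22),
  (252089, 6, 129438, 19),
  (252090, 5, 75910, 43),
  (252093, 6, 117049, 12),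
  (252094, 5, 133250, 41),
  (252099, 6, 247823, 11),
  (252103, 5, 219478, 22),
  (252107, 6, 38381, 2),
  (252111, 6, 118091, 12),
  (252113, 6, 243886, 19),
  (252114, 5, 135202, 42),
  (252117, 4, 98419, 44),
  (252118, 5, 135554, 37),
  (252121, 4, 17769, 42),
  (252122, 5, 67730, 39),
  (252125, 5, 17699, 42),
  (252126, 5, 67806, 39),
  (252131, 6, 239866, 22),
  (252135, 6, 174330, 22),
  (252139, 6, 28059, 25),
  (252143, 6, 17759, 42),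
  (252145, 6, 252391, 24),
  (252146, 4, 114820, 39),
  (252149, 5, 135253, 37),
  (252150, 5, 67734, 43),
  (252153, 5, 133283, 41),
  (252154, 6, 223719, 24),
  (252157, 5, 67621, 39),
  (252158, 6, 178362, 4),
  (252163, 6, 248911, 4),
  (252167, 6, 32161, 25),
  (252171, 6, 260365, 21),
  (252175, 5, 41139, 38),
  (252177, 5, 98377, 44),
  (252178, 6, 162026, 6),
  (252181, 6, 156125, 11),
  (252182, 6, 222399, 21),
  (252185, 6, 97553, 22),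
  (252186, 5, 67602, 43),
  (252189, 6, 186763, 24),
  (252190, 6, 98392, 44),
  (252195, 6, 89393, 25),
  (252199, 6, 38311, 1),
  (252203, 6, 220209, 25),
  (252207, 6, 220229, 10),
  (252209, 5, 67601, 39),
  (252210, 5, 260286, 5),
  (252213, 6, 95639, 22),
  (252214, 5, 172116, 41),
  (252217, 6, 39339, 24),
  (252218, 5, 135306, 37),
  (252221, 6, 244194, 19),
  (252222, 5, 20740, 40),
  (252227, 6, 186539, 6),
  (252231, 6, 234927, 7),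
  (252235, 6, 156110, 22),
  (252239, 6, 7641, 20),
  (252241, 5, 98793, 44),
  (252242, 6, 133510, 41),
  (252245, 6, 234727, 24),
  (252246, 5, 75794, 43),
  (252249, 5, 133287, 41),
  (252250, 6, 183503, 26),
  (252253, 5, 98505, 44),
  (252254, 6, 117150, 15),
  (252259, 6, 235770, 22),
  (252263, 5, 17617, 42),
  (252267, 6, 244743, 20),
  (252271, 6, 3545, 20),
  (252273, 6, 118133, 25),
  (252274, 5, 151586, 42),
  (252277, 6, 129506, 19),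
  (252278, 5, 49508, 41),
  (252281, 6, 218599, 24),
  (252282, 5, 67602, 39),
  (252285, 5, 98435, 44),
  (252286, 5, 260138, 13),
  (252291, 5, 35307, 3),
  (252295, 6, 211302, 22),
  (252299, 5, 20597, 40),
  (252303, 6, 248843, 12),
  (252305, 6, 246141, 5),
  (252306, 6, 113070, 14),
  (252309, 5, 41159, 38),
  (252310, 5, 180488, 37),
  (252313, 6, 186621, 17),
  (252314, 5, 151596, 41),
  (252317, 6, 187785, 24),
  (252318, 5, 135204, 37),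
  (252323, 5, 9635, 43),
  (252327, 5, 41049, 38),
  (252331, 5, 135435, 37),
  (252335, 6, 248875, 12),
  (252337, 4, 68017, 39),
  (252338, 6, 129422, 14),
  (252341, 6, 227810, 19),
  (252342, 6, 127374, 14),
  (252345, 5, 193821, 21),
  (252346, 6, 125326, 14),
  (252349, 6, 211426, 19),
  (252350, 4, 98398, 44),
  (252355, 6, 162246, 22),
  (252359, 6, 146649, 20),
  (252363, 6, 160198, 22),
  (252367, 6, 225606, 22),
  (252369, 6, 113133, 14),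
  (252370, 5, 135212, 37),
  (252373, 6, 144633, 20),
  (252374, 5, 135202, 37),
  (252377, 5, 97593, 22),
  (252378, 5, 20610, 40),
  (252381, 6, 125337, 8),
  (252382, 6, 205031, 24),
  (252387, 6, 231674, 22),
  (252391, 5, 133157, 41),
  (252395, 5, 98401, 44),
  (252399, 6, 247159, 19),
  (252401, 6, 250343, 24),
  (252402, 6, 247129, 19),
  (252405, 6, 100475, 23),
  (252406, 5, 27102, 3),
  (252409, 6, 252049, 10),
  (252410, 5, 127334, 7),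
  (252413, 6, 80354, 19),
  (252414, 5, 51646, 15),
  (252929, 6, 76263, 19),
  (252931, 6, 249203, 19),
  (252933, 6, 231742, 22),
  (252935, 6, 231806, 22),
  (252937, 6, 232749, 14),
  (252939, 7, 230651, 23),
  (252941, 6, 113069, 21),
  (252943, 6, 197883, 23),
  (252961, 6, 7657, 6),
  (252963, 6, 250949, 15),
  (252965, 6, 162042, 22),
  (252967, 5, 251151, 14),
  (252969, 6, 92631, 19),
  (252971, 5, 260286, 22),
  (252973, 6, 162046, 22),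
  (252975, 6, 194750, 22),
  (252993, 5, 223537, 41),
  (252995, 6, 18879, 25),
  (252997, 6, 248094, 22),
  (252999, 6, 258133, 21),
  (253001, 5, 223393, 41),
  (253003, 5, 251301, 9),
  (253005, 5, 223489, 41),
  (253007, 6, 157871, 25),
  (253025, 6, 252047, 7),
  (253027, 6, 243898, 22),
  (253029, 6, 145658, 22),
  (253031, 6, 178362, 22),
  (253033, 6, 163191, 24),
  (253035, 6, 212035, 20),
  (253037, 5, 220613, 3),
  (253039, 5, 34269, 20),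
  (253057, 6, 38311, 2),
  (253059, 6, 31955, 26),
  (253061, 6, 109989, 19),
  (253063, 6, 235894, 22),
  (253065, 6, 220229, 11),
  (253067, 6, 168438, 22),
  (253069, 6, 83419, 23),
  (253071, 6, 233846, 22),
  (253089, 7, 48307, 26),
  (253091, 6, 117081, 21),
  (253093, 6, 220651, 8),
  (253095, 6, 252263, 16),
  (253097, 6, 249229, 14),
  (253099, 6, 46381, 24),
  (253101, 6, 38381, 17),
  (253103, 6, 190654, 22),
  (253121, 6, 186774, 22),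
  (253123, 6, 186838, 22),
  (253125, 6, 216171, 5),
  (253127, 6, 252246, 22),
  (253129, 6, 124363, 23),
  (253131, 6, 184790, 22),
  (253133, 6, 250134, 22),
  (253135, 6, 250887, 11),
  (253153, 6, 251311, 8),
  (253155, 6, 7655, 17),
  (253157, 6, 199787, 5),
  (253159, 6, 5607, 17),
  (253161, 6, 162167, 24),
  (253163, 6, 239806, 22),
  (253165, 6, 141566, 22),
  (253167, 6, 174270, 22),
  (253185, 6, 174510, 22),
  (253187, 6, 248909, 4),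
  (253189, 6, 239918, 22),
  (253191, 6, 55751, 16),
  (253193, 6, 172462, 22),
  (253195, 6, 233647, 2),
  (253197, 6, 249927, 4),
  (253199, 6, 248239, 13),
  (253217, 5, 6523, 24),
  (253219, 6, 252090, 22),
  (253221, 6, 153850, 22),
  (253223, 6, 186554, 22),
  (253225, 5, 251023, 2),
  (253227, 6, 252094, 22),
  (253229, 6, 153854, 22),
  (253231, 6, 186558, 22),
  (253249, 5, 220389, 17),
  (253251, 6, 216141, 4),
  (253253, 6, 32173, 25),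
  (253255, 6, 169079, 24),
  (253257, 6, 238607, 20),
  (253259, 6, 220229, 4),
  (253261, 6, 125325, 21),
  (253263, 6, 254286, 22),
  (253281, 6, 193911, 24),
  (253283, 6, 235706, 22),
  (253285, 5, 137466, 22),
  (253287, 6, 247823, 10),
  (253289, 6, 242695, 20),
  (253291, 6, 249229, 7),
  (253293, 6, 137470, 22),
  (253295, 6, 38381, 1),
  (253313, 6, 249871, 12),
  (253315, 6, 178662, 22),
  (253317, 6, 251915, 12),
  (253319, 6, 244070, 22),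
  (253321, 6, 120275, 23),
  (253323, 6, 216171, 6),
  (253325, 6, 241958, 22),
  (253327, 6, 63901, 21),
  (253345, 6, 91373, 26),
  (253347, 6, 15721, 24),
  (253349, 6, 149754, 22),
  (253351, 6, 182458, 22),
  (253353, 5, 223637, 41),
  (253355, 6, 247998, 22),
  (253357, 6, 60821, 19),
  (253359, 6, 182462, 22),
  (253377, 6, 194950, 22),
  (253379, 6, 195014, 22),
  (253381, 6, 260358, 22),
  (253383, 6, 260422, 22),
  (253385, 6, 238863, 20),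
  (253387, 6, 192966, 22),
  (253389, 6, 247883, 12),
  (253391, 6, 7655, 3),
  (253409, 5, 223541, 41),
  (253411, 6, 121201, 21),
  (253413, 6, 133370, 22),
  (253415, 6, 252017, 21),
  (253417, 5, 171271, 37),
  (253419, 5, 223253, 41),
  (253421, 6, 247915, 12),
  (253423, 6, 57757, 21),
  (253953, 6, 131387, 22),
  (253954, 6, 213234, 4),
  (253956, 5, 205172, 5),
  (253959, 6, 254430, 21),
  (253960, 5, 63, 23),
  (253963, 6, 128347, 4),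
  (253965, 6, 228363, 39),
  (253966, 6, 194974, 7),
  (253969, 6, 140375, 26),
  (253970, 6, 205207, 24),
  (253972, 5, 145454, 21),
  (253975, 6, 243758, 21),
  (253976, 6, 196984, 5),
  (253979, 6, 250134, 20),
  (253981, 6, 190889, 1),
  (253982, 5, 129410, 5),
  (253985, 4, 69903, 24),
  (253986, 6, 205154, 2),
  (253988, 6, 233769, 20),
  (253991, 5, 248919, 15),
  (253992, 6, 31807, 23),
  (253995, 6, 233790, 20),
  (253997, 6, 260369, 14),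
  (253998, 6, 211306, 2),
  (254001, 6, 155873, 11),
  (254002, 6, 155874, 11),
  (254004, 6, 90452, 10),
  (254007, 6, 94655, 24),
  (254008, 6, 28735, 22),
  (254011, 6, 120187, 4),
  (254013, 6, 178429, 5),
  (254014, 6, 162026, 11),
  (254017, 6, 155873, 5),
  (254018, 5, 90594, 17),
  (254020, 6, 156116, 16),
  (254023, 6, 239987, 14),
  (254024, 6, 8239, 23),
  (254027, 6, 90603, 17),
  (254029, 6, 156125, 16),
  (254030, 6, 247998, 4),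
  (254033, 6, 51367, 25),
  (254034, 6, 147559, 26),
  (254036, 6, 90468, 7),
  (254039, 6, 60887, 12),
  (254040, 6, 147928, 16),
  (254043, 5, 242867, 7),
  (254045, 6, 250259, 20),
  (254046, 5, 194698, 11),
  (254049, 4, 233898, 20),
  (254050, 4, 233900, 20),
  (254052, 4, 168338, 19),
  (254055, 5, 163207, 24),
  (254056, 6, 74216, 17),
  (254059, 6, 74219, 17),
  (254061, 7, 187783, 24),
  (254062, 6, 186554, 11),
  (254065, 6, 172055, 26),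
  (254066, 6, 90450, 1),
  (254068, 5, 155876, 2),
  (254071, 6, 237614, 21),
  (254072, 7, 12351, 22),
  (254075, 6, 250270, 20),
  (254077, 6, 174569, 1),
  (254078, 6, 117054, 13),
  (254081, 4, 102690, 20),
  (254082, 6, 156098, 15),
  (254084, 6, 90484, 6),
  (254087, 6, 232695, 15),
  (254088, 6, 147704, 4),
  (254091, 6, 185521, 13),
  (254093, 6, 32097, 21),
  (254094, 6, 113126, 1),
  (254097, 6, 142419, 26),
  (254098, 6, 156114, 15),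
  (254100, 6, 156116, 15),
  (254103, 6, 82295, 6),
  (254104, 6, 199875, 26),
  (254107, 6, 120283, 4),
  (254109, 6, 32099, 21),
  (254110, 7, 178366, 16),
  (254113, 6, 102698, 20),
  (254114, 6, 156130, 15),
  (254116, 4, 149786, 21),
  (254119, 6, 248282, 21),
  (254120, 6, 147928, 12),
  (254123, 6, 102718, 20),
  (254125, 6, 243821, 5),
  (254126, 6, 211434, 2),
  (254129, 6, 90577, 10),
  (254130, 6, 168153, 19),
  (254132, 4, 168154, 19),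
  (254135, 6, 241726, 21),
  (254136, 6, 156104, 12),
  (254139, 6, 250259, 14),
  (254141, 6, 162001, 7),
  (254142, 6, 43514, 17),
  (254145, 6, 90577, 4),
  (254146, 5, 102820, 20),
  (254148, 6, 102817, 20),
  (254151, 6, 126279, 12),
  (254152, 6, 196856, 15),
  (254155, 6, 102838, 20),
  (254157, 6, 127285, 6),
  (254158, 6, 125342, 13),
  (254161, 6, 85187, 25),
  (254162, 6, 213234, 12),
  (254164, 6, 90596, 7),
  (254167, 6, 139751, 3),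
  (254168, 6, 9279, 22),
  (254171, 6, 243719, 24),
  (254173, 6, 213341, 16),
  (254174, 6, 117150, 13),
  (254177, 6, 52419, 25),
  (254178, 5, 88210, 21),
  (254180, 6, 213108, 2),
  (254183, 6, 252370, 21),
  (254184, 6, 7231, 23),
  (254187, 6, 251313, 8),
  (254189, 6, 168438, 19),
  (254190, 6, 244138, 2),
  (254193, 4, 168412, 19),
  (254194, 6, 156098, 3),
  (254196, 6, 213364, 16),
  (254199, 6, 126327, 12),
  (254200, 6, 74216, 7),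
  (254203, 6, 172159, 22),
  (254205, 6, 194705, 7),
  (254206, 5, 260138, 11),
  (254209, 6, 19681, 25),
  (254210, 3, 90302, 21),
  (254212, 4, 155966, 21),
  (254215, 6, 232823, 15),
  (254216, 6, 74104, 5),
  (254219, 6, 251313, 13),
  (254221, 6, 195053, 5),
  (254222, 6, 252050, 5),
  (254225, 4, 241692, 19),
  (254226, 6, 156098, 11),
  (254228, 4, 241690, 19),
  (254231, 6, 191639, 12),
  (254232, 6, 74216, 12),
  (254235, 6, 244187, 24),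
  (254237, 6, 191921, 25),
  (254238, 5, 151798, 6),
  (254241, 6, 59514, 21),
  (254242, 5, 90594, 15),
  (254244, 6, 90596, 15),
  (254247, 6, 256506, 21),
  (254248, 6, 90568, 20),
  (254251, 6, 7413, 21),
  (254253, 6, 178669, 5),
  (254254, 5, 190938, 8),
  (254257, 6, 61454, 21),
  (254258, 6, 156130, 11),
  (254260, 6, 159758, 21),
  (254263, 6, 32077, 26),
  (254264, 6, 90568, 12),
  (254267, 6, 193715, 12),
  (254269, 6, 7543, 21),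
  (254270, 6, 162282, 11),
  (254273, 6, 61558, 21),
  (254274, 6, 94390, 21),
  (254276, 6, 160054, 21),
  (254279, 6, 241943, 19),
  (254280, 6, 196984, 15),
  (254283, 6, 7417, 21),
  (254285, 6, 245071, 26),
  (254286, 5, 244206, 16),
  (254289, 5, 250306, 20),
  (254290, 5, 250308, 20),
  (254292, 6, 213364, 12),
  (254295, 6, 180407, 6),
  (254296, 6, 205160, 15),
  (254299, 6, 126279, 26),
  (254301, 6, 250887, 24),
  (254302, 5, 78318, 3),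
  (254305, 6, 63602, 21),
  (254306, 6, 156114, 8),
  (254308, 5, 205172, 12),
  (254311, 6, 97397, 25),
  (254312, 6, 27657, 22),
  (254315, 6, 205035, 17),
  (254317, 6, 7549, 21),
  (254318, 5, 252146, 5),
  (254321, 6, 81981, 23),
  (254322, 4, 90126, 21),
  (254324, 3, 155662, 21),
  (254327, 6, 191735, 12),
  (254328, 6, 147928, 8),
  (254331, 6, 128289, 8),
  (254333, 6, 233790, 19),
  (254334, 6, 247870, 13),
  (254337, 6, 114887, 25),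
  (254338, 5, 90594, 2),
  (254340, 6, 156116, 1),
  (254343, 7, 228665, 24),
  (254344, 7, 14371, 22),
  (254347, 6, 87505, 8),
  (254349, 6, 241782, 19),
  (254350, 6, 243942, 1),
  (254353, 7, 241756, 19),
  (254354, 6, 156130, 4),
  (254356, 6, 73927, 25),
  (254359, 6, 241127, 15),
  (254360, 6, 213464, 19),
  (254363, 6, 241789, 19),
  (254365, 5, 252121, 4),
  (254366, 6, 190714, 17),
  (254369, 4, 233556, 19),
  (254370, 4, 84154, 21),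
  (254372, 4, 233554, 19),
  (254375, 5, 97593, 24),
  (254376, 6, 205160, 14),
  (254379, 6, 146785, 22),
  (254381, 6, 212385, 22),
  (254382, 6, 29158, 15),
  (254385, 6, 73789, 23),
  (254386, 6, 213234, 13),
  (254388, 5, 205172, 14),
  (254391, 6, 245883, 22),
  (254392, 6, 9279, 23),
  (254395, 6, 177569, 13),
  (254397, 6, 121233, 14),
  (254398, 6, 121150, 7),
  (254401, 6, 155873, 17),
  (254402, 6, 155874, 17),
  (254404, 6, 90452, 16),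
  (254407, 6, 159879, 24),
  (254408, 6, 28679, 23),
  (254411, 6, 255303, 26),
  (254413, 6, 178593, 7),
  (254414, 6, 129450, 2),
  (254417, 7, 119234, 20),
  (254418, 4, 92190, 21),
  (254420, 6, 212999, 24),
  (254423, 6, 256030, 21),
  (254424, 6, 196984, 8),
  (254427, 5, 242873, 10),
  (254429, 6, 111951, 26),
  (254430, 5, 199034, 8),
  (254433, 4, 102890, 20),
  (254434, 7, 260178, 38),
  (254436, 6, 90484, 16),
  (254439, 6, 257127, 12),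
  (254440, 6, 31745, 22),
  (254443, 6, 250171, 11),
  (254445, 6, 233846, 19),
  (254446, 6, 113066, 2),
  (254449, 6, 9543, 26),
  (254450, 5, 213330, 8),
  (254452, 6, 205028, 7),
  (254455, 6, 253982, 21),
  (254456, 5, 63, 22),
  (254459, 6, 257461, 42),
  (254461, 6, 82301, 16),
  (254462, 6, 247998, 13),
  (254981, 6, 188894, 21),
  (254983, 6, 254302, 21),
  (254985, 6, 193771, 5),
  (254987, 5, 196799, 23),
  (254997, 6, 191735, 5),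
  (254999, 6, 178350, 21),
  (255001, 6, 188843, 1),
  (255003, 6, 198843, 23),
  (255013, 5, 190938, 21),
  (255015, 6, 247255, 3),
  (255017, 6, 235834, 20),
  (255019, 6, 97599, 23),
  (255029, 6, 175351, 5),
  (255031, 6, 252175, 20),
  (255033, 6, 177403, 5),
  (255035, 6, 111055, 24),
  (255045, 6, 226317, 42),
  (255047, 6, 246235, 22),
  (255049, 6, 179351, 24),
  (255051, 6, 242849, 7),
  (255061, 6, 252291, 20),
  (255063, 6, 206311, 3),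
  (255065, 6, 76203, 23),
  (255067, 5, 147931, 16),
  (255077, 6, 195026, 21),
  (255079, 6, 248119, 8),
  (255081, 7, 183577, 22),
  (255083, 6, 89407, 23),
  (255093, 6, 118231, 2),
  (255095, 6, 220439, 24),
  (255097, 6, 252314, 20),
  (255099, 6, 252318, 20),
  (255109, 5, 241073, 14),
  (255111, 6, 126417, 4),
  (255113, 6, 227709, 37),
  (255115, 6, 170355, 22),
  (255125, 6, 243902, 21),
  (255127, 7, 178366, 21),
  (255129, 6, 121106, 20),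
  (255131, 6, 97507, 21),
  (255141, 6, 182746, 21),
  (255143, 6, 248154, 21),
  (255145, 5, 242795, 5),
  (255147, 6, 128289, 12),
  (255157, 6, 241854, 21),
  (255159, 5, 249235, 14),
  (255161, 6, 95707, 10),
  (255163, 6, 238889, 1),
  (255173, 6, 250259, 22),
  (255175, 6, 130251, 25),
  (255177, 6, 94683, 4),
  (255179, 6, 250259, 8),
  (255189, 6, 239806, 21),
  (255191, 6, 213335, 16),
  (255193, 6, 205035, 15),
  (255195, 6, 177329, 7),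
  (255205, 6, 60887, 2),
  (255207, 6, 64715, 25),
  (255209, 6, 204095, 23),
  (255211, 6, 250939, 11),
  (255221, 5, 249297, 14),
  (255223, 6, 31947, 25),
  (255225, 6, 154819, 25),
  (255227, 6, 193681, 7),
  (255237, 6, 150993, 11),
  (255239, 6, 27897, 25),
  (255241, 6, 194027, 5),
  (255243, 6, 235894, 20),
  (255253, 6, 148725, 6),
  (255255, 6, 60833, 1),
  (255257, 6, 72819, 21),
  (255259, 6, 252246, 20),
  (255269, 6, 175591, 5),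
  (255271, 6, 239081, 22),
  (255273, 6, 177643, 5),
  (255275, 6, 120283, 3),
  (255285, 6, 159201, 11),
  (255287, 6, 15725, 26),
  (255289, 6, 253225, 25),
  (255291, 6, 251001, 4),
  (255301, 6, 189621, 6),
  (255303, 5, 25047, 16),
  (255305, 6, 26075, 16),
  (255307, 6, 193715, 6),
  (255317, 6, 113057, 23),
  (255319, 5, 241073, 7),
  (255321, 6, 185521, 6),
  (255323, 6, 252374, 20),
  (255333, 6, 195058, 21),
  (255335, 6, 84349, 23),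
  (255337, 6, 177329, 6),
  (255339, 6, 129481, 19),
  (255349, 6, 239079, 13),
  (255351, 6, 256025, 39),
  (255353, 6, 93543, 26),
  (255355, 6, 249133, 25),
  (255365, 6, 220473, 24),
  (255367, 6, 205031, 10),
  (255369, 6, 104818, 20),
  (255371, 6, 245065, 24),
  (255381, 6, 121233, 23),
  (255383, 6, 252049, 23),
  (255385, 6, 210171, 10),
  (255387, 6, 218227, 6),
  (255397, 6, 191639, 2),
  (255399, 6, 126355, 14),
  (255401, 6, 128401, 14),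
  (255403, 6, 184527, 25),
  (255413, 6, 118161, 14),
  (255415, 5, 74109, 23),
  (255417, 6, 151751, 25),
  (255419, 6, 121182, 20),
  (255429, 6, 175351, 2),
  (255431, 6, 258181, 23),
  (255433, 6, 104946, 20),
  (255435, 6, 90459, 16),
  (255445, 7, 197755, 22),
  (255447, 6, 190622, 21),
  (255449, 6, 121298, 20),
  (255451, 5, 121302, 20),
  (255461, 6, 126417, 14),
  (255463, 6, 191873, 7),
  (255465, 6, 189659, 2),
  (255467, 6, 242739, 6),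
  (255477, 6, 179351, 19),
  (255479, 6, 82295, 16),
  (255481, 6, 255415, 38),
  (255483, 6, 121310, 20),
  (256003, 6, 126295, 4),
  (256007, 6, 122313, 20),
  (256009, 6, 92654, 19),
  (256010, 6, 177329, 19),
  (256013, 6, 226317, 38),
  (256014, 6, 243882, 16),
  (256019, 6, 244014, 21),
  (256023, 7, 63651, 25),
  (256025, 5, 96742, 19),
  (256026, 6, 244202, 3),
  (256029, 6, 248154, 19),
  (256030, 5, 244206, 3),
  (256035, 6, 126327, 4),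
  (256039, 6, 106983, 17),
  (256041, 6, 61861, 12),
  (256042, 5, 243834, 12),
  (256045, 6, 125337, 2),
  (256046, 6, 120239, 26),
  (256051, 6, 118135, 4),
  (256055, 6, 118161, 2),
  (256057, 6, 121213, 4),
  (256058, 6, 145653, 20),
  (256061, 6, 256330, 19),
  (256062, 5, 178658, 10),
  (256067, 5, 147931, 22),
  (256071, 6, 249105, 8),
  (256073, 6, 223470, 19),
  (256074, 5, 121302, 5),
  (256077, 6, 158183, 25),
  (256078, 6, 177587, 19),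
  (256083, 6, 242939, 22),
  (256087, 6, 177403, 22),
  (256089, 6, 190957, 1),
  (256090, 5, 67806, 41),
  (256093, 6, 162041, 5),
  (256094, 6, 233846, 14),
  (256099, 6, 129490, 21),
  (256103, 6, 126417, 2),
  (256105, 6, 110999, 26),
  (256106, 6, 186558, 11),
  (256109, 5, 74221, 17),
  (256110, 6, 184510, 11),
  (256115, 6, 175591, 1),
  (256119, 6, 212263, 24),
  (256121, 6, 248119, 25),
  (256122, 6, 194734, 11),
  (256125, 6, 143551, 22),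
  (256126, 6, 185471, 23),
  (256131, 6, 92531, 6),
  (256135, 6, 201075, 22),
  (256137, 6, 129501, 4),
  (256138, 6, 111078, 1),
  (256141, 6, 163169, 21),
  (256142, 5, 41182, 41),
  (256147, 6, 118231, 4),
  (256151, 6, 112958, 21),
  (256153, 6, 121309, 4),
  (256154, 6, 141821, 20),
  (256157, 6, 178669, 3),
  (256158, 6, 177403, 19),
  (256163, 6, 169173, 19),
  (256167, 6, 60817, 2),
  (256169, 6, 57757, 2),
  (256170, 6, 233846, 10),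
  (256173, 6, 204081, 22),
  (256174, 5, 194698, 16),
  (256179, 6, 195635, 26),
  (256183, 6, 241789, 23),
  (256185, 6, 127285, 12),
  (256186, 6, 252310, 14),
  (256189, 6, 248189, 16),
  (256190, 6, 72054, 6),
  (256195, 6, 152019, 22),
  (256199, 5, 25063, 17),
  (256201, 6, 256174, 19),
  (256202, 6, 190631, 24),
  (256205, 6, 246141, 1),
  (256206, 5, 129334, 6),
  (256211, 6, 200047, 20),
  (256215, 6, 108862, 21),
  (256217, 6, 162923, 21),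
  (256218, 6, 145898, 3),
  (256221, 6, 193769, 20),
  (256222, 6, 219371, 26),
  (256227, 6, 121298, 21),
  (256231, 6, 252114, 21),
  (256233, 6, 112945, 6),
  (256234, 5, 45190, 41),
  (256237, 5, 252337, 8),
  (256238, 6, 242094, 2),
  (256243, 6, 191639, 7),
  (256247, 6, 194619, 26),
  (256249, 6, 103487, 23),
  (256250, 5, 41380, 37),
  (256253, 6, 256025, 37),
  (256254, 6, 194778, 16),
  (256259, 6, 227709, 42),
  (256263, 6, 206311, 7),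
  (256265, 5, 252337, 13),
  (256266, 6, 242094, 16),
  (256269, 6, 159201, 25),
  (256270, 6, 244138, 16),
  (256275, 5, 248919, 4),
  (256279, 6, 185595, 22),
  (256281, 6, 31206, 19),
  (256282, 6, 113130, 3),
  (256285, 6, 113133, 3),
  (256286, 6, 96726, 15),
  (256291, 6, 125434, 21),
  (256295, 6, 256250, 21),
  (256297, 6, 193715, 20),
  (256298, 6, 11497, 22),
  (256301, 6, 121309, 3),
  (256302, 5, 96742, 15),
  (256307, 6, 241057, 13),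
  (256311, 6, 125383, 3),
  (256313, 6, 129481, 3),
  (256314, 7, 129482, 3),
  (256317, 6, 244133, 13),
  (256318, 6, 138679, 21),
  (256323, 6, 23797, 25),
  (256327, 6, 159201, 5),
  (256329, 6, 244133, 7),
  (256330, 5, 47234, 41),
  (256333, 6, 245063, 26),
  (256334, 6, 244202, 16),
  (256339, 6, 240689, 10),
  (256343, 6, 191699, 12),
  (256345, 6, 162022, 19),
  (256346, 5, 102622, 41),
  (256349, 6, 113991, 26),
  (256350, 6, 129430, 15),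
  (256355, 6, 252967, 20),
  (256359, 6, 205031, 17),
  (256361, 6, 213341, 15),
  (256362, 6, 88538, 3),
  (256365, 6, 224521, 22),
  (256366, 6, 138685, 21),
  (256371, 6, 27983, 26),
  (256375, 6, 249041, 2),
  (256377, 6, 244193, 13),
  (256378, 6, 149982, 8),
  (256381, 6, 129313, 8),
  (256382, 5, 192942, 11),
  (256387, 6, 115198, 21),
  (256391, 6, 213335, 11),
  (256393, 6, 59822, 19),
  (256394, 6, 237791, 25),
  (256397, 6, 219610, 19),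
  (256398, 6, 146849, 21),
  (256403, 6, 239079, 15),
  (256407, 6, 242783, 19),
  (256409, 6, 63910, 19),
  (256410, 5, 127334, 10),
  (256413, 5, 194981, 13),
  (256414, 5, 69718, 41),
  (256419, 6, 247255, 15),
  (256423, 6, 248058, 21),
  (256425, 6, 146849, 22),
  (256426, 6, 129430, 14),
  (256429, 7, 180439, 25),
  (256430, 5, 78318, 2),
  (256435, 6, 25933, 26),
  (256439, 6, 255415, 39),
  (256441, 6, 178593, 13),
  (256442, 6, 178613, 20),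
  (256445, 6, 122313, 24),
  (256446, 6, 126417, 24),
  (256451, 6, 243029, 19),
  (256455, 6, 118161, 8),
  (256457, 7, 190638, 19),
  (256458, 6, 129454, 2),
  (256461, 6, 155885, 17),
  (256462, 6, 172199, 24),
  (256467, 6, 247859, 6),
  (256471, 6, 126337, 8),
  (256473, 5, 195041, 13),
  (256474, 6, 239933, 20),
  (256477, 6, 111943, 26),
  (256478, 6, 251958, 6),
  (256483, 6, 189653, 2),
  (256487, 5, 252146, 21),
  (256489, 6, 163201, 22),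
  (256490, 5, 10442, 41),
  (256493, 6, 96714, 19),
  (256494, 6, 111022, 2),
  (256499, 6, 254238, 21),
  (256503, 6, 123166, 21),
  (256505, 5, 196799, 22),
  (256506, 5, 194790, 5),
  (256509, 6, 139517, 17),
  (256510, 6, 146863, 21),
  (257025, 6, 13687, 26),
  (257027, 6, 213335, 8),
  (257029, 6, 205031, 7),
  (257031, 6, 254046, 21),
  (257041, 6, 244142, 21),
  (257043, 6, 160855, 26),
  (257045, 6, 113070, 21),
  (257047, 6, 60817, 12),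
  (257057, 5, 223537, 38),
  (257059, 6, 125274, 21),
  (257061, 6, 126355, 2),
  (257063, 6, 249303, 3),
  (257073, 6, 242094, 21),
  (257075, 6, 175525, 1),
  (257077, 6, 111022, 21),
  (257079, 6, 173477, 1),
  (257089, 6, 61910, 21),
  (257091, 6, 155879, 5),
  (257093, 5, 74221, 23),
  (257095, 6, 54733, 20),
  (257105, 6, 240046, 21),
  (257107, 6, 232823, 14),
  (257109, 6, 108974, 21),
  (257111, 6, 100699, 19),
  (257121, 6, 63954, 21),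
  (257123, 6, 129362, 21),
  (257125, 6, 252285, 23),
  (257127, 5, 223541, 38),
  (257137, 6, 209147, 22),
  (257139, 6, 172462, 21),
  (257141, 5, 106926, 21),
  (257143, 7, 108875, 19),
  (257153, 6, 248119, 1),
  (257155, 6, 60903, 17),
  (257157, 6, 180446, 21),
  (257159, 6, 32091, 26),
  (257169, 6, 95447, 25),
  (257171, 6, 134635, 20),
  (257173, 6, 113086, 21),
  (257175, 6, 175591, 3),
  (257185, 5, 223393, 38),
  (257187, 6, 64787, 26),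
  (257189, 6, 244093, 23),
  (257191, 6, 113021, 23),
  (257201, 5, 223489, 38),
  (257203, 6, 176574, 21),
  (257205, 5, 240755, 5),
  (257207, 6, 45502, 21),
  (257217, 6, 53718, 21),
  (257219, 6, 119126, 21),
  (257221, 5, 249235, 8),
  (257223, 5, 223637, 38),
  (257233, 6, 205031, 15),
  (257235, 6, 68955, 19),
  (257237, 6, 108990, 21),
  (257239, 6, 43454, 21),
  (257249, 6, 185745, 22),
  (257251, 6, 185809, 22),
  (257253, 6, 251153, 22),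
  (257255, 5, 171271, 44),
  (257265, 6, 126355, 10),
  (257267, 6, 249303, 14),
  (257269, 6, 106942, 21),
  (257271, 6, 247255, 14),
  (257281, 6, 191853, 26),
  (257283, 6, 211243, 24),
  (257285, 6, 60887, 16),
  (257287, 6, 87501, 20),
  (257297, 6, 260494, 21),
  (257299, 6, 194958, 21),
  (257301, 6, 129422, 21),
  (257303, 6, 231603, 2),
  (257313, 6, 159085, 26),
  (257315, 6, 125306, 21),
  (257317, 6, 190714, 21),
  (257319, 6, 118231, 3),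
  (257329, 6, 121913, 25),
  (257331, 6, 192910, 21),
  (257333, 6, 127374, 21),
  (257335, 6, 191665, 12),
  (257345, 6, 196983, 15),
  (257347, 6, 127350, 21),
  (257349, 6, 192758, 21),
  (257351, 6, 21965, 20),
  (257361, 6, 191877, 11),
  (257363, 6, 190862, 21),
  (257365, 5, 240695, 10),
  (257367, 6, 59790, 21),
  (257377, 6, 213335, 15),
  (257379, 6, 129394, 21),
  (257381, 6, 194802, 21),
  (257383, 6, 17869, 20),
  (257393, 6, 145623, 19),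
  (257395, 6, 188814, 21),
  (257397, 6, 241127, 13),
  (257399, 6, 125997, 25),
  (257409, 6, 49662, 21),
  (257411, 6, 115070, 21),
  (257413, 5, 180478, 21),
  (257415, 6, 217301, 23),
  (257425, 6, 260510, 21),
  (257427, 6, 191735, 17),
  (257429, 6, 129438, 21),
  (257431, 6, 63902, 21),
  (257441, 5, 223249, 38),
  (257443, 6, 117114, 21),
  (257445, 6, 242977, 22),
  (257447, 5, 249297, 15),
  (257457, 6, 73145, 24),
  (257459, 6, 175351, 17),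
  (257461, 5, 147707, 22),
  (257463, 6, 61854, 21),
  (257473, 6, 116119, 8),
  (257475, 6, 175525, 7),
  (257477, 6, 184566, 21),
  (257479, 6, 249974, 21),
  (257489, 6, 248881, 6),
  (257491, 6, 232747, 20),
  (257493, 6, 125342, 21),
  (257495, 6, 59806, 21),
  (257505, 6, 240689, 6),
  (257507, 6, 121202, 21),
  (257509, 6, 191699, 2),
  (257511, 5, 223253, 38),
  (257521, 7, 225591, 24),
  (257523, 6, 205175, 5),
  (257525, 6, 213239, 4),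
  (257527, 6, 22747, 25),
  (258051, 6, 241958, 20),
  (258053, 6, 192662, 19),
  (258054, 6, 178418, 8),
  (258059, 6, 113711, 21),
  (258061, 6, 241971, 20),
  (258062, 6, 254456, 42),
  (258067, 6, 210171, 7),
  (258069, 5, 74109, 10),
  (258070, 6, 195054, 10),
  (258075, 5, 242795, 15),
  (258077, 6, 243821, 15),
  (258078, 6, 249974, 12),
  (258083, 5, 147707, 11),
  (258085, 6, 92531, 25),
  (258086, 6, 113122, 17),
  (258091, 6, 184501, 19),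
  (258093, 6, 184502, 19),
  (258094, 6, 113130, 17),
  (258099, 6, 189623, 26),
  (258101, 6, 178593, 1),
  (258102, 6, 129450, 5),
  (258107, 6, 184509, 19),
  (258109, 6, 184510, 19),
  (258110, 7, 208943, 21),
  (258115, 6, 192917, 19),
  (258117, 6, 187591, 24),
  (258118, 6, 254456, 39),
  (258123, 6, 90487, 26),
  (258125, 6, 213407, 22),
  (258126, 6, 252094, 4),
  (258131, 6, 155895, 26),
  (258133, 5, 195041, 1),
  (258134, 6, 47511, 25),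
  (258139, 6, 194027, 1),
  (258141, 6, 192958, 19),
  (258142, 5, 137466, 8),
  (258147, 6, 242094, 20),
  (258149, 6, 233725, 13),
  (258150, 5, 129334, 13),
  (258155, 6, 220221, 23),
  (258157, 6, 129501, 2),
  (258158, 6, 162010, 8),
  (258163, 6, 120273, 2),
  (258165, 6, 241901, 13),
  (258166, 6, 112763, 22),
  (258171, 6, 106543, 21),
  (258173, 6, 121309, 2),
  (258174, 6, 121150, 13),
  (258179, 6, 214429, 23),
  (258181, 5, 74221, 10),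
  (258182, 6, 96726, 13),
  (258187, 6, 61931, 17),
  (258189, 6, 192758, 19),
  (258190, 5, 63978, 17),
  (258195, 6, 158963, 26),
  (258197, 6, 218605, 24),
  (258198, 6, 248094, 7),
  (258203, 6, 127254, 20),
  (258205, 6, 82301, 6),
  (258206, 6, 216171, 26),
  (258211, 5, 128299, 12),
  (258213, 5, 252117, 15),
  (258214, 6, 215451, 21),
  (258219, 6, 110910, 20),
  (258221, 5, 74109, 6),
  (258222, 5, 241910, 12),
  (258227, 6, 191667, 26),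
  (258229, 6, 244001, 1),
  (258230, 6, 248126, 7),
  (258235, 6, 209981, 23),
  (258237, 6, 184574, 19),
  (258238, 6, 194710, 16),
  (258243, 6, 111014, 20),
  (258245, 6, 111011, 20),
  (258246, 6, 129430, 13),
  (258251, 6, 251259, 1),
  (258253, 6, 126403, 25),
  (258254, 6, 186558, 4),
  (258259, 6, 139755, 3),
  (258261, 6, 192990, 19),
  (258262, 6, 127365, 20),
  (258267, 6, 211015, 24),
  (258269, 6, 93635, 25),
  (258270, 6, 194734, 4),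
  (258275, 5, 147931, 3),
  (258277, 6, 184790, 19),
  (258278, 5, 192942, 15),
  (258283, 6, 152019, 3),
  (258285, 6, 106813, 6),
  (258286, 7, 87253, 22),
  (258291, 6, 127374, 20),
  (258293, 6, 184798, 19),
  (258294, 5, 63978, 5),
  (258299, 6, 128401, 10),
  (258301, 6, 206911, 22),
  (258302, 5, 14842, 17),
  (258307, 5, 147931, 11),
  (258309, 6, 190957, 5),
  (258310, 6, 149978, 11),
  (258315, 5, 242873, 2),
  (258317, 6, 205231, 22),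
  (258318, 6, 169271, 23),
  (258323, 6, 211419, 24),
  (258325, 6, 189821, 21),
  (258326, 6, 122317, 26),
  (258331, 5, 147707, 6),
  (258333, 6, 147709, 6),
  (258334, 6, 111078, 3),
  (258339, 6, 125179, 21),
  (258341, 6, 208301, 22),
  (258342, 6, 252090, 5),
  (258347, 6, 242046, 20),
  (258349, 6, 139517, 6),
  (258350, 6, 249907, 19),
  (258355, 6, 251025, 2),
  (258357, 6, 249886, 19),
  (258358, 5, 51646, 7),
  (258363, 6, 126991, 21),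
  (258365, 6, 192527, 21),
  (258366, 6, 233846, 12),
  (258371, 6, 193739, 12),
  (258373, 5, 194765, 12),
  (258374, 6, 127374, 15),
  (258379, 6, 242166, 20),
  (258381, 6, 243965, 2),
  (258382, 5, 252350, 4),
  (258387, 6, 74219, 3),
  (258389, 5, 74221, 3),
  (258390, 6, 184510, 6),
  (258395, 6, 124943, 21),
  (258397, 6, 218183, 24),
  (258398, 7, 222279, 24),
  (258403, 6, 82395, 3),
  (258405, 6, 250134, 19),
  (258406, 6, 93389, 22),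
  (258411, 6, 216125, 23),
  (258413, 6, 189455, 21),
  (258414, 6, 162266, 8),
  (258419, 6, 213055, 23),
  (258421, 5, 252117, 2),
  (258422, 6, 251958, 13),
  (258427, 6, 218227, 4),
  (258429, 6, 252125, 2),
  (258430, 6, 251966, 13),
  (258435, 6, 177329, 2),
  (258437, 6, 211367, 22),
  (258438, 6, 125214, 7),
  (258443, 6, 192747, 17),
  (258445, 6, 121145, 1),
  (258446, 6, 185805, 26),
  (258451, 6, 127302, 20),
  (258453, 6, 129313, 1),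
  (258454, 5, 194698, 5),
  (258459, 5, 128299, 1),
  (258461, 6, 90567, 25),
  (258462, 6, 194810, 17),
  (258467, 6, 193681, 2),
  (258469, 6, 212389, 22),
  (258470, 6, 186554, 5),
  (258475, 6, 110974, 20),
  (258477, 6, 249974, 19),
  (258478, 5, 129334, 7),
  (258483, 6, 204863, 23),
  (258485, 6, 156103, 25),
  (258486, 6, 117054, 7),
  (258491, 6, 249981, 19),
  (258493, 6, 127323, 20),
  (258494, 6, 253960, 39),
  (258499, 6, 111078, 20),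
  (258501, 6, 111075, 20),
  (258502, 7, 217527, 21),
  (258507, 6, 120187, 1),
  (258509, 6, 151751, 24),
  (258510, 6, 162026, 17),
  (258515, 6, 241735, 24),
  (258517, 6, 249927, 24),
  (258518, 6, 61854, 15),
  (258523, 6, 128363, 1),
  (258525, 6, 125325, 8),
  (258526, 6, 162042, 17),
  (258531, 6, 111086, 20),
  (258533, 6, 190915, 25),
  (258534, 6, 129498, 14),
  (258539, 6, 157127, 26),
  (258541, 6, 252209, 11),
  (258542, 5, 260286, 13),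
  (258547, 6, 250205, 19),
  (258549, 6, 127435, 20),
  (258550, 6, 253960, 42),
  (258555, 7, 209223, 24),
  (258557, 7, 188447, 21),
  (258558, 6, 252094, 13),
  (259073, 6, 23019, 25),
  (259075, 6, 244006, 20),
  (259081, 6, 205035, 7),
  (259083, 6, 213339, 8),
  (259089, 6, 239081, 3),
  (259091, 6, 260358, 20),
  (259097, 6, 185819, 16),
  (259099, 6, 260374, 20),
  (259105, 6, 244010, 20),
  (259107, 6, 244014, 20),
  (259113, 6, 219243, 25),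
  (259115, 6, 112107, 17),
  (259121, 6, 161915, 22),
  (259123, 6, 90459, 10),
  (259129, 6, 102815, 24),
  (259131, 6, 45231, 21),
  (259137, 6, 90459, 4),
  (259139, 5, 25047, 26),
  (259145, 6, 244146, 20),
  (259147, 6, 138455, 24),
  (259153, 6, 260482, 20),
  (259155, 5, 242873, 7),
  (259161, 6, 186543, 25),
  (259163, 5, 223637, 42),
  (259169, 6, 244138, 20),
  (259171, 6, 244142, 20),
  (259177, 6, 185521, 11),
  (259179, 6, 42159, 21),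
  (259185, 6, 260490, 20),
  (259187, 6, 260494, 20),
  (259193, 6, 120283, 2),
  (259195, 6, 260510, 20),
  (259201, 6, 251335, 25),
  (259203, 6, 74219, 10),
  (259209, 6, 125325, 19),
  (259211, 6, 112950, 20),
  (259217, 6, 129282, 20),
  (259219, 6, 144633, 7),
  (259225, 6, 129298, 20),
  (259227, 6, 120273, 4),
  (259233, 6, 112938, 20),
  (259235, 6, 251089, 15),
  (259241, 6, 112954, 20),
  (259243, 6, 112958, 20),
  (259249, 6, 129290, 20),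
  (259251, 6, 242977, 1),
  (259257, 6, 251259, 16),
  (259259, 6, 112013, 24),
  (259265, 6, 185595, 13),
  (259267, 6, 113062, 20),
  (259273, 6, 145623, 24),
  (259275, 6, 137431, 24),
  (259281, 5, 129410, 20),
  (259283, 6, 129414, 20),
  (259289, 6, 206963, 26),
  (259291, 6, 129430, 20),
  (259297, 6, 113066, 20),
  (259299, 5, 128361, 12),
  (259305, 6, 107833, 6),
  (259307, 6, 113086, 20),
  (259313, 6, 129418, 20),
  (259315, 6, 129422, 20),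
  (259321, 6, 129434, 20),
  (259323, 6, 129438, 20),
  (259329, 5, 223537, 42),
  (259331, 6, 244070, 20),
  (259337, 6, 244082, 20),
  (259339, 6, 244086, 20),
  (259345, 5, 223393, 42),
  (259347, 6, 203953, 23),
  (259353, 6, 187561, 25),
  (259355, 6, 203955, 23),
  (259361, 6, 244074, 20),
  (259363, 6, 92479, 23),
  (259369, 6, 120273, 3),
  (259371, 6, 244094, 20),
  (259377, 5, 223489, 42),
  (259379, 6, 193721, 12),
  (259385, 6, 260442, 20),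
  (259387, 6, 242939, 17),
  (259393, 6, 193721, 6),
  (259395, 6, 241127, 26),
  (259401, 6, 242939, 2),
  (259403, 5, 223541, 42),
  (259409, 6, 126439, 26),
  (259411, 6, 212129, 23),
  (259417, 6, 60903, 26),
  (259419, 5, 171271, 43),
  (259425, 6, 244202, 20),
  (259427, 5, 244206, 20),
  (259433, 6, 87505, 3),
  (259435, 7, 58511, 21),
  (259441, 5, 128299, 8),
  (259443, 6, 260558, 20),
  (259449, 6, 260570, 20),
  (259451, 6, 210171, 17),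
  (259457, 6, 250311, 25),
  (259459, 6, 205035, 10),
  (259465, 6, 113010, 20),
  (259467, 6, 113014, 20),
  (259473, 5, 223249, 42),
  (259475, 6, 128289, 1),
  (259481, 6, 129362, 20),
  (259483, 6, 129366, 20),
  (259489, 6, 179493, 22),
  (259491, 6, 184783, 25),
  (259497, 6, 113018, 20),
  (259499, 6, 113022, 20),
  (259505, 6, 47541, 19),
  (259507, 7, 223721, 19),
  (259513, 6, 120187, 16),
  (259515, 6, 90603, 8),
  (259521, 6, 113122, 20),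
  (259523, 6, 113126, 20),
  (259529, 6, 177403, 2),
  (259531, 6, 135383, 24),
  (259537, 6, 97665, 23),
  (259539, 6, 250939, 6),
  (259545, 5, 242867, 10),
  (259547, 5, 223253, 42),
  (259553, 6, 113130, 20),
  (259555, 6, 128475, 14),
  (259561, 6, 251185, 11),
  (259563, 6, 193861, 22),
  (259569, 5, 196927, 23),
  (259571, 6, 205179, 5),
  (259577, 6, 129498, 20),
  (259579, 6, 165951, 22),
  (260097, 6, 99581, 23),
  (260098, 6, 205175, 24),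
  (260101, 6, 252282, 19),
  (260102, 6, 67711, 22),
  (260105, 6, 213341, 8),
  (260106, 6, 117150, 5),
  (260109, 5, 196927, 22),
  (260110, 6, 193715, 19),
  (260113, 5, 223537, 39),
  (260114, 6, 129422, 5),
  (260117, 6, 248186, 19),
  (260118, 6, 127374, 5),
  (260121, 6, 244193, 3),
  (260122, 6, 125326, 5),
  (260125, 6, 163007, 22),
  (260126, 5, 106702, 44),
  (260129, 6, 129087, 23),
  (260130, 5, 14842, 6),
  (260133, 6, 147709, 11),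
  (260134, 6, 111078, 17),
  (260137, 6, 113133, 17),
  (260138, 4, 98398, 43),
  (260141, 6, 244074, 19),
  (260142, 5, 151798, 11),
  (260145, 6, 127039, 23),
  (260146, 6, 129454, 5),
  (260149, 6, 155885, 11),
  (260150, 6, 63739, 22),
  (260153, 6, 96726, 19),
  (260154, 6, 248094, 14),
  (260157, 6, 239978, 19),
  (260158, 6, 211178, 4),
  (260161, 6, 155885, 5),
  (260162, 5, 96742, 17),
  (260165, 6, 90461, 4),
  (260166, 5, 190938, 7),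
  (260169, 6, 223438, 19),
  (260170, 6, 253960, 38),
  (260173, 6, 44335, 21),
  (260174, 6, 252090, 4),
  (260177, 6, 211174, 19),
  (260178, 6, 39319, 25),
  (260181, 6, 117114, 19),
  (260182, 5, 104594, 43),
  (260185, 6, 195053, 1),
  (260186, 5, 241910, 16),
  (260189, 5, 223541, 39),
  (260190, 5, 51646, 6),
  (260193, 6, 218227, 20),
  (260194, 5, 186626, 40),
  (260197, 6, 129386, 19),
  (260198, 6, 175591, 24),
  (260201, 6, 215159, 25),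
  (260202, 6, 186550, 11),
  (260205, 6, 42287, 21),
  (260206, 5, 78318, 17),
  (260209, 6, 211190, 19),
  (260210, 6, 112891, 22),
  (260213, 6, 125290, 19),
  (260214, 6, 145898, 10),
  (260217, 6, 178669, 1),
  (260218, 6, 205103, 21),
  (260221, 6, 41263, 21),
  (260222, 6, 243882, 4),
  (260225, 6, 108974, 19),
  (260226, 5, 151798, 4),
  (260229, 6, 219514, 19),
  (260230, 6, 113130, 1),
  (260233, 6, 125326, 19),
  (260234, 6, 212287, 21),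
  (260237, 6, 203130, 19),
  (260238, 5, 252121, 20),
  (260241, 6, 113062, 19),
  (260242, 6, 162266, 15),
  (260245, 6, 214487, 25),
  (260246, 6, 193755, 19),
  (260249, 6, 129414, 19),
  (260250, 5, 178658, 3),
  (260253, 5, 199034, 19),
  (260254, 6, 162026, 4),
  (260257, 6, 108990, 19),
  (260258, 6, 162282, 15),
  (260261, 6, 129321, 12),
  (260262, 6, 91477, 24),
  (260265, 6, 125342, 19),
  (260266, 5, 51646, 5),
  (260269, 5, 252121, 15),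
  (260270, 5, 137466, 4),
  (260273, 6, 179347, 26),
  (260274, 6, 63918, 5),
  (260277, 6, 87501, 24),
  (260278, 6, 244074, 10),
  (260281, 6, 129430, 19),
  (260282, 6, 248222, 14),
  (260285, 6, 252285, 16),
  (260286, 4, 12502, 44),
  (260289, 6, 124109, 23),
  (260290, 5, 78318, 1),
  (260293, 6, 186621, 13),
  (260294, 6, 29158, 17),
  (260297, 6, 113057, 10),
  (260298, 6, 184510, 4),
  (260301, 6, 137447, 24),
  (260302, 6, 186554, 4),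
  (260305, 6, 121145, 6),
  (260306, 6, 208347, 25),
  (260309, 6, 84346, 19),
  (260310, 6, 121150, 6),
  (260313, 6, 117049, 6),
  (260314, 5, 191819, 23),
  (260317, 7, 202855, 24),
  (260318, 6, 117054, 6),
  (260321, 6, 239806, 19),
  (260322, 5, 45262, 44),
  (260325, 6, 96618, 19),
  (260326, 5, 254116, 38),
  (260329, 6, 154065, 3),
  (260330, 6, 251958, 11),
  (260333, 6, 80234, 19),
  (260334, 5, 199034, 10),
  (260337, 6, 243894, 19),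
  (260338, 6, 89489, 21),
  (260341, 6, 92522, 19),
  (260342, 5, 67802, 43),
  (260345, 6, 129425, 10),
  (260346, 6, 205119, 21),
  (260349, 6, 243739, 26),
  (260350, 5, 100670, 6),
  (260353, 6, 162041, 6),
  (260354, 6, 162042, 6),
  (260357, 6, 252410, 19),
  (260358, 5, 250014, 5),
  (260361, 6, 27086, 19),
  (260362, 6, 247966, 5),
  (260365, 5, 195041, 5),
  (260366, 5, 97551, 21),
  (260369, 5, 223393, 39),
  (260370, 6, 260342, 17),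
  (260373, 6, 60833, 25),
  (260374, 5, 63978, 10),
  (260377, 6, 220351, 22),
  (260378, 5, 100670, 14),
  (260381, 6, 191649, 25),
  (260382, 6, 113126, 3),
  (260385, 6, 10750, 19),
  (260386, 6, 252094, 5),
  (260389, 6, 174569, 5),
  (260390, 5, 220613, 26),
  (260393, 5, 27102, 19),
  (260394, 6, 247998, 5),
  (260397, 6, 244202, 19)]

theorem chk_rows2_28 : rows2_28.all (rowBP tr2 gensLitP 72) = true := by decide +kernel

/-- Rows 43500 to 43604. -/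
def rows2_29 : List (ℕ × ℕ × ℕ × ℕ) := [(260398, 5, 121302, 3),
  (260401, 5, 223249, 39),
  (260402, 5, 137466, 6),
  (260405, 6, 252049, 2),
  (260406, 5, 241910, 17),
  (260409, 6, 248881, 25),
  (260410, 5, 194698, 9),
  (260413, 6, 129477, 3),
  (260414, 6, 250939, 19),
  (260417, 6, 113021, 14),
  (260418, 6, 194746, 6),
  (260421, 6, 121338, 19),
  (260422, 5, 254132, 38),
  (260425, 6, 111847, 23),
  (260426, 6, 242150, 16),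
  (260429, 5, 223637, 39),
  (260430, 6, 125326, 15),
  (260433, 6, 113889, 23),
  (260434, 5, 110614, 44),
  (260437, 6, 60837, 25),
  (260438, 5, 254228, 38),
  (260441, 6, 203967, 22),
  (260442, 5, 129334, 2),
  (260445, 5, 171271, 41),
  (260446, 6, 125342, 15),
  (260449, 6, 141566, 19),
  (260450, 6, 178362, 6),
  (260453, 6, 121145, 8),
  (260454, 6, 129454, 15),
  (260457, 6, 157069, 22),
  (260458, 6, 251185, 19),
  (260461, 6, 113130, 19),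
  (260462, 6, 174270, 6),
  (260465, 6, 145654, 19),
  (260466, 5, 47310, 44),
  (260469, 6, 125418, 19),
  (260470, 6, 39163, 22),
  (260473, 5, 194981, 11),
  (260474, 6, 242094, 4),
  (260477, 5, 223253, 39),
  (260478, 6, 244138, 4),
  (260481, 6, 239053, 26),
  (260482, 5, 194790, 17),
  (260485, 6, 213341, 11),
  (260486, 6, 213183, 21),
  (260489, 6, 59790, 19),
  (260490, 5, 96742, 2),
  (260493, 6, 203258, 19),
  (260494, 5, 239850, 1),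
  (260497, 5, 223489, 39),
  (260498, 6, 43498, 3),
  (260501, 6, 244193, 15),
  (260502, 6, 192758, 17),
  (260505, 5, 252117, 4),
  (260506, 5, 241073, 24),
  (260509, 6, 199162, 19),
  (260510, 5, 27102, 15),
  (260513, 6, 43454, 19),
  (260514, 6, 186558, 5),
  (260517, 6, 194705, 2),
  (260518, 6, 184510, 5),
  (260521, 6, 59806, 19),
  (260522, 5, 194981, 20),
  (260525, 6, 211434, 19),
  (260526, 6, 126225, 24),
  (260529, 6, 169395, 20),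
  (260530, 6, 194734, 5),
  (260533, 7, 222457, 20),
  (260534, 6, 254456, 38),
  (260537, 5, 25047, 25),
  (260538, 6, 117150, 14),
  (260541, 6, 156125, 7),
  (260542, 6, 145898, 4),
  (260545, 6, 53623, 21),
  (260546, 6, 248094, 11),
  (260549, 6, 168167, 24),
  (260550, 6, 211178, 1),
  (260553, 6, 121213, 1),
  (260554, 6, 155879, 24),
  (260557, 6, 72186, 19),
  (260558, 5, 178658, 16),
  (260561, 6, 178342, 19),
  (260562, 5, 75866, 44),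
  (260565, 6, 195053, 13),
  (260566, 6, 251966, 6),
  (260569, 6, 194694, 19),
  (260570, 5, 250014, 13),
  (260573, 6, 190957, 13),
  (260574, 6, 247870, 6),
  (260577, 6, 129501, 14),
  (260578, 6, 248126, 11),
  (260581, 6, 210375, 26),
  (260582, 5, 112734, 43),
  (260585, 6, 190622, 19),
  (260586, 6, 113062, 2),
  (260589, 6, 80362, 19),
  (260590, 5, 180478, 5),
  (260593, 6, 121309, 14),
  (260594, 5, 219478, 8),
  (260597, 6, 213245, 4),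
  (260598, 5, 190938, 16),
  (260601, 6, 194710, 19),
  (260602, 6, 17871, 26),
  (260605, 6, 13767, 26),
  (260606, 6, 90399, 21)]

theorem chk_rows2_29 : rows2_29.all (rowBP tr2 gensLitP 72) = true := by decide +kernel

/-- All rows of the second table. -/
def rows2 : List (ℕ × ℕ × ℕ × ℕ) :=
  rows2_0 ++ rows2_1 ++ rows2_2 ++ rows2_3 ++ rows2_4 ++ rows2_5 ++ rows2_6 ++ rows2_7 ++ rows2_8 ++ rows2_9 ++ rows2_10 ++ rows2_11 ++ rows2_12 ++ rows2_13 ++ rows2_14 ++ rows2_15 ++ rows2_16 ++ rows2_17 ++ rows2_18 ++ rows2_19 ++ rows2_20 ++ rows2_21 ++ rows2_22 ++ rows2_23 ++ rows2_24 ++ rows2_25 ++ rows2_26 ++ rows2_27 ++ rows2_28 ++ rows2_29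

theorem chk_rows2 : ∀ r ∈ rows2, rowBP tr2 gensLitP 72 r = true := by
  intro r hr
  unfold rows2 at hr
  simp only [List.mem_append, or_assoc] at hr
  rcases hr with hr | hr | hr | hr | hr | hr | hr | hr | hr | hr | hr | hr | hr | hr | hr | hr | hr | hr | hr | hr | hr | hr | hr | hr | hr | hr | hr | hr | hr | hr
  · exact List.all_eq_true.mp chk_rows2_0 r hr
  · exact List.all_eq_true.mp chk_rows2_1 r hr
  · exact List.all_eq_true.mp chk_rows2_2 r hr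
  · exact List.all_eq_true.mp chk_rows2_3 r hr
  · exact List.all_eq_true.mp chk_rows2_4 r hr
  · exact List.all_eq_true.mp chk_rows2_5 r hr
  · exact List.all_eq_true.mp chk_rows2_6 r hr
  · exact List.all_eq_true.mp chk_rows2_7 r hr
  · exact List.all_eq_true.mp chk_rows2_8 r hr
  · exact List.all_eq_true.mp chk_rows2_9 r hr
  · exact List.all_eq_true.mp chk_rows2_10 r hr
  · exact List.all_eq_true.mp chk_rows2_11 r hr
  · exact List.all_eq_true.mp chk_rows2_12 r hr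
  · exact List.all_eq_true.mp chk_rows2_13 r hr
  · exact List.all_eq_true.mp chk_rows2_14 r hr
  · exact List.all_eq_true.mp chk_rows2_15 r hr
  · exact List.all_eq_true.mp chk_rows2_16 r hr
  · exact List.all_eq_true.mp chk_rows2_17 r hr
  · exact List.all_eq_true.mp chk_rows2_18 r hr
  · exact List.all_eq_true.mp chk_rows2_19 r hr
  · exact List.all_eq_true.mp chk_rows2_20 r hr
  · exact List.all_eq_true.mp chk_rows2_21 r hr
  · exact List.all_eq_true.mp chk_rows2_22 r hr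
  · exact List.all_eq_true.mp chk_rows2_23 r hr
  · exact List.all_eq_true.mp chk_rows2_24 r hr
  · exact List.all_eq_true.mp chk_rows2_25 r hr
  · exact List.all_eq_true.mp chk_rows2_26 r hr
  · exact List.all_eq_true.mp chk_rows2_27 r hr
  · exact List.all_eq_true.mp chk_rows2_28 r hr
  · exact List.all_eq_true.mp chk_rows2_29 r hr

theorem tr2_toList : tr2.toList = rows2.map (fun r => (r.1, r.2.1)) := by decide +kernel

theorem tr2_root : tr2.get 72 = 1 := by decide +kernel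

theorem bm2_eq : bm2 = bmOf (rows2.map (fun r => r.1)) := by decide +kernel

end Cfsg.Agent.Lib.Helper77.J3
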