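import Cfsg.Agent.Lib.Helper77.J3OrbD0

set_option autoImplicit false
set_option linter.style.haveILetI false
set_option maxRecDepth 100000
set_option Elab.async false

/-! Completeness of the table of isotropic lines: every nonzero isotropic vector of the 9-space
normalizes to a key of the bitmap (generated by a script, checked by the kernel). -/

namespace Cfsg.Agent.Lib.Helper77.J3

theorem comp_0 : ∀ a < 64, 0 ≤ a → ∀ b < 512, compBP bm2 a b = true := by decide +kernel

theorem comp_1 : ∀ a < 128, 64 ≤ a → ∀ b < 512, compBP bm2 a b = true := by decide +kernel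

theorem comp_2 : ∀ a < 192, 128 ≤ a → ∀ b < 512, compBP bm2 a b = true := by decide +kernel

theorem comp_3 : ∀ a < 256, 192 ≤ a → ∀ b < 512, compBP bm2 a b = true := by decide +kernel

theorem comp_4 : ∀ a < 320, 256 ≤ a → ∀ b < 512, compBP bm2 a b = true := by decide +kernel

theorem comp_5 : ∀ a < 384, 320 ≤ a → ∀ b < 512, compBP bm2 a b = true := by decide +kernel

theorem comp_6 : ∀ a < 448, 384 ≤ a → ∀ b < 512, compBP bm2 a b = true := by decide +kernel

theorem comp_7 : ∀ a < 512, 448 ≤ a → ∀ b < 512, compBP bm2 a b = true := by decide +kernel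

theorem comp_all : ∀ a < 512, ∀ b < 512, compBP bm2 a b = true := by
  intro a ha b hb
  by_cases h0 : a < 64
  · exact comp_0 a h0 (by omega) b hb
  by_cases h1 : a < 128
  · exact comp_1 a h1 (by omega) b hb
  by_cases h2 : a < 192
  · exact comp_2 a h2 (by omega) b hb
  by_cases h3 : a < 256
  · exact comp_3 a h3 (by omega) b hb
  by_cases h4 : a < 320
  · exact comp_4 a h4 (by omega) b hb
  by_cases h5 : a < 384
  · exact comp_5 a h5 (by omega) b hb
  by_cases h6 : a < 448
  · exact comp_6 a h6 (by omega) b hb
  exact comp_7 a ha (by omega) b hb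

end Cfsg.Agent.Lib.Helper77.J3
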