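import Cfsg.Agent.Lib.Helper77.J3Act

set_option autoImplicit false
set_option linter.style.haveILetI false
set_option linter.unusedSectionVars false

/-! The order of the triple cover of J3 from the kernel-checked tables: the orbit of the first basis
line, the table of its stabilizer and the transversal table. -/

namespace Cfsg.Agent.Lib.Helper77.J3

open Cfsg.Spor Matrix

variable {F : Type} [Field F] {ω : F}

attribute [local instance] lineAct

/-- The key of the product of the generators along a word. -/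
def wordKey (gs : List ℕ) : List ℕ → ℕ
  | [] => oneK
  | i :: w => mulKK (gs.getD i oneK) (wordKey gs w)

theorem rep_word (h : IsF4 F ω) {H : Subgroup (GL F9 F)} {gs : List ℕ}
    (hgs : ∀ x ∈ gs, Rep H ω x) : ∀ w : List ℕ, Rep H ω (wordKey gs w)
  | [] => rep_one H
  | i :: w => by
    unfold wordKey
    apply rep_mul h _ (rep_word h hgs w)
    by_cases hi : i < gs.length
    · rw [List.getD_eq_getElem _ _ hi]
      exact hgs _ (List.getElem_mem hi)
    · rw [List.getD_eq_default _ _ (by omega)]
      exact rep_one H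

/-- The set of units with one of three given matrices. -/
def unitsOf (ω : F) (a b c : ℕ) : Set (GL F9 F) :=
  {g | (g : Matrix F9 F9 F) = matOf ω a ∨ (g : Matrix F9 F9 F) = matOf ω b ∨
    (g : Matrix F9 F9 F) = matOf ω c}

theorem rep_closure_unitsOf {H : Subgroup (GL F9 F)} {a b c k : ℕ}
    (hk : k = a ∨ k = b ∨ k = c) (hr : Rep H ω k) : Rep (Subgroup.closure (unitsOf ω a b c)) ω k := by
  obtain ⟨g, _, e⟩ := hr
  refine ⟨g, Subgroup.subset_closure ?_, e⟩
  unfold unitsOf
  rcases hk with rfl | rfl | rfl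
  · exact Or.inl e
  · exact Or.inr (Or.inl e)
  · exact Or.inr (Or.inr e)

theorem closure_unitsOf_le {H : Subgroup (GL F9 F)} {a b c : ℕ} (ha : Rep H ω a)
    (hb : Rep H ω b) (hc : Rep H ω c) : Subgroup.closure (unitsOf ω a b c) ≤ H := by
  rw [Subgroup.closure_le]
  intro g hg
  have key : ∀ k, Rep H ω k → (g : Matrix F9 F9 F) = matOf ω k → g ∈ H := by
    intro k ⟨x, hx, ex⟩ e
    have : g = x := Units.ext (e.trans ex.symm)
    rw [this]
    exact hx
  rcases hg with e | e | e
  · exact key a ha e
  · exact key b hb e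
  · exact key c hc e

/-- Lower bound for the order of a subgroup containing representatives of distinct keys. -/
theorem le_card_of_rep [Finite F] (h : IsF4 F ω) (H : Subgroup (GL F9 F)) (keys : List ℕ)
    (hlt : ∀ k ∈ keys, k < 2 ^ 162) (hnd : keys.Nodup) (hrep : ∀ k ∈ keys, Rep H ω k) :
    keys.length ≤ Nat.card H := by
  classical
  haveI : Fintype F := Fintype.ofFinite F
  let φ : H → Matrix F9 F9 F := fun g => ((g : GL F9 F) : Matrix F9 F9 F)
  have hinj : Function.Injective φ := fun x y e => Subtype.ext (Units.ext e)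
  have hsub : (matOf ω) '' (↑keys.toFinset : Set ℕ) ⊆ Set.range φ := by
    rintro _ ⟨k, hk, rfl⟩
    simp only [Finset.mem_coe, List.mem_toFinset] at hk
    obtain ⟨g, hg, e⟩ := hrep k hk
    exact ⟨⟨g, hg⟩, e⟩
  have hinjOn : Set.InjOn (matOf ω) (↑keys.toFinset : Set ℕ) := by
    intro a ha b hb e
    simp only [Finset.mem_coe, List.mem_toFinset] at ha hb
    exact matOf_injective h (hlt a ha) (hlt b hb) e
  calc keys.length = keys.toFinset.card := (List.toFinset_card_of_nodup hnd).symm
    _ = (↑keys.toFinset : Set ℕ).ncard := (Set.ncard_coe_finset _).symm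
    _ = ((matOf ω) '' (↑keys.toFinset : Set ℕ)).ncard := (hinjOn.ncard_image).symm
    _ ≤ (Set.range φ).ncard := Set.ncard_le_ncard hsub (Set.toFinite _)
    _ = Nat.card H := by
        rw [← Set.image_univ, Set.ncard_image_of_injective _ hinj, Set.ncard_univ]

/-- The three generators of the stabilizer. -/
def kB : ℕ := (gM 31).mkey
/-- The three generators of the stabilizer. -/
def kC : ℕ := (gM 39).mkey
/-- The three generators of the stabilizer. -/
def kE : ℕ := (gM 12).mkey
/-- The third generator of the group. -/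
def kD : ℕ := (gM 21).mkey

/-- The subgroup generated by the three generators of the stabilizer. -/
def stabGL (F : Type) [Field F] (ω : F) : Subgroup (GL F9 F) :=
  Subgroup.closure (unitsOf ω kB kC kE)

/-- The subgroup generated by three of the generators. -/
def gen3GL (F : Type) [Field F] (ω : F) : Subgroup (GL F9 F) :=
  Subgroup.closure (unitsOf ω kD kB kC)

/-- The hypotheses on the tables for the order of the group. -/
structure OrdData (F : Type) [Field F] (ω : F) (kT : Tr) (krows : List (ℕ × ℕ × ℕ × ℕ))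
    (uT kI : Tr) (urows : List (ℕ × ℕ × ℕ × ℕ × ℕ × ℕ × ℕ × ℕ)) (P1 P2 P3 : P9)
    (words : List (List ℕ)) : Prop where
  horb : {L : Submodule F (F9 → F) | ∃ g ∈ threeJ3 F ω,
      L = Submodule.span F {(g : Matrix F9 F9 F) *ᵥ (Pi.single (0 : F9) (1 : F) : F9 → F)}}.ncard
      = 23256
  gv : ∀ j < 45, validJ j → (gM j).Valid
  ginv : ∀ j < 45, validJ j → ∃ N : M9, (gM j).mul N = M9.one ∧ N.mul (gM j) = M9.one
  KT : KTab kT krows [kB, kC, kE]
  kincr : isIncr3 (krows.map (fun r => r.1)) = true
  klen : krows.length = 6480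
  hfix : stepKeyP (pkK kB) 1 = 1 ∧ stepKeyP (pkK kC) 1 = 1 ∧ stepKeyP (pkK kE) 1 = 1
  UT : UTab uT kI urows P1 P2 P3 krows
  hP : P1 = pkK kD ∧ P2 = pkK kB ∧ P3 = pkK kC
  ulen : urows.length = 23256
  hwords : ∀ j < 45, validJ j → wordKey [kD, kB, kC] (words.getD j []) = (gM j).mkey

section main
variable [Finite F] (h : IsF4 F ω) {kT : Tr} {krows : List (ℕ × ℕ × ℕ × ℕ)} {uT kI : Tr}
  {urows : List (ℕ × ℕ × ℕ × ℕ × ℕ × ℕ × ℕ × ℕ)} {P1 P2 P3 : P9} {words : List (List ℕ)}
  (D : OrdData F ω kT krows uT kI urows P1 P2 P3 words)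
include h D

theorem rep_gens (j : ℕ) (hj : validJ j) : Rep (threeJ3 F ω) ω (gM j).mkey :=
  rep_gen h D.gv D.ginv j hj

theorem stabGL_le : stabGL F ω ≤ threeJ3 F ω :=
  closure_unitsOf_le (rep_gens h D 31 (by decide)) (rep_gens h D 39 (by decide))
    (rep_gens h D 12 (by decide))

theorem rep_stab_gens : ∀ x ∈ [kB, kC, kE], Rep (stabGL F ω) ω x := by
  intro x hx
  simp only [List.mem_cons, List.not_mem_nil, or_false] at hx
  have h1 := rep_gens h D 31 (by decide)
  have h2 := rep_gens h D 39 (by decide)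
  have h3 := rep_gens h D 12 (by decide)
  rcases hx with rfl | rfl | rfl
  · exact rep_closure_unitsOf (Or.inl rfl) h1
  · exact rep_closure_unitsOf (Or.inr (Or.inl rfl)) h2
  · exact rep_closure_unitsOf (Or.inr (Or.inr rfl)) h3

theorem rep_krows : ∀ r ∈ krows, Rep (stabGL F ω) ω r.1 :=
  fun r hr => ktab_reach h D.KT (stabGL F ω) (rep_stab_gens h D) _ r hr rfl

theorem krows_cover : ∀ g ∈ stabGL F ω, ∃ r ∈ krows, (g : Matrix F9 F9 F) = matOf ω r.1 := by
  apply ktab_closed h D.KT
  intro g hg
  rcases hg with e | e | e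
  · exact ⟨kB, by simp, e⟩
  · exact ⟨kC, by simp, e⟩
  · exact ⟨kE, by simp, e⟩

theorem krows_lt : ∀ r ∈ krows, r.1 < 2 ^ 162 := by
  rintro ⟨k, d, p, j⟩ hr
  exact (rowK_spec kT _ k d p j (D.KT.rows_ok _ hr)).1

theorem krows_nodup : (krows.map (fun r => r.1)).Nodup :=
  (isIncr3_pairwise _ D.kincr).imp (fun hab => Nat.ne_of_lt hab)

theorem card_stabGL_ge : 6480 ≤ Nat.card (stabGL F ω) := by
  have := le_card_of_rep h (stabGL F ω) (krows.map (fun r => r.1))
    (by
      intro k hk
      obtain ⟨r, hr, rfl⟩ := List.mem_map.mp hk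
      exact krows_lt h D r hr)
    (krows_nodup h D)
    (by
      intro k hk
      obtain ⟨r, hr, rfl⟩ := List.mem_map.mp hk
      exact rep_krows h D r hr)
  rwa [List.length_map, D.klen] at this

theorem threeJ3_le_gen3 : threeJ3 F ω ≤ gen3GL F ω := by
  have h1 := rep_gens h D 21 (by decide)
  have h2 := rep_gens h D 31 (by decide)
  have h3 := rep_gens h D 39 (by decide)
  have hgs : ∀ x ∈ [kD, kB, kC], Rep (gen3GL F ω) ω x := by
    intro x hx
    simp only [List.mem_cons, List.not_mem_nil, or_false] at hx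
    rcases hx with rfl | rfl | rfl
    · exact rep_closure_unitsOf (Or.inl rfl) h1
    · exact rep_closure_unitsOf (Or.inr (Or.inl rfl)) h2
    · exact rep_closure_unitsOf (Or.inr (Or.inr rfl)) h3
  unfold threeJ3
  rw [Subgroup.closure_le]
  intro g hg
  obtain ⟨j, hj, e⟩ := gens_cover h _ hg
  have hr := rep_word h hgs (words.getD j [])
  rw [D.hwords j hj.1 hj] at hr
  obtain ⟨x, hx, ex⟩ := hr
  have : g = x := Units.ext (by rw [e, ex, matOf_mkey (D.gv j hj.1 hj)])
  rw [this]
  exact hx

theorem card_gen3_le : Nat.card (gen3GL F ω) ≤ 23256 * 6480 := by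
  have hcov := utab_closed h D.UT kD kB kC D.hP (stabGL F ω) (rep_krows h D) (krows_cover h D)
    (unitsOf ω kD kB kC) (fun g hg => hg)
  have := card_le_of_cover (gen3GL F ω) urows krows
    (fun ru rk => matOf ω ru.2.1 * matOf ω rk.1) hcov
  rwa [D.ulen, D.klen] at this

theorem card_threeJ3_le : Nat.card (threeJ3 F ω) ≤ 23256 * 6480 :=
  le_trans (Subgroup.card_le_of_le (threeJ3_le_gen3 h D)) (card_gen3_le h D)

/-- The stabilizer of the first basis line contains the subgroup generated by its three
generators. -/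
theorem stabGL_le_stabilizer :
    stabGL F ω ≤ (MulAction.stabilizer (threeJ3 F ω) (line0 F)).map (threeJ3 F ω).subtype := by
  unfold stabGL
  rw [Subgroup.closure_le]
  intro g hg
  have hmem : g ∈ threeJ3 F ω := stabGL_le h D (Subgroup.subset_closure hg)
  refine ⟨⟨g, hmem⟩, ?_, rfl⟩
  rw [SetLike.mem_coe, mem_stabilizer_iff]
  obtain ⟨f1, f2, f3⟩ := D.hfix
  rcases hg with e | e | e
  · exact maps_of_step h e (by norm_num) f1 (by decide) (by norm_num)
  · exact maps_of_step h e (by norm_num) f2 (by decide) (by norm_num)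
  · exact maps_of_step h e (by norm_num) f3 (by decide) (by norm_num)

theorem card_stabilizer_ge :
    6480 ≤ Nat.card (MulAction.stabilizer (threeJ3 F ω) (line0 F)) := by
  have h1 := Subgroup.card_le_of_le (stabGL_le_stabilizer h D)
  rw [Subgroup.card_map_of_injective (Subgroup.subtype_injective _)] at h1
  exact le_trans (card_stabGL_ge h D) h1

theorem card_eq_stab_mul :
    Nat.card (threeJ3 F ω) =
      Nat.card (MulAction.stabilizer (threeJ3 F ω) (line0 F)) * 23256 := by
  rw [← Subgroup.card_mul_index (MulAction.stabilizer (threeJ3 F ω) (line0 F)),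
    MulAction.index_stabilizer, orbit_line0, D.horb]

/-- The order of the triple cover of J3. -/
theorem card_threeJ3 : Nat.card (threeJ3 F ω) = 150698880 := by
  have h1 := card_eq_stab_mul h D
  have h2 := card_threeJ3_le h D
  have h3 := card_stabilizer_ge h D
  omega

theorem card_stabilizer :
    Nat.card (MulAction.stabilizer (threeJ3 F ω) (line0 F)) = 6480 := by
  have h1 := card_eq_stab_mul h D
  have h2 := card_threeJ3 h D
  omega

theorem stabilizer_eq :
    (MulAction.stabilizer (threeJ3 F ω) (line0 F)).map (threeJ3 F ω).subtype = stabGL F ω := by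
  symm
  apply Subgroup.eq_of_le_of_card_ge (stabGL_le_stabilizer h D)
  rw [Subgroup.card_map_of_injective (Subgroup.subtype_injective _), card_stabilizer h D]
  exact card_stabGL_ge h D

end main

end Cfsg.Agent.Lib.Helper77.J3
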