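import Cfsg.Agent.Lib.Helper77.J3OutData
import Cfsg.Agent.Lib.Helper77.J3InvMain
import Cfsg.Prelude.Def_KGroupFacts

set_option autoImplicit false
set_option linter.style.haveILetI false
set_option linter.unusedSectionVars false

/-! The outer automorphism group of J3 has order at most 2. By Sylow's theorem an automorphism can
be corrected by an inner one so as to send an element `X` of order 19 to `X` or to its inverse (the
normalizer of its subgroup induces the squares of `Aut(Z/19)`). If `X` is fixed, the image of a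
fixed involution `Y` is one of the 26163 involutions; for each of them a kernel-checked certificate
gives either a power of `X` conjugating `Y` to it, or a word in the pair whose order tells the pair
apart from `(X, Y)`. As `X` and `Y` generate the group, an automorphism fixing `X` is inner. Two
automorphisms inverting `X` differ by one fixing `X`. -/

namespace Cfsg.Agent.Lib.Helper77.J3

open Cfsg.Spor Matrix

variable {F : Type} [Field F] {ω : F}

/-! ### Keys -/

theorem matOf_powK (h : IsF4 F ω) : ∀ (f a e : ℕ), e < 2 ^ f →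
    matOf ω (powK f a e) = (matOf ω a) ^ e := by
  intro f
  induction f with
  | zero =>
    intro a e he
    have : e = 0 := by simpa using he
    subst this
    rw [pow_zero]
    exact matOf_one
  | succ f ih =>
    intro a e he
    unfold powK
    cases h0 : Nat.beq e 0
    · rw [cond_false]
      cases h1 : Nat.beq e 1
      · rw [cond_false, withN_eq]
        have he2 : e / 2 < 2 ^ f := by
          rw [pow_succ] at he
          omega
        have ih' := ih (mulKK a a) (e / 2) he2
        rw [matOf_mul h] at ih'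
        cases h2 : Nat.beq (e % 2) 1
        · rw [cond_false, ih']
          have hm : e % 2 = 0 := by
            have : e % 2 ≠ 1 := fun e' => by rw [e'] at h2; exact absurd h2 (by decide)
            omega
          conv_rhs => rw [← Nat.div_add_mod e 2, hm, add_zero, pow_mul, pow_two]
        · rw [cond_true, matOf_mul h, ih']
          have hm : e % 2 = 1 := Nat.eq_of_beq_eq_true h2
          conv_rhs => rw [← Nat.div_add_mod e 2, hm, pow_succ', pow_mul, pow_two]
      · rw [cond_true]
        have : e = 1 := Nat.eq_of_beq_eq_true h1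
        rw [this, pow_one]
    · rw [cond_true]
      have : e = 0 := Nat.eq_of_beq_eq_true h0
      rw [this, pow_zero]
      exact matOf_one

theorem powK_lt : ∀ (f a e : ℕ), a < 2 ^ 162 → powK f a e < 2 ^ 162 := by
  intro f
  induction f with
  | zero =>
    intro a e _
    exact oneK_lt
  | succ f ih =>
    intro a e ha
    unfold powK
    cases h0 : Nat.beq e 0
    · rw [cond_false]
      cases h1 : Nat.beq e 1
      · rw [cond_false, withN_eq]
        cases h2 : Nat.beq (e % 2) 1
        · rw [cond_false]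
          exact ih _ _ (mulKK_lt _ _)
        · rw [cond_true]
          exact mulKK_lt _ _
      · rw [cond_true]
        exact ha
    · rw [cond_true]
      exact oneK_lt

theorem matOf_w2K (h : IsF4 F ω) : matOf ω w2K = (ω * ω) • (1 : Matrix F9 F9 F) := by
  unfold w2K
  rw [matOf_mul h, matOf_wK, Matrix.smul_mul, Matrix.one_mul, smul_smul]

theorem isScal_spec {k : ℕ} (hk : isScal k = true) : k = oneK ∨ k = wK ∨ k = w2K := by
  unfold isScal at hk
  simp only [Bool.or_eq_true] at hk
  rcases hk with (hk | hk) | hk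
  · exact Or.inl (Nat.eq_of_beq_eq_true hk)
  · exact Or.inr (Or.inl (Nat.eq_of_beq_eq_true hk))
  · exact Or.inr (Or.inr (Nat.eq_of_beq_eq_true hk))

theorem isScal_of {k : ℕ} (hk : k = oneK ∨ k = wK ∨ k = w2K) : isScal k = true := by
  unfold isScal
  simp only [Bool.or_eq_true]
  rcases hk with rfl | rfl | rfl
  · exact Or.inl (Or.inl (by decide +kernel))
  · exact Or.inl (Or.inr (by decide +kernel))
  · exact Or.inr (by decide +kernel)

theorem matOf_scal (h : IsF4 F ω) {k : ℕ} (hk : isScal k = true) :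
    ∃ c : F, matOf ω k = c • (1 : Matrix F9 F9 F) := by
  rcases isScal_spec hk with rfl | rfl | rfl
  · exact ⟨1, by rw [matOf_one, one_smul]⟩
  · exact ⟨ω, matOf_wK⟩
  · exact ⟨ω * ω, matOf_w2K h⟩

/-- The check of a list of certificates gives a certificate for each row. -/
theorem chkZ_spec : ∀ (rs : List (ℕ × ℕ × ℕ × ℕ)) (cs : List ℕ), chkZ rs cs = true →
    ∀ r ∈ rs, ∃ c : ℕ, rowO r.1 (c / 32) (c % 32) = true
  | [], _, _ => by
    intro r hr
    exact absurd hr (List.not_mem_nil)
  | _ :: _, [], hc => by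
    unfold chkZ at hc
    exact absurd hc (by decide)
  | r0 :: rs, c :: cs, hc => by
    unfold chkZ at hc
    rw [Bool.and_eq_true] at hc
    intro r hr
    rcases List.mem_cons.mp hr with rfl | hr
    · exact ⟨c, hc.1⟩
    · exact chkZ_spec rs cs hc.2 r hr

theorem chk_all : ∀ r ∈ crows, ∃ c : ℕ, rowO r.1 (c / 32) (c % 32) = true := by
  intro r hr
  unfold crows at hr
  simp only [List.mem_append, or_assoc] at hr
  rcases hr with hr | hr | hr | hr | hr | hr | hr | hr | hr | hr | hr | hr | hr | hr | hr | hr |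
    hr | hr | hr | hr | hr | hr | hr | hr
  · exact chkZ_spec _ _ chk_certs_0 r hr
  · exact chkZ_spec _ _ chk_certs_1 r hr
  · exact chkZ_spec _ _ chk_certs_2 r hr
  · exact chkZ_spec _ _ chk_certs_3 r hr
  · exact chkZ_spec _ _ chk_certs_4 r hr
  · exact chkZ_spec _ _ chk_certs_5 r hr
  · exact chkZ_spec _ _ chk_certs_6 r hr
  · exact chkZ_spec _ _ chk_certs_7 r hr
  · exact chkZ_spec _ _ chk_certs_8 r hr
  · exact chkZ_spec _ _ chk_certs_9 r hr
  · exact chkZ_spec _ _ chk_certs_10 r hr
  · exact chkZ_spec _ _ chk_certs_11 r hr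
  · exact chkZ_spec _ _ chk_certs_12 r hr
  · exact chkZ_spec _ _ chk_certs_13 r hr
  · exact chkZ_spec _ _ chk_certs_14 r hr
  · exact chkZ_spec _ _ chk_certs_15 r hr
  · exact chkZ_spec _ _ chk_certs_16 r hr
  · exact chkZ_spec _ _ chk_certs_17 r hr
  · exact chkZ_spec _ _ chk_certs_18 r hr
  · exact chkZ_spec _ _ chk_certs_19 r hr
  · exact chkZ_spec _ _ chk_certs_20 r hr
  · exact chkZ_spec _ _ chk_certs_21 r hr
  · exact chkZ_spec _ _ chk_certs_22 r hr
  · exact chkZ_spec _ _ chk_certs_23 r hr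

theorem rowO_spec (k j e : ℕ) (hr : rowO k j e = true) :
    (j < 10 ∧ xor (isScal (powK 5 (wordO j k) e)) (Nat.beq (e % ordsO.getD j 1) 0) = true) ∨
    (e < 19 ∧ k = cjsO.getD e 0) := by
  unfold rowO at hr
  cases hj : Nat.blt j 10
  · rw [hj, cond_false, Bool.and_eq_true] at hr
    exact Or.inr ⟨by simpa using hr.1, Nat.eq_of_beq_eq_true hr.2⟩
  · rw [hj, cond_true, withN_eq] at hr
    exact Or.inl ⟨by simpa using hj, hr⟩

/-! ### Words in a pair of elements -/

/-- The test words in a group. -/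
def wordG {G : Type*} [Group G] (j : ℕ) (a b : G) : G :=
  if j < 9 then a ^ (j + 1) * b else a ^ 1 * b * (a ^ 2 * b) * (a ^ 5 * b)

theorem map_wordG {G H : Type*} [Group G] [Group H] (f : G →* H) (j : ℕ) (a b : G) :
    f (wordG j a b) = wordG j (f a) (f b) := by
  unfold wordG
  split_ifs <;> simp only [map_mul, map_pow]

/-- Conjugate elements have centralizers of the same order. -/
theorem card_centralizer_of_isConj {G : Type*} [Group G] [Finite G] {a b : G} (hab : IsConj a b) :
    Nat.card (Subgroup.centralizer ({a} : Set G)) = Nat.card (Subgroup.centralizer ({b} : Set G)) := by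
  have key : ∀ t : G, Nat.card (Subgroup.centralizer ({t} : Set G)) *
      (MulAction.orbit (ConjAct G) t).ncard = Nat.card (ConjAct G) := by
    intro t
    rw [Subgroup.nat_card_centralizer_nat_card_stabilizer]
    have h3 := (MulAction.stabilizer (ConjAct G) t).card_mul_index
    rw [MulAction.index_stabilizer] at h3
    exact h3
  have horb : MulAction.orbit (ConjAct G) a = MulAction.orbit (ConjAct G) b := by
    rw [MulAction.orbit_eq_iff, ConjAct.mem_orbit_conjAct]
    exact hab
  have ha := key a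
  have hb := key b
  rw [horb] at ha
  have hpos : 0 < (MulAction.orbit (ConjAct G) b).ncard := by
    rw [Set.ncard_pos (Set.toFinite _)]
    exact MulAction.nonempty_orbit b
  exact Nat.eq_of_mul_eq_mul_right hpos (ha.trans hb.symm)

/-- The order of the centralizer of an involution, from the data on its shape. -/
theorem card_centralizer_of_centData {G : Type*} [Group G] [Finite G]
    (hd : Cfsg.Agent.Lib.Helper77.CentShape.CentData G) (s : G) (hs : orderOf s = 2) :
    Nat.card (Subgroup.centralizer ({s} : Set G)) = 1920 := by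
  obtain ⟨hall, t, ht, Q, _, _, hQ32, _, _, ⟨e⟩⟩ := hd.result
  rw [card_centralizer_of_isConj (hall s t hs ht)]
  have h1 := Subgroup.card_eq_card_quotient_mul_card_subgroup Q
  have h2 : Nat.card (↥(Subgroup.centralizer ({t} : Set G)) ⧸ Q) = 60 := by
    rw [Nat.card_congr e.toEquiv, nat_card_alternatingGroup]
    simp [Nat.factorial]
  rw [h1, h2, hQ32]

/-! ### The group -/

section main
variable [Finite F] (h : IsF4 F ω) (hgs : ∀ x ∈ csK, Rep (threeJ3 F ω) ω x)
  (hwK : Rep (threeJ3 F ω) ω wK)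
  (hcs : ∀ z : GL F9 F, (∀ g ∈ threeJ3 F ω, g * z = z * g) → ∃ c : Fˣ, z = scU c)
  (hcen : Nat.card (Subgroup.center (threeJ3 F ω)) = 3)
  (hcard : Nat.card (threeJ3 F ω) = 150698880)
  (hle3 : threeJ3 F ω ≤ gen3GL F ω)
  (x y n : threeJ3 F ω)
  (hx : ((x : GL F9 F) : Matrix F9 F9 F) = matOf ω xK)
  (hy : ((y : GL F9 F) : Matrix F9 F9 F) = matOf ω ktK)
  (hn : ((n : GL F9 F) : Matrix F9 F9 F) = matOf ω nK)

local notation "Γ" => threeJ3 F ω
local notation "π" => QuotientGroup.mk' (Subgroup.center (threeJ3 F ω))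

include h in
theorem elt_pow (v : threeJ3 F ω) (e : ℕ) :
    (((v ^ e : threeJ3 F ω) : GL F9 F) : Matrix F9 F9 F) =
      ((v : GL F9 F) : Matrix F9 F9 F) ^ e := by
  induction e with
  | zero => rfl
  | succ e ih => rw [pow_succ, elt_mul, ih, pow_succ]

include h hx in
theorem x_pow (e : ℕ) (he : e ≤ 18) :
    (((x ^ e : threeJ3 F ω) : GL F9 F) : Matrix F9 F9 F) = matOf ω (xqL.getD e oneK) := by
  induction e with
  | zero =>
    rw [xqL_zero, matOf_one]
    rfl
  | succ e ih =>
    rw [pow_succ', elt_mul, ih (by omega), hx, ← matOf_mul h, xqL_step e (by omega)]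

include h hx in
theorem x_pow19 : x ^ 19 = 1 := by
  apply elt_ext
  rw [pow_succ', elt_mul, x_pow h x hx 18 le_rfl, hx, ← matOf_mul h, xqL_last, matOf_one]
  rfl

include h hx hy in
theorem x_not_central : x ∉ Subgroup.center (threeJ3 F ω) := by
  intro hc
  have e := Subgroup.mem_center_iff.mp hc y
  have e2 := congrArg (fun v : threeJ3 F ω => ((v : GL F9 F) : Matrix F9 F9 F)) e
  simp only [elt_mul, hx, hy, ← matOf_mul h] at e2
  exact xK_nc (matOf_injective h (mulKK_lt _ _) (mulKK_lt _ _) e2).symm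

include h hx hy in
theorem orderOf_X : orderOf (π x) = 19 := by
  haveI : Fact (Nat.Prime 19) := ⟨by norm_num⟩
  apply orderOf_eq_prime
  · rw [← map_pow, x_pow19 h x hx, map_one]
  · intro e
    rw [QuotientGroup.mk'_apply, QuotientGroup.eq_one_iff] at e
    exact x_not_central h x y hx hy e

include h hx hn in
theorem n_rel : π n * π x * (π n)⁻¹ = π x ^ 4 := by
  have e : n * x = x ^ 4 * n := by
    apply elt_ext
    rw [elt_mul, elt_mul, hn, hx, x_pow h x hx 4 (by norm_num), ← matOf_mul h, ← matOf_mul h,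
      nK_rel]
  rw [← map_mul, e, map_mul, map_pow]
  group

include h hx hn in
theorem n_pow_rel (j : ℕ) : π n ^ j * π x * (π n ^ j)⁻¹ = π x ^ (4 ^ j) := by
  induction j with
  | zero => simp
  | succ j ih =>
    have e : π n ^ (j + 1) * π x * (π n ^ (j + 1))⁻¹ =
        π n * (π n ^ j * π x * (π n ^ j)⁻¹) * (π n)⁻¹ := by
      rw [pow_succ']; group
    rw [e, ih]
    have e2 : π n * π x ^ 4 ^ j * (π n)⁻¹ = (π n * π x * (π n)⁻¹) ^ 4 ^ j := by
      rw [conj_pow]
    rw [e2, n_rel h x n hx hn, ← pow_mul, pow_succ']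

include h hx hy hn in
theorem exists_conj_pow (k : ℕ) (hk : k < 19) (hk0 : k ≠ 0) :
    ∃ c : threeJ3 F ω ⧸ Subgroup.center (threeJ3 F ω),
      c * π x ^ k * c⁻¹ = π x ∨ c * π x ^ k * c⁻¹ = (π x)⁻¹ := by
  have hdec : ∀ k < 19, k ≠ 0 → ∃ j < 9, 4 ^ j % 19 = k ∨ 4 ^ j % 19 = 19 - k := by decide
  obtain ⟨j, _, hj⟩ := hdec k hk hk0
  have ho := orderOf_X h x y hx hy
  have hrel := n_pow_rel h x n hx hn j
  have hmod : π x ^ (4 ^ j) = π x ^ (4 ^ j % 19) := by
    have := pow_mod_orderOf (π x) (4 ^ j)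
    rw [ho] at this
    exact this.symm
  refine ⟨(π n ^ j)⁻¹, ?_⟩
  rcases hj with hj | hj
  · left
    rw [hmod, hj] at hrel
    rw [← hrel]
    group
  · right
    rw [hmod, hj] at hrel
    have hinv : π x ^ (19 - k) = (π x ^ k)⁻¹ := by
      apply eq_inv_of_mul_eq_one_left
      rw [← pow_add, Nat.sub_add_cancel hk.le, ← ho, pow_orderOf_eq_one]
    rw [hinv] at hrel
    have : π x ^ k = (π n ^ j * π x * (π n ^ j)⁻¹)⁻¹ := by rw [hrel, inv_inv]
    rw [this]
    group

include h hgs hcen hcard hx hy hn in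
/-- An automorphism can be corrected by an inner one so as to fix or invert `x`. -/
theorem exists_conj_fix (φ : MulAut (threeJ3 F ω ⧸ Subgroup.center (threeJ3 F ω))) :
    ∃ c : threeJ3 F ω ⧸ Subgroup.center (threeJ3 F ω),
      c * φ (π x) * c⁻¹ = π x ∨ c * φ (π x) * c⁻¹ = (π x)⁻¹ := by
  classical
  haveI : Fact (Nat.Prime 19) := ⟨by norm_num⟩
  haveI : Finite (threeJ3 F ω) := Nat.finite_of_card_ne_zero (by rw [hcard]; norm_num)
  set J := threeJ3 F ω ⧸ Subgroup.center (threeJ3 F ω) with hJ
  have hcJ : Nat.card J = 50232960 := card_quot h hgs hcen hcard y hy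
  have hfac : (Nat.card J).factorization 19 = 1 := by
    rw [hcJ]
    have : 50232960 = 19 ^ 1 * 2643840 := by norm_num
    rw [this]
    exact fact_pow_mul 19 1 2643840 (by norm_num) (by norm_num) (by norm_num)
  have ho := orderOf_X h x y hx hy
  have hφo : orderOf (φ (π x)) = 19 := (MulEquiv.orderOf_eq φ (π x)).trans ho
  let P : Sylow 19 J := Sylow.ofCard (Subgroup.zpowers (φ (π x)))
    (by rw [Nat.card_zpowers, hφo, hfac, pow_one])
  let Q : Sylow 19 J := Sylow.ofCard (Subgroup.zpowers (π x))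
    (by rw [Nat.card_zpowers, ho, hfac, pow_one])
  obtain ⟨c, hc⟩ := MulAction.exists_smul_eq J P Q
  have hmem : c * φ (π x) * c⁻¹ ∈ (Q : Subgroup J) := by
    rw [← hc, Sylow.coe_subgroup_smul, Subgroup.mem_smul_pointwise_iff_exists]
    exact ⟨φ (π x), by rw [Sylow.coe_ofCard]; exact Subgroup.mem_zpowers _,
      by rw [MulAut.smul_def, MulAut.conj_apply]⟩
  rw [Sylow.coe_ofCard] at hmem
  have hfin : IsOfFinOrder (π x) := isOfFinOrder_of_finite (π x)
  rw [← mem_powers_iff_mem_zpowers, mem_powers_iff_mem_range_orderOf, ho] at hmem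
  obtain ⟨k, hk, hk'⟩ := Finset.mem_image.mp hmem
  rw [Finset.mem_range] at hk
  have hk0 : k ≠ 0 := by
    rintro rfl
    rw [pow_zero] at hk'
    have h1 : φ (π x) = 1 := by
      have := congrArg (fun v => c⁻¹ * v * c) hk'
      simpa [mul_assoc] using this.symm
    rw [h1, orderOf_one] at hφo
    norm_num at hφo
  obtain ⟨d, hd⟩ := exists_conj_pow h x y n hx hy hn k hk hk0
  refine ⟨d * c, ?_⟩
  have e : d * c * φ (π x) * (d * c)⁻¹ = d * (c * φ (π x) * c⁻¹) * d⁻¹ := by group
  rw [e, ← hk']
  exact hd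

include h hwK hcs in
/-- An element of the group is central exactly when its key is a scalar key. -/
theorem mem_center_iff_isScal (v : threeJ3 F ω) (k : ℕ) (hk : k < 2 ^ 162)
    (hv : ((v : GL F9 F) : Matrix F9 F9 F) = matOf ω k) :
    v ∈ Subgroup.center (threeJ3 F ω) ↔ isScal k = true := by
  constructor
  · intro hc
    have hz : ∀ g ∈ threeJ3 F ω, g * (v : GL F9 F) = (v : GL F9 F) * g := by
      intro g hg
      have := Subgroup.mem_center_iff.mp hc ⟨g, hg⟩
      exact congrArg Subtype.val this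
    obtain ⟨c, hcv⟩ := hcs _ hz
    have hm : matOf ω k = (c : F) • (1 : Matrix F9 F9 F) := by
      rw [← hv, hcv, scU_val]
    obtain ⟨l1, l2, l3⟩ := scal_lt
    apply isScal_of
    rcases h.surj (c : F) with e0 | e1 | e2 | e3
    · exact absurd e0 c.ne_zero
    · left
      apply matOf_injective h hk l1
      rw [hm, e1, one_smul, matOf_one]
    · right; left
      apply matOf_injective h hk l2
      rw [hm, e2, matOf_wK]
    · right; right
      apply matOf_injective h hk l3
      rw [hm, e3, matOf_w2K h, h.sq]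
  · intro hs
    obtain ⟨c, hc⟩ := matOf_scal h hs
    rw [Subgroup.mem_center_iff]
    intro g
    apply elt_ext
    rw [elt_mul, elt_mul, hv, hc, Matrix.mul_smul, Matrix.smul_mul, Matrix.mul_one, Matrix.one_mul]

include h hx in
theorem wordO_lt (j k : ℕ) : wordO j k < 2 ^ 162 := by
  unfold wordO
  cases Nat.blt j 9
  · exact mulKK_lt _ _
  · exact mulKK_lt _ _

include h hx in
/-- The matrix of a test word. -/
theorem elt_wordG (j : ℕ) (u : threeJ3 F ω) (k : ℕ)
    (hu : ((u : GL F9 F) : Matrix F9 F9 F) = matOf ω k) :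
    (((wordG j x u : threeJ3 F ω) : GL F9 F) : Matrix F9 F9 F) = matOf ω (wordO j k) := by
  unfold wordG wordO
  by_cases hj : j < 9
  · have hb : Nat.blt j 9 = true := by simpa using hj
    rw [if_pos hj, hb, cond_true, elt_mul, x_pow h x hx (j + 1) (by omega), hu, ← matOf_mul h]
  · have hb : Nat.blt j 9 = false := by
      cases hb' : Nat.blt j 9 with
      | false => rfl
      | true => exact absurd (by simpa using hb') hj
    rw [if_neg hj, hb, cond_false]
    simp only [elt_mul, x_pow h x hx 1 (by norm_num), x_pow h x hx 2 (by norm_num),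
      x_pow h x hx 5 (by norm_num), hu, ← matOf_mul h]

theorem ordsO_bd : ∀ j < 10, 0 < ordsO.getD j 1 ∧ ordsO.getD j 1 < 32 := by decide

theorem base_neO' : ∀ j < 10, ∀ q < 32, q ∣ ordsO.getD j 1 → q ≠ 1 →
    isScal (powK 5 (wordO j ktK) (ordsO.getD j 1 / q)) = false := by decide +kernel

include h hwK hcs hx hy in
/-- A power of a test word is trivial in the quotient exactly when the power of its key is a
scalar key. -/
theorem word_pow_iff (j : ℕ) (u : threeJ3 F ω) (k : ℕ)
    (hu : ((u : GL F9 F) : Matrix F9 F9 F) = matOf ω k) (e : ℕ) (he : e < 32) :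
    (wordG j (π x) (π u)) ^ e = 1 ↔ isScal (powK 5 (wordO j k) e) = true := by
  have hm := elt_wordG h x hx j u k hu
  have hp : ((((wordG j x u) ^ e : threeJ3 F ω) : GL F9 F) : Matrix F9 F9 F) =
      matOf ω (powK 5 (wordO j k) e) := by
    rw [elt_pow h, hm, matOf_powK h 5 _ e (by norm_num; exact he)]
  rw [← mem_center_iff_isScal h hwK hcs _ _ (powK_lt 5 _ e (wordO_lt h x hx j k)) hp,
    ← map_wordG, ← map_pow, QuotientGroup.mk'_apply, QuotientGroup.eq_one_iff]

include h hwK hcs hx hy in
/-- The orders of the test words on the base pair. -/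
theorem base_orderO (j : ℕ) (hj : j < 10) :
    orderOf (wordG j (π x) (π y)) = ordsO.getD j 1 := by
  obtain ⟨hpos, hlt⟩ := ordsO_bd j hj
  apply orderOf_eq_of_pow_and_pow_div_prime hpos
  · rw [word_pow_iff h hwK hcs x y hx hy j y ktK hy _ hlt]
    exact base_powO j hj
  · intro q hq hqd h1
    have hle : q ≤ ordsO.getD j 1 := Nat.le_of_dvd hpos hqd
    have hne := base_neO' j hj q (lt_of_le_of_lt hle hlt) hqd hq.one_lt.ne'
    rw [word_pow_iff h hwK hcs x y hx hy j y ktK hy _
      (lt_of_le_of_lt (Nat.div_le_self _ _) hlt)] at h1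
    rw [h1] at hne
    exact absurd hne (by decide)

include h hy in
theorem y_sq : y * y = 1 := by
  apply elt_ext
  rw [elt_mul, hy, ← matOf_mul h, ktK_sq, matOf_one]
  rfl

include h hwK hcs hy in
theorem orderOf_Y : orderOf (π y) = 2 := by
  haveI : Fact (Nat.Prime 2) := ⟨Nat.prime_two⟩
  apply orderOf_eq_prime
  · rw [pow_two, ← map_mul, y_sq h y hy, map_one]
  · intro e
    rw [QuotientGroup.mk'_apply, QuotientGroup.eq_one_iff,
      mem_center_iff_isScal h hwK hcs y ktK (by rw [← lim162_eq]; decide +kernel) hy] at e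
    exact absurd e (by decide +kernel)

include h hgs hwK hcs hcen hcard hy in
/-- Every involution of the quotient is the image of an element whose key is in the class table. -/
theorem invol_rep (s : threeJ3 F ω ⧸ Subgroup.center (threeJ3 F ω)) (hs : orderOf s = 2) :
    ∃ r ∈ crows, ∃ u : threeJ3 F ω, ((u : GL F9 F) : Matrix F9 F9 F) = matOf ω r.1 ∧ π u = s := by
  haveI : Finite (threeJ3 F ω) := Nat.finite_of_card_ne_zero (by rw [hcard]; norm_num)
  have hcc := y_sq h y hy
  have hlen : ∀ i : Fin 26163, (i : ℕ) < crows.length := fun i => by rw [crows_length]; exact i.2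
  have hex : ∀ i : Fin 26163, ∃ v : threeJ3 F ω, IsConj y v ∧
      ((v : GL F9 F) : Matrix F9 F9 F) = matOf ω (crows[(i : ℕ)]'(hlen i)).1 := by
    intro i
    exact ctab_reach h cTab hgs y hy _ _ (List.getElem_mem (hlen i)) rfl
  choose xf hxf using hex
  have hnd : (crows.map (fun r => r.1)).Nodup :=
    (isIncr3_pairwise _ crows_incr).imp (fun hab => Nat.ne_of_lt hab)
  have hlt : ∀ r ∈ crows, r.1 < 2 ^ 162 := by
    rintro ⟨k, d, p, j⟩ hr
    exact (rowC_spec cT _ _ k d p j (cTab.rows_ok _ hr)).1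
  have hinj : Function.Injective (fun i => π (xf i)) := by
    intro i j e
    have e1 : xf i = xf j := eq_of_mk_eq hcen _ _ (sq_of_isConj hcc (hxf i).1)
      (sq_of_isConj hcc (hxf j).1) e
    have e2 : matOf ω (crows[(i : ℕ)]'(hlen i)).1 = matOf ω (crows[(j : ℕ)]'(hlen j)).1 := by
      rw [← (hxf i).2, ← (hxf j).2, e1]
    have e3 := matOf_injective h (hlt _ (List.getElem_mem (hlen i)))
      (hlt _ (List.getElem_mem (hlen j))) e2
    have hi' : (i : ℕ) < (crows.map (fun r => r.1)).length := by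
      rw [List.length_map]; exact hlen i
    have hj' : (j : ℕ) < (crows.map (fun r => r.1)).length := by
      rw [List.length_map]; exact hlen j
    have e4 : (crows.map (fun r => r.1))[(i : ℕ)]'hi' = (crows.map (fun r => r.1))[(j : ℕ)]'hj' := by
      rw [List.getElem_map, List.getElem_map]
      exact e3
    exact Fin.ext ((List.Nodup.getElem_inj_iff hnd).mp e4)
  have hconj : ∀ i, IsConj (π y) (π (xf i)) := fun i => (π).map_isConj (hxf i).1
  -- the class has exactly 26163 elements
  have hoY := orderOf_Y h hwK hcs y hy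
  have hC : Nat.card (Subgroup.centralizer ({π y} :
      Set (threeJ3 F ω ⧸ Subgroup.center (threeJ3 F ω)))) = 1920 :=
    card_centralizer_of_centData (centData h hgs hcen hcard) (π y) hoY
  have horb : (MulAction.orbit (ConjAct (threeJ3 F ω ⧸ Subgroup.center (threeJ3 F ω)))
      (π y)).ncard = 26163 := by
    have h3 := (MulAction.stabilizer (ConjAct (threeJ3 F ω ⧸ Subgroup.center (threeJ3 F ω)))
      (π y)).card_mul_index
    rw [MulAction.index_stabilizer, ← Subgroup.nat_card_centralizer_nat_card_stabilizer] at h3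
    have hc : Nat.card (ConjAct (threeJ3 F ω ⧸ Subgroup.center (threeJ3 F ω))) = 50232960 := by
      rw [← card_quot h hgs hcen hcard y hy]
      exact Nat.card_congr (ConjAct.ofConjAct
        (G := threeJ3 F ω ⧸ Subgroup.center (threeJ3 F ω))).toEquiv
    rw [hc, hC] at h3
    omega
  have hrange : MulAction.orbit (ConjAct (threeJ3 F ω ⧸ Subgroup.center (threeJ3 F ω))) (π y) =
      Set.range (fun i => π (xf i)) := by
    symm
    apply Set.eq_of_subset_of_ncard_le
    · rintro _ ⟨i, rfl⟩
      rw [ConjAct.mem_orbit_conjAct]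
      exact (hconj i).symm
    · rw [horb, ← Set.image_univ, Set.ncard_image_of_injective _ hinj,
        Set.ncard_univ, Nat.card_fin]
    · exact Set.toFinite _
  have hsY : IsConj s (π y) := all_conj h hgs hcen hcard y hy s hs
  have hmem : s ∈ MulAction.orbit (ConjAct (threeJ3 F ω ⧸ Subgroup.center (threeJ3 F ω)))
      (π y) := by
    rw [ConjAct.mem_orbit_conjAct]
    exact hsY
  rw [hrange] at hmem
  obtain ⟨i, hi⟩ := hmem
  exact ⟨_, List.getElem_mem (hlen i), xf i, (hxf i).2, hi⟩

include h hgs hwK hcs hcen hcard hx hy in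
/-- An automorphism fixing `x` sends `y` to a conjugate under a power of `x`. -/
theorem row_sem (φ : MulAut (threeJ3 F ω ⧸ Subgroup.center (threeJ3 F ω)))
    (hφ : φ (π x) = π x) : ∃ e : ℕ, φ (π y) = π x ^ e * π y * (π x ^ e)⁻¹ := by
  have hs : orderOf (φ (π y)) = 2 :=
    (MulEquiv.orderOf_eq φ (π y)).trans (orderOf_Y h hwK hcs y hy)
  obtain ⟨r, hr, u, hu, hπu⟩ := invol_rep h hgs hwK hcs hcen hcard y hy _ hs
  obtain ⟨c, hc⟩ := chk_all r hr
  have he32 : c % 32 < 32 := Nat.mod_lt _ (by norm_num)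
  rcases rowO_spec _ _ _ hc with ⟨hj, hxor⟩ | ⟨he, hk⟩
  · exfalso
    -- the word on the image pair has the same order as on the base pair
    have hw : wordG (c / 32) (π x) (π u) = φ (wordG (c / 32) (π x) (π y)) := by
      have := map_wordG φ.toMonoidHom (c / 32) (π x) (π y)
      simp only [MulEquiv.toMonoidHom_eq_coe, MonoidHom.coe_coe] at this
      rw [this, hφ, hπu]
    have ho : orderOf (wordG (c / 32) (π x) (π u)) = ordsO.getD (c / 32) 1 := by
      rw [hw, MulEquiv.orderOf_eq, base_orderO h hwK hcs x y hx hy _ hj]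
    have hiff := word_pow_iff h hwK hcs x y hx hy (c / 32) u r.1 hu (c % 32) he32
    have hdvd : wordG (c / 32) (π x) (π u) ^ (c % 32) = 1 ↔
        Nat.beq (c % 32 % ordsO.getD (c / 32) 1) 0 = true := by
      rw [← orderOf_dvd_iff_pow_eq_one, ho, Nat.dvd_iff_mod_eq_zero]
      constructor
      · intro e
        rw [e]
        rfl
      · intro e
        exact Nat.eq_of_beq_eq_true e
    have hb : isScal (powK 5 (wordO (c / 32) r.1) (c % 32)) =
        Nat.beq (c % 32 % ordsO.getD (c / 32) 1) 0 := by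
      rw [Bool.eq_iff_iff, ← hiff, hdvd]
    rw [hb, Bool.xor_self] at hxor
    exact absurd hxor (by decide)
  · refine ⟨c % 32, ?_⟩
    have hrel := cjsO_ok _ he
    rw [← hk] at hrel
    have e1 : x ^ (c % 32) * y = u * x ^ (c % 32) := by
      apply elt_ext
      rw [elt_mul, elt_mul, x_pow h x hx _ (by omega), hy, hu, ← matOf_mul h, ← matOf_mul h, hrel]
    have e2 : u = x ^ (c % 32) * y * (x ^ (c % 32))⁻¹ := by
      rw [e1]
      group
    rw [← hπu, e2]
    simp only [map_mul, map_inv, map_pow]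

include h hgs hle3 hx hy in
/-- An automorphism fixing `x` and `y` is trivial. -/
theorem eq_one_of_fix (φ : MulAut (threeJ3 F ω ⧸ Subgroup.center (threeJ3 F ω)))
    (hφx : φ (π x) = π x) (hφy : φ (π y) = π y) : φ = 1 := by
  set xi := xqL.getD 18 oneK with hxi
  have hrx : Rep (threeJ3 F ω) ω xK := ⟨x, x.2, hx⟩
  have hry : Rep (threeJ3 F ω) ω ktK := ⟨y, y.2, hy⟩
  have hrxi : Rep (threeJ3 F ω) ω xi := ⟨(x ^ 18 : threeJ3 F ω), (x ^ 18).2, x_pow h x hx 18 le_rfl⟩
  set H := Subgroup.closure (unitsOf ω xK ktK xi) with hH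
  have hHle : H ≤ threeJ3 F ω := closure_unitsOf_le hrx hry hrxi
  have hgens : ∀ k ∈ [xK, ktK, xi], Rep H ω k := by
    intro k hk
    simp only [List.mem_cons, List.not_mem_nil, or_false] at hk
    rcases hk with rfl | rfl | rfl
    · exact rep_closure_unitsOf (Or.inl rfl) hrx
    · exact rep_closure_unitsOf (Or.inr (Or.inl rfl)) hry
    · exact rep_closure_unitsOf (Or.inr (Or.inr rfl)) hrxi
  have hD : Rep H ω kD := by
    have := rep_wKey h hgens wdO
    rw [wdO_ok] at this
    exact this
  have hB : Rep H ω kB := by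
    have := rep_wKey h hgens wbO
    rw [wbO_ok] at this
    exact this
  have hC : Rep H ω kC := by
    have : Rep H ω ktK := hgens ktK (by simp)
    rw [ktK_eq] at this
    exact this
  have hge : threeJ3 F ω ≤ H := le_trans hle3 (closure_unitsOf_le hD hB hC)
  have key : ∀ g (hg : g ∈ H), φ (π ⟨g, hHle hg⟩) = π ⟨g, hHle hg⟩ := by
    intro g hg
    induction hg using Subgroup.closure_induction with
    | mem g hg =>
      rcases hg with e | e | e
      · have : (⟨g, hHle (Subgroup.subset_closure (Or.inl e))⟩ : threeJ3 F ω) = x :=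
          elt_ext (e.trans hx.symm)
        rw [this, hφx]
      · have : (⟨g, hHle (Subgroup.subset_closure (Or.inr (Or.inl e)))⟩ : threeJ3 F ω) = y :=
          elt_ext (e.trans hy.symm)
        rw [this, hφy]
      · have : (⟨g, hHle (Subgroup.subset_closure (Or.inr (Or.inr e)))⟩ : threeJ3 F ω) = x ^ 18 :=
          elt_ext (e.trans (x_pow h x hx 18 le_rfl).symm)
        rw [this, map_pow, map_pow, hφx]
    | one =>
      have : (⟨1, hHle H.one_mem⟩ : threeJ3 F ω) = 1 := rfl
      rw [this, map_one, map_one]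
    | mul a b ha hb iha ihb =>
      have : (⟨a * b, hHle (H.mul_mem ha hb)⟩ : threeJ3 F ω) =
          ⟨a, hHle ha⟩ * ⟨b, hHle hb⟩ := rfl
      rw [this, map_mul, map_mul, iha, ihb]
    | inv a ha iha =>
      have : (⟨a⁻¹, hHle (H.inv_mem ha)⟩ : threeJ3 F ω) = (⟨a, hHle ha⟩ : threeJ3 F ω)⁻¹ := rfl
      rw [this, map_inv, map_inv, iha]
  apply MulEquiv.ext
  intro s
  obtain ⟨g, rfl⟩ := QuotientGroup.mk'_surjective (Subgroup.center (threeJ3 F ω)) s
  rw [MulAut.one_apply]
  exact key g.1 (hge g.2)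

include h hgs hwK hcs hcen hcard hle3 hx hy in
/-- An automorphism fixing `x` is inner. -/
theorem inner_of_fix (φ : MulAut (threeJ3 F ω ⧸ Subgroup.center (threeJ3 F ω)))
    (hφ : φ (π x) = π x) : φ ∈ Cfsg.Inn (threeJ3 F ω ⧸ Subgroup.center (threeJ3 F ω)) := by
  obtain ⟨k, hk⟩ := row_sem h hgs hwK hcs hcen hcard x y hx hy φ hφ
  set φ2 : MulAut (threeJ3 F ω ⧸ Subgroup.center (threeJ3 F ω)) :=
    MulAut.conj (π x ^ k)⁻¹ * φ with hφ2
  have h2x : φ2 (π x) = π x := by
    rw [hφ2, MulAut.mul_apply, MulAut.conj_apply, hφ, inv_inv]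
    have : (π x ^ k)⁻¹ * π x * π x ^ k = (π x ^ k)⁻¹ * (π x * π x ^ k) := by group
    rw [this, ← pow_succ', pow_succ, ← mul_assoc, inv_mul_cancel, one_mul]
  have h2y : φ2 (π y) = π y := by
    rw [hφ2, MulAut.mul_apply, MulAut.conj_apply, hk]
    group
  have hid := eq_one_of_fix h hgs hle3 x y hx hy φ2 h2x h2y
  have hφe : φ = (MulAut.conj ((π x ^ k)⁻¹))⁻¹ := by
    apply eq_inv_of_mul_eq_one_right
    rw [← hφ2]
    exact hid
  rw [hφe]
  exact (Cfsg.Inn _).inv_mem ⟨_, rfl⟩

include h hgs hwK hcs hcen hcard hle3 hx hy hn in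
/-- With an automorphism that is not inner, the outer automorphism group has order 2. -/
theorem card_out_eq_two (α : MulAut (threeJ3 F ω ⧸ Subgroup.center (threeJ3 F ω)))
    (hα : α ∉ Cfsg.Inn (threeJ3 F ω ⧸ Subgroup.center (threeJ3 F ω))) :
    Nat.card (Cfsg.Out (threeJ3 F ω ⧸ Subgroup.center (threeJ3 F ω))) = 2 := by
  set J := threeJ3 F ω ⧸ Subgroup.center (threeJ3 F ω) with hJ
  -- a non-inner automorphism is, modulo inner ones, one inverting `x`
  have hcorr : ∀ β : MulAut J, β ∉ Cfsg.Inn J →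
      ∃ i ∈ Cfsg.Inn J, (i * β) (π x) = (π x)⁻¹ := by
    intro β hβ
    obtain ⟨c, hc⟩ := exists_conj_fix h hgs hcen hcard x y n hx hy hn β
    refine ⟨MulAut.conj c, ⟨c, rfl⟩, ?_⟩
    rw [MulAut.mul_apply, MulAut.conj_apply]
    rcases hc with hc | hc
    · exfalso
      apply hβ
      have hin := inner_of_fix h hgs hwK hcs hcen hcard hle3 x y hx hy (MulAut.conj c * β)
        (by rw [MulAut.mul_apply, MulAut.conj_apply]; exact hc)
      have : β = (MulAut.conj c)⁻¹ * (MulAut.conj c * β) := by group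
      rw [this]
      exact (Cfsg.Inn J).mul_mem ((Cfsg.Inn J).inv_mem ⟨c, rfl⟩) hin
    · exact hc
  have hprod : ∀ β γ : MulAut J, β ∉ Cfsg.Inn J → γ ∉ Cfsg.Inn J → β * γ ∈ Cfsg.Inn J := by
    intro β γ hβ hγ
    obtain ⟨i, hi, hiβ⟩ := hcorr β hβ
    obtain ⟨j, hj, hjγ⟩ := hcorr γ hγ
    have hfix : ((i * β) * (j * γ)) (π x) = π x := by
      rw [MulAut.mul_apply, hjγ, map_inv, hiβ, inv_inv]
    have hin := inner_of_fix h hgs hwK hcs hcen hcard hle3 x y hx hy _ hfix
    -- move the inner factors out using normality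
    have hn' : β * j * β⁻¹ ∈ Cfsg.Inn J := (Cfsg.innNormal J).conj_mem j hj β
    have e : β * γ = (β * j * β⁻¹)⁻¹ * i⁻¹ * ((i * β) * (j * γ)) := by group
    rw [e]
    exact (Cfsg.Inn J).mul_mem ((Cfsg.Inn J).mul_mem ((Cfsg.Inn J).inv_mem hn')
      ((Cfsg.Inn J).inv_mem hi)) hin
  show (Cfsg.Inn J).index = 2
  rw [Subgroup.index_eq_two_iff]
  refine ⟨α, fun β => ?_⟩
  by_cases hβ : β ∈ Cfsg.Inn J
  · right
    refine ⟨hβ, fun hc => hα ?_⟩
    have : α = β⁻¹ * (β * α) := by group
    rw [this]
    exact (Cfsg.Inn J).mul_mem ((Cfsg.Inn J).inv_mem hβ) hc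
  · left
    exact ⟨hprod β α hβ hα, hβ⟩

end main

end Cfsg.Agent.Lib.Helper77.J3
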