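import Cfsg.Agent.Lib.Helper77.J3FieldIso
import Cfsg.Agent.Lib.Helper77.J3Cen
import Cfsg.Prelude.Def_KGroupFacts

set_option autoImplicit false
set_option linter.style.haveILetI false
set_option linter.unusedSectionVars false

/-! An automorphism of J3 that is not inner: the entrywise Frobenius map of the field with four
elements followed by the permutation of the coordinates induced by the conjugation of the field
with nine elements maps the generators of the triple cover into the triple cover; it inverts the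
scalars, whereas an inner automorphism of the quotient lifts (the triple cover being perfect) to an
inner automorphism, which fixes them. -/

namespace Cfsg.Agent.Lib.Helper77.J3Aut

open Cfsg.Spor Matrix
open scoped MatrixGroups

variable {F : Type} [Field F]

/-- Conjugation on the index set. -/
def cj (z : F9) : F9 := (z.1, -z.2)

theorem cj_cj (z : F9) : cj (cj z) = z := by
  unfold cj
  simp

theorem cj_injective : Function.Injective cj := fun a b e => by
  have := congrArg cj e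
  rwa [cj_cj, cj_cj] at this

/-- Conjugation as a permutation. -/
def cjE : F9 ≃ F9 := ⟨cj, cj, cj_cj, cj_cj⟩

/-- The permutation of the coordinates as an automorphism of the general linear group. -/
noncomputable def rho : GL F9 F ≃* GL F9 F :=
  Units.mapEquiv (Matrix.reindexAlgEquiv F F cjE).toRingEquiv.toMulEquiv

theorem rho_val (g : GL F9 F) :
    ((rho g : GL F9 F) : Matrix F9 F9 F) = (g : Matrix F9 F9 F).submatrix cj cj := rfl

/-- The Frobenius map of a field with four elements. -/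
def frobE (h2 : ∀ x : F, x + x = 0) (h4 : ∀ x : F, x ^ 4 = x) : F ≃+* F where
  toFun x := x ^ 2
  invFun x := x ^ 2
  left_inv x := by
    show (x ^ 2) ^ 2 = x
    rw [← pow_mul]
    exact h4 x
  right_inv x := by
    show (x ^ 2) ^ 2 = x
    rw [← pow_mul]
    exact h4 x
  map_mul' x y := mul_pow x y 2
  map_add' x y := by
    have := h2 (x * y)
    linear_combination this

theorem frobE_apply (h2 : ∀ x : F, x + x = 0) (h4 : ∀ x : F, x ^ 4 = x) (x : F) :
    frobE h2 h4 x = x ^ 2 := rfl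

theorem cj_facts : ∀ Z z : F9, (cj z = 0 ↔ z = 0) ∧
    (F9.div Z (cj z) = F9.I - F9.one ↔ F9.div (cj Z) z = -F9.I - F9.one) ∧
    (F9.div Z (cj z) = -F9.I - F9.one ↔ F9.div (cj Z) z = F9.I - F9.one) := by decide

theorem I_ne : F9.I - F9.one ≠ -F9.I - F9.one := by decide

theorem cj_add : ∀ w z Z : F9, (cj w = cj z + Z) ↔ (w = z + cj Z) := by decide

theorem cj_mul : ∀ w z Z : F9, (cj w = F9.mul Z (cj z)) ↔ (w = F9.mul (cj Z) z) := by decide

theorem cj_C : ∀ w z Z : F9, (cj z = 0 ↔ z = 0) ∧ (cj w = 0 ↔ w = 0) ∧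
    ((cj w = -F9.div Z (cj z) ∨ cj w = F9.mul F9.I (F9.div Z (cj z)) ∨
      cj w = -F9.mul F9.I (F9.div Z (cj z))) ↔
    (w = -F9.div (cj Z) z ∨ w = F9.mul F9.I (F9.div (cj Z) z) ∨
      w = -F9.mul F9.I (F9.div (cj Z) z))) := by decide

theorem cj_ne_zero {Z : F9} (hZ : Z ≠ 0) : cj Z ≠ 0 := by
  intro e
  apply hZ
  have := congrArg cj e
  rw [cj_cj] at this
  rw [this]
  decide

section gens
variable (ω : F) (hω : ω ^ 3 = 1)
include hω

theorem omegaPow_sq (n : ZMod 3) : omegaPow F (ω ^ 2) n = omegaPow F ω (-n) := by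
  unfold omegaPow
  have h4 : ω ^ 4 = ω := by
    calc ω ^ 4 = ω ^ 3 * ω := by ring
      _ = ω := by rw [hω, one_mul]
  fin_cases n
  · show (ω ^ 2) ^ 0 = ω ^ 0
    rw [pow_zero, pow_zero]
  · show (ω ^ 2) ^ 1 = ω ^ 2
    ring
  · show (ω ^ 2) ^ 2 = ω ^ 1
    rw [← pow_mul, pow_one]
    exact h4

theorem omegaPow_sq_mul (n : ZMod 3) : omegaPow F (ω ^ 2) n * omegaPow F ω n = 1 := by
  unfold omegaPow
  rw [← pow_mul, ← pow_add, show 2 * n.val + n.val = 3 * n.val by ring, pow_mul, hω, one_pow]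

theorem sub_j3A (Z : F9) :
    (j3A F (ω ^ 2) Z).submatrix cj cj = j3A F ω (-Z.1, Z.2) := by
  ext w z
  simp only [j3A, Matrix.submatrix_apply, Matrix.diagonal_apply, cj_injective.eq_iff]
  split_ifs
  · rw [omegaPow_sq ω hω]
    congr 1
    simp only [cj]
    ring
  · rfl

theorem sub_j3E_mul (Z : F9) :
    (j3E F (ω ^ 2) Z).submatrix cj cj * j3E F ω (cj Z) = 1 := by
  unfold j3E
  rw [Matrix.submatrix_diagonal _ _ cj_injective, Matrix.diagonal_mul_diagonal]
  rw [← Matrix.diagonal_one]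
  congr 1
  ext z
  simp only [Function.comp]
  have e : (Z.1 - (cj z).1) ^ 2 + (Z.2 - (cj z).2) ^ 2 =
      ((cj Z).1 - z.1) ^ 2 + ((cj Z).2 - z.2) ^ 2 := by
    simp only [cj]
    ring
  rw [e]
  exact omegaPow_sq_mul ω hω _

theorem lam_cj (Z z : F9) : j3Lam F (ω ^ 2) Z (cj z) = j3Lam F ω (cj Z) z := by
  obtain ⟨h0, h1, h2⟩ := cj_facts Z z
  have h4 : (ω ^ 2) ^ 2 = ω := by
    calc (ω ^ 2) ^ 2 = ω ^ 3 * ω := by ring
      _ = ω := by rw [hω, one_mul]
  unfold j3Lam
  by_cases hz : z = 0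
  · rw [if_pos (h0.mpr hz), if_pos hz]
  · rw [if_neg (fun e => hz (h0.mp e)), if_neg hz]
    by_cases ha : F9.div Z (cj z) = F9.I - F9.one
    · have hb := h1.mp ha
      have hc : F9.div (cj Z) z ≠ F9.I - F9.one := by
        rw [hb]
        exact fun e => I_ne e.symm
      rw [if_pos ha, if_neg hc, if_pos hb]
    · have ha' : ¬ F9.div (cj Z) z = -F9.I - F9.one := fun e => ha (h1.mpr e)
      rw [if_neg ha]
      by_cases hb : F9.div Z (cj z) = -F9.I - F9.one
      · rw [if_pos hb, if_pos (h2.mp hb), h4]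
      · rw [if_neg hb, if_neg (fun e => hb (h2.mpr e)), if_neg ha']

theorem sub_j3D (Z : F9) : (j3D F (ω ^ 2) Z).submatrix cj cj = j3D F ω (cj Z) := by
  ext w z
  simp only [j3D, Matrix.submatrix_apply, Matrix.of_apply]
  by_cases hc : w = z + cj Z
  · rw [if_pos ((cj_add w z Z).mpr hc), if_pos hc, lam_cj ω hω]
  · rw [if_neg (fun e => hc ((cj_add w z Z).mp e)), if_neg hc]

omit hω in
theorem sub_j3B (Z : F9) : (j3B F Z).submatrix cj cj = j3B F (cj Z) := by
  ext w z
  simp only [j3B, Matrix.submatrix_apply, Matrix.of_apply]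
  by_cases hc : w = F9.mul (cj Z) z
  · rw [if_pos ((cj_mul w z Z).mpr hc), if_pos hc]
  · rw [if_neg (fun e => hc ((cj_mul w z Z).mp e)), if_neg hc]

omit hω in
theorem sub_j3C (Z : F9) : (j3C F Z).submatrix cj cj = j3C F (cj Z) := by
  ext w z
  obtain ⟨h0, h1, h2⟩ := cj_C w z Z
  simp only [j3C, Matrix.submatrix_apply, Matrix.of_apply]
  by_cases hz : z = 0
  · rw [if_pos (h0.mpr hz), if_pos hz]
    by_cases hw : w = 0
    · rw [if_pos (h1.mpr hw), if_pos hw]
    · rw [if_neg (fun e => hw (h1.mp e)), if_neg hw]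
  · rw [if_neg (fun e => hz (h0.mp e)), if_neg hz]
    by_cases hc : (w = -F9.div (cj Z) z ∨ w = F9.mul F9.I (F9.div (cj Z) z) ∨
        w = -F9.mul F9.I (F9.div (cj Z) z))
    · rw [if_pos (h2.mpr hc), if_pos hc]
    · rw [if_neg (fun e => hc (h2.mp e)), if_neg hc]

/-- The permutation of the coordinates maps the generators built on `ω ^ 2` into the group built
on `ω`. -/
theorem rho_gen_mem {g : GL F9 F} (hg : (g : Matrix F9 F9 F) ∈ j3Gens F (ω ^ 2)) :
    rho g ∈ threeJ3 F ω := by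
  unfold j3Gens at hg
  simp only [Set.mem_union, Set.mem_range, Set.mem_ofPred_eq] at hg
  have hsub : ∀ u : GL F9 F, (u : Matrix F9 F9 F) ∈ j3Gens F ω → u ∈ threeJ3 F ω :=
    fun u hu => Subgroup.subset_closure hu
  rcases hg with (((⟨Z, hZ⟩ | ⟨Z, hZ⟩) | ⟨Z, hZ⟩) | ⟨Z, hZ0, hZ⟩) | ⟨Z, hZ0, hZ⟩
  · apply hsub
    rw [rho_val, ← hZ, sub_j3A ω hω]
    exact Or.inl (Or.inl (Or.inl (Or.inl ⟨_, rfl⟩)))
  · have hmul : ((rho g : GL F9 F) : Matrix F9 F9 F) * j3E F ω (cj Z) = 1 := by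
      rw [rho_val, ← hZ]
      exact sub_j3E_mul ω hω Z
    have hinv : (((rho g)⁻¹ : GL F9 F) : Matrix F9 F9 F) = j3E F ω (cj Z) :=
      Units.inv_eq_of_mul_eq_one_right hmul
    have : (rho g)⁻¹ ∈ threeJ3 F ω := by
      apply hsub
      rw [hinv]
      exact Or.inl (Or.inl (Or.inl (Or.inr ⟨_, rfl⟩)))
    exact inv_inv (rho g) ▸ (threeJ3 F ω).inv_mem this
  · apply hsub
    rw [rho_val, ← hZ, sub_j3D ω hω]
    exact Or.inl (Or.inl (Or.inr ⟨_, rfl⟩))
  · apply hsub
    rw [rho_val, hZ, sub_j3B]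
    exact Or.inl (Or.inr ⟨_, cj_ne_zero hZ0, rfl⟩)
  · apply hsub
    rw [rho_val, hZ, sub_j3C]
    exact Or.inr ⟨_, cj_ne_zero hZ0, rfl⟩

theorem map_rho_le : (threeJ3 F (ω ^ 2)).map (rho (F := F)).toMonoidHom ≤ threeJ3 F ω := by
  rw [Subgroup.map_le_iff_le_comap]
  unfold threeJ3
  rw [Subgroup.closure_le]
  intro g hg
  exact rho_gen_mem ω hω hg

end gens

section aut
variable [Finite F] {ω : F} (σ : F ≃+* F) (hσ : σ ω = ω ^ 2) (hω : ω ^ 3 = 1)

/-- The Frobenius map followed by the permutation of the coordinates, on the general linear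
group. -/
noncomputable def alphaGL (σ : F ≃+* F) : GL F9 F ≃* GL F9 F :=
  (Cfsg.Agent.Lib.Helper77.J3Iso.glEquiv σ).trans rho

theorem alphaGL_val (g : GL F9 F) :
    ((alphaGL σ g : GL F9 F) : Matrix F9 F9 F) = ((g : Matrix F9 F9 F).map σ).submatrix cj cj :=
  rfl

include hσ hω in
theorem map_alpha : (threeJ3 F ω).map (alphaGL σ).toMonoidHom = threeJ3 F ω := by
  have h1 : (threeJ3 F ω).map (alphaGL σ).toMonoidHom =
      ((threeJ3 F ω).map (Cfsg.Agent.Lib.Helper77.J3Iso.glEquiv σ).toMonoidHom).map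
        (rho (F := F)).toMonoidHom := by
    rw [Subgroup.map_map]
    rfl
  rw [Cfsg.Agent.Lib.Helper77.J3Iso.map_threeJ3, hσ] at h1
  have hle : (threeJ3 F ω).map (alphaGL σ).toMonoidHom ≤ threeJ3 F ω := by
    rw [h1]
    exact map_rho_le ω hω
  apply Subgroup.eq_of_le_of_card_ge hle
  rw [Subgroup.card_map_of_injective (alphaGL σ).injective]

/-- The automorphism of the triple cover. -/
noncomputable def alphaΓ : threeJ3 F ω ≃* threeJ3 F ω :=
  ((alphaGL σ).subgroupMap (threeJ3 F ω)).trans (MulEquiv.subgroupCongr (map_alpha σ hσ hω))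

theorem alphaΓ_val (v : threeJ3 F ω) :
    (((alphaΓ σ hσ hω v : threeJ3 F ω) : GL F9 F) : Matrix F9 F9 F) =
      (((v : GL F9 F) : Matrix F9 F9 F).map σ).submatrix cj cj := rfl

/-- The automorphism of the quotient. -/
noncomputable def alphaJ : MulAut (threeJ3 F ω ⧸ Subgroup.center (threeJ3 F ω)) :=
  QuotientGroup.congr _ _ (alphaΓ σ hσ hω)
    (Cfsg.Agent.Lib.Helper93.center_map_mulEquiv (alphaΓ σ hσ hω))

theorem alphaJ_mk (v : threeJ3 F ω) :
    alphaJ σ hσ hω (QuotientGroup.mk' (Subgroup.center (threeJ3 F ω)) v) =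
      QuotientGroup.mk' (Subgroup.center (threeJ3 F ω)) (alphaΓ σ hσ hω v) := rfl

/-- The automorphism of the quotient is not inner. -/
theorem alphaJ_not_inner (hperf : commutator (threeJ3 F ω) = ⊤) (z0 : threeJ3 F ω)
    (hz0 : ((z0 : GL F9 F) : Matrix F9 F9 F) = ω • (1 : Matrix F9 F9 F)) (hne : ω ^ 2 ≠ ω) :
    alphaJ σ hσ hω ∉ Cfsg.Inn (threeJ3 F ω ⧸ Subgroup.center (threeJ3 F ω)) := by
  rintro ⟨gbar, hg⟩
  obtain ⟨g, rfl⟩ := QuotientGroup.mk'_surjective (Subgroup.center (threeJ3 F ω)) gbar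
  set π := QuotientGroup.mk' (Subgroup.center (threeJ3 F ω)) with hπ
  have key : ∀ v : threeJ3 F ω,
      (g * v * g⁻¹)⁻¹ * alphaΓ σ hσ hω v ∈ Subgroup.center (threeJ3 F ω) := by
    intro v
    have e := congrArg (fun f => f (π v)) hg
    simp only [MulAut.conj_apply] at e
    rw [alphaJ_mk, ← map_inv, ← map_mul, ← map_mul, hπ, QuotientGroup.mk'_apply,
      QuotientGroup.mk'_apply, QuotientGroup.eq] at e
    exact e
  letI : CommGroup (Subgroup.center (threeJ3 F ω)) :=
    { (inferInstance : Group (Subgroup.center (threeJ3 F ω))) with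
      mul_comm := fun a b => Subtype.ext (Subgroup.mem_center_iff.mp b.2 a.1) }
  let ζ : threeJ3 F ω →* Subgroup.center (threeJ3 F ω) :=
    MonoidHom.mk' (fun v => ⟨_, key v⟩) (by
      intro v w
      apply Subtype.ext
      show (g * (v * w) * g⁻¹)⁻¹ * alphaΓ σ hσ hω (v * w) =
        (g * v * g⁻¹)⁻¹ * alphaΓ σ hσ hω v * ((g * w * g⁻¹)⁻¹ * alphaΓ σ hσ hω w)
      have hc := Subgroup.mem_center_iff.mp (key v) ((g * w * g⁻¹)⁻¹)
      rw [map_mul]
      calc (g * (v * w) * g⁻¹)⁻¹ * (alphaΓ σ hσ hω v * alphaΓ σ hσ hω w)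
          = (g * w * g⁻¹)⁻¹ * ((g * v * g⁻¹)⁻¹ * alphaΓ σ hσ hω v) * alphaΓ σ hσ hω w := by group
        _ = (g * v * g⁻¹)⁻¹ * alphaΓ σ hσ hω v * (g * w * g⁻¹)⁻¹ * alphaΓ σ hσ hω w := by rw [hc]
        _ = _ := by group)
  have hker := Abelianization.commutator_subset_ker (A := Subgroup.center (threeJ3 F ω)) ζ
  rw [hperf] at hker
  have h1 : ζ z0 = 1 := by
    have := hker (Subgroup.mem_top z0)
    rwa [MonoidHom.mem_ker] at this
  have h2 : (g * z0 * g⁻¹)⁻¹ * alphaΓ σ hσ hω z0 = 1 := congrArg Subtype.val h1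
  have hz0c : g * z0 = z0 * g := by
    apply Subtype.ext
    apply Units.ext
    show ((g : GL F9 F) : Matrix F9 F9 F) * ((z0 : GL F9 F) : Matrix F9 F9 F) =
      ((z0 : GL F9 F) : Matrix F9 F9 F) * ((g : GL F9 F) : Matrix F9 F9 F)
    rw [hz0, Matrix.mul_smul, Matrix.smul_mul, Matrix.mul_one, Matrix.one_mul]
  have h3 : alphaΓ σ hσ hω z0 = z0 := by
    have : g * z0 * g⁻¹ = z0 := by rw [hz0c]; group
    rw [this] at h2
    exact (inv_mul_eq_one.mp h2).symm
  have h4 := congrArg (fun v : threeJ3 F ω => ((v : GL F9 F) : Matrix F9 F9 F) 0 0) h3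
  simp only [alphaΓ_val, hz0, Matrix.submatrix_apply, Matrix.map_apply, Matrix.smul_apply,
    Matrix.one_apply, if_true, smul_eq_mul, mul_one, hσ] at h4
  exact hne h4

end aut

/-- Isomorphic groups have outer automorphism groups of the same order. -/
theorem card_out_congr {G : Type*} {H : Type*} [Group G] [Group H] (e : G ≃* H) :
    Nat.card (Cfsg.Out G) = Nat.card (Cfsg.Out H) := by
  have hmap : (Cfsg.Inn G).map (MulAut.congr e).toMonoidHom = Cfsg.Inn H := by
    ext ψ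
    constructor
    · rintro ⟨φ, ⟨g, rfl⟩, rfl⟩
      refine ⟨e g, ?_⟩
      apply MulEquiv.ext
      intro x
      show e g * x * (e g)⁻¹ = e (g * e.symm x * g⁻¹)
      rw [map_mul, map_mul, map_inv, MulEquiv.apply_symm_apply]
    · rintro ⟨k, rfl⟩
      refine ⟨MulAut.conj (e.symm k), ⟨_, rfl⟩, ?_⟩
      apply MulEquiv.ext
      intro x
      show e (e.symm k * e.symm x * (e.symm k)⁻¹) = k * x * k⁻¹
      rw [map_mul, map_mul, map_inv, MulEquiv.apply_symm_apply, MulEquiv.apply_symm_apply]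
  exact Nat.card_congr (QuotientGroup.congr _ _ (MulAut.congr e) hmap).toEquiv

end Cfsg.Agent.Lib.Helper77.J3Aut
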