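import Mathlib

set_option autoImplicit false

/-! The relators (acting order) of a presentation of `J3` on four involutions (found by helper25). -/

namespace Cfsg.Agent.Lib.Helper77.SchurWords

def wAB : List Nat := [1, 0, 1, 0, 1, 0, 1, 0, 1, 0, 1, 0, 1, 0, 1, 0, 1, 0, 1, 0, 1, 0, 1, 0, 1, 0, 1, 0, 1, 0, 1, 0, 1, 0]
def wAC : List Nat := [2, 0, 2, 0, 2, 0, 2, 0, 2, 0, 2, 0, 2, 0, 2, 0, 2, 0, 2, 0]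
def wAD : List Nat := [3, 0, 3, 0, 3, 0, 3, 0, 3, 0, 3, 0, 3, 0, 3, 0, 3, 0, 3, 0]
def wBC : List Nat := [2, 1, 2, 1, 2, 1, 2, 1]
def wBD : List Nat := [3, 1, 3, 1, 3, 1, 3, 1, 3, 1, 3, 1, 3, 1, 3, 1, 3, 1, 3, 1, 3, 1, 3, 1]
def wCD : List Nat := [3, 2, 3, 2, 3, 2, 3, 2, 3, 2, 3, 2, 3, 2, 3, 2, 3, 2, 3, 2, 3, 2, 3, 2, 3, 2, 3, 2, 3, 2]
def wE1 : List Nat := [0, 2, 1, 2, 0, 2, 1, 2, 0, 2, 1, 2]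
def wE2 : List Nat := [0, 1, 2, 1, 0, 2, 0, 1, 2, 1, 0, 2]
def wE3 : List Nat := [0, 1, 0, 2, 0, 1, 2, 0, 1, 0, 2, 0, 1, 2, 0, 1, 0, 2, 0, 1, 2]
def wE4 : List Nat := [3, 1, 0, 2, 1, 0, 2, 3, 1, 0, 2, 1, 0, 2]
def wE5 : List Nat := [3, 0, 1, 2, 3, 2, 1, 0, 3, 1, 0, 1, 0, 1, 2, 0, 1, 0, 1, 0, 2, 1, 0, 1, 0, 1]
def wE6 : List Nat := [3, 0, 3, 0, 3, 0, 3, 0, 3, 1, 0, 1, 0, 1, 2, 1, 0, 1, 0, 1]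
def wE7 : List Nat := [3, 0, 2, 1, 3, 1, 3, 2, 0, 2, 1, 3, 2, 0, 1, 0, 2, 1, 0, 1, 0, 2, 1, 0, 1]
def wE8 : List Nat := [3, 1, 0, 1, 3, 2, 0, 1, 2, 1, 3, 2, 0, 1, 2, 0, 2, 1, 0, 2]
def wE9 : List Nat := [3, 2, 1, 0, 1, 3, 1, 0, 1, 2, 3, 0, 1, 2, 0, 2, 1, 0]
def wE10 : List Nat := [3, 2, 1, 0, 3, 2, 3, 0, 1, 2, 3, 0, 1, 2, 0, 1, 2, 0, 2, 1, 0, 2, 1, 0]

def sq (x : Nat) : List Nat := [x, x]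

/-- All relators. -/
def allRelW : List (List Nat) :=
  [sq 0, sq 1, sq 2, sq 3, wAB, wAC, wAD, wBC, wBD, wCD, wE1, wE2, wE3, wE4, wE5, wE6, wE7, wE8, wE9, wE10]

end Cfsg.Agent.Lib.Helper77.SchurWords
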