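import Cfsg.Agent.Lib.Helper77.J3Out
import Cfsg.Agent.Lib.Helper77.J3SchurWords

set_option autoImplicit false
set_option maxRecDepth 1000000

/-! Four involutions of the triple cover of `J3` satisfying (modulo scalars) the relators of the
presentation, words for the generators in them, and three commuting involutions. -/

namespace Cfsg.Agent.Lib.Helper77.J3

open Cfsg.Agent.Lib.Helper77.SchurWords

def saK : ℕ := 8920333468782952511844587989092215563328421889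
def saW : List ℕ := [2]
def sbK : ℕ := 297094501722164585545349874183121191150960596207
def sbW : List ℕ := [1, 0, 2, 1, 0, 1, 1, 0, 1, 2, 0, 0, 1, 1, 1, 1, 1, 0, 0, 1, 1, 0, 0, 1, 0, 1, 1, 1, 1, 1, 0, 0, 1, 1, 0, 0, 1, 0, 1, 2, 1, 1, 1, 1, 1, 0, 0, 1, 1, 0, 0, 1, 0, 1, 2, 1, 1, 1, 1, 1, 0, 0, 1, 1, 0, 0, 1, 0, 1]
def scK : ℕ := 142506322655015761231392614507333379626647482436
def scW : List ℕ := [1, 2, 0, 2, 0, 2, 1, 1, 0, 1, 1, 2, 0, 1, 1, 1, 1, 1, 0, 0, 1, 1, 0, 0, 1, 0, 2, 1, 1, 1, 1, 1, 1, 0, 0, 1, 1, 0, 0, 1, 0, 1, 1, 1, 1, 1, 0, 0, 1, 1, 0, 0, 1, 0, 2, 1, 1, 1, 1, 1, 0, 0, 1, 1, 0, 0, 1, 0]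
def sdK : ℕ := 2372213154349181445485673636755478483094017617124
def sdW : List ℕ := [0, 0, 0, 2, 1, 0, 0, 0, 0, 2, 1, 0, 0, 2, 1, 1, 1, 1, 1, 0, 0, 1, 1, 0, 0, 1, 0, 1, 1, 1, 1, 1, 1, 0, 0, 1, 1, 0, 0, 1, 0, 1, 1, 1, 1, 1, 0, 0, 1, 1, 0, 0, 1, 0, 1, 1, 2, 1, 1, 1, 1, 1, 0, 0, 1, 1, 0, 0, 1, 0, 1, 1]
def sv1K : ℕ := 114717911945088318657954785400871559864393702473
def sv1W : List ℕ := [1, 0, 0, 0, 0, 0, 2, 0, 2, 0, 0, 1, 1, 1, 1, 1, 1, 0, 0, 1, 1, 0, 0, 1, 0, 1, 1, 1, 1, 1, 1, 1, 0, 0, 1, 1, 0, 0, 1, 0, 1, 1, 1, 1, 1, 0, 0, 1, 1, 0, 0, 1, 0]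
def sv2K : ℕ := 170467280315306038381764108314893028404877069391
def sv2W : List ℕ := [0, 0, 1, 1, 0, 2, 1, 0, 2, 0, 0, 1, 1, 1, 1, 1, 0, 0, 1, 1, 0, 0, 1, 0, 1, 1, 1, 1, 1, 1, 0, 0, 1, 1, 0, 0, 1, 0, 1, 1, 1, 1, 1, 1, 0, 0, 1, 1, 0, 0, 1, 0, 2, 1, 1, 1]

/-- The four generators. -/
def sgK : List ℕ := [saK, sbK, scK, sdK]

def sdG : List ℕ := [1, 0, 1, 2, 0, 1, 0, 1, 2, 0, 1, 0, 2, 3, 1, 2, 0, 2, 3, 1, 3, 1, 2, 0, 3, 1, 0, 1, 2, 0, 1, 0, 1, 2, 0, 1, 0, 2, 3, 1, 2, 0, 2, 3, 1, 3, 1, 2, 0, 3, 1, 2, 0, 2, 0, 1, 2, 0, 3, 0, 2, 0, 3, 0, 2]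
def sbG : List ℕ := [1, 0, 1, 2, 0, 1, 0, 1, 2, 0, 1, 0, 2, 3, 1, 2, 0, 2, 3, 1, 3, 1, 2, 0, 3, 2, 0, 2, 0, 3, 2, 1, 0, 3, 2, 3, 2, 1, 3, 0, 1]

/-- The key of the value of a word in acting order. -/
def evK (gs : List ℕ) : List ℕ → ℕ
  | [] => oneK
  | x :: a => mulKK (evK gs a) (gs.getD x oneK)

theorem sW_ok : wKey csK saW = saK ∧ wKey csK sbW = sbK ∧ wKey csK scW = scK ∧ wKey csK sdW = sdK ∧
    wKey csK sv1W = sv1K ∧ wKey csK sv2W = sv2K := by decide +kernel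

theorem sRel_ok : ∀ w ∈ allRelW, isScal (evK sgK w) = true := by decide +kernel

theorem sNe_ok : (∀ x < 4, isScal (sgK.getD x oneK) = false) ∧ isScal (mulKK saK sbK) = false := by
  decide +kernel

theorem sSq_ok : ∀ x < 4, isScal (mulKK (sgK.getD x oneK) (sgK.getD x oneK)) = true := by
  decide +kernel

theorem sv_lt : sv1K < 2 ^ 162 ∧ sv2K < 2 ^ 162 ∧ saK < 2 ^ 162 := by
  rw [← lim162_eq]
  decide +kernel

theorem sGen_ok : wKey sgK sdG = kD ∧ wKey sgK sbG = kB ∧ saK = kC := by decide +kernel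

theorem sE8_ok : mulKK saK saK = oneK ∧ mulKK sv1K sv1K = oneK ∧ mulKK sv2K sv2K = oneK ∧
    mulKK saK sv1K = mulKK sv1K saK ∧ mulKK saK sv2K = mulKK sv2K saK ∧
    mulKK sv1K sv2K = mulKK sv2K sv1K ∧
    isScal saK = false ∧ isScal sv1K = false ∧ isScal sv2K = false ∧
    isScal (mulKK saK sv1K) = false ∧ isScal (mulKK (mulKK saK sv1K) sv2K) = false ∧
    isScal (mulKK saK sv2K) = false ∧ isScal (mulKK sv1K sv2K) = false := by decide +kernel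

end Cfsg.Agent.Lib.Helper77.J3
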