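import Cfsg.Agent.Lib.Helper77.TCSH2T

set_option autoImplicit false
set_option maxRecDepth 1000000
set_option linter.unusedVariables false
set_option Elab.async false

namespace Cfsg.Agent.Lib.Helper77.TCS.H2

open Cfsg.Agent.Lib.Helper25.TC

theorem k_certp_280 : allR (ckCert C nF) 9 143360 = true := by decide +kernel
theorem k_certp_281 : allR (ckCert C nF) 9 143872 = true := by decide +kernel
theorem k_certp_282 : allR (ckCert C nF) 9 144384 = true := by decide +kernel
theorem k_certp_283 : allR (ckCert C nF) 9 144896 = true := by decide +kernel
theorem k_certp_284 : allR (ckCert C nF) 9 145408 = true := by decide +kernel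
theorem k_certp_285 : allR (ckCert C nF) 9 145920 = true := by decide +kernel
theorem k_certp_286 : allR (ckCert C nF) 9 146432 = true := by decide +kernel
theorem k_certp_287 : allR (ckCert C nF) 9 146944 = true := by decide +kernel
theorem k_certp_288 : allR (ckCert C nF) 9 147456 = true := by decide +kernel
theorem k_certp_289 : allR (ckCert C nF) 9 147968 = true := by decide +kernel
theorem k_certp_290 : allR (ckCert C nF) 9 148480 = true := by decide +kernel
theorem k_certp_291 : allR (ckCert C nF) 9 148992 = true := by decide +kernel
theorem k_certp_292 : allR (ckCert C nF) 9 149504 = true := by decide +kernel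
theorem k_certp_293 : allR (ckCert C nF) 9 150016 = true := by decide +kernel
theorem k_certp_294 : allR (ckCert C nF) 9 150528 = true := by decide +kernel
theorem k_certp_295 : allR (ckCert C nF) 9 151040 = true := by decide +kernel
theorem k_certp_296 : allR (ckCert C nF) 9 151552 = true := by decide +kernel
theorem k_certp_297 : allR (ckCert C nF) 9 152064 = true := by decide +kernel
theorem k_certp_298 : allR (ckCert C nF) 9 152576 = true := by decide +kernel
theorem k_certp_299 : allR (ckCert C nF) 9 153088 = true := by decide +kernel
theorem k_certp_300 : allR (ckCert C nF) 9 153600 = true := by decide +kernel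
theorem k_certp_301 : allR (ckCert C nF) 9 154112 = true := by decide +kernel
theorem k_certp_302 : allR (ckCert C nF) 9 154624 = true := by decide +kernel
theorem k_certp_303 : allR (ckCert C nF) 9 155136 = true := by decide +kernel
theorem k_certp_304 : allR (ckCert C nF) 9 155648 = true := by decide +kernel
theorem k_certp_305 : allR (ckCert C nF) 9 156160 = true := by decide +kernel
theorem k_certp_306 : allR (ckCert C nF) 9 156672 = true := by decide +kernel
theorem k_certp_307 : allR (ckCert C nF) 9 157184 = true := by decide +kernel

end Cfsg.Agent.Lib.Helper77.TCS.H2
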