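import Cfsg.Agent.Lib.Helper77.TCSH2T

set_option autoImplicit false
set_option maxRecDepth 1000000
set_option linter.unusedVariables false
set_option Elab.async false

namespace Cfsg.Agent.Lib.Helper77.TCS.H2

open Cfsg.Agent.Lib.Helper25.TC

theorem k_certp_308 : allR (ckCert C nF) 9 157696 = true := by decide +kernel
theorem k_certp_309 : allR (ckCert C nF) 9 158208 = true := by decide +kernel
theorem k_certp_310 : allR (ckCert C nF) 9 158720 = true := by decide +kernel
theorem k_certp_311 : allR (ckCert C nF) 9 159232 = true := by decide +kernel
theorem k_certp_312 : allR (ckCert C nF) 9 159744 = true := by decide +kernel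
theorem k_certp_313 : allR (ckCert C nF) 9 160256 = true := by decide +kernel
theorem k_certp_314 : allR (ckCert C nF) 9 160768 = true := by decide +kernel
theorem k_certp_315 : allR (ckCert C nF) 9 161280 = true := by decide +kernel
theorem k_certp_316 : allR (ckCert C nF) 9 161792 = true := by decide +kernel
theorem k_certp_317 : allR (ckCert C nF) 9 162304 = true := by decide +kernel
theorem k_certp_318 : allR (ckCert C nF) 9 162816 = true := by decide +kernel
theorem k_certp_319 : allR (ckCert C nF) 9 163328 = true := by decide +kernel
theorem k_certp_320 : allR (ckCert C nF) 9 163840 = true := by decide +kernel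
theorem k_certp_321 : allR (ckCert C nF) 9 164352 = true := by decide +kernel
theorem k_certp_322 : allR (ckCert C nF) 9 164864 = true := by decide +kernel
theorem k_certp_323 : allR (ckCert C nF) 9 165376 = true := by decide +kernel
theorem k_certp_324 : allR (ckCert C nF) 9 165888 = true := by decide +kernel
theorem k_certp_325 : allR (ckCert C nF) 9 166400 = true := by decide +kernel
theorem k_certp_326 : allR (ckCert C nF) 9 166912 = true := by decide +kernel
theorem k_certp_327 : allR (ckCert C nF) 9 167424 = true := by decide +kernel
theorem k_certp_328 : allR (ckCert C nF) 9 167936 = true := by decide +kernel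
theorem k_certp_329 : allR (ckCert C nF) 9 168448 = true := by decide +kernel
theorem k_certp_330 : allR (ckCert C nF) 9 168960 = true := by decide +kernel
theorem k_certp_331 : allR (ckCert C nF) 9 169472 = true := by decide +kernel
theorem k_certp_332 : allR (ckCert C nF) 9 169984 = true := by decide +kernel
theorem k_certp_333 : allR (ckCert C nF) 9 170496 = true := by decide +kernel
theorem k_certp_334 : allR (ckCert C nF) 9 171008 = true := by decide +kernel
theorem k_certp_335 : allR (ckCert C nF) 9 171520 = true := by decide +kernel

end Cfsg.Agent.Lib.Helper77.TCS.H2
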