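import Cfsg.Agent.Lib.Helper77.TCSH2T

set_option autoImplicit false
set_option maxRecDepth 1000000
set_option linter.unusedVariables false
set_option Elab.async false

namespace Cfsg.Agent.Lib.Helper77.TCS.H2

open Cfsg.Agent.Lib.Helper25.TC

theorem k_certp_336 : allR (ckCert C nF) 9 172032 = true := by decide +kernel
theorem k_certp_337 : allR (ckCert C nF) 9 172544 = true := by decide +kernel
theorem k_certp_338 : allR (ckCert C nF) 9 173056 = true := by decide +kernel
theorem k_certp_339 : allR (ckCert C nF) 9 173568 = true := by decide +kernel
theorem k_certp_340 : allR (ckCert C nF) 9 174080 = true := by decide +kernel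
theorem k_certp_341 : allR (ckCert C nF) 9 174592 = true := by decide +kernel
theorem k_certp_342 : allR (ckCert C nF) 9 175104 = true := by decide +kernel
theorem k_certp_343 : allR (ckCert C nF) 9 175616 = true := by decide +kernel
theorem k_certp_344 : allR (ckCert C nF) 9 176128 = true := by decide +kernel
theorem k_certp_345 : allR (ckCert C nF) 9 176640 = true := by decide +kernel
theorem k_certp_346 : allR (ckCert C nF) 9 177152 = true := by decide +kernel
theorem k_certp_347 : allR (ckCert C nF) 9 177664 = true := by decide +kernel
theorem k_certp_348 : allR (ckCert C nF) 9 178176 = true := by decide +kernel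
theorem k_certp_349 : allR (ckCert C nF) 9 178688 = true := by decide +kernel
theorem k_certp_350 : allR (ckCert C nF) 9 179200 = true := by decide +kernel
theorem k_certp_351 : allR (ckCert C nF) 9 179712 = true := by decide +kernel
theorem k_certp_352 : allR (ckCert C nF) 9 180224 = true := by decide +kernel
theorem k_certp_353 : allR (ckCert C nF) 9 180736 = true := by decide +kernel
theorem k_certp_354 : allR (ckCert C nF) 9 181248 = true := by decide +kernel
theorem k_certp_355 : allR (ckCert C nF) 9 181760 = true := by decide +kernel
theorem k_certp_356 : allR (ckCert C nF) 9 182272 = true := by decide +kernel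
theorem k_certp_357 : allR (ckCert C nF) 9 182784 = true := by decide +kernel
theorem k_certp_358 : allR (ckCert C nF) 9 183296 = true := by decide +kernel
theorem k_certp_359 : allR (ckCert C nF) 9 183808 = true := by decide +kernel
theorem k_certp_360 : allR (ckCert C nF) 9 184320 = true := by decide +kernel
theorem k_certp_361 : allR (ckCert C nF) 9 184832 = true := by decide +kernel
theorem k_certp_362 : allR (ckCert C nF) 9 185344 = true := by decide +kernel
theorem k_certp_363 : allR (ckCert C nF) 9 185856 = true := by decide +kernel

end Cfsg.Agent.Lib.Helper77.TCS.H2
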