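import Cfsg.Agent.Lib.Helper77.TCSH2T

set_option autoImplicit false
set_option maxRecDepth 1000000
set_option linter.unusedVariables false
set_option Elab.async false

namespace Cfsg.Agent.Lib.Helper77.TCS.H2

open Cfsg.Agent.Lib.Helper25.TC

theorem k_certp_392 : allR (ckCert C nF) 9 200704 = true := by decide +kernel
theorem k_certp_393 : allR (ckCert C nF) 9 201216 = true := by decide +kernel
theorem k_certp_394 : allR (ckCert C nF) 9 201728 = true := by decide +kernel
theorem k_certp_395 : allR (ckCert C nF) 9 202240 = true := by decide +kernel
theorem k_certp_396 : allR (ckCert C nF) 9 202752 = true := by decide +kernel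
theorem k_certp_397 : allR (ckCert C nF) 9 203264 = true := by decide +kernel
theorem k_certp_398 : allR (ckCert C nF) 9 203776 = true := by decide +kernel
theorem k_certp_399 : allR (ckCert C nF) 9 204288 = true := by decide +kernel
theorem k_certp_400 : allR (ckCert C nF) 9 204800 = true := by decide +kernel
theorem k_certp_401 : allR (ckCert C nF) 9 205312 = true := by decide +kernel
theorem k_certp_402 : allR (ckCert C nF) 9 205824 = true := by decide +kernel
theorem k_certp_403 : allR (ckCert C nF) 9 206336 = true := by decide +kernel
theorem k_certp_404 : allR (ckCert C nF) 9 206848 = true := by decide +kernel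
theorem k_certp_405 : allR (ckCert C nF) 9 207360 = true := by decide +kernel
theorem k_certp_406 : allR (ckCert C nF) 9 207872 = true := by decide +kernel
theorem k_certp_407 : allR (ckCert C nF) 9 208384 = true := by decide +kernel
theorem k_certp_408 : allR (ckCert C nF) 9 208896 = true := by decide +kernel
theorem k_certp_409 : allR (ckCert C nF) 9 209408 = true := by decide +kernel
theorem k_certp_410 : allR (ckCert C nF) 9 209920 = true := by decide +kernel
theorem k_certp_411 : allR (ckCert C nF) 9 210432 = true := by decide +kernel
theorem k_certp_412 : allR (ckCert C nF) 9 210944 = true := by decide +kernel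
theorem k_certp_413 : allR (ckCert C nF) 9 211456 = true := by decide +kernel
theorem k_certp_414 : allR (ckCert C nF) 9 211968 = true := by decide +kernel
theorem k_certp_415 : allR (ckCert C nF) 9 212480 = true := by decide +kernel
theorem k_certp_416 : allR (ckCert C nF) 9 212992 = true := by decide +kernel
theorem k_certp_417 : allR (ckCert C nF) 9 213504 = true := by decide +kernel
theorem k_certp_418 : allR (ckCert C nF) 9 214016 = true := by decide +kernel
theorem k_certp_419 : allR (ckCert C nF) 9 214528 = true := by decide +kernel

end Cfsg.Agent.Lib.Helper77.TCS.H2
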