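import Cfsg.Agent.Lib.Helper77.TCSH2T

set_option autoImplicit false
set_option maxRecDepth 1000000
set_option linter.unusedVariables false
set_option Elab.async false

namespace Cfsg.Agent.Lib.Helper77.TCS.H2

open Cfsg.Agent.Lib.Helper25.TC

theorem k_tblp_4 : allR (ckTbl 4 nn T) 10 4096 = true := by decide +kernel
theorem k_tblp_5 : allR (ckTbl 4 nn T) 10 5120 = true := by decide +kernel
theorem k_tblp_6 : allR (ckTbl 4 nn T) 10 6144 = true := by decide +kernel
theorem k_tblp_7 : allR (ckTbl 4 nn T) 10 7168 = true := by decide +kernel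

end Cfsg.Agent.Lib.Helper77.TCS.H2
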