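import Cfsg.Agent.Lib.Helper77.TCSH2T

set_option autoImplicit false
set_option maxRecDepth 1000000
set_option linter.unusedVariables false
set_option Elab.async false

namespace Cfsg.Agent.Lib.Helper77.TCS.H2

open Cfsg.Agent.Lib.Helper25.TC

theorem k_certp_84 : allR (ckCert C nF) 9 43008 = true := by decide +kernel
theorem k_certp_85 : allR (ckCert C nF) 9 43520 = true := by decide +kernel
theorem k_certp_86 : allR (ckCert C nF) 9 44032 = true := by decide +kernel
theorem k_certp_87 : allR (ckCert C nF) 9 44544 = true := by decide +kernel
theorem k_certp_88 : allR (ckCert C nF) 9 45056 = true := by decide +kernel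
theorem k_certp_89 : allR (ckCert C nF) 9 45568 = true := by decide +kernel
theorem k_certp_90 : allR (ckCert C nF) 9 46080 = true := by decide +kernel
theorem k_certp_91 : allR (ckCert C nF) 9 46592 = true := by decide +kernel
theorem k_certp_92 : allR (ckCert C nF) 9 47104 = true := by decide +kernel
theorem k_certp_93 : allR (ckCert C nF) 9 47616 = true := by decide +kernel
theorem k_certp_94 : allR (ckCert C nF) 9 48128 = true := by decide +kernel
theorem k_certp_95 : allR (ckCert C nF) 9 48640 = true := by decide +kernel
theorem k_certp_96 : allR (ckCert C nF) 9 49152 = true := by decide +kernel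
theorem k_certp_97 : allR (ckCert C nF) 9 49664 = true := by decide +kernel
theorem k_certp_98 : allR (ckCert C nF) 9 50176 = true := by decide +kernel
theorem k_certp_99 : allR (ckCert C nF) 9 50688 = true := by decide +kernel
theorem k_certp_100 : allR (ckCert C nF) 9 51200 = true := by decide +kernel
theorem k_certp_101 : allR (ckCert C nF) 9 51712 = true := by decide +kernel
theorem k_certp_102 : allR (ckCert C nF) 9 52224 = true := by decide +kernel
theorem k_certp_103 : allR (ckCert C nF) 9 52736 = true := by decide +kernel
theorem k_certp_104 : allR (ckCert C nF) 9 53248 = true := by decide +kernel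
theorem k_certp_105 : allR (ckCert C nF) 9 53760 = true := by decide +kernel
theorem k_certp_106 : allR (ckCert C nF) 9 54272 = true := by decide +kernel
theorem k_certp_107 : allR (ckCert C nF) 9 54784 = true := by decide +kernel
theorem k_certp_108 : allR (ckCert C nF) 9 55296 = true := by decide +kernel
theorem k_certp_109 : allR (ckCert C nF) 9 55808 = true := by decide +kernel
theorem k_certp_110 : allR (ckCert C nF) 9 56320 = true := by decide +kernel
theorem k_certp_111 : allR (ckCert C nF) 9 56832 = true := by decide +kernel

end Cfsg.Agent.Lib.Helper77.TCS.H2
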