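import Cfsg.Agent.Lib.Helper77.TCSH2T

set_option autoImplicit false
set_option maxRecDepth 1000000
set_option linter.unusedVariables false
set_option Elab.async false

namespace Cfsg.Agent.Lib.Helper77.TCS.H2

open Cfsg.Agent.Lib.Helper25.TC

theorem k_certp_196 : allR (ckCert C nF) 9 100352 = true := by decide +kernel
theorem k_certp_197 : allR (ckCert C nF) 9 100864 = true := by decide +kernel
theorem k_certp_198 : allR (ckCert C nF) 9 101376 = true := by decide +kernel
theorem k_certp_199 : allR (ckCert C nF) 9 101888 = true := by decide +kernel
theorem k_certp_200 : allR (ckCert C nF) 9 102400 = true := by decide +kernel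
theorem k_certp_201 : allR (ckCert C nF) 9 102912 = true := by decide +kernel
theorem k_certp_202 : allR (ckCert C nF) 9 103424 = true := by decide +kernel
theorem k_certp_203 : allR (ckCert C nF) 9 103936 = true := by decide +kernel
theorem k_certp_204 : allR (ckCert C nF) 9 104448 = true := by decide +kernel
theorem k_certp_205 : allR (ckCert C nF) 9 104960 = true := by decide +kernel
theorem k_certp_206 : allR (ckCert C nF) 9 105472 = true := by decide +kernel
theorem k_certp_207 : allR (ckCert C nF) 9 105984 = true := by decide +kernel
theorem k_certp_208 : allR (ckCert C nF) 9 106496 = true := by decide +kernel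
theorem k_certp_209 : allR (ckCert C nF) 9 107008 = true := by decide +kernel
theorem k_certp_210 : allR (ckCert C nF) 9 107520 = true := by decide +kernel
theorem k_certp_211 : allR (ckCert C nF) 9 108032 = true := by decide +kernel
theorem k_certp_212 : allR (ckCert C nF) 9 108544 = true := by decide +kernel
theorem k_certp_213 : allR (ckCert C nF) 9 109056 = true := by decide +kernel
theorem k_certp_214 : allR (ckCert C nF) 9 109568 = true := by decide +kernel
theorem k_certp_215 : allR (ckCert C nF) 9 110080 = true := by decide +kernel
theorem k_certp_216 : allR (ckCert C nF) 9 110592 = true := by decide +kernel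
theorem k_certp_217 : allR (ckCert C nF) 9 111104 = true := by decide +kernel
theorem k_certp_218 : allR (ckCert C nF) 9 111616 = true := by decide +kernel
theorem k_certp_219 : allR (ckCert C nF) 9 112128 = true := by decide +kernel
theorem k_certp_220 : allR (ckCert C nF) 9 112640 = true := by decide +kernel
theorem k_certp_221 : allR (ckCert C nF) 9 113152 = true := by decide +kernel
theorem k_certp_222 : allR (ckCert C nF) 9 113664 = true := by decide +kernel
theorem k_certp_223 : allR (ckCert C nF) 9 114176 = true := by decide +kernel

end Cfsg.Agent.Lib.Helper77.TCS.H2
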