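import Cfsg.Agent.Lib.Helper77.TCSH2P0
import Cfsg.Agent.Lib.Helper77.TCSH2P1
import Cfsg.Agent.Lib.Helper77.TCSH2P2
import Cfsg.Agent.Lib.Helper77.TCSH2P3
import Cfsg.Agent.Lib.Helper77.TCSH2P4
import Cfsg.Agent.Lib.Helper77.TCSH2P5
import Cfsg.Agent.Lib.Helper77.TCSH2P6
import Cfsg.Agent.Lib.Helper77.TCSH2P7
import Cfsg.Agent.Lib.Helper77.TCSH2P8
import Cfsg.Agent.Lib.Helper77.TCSH2P9
import Cfsg.Agent.Lib.Helper77.TCSH2P10
import Cfsg.Agent.Lib.Helper77.TCSH2P11
import Cfsg.Agent.Lib.Helper77.TCSH2P12
import Cfsg.Agent.Lib.Helper77.TCSH2P13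
import Cfsg.Agent.Lib.Helper77.TCSH2P14
import Cfsg.Agent.Lib.Helper77.TCSH2P15
import Cfsg.Agent.Lib.Helper77.TCSH2P16

set_option autoImplicit false
set_option maxRecDepth 1000000
set_option linter.unusedVariables false
set_option linter.unusedSimpArgs false

namespace Cfsg.Agent.Lib.Helper77.TCS.H2

open Cfsg.Agent.Lib.Helper25.TC Cfsg.Agent.Lib.Helper77.SchurTC

theorem k_cert : allR (ckCert C nF) 18 0 = true := (allR_join _ _ _ _ (by decide) (allR_join _ _ _ _ (by decide) (allR_join _ _ _ _ (by decide) (allR_join _ _ _ _ (by decide) (allR_join _ _ _ _ (by decide) (allR_join _ _ _ _ (by decide) (allR_join _ _ _ _ (by decide) (allR_join _ _ _ _ (by decide) (allR_join _ _ _ _ (by decide) k_certp_0 k_certp_1) (allR_join _ _ _ _ (by decide) k_certp_2 k_certp_3)) (allR_join _ _ _ _ (by decide) (allR_join _ _ _ _ (by decide) k_certp_4 k_certp_5) (allR_join _ _ _ _ (by decide) k_certp_6 k_certp_7))) (allR_join _ _ _ _ (by decide) (allR_join _ _ _ _ (by decide) (allR_join _ _ _ _ (by decide) k_certp_8 k_certp_9) (allR_join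 _ _ _ _ (by decide) k_certp_10 k_certp_11)) (allR_join _ _ _ _ (by decide) (allR_join _ _ _ _ (by decide) k_certp_12 k_certp_13) (allR_join _ _ _ _ (by decide) k_certp_14 k_certp_15)))) (allR_join _ _ _ _ (by decide) (allR_join _ _ _ _ (by decide) (allR_join _ _ _ _ (by decide) (allR_join _ _ _ _ (by decide) k_certp_16 k_certp_17) (allR_join _ _ _ _ (by decide) k_certp_18 k_certp_19)) (allR_join _ _ _ _ (by decide) (allR_join _ _ _ _ (by decide) k_certp_20 k_certp_21) (allR_join _ _ _ _ (by decide) k_certp_22 k_certp_23))) (allR_join _ _ _ _ (by decide) (allR_join _ _ _ _ (by decide) (allR_join _ _ _ _ (by decide) k_certp_24 k_certp_25) (allR_join _ _ _ _ (by decide) k_certp_26 k_certp_27)) (allR_join _ _ _ _ (by decide) (allR_join _ _ _ _ (by decide) k_certp_28 k_certp_29) (allR_join _ _ _ _ (by decide) k_certp_30 k_certp_31))))) (allR_join _ _ _ _ (by decide) (allR_join _ _ _ _ (by decide) (allR_join _ _ _ _ (by decide) (allR_join _ _ _ _ (by decide) (allR_join _ _ _ _ (by decide) k_certp_32 k_certp_33) (allR_join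 _ _ _ _ (by decide) k_certp_34 k_certp_35)) (allR_join _ _ _ _ (by decide) (allR_join _ _ _ _ (by decide) k_certp_36 k_certp_37) (allR_join _ _ _ _ (by decide) k_certp_38 k_certp_39))) (allR_join _ _ _ _ (by decide) (allR_join _ _ _ _ (by decide) (allR_join _ _ _ _ (by decide) k_certp_40 k_certp_41) (allR_join _ _ _ _ (by decide) k_certp_42 k_certp_43)) (allR_join _ _ _ _ (by decide) (allR_join _ _ _ _ (by decide) k_certp_44 k_certp_45) (allR_join _ _ _ _ (by decide) k_certp_46 k_certp_47)))) (allR_join _ _ _ _ (by decide) (allR_join _ _ _ _ (by decide) (allR_join _ _ _ _ (by decide) (allR_join _ _ _ _ (by decide) k_certp_48 k_certp_49) (allR_join _ _ _ _ (by decide) k_certp_50 k_certp_51)) (allR_join _ _ _ _ (by decide) (allR_join _ _ _ _ (by decide) k_certp_52 k_certp_53) (allR_join _ _ _ _ (by decide) k_certp_54 k_certp_55))) (allR_join _ _ _ _ (by decide) (allR_join _ _ _ _ (by decide) (allR_join _ _ _ _ (by decide) k_certp_56 k_certp_57) (allR_join _ _ _ _ (by decide) k_certp_58 k_certp_59)) (allR_join _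 _ _ _ (by decide) (allR_join _ _ _ _ (by decide) k_certp_60 k_certp_61) (allR_join _ _ _ _ (by decide) k_certp_62 k_certp_63)))))) (allR_join _ _ _ _ (by decide) (allR_join _ _ _ _ (by decide) (allR_join _ _ _ _ (by decide) (allR_join _ _ _ _ (by decide) (allR_join _ _ _ _ (by decide) (allR_join _ _ _ _ (by decide) k_certp_64 k_certp_65) (allR_join _ _ _ _ (by decide) k_certp_66 k_certp_67)) (allR_join _ _ _ _ (by decide) (allR_join _ _ _ _ (by decide) k_certp_68 k_certp_69) (allR_join _ _ _ _ (by decide) k_certp_70 k_certp_71))) (allR_join _ _ _ _ (by decide) (allR_join _ _ _ _ (by decide) (allR_join _ _ _ _ (by decide) k_certp_72 k_certp_73) (allR_join _ _ _ _ (by decide) k_certp_74 k_certp_75)) (allR_join _ _ _ _ (by decide) (allR_join _ _ _ _ (by decide) k_certp_76 k_certp_77) (allR_join _ _ _ _ (by decide) k_certp_78 k_certp_79)))) (allR_join _ _ _ _ (by decide) (allR_join _ _ _ _ (by decide) (allR_join _ _ _ _ (by decide) (allR_join _ _ _ _ (by decide) k_certp_80 k_certp_81) (allR_join _ _ _ _ (by decide)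 k_certp_82 k_certp_83)) (allR_join _ _ _ _ (by decide) (allR_join _ _ _ _ (by decide) k_certp_84 k_certp_85) (allR_join _ _ _ _ (by decide) k_certp_86 k_certp_87))) (allR_join _ _ _ _ (by decide) (allR_join _ _ _ _ (by decide) (allR_join _ _ _ _ (by decide) k_certp_88 k_certp_89) (allR_join _ _ _ _ (by decide) k_certp_90 k_certp_91)) (allR_join _ _ _ _ (by decide) (allR_join _ _ _ _ (by decide) k_certp_92 k_certp_93) (allR_join _ _ _ _ (by decide) k_certp_94 k_certp_95))))) (allR_join _ _ _ _ (by decide) (allR_join _ _ _ _ (by decide) (allR_join _ _ _ _ (by decide) (allR_join _ _ _ _ (by decide) (allR_join _ _ _ _ (by decide) k_certp_96 k_certp_97) (allR_join _ _ _ _ (by decide) k_certp_98 k_certp_99)) (allR_join _ _ _ _ (by decide) (allR_join _ _ _ _ (by decide) k_certp_100 k_certp_101) (allR_join _ _ _ _ (by decide) k_certp_102 k_certp_103))) (allR_join _ _ _ _ (by decide) (allR_join _ _ _ _ (by decide) (allR_join _ _ _ _ (by decide) k_certp_104 k_certp_105) (allR_join _ _ _ _ (by decide) k_certp_106 k_certp_107))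 (allR_join _ _ _ _ (by decide) (allR_join _ _ _ _ (by decide) k_certp_108 k_certp_109) (allR_join _ _ _ _ (by decide) k_certp_110 k_certp_111)))) (allR_join _ _ _ _ (by decide) (allR_join _ _ _ _ (by decide) (allR_join _ _ _ _ (by decide) (allR_join _ _ _ _ (by decide) k_certp_112 k_certp_113) (allR_join _ _ _ _ (by decide) k_certp_114 k_certp_115)) (allR_join _ _ _ _ (by decide) (allR_join _ _ _ _ (by decide) k_certp_116 k_certp_117) (allR_join _ _ _ _ (by decide) k_certp_118 k_certp_119))) (allR_join _ _ _ _ (by decide) (allR_join _ _ _ _ (by decide) (allR_join _ _ _ _ (by decide) k_certp_120 k_certp_121) (allR_join _ _ _ _ (by decide) k_certp_122 k_certp_123)) (allR_join _ _ _ _ (by decide) (allR_join _ _ _ _ (by decide) k_certp_124 k_certp_125) (allR_join _ _ _ _ (by decide) k_certp_126 k_certp_127))))))) (allR_join _ _ _ _ (by decide) (allR_join _ _ _ _ (by decide) (allR_join _ _ _ _ (by decide) (allR_join _ _ _ _ (by decide) (allR_join _ _ _ _ (by decide) (allR_join _ _ _ _ (by decide) (allR_join _ _ _ _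 (by decide) k_certp_128 k_certp_129) (allR_join _ _ _ _ (by decide) k_certp_130 k_certp_131)) (allR_join _ _ _ _ (by decide) (allR_join _ _ _ _ (by decide) k_certp_132 k_certp_133) (allR_join _ _ _ _ (by decide) k_certp_134 k_certp_135))) (allR_join _ _ _ _ (by decide) (allR_join _ _ _ _ (by decide) (allR_join _ _ _ _ (by decide) k_certp_136 k_certp_137) (allR_join _ _ _ _ (by decide) k_certp_138 k_certp_139)) (allR_join _ _ _ _ (by decide) (allR_join _ _ _ _ (by decide) k_certp_140 k_certp_141) (allR_join _ _ _ _ (by decide) k_certp_142 k_certp_143)))) (allR_join _ _ _ _ (by decide) (allR_join _ _ _ _ (by decide) (allR_join _ _ _ _ (by decide) (allR_join _ _ _ _ (by decide) k_certp_144 k_certp_145) (allR_join _ _ _ _ (by decide) k_certp_146 k_certp_147)) (allR_join _ _ _ _ (by decide) (allR_join _ _ _ _ (by decide) k_certp_148 k_certp_149) (allR_join _ _ _ _ (by decide) k_certp_150 k_certp_151))) (allR_join _ _ _ _ (by decide) (allR_join _ _ _ _ (by decide) (allR_join _ _ _ _ (by decide) k_certp_152 k_certp_153)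 (allR_join _ _ _ _ (by decide) k_certp_154 k_certp_155)) (allR_join _ _ _ _ (by decide) (allR_join _ _ _ _ (by decide) k_certp_156 k_certp_157) (allR_join _ _ _ _ (by decide) k_certp_158 k_certp_159))))) (allR_join _ _ _ _ (by decide) (allR_join _ _ _ _ (by decide) (allR_join _ _ _ _ (by decide) (allR_join _ _ _ _ (by decide) (allR_join _ _ _ _ (by decide) k_certp_160 k_certp_161) (allR_join _ _ _ _ (by decide) k_certp_162 k_certp_163)) (allR_join _ _ _ _ (by decide) (allR_join _ _ _ _ (by decide) k_certp_164 k_certp_165) (allR_join _ _ _ _ (by decide) k_certp_166 k_certp_167))) (allR_join _ _ _ _ (by decide) (allR_join _ _ _ _ (by decide) (allR_join _ _ _ _ (by decide) k_certp_168 k_certp_169) (allR_join _ _ _ _ (by decide) k_certp_170 k_certp_171)) (allR_join _ _ _ _ (by decide) (allR_join _ _ _ _ (by decide) k_certp_172 k_certp_173) (allR_join _ _ _ _ (by decide) k_certp_174 k_certp_175)))) (allR_join _ _ _ _ (by decide) (allR_join _ _ _ _ (by decide) (allR_join _ _ _ _ (by decide) (allR_join _ _ _ _ (by decide)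 k_certp_176 k_certp_177) (allR_join _ _ _ _ (by decide) k_certp_178 k_certp_179)) (allR_join _ _ _ _ (by decide) (allR_join _ _ _ _ (by decide) k_certp_180 k_certp_181) (allR_join _ _ _ _ (by decide) k_certp_182 k_certp_183))) (allR_join _ _ _ _ (by decide) (allR_join _ _ _ _ (by decide) (allR_join _ _ _ _ (by decide) k_certp_184 k_certp_185) (allR_join _ _ _ _ (by decide) k_certp_186 k_certp_187)) (allR_join _ _ _ _ (by decide) (allR_join _ _ _ _ (by decide) k_certp_188 k_certp_189) (allR_join _ _ _ _ (by decide) k_certp_190 k_certp_191)))))) (allR_join _ _ _ _ (by decide) (allR_join _ _ _ _ (by decide) (allR_join _ _ _ _ (by decide) (allR_join _ _ _ _ (by decide) (allR_join _ _ _ _ (by decide) (allR_join _ _ _ _ (by decide) k_certp_192 k_certp_193) (allR_join _ _ _ _ (by decide) k_certp_194 k_certp_195)) (allR_join _ _ _ _ (by decide) (allR_join _ _ _ _ (by decide) k_certp_196 k_certp_197) (allR_join _ _ _ _ (by decide) k_certp_198 k_certp_199))) (allR_join _ _ _ _ (by decide) (allR_join _ _ _ _ (by decide)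 (allR_join _ _ _ _ (by decide) k_certp_200 k_certp_201) (allR_join _ _ _ _ (by decide) k_certp_202 k_certp_203)) (allR_join _ _ _ _ (by decide) (allR_join _ _ _ _ (by decide) k_certp_204 k_certp_205) (allR_join _ _ _ _ (by decide) k_certp_206 k_certp_207)))) (allR_join _ _ _ _ (by decide) (allR_join _ _ _ _ (by decide) (allR_join _ _ _ _ (by decide) (allR_join _ _ _ _ (by decide) k_certp_208 k_certp_209) (allR_join _ _ _ _ (by decide) k_certp_210 k_certp_211)) (allR_join _ _ _ _ (by decide) (allR_join _ _ _ _ (by decide) k_certp_212 k_certp_213) (allR_join _ _ _ _ (by decide) k_certp_214 k_certp_215))) (allR_join _ _ _ _ (by decide) (allR_join _ _ _ _ (by decide) (allR_join _ _ _ _ (by decide) k_certp_216 k_certp_217) (allR_join _ _ _ _ (by decide) k_certp_218 k_certp_219)) (allR_join _ _ _ _ (by decide) (allR_join _ _ _ _ (by decide) k_certp_220 k_certp_221) (allR_join _ _ _ _ (by decide) k_certp_222 k_certp_223))))) (allR_join _ _ _ _ (by decide) (allR_join _ _ _ _ (by decide) (allR_join _ _ _ _ (by decide)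 (allR_join _ _ _ _ (by decide) (allR_join _ _ _ _ (by decide) k_certp_224 k_certp_225) (allR_join _ _ _ _ (by decide) k_certp_226 k_certp_227)) (allR_join _ _ _ _ (by decide) (allR_join _ _ _ _ (by decide) k_certp_228 k_certp_229) (allR_join _ _ _ _ (by decide) k_certp_230 k_certp_231))) (allR_join _ _ _ _ (by decide) (allR_join _ _ _ _ (by decide) (allR_join _ _ _ _ (by decide) k_certp_232 k_certp_233) (allR_join _ _ _ _ (by decide) k_certp_234 k_certp_235)) (allR_join _ _ _ _ (by decide) (allR_join _ _ _ _ (by decide) k_certp_236 k_certp_237) (allR_join _ _ _ _ (by decide) k_certp_238 k_certp_239)))) (allR_join _ _ _ _ (by decide) (allR_join _ _ _ _ (by decide) (allR_join _ _ _ _ (by decide) (allR_join _ _ _ _ (by decide) k_certp_240 k_certp_241) (allR_join _ _ _ _ (by decide) k_certp_242 k_certp_243)) (allR_join _ _ _ _ (by decide) (allR_join _ _ _ _ (by decide) k_certp_244 k_certp_245) (allR_join _ _ _ _ (by decide) k_certp_246 k_certp_247))) (allR_join _ _ _ _ (by decide) (allR_join _ _ _ _ (by decide) (allR_join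 _ _ _ _ (by decide) k_certp_248 k_certp_249) (allR_join _ _ _ _ (by decide) k_certp_250 k_certp_251)) (allR_join _ _ _ _ (by decide) (allR_join _ _ _ _ (by decide) k_certp_252 k_certp_253) (allR_join _ _ _ _ (by decide) k_certp_254 k_certp_255)))))))) (allR_join _ _ _ _ (by decide) (allR_join _ _ _ _ (by decide) (allR_join _ _ _ _ (by decide) (allR_join _ _ _ _ (by decide) (allR_join _ _ _ _ (by decide) (allR_join _ _ _ _ (by decide) (allR_join _ _ _ _ (by decide) (allR_join _ _ _ _ (by decide) k_certp_256 k_certp_257) (allR_join _ _ _ _ (by decide) k_certp_258 k_certp_259)) (allR_join _ _ _ _ (by decide) (allR_join _ _ _ _ (by decide) k_certp_260 k_certp_261) (allR_join _ _ _ _ (by decide) k_certp_262 k_certp_263))) (allR_join _ _ _ _ (by decide) (allR_join _ _ _ _ (by decide) (allR_join _ _ _ _ (by decide) k_certp_264 k_certp_265) (allR_join _ _ _ _ (by decide) k_certp_266 k_certp_267)) (allR_join _ _ _ _ (by decide) (allR_join _ _ _ _ (by decide) k_certp_268 k_certp_269) (allR_join _ _ _ _ (by decide) k_certp_270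 k_certp_271)))) (allR_join _ _ _ _ (by decide) (allR_join _ _ _ _ (by decide) (allR_join _ _ _ _ (by decide) (allR_join _ _ _ _ (by decide) k_certp_272 k_certp_273) (allR_join _ _ _ _ (by decide) k_certp_274 k_certp_275)) (allR_join _ _ _ _ (by decide) (allR_join _ _ _ _ (by decide) k_certp_276 k_certp_277) (allR_join _ _ _ _ (by decide) k_certp_278 k_certp_279))) (allR_join _ _ _ _ (by decide) (allR_join _ _ _ _ (by decide) (allR_join _ _ _ _ (by decide) k_certp_280 k_certp_281) (allR_join _ _ _ _ (by decide) k_certp_282 k_certp_283)) (allR_join _ _ _ _ (by decide) (allR_join _ _ _ _ (by decide) k_certp_284 k_certp_285) (allR_join _ _ _ _ (by decide) k_certp_286 k_certp_287))))) (allR_join _ _ _ _ (by decide) (allR_join _ _ _ _ (by decide) (allR_join _ _ _ _ (by decide) (allR_join _ _ _ _ (by decide) (allR_join _ _ _ _ (by decide) k_certp_288 k_certp_289) (allR_join _ _ _ _ (by decide) k_certp_290 k_certp_291)) (allR_join _ _ _ _ (by decide) (allR_join _ _ _ _ (by decide) k_certp_292 k_certp_293) (allR_join _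 _ _ _ (by decide) k_certp_294 k_certp_295))) (allR_join _ _ _ _ (by decide) (allR_join _ _ _ _ (by decide) (allR_join _ _ _ _ (by decide) k_certp_296 k_certp_297) (allR_join _ _ _ _ (by decide) k_certp_298 k_certp_299)) (allR_join _ _ _ _ (by decide) (allR_join _ _ _ _ (by decide) k_certp_300 k_certp_301) (allR_join _ _ _ _ (by decide) k_certp_302 k_certp_303)))) (allR_join _ _ _ _ (by decide) (allR_join _ _ _ _ (by decide) (allR_join _ _ _ _ (by decide) (allR_join _ _ _ _ (by decide) k_certp_304 k_certp_305) (allR_join _ _ _ _ (by decide) k_certp_306 k_certp_307)) (allR_join _ _ _ _ (by decide) (allR_join _ _ _ _ (by decide) k_certp_308 k_certp_309) (allR_join _ _ _ _ (by decide) k_certp_310 k_certp_311))) (allR_join _ _ _ _ (by decide) (allR_join _ _ _ _ (by decide) (allR_join _ _ _ _ (by decide) k_certp_312 k_certp_313) (allR_join _ _ _ _ (by decide) k_certp_314 k_certp_315)) (allR_join _ _ _ _ (by decide) (allR_join _ _ _ _ (by decide) k_certp_316 k_certp_317) (allR_join _ _ _ _ (by decide) k_certp_318 k_certp_319))))))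 (allR_join _ _ _ _ (by decide) (allR_join _ _ _ _ (by decide) (allR_join _ _ _ _ (by decide) (allR_join _ _ _ _ (by decide) (allR_join _ _ _ _ (by decide) (allR_join _ _ _ _ (by decide) k_certp_320 k_certp_321) (allR_join _ _ _ _ (by decide) k_certp_322 k_certp_323)) (allR_join _ _ _ _ (by decide) (allR_join _ _ _ _ (by decide) k_certp_324 k_certp_325) (allR_join _ _ _ _ (by decide) k_certp_326 k_certp_327))) (allR_join _ _ _ _ (by decide) (allR_join _ _ _ _ (by decide) (allR_join _ _ _ _ (by decide) k_certp_328 k_certp_329) (allR_join _ _ _ _ (by decide) k_certp_330 k_certp_331)) (allR_join _ _ _ _ (by decide) (allR_join _ _ _ _ (by decide) k_certp_332 k_certp_333) (allR_join _ _ _ _ (by decide) k_certp_334 k_certp_335)))) (allR_join _ _ _ _ (by decide) (allR_join _ _ _ _ (by decide) (allR_join _ _ _ _ (by decide) (allR_join _ _ _ _ (by decide) k_certp_336 k_certp_337) (allR_join _ _ _ _ (by decide) k_certp_338 k_certp_339)) (allR_join _ _ _ _ (by decide) (allR_join _ _ _ _ (by decide) k_certp_340 k_certp_341)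 (allR_join _ _ _ _ (by decide) k_certp_342 k_certp_343))) (allR_join _ _ _ _ (by decide) (allR_join _ _ _ _ (by decide) (allR_join _ _ _ _ (by decide) k_certp_344 k_certp_345) (allR_join _ _ _ _ (by decide) k_certp_346 k_certp_347)) (allR_join _ _ _ _ (by decide) (allR_join _ _ _ _ (by decide) k_certp_348 k_certp_349) (allR_join _ _ _ _ (by decide) k_certp_350 k_certp_351))))) (allR_join _ _ _ _ (by decide) (allR_join _ _ _ _ (by decide) (allR_join _ _ _ _ (by decide) (allR_join _ _ _ _ (by decide) (allR_join _ _ _ _ (by decide) k_certp_352 k_certp_353) (allR_join _ _ _ _ (by decide) k_certp_354 k_certp_355)) (allR_join _ _ _ _ (by decide) (allR_join _ _ _ _ (by decide) k_certp_356 k_certp_357) (allR_join _ _ _ _ (by decide) k_certp_358 k_certp_359))) (allR_join _ _ _ _ (by decide) (allR_join _ _ _ _ (by decide) (allR_join _ _ _ _ (by decide) k_certp_360 k_certp_361) (allR_join _ _ _ _ (by decide) k_certp_362 k_certp_363)) (allR_join _ _ _ _ (by decide) (allR_join _ _ _ _ (by decide) k_certp_364 k_certp_365) (allR_join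 _ _ _ _ (by decide) k_certp_366 k_certp_367)))) (allR_join _ _ _ _ (by decide) (allR_join _ _ _ _ (by decide) (allR_join _ _ _ _ (by decide) (allR_join _ _ _ _ (by decide) k_certp_368 k_certp_369) (allR_join _ _ _ _ (by decide) k_certp_370 k_certp_371)) (allR_join _ _ _ _ (by decide) (allR_join _ _ _ _ (by decide) k_certp_372 k_certp_373) (allR_join _ _ _ _ (by decide) k_certp_374 k_certp_375))) (allR_join _ _ _ _ (by decide) (allR_join _ _ _ _ (by decide) (allR_join _ _ _ _ (by decide) k_certp_376 k_certp_377) (allR_join _ _ _ _ (by decide) k_certp_378 k_certp_379)) (allR_join _ _ _ _ (by decide) (allR_join _ _ _ _ (by decide) k_certp_380 k_certp_381) (allR_join _ _ _ _ (by decide) k_certp_382 k_certp_383))))))) (allR_join _ _ _ _ (by decide) (allR_join _ _ _ _ (by decide) (allR_join _ _ _ _ (by decide) (allR_join _ _ _ _ (by decide) (allR_join _ _ _ _ (by decide) (allR_join _ _ _ _ (by decide) (allR_join _ _ _ _ (by decide) k_certp_384 k_certp_385) (allR_join _ _ _ _ (by decide) k_certp_386 k_certp_387)) (allR_join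 _ _ _ _ (by decide) (allR_join _ _ _ _ (by decide) k_certp_388 k_certp_389) (allR_join _ _ _ _ (by decide) k_certp_390 k_certp_391))) (allR_join _ _ _ _ (by decide) (allR_join _ _ _ _ (by decide) (allR_join _ _ _ _ (by decide) k_certp_392 k_certp_393) (allR_join _ _ _ _ (by decide) k_certp_394 k_certp_395)) (allR_join _ _ _ _ (by decide) (allR_join _ _ _ _ (by decide) k_certp_396 k_certp_397) (allR_join _ _ _ _ (by decide) k_certp_398 k_certp_399)))) (allR_join _ _ _ _ (by decide) (allR_join _ _ _ _ (by decide) (allR_join _ _ _ _ (by decide) (allR_join _ _ _ _ (by decide) k_certp_400 k_certp_401) (allR_join _ _ _ _ (by decide) k_certp_402 k_certp_403)) (allR_join _ _ _ _ (by decide) (allR_join _ _ _ _ (by decide) k_certp_404 k_certp_405) (allR_join _ _ _ _ (by decide) k_certp_406 k_certp_407))) (allR_join _ _ _ _ (by decide) (allR_join _ _ _ _ (by decide) (allR_join _ _ _ _ (by decide) k_certp_408 k_certp_409) (allR_join _ _ _ _ (by decide) k_certp_410 k_certp_411)) (allR_join _ _ _ _ (by decide) (allR_join _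 _ _ _ (by decide) k_certp_412 k_certp_413) (allR_join _ _ _ _ (by decide) k_certp_414 k_certp_415))))) (allR_join _ _ _ _ (by decide) (allR_join _ _ _ _ (by decide) (allR_join _ _ _ _ (by decide) (allR_join _ _ _ _ (by decide) (allR_join _ _ _ _ (by decide) k_certp_416 k_certp_417) (allR_join _ _ _ _ (by decide) k_certp_418 k_certp_419)) (allR_join _ _ _ _ (by decide) (allR_join _ _ _ _ (by decide) k_certp_420 k_certp_421) (allR_join _ _ _ _ (by decide) k_certp_422 k_certp_423))) (allR_join _ _ _ _ (by decide) (allR_join _ _ _ _ (by decide) (allR_join _ _ _ _ (by decide) k_certp_424 k_certp_425) (allR_join _ _ _ _ (by decide) k_certp_426 k_certp_427)) (allR_join _ _ _ _ (by decide) (allR_join _ _ _ _ (by decide) k_certp_428 k_certp_429) (allR_join _ _ _ _ (by decide) k_certp_430 k_certp_431)))) (allR_join _ _ _ _ (by decide) (allR_join _ _ _ _ (by decide) (allR_join _ _ _ _ (by decide) (allR_join _ _ _ _ (by decide) k_certp_432 k_certp_433) (allR_join _ _ _ _ (by decide) k_certp_434 k_certp_435)) (allR_join _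 _ _ _ (by decide) (allR_join _ _ _ _ (by decide) k_certp_436 k_certp_437) (allR_join _ _ _ _ (by decide) k_certp_438 k_certp_439))) (allR_join _ _ _ _ (by decide) (allR_join _ _ _ _ (by decide) (allR_join _ _ _ _ (by decide) k_certp_440 k_certp_441) (allR_join _ _ _ _ (by decide) k_certp_442 k_certp_443)) (allR_join _ _ _ _ (by decide) (allR_join _ _ _ _ (by decide) k_certp_444 k_certp_445) (allR_join _ _ _ _ (by decide) k_certp_446 k_certp_447)))))) (allR_join _ _ _ _ (by decide) (allR_join _ _ _ _ (by decide) (allR_join _ _ _ _ (by decide) (allR_join _ _ _ _ (by decide) (allR_join _ _ _ _ (by decide) (allR_join _ _ _ _ (by decide) k_certp_448 k_certp_449) (allR_join _ _ _ _ (by decide) k_certp_450 k_certp_451)) (allR_join _ _ _ _ (by decide) (allR_join _ _ _ _ (by decide) k_certp_452 k_certp_453) (allR_join _ _ _ _ (by decide) k_certp_454 k_certp_455))) (allR_join _ _ _ _ (by decide) (allR_join _ _ _ _ (by decide) (allR_join _ _ _ _ (by decide) k_certp_456 k_certp_457) (allR_join _ _ _ _ (by decide) k_certp_458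 k_certp_459)) (allR_join _ _ _ _ (by decide) (allR_join _ _ _ _ (by decide) k_certp_460 k_certp_461) (allR_join _ _ _ _ (by decide) k_certp_462 k_certp_463)))) (allR_join _ _ _ _ (by decide) (allR_join _ _ _ _ (by decide) (allR_join _ _ _ _ (by decide) (allR_join _ _ _ _ (by decide) k_certp_464 k_certp_465) (allR_join _ _ _ _ (by decide) k_certp_466 k_certp_467)) (allR_join _ _ _ _ (by decide) (allR_join _ _ _ _ (by decide) k_certp_468 k_certp_469) (allR_join _ _ _ _ (by decide) k_certp_470 k_certp_471))) (allR_join _ _ _ _ (by decide) (allR_join _ _ _ _ (by decide) (allR_join _ _ _ _ (by decide) k_certp_472 k_certp_473) (allR_join _ _ _ _ (by decide) k_certp_474 k_certp_475)) (allR_join _ _ _ _ (by decide) (allR_join _ _ _ _ (by decide) k_certp_476 k_certp_477) (allR_join _ _ _ _ (by decide) k_certp_478 k_certp_479))))) (allR_join _ _ _ _ (by decide) (allR_join _ _ _ _ (by decide) (allR_join _ _ _ _ (by decide) (allR_join _ _ _ _ (by decide) (allR_join _ _ _ _ (by decide) k_certp_480 k_certp_481) (allR_join _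 _ _ _ (by decide) k_certp_482 k_certp_483)) (allR_join _ _ _ _ (by decide) (allR_join _ _ _ _ (by decide) k_certp_484 k_certp_485) (allR_join _ _ _ _ (by decide) k_certp_486 k_certp_487))) (allR_join _ _ _ _ (by decide) (allR_join _ _ _ _ (by decide) (allR_join _ _ _ _ (by decide) k_certp_488 k_certp_489) (allR_join _ _ _ _ (by decide) k_certp_490 k_certp_491)) (allR_join _ _ _ _ (by decide) (allR_join _ _ _ _ (by decide) k_certp_492 k_certp_493) (allR_join _ _ _ _ (by decide) k_certp_494 k_certp_495)))) (allR_join _ _ _ _ (by decide) (allR_join _ _ _ _ (by decide) (allR_join _ _ _ _ (by decide) (allR_join _ _ _ _ (by decide) k_certp_496 k_certp_497) (allR_join _ _ _ _ (by decide) k_certp_498 k_certp_499)) (allR_join _ _ _ _ (by decide) (allR_join _ _ _ _ (by decide) k_certp_500 k_certp_501) (allR_join _ _ _ _ (by decide) k_certp_502 k_certp_503))) (allR_join _ _ _ _ (by decide) (allR_join _ _ _ _ (by decide) (allR_join _ _ _ _ (by decide) k_certp_504 k_certp_505) (allR_join _ _ _ _ (by decide) k_certp_506 k_certp_507))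 (allR_join _ _ _ _ (by decide) (allR_join _ _ _ _ (by decide) k_certp_508 k_certp_509) (allR_join _ _ _ _ (by decide) k_certp_510 k_certp_511)))))))))

theorem k_fin : allR (ckFin C 4 nn nF can fin T) 13 0 = true := (allR_join _ _ _ _ (by decide) (allR_join _ _ _ _ (by decide) (allR_join _ _ _ _ (by decide) k_finp_0 k_finp_1) (allR_join _ _ _ _ (by decide) k_finp_2 k_finp_3)) (allR_join _ _ _ _ (by decide) (allR_join _ _ _ _ (by decide) k_finp_4 k_finp_5) (allR_join _ _ _ _ (by decide) k_finp_6 k_finp_7)))

theorem k_tbl : allR (ckTbl 4 nn T) 13 0 = true := (allR_join _ _ _ _ (by decide) (allR_join _ _ _ _ (by decide) (allR_join _ _ _ _ (by decide) k_tblp_0 k_tblp_1) (allR_join _ _ _ _ (by decide) k_tblp_2 k_tblp_3)) (allR_join _ _ _ _ (by decide) (allR_join _ _ _ _ (by decide) k_tblp_4 k_tblp_5) (allR_join _ _ _ _ (by decide) k_tblp_6 k_tblp_7)))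

theorem cyc_sub : ∀ ρ < cycW.length, ρ < 3 → cycW.getD ρ [] ∈ subW := by decide +kernel

theorem cyc_rel : ∀ ρ < cycW.length, 3 ≤ ρ → cycW.getD ρ [] ∈ mkRel 4 exactW centW true := by
  decide +kernel


theorem tr_cent : ∀ w ∈ centW, tr T w 0 = 0 := by decide +kernel
theorem tr_cent_sq : ∀ w ∈ centW, tr T (w ++ w) 0 = 0 := by decide +kernel
theorem letters_lt : (∀ w ∈ exactW, ∀ x ∈ w, x < 4) ∧ (∀ w ∈ centW, ∀ x ∈ w, x < 4) ∧ (∀ w ∈ subW, ∀ x ∈ w, x < 4) := by decide +kernel
theorem nn_pos : 0 < nn := by decide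

/-- The coset table is sound for every group with involutive generators satisfying the relators. -/
theorem tableHyp {G : Type*} [Group G] (gen : Nat → G) (H : Subgroup G)
    (hinv : ∀ x, gen x * gen x = 1)
    (hgen : Subgroup.closure {g : G | ∃ x < 4, g = gen x} = ⊤)
    (hrel : ∀ w ∈ mkRel 4 exactW centW true, evr gen w = 1)
    (hsub : ∀ w ∈ subW, evr gen w ∈ H) :
    TableHyp gen H 4 nn T (fun i => rep gen C (can i)) :=
  tableHyp_of_checks gen H C 4 nn nF can fin T hinv hgen
    (fun ρ h1 h2 => hrel _ (cyc_rel ρ h2 h1))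
    (fun ρ h1 => hsub _ (cyc_sub ρ (lt_of_lt_of_le h1 (by decide)) h1))
    (all_lt_pow _ nF 18 (by decide) k_cert)
    (all_lt_pow _ nn 13 (by decide) k_fin)
    (all_lt_pow _ nn 13 (by decide) k_tbl)
    (by decide +kernel)

end Cfsg.Agent.Lib.Helper77.TCS.H2
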