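import Cfsg.Agent.Lib.Helper77.TCSH3T

set_option autoImplicit false
set_option maxRecDepth 1000000
set_option linter.unusedVariables false
set_option Elab.async false

namespace Cfsg.Agent.Lib.Helper77.TCS.H3

open Cfsg.Agent.Lib.Helper25.TC

theorem k_certp_34 : allR (ckCert C nF) 8 8704 = true := by decide +kernel
theorem k_certp_35 : allR (ckCert C nF) 8 8960 = true := by decide +kernel
theorem k_certp_36 : allR (ckCert C nF) 8 9216 = true := by decide +kernel
theorem k_certp_37 : allR (ckCert C nF) 8 9472 = true := by decide +kernel
theorem k_certp_38 : allR (ckCert C nF) 8 9728 = true := by decide +kernel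
theorem k_certp_39 : allR (ckCert C nF) 8 9984 = true := by decide +kernel
theorem k_certp_40 : allR (ckCert C nF) 8 10240 = true := by decide +kernel
theorem k_certp_41 : allR (ckCert C nF) 8 10496 = true := by decide +kernel
theorem k_certp_42 : allR (ckCert C nF) 8 10752 = true := by decide +kernel
theorem k_certp_43 : allR (ckCert C nF) 8 11008 = true := by decide +kernel
theorem k_certp_44 : allR (ckCert C nF) 8 11264 = true := by decide +kernel
theorem k_certp_45 : allR (ckCert C nF) 8 11520 = true := by decide +kernel
theorem k_certp_46 : allR (ckCert C nF) 8 11776 = true := by decide +kernel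
theorem k_certp_47 : allR (ckCert C nF) 8 12032 = true := by decide +kernel
theorem k_certp_48 : allR (ckCert C nF) 8 12288 = true := by decide +kernel
theorem k_certp_49 : allR (ckCert C nF) 8 12544 = true := by decide +kernel
theorem k_certp_50 : allR (ckCert C nF) 8 12800 = true := by decide +kernel
theorem k_certp_51 : allR (ckCert C nF) 8 13056 = true := by decide +kernel
theorem k_certp_52 : allR (ckCert C nF) 8 13312 = true := by decide +kernel
theorem k_certp_53 : allR (ckCert C nF) 8 13568 = true := by decide +kernel
theorem k_certp_54 : allR (ckCert C nF) 8 13824 = true := by decide +kernel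
theorem k_certp_55 : allR (ckCert C nF) 8 14080 = true := by decide +kernel
theorem k_certp_56 : allR (ckCert C nF) 8 14336 = true := by decide +kernel
theorem k_certp_57 : allR (ckCert C nF) 8 14592 = true := by decide +kernel
theorem k_certp_58 : allR (ckCert C nF) 8 14848 = true := by decide +kernel
theorem k_certp_59 : allR (ckCert C nF) 8 15104 = true := by decide +kernel
theorem k_certp_60 : allR (ckCert C nF) 8 15360 = true := by decide +kernel
theorem k_certp_61 : allR (ckCert C nF) 8 15616 = true := by decide +kernel
theorem k_certp_62 : allR (ckCert C nF) 8 15872 = true := by decide +kernel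
theorem k_certp_63 : allR (ckCert C nF) 8 16128 = true := by decide +kernel
theorem k_certp_64 : allR (ckCert C nF) 8 16384 = true := by decide +kernel
theorem k_certp_65 : allR (ckCert C nF) 8 16640 = true := by decide +kernel
theorem k_certp_66 : allR (ckCert C nF) 8 16896 = true := by decide +kernel
theorem k_certp_67 : allR (ckCert C nF) 8 17152 = true := by decide +kernel

end Cfsg.Agent.Lib.Helper77.TCS.H3
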