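import Cfsg.Agent.Lib.Helper77.TCSH3T

set_option autoImplicit false
set_option maxRecDepth 1000000
set_option linter.unusedVariables false
set_option Elab.async false

namespace Cfsg.Agent.Lib.Helper77.TCS.H3

open Cfsg.Agent.Lib.Helper25.TC

theorem k_certp_340 : allR (ckCert C nF) 8 87040 = true := by decide +kernel
theorem k_certp_341 : allR (ckCert C nF) 8 87296 = true := by decide +kernel
theorem k_certp_342 : allR (ckCert C nF) 8 87552 = true := by decide +kernel
theorem k_certp_343 : allR (ckCert C nF) 8 87808 = true := by decide +kernel
theorem k_certp_344 : allR (ckCert C nF) 8 88064 = true := by decide +kernel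
theorem k_certp_345 : allR (ckCert C nF) 8 88320 = true := by decide +kernel
theorem k_certp_346 : allR (ckCert C nF) 8 88576 = true := by decide +kernel
theorem k_certp_347 : allR (ckCert C nF) 8 88832 = true := by decide +kernel
theorem k_certp_348 : allR (ckCert C nF) 8 89088 = true := by decide +kernel
theorem k_certp_349 : allR (ckCert C nF) 8 89344 = true := by decide +kernel
theorem k_certp_350 : allR (ckCert C nF) 8 89600 = true := by decide +kernel
theorem k_certp_351 : allR (ckCert C nF) 8 89856 = true := by decide +kernel
theorem k_certp_352 : allR (ckCert C nF) 8 90112 = true := by decide +kernel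
theorem k_certp_353 : allR (ckCert C nF) 8 90368 = true := by decide +kernel
theorem k_certp_354 : allR (ckCert C nF) 8 90624 = true := by decide +kernel
theorem k_certp_355 : allR (ckCert C nF) 8 90880 = true := by decide +kernel
theorem k_certp_356 : allR (ckCert C nF) 8 91136 = true := by decide +kernel
theorem k_certp_357 : allR (ckCert C nF) 8 91392 = true := by decide +kernel
theorem k_certp_358 : allR (ckCert C nF) 8 91648 = true := by decide +kernel
theorem k_certp_359 : allR (ckCert C nF) 8 91904 = true := by decide +kernel
theorem k_certp_360 : allR (ckCert C nF) 8 92160 = true := by decide +kernel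
theorem k_certp_361 : allR (ckCert C nF) 8 92416 = true := by decide +kernel
theorem k_certp_362 : allR (ckCert C nF) 8 92672 = true := by decide +kernel
theorem k_certp_363 : allR (ckCert C nF) 8 92928 = true := by decide +kernel
theorem k_certp_364 : allR (ckCert C nF) 8 93184 = true := by decide +kernel
theorem k_certp_365 : allR (ckCert C nF) 8 93440 = true := by decide +kernel
theorem k_certp_366 : allR (ckCert C nF) 8 93696 = true := by decide +kernel
theorem k_certp_367 : allR (ckCert C nF) 8 93952 = true := by decide +kernel
theorem k_certp_368 : allR (ckCert C nF) 8 94208 = true := by decide +kernel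
theorem k_certp_369 : allR (ckCert C nF) 8 94464 = true := by decide +kernel
theorem k_certp_370 : allR (ckCert C nF) 8 94720 = true := by decide +kernel
theorem k_certp_371 : allR (ckCert C nF) 8 94976 = true := by decide +kernel
theorem k_certp_372 : allR (ckCert C nF) 8 95232 = true := by decide +kernel
theorem k_certp_373 : allR (ckCert C nF) 8 95488 = true := by decide +kernel

end Cfsg.Agent.Lib.Helper77.TCS.H3
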