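import Cfsg.Agent.Lib.Helper77.TCSH3T

set_option autoImplicit false
set_option maxRecDepth 1000000
set_option linter.unusedVariables false
set_option Elab.async false

namespace Cfsg.Agent.Lib.Helper77.TCS.H3

open Cfsg.Agent.Lib.Helper25.TC

theorem k_certp_374 : allR (ckCert C nF) 8 95744 = true := by decide +kernel
theorem k_certp_375 : allR (ckCert C nF) 8 96000 = true := by decide +kernel
theorem k_certp_376 : allR (ckCert C nF) 8 96256 = true := by decide +kernel
theorem k_certp_377 : allR (ckCert C nF) 8 96512 = true := by decide +kernel
theorem k_certp_378 : allR (ckCert C nF) 8 96768 = true := by decide +kernel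
theorem k_certp_379 : allR (ckCert C nF) 8 97024 = true := by decide +kernel
theorem k_certp_380 : allR (ckCert C nF) 8 97280 = true := by decide +kernel
theorem k_certp_381 : allR (ckCert C nF) 8 97536 = true := by decide +kernel
theorem k_certp_382 : allR (ckCert C nF) 8 97792 = true := by decide +kernel
theorem k_certp_383 : allR (ckCert C nF) 8 98048 = true := by decide +kernel
theorem k_certp_384 : allR (ckCert C nF) 8 98304 = true := by decide +kernel
theorem k_certp_385 : allR (ckCert C nF) 8 98560 = true := by decide +kernel
theorem k_certp_386 : allR (ckCert C nF) 8 98816 = true := by decide +kernel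
theorem k_certp_387 : allR (ckCert C nF) 8 99072 = true := by decide +kernel
theorem k_certp_388 : allR (ckCert C nF) 8 99328 = true := by decide +kernel
theorem k_certp_389 : allR (ckCert C nF) 8 99584 = true := by decide +kernel
theorem k_certp_390 : allR (ckCert C nF) 8 99840 = true := by decide +kernel
theorem k_certp_391 : allR (ckCert C nF) 8 100096 = true := by decide +kernel
theorem k_certp_392 : allR (ckCert C nF) 8 100352 = true := by decide +kernel
theorem k_certp_393 : allR (ckCert C nF) 8 100608 = true := by decide +kernel
theorem k_certp_394 : allR (ckCert C nF) 8 100864 = true := by decide +kernel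
theorem k_certp_395 : allR (ckCert C nF) 8 101120 = true := by decide +kernel
theorem k_certp_396 : allR (ckCert C nF) 8 101376 = true := by decide +kernel
theorem k_certp_397 : allR (ckCert C nF) 8 101632 = true := by decide +kernel
theorem k_certp_398 : allR (ckCert C nF) 8 101888 = true := by decide +kernel
theorem k_certp_399 : allR (ckCert C nF) 8 102144 = true := by decide +kernel
theorem k_certp_400 : allR (ckCert C nF) 8 102400 = true := by decide +kernel
theorem k_certp_401 : allR (ckCert C nF) 8 102656 = true := by decide +kernel
theorem k_certp_402 : allR (ckCert C nF) 8 102912 = true := by decide +kernel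
theorem k_certp_403 : allR (ckCert C nF) 8 103168 = true := by decide +kernel
theorem k_certp_404 : allR (ckCert C nF) 8 103424 = true := by decide +kernel
theorem k_certp_405 : allR (ckCert C nF) 8 103680 = true := by decide +kernel
theorem k_certp_406 : allR (ckCert C nF) 8 103936 = true := by decide +kernel
theorem k_certp_407 : allR (ckCert C nF) 8 104192 = true := by decide +kernel

end Cfsg.Agent.Lib.Helper77.TCS.H3
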