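import Cfsg.Agent.Lib.Helper77.TCSH3T

set_option autoImplicit false
set_option maxRecDepth 1000000
set_option linter.unusedVariables false
set_option Elab.async false

namespace Cfsg.Agent.Lib.Helper77.TCS.H3

open Cfsg.Agent.Lib.Helper25.TC

theorem k_certp_408 : allR (ckCert C nF) 8 104448 = true := by decide +kernel
theorem k_certp_409 : allR (ckCert C nF) 8 104704 = true := by decide +kernel
theorem k_certp_410 : allR (ckCert C nF) 8 104960 = true := by decide +kernel
theorem k_certp_411 : allR (ckCert C nF) 8 105216 = true := by decide +kernel
theorem k_certp_412 : allR (ckCert C nF) 8 105472 = true := by decide +kernel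
theorem k_certp_413 : allR (ckCert C nF) 8 105728 = true := by decide +kernel
theorem k_certp_414 : allR (ckCert C nF) 8 105984 = true := by decide +kernel
theorem k_certp_415 : allR (ckCert C nF) 8 106240 = true := by decide +kernel
theorem k_certp_416 : allR (ckCert C nF) 8 106496 = true := by decide +kernel
theorem k_certp_417 : allR (ckCert C nF) 8 106752 = true := by decide +kernel
theorem k_certp_418 : allR (ckCert C nF) 8 107008 = true := by decide +kernel
theorem k_certp_419 : allR (ckCert C nF) 8 107264 = true := by decide +kernel
theorem k_certp_420 : allR (ckCert C nF) 8 107520 = true := by decide +kernel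
theorem k_certp_421 : allR (ckCert C nF) 8 107776 = true := by decide +kernel
theorem k_certp_422 : allR (ckCert C nF) 8 108032 = true := by decide +kernel
theorem k_certp_423 : allR (ckCert C nF) 8 108288 = true := by decide +kernel
theorem k_certp_424 : allR (ckCert C nF) 8 108544 = true := by decide +kernel
theorem k_certp_425 : allR (ckCert C nF) 8 108800 = true := by decide +kernel
theorem k_certp_426 : allR (ckCert C nF) 8 109056 = true := by decide +kernel
theorem k_certp_427 : allR (ckCert C nF) 8 109312 = true := by decide +kernel
theorem k_certp_428 : allR (ckCert C nF) 8 109568 = true := by decide +kernel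
theorem k_certp_429 : allR (ckCert C nF) 8 109824 = true := by decide +kernel
theorem k_certp_430 : allR (ckCert C nF) 8 110080 = true := by decide +kernel
theorem k_certp_431 : allR (ckCert C nF) 8 110336 = true := by decide +kernel
theorem k_certp_432 : allR (ckCert C nF) 8 110592 = true := by decide +kernel
theorem k_certp_433 : allR (ckCert C nF) 8 110848 = true := by decide +kernel
theorem k_certp_434 : allR (ckCert C nF) 8 111104 = true := by decide +kernel
theorem k_certp_435 : allR (ckCert C nF) 8 111360 = true := by decide +kernel
theorem k_certp_436 : allR (ckCert C nF) 8 111616 = true := by decide +kernel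
theorem k_certp_437 : allR (ckCert C nF) 8 111872 = true := by decide +kernel
theorem k_certp_438 : allR (ckCert C nF) 8 112128 = true := by decide +kernel
theorem k_certp_439 : allR (ckCert C nF) 8 112384 = true := by decide +kernel
theorem k_certp_440 : allR (ckCert C nF) 8 112640 = true := by decide +kernel
theorem k_certp_441 : allR (ckCert C nF) 8 112896 = true := by decide +kernel

end Cfsg.Agent.Lib.Helper77.TCS.H3
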