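import Cfsg.Agent.Lib.Helper77.TCSH3T

set_option autoImplicit false
set_option maxRecDepth 1000000
set_option linter.unusedVariables false
set_option Elab.async false

namespace Cfsg.Agent.Lib.Helper77.TCS.H3

open Cfsg.Agent.Lib.Helper25.TC

theorem k_certp_476 : allR (ckCert C nF) 8 121856 = true := by decide +kernel
theorem k_certp_477 : allR (ckCert C nF) 8 122112 = true := by decide +kernel
theorem k_certp_478 : allR (ckCert C nF) 8 122368 = true := by decide +kernel
theorem k_certp_479 : allR (ckCert C nF) 8 122624 = true := by decide +kernel
theorem k_certp_480 : allR (ckCert C nF) 8 122880 = true := by decide +kernel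
theorem k_certp_481 : allR (ckCert C nF) 8 123136 = true := by decide +kernel
theorem k_certp_482 : allR (ckCert C nF) 8 123392 = true := by decide +kernel
theorem k_certp_483 : allR (ckCert C nF) 8 123648 = true := by decide +kernel
theorem k_certp_484 : allR (ckCert C nF) 8 123904 = true := by decide +kernel
theorem k_certp_485 : allR (ckCert C nF) 8 124160 = true := by decide +kernel
theorem k_certp_486 : allR (ckCert C nF) 8 124416 = true := by decide +kernel
theorem k_certp_487 : allR (ckCert C nF) 8 124672 = true := by decide +kernel
theorem k_certp_488 : allR (ckCert C nF) 8 124928 = true := by decide +kernel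
theorem k_certp_489 : allR (ckCert C nF) 8 125184 = true := by decide +kernel
theorem k_certp_490 : allR (ckCert C nF) 8 125440 = true := by decide +kernel
theorem k_certp_491 : allR (ckCert C nF) 8 125696 = true := by decide +kernel
theorem k_certp_492 : allR (ckCert C nF) 8 125952 = true := by decide +kernel
theorem k_certp_493 : allR (ckCert C nF) 8 126208 = true := by decide +kernel
theorem k_certp_494 : allR (ckCert C nF) 8 126464 = true := by decide +kernel
theorem k_certp_495 : allR (ckCert C nF) 8 126720 = true := by decide +kernel
theorem k_certp_496 : allR (ckCert C nF) 8 126976 = true := by decide +kernel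
theorem k_certp_497 : allR (ckCert C nF) 8 127232 = true := by decide +kernel
theorem k_certp_498 : allR (ckCert C nF) 8 127488 = true := by decide +kernel
theorem k_certp_499 : allR (ckCert C nF) 8 127744 = true := by decide +kernel
theorem k_certp_500 : allR (ckCert C nF) 8 128000 = true := by decide +kernel
theorem k_certp_501 : allR (ckCert C nF) 8 128256 = true := by decide +kernel
theorem k_certp_502 : allR (ckCert C nF) 8 128512 = true := by decide +kernel
theorem k_certp_503 : allR (ckCert C nF) 8 128768 = true := by decide +kernel
theorem k_certp_504 : allR (ckCert C nF) 8 129024 = true := by decide +kernel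
theorem k_certp_505 : allR (ckCert C nF) 8 129280 = true := by decide +kernel
theorem k_certp_506 : allR (ckCert C nF) 8 129536 = true := by decide +kernel
theorem k_certp_507 : allR (ckCert C nF) 8 129792 = true := by decide +kernel
theorem k_certp_508 : allR (ckCert C nF) 8 130048 = true := by decide +kernel
theorem k_certp_509 : allR (ckCert C nF) 8 130304 = true := by decide +kernel

end Cfsg.Agent.Lib.Helper77.TCS.H3
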