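import Cfsg.Agent.Lib.Helper77.TCSH3T

set_option autoImplicit false
set_option maxRecDepth 1000000
set_option linter.unusedVariables false
set_option Elab.async false

namespace Cfsg.Agent.Lib.Helper77.TCS.H3

open Cfsg.Agent.Lib.Helper25.TC

theorem k_certp_510 : allR (ckCert C nF) 8 130560 = true := by decide +kernel
theorem k_certp_511 : allR (ckCert C nF) 8 130816 = true := by decide +kernel
theorem k_certp_512 : allR (ckCert C nF) 8 131072 = true := by decide +kernel
theorem k_certp_513 : allR (ckCert C nF) 8 131328 = true := by decide +kernel
theorem k_certp_514 : allR (ckCert C nF) 8 131584 = true := by decide +kernel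
theorem k_certp_515 : allR (ckCert C nF) 8 131840 = true := by decide +kernel
theorem k_certp_516 : allR (ckCert C nF) 8 132096 = true := by decide +kernel
theorem k_certp_517 : allR (ckCert C nF) 8 132352 = true := by decide +kernel
theorem k_certp_518 : allR (ckCert C nF) 8 132608 = true := by decide +kernel
theorem k_certp_519 : allR (ckCert C nF) 8 132864 = true := by decide +kernel
theorem k_certp_520 : allR (ckCert C nF) 8 133120 = true := by decide +kernel
theorem k_certp_521 : allR (ckCert C nF) 8 133376 = true := by decide +kernel
theorem k_certp_522 : allR (ckCert C nF) 8 133632 = true := by decide +kernel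
theorem k_certp_523 : allR (ckCert C nF) 8 133888 = true := by decide +kernel
theorem k_certp_524 : allR (ckCert C nF) 8 134144 = true := by decide +kernel
theorem k_certp_525 : allR (ckCert C nF) 8 134400 = true := by decide +kernel
theorem k_certp_526 : allR (ckCert C nF) 8 134656 = true := by decide +kernel
theorem k_certp_527 : allR (ckCert C nF) 8 134912 = true := by decide +kernel
theorem k_certp_528 : allR (ckCert C nF) 8 135168 = true := by decide +kernel
theorem k_certp_529 : allR (ckCert C nF) 8 135424 = true := by decide +kernel
theorem k_certp_530 : allR (ckCert C nF) 8 135680 = true := by decide +kernel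
theorem k_certp_531 : allR (ckCert C nF) 8 135936 = true := by decide +kernel
theorem k_certp_532 : allR (ckCert C nF) 8 136192 = true := by decide +kernel
theorem k_certp_533 : allR (ckCert C nF) 8 136448 = true := by decide +kernel
theorem k_certp_534 : allR (ckCert C nF) 8 136704 = true := by decide +kernel
theorem k_certp_535 : allR (ckCert C nF) 8 136960 = true := by decide +kernel
theorem k_certp_536 : allR (ckCert C nF) 8 137216 = true := by decide +kernel
theorem k_certp_537 : allR (ckCert C nF) 8 137472 = true := by decide +kernel
theorem k_certp_538 : allR (ckCert C nF) 8 137728 = true := by decide +kernel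
theorem k_certp_539 : allR (ckCert C nF) 8 137984 = true := by decide +kernel
theorem k_certp_540 : allR (ckCert C nF) 8 138240 = true := by decide +kernel
theorem k_certp_541 : allR (ckCert C nF) 8 138496 = true := by decide +kernel
theorem k_certp_542 : allR (ckCert C nF) 8 138752 = true := by decide +kernel
theorem k_certp_543 : allR (ckCert C nF) 8 139008 = true := by decide +kernel
theorem k_certp_544 : allR (ckCert C nF) 8 139264 = true := by decide +kernel
theorem k_certp_545 : allR (ckCert C nF) 8 139520 = true := by decide +kernel
theorem k_certp_546 : allR (ckCert C nF) 8 139776 = true := by decide +kernel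
theorem k_certp_547 : allR (ckCert C nF) 8 140032 = true := by decide +kernel
theorem k_certp_548 : allR (ckCert C nF) 8 140288 = true := by decide +kernel
theorem k_certp_549 : allR (ckCert C nF) 8 140544 = true := by decide +kernel
theorem k_certp_550 : allR (ckCert C nF) 8 140800 = true := by decide +kernel
theorem k_certp_551 : allR (ckCert C nF) 8 141056 = true := by decide +kernel
theorem k_certp_552 : allR (ckCert C nF) 8 141312 = true := by decide +kernel
theorem k_certp_553 : allR (ckCert C nF) 8 141568 = true := by decide +kernel
theorem k_certp_554 : allR (ckCert C nF) 8 141824 = true := by decide +kernel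
theorem k_certp_555 : allR (ckCert C nF) 8 142080 = true := by decide +kernel
theorem k_certp_556 : allR (ckCert C nF) 8 142336 = true := by decide +kernel
theorem k_certp_557 : allR (ckCert C nF) 8 142592 = true := by decide +kernel
theorem k_certp_558 : allR (ckCert C nF) 8 142848 = true := by decide +kernel
theorem k_certp_559 : allR (ckCert C nF) 8 143104 = true := by decide +kernel
theorem k_certp_560 : allR (ckCert C nF) 8 143360 = true := by decide +kernel
theorem k_certp_561 : allR (ckCert C nF) 8 143616 = true := by decide +kernel
theorem k_certp_562 : allR (ckCert C nF) 8 143872 = true := by decide +kernel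
theorem k_certp_563 : allR (ckCert C nF) 8 144128 = true := by decide +kernel
theorem k_certp_564 : allR (ckCert C nF) 8 144384 = true := by decide +kernel
theorem k_certp_565 : allR (ckCert C nF) 8 144640 = true := by decide +kernel
theorem k_certp_566 : allR (ckCert C nF) 8 144896 = true := by decide +kernel
theorem k_certp_567 : allR (ckCert C nF) 8 145152 = true := by decide +kernel
theorem k_certp_568 : allR (ckCert C nF) 8 145408 = true := by decide +kernel
theorem k_certp_569 : allR (ckCert C nF) 8 145664 = true := by decide +kernel
theorem k_certp_570 : allR (ckCert C nF) 8 145920 = true := by decide +kernel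
theorem k_certp_571 : allR (ckCert C nF) 8 146176 = true := by decide +kernel
theorem k_certp_572 : allR (ckCert C nF) 8 146432 = true := by decide +kernel
theorem k_certp_573 : allR (ckCert C nF) 8 146688 = true := by decide +kernel
theorem k_certp_574 : allR (ckCert C nF) 8 146944 = true := by decide +kernel
theorem k_certp_575 : allR (ckCert C nF) 8 147200 = true := by decide +kernel
theorem k_certp_576 : allR (ckCert C nF) 8 147456 = true := by decide +kernel
theorem k_certp_577 : allR (ckCert C nF) 8 147712 = true := by decide +kernel
theorem k_certp_578 : allR (ckCert C nF) 8 147968 = true := by decide +kernel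
theorem k_certp_579 : allR (ckCert C nF) 8 148224 = true := by decide +kernel
theorem k_certp_580 : allR (ckCert C nF) 8 148480 = true := by decide +kernel
theorem k_certp_581 : allR (ckCert C nF) 8 148736 = true := by decide +kernel
theorem k_certp_582 : allR (ckCert C nF) 8 148992 = true := by decide +kernel
theorem k_certp_583 : allR (ckCert C nF) 8 149248 = true := by decide +kernel
theorem k_certp_584 : allR (ckCert C nF) 8 149504 = true := by decide +kernel
theorem k_certp_585 : allR (ckCert C nF) 8 149760 = true := by decide +kernel
theorem k_certp_586 : allR (ckCert C nF) 8 150016 = true := by decide +kernel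
theorem k_certp_587 : allR (ckCert C nF) 8 150272 = true := by decide +kernel
theorem k_certp_588 : allR (ckCert C nF) 8 150528 = true := by decide +kernel
theorem k_certp_589 : allR (ckCert C nF) 8 150784 = true := by decide +kernel
theorem k_certp_590 : allR (ckCert C nF) 8 151040 = true := by decide +kernel
theorem k_certp_591 : allR (ckCert C nF) 8 151296 = true := by decide +kernel
theorem k_certp_592 : allR (ckCert C nF) 8 151552 = true := by decide +kernel
theorem k_certp_593 : allR (ckCert C nF) 8 151808 = true := by decide +kernel
theorem k_certp_594 : allR (ckCert C nF) 8 152064 = true := by decide +kernel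
theorem k_certp_595 : allR (ckCert C nF) 8 152320 = true := by decide +kernel
theorem k_certp_596 : allR (ckCert C nF) 8 152576 = true := by decide +kernel
theorem k_certp_597 : allR (ckCert C nF) 8 152832 = true := by decide +kernel
theorem k_certp_598 : allR (ckCert C nF) 8 153088 = true := by decide +kernel
theorem k_certp_599 : allR (ckCert C nF) 8 153344 = true := by decide +kernel
theorem k_certp_600 : allR (ckCert C nF) 8 153600 = true := by decide +kernel
theorem k_certp_601 : allR (ckCert C nF) 8 153856 = true := by decide +kernel
theorem k_certp_602 : allR (ckCert C nF) 8 154112 = true := by decide +kernel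
theorem k_certp_603 : allR (ckCert C nF) 8 154368 = true := by decide +kernel
theorem k_certp_604 : allR (ckCert C nF) 8 154624 = true := by decide +kernel
theorem k_certp_605 : allR (ckCert C nF) 8 154880 = true := by decide +kernel
theorem k_certp_606 : allR (ckCert C nF) 8 155136 = true := by decide +kernel
theorem k_certp_607 : allR (ckCert C nF) 8 155392 = true := by decide +kernel
theorem k_certp_608 : allR (ckCert C nF) 8 155648 = true := by decide +kernel
theorem k_certp_609 : allR (ckCert C nF) 8 155904 = true := by decide +kernel
theorem k_certp_610 : allR (ckCert C nF) 8 156160 = true := by decide +kernel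
theorem k_certp_611 : allR (ckCert C nF) 8 156416 = true := by decide +kernel
theorem k_certp_612 : allR (ckCert C nF) 8 156672 = true := by decide +kernel
theorem k_certp_613 : allR (ckCert C nF) 8 156928 = true := by decide +kernel
theorem k_certp_614 : allR (ckCert C nF) 8 157184 = true := by decide +kernel
theorem k_certp_615 : allR (ckCert C nF) 8 157440 = true := by decide +kernel
theorem k_certp_616 : allR (ckCert C nF) 8 157696 = true := by decide +kernel
theorem k_certp_617 : allR (ckCert C nF) 8 157952 = true := by decide +kernel
theorem k_certp_618 : allR (ckCert C nF) 8 158208 = true := by decide +kernel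
theorem k_certp_619 : allR (ckCert C nF) 8 158464 = true := by decide +kernel
theorem k_certp_620 : allR (ckCert C nF) 8 158720 = true := by decide +kernel
theorem k_certp_621 : allR (ckCert C nF) 8 158976 = true := by decide +kernel
theorem k_certp_622 : allR (ckCert C nF) 8 159232 = true := by decide +kernel
theorem k_certp_623 : allR (ckCert C nF) 8 159488 = true := by decide +kernel
theorem k_certp_624 : allR (ckCert C nF) 8 159744 = true := by decide +kernel
theorem k_certp_625 : allR (ckCert C nF) 8 160000 = true := by decide +kernel
theorem k_certp_626 : allR (ckCert C nF) 8 160256 = true := by decide +kernel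
theorem k_certp_627 : allR (ckCert C nF) 8 160512 = true := by decide +kernel
theorem k_certp_628 : allR (ckCert C nF) 8 160768 = true := by decide +kernel
theorem k_certp_629 : allR (ckCert C nF) 8 161024 = true := by decide +kernel
theorem k_certp_630 : allR (ckCert C nF) 8 161280 = true := by decide +kernel
theorem k_certp_631 : allR (ckCert C nF) 8 161536 = true := by decide +kernel
theorem k_certp_632 : allR (ckCert C nF) 8 161792 = true := by decide +kernel
theorem k_certp_633 : allR (ckCert C nF) 8 162048 = true := by decide +kernel
theorem k_certp_634 : allR (ckCert C nF) 8 162304 = true := by decide +kernel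
theorem k_certp_635 : allR (ckCert C nF) 8 162560 = true := by decide +kernel
theorem k_certp_636 : allR (ckCert C nF) 8 162816 = true := by decide +kernel
theorem k_certp_637 : allR (ckCert C nF) 8 163072 = true := by decide +kernel
theorem k_certp_638 : allR (ckCert C nF) 8 163328 = true := by decide +kernel
theorem k_certp_639 : allR (ckCert C nF) 8 163584 = true := by decide +kernel
theorem k_certp_640 : allR (ckCert C nF) 8 163840 = true := by decide +kernel
theorem k_certp_641 : allR (ckCert C nF) 8 164096 = true := by decide +kernel
theorem k_certp_642 : allR (ckCert C nF) 8 164352 = true := by decide +kernel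
theorem k_certp_643 : allR (ckCert C nF) 8 164608 = true := by decide +kernel
theorem k_certp_644 : allR (ckCert C nF) 8 164864 = true := by decide +kernel
theorem k_certp_645 : allR (ckCert C nF) 8 165120 = true := by decide +kernel
theorem k_certp_646 : allR (ckCert C nF) 8 165376 = true := by decide +kernel
theorem k_certp_647 : allR (ckCert C nF) 8 165632 = true := by decide +kernel
theorem k_certp_648 : allR (ckCert C nF) 8 165888 = true := by decide +kernel
theorem k_certp_649 : allR (ckCert C nF) 8 166144 = true := by decide +kernel
theorem k_certp_650 : allR (ckCert C nF) 8 166400 = true := by decide +kernel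
theorem k_certp_651 : allR (ckCert C nF) 8 166656 = true := by decide +kernel
theorem k_certp_652 : allR (ckCert C nF) 8 166912 = true := by decide +kernel
theorem k_certp_653 : allR (ckCert C nF) 8 167168 = true := by decide +kernel
theorem k_certp_654 : allR (ckCert C nF) 8 167424 = true := by decide +kernel
theorem k_certp_655 : allR (ckCert C nF) 8 167680 = true := by decide +kernel
theorem k_certp_656 : allR (ckCert C nF) 8 167936 = true := by decide +kernel
theorem k_certp_657 : allR (ckCert C nF) 8 168192 = true := by decide +kernel
theorem k_certp_658 : allR (ckCert C nF) 8 168448 = true := by decide +kernel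
theorem k_certp_659 : allR (ckCert C nF) 8 168704 = true := by decide +kernel
theorem k_certp_660 : allR (ckCert C nF) 8 168960 = true := by decide +kernel
theorem k_certp_661 : allR (ckCert C nF) 8 169216 = true := by decide +kernel
theorem k_certp_662 : allR (ckCert C nF) 8 169472 = true := by decide +kernel
theorem k_certp_663 : allR (ckCert C nF) 8 169728 = true := by decide +kernel
theorem k_certp_664 : allR (ckCert C nF) 8 169984 = true := by decide +kernel
theorem k_certp_665 : allR (ckCert C nF) 8 170240 = true := by decide +kernel
theorem k_certp_666 : allR (ckCert C nF) 8 170496 = true := by decide +kernel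
theorem k_certp_667 : allR (ckCert C nF) 8 170752 = true := by decide +kernel
theorem k_certp_668 : allR (ckCert C nF) 8 171008 = true := by decide +kernel
theorem k_certp_669 : allR (ckCert C nF) 8 171264 = true := by decide +kernel
theorem k_certp_670 : allR (ckCert C nF) 8 171520 = true := by decide +kernel
theorem k_certp_671 : allR (ckCert C nF) 8 171776 = true := by decide +kernel
theorem k_certp_672 : allR (ckCert C nF) 8 172032 = true := by decide +kernel
theorem k_certp_673 : allR (ckCert C nF) 8 172288 = true := by decide +kernel
theorem k_certp_674 : allR (ckCert C nF) 8 172544 = true := by decide +kernel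
theorem k_certp_675 : allR (ckCert C nF) 8 172800 = true := by decide +kernel
theorem k_certp_676 : allR (ckCert C nF) 8 173056 = true := by decide +kernel
theorem k_certp_677 : allR (ckCert C nF) 8 173312 = true := by decide +kernel
theorem k_certp_678 : allR (ckCert C nF) 8 173568 = true := by decide +kernel
theorem k_certp_679 : allR (ckCert C nF) 8 173824 = true := by decide +kernel
theorem k_certp_680 : allR (ckCert C nF) 8 174080 = true := by decide +kernel
theorem k_certp_681 : allR (ckCert C nF) 8 174336 = true := by decide +kernel
theorem k_certp_682 : allR (ckCert C nF) 8 174592 = true := by decide +kernel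
theorem k_certp_683 : allR (ckCert C nF) 8 174848 = true := by decide +kernel
theorem k_certp_684 : allR (ckCert C nF) 8 175104 = true := by decide +kernel
theorem k_certp_685 : allR (ckCert C nF) 8 175360 = true := by decide +kernel
theorem k_certp_686 : allR (ckCert C nF) 8 175616 = true := by decide +kernel
theorem k_certp_687 : allR (ckCert C nF) 8 175872 = true := by decide +kernel
theorem k_certp_688 : allR (ckCert C nF) 8 176128 = true := by decide +kernel
theorem k_certp_689 : allR (ckCert C nF) 8 176384 = true := by decide +kernel
theorem k_certp_690 : allR (ckCert C nF) 8 176640 = true := by decide +kernel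
theorem k_certp_691 : allR (ckCert C nF) 8 176896 = true := by decide +kernel
theorem k_certp_692 : allR (ckCert C nF) 8 177152 = true := by decide +kernel
theorem k_certp_693 : allR (ckCert C nF) 8 177408 = true := by decide +kernel
theorem k_certp_694 : allR (ckCert C nF) 8 177664 = true := by decide +kernel
theorem k_certp_695 : allR (ckCert C nF) 8 177920 = true := by decide +kernel
theorem k_certp_696 : allR (ckCert C nF) 8 178176 = true := by decide +kernel
theorem k_certp_697 : allR (ckCert C nF) 8 178432 = true := by decide +kernel
theorem k_certp_698 : allR (ckCert C nF) 8 178688 = true := by decide +kernel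
theorem k_certp_699 : allR (ckCert C nF) 8 178944 = true := by decide +kernel
theorem k_certp_700 : allR (ckCert C nF) 8 179200 = true := by decide +kernel
theorem k_certp_701 : allR (ckCert C nF) 8 179456 = true := by decide +kernel
theorem k_certp_702 : allR (ckCert C nF) 8 179712 = true := by decide +kernel
theorem k_certp_703 : allR (ckCert C nF) 8 179968 = true := by decide +kernel
theorem k_certp_704 : allR (ckCert C nF) 8 180224 = true := by decide +kernel
theorem k_certp_705 : allR (ckCert C nF) 8 180480 = true := by decide +kernel
theorem k_certp_706 : allR (ckCert C nF) 8 180736 = true := by decide +kernel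
theorem k_certp_707 : allR (ckCert C nF) 8 180992 = true := by decide +kernel
theorem k_certp_708 : allR (ckCert C nF) 8 181248 = true := by decide +kernel
theorem k_certp_709 : allR (ckCert C nF) 8 181504 = true := by decide +kernel
theorem k_certp_710 : allR (ckCert C nF) 8 181760 = true := by decide +kernel
theorem k_certp_711 : allR (ckCert C nF) 8 182016 = true := by decide +kernel
theorem k_certp_712 : allR (ckCert C nF) 8 182272 = true := by decide +kernel
theorem k_certp_713 : allR (ckCert C nF) 8 182528 = true := by decide +kernel
theorem k_certp_714 : allR (ckCert C nF) 8 182784 = true := by decide +kernel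
theorem k_certp_715 : allR (ckCert C nF) 8 183040 = true := by decide +kernel
theorem k_certp_716 : allR (ckCert C nF) 8 183296 = true := by decide +kernel
theorem k_certp_717 : allR (ckCert C nF) 8 183552 = true := by decide +kernel
theorem k_certp_718 : allR (ckCert C nF) 8 183808 = true := by decide +kernel
theorem k_certp_719 : allR (ckCert C nF) 8 184064 = true := by decide +kernel
theorem k_certp_720 : allR (ckCert C nF) 8 184320 = true := by decide +kernel
theorem k_certp_721 : allR (ckCert C nF) 8 184576 = true := by decide +kernel
theorem k_certp_722 : allR (ckCert C nF) 8 184832 = true := by decide +kernel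
theorem k_certp_723 : allR (ckCert C nF) 8 185088 = true := by decide +kernel
theorem k_certp_724 : allR (ckCert C nF) 8 185344 = true := by decide +kernel
theorem k_certp_725 : allR (ckCert C nF) 8 185600 = true := by decide +kernel
theorem k_certp_726 : allR (ckCert C nF) 8 185856 = true := by decide +kernel
theorem k_certp_727 : allR (ckCert C nF) 8 186112 = true := by decide +kernel
theorem k_certp_728 : allR (ckCert C nF) 8 186368 = true := by decide +kernel
theorem k_certp_729 : allR (ckCert C nF) 8 186624 = true := by decide +kernel
theorem k_certp_730 : allR (ckCert C nF) 8 186880 = true := by decide +kernel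
theorem k_certp_731 : allR (ckCert C nF) 8 187136 = true := by decide +kernel
theorem k_certp_732 : allR (ckCert C nF) 8 187392 = true := by decide +kernel
theorem k_certp_733 : allR (ckCert C nF) 8 187648 = true := by decide +kernel
theorem k_certp_734 : allR (ckCert C nF) 8 187904 = true := by decide +kernel
theorem k_certp_735 : allR (ckCert C nF) 8 188160 = true := by decide +kernel
theorem k_certp_736 : allR (ckCert C nF) 8 188416 = true := by decide +kernel
theorem k_certp_737 : allR (ckCert C nF) 8 188672 = true := by decide +kernel
theorem k_certp_738 : allR (ckCert C nF) 8 188928 = true := by decide +kernel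
theorem k_certp_739 : allR (ckCert C nF) 8 189184 = true := by decide +kernel
theorem k_certp_740 : allR (ckCert C nF) 8 189440 = true := by decide +kernel
theorem k_certp_741 : allR (ckCert C nF) 8 189696 = true := by decide +kernel
theorem k_certp_742 : allR (ckCert C nF) 8 189952 = true := by decide +kernel
theorem k_certp_743 : allR (ckCert C nF) 8 190208 = true := by decide +kernel
theorem k_certp_744 : allR (ckCert C nF) 8 190464 = true := by decide +kernel
theorem k_certp_745 : allR (ckCert C nF) 8 190720 = true := by decide +kernel
theorem k_certp_746 : allR (ckCert C nF) 8 190976 = true := by decide +kernel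
theorem k_certp_747 : allR (ckCert C nF) 8 191232 = true := by decide +kernel
theorem k_certp_748 : allR (ckCert C nF) 8 191488 = true := by decide +kernel
theorem k_certp_749 : allR (ckCert C nF) 8 191744 = true := by decide +kernel
theorem k_certp_750 : allR (ckCert C nF) 8 192000 = true := by decide +kernel
theorem k_certp_751 : allR (ckCert C nF) 8 192256 = true := by decide +kernel
theorem k_certp_752 : allR (ckCert C nF) 8 192512 = true := by decide +kernel
theorem k_certp_753 : allR (ckCert C nF) 8 192768 = true := by decide +kernel
theorem k_certp_754 : allR (ckCert C nF) 8 193024 = true := by decide +kernel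
theorem k_certp_755 : allR (ckCert C nF) 8 193280 = true := by decide +kernel
theorem k_certp_756 : allR (ckCert C nF) 8 193536 = true := by decide +kernel
theorem k_certp_757 : allR (ckCert C nF) 8 193792 = true := by decide +kernel
theorem k_certp_758 : allR (ckCert C nF) 8 194048 = true := by decide +kernel
theorem k_certp_759 : allR (ckCert C nF) 8 194304 = true := by decide +kernel
theorem k_certp_760 : allR (ckCert C nF) 8 194560 = true := by decide +kernel
theorem k_certp_761 : allR (ckCert C nF) 8 194816 = true := by decide +kernel
theorem k_certp_762 : allR (ckCert C nF) 8 195072 = true := by decide +kernel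
theorem k_certp_763 : allR (ckCert C nF) 8 195328 = true := by decide +kernel
theorem k_certp_764 : allR (ckCert C nF) 8 195584 = true := by decide +kernel
theorem k_certp_765 : allR (ckCert C nF) 8 195840 = true := by decide +kernel
theorem k_certp_766 : allR (ckCert C nF) 8 196096 = true := by decide +kernel
theorem k_certp_767 : allR (ckCert C nF) 8 196352 = true := by decide +kernel
theorem k_certp_768 : allR (ckCert C nF) 8 196608 = true := by decide +kernel
theorem k_certp_769 : allR (ckCert C nF) 8 196864 = true := by decide +kernel
theorem k_certp_770 : allR (ckCert C nF) 8 197120 = true := by decide +kernel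
theorem k_certp_771 : allR (ckCert C nF) 8 197376 = true := by decide +kernel
theorem k_certp_772 : allR (ckCert C nF) 8 197632 = true := by decide +kernel
theorem k_certp_773 : allR (ckCert C nF) 8 197888 = true := by decide +kernel
theorem k_certp_774 : allR (ckCert C nF) 8 198144 = true := by decide +kernel
theorem k_certp_775 : allR (ckCert C nF) 8 198400 = true := by decide +kernel
theorem k_certp_776 : allR (ckCert C nF) 8 198656 = true := by decide +kernel
theorem k_certp_777 : allR (ckCert C nF) 8 198912 = true := by decide +kernel
theorem k_certp_778 : allR (ckCert C nF) 8 199168 = true := by decide +kernel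
theorem k_certp_779 : allR (ckCert C nF) 8 199424 = true := by decide +kernel
theorem k_certp_780 : allR (ckCert C nF) 8 199680 = true := by decide +kernel
theorem k_certp_781 : allR (ckCert C nF) 8 199936 = true := by decide +kernel
theorem k_certp_782 : allR (ckCert C nF) 8 200192 = true := by decide +kernel
theorem k_certp_783 : allR (ckCert C nF) 8 200448 = true := by decide +kernel
theorem k_certp_784 : allR (ckCert C nF) 8 200704 = true := by decide +kernel
theorem k_certp_785 : allR (ckCert C nF) 8 200960 = true := by decide +kernel
theorem k_certp_786 : allR (ckCert C nF) 8 201216 = true := by decide +kernel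
theorem k_certp_787 : allR (ckCert C nF) 8 201472 = true := by decide +kernel
theorem k_certp_788 : allR (ckCert C nF) 8 201728 = true := by decide +kernel
theorem k_certp_789 : allR (ckCert C nF) 8 201984 = true := by decide +kernel
theorem k_certp_790 : allR (ckCert C nF) 8 202240 = true := by decide +kernel
theorem k_certp_791 : allR (ckCert C nF) 8 202496 = true := by decide +kernel
theorem k_certp_792 : allR (ckCert C nF) 8 202752 = true := by decide +kernel
theorem k_certp_793 : allR (ckCert C nF) 8 203008 = true := by decide +kernel
theorem k_certp_794 : allR (ckCert C nF) 8 203264 = true := by decide +kernel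
theorem k_certp_795 : allR (ckCert C nF) 8 203520 = true := by decide +kernel
theorem k_certp_796 : allR (ckCert C nF) 8 203776 = true := by decide +kernel
theorem k_certp_797 : allR (ckCert C nF) 8 204032 = true := by decide +kernel
theorem k_certp_798 : allR (ckCert C nF) 8 204288 = true := by decide +kernel
theorem k_certp_799 : allR (ckCert C nF) 8 204544 = true := by decide +kernel
theorem k_certp_800 : allR (ckCert C nF) 8 204800 = true := by decide +kernel
theorem k_certp_801 : allR (ckCert C nF) 8 205056 = true := by decide +kernel
theorem k_certp_802 : allR (ckCert C nF) 8 205312 = true := by decide +kernel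
theorem k_certp_803 : allR (ckCert C nF) 8 205568 = true := by decide +kernel
theorem k_certp_804 : allR (ckCert C nF) 8 205824 = true := by decide +kernel
theorem k_certp_805 : allR (ckCert C nF) 8 206080 = true := by decide +kernel
theorem k_certp_806 : allR (ckCert C nF) 8 206336 = true := by decide +kernel
theorem k_certp_807 : allR (ckCert C nF) 8 206592 = true := by decide +kernel
theorem k_certp_808 : allR (ckCert C nF) 8 206848 = true := by decide +kernel
theorem k_certp_809 : allR (ckCert C nF) 8 207104 = true := by decide +kernel
theorem k_certp_810 : allR (ckCert C nF) 8 207360 = true := by decide +kernel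
theorem k_certp_811 : allR (ckCert C nF) 8 207616 = true := by decide +kernel
theorem k_certp_812 : allR (ckCert C nF) 8 207872 = true := by decide +kernel
theorem k_certp_813 : allR (ckCert C nF) 8 208128 = true := by decide +kernel
theorem k_certp_814 : allR (ckCert C nF) 8 208384 = true := by decide +kernel
theorem k_certp_815 : allR (ckCert C nF) 8 208640 = true := by decide +kernel
theorem k_certp_816 : allR (ckCert C nF) 8 208896 = true := by decide +kernel
theorem k_certp_817 : allR (ckCert C nF) 8 209152 = true := by decide +kernel
theorem k_certp_818 : allR (ckCert C nF) 8 209408 = true := by decide +kernel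
theorem k_certp_819 : allR (ckCert C nF) 8 209664 = true := by decide +kernel
theorem k_certp_820 : allR (ckCert C nF) 8 209920 = true := by decide +kernel
theorem k_certp_821 : allR (ckCert C nF) 8 210176 = true := by decide +kernel
theorem k_certp_822 : allR (ckCert C nF) 8 210432 = true := by decide +kernel
theorem k_certp_823 : allR (ckCert C nF) 8 210688 = true := by decide +kernel
theorem k_certp_824 : allR (ckCert C nF) 8 210944 = true := by decide +kernel
theorem k_certp_825 : allR (ckCert C nF) 8 211200 = true := by decide +kernel
theorem k_certp_826 : allR (ckCert C nF) 8 211456 = true := by decide +kernel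
theorem k_certp_827 : allR (ckCert C nF) 8 211712 = true := by decide +kernel
theorem k_certp_828 : allR (ckCert C nF) 8 211968 = true := by decide +kernel
theorem k_certp_829 : allR (ckCert C nF) 8 212224 = true := by decide +kernel
theorem k_certp_830 : allR (ckCert C nF) 8 212480 = true := by decide +kernel
theorem k_certp_831 : allR (ckCert C nF) 8 212736 = true := by decide +kernel
theorem k_certp_832 : allR (ckCert C nF) 8 212992 = true := by decide +kernel
theorem k_certp_833 : allR (ckCert C nF) 8 213248 = true := by decide +kernel
theorem k_certp_834 : allR (ckCert C nF) 8 213504 = true := by decide +kernel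
theorem k_certp_835 : allR (ckCert C nF) 8 213760 = true := by decide +kernel
theorem k_certp_836 : allR (ckCert C nF) 8 214016 = true := by decide +kernel
theorem k_certp_837 : allR (ckCert C nF) 8 214272 = true := by decide +kernel
theorem k_certp_838 : allR (ckCert C nF) 8 214528 = true := by decide +kernel
theorem k_certp_839 : allR (ckCert C nF) 8 214784 = true := by decide +kernel
theorem k_certp_840 : allR (ckCert C nF) 8 215040 = true := by decide +kernel
theorem k_certp_841 : allR (ckCert C nF) 8 215296 = true := by decide +kernel
theorem k_certp_842 : allR (ckCert C nF) 8 215552 = true := by decide +kernel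
theorem k_certp_843 : allR (ckCert C nF) 8 215808 = true := by decide +kernel
theorem k_certp_844 : allR (ckCert C nF) 8 216064 = true := by decide +kernel
theorem k_certp_845 : allR (ckCert C nF) 8 216320 = true := by decide +kernel
theorem k_certp_846 : allR (ckCert C nF) 8 216576 = true := by decide +kernel
theorem k_certp_847 : allR (ckCert C nF) 8 216832 = true := by decide +kernel
theorem k_certp_848 : allR (ckCert C nF) 8 217088 = true := by decide +kernel
theorem k_certp_849 : allR (ckCert C nF) 8 217344 = true := by decide +kernel
theorem k_certp_850 : allR (ckCert C nF) 8 217600 = true := by decide +kernel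
theorem k_certp_851 : allR (ckCert C nF) 8 217856 = true := by decide +kernel
theorem k_certp_852 : allR (ckCert C nF) 8 218112 = true := by decide +kernel
theorem k_certp_853 : allR (ckCert C nF) 8 218368 = true := by decide +kernel
theorem k_certp_854 : allR (ckCert C nF) 8 218624 = true := by decide +kernel
theorem k_certp_855 : allR (ckCert C nF) 8 218880 = true := by decide +kernel
theorem k_certp_856 : allR (ckCert C nF) 8 219136 = true := by decide +kernel
theorem k_certp_857 : allR (ckCert C nF) 8 219392 = true := by decide +kernel
theorem k_certp_858 : allR (ckCert C nF) 8 219648 = true := by decide +kernel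
theorem k_certp_859 : allR (ckCert C nF) 8 219904 = true := by decide +kernel
theorem k_certp_860 : allR (ckCert C nF) 8 220160 = true := by decide +kernel
theorem k_certp_861 : allR (ckCert C nF) 8 220416 = true := by decide +kernel
theorem k_certp_862 : allR (ckCert C nF) 8 220672 = true := by decide +kernel
theorem k_certp_863 : allR (ckCert C nF) 8 220928 = true := by decide +kernel
theorem k_certp_864 : allR (ckCert C nF) 8 221184 = true := by decide +kernel
theorem k_certp_865 : allR (ckCert C nF) 8 221440 = true := by decide +kernel
theorem k_certp_866 : allR (ckCert C nF) 8 221696 = true := by decide +kernel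
theorem k_certp_867 : allR (ckCert C nF) 8 221952 = true := by decide +kernel
theorem k_certp_868 : allR (ckCert C nF) 8 222208 = true := by decide +kernel
theorem k_certp_869 : allR (ckCert C nF) 8 222464 = true := by decide +kernel
theorem k_certp_870 : allR (ckCert C nF) 8 222720 = true := by decide +kernel
theorem k_certp_871 : allR (ckCert C nF) 8 222976 = true := by decide +kernel
theorem k_certp_872 : allR (ckCert C nF) 8 223232 = true := by decide +kernel
theorem k_certp_873 : allR (ckCert C nF) 8 223488 = true := by decide +kernel
theorem k_certp_874 : allR (ckCert C nF) 8 223744 = true := by decide +kernel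
theorem k_certp_875 : allR (ckCert C nF) 8 224000 = true := by decide +kernel
theorem k_certp_876 : allR (ckCert C nF) 8 224256 = true := by decide +kernel
theorem k_certp_877 : allR (ckCert C nF) 8 224512 = true := by decide +kernel
theorem k_certp_878 : allR (ckCert C nF) 8 224768 = true := by decide +kernel
theorem k_certp_879 : allR (ckCert C nF) 8 225024 = true := by decide +kernel
theorem k_certp_880 : allR (ckCert C nF) 8 225280 = true := by decide +kernel
theorem k_certp_881 : allR (ckCert C nF) 8 225536 = true := by decide +kernel
theorem k_certp_882 : allR (ckCert C nF) 8 225792 = true := by decide +kernel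
theorem k_certp_883 : allR (ckCert C nF) 8 226048 = true := by decide +kernel
theorem k_certp_884 : allR (ckCert C nF) 8 226304 = true := by decide +kernel
theorem k_certp_885 : allR (ckCert C nF) 8 226560 = true := by decide +kernel
theorem k_certp_886 : allR (ckCert C nF) 8 226816 = true := by decide +kernel
theorem k_certp_887 : allR (ckCert C nF) 8 227072 = true := by decide +kernel
theorem k_certp_888 : allR (ckCert C nF) 8 227328 = true := by decide +kernel
theorem k_certp_889 : allR (ckCert C nF) 8 227584 = true := by decide +kernel
theorem k_certp_890 : allR (ckCert C nF) 8 227840 = true := by decide +kernel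
theorem k_certp_891 : allR (ckCert C nF) 8 228096 = true := by decide +kernel
theorem k_certp_892 : allR (ckCert C nF) 8 228352 = true := by decide +kernel
theorem k_certp_893 : allR (ckCert C nF) 8 228608 = true := by decide +kernel
theorem k_certp_894 : allR (ckCert C nF) 8 228864 = true := by decide +kernel
theorem k_certp_895 : allR (ckCert C nF) 8 229120 = true := by decide +kernel
theorem k_certp_896 : allR (ckCert C nF) 8 229376 = true := by decide +kernel
theorem k_certp_897 : allR (ckCert C nF) 8 229632 = true := by decide +kernel
theorem k_certp_898 : allR (ckCert C nF) 8 229888 = true := by decide +kernel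
theorem k_certp_899 : allR (ckCert C nF) 8 230144 = true := by decide +kernel
theorem k_certp_900 : allR (ckCert C nF) 8 230400 = true := by decide +kernel
theorem k_certp_901 : allR (ckCert C nF) 8 230656 = true := by decide +kernel
theorem k_certp_902 : allR (ckCert C nF) 8 230912 = true := by decide +kernel
theorem k_certp_903 : allR (ckCert C nF) 8 231168 = true := by decide +kernel
theorem k_certp_904 : allR (ckCert C nF) 8 231424 = true := by decide +kernel
theorem k_certp_905 : allR (ckCert C nF) 8 231680 = true := by decide +kernel
theorem k_certp_906 : allR (ckCert C nF) 8 231936 = true := by decide +kernel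
theorem k_certp_907 : allR (ckCert C nF) 8 232192 = true := by decide +kernel
theorem k_certp_908 : allR (ckCert C nF) 8 232448 = true := by decide +kernel
theorem k_certp_909 : allR (ckCert C nF) 8 232704 = true := by decide +kernel
theorem k_certp_910 : allR (ckCert C nF) 8 232960 = true := by decide +kernel
theorem k_certp_911 : allR (ckCert C nF) 8 233216 = true := by decide +kernel
theorem k_certp_912 : allR (ckCert C nF) 8 233472 = true := by decide +kernel
theorem k_certp_913 : allR (ckCert C nF) 8 233728 = true := by decide +kernel
theorem k_certp_914 : allR (ckCert C nF) 8 233984 = true := by decide +kernel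
theorem k_certp_915 : allR (ckCert C nF) 8 234240 = true := by decide +kernel
theorem k_certp_916 : allR (ckCert C nF) 8 234496 = true := by decide +kernel
theorem k_certp_917 : allR (ckCert C nF) 8 234752 = true := by decide +kernel
theorem k_certp_918 : allR (ckCert C nF) 8 235008 = true := by decide +kernel
theorem k_certp_919 : allR (ckCert C nF) 8 235264 = true := by decide +kernel
theorem k_certp_920 : allR (ckCert C nF) 8 235520 = true := by decide +kernel
theorem k_certp_921 : allR (ckCert C nF) 8 235776 = true := by decide +kernel
theorem k_certp_922 : allR (ckCert C nF) 8 236032 = true := by decide +kernel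
theorem k_certp_923 : allR (ckCert C nF) 8 236288 = true := by decide +kernel
theorem k_certp_924 : allR (ckCert C nF) 8 236544 = true := by decide +kernel
theorem k_certp_925 : allR (ckCert C nF) 8 236800 = true := by decide +kernel
theorem k_certp_926 : allR (ckCert C nF) 8 237056 = true := by decide +kernel
theorem k_certp_927 : allR (ckCert C nF) 8 237312 = true := by decide +kernel
theorem k_certp_928 : allR (ckCert C nF) 8 237568 = true := by decide +kernel
theorem k_certp_929 : allR (ckCert C nF) 8 237824 = true := by decide +kernel
theorem k_certp_930 : allR (ckCert C nF) 8 238080 = true := by decide +kernel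
theorem k_certp_931 : allR (ckCert C nF) 8 238336 = true := by decide +kernel
theorem k_certp_932 : allR (ckCert C nF) 8 238592 = true := by decide +kernel
theorem k_certp_933 : allR (ckCert C nF) 8 238848 = true := by decide +kernel
theorem k_certp_934 : allR (ckCert C nF) 8 239104 = true := by decide +kernel
theorem k_certp_935 : allR (ckCert C nF) 8 239360 = true := by decide +kernel
theorem k_certp_936 : allR (ckCert C nF) 8 239616 = true := by decide +kernel
theorem k_certp_937 : allR (ckCert C nF) 8 239872 = true := by decide +kernel
theorem k_certp_938 : allR (ckCert C nF) 8 240128 = true := by decide +kernel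
theorem k_certp_939 : allR (ckCert C nF) 8 240384 = true := by decide +kernel
theorem k_certp_940 : allR (ckCert C nF) 8 240640 = true := by decide +kernel
theorem k_certp_941 : allR (ckCert C nF) 8 240896 = true := by decide +kernel
theorem k_certp_942 : allR (ckCert C nF) 8 241152 = true := by decide +kernel
theorem k_certp_943 : allR (ckCert C nF) 8 241408 = true := by decide +kernel
theorem k_certp_944 : allR (ckCert C nF) 8 241664 = true := by decide +kernel
theorem k_certp_945 : allR (ckCert C nF) 8 241920 = true := by decide +kernel
theorem k_certp_946 : allR (ckCert C nF) 8 242176 = true := by decide +kernel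
theorem k_certp_947 : allR (ckCert C nF) 8 242432 = true := by decide +kernel
theorem k_certp_948 : allR (ckCert C nF) 8 242688 = true := by decide +kernel
theorem k_certp_949 : allR (ckCert C nF) 8 242944 = true := by decide +kernel
theorem k_certp_950 : allR (ckCert C nF) 8 243200 = true := by decide +kernel
theorem k_certp_951 : allR (ckCert C nF) 8 243456 = true := by decide +kernel
theorem k_certp_952 : allR (ckCert C nF) 8 243712 = true := by decide +kernel
theorem k_certp_953 : allR (ckCert C nF) 8 243968 = true := by decide +kernel
theorem k_certp_954 : allR (ckCert C nF) 8 244224 = true := by decide +kernel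
theorem k_certp_955 : allR (ckCert C nF) 8 244480 = true := by decide +kernel
theorem k_certp_956 : allR (ckCert C nF) 8 244736 = true := by decide +kernel
theorem k_certp_957 : allR (ckCert C nF) 8 244992 = true := by decide +kernel
theorem k_certp_958 : allR (ckCert C nF) 8 245248 = true := by decide +kernel
theorem k_certp_959 : allR (ckCert C nF) 8 245504 = true := by decide +kernel
theorem k_certp_960 : allR (ckCert C nF) 8 245760 = true := by decide +kernel
theorem k_certp_961 : allR (ckCert C nF) 8 246016 = true := by decide +kernel
theorem k_certp_962 : allR (ckCert C nF) 8 246272 = true := by decide +kernel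
theorem k_certp_963 : allR (ckCert C nF) 8 246528 = true := by decide +kernel
theorem k_certp_964 : allR (ckCert C nF) 8 246784 = true := by decide +kernel
theorem k_certp_965 : allR (ckCert C nF) 8 247040 = true := by decide +kernel
theorem k_certp_966 : allR (ckCert C nF) 8 247296 = true := by decide +kernel
theorem k_certp_967 : allR (ckCert C nF) 8 247552 = true := by decide +kernel
theorem k_certp_968 : allR (ckCert C nF) 8 247808 = true := by decide +kernel
theorem k_certp_969 : allR (ckCert C nF) 8 248064 = true := by decide +kernel
theorem k_certp_970 : allR (ckCert C nF) 8 248320 = true := by decide +kernel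
theorem k_certp_971 : allR (ckCert C nF) 8 248576 = true := by decide +kernel
theorem k_certp_972 : allR (ckCert C nF) 8 248832 = true := by decide +kernel
theorem k_certp_973 : allR (ckCert C nF) 8 249088 = true := by decide +kernel
theorem k_certp_974 : allR (ckCert C nF) 8 249344 = true := by decide +kernel
theorem k_certp_975 : allR (ckCert C nF) 8 249600 = true := by decide +kernel
theorem k_certp_976 : allR (ckCert C nF) 8 249856 = true := by decide +kernel
theorem k_certp_977 : allR (ckCert C nF) 8 250112 = true := by decide +kernel
theorem k_certp_978 : allR (ckCert C nF) 8 250368 = true := by decide +kernel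
theorem k_certp_979 : allR (ckCert C nF) 8 250624 = true := by decide +kernel
theorem k_certp_980 : allR (ckCert C nF) 8 250880 = true := by decide +kernel
theorem k_certp_981 : allR (ckCert C nF) 8 251136 = true := by decide +kernel
theorem k_certp_982 : allR (ckCert C nF) 8 251392 = true := by decide +kernel
theorem k_certp_983 : allR (ckCert C nF) 8 251648 = true := by decide +kernel
theorem k_certp_984 : allR (ckCert C nF) 8 251904 = true := by decide +kernel
theorem k_certp_985 : allR (ckCert C nF) 8 252160 = true := by decide +kernel
theorem k_certp_986 : allR (ckCert C nF) 8 252416 = true := by decide +kernel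
theorem k_certp_987 : allR (ckCert C nF) 8 252672 = true := by decide +kernel
theorem k_certp_988 : allR (ckCert C nF) 8 252928 = true := by decide +kernel
theorem k_certp_989 : allR (ckCert C nF) 8 253184 = true := by decide +kernel
theorem k_certp_990 : allR (ckCert C nF) 8 253440 = true := by decide +kernel
theorem k_certp_991 : allR (ckCert C nF) 8 253696 = true := by decide +kernel
theorem k_certp_992 : allR (ckCert C nF) 8 253952 = true := by decide +kernel
theorem k_certp_993 : allR (ckCert C nF) 8 254208 = true := by decide +kernel
theorem k_certp_994 : allR (ckCert C nF) 8 254464 = true := by decide +kernel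
theorem k_certp_995 : allR (ckCert C nF) 8 254720 = true := by decide +kernel
theorem k_certp_996 : allR (ckCert C nF) 8 254976 = true := by decide +kernel
theorem k_certp_997 : allR (ckCert C nF) 8 255232 = true := by decide +kernel
theorem k_certp_998 : allR (ckCert C nF) 8 255488 = true := by decide +kernel
theorem k_certp_999 : allR (ckCert C nF) 8 255744 = true := by decide +kernel
theorem k_certp_1000 : allR (ckCert C nF) 8 256000 = true := by decide +kernel
theorem k_certp_1001 : allR (ckCert C nF) 8 256256 = true := by decide +kernel
theorem k_certp_1002 : allR (ckCert C nF) 8 256512 = true := by decide +kernel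
theorem k_certp_1003 : allR (ckCert C nF) 8 256768 = true := by decide +kernel
theorem k_certp_1004 : allR (ckCert C nF) 8 257024 = true := by decide +kernel
theorem k_certp_1005 : allR (ckCert C nF) 8 257280 = true := by decide +kernel
theorem k_certp_1006 : allR (ckCert C nF) 8 257536 = true := by decide +kernel
theorem k_certp_1007 : allR (ckCert C nF) 8 257792 = true := by decide +kernel
theorem k_certp_1008 : allR (ckCert C nF) 8 258048 = true := by decide +kernel
theorem k_certp_1009 : allR (ckCert C nF) 8 258304 = true := by decide +kernel
theorem k_certp_1010 : allR (ckCert C nF) 8 258560 = true := by decide +kernel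
theorem k_certp_1011 : allR (ckCert C nF) 8 258816 = true := by decide +kernel
theorem k_certp_1012 : allR (ckCert C nF) 8 259072 = true := by decide +kernel
theorem k_certp_1013 : allR (ckCert C nF) 8 259328 = true := by decide +kernel
theorem k_certp_1014 : allR (ckCert C nF) 8 259584 = true := by decide +kernel
theorem k_certp_1015 : allR (ckCert C nF) 8 259840 = true := by decide +kernel
theorem k_certp_1016 : allR (ckCert C nF) 8 260096 = true := by decide +kernel
theorem k_certp_1017 : allR (ckCert C nF) 8 260352 = true := by decide +kernel
theorem k_certp_1018 : allR (ckCert C nF) 8 260608 = true := by decide +kernel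
theorem k_certp_1019 : allR (ckCert C nF) 8 260864 = true := by decide +kernel
theorem k_certp_1020 : allR (ckCert C nF) 8 261120 = true := by decide +kernel
theorem k_certp_1021 : allR (ckCert C nF) 8 261376 = true := by decide +kernel
theorem k_certp_1022 : allR (ckCert C nF) 8 261632 = true := by decide +kernel
theorem k_certp_1023 : allR (ckCert C nF) 8 261888 = true := by decide +kernel
theorem k_finp_0 : allR (ckFin C 4 nn nF can fin T) 10 0 = true := by decide +kernel
theorem k_finp_1 : allR (ckFin C 4 nn nF can fin T) 10 1024 = true := by decide +kernel
theorem k_finp_2 : allR (ckFin C 4 nn nF can fin T) 10 2048 = true := by decide +kernel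
theorem k_finp_3 : allR (ckFin C 4 nn nF can fin T) 10 3072 = true := by decide +kernel
theorem k_finp_4 : allR (ckFin C 4 nn nF can fin T) 10 4096 = true := by decide +kernel
theorem k_finp_5 : allR (ckFin C 4 nn nF can fin T) 10 5120 = true := by decide +kernel
theorem k_finp_6 : allR (ckFin C 4 nn nF can fin T) 10 6144 = true := by decide +kernel

end Cfsg.Agent.Lib.Helper77.TCS.H3
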