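import Cfsg.Agent.Lib.Helper77.TCSH3T

set_option autoImplicit false
set_option maxRecDepth 1000000
set_option linter.unusedVariables false
set_option Elab.async false

namespace Cfsg.Agent.Lib.Helper77.TCS.H3

open Cfsg.Agent.Lib.Helper25.TC

theorem k_finp_7 : allR (ckFin C 4 nn nF can fin T) 10 7168 = true := by decide +kernel
theorem k_finp_8 : allR (ckFin C 4 nn nF can fin T) 10 8192 = true := by decide +kernel
theorem k_finp_9 : allR (ckFin C 4 nn nF can fin T) 10 9216 = true := by decide +kernel
theorem k_finp_10 : allR (ckFin C 4 nn nF can fin T) 10 10240 = true := by decide +kernel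
theorem k_finp_11 : allR (ckFin C 4 nn nF can fin T) 10 11264 = true := by decide +kernel
theorem k_finp_12 : allR (ckFin C 4 nn nF can fin T) 10 12288 = true := by decide +kernel
theorem k_finp_13 : allR (ckFin C 4 nn nF can fin T) 10 13312 = true := by decide +kernel
theorem k_finp_14 : allR (ckFin C 4 nn nF can fin T) 10 14336 = true := by decide +kernel
theorem k_finp_15 : allR (ckFin C 4 nn nF can fin T) 10 15360 = true := by decide +kernel
theorem k_finp_16 : allR (ckFin C 4 nn nF can fin T) 10 16384 = true := by decide +kernel
theorem k_finp_17 : allR (ckFin C 4 nn nF can fin T) 10 17408 = true := by decide +kernel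
theorem k_finp_18 : allR (ckFin C 4 nn nF can fin T) 10 18432 = true := by decide +kernel
theorem k_finp_19 : allR (ckFin C 4 nn nF can fin T) 10 19456 = true := by decide +kernel
theorem k_finp_20 : allR (ckFin C 4 nn nF can fin T) 10 20480 = true := by decide +kernel
theorem k_finp_21 : allR (ckFin C 4 nn nF can fin T) 10 21504 = true := by decide +kernel
theorem k_finp_22 : allR (ckFin C 4 nn nF can fin T) 10 22528 = true := by decide +kernel
theorem k_finp_23 : allR (ckFin C 4 nn nF can fin T) 10 23552 = true := by decide +kernel
theorem k_finp_24 : allR (ckFin C 4 nn nF can fin T) 10 24576 = true := by decide +kernel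
theorem k_finp_25 : allR (ckFin C 4 nn nF can fin T) 10 25600 = true := by decide +kernel
theorem k_finp_26 : allR (ckFin C 4 nn nF can fin T) 10 26624 = true := by decide +kernel
theorem k_finp_27 : allR (ckFin C 4 nn nF can fin T) 10 27648 = true := by decide +kernel
theorem k_finp_28 : allR (ckFin C 4 nn nF can fin T) 10 28672 = true := by decide +kernel
theorem k_finp_29 : allR (ckFin C 4 nn nF can fin T) 10 29696 = true := by decide +kernel
theorem k_finp_30 : allR (ckFin C 4 nn nF can fin T) 10 30720 = true := by decide +kernel
theorem k_finp_31 : allR (ckFin C 4 nn nF can fin T) 10 31744 = true := by decide +kernel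
theorem k_tblp_0 : allR (ckTbl 4 nn T) 10 0 = true := by decide +kernel
theorem k_tblp_1 : allR (ckTbl 4 nn T) 10 1024 = true := by decide +kernel
theorem k_tblp_2 : allR (ckTbl 4 nn T) 10 2048 = true := by decide +kernel
theorem k_tblp_3 : allR (ckTbl 4 nn T) 10 3072 = true := by decide +kernel
theorem k_tblp_4 : allR (ckTbl 4 nn T) 10 4096 = true := by decide +kernel
theorem k_tblp_5 : allR (ckTbl 4 nn T) 10 5120 = true := by decide +kernel
theorem k_tblp_6 : allR (ckTbl 4 nn T) 10 6144 = true := by decide +kernel
theorem k_tblp_7 : allR (ckTbl 4 nn T) 10 7168 = true := by decide +kernel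
theorem k_tblp_8 : allR (ckTbl 4 nn T) 10 8192 = true := by decide +kernel
theorem k_tblp_9 : allR (ckTbl 4 nn T) 10 9216 = true := by decide +kernel
theorem k_tblp_10 : allR (ckTbl 4 nn T) 10 10240 = true := by decide +kernel
theorem k_tblp_11 : allR (ckTbl 4 nn T) 10 11264 = true := by decide +kernel
theorem k_tblp_12 : allR (ckTbl 4 nn T) 10 12288 = true := by decide +kernel
theorem k_tblp_13 : allR (ckTbl 4 nn T) 10 13312 = true := by decide +kernel
theorem k_tblp_14 : allR (ckTbl 4 nn T) 10 14336 = true := by decide +kernel

end Cfsg.Agent.Lib.Helper77.TCS.H3
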