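import Cfsg.Agent.Lib.Helper77.TCSH3T

set_option autoImplicit false
set_option maxRecDepth 1000000
set_option linter.unusedVariables false
set_option Elab.async false

namespace Cfsg.Agent.Lib.Helper77.TCS.H3

open Cfsg.Agent.Lib.Helper25.TC

theorem k_certp_68 : allR (ckCert C nF) 8 17408 = true := by decide +kernel
theorem k_certp_69 : allR (ckCert C nF) 8 17664 = true := by decide +kernel
theorem k_certp_70 : allR (ckCert C nF) 8 17920 = true := by decide +kernel
theorem k_certp_71 : allR (ckCert C nF) 8 18176 = true := by decide +kernel
theorem k_certp_72 : allR (ckCert C nF) 8 18432 = true := by decide +kernel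
theorem k_certp_73 : allR (ckCert C nF) 8 18688 = true := by decide +kernel
theorem k_certp_74 : allR (ckCert C nF) 8 18944 = true := by decide +kernel
theorem k_certp_75 : allR (ckCert C nF) 8 19200 = true := by decide +kernel
theorem k_certp_76 : allR (ckCert C nF) 8 19456 = true := by decide +kernel
theorem k_certp_77 : allR (ckCert C nF) 8 19712 = true := by decide +kernel
theorem k_certp_78 : allR (ckCert C nF) 8 19968 = true := by decide +kernel
theorem k_certp_79 : allR (ckCert C nF) 8 20224 = true := by decide +kernel
theorem k_certp_80 : allR (ckCert C nF) 8 20480 = true := by decide +kernel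
theorem k_certp_81 : allR (ckCert C nF) 8 20736 = true := by decide +kernel
theorem k_certp_82 : allR (ckCert C nF) 8 20992 = true := by decide +kernel
theorem k_certp_83 : allR (ckCert C nF) 8 21248 = true := by decide +kernel
theorem k_certp_84 : allR (ckCert C nF) 8 21504 = true := by decide +kernel
theorem k_certp_85 : allR (ckCert C nF) 8 21760 = true := by decide +kernel
theorem k_certp_86 : allR (ckCert C nF) 8 22016 = true := by decide +kernel
theorem k_certp_87 : allR (ckCert C nF) 8 22272 = true := by decide +kernel
theorem k_certp_88 : allR (ckCert C nF) 8 22528 = true := by decide +kernel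
theorem k_certp_89 : allR (ckCert C nF) 8 22784 = true := by decide +kernel
theorem k_certp_90 : allR (ckCert C nF) 8 23040 = true := by decide +kernel
theorem k_certp_91 : allR (ckCert C nF) 8 23296 = true := by decide +kernel
theorem k_certp_92 : allR (ckCert C nF) 8 23552 = true := by decide +kernel
theorem k_certp_93 : allR (ckCert C nF) 8 23808 = true := by decide +kernel
theorem k_certp_94 : allR (ckCert C nF) 8 24064 = true := by decide +kernel
theorem k_certp_95 : allR (ckCert C nF) 8 24320 = true := by decide +kernel
theorem k_certp_96 : allR (ckCert C nF) 8 24576 = true := by decide +kernel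
theorem k_certp_97 : allR (ckCert C nF) 8 24832 = true := by decide +kernel
theorem k_certp_98 : allR (ckCert C nF) 8 25088 = true := by decide +kernel
theorem k_certp_99 : allR (ckCert C nF) 8 25344 = true := by decide +kernel
theorem k_certp_100 : allR (ckCert C nF) 8 25600 = true := by decide +kernel
theorem k_certp_101 : allR (ckCert C nF) 8 25856 = true := by decide +kernel

end Cfsg.Agent.Lib.Helper77.TCS.H3
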