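import Cfsg.Agent.Lib.Helper77.TCSH3T

set_option autoImplicit false
set_option maxRecDepth 1000000
set_option linter.unusedVariables false
set_option Elab.async false

namespace Cfsg.Agent.Lib.Helper77.TCS.H3

open Cfsg.Agent.Lib.Helper25.TC

theorem k_certp_102 : allR (ckCert C nF) 8 26112 = true := by decide +kernel
theorem k_certp_103 : allR (ckCert C nF) 8 26368 = true := by decide +kernel
theorem k_certp_104 : allR (ckCert C nF) 8 26624 = true := by decide +kernel
theorem k_certp_105 : allR (ckCert C nF) 8 26880 = true := by decide +kernel
theorem k_certp_106 : allR (ckCert C nF) 8 27136 = true := by decide +kernel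
theorem k_certp_107 : allR (ckCert C nF) 8 27392 = true := by decide +kernel
theorem k_certp_108 : allR (ckCert C nF) 8 27648 = true := by decide +kernel
theorem k_certp_109 : allR (ckCert C nF) 8 27904 = true := by decide +kernel
theorem k_certp_110 : allR (ckCert C nF) 8 28160 = true := by decide +kernel
theorem k_certp_111 : allR (ckCert C nF) 8 28416 = true := by decide +kernel
theorem k_certp_112 : allR (ckCert C nF) 8 28672 = true := by decide +kernel
theorem k_certp_113 : allR (ckCert C nF) 8 28928 = true := by decide +kernel
theorem k_certp_114 : allR (ckCert C nF) 8 29184 = true := by decide +kernel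
theorem k_certp_115 : allR (ckCert C nF) 8 29440 = true := by decide +kernel
theorem k_certp_116 : allR (ckCert C nF) 8 29696 = true := by decide +kernel
theorem k_certp_117 : allR (ckCert C nF) 8 29952 = true := by decide +kernel
theorem k_certp_118 : allR (ckCert C nF) 8 30208 = true := by decide +kernel
theorem k_certp_119 : allR (ckCert C nF) 8 30464 = true := by decide +kernel
theorem k_certp_120 : allR (ckCert C nF) 8 30720 = true := by decide +kernel
theorem k_certp_121 : allR (ckCert C nF) 8 30976 = true := by decide +kernel
theorem k_certp_122 : allR (ckCert C nF) 8 31232 = true := by decide +kernel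
theorem k_certp_123 : allR (ckCert C nF) 8 31488 = true := by decide +kernel
theorem k_certp_124 : allR (ckCert C nF) 8 31744 = true := by decide +kernel
theorem k_certp_125 : allR (ckCert C nF) 8 32000 = true := by decide +kernel
theorem k_certp_126 : allR (ckCert C nF) 8 32256 = true := by decide +kernel
theorem k_certp_127 : allR (ckCert C nF) 8 32512 = true := by decide +kernel
theorem k_certp_128 : allR (ckCert C nF) 8 32768 = true := by decide +kernel
theorem k_certp_129 : allR (ckCert C nF) 8 33024 = true := by decide +kernel
theorem k_certp_130 : allR (ckCert C nF) 8 33280 = true := by decide +kernel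
theorem k_certp_131 : allR (ckCert C nF) 8 33536 = true := by decide +kernel
theorem k_certp_132 : allR (ckCert C nF) 8 33792 = true := by decide +kernel
theorem k_certp_133 : allR (ckCert C nF) 8 34048 = true := by decide +kernel
theorem k_certp_134 : allR (ckCert C nF) 8 34304 = true := by decide +kernel
theorem k_certp_135 : allR (ckCert C nF) 8 34560 = true := by decide +kernel

end Cfsg.Agent.Lib.Helper77.TCS.H3
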