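import Cfsg.Agent.Lib.Helper77.TCSH3T

set_option autoImplicit false
set_option maxRecDepth 1000000
set_option linter.unusedVariables false
set_option Elab.async false

namespace Cfsg.Agent.Lib.Helper77.TCS.H3

open Cfsg.Agent.Lib.Helper25.TC

theorem k_certp_136 : allR (ckCert C nF) 8 34816 = true := by decide +kernel
theorem k_certp_137 : allR (ckCert C nF) 8 35072 = true := by decide +kernel
theorem k_certp_138 : allR (ckCert C nF) 8 35328 = true := by decide +kernel
theorem k_certp_139 : allR (ckCert C nF) 8 35584 = true := by decide +kernel
theorem k_certp_140 : allR (ckCert C nF) 8 35840 = true := by decide +kernel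
theorem k_certp_141 : allR (ckCert C nF) 8 36096 = true := by decide +kernel
theorem k_certp_142 : allR (ckCert C nF) 8 36352 = true := by decide +kernel
theorem k_certp_143 : allR (ckCert C nF) 8 36608 = true := by decide +kernel
theorem k_certp_144 : allR (ckCert C nF) 8 36864 = true := by decide +kernel
theorem k_certp_145 : allR (ckCert C nF) 8 37120 = true := by decide +kernel
theorem k_certp_146 : allR (ckCert C nF) 8 37376 = true := by decide +kernel
theorem k_certp_147 : allR (ckCert C nF) 8 37632 = true := by decide +kernel
theorem k_certp_148 : allR (ckCert C nF) 8 37888 = true := by decide +kernel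
theorem k_certp_149 : allR (ckCert C nF) 8 38144 = true := by decide +kernel
theorem k_certp_150 : allR (ckCert C nF) 8 38400 = true := by decide +kernel
theorem k_certp_151 : allR (ckCert C nF) 8 38656 = true := by decide +kernel
theorem k_certp_152 : allR (ckCert C nF) 8 38912 = true := by decide +kernel
theorem k_certp_153 : allR (ckCert C nF) 8 39168 = true := by decide +kernel
theorem k_certp_154 : allR (ckCert C nF) 8 39424 = true := by decide +kernel
theorem k_certp_155 : allR (ckCert C nF) 8 39680 = true := by decide +kernel
theorem k_certp_156 : allR (ckCert C nF) 8 39936 = true := by decide +kernel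
theorem k_certp_157 : allR (ckCert C nF) 8 40192 = true := by decide +kernel
theorem k_certp_158 : allR (ckCert C nF) 8 40448 = true := by decide +kernel
theorem k_certp_159 : allR (ckCert C nF) 8 40704 = true := by decide +kernel
theorem k_certp_160 : allR (ckCert C nF) 8 40960 = true := by decide +kernel
theorem k_certp_161 : allR (ckCert C nF) 8 41216 = true := by decide +kernel
theorem k_certp_162 : allR (ckCert C nF) 8 41472 = true := by decide +kernel
theorem k_certp_163 : allR (ckCert C nF) 8 41728 = true := by decide +kernel
theorem k_certp_164 : allR (ckCert C nF) 8 41984 = true := by decide +kernel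
theorem k_certp_165 : allR (ckCert C nF) 8 42240 = true := by decide +kernel
theorem k_certp_166 : allR (ckCert C nF) 8 42496 = true := by decide +kernel
theorem k_certp_167 : allR (ckCert C nF) 8 42752 = true := by decide +kernel
theorem k_certp_168 : allR (ckCert C nF) 8 43008 = true := by decide +kernel
theorem k_certp_169 : allR (ckCert C nF) 8 43264 = true := by decide +kernel

end Cfsg.Agent.Lib.Helper77.TCS.H3
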