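import Cfsg.Agent.Lib.Helper77.TCSH3T

set_option autoImplicit false
set_option maxRecDepth 1000000
set_option linter.unusedVariables false
set_option Elab.async false

namespace Cfsg.Agent.Lib.Helper77.TCS.H3

open Cfsg.Agent.Lib.Helper25.TC

theorem k_certp_170 : allR (ckCert C nF) 8 43520 = true := by decide +kernel
theorem k_certp_171 : allR (ckCert C nF) 8 43776 = true := by decide +kernel
theorem k_certp_172 : allR (ckCert C nF) 8 44032 = true := by decide +kernel
theorem k_certp_173 : allR (ckCert C nF) 8 44288 = true := by decide +kernel
theorem k_certp_174 : allR (ckCert C nF) 8 44544 = true := by decide +kernel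
theorem k_certp_175 : allR (ckCert C nF) 8 44800 = true := by decide +kernel
theorem k_certp_176 : allR (ckCert C nF) 8 45056 = true := by decide +kernel
theorem k_certp_177 : allR (ckCert C nF) 8 45312 = true := by decide +kernel
theorem k_certp_178 : allR (ckCert C nF) 8 45568 = true := by decide +kernel
theorem k_certp_179 : allR (ckCert C nF) 8 45824 = true := by decide +kernel
theorem k_certp_180 : allR (ckCert C nF) 8 46080 = true := by decide +kernel
theorem k_certp_181 : allR (ckCert C nF) 8 46336 = true := by decide +kernel
theorem k_certp_182 : allR (ckCert C nF) 8 46592 = true := by decide +kernel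
theorem k_certp_183 : allR (ckCert C nF) 8 46848 = true := by decide +kernel
theorem k_certp_184 : allR (ckCert C nF) 8 47104 = true := by decide +kernel
theorem k_certp_185 : allR (ckCert C nF) 8 47360 = true := by decide +kernel
theorem k_certp_186 : allR (ckCert C nF) 8 47616 = true := by decide +kernel
theorem k_certp_187 : allR (ckCert C nF) 8 47872 = true := by decide +kernel
theorem k_certp_188 : allR (ckCert C nF) 8 48128 = true := by decide +kernel
theorem k_certp_189 : allR (ckCert C nF) 8 48384 = true := by decide +kernel
theorem k_certp_190 : allR (ckCert C nF) 8 48640 = true := by decide +kernel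
theorem k_certp_191 : allR (ckCert C nF) 8 48896 = true := by decide +kernel
theorem k_certp_192 : allR (ckCert C nF) 8 49152 = true := by decide +kernel
theorem k_certp_193 : allR (ckCert C nF) 8 49408 = true := by decide +kernel
theorem k_certp_194 : allR (ckCert C nF) 8 49664 = true := by decide +kernel
theorem k_certp_195 : allR (ckCert C nF) 8 49920 = true := by decide +kernel
theorem k_certp_196 : allR (ckCert C nF) 8 50176 = true := by decide +kernel
theorem k_certp_197 : allR (ckCert C nF) 8 50432 = true := by decide +kernel
theorem k_certp_198 : allR (ckCert C nF) 8 50688 = true := by decide +kernel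
theorem k_certp_199 : allR (ckCert C nF) 8 50944 = true := by decide +kernel
theorem k_certp_200 : allR (ckCert C nF) 8 51200 = true := by decide +kernel
theorem k_certp_201 : allR (ckCert C nF) 8 51456 = true := by decide +kernel
theorem k_certp_202 : allR (ckCert C nF) 8 51712 = true := by decide +kernel
theorem k_certp_203 : allR (ckCert C nF) 8 51968 = true := by decide +kernel

end Cfsg.Agent.Lib.Helper77.TCS.H3
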