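import Cfsg.Agent.Lib.Helper77.TCSH3T

set_option autoImplicit false
set_option maxRecDepth 1000000
set_option linter.unusedVariables false
set_option Elab.async false

namespace Cfsg.Agent.Lib.Helper77.TCS.H3

open Cfsg.Agent.Lib.Helper25.TC

theorem k_certp_204 : allR (ckCert C nF) 8 52224 = true := by decide +kernel
theorem k_certp_205 : allR (ckCert C nF) 8 52480 = true := by decide +kernel
theorem k_certp_206 : allR (ckCert C nF) 8 52736 = true := by decide +kernel
theorem k_certp_207 : allR (ckCert C nF) 8 52992 = true := by decide +kernel
theorem k_certp_208 : allR (ckCert C nF) 8 53248 = true := by decide +kernel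
theorem k_certp_209 : allR (ckCert C nF) 8 53504 = true := by decide +kernel
theorem k_certp_210 : allR (ckCert C nF) 8 53760 = true := by decide +kernel
theorem k_certp_211 : allR (ckCert C nF) 8 54016 = true := by decide +kernel
theorem k_certp_212 : allR (ckCert C nF) 8 54272 = true := by decide +kernel
theorem k_certp_213 : allR (ckCert C nF) 8 54528 = true := by decide +kernel
theorem k_certp_214 : allR (ckCert C nF) 8 54784 = true := by decide +kernel
theorem k_certp_215 : allR (ckCert C nF) 8 55040 = true := by decide +kernel
theorem k_certp_216 : allR (ckCert C nF) 8 55296 = true := by decide +kernel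
theorem k_certp_217 : allR (ckCert C nF) 8 55552 = true := by decide +kernel
theorem k_certp_218 : allR (ckCert C nF) 8 55808 = true := by decide +kernel
theorem k_certp_219 : allR (ckCert C nF) 8 56064 = true := by decide +kernel
theorem k_certp_220 : allR (ckCert C nF) 8 56320 = true := by decide +kernel
theorem k_certp_221 : allR (ckCert C nF) 8 56576 = true := by decide +kernel
theorem k_certp_222 : allR (ckCert C nF) 8 56832 = true := by decide +kernel
theorem k_certp_223 : allR (ckCert C nF) 8 57088 = true := by decide +kernel
theorem k_certp_224 : allR (ckCert C nF) 8 57344 = true := by decide +kernel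
theorem k_certp_225 : allR (ckCert C nF) 8 57600 = true := by decide +kernel
theorem k_certp_226 : allR (ckCert C nF) 8 57856 = true := by decide +kernel
theorem k_certp_227 : allR (ckCert C nF) 8 58112 = true := by decide +kernel
theorem k_certp_228 : allR (ckCert C nF) 8 58368 = true := by decide +kernel
theorem k_certp_229 : allR (ckCert C nF) 8 58624 = true := by decide +kernel
theorem k_certp_230 : allR (ckCert C nF) 8 58880 = true := by decide +kernel
theorem k_certp_231 : allR (ckCert C nF) 8 59136 = true := by decide +kernel
theorem k_certp_232 : allR (ckCert C nF) 8 59392 = true := by decide +kernel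
theorem k_certp_233 : allR (ckCert C nF) 8 59648 = true := by decide +kernel
theorem k_certp_234 : allR (ckCert C nF) 8 59904 = true := by decide +kernel
theorem k_certp_235 : allR (ckCert C nF) 8 60160 = true := by decide +kernel
theorem k_certp_236 : allR (ckCert C nF) 8 60416 = true := by decide +kernel
theorem k_certp_237 : allR (ckCert C nF) 8 60672 = true := by decide +kernel

end Cfsg.Agent.Lib.Helper77.TCS.H3
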