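import Cfsg.Agent.Lib.Helper77.TCSH3T

set_option autoImplicit false
set_option maxRecDepth 1000000
set_option linter.unusedVariables false
set_option Elab.async false

namespace Cfsg.Agent.Lib.Helper77.TCS.H3

open Cfsg.Agent.Lib.Helper25.TC

theorem k_certp_238 : allR (ckCert C nF) 8 60928 = true := by decide +kernel
theorem k_certp_239 : allR (ckCert C nF) 8 61184 = true := by decide +kernel
theorem k_certp_240 : allR (ckCert C nF) 8 61440 = true := by decide +kernel
theorem k_certp_241 : allR (ckCert C nF) 8 61696 = true := by decide +kernel
theorem k_certp_242 : allR (ckCert C nF) 8 61952 = true := by decide +kernel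
theorem k_certp_243 : allR (ckCert C nF) 8 62208 = true := by decide +kernel
theorem k_certp_244 : allR (ckCert C nF) 8 62464 = true := by decide +kernel
theorem k_certp_245 : allR (ckCert C nF) 8 62720 = true := by decide +kernel
theorem k_certp_246 : allR (ckCert C nF) 8 62976 = true := by decide +kernel
theorem k_certp_247 : allR (ckCert C nF) 8 63232 = true := by decide +kernel
theorem k_certp_248 : allR (ckCert C nF) 8 63488 = true := by decide +kernel
theorem k_certp_249 : allR (ckCert C nF) 8 63744 = true := by decide +kernel
theorem k_certp_250 : allR (ckCert C nF) 8 64000 = true := by decide +kernel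
theorem k_certp_251 : allR (ckCert C nF) 8 64256 = true := by decide +kernel
theorem k_certp_252 : allR (ckCert C nF) 8 64512 = true := by decide +kernel
theorem k_certp_253 : allR (ckCert C nF) 8 64768 = true := by decide +kernel
theorem k_certp_254 : allR (ckCert C nF) 8 65024 = true := by decide +kernel
theorem k_certp_255 : allR (ckCert C nF) 8 65280 = true := by decide +kernel
theorem k_certp_256 : allR (ckCert C nF) 8 65536 = true := by decide +kernel
theorem k_certp_257 : allR (ckCert C nF) 8 65792 = true := by decide +kernel
theorem k_certp_258 : allR (ckCert C nF) 8 66048 = true := by decide +kernel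
theorem k_certp_259 : allR (ckCert C nF) 8 66304 = true := by decide +kernel
theorem k_certp_260 : allR (ckCert C nF) 8 66560 = true := by decide +kernel
theorem k_certp_261 : allR (ckCert C nF) 8 66816 = true := by decide +kernel
theorem k_certp_262 : allR (ckCert C nF) 8 67072 = true := by decide +kernel
theorem k_certp_263 : allR (ckCert C nF) 8 67328 = true := by decide +kernel
theorem k_certp_264 : allR (ckCert C nF) 8 67584 = true := by decide +kernel
theorem k_certp_265 : allR (ckCert C nF) 8 67840 = true := by decide +kernel
theorem k_certp_266 : allR (ckCert C nF) 8 68096 = true := by decide +kernel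
theorem k_certp_267 : allR (ckCert C nF) 8 68352 = true := by decide +kernel
theorem k_certp_268 : allR (ckCert C nF) 8 68608 = true := by decide +kernel
theorem k_certp_269 : allR (ckCert C nF) 8 68864 = true := by decide +kernel
theorem k_certp_270 : allR (ckCert C nF) 8 69120 = true := by decide +kernel
theorem k_certp_271 : allR (ckCert C nF) 8 69376 = true := by decide +kernel

end Cfsg.Agent.Lib.Helper77.TCS.H3
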