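import Cfsg.Agent.Lib.Helper77.TCSH3T

set_option autoImplicit false
set_option maxRecDepth 1000000
set_option linter.unusedVariables false
set_option Elab.async false

namespace Cfsg.Agent.Lib.Helper77.TCS.H3

open Cfsg.Agent.Lib.Helper25.TC

theorem k_certp_272 : allR (ckCert C nF) 8 69632 = true := by decide +kernel
theorem k_certp_273 : allR (ckCert C nF) 8 69888 = true := by decide +kernel
theorem k_certp_274 : allR (ckCert C nF) 8 70144 = true := by decide +kernel
theorem k_certp_275 : allR (ckCert C nF) 8 70400 = true := by decide +kernel
theorem k_certp_276 : allR (ckCert C nF) 8 70656 = true := by decide +kernel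
theorem k_certp_277 : allR (ckCert C nF) 8 70912 = true := by decide +kernel
theorem k_certp_278 : allR (ckCert C nF) 8 71168 = true := by decide +kernel
theorem k_certp_279 : allR (ckCert C nF) 8 71424 = true := by decide +kernel
theorem k_certp_280 : allR (ckCert C nF) 8 71680 = true := by decide +kernel
theorem k_certp_281 : allR (ckCert C nF) 8 71936 = true := by decide +kernel
theorem k_certp_282 : allR (ckCert C nF) 8 72192 = true := by decide +kernel
theorem k_certp_283 : allR (ckCert C nF) 8 72448 = true := by decide +kernel
theorem k_certp_284 : allR (ckCert C nF) 8 72704 = true := by decide +kernel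
theorem k_certp_285 : allR (ckCert C nF) 8 72960 = true := by decide +kernel
theorem k_certp_286 : allR (ckCert C nF) 8 73216 = true := by decide +kernel
theorem k_certp_287 : allR (ckCert C nF) 8 73472 = true := by decide +kernel
theorem k_certp_288 : allR (ckCert C nF) 8 73728 = true := by decide +kernel
theorem k_certp_289 : allR (ckCert C nF) 8 73984 = true := by decide +kernel
theorem k_certp_290 : allR (ckCert C nF) 8 74240 = true := by decide +kernel
theorem k_certp_291 : allR (ckCert C nF) 8 74496 = true := by decide +kernel
theorem k_certp_292 : allR (ckCert C nF) 8 74752 = true := by decide +kernel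
theorem k_certp_293 : allR (ckCert C nF) 8 75008 = true := by decide +kernel
theorem k_certp_294 : allR (ckCert C nF) 8 75264 = true := by decide +kernel
theorem k_certp_295 : allR (ckCert C nF) 8 75520 = true := by decide +kernel
theorem k_certp_296 : allR (ckCert C nF) 8 75776 = true := by decide +kernel
theorem k_certp_297 : allR (ckCert C nF) 8 76032 = true := by decide +kernel
theorem k_certp_298 : allR (ckCert C nF) 8 76288 = true := by decide +kernel
theorem k_certp_299 : allR (ckCert C nF) 8 76544 = true := by decide +kernel
theorem k_certp_300 : allR (ckCert C nF) 8 76800 = true := by decide +kernel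
theorem k_certp_301 : allR (ckCert C nF) 8 77056 = true := by decide +kernel
theorem k_certp_302 : allR (ckCert C nF) 8 77312 = true := by decide +kernel
theorem k_certp_303 : allR (ckCert C nF) 8 77568 = true := by decide +kernel
theorem k_certp_304 : allR (ckCert C nF) 8 77824 = true := by decide +kernel
theorem k_certp_305 : allR (ckCert C nF) 8 78080 = true := by decide +kernel

end Cfsg.Agent.Lib.Helper77.TCS.H3
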