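import Cfsg.Agent.Lib.Helper77.TCSH3T

set_option autoImplicit false
set_option maxRecDepth 1000000
set_option linter.unusedVariables false
set_option Elab.async false

namespace Cfsg.Agent.Lib.Helper77.TCS.H3

open Cfsg.Agent.Lib.Helper25.TC

theorem k_certp_306 : allR (ckCert C nF) 8 78336 = true := by decide +kernel
theorem k_certp_307 : allR (ckCert C nF) 8 78592 = true := by decide +kernel
theorem k_certp_308 : allR (ckCert C nF) 8 78848 = true := by decide +kernel
theorem k_certp_309 : allR (ckCert C nF) 8 79104 = true := by decide +kernel
theorem k_certp_310 : allR (ckCert C nF) 8 79360 = true := by decide +kernel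
theorem k_certp_311 : allR (ckCert C nF) 8 79616 = true := by decide +kernel
theorem k_certp_312 : allR (ckCert C nF) 8 79872 = true := by decide +kernel
theorem k_certp_313 : allR (ckCert C nF) 8 80128 = true := by decide +kernel
theorem k_certp_314 : allR (ckCert C nF) 8 80384 = true := by decide +kernel
theorem k_certp_315 : allR (ckCert C nF) 8 80640 = true := by decide +kernel
theorem k_certp_316 : allR (ckCert C nF) 8 80896 = true := by decide +kernel
theorem k_certp_317 : allR (ckCert C nF) 8 81152 = true := by decide +kernel
theorem k_certp_318 : allR (ckCert C nF) 8 81408 = true := by decide +kernel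
theorem k_certp_319 : allR (ckCert C nF) 8 81664 = true := by decide +kernel
theorem k_certp_320 : allR (ckCert C nF) 8 81920 = true := by decide +kernel
theorem k_certp_321 : allR (ckCert C nF) 8 82176 = true := by decide +kernel
theorem k_certp_322 : allR (ckCert C nF) 8 82432 = true := by decide +kernel
theorem k_certp_323 : allR (ckCert C nF) 8 82688 = true := by decide +kernel
theorem k_certp_324 : allR (ckCert C nF) 8 82944 = true := by decide +kernel
theorem k_certp_325 : allR (ckCert C nF) 8 83200 = true := by decide +kernel
theorem k_certp_326 : allR (ckCert C nF) 8 83456 = true := by decide +kernel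
theorem k_certp_327 : allR (ckCert C nF) 8 83712 = true := by decide +kernel
theorem k_certp_328 : allR (ckCert C nF) 8 83968 = true := by decide +kernel
theorem k_certp_329 : allR (ckCert C nF) 8 84224 = true := by decide +kernel
theorem k_certp_330 : allR (ckCert C nF) 8 84480 = true := by decide +kernel
theorem k_certp_331 : allR (ckCert C nF) 8 84736 = true := by decide +kernel
theorem k_certp_332 : allR (ckCert C nF) 8 84992 = true := by decide +kernel
theorem k_certp_333 : allR (ckCert C nF) 8 85248 = true := by decide +kernel
theorem k_certp_334 : allR (ckCert C nF) 8 85504 = true := by decide +kernel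
theorem k_certp_335 : allR (ckCert C nF) 8 85760 = true := by decide +kernel
theorem k_certp_336 : allR (ckCert C nF) 8 86016 = true := by decide +kernel
theorem k_certp_337 : allR (ckCert C nF) 8 86272 = true := by decide +kernel
theorem k_certp_338 : allR (ckCert C nF) 8 86528 = true := by decide +kernel
theorem k_certp_339 : allR (ckCert C nF) 8 86784 = true := by decide +kernel

end Cfsg.Agent.Lib.Helper77.TCS.H3
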