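import Cfsg.Agent.Lib.Helper77.TCSH3P0
import Cfsg.Agent.Lib.Helper77.TCSH3P1
import Cfsg.Agent.Lib.Helper77.TCSH3P2
import Cfsg.Agent.Lib.Helper77.TCSH3P3
import Cfsg.Agent.Lib.Helper77.TCSH3P4
import Cfsg.Agent.Lib.Helper77.TCSH3P5
import Cfsg.Agent.Lib.Helper77.TCSH3P6
import Cfsg.Agent.Lib.Helper77.TCSH3P7
import Cfsg.Agent.Lib.Helper77.TCSH3P8
import Cfsg.Agent.Lib.Helper77.TCSH3P9
import Cfsg.Agent.Lib.Helper77.TCSH3P10
import Cfsg.Agent.Lib.Helper77.TCSH3P11
import Cfsg.Agent.Lib.Helper77.TCSH3P12
import Cfsg.Agent.Lib.Helper77.TCSH3P13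
import Cfsg.Agent.Lib.Helper77.TCSH3P14
import Cfsg.Agent.Lib.Helper77.TCSH3P15
import Cfsg.Agent.Lib.Helper77.TCSH3P16
import Cfsg.Agent.Lib.Helper77.TCSH3P17

set_option autoImplicit false
set_option maxRecDepth 1000000
set_option linter.unusedVariables false
set_option linter.unusedSimpArgs false

namespace Cfsg.Agent.Lib.Helper77.TCS.H3

open Cfsg.Agent.Lib.Helper25.TC Cfsg.Agent.Lib.Helper77.SchurTC

theorem k_cert : allR (ckCert C nF) 18 0 = true := (allR_join _ _ _ _ (by decide) (allR_join _ _ _ _ (by decide) (allR_join _ _ _ _ (by decide) (allR_join _ _ _ _ (by decide) (allR_join _ _ _ _ (by decide) (allR_join _ _ _ _ (by decide) (allR_join _ _ _ _ (by decide) (allR_join _ _ _ _ (by decide) (allR_join _ _ _ _ (by decide) (allR_join _ _ _ _ (by decide) k_certp_0 k_certp_1) (allR_join _ _ _ _ (by decide) k_certp_2 k_certp_3)) (allR_join _ _ _ _ (by decide) (allR_join _ _ _ _ (by decide) k_certp_4 k_certp_5) (allR_join _ _ _ _ (by decide) k_certp_6 k_certp_7))) (allR_join _ _ _ _ (by decide) (allR_join _ _ _ _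 (by decide) (allR_join _ _ _ _ (by decide) k_certp_8 k_certp_9) (allR_join _ _ _ _ (by decide) k_certp_10 k_certp_11)) (allR_join _ _ _ _ (by decide) (allR_join _ _ _ _ (by decide) k_certp_12 k_certp_13) (allR_join _ _ _ _ (by decide) k_certp_14 k_certp_15)))) (allR_join _ _ _ _ (by decide) (allR_join _ _ _ _ (by decide) (allR_join _ _ _ _ (by decide) (allR_join _ _ _ _ (by decide) k_certp_16 k_certp_17) (allR_join _ _ _ _ (by decide) k_certp_18 k_certp_19)) (allR_join _ _ _ _ (by decide) (allR_join _ _ _ _ (by decide) k_certp_20 k_certp_21) (allR_join _ _ _ _ (by decide) k_certp_22 k_certp_23))) (allR_join _ _ _ _ (by decide) (allR_join _ _ _ _ (by decide) (allR_join _ _ _ _ (by decide) k_certp_24 k_certp_25) (allR_join _ _ _ _ (by decide) k_certp_26 k_certp_27)) (allR_join _ _ _ _ (by decide) (allR_join _ _ _ _ (by decide) k_certp_28 k_certp_29) (allR_join _ _ _ _ (by decide) k_certp_30 k_certp_31))))) (allR_join _ _ _ _ (by decide) (allR_join _ _ _ _ (by decide) (allR_join _ _ _ _ (by decide) (allR_join _ _ _ _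 (by decide) (allR_join _ _ _ _ (by decide) k_certp_32 k_certp_33) (allR_join _ _ _ _ (by decide) k_certp_34 k_certp_35)) (allR_join _ _ _ _ (by decide) (allR_join _ _ _ _ (by decide) k_certp_36 k_certp_37) (allR_join _ _ _ _ (by decide) k_certp_38 k_certp_39))) (allR_join _ _ _ _ (by decide) (allR_join _ _ _ _ (by decide) (allR_join _ _ _ _ (by decide) k_certp_40 k_certp_41) (allR_join _ _ _ _ (by decide) k_certp_42 k_certp_43)) (allR_join _ _ _ _ (by decide) (allR_join _ _ _ _ (by decide) k_certp_44 k_certp_45) (allR_join _ _ _ _ (by decide) k_certp_46 k_certp_47)))) (allR_join _ _ _ _ (by decide) (allR_join _ _ _ _ (by decide) (allR_join _ _ _ _ (by decide) (allR_join _ _ _ _ (by decide) k_certp_48 k_certp_49) (allR_join _ _ _ _ (by decide) k_certp_50 k_certp_51)) (allR_join _ _ _ _ (by decide) (allR_join _ _ _ _ (by decide) k_certp_52 k_certp_53) (allR_join _ _ _ _ (by decide) k_certp_54 k_certp_55))) (allR_join _ _ _ _ (by decide) (allR_join _ _ _ _ (by decide) (allR_join _ _ _ _ (by decide) k_certp_56 k_certp_57)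 (allR_join _ _ _ _ (by decide) k_certp_58 k_certp_59)) (allR_join _ _ _ _ (by decide) (allR_join _ _ _ _ (by decide) k_certp_60 k_certp_61) (allR_join _ _ _ _ (by decide) k_certp_62 k_certp_63)))))) (allR_join _ _ _ _ (by decide) (allR_join _ _ _ _ (by decide) (allR_join _ _ _ _ (by decide) (allR_join _ _ _ _ (by decide) (allR_join _ _ _ _ (by decide) (allR_join _ _ _ _ (by decide) k_certp_64 k_certp_65) (allR_join _ _ _ _ (by decide) k_certp_66 k_certp_67)) (allR_join _ _ _ _ (by decide) (allR_join _ _ _ _ (by decide) k_certp_68 k_certp_69) (allR_join _ _ _ _ (by decide) k_certp_70 k_certp_71))) (allR_join _ _ _ _ (by decide) (allR_join _ _ _ _ (by decide) (allR_join _ _ _ _ (by decide) k_certp_72 k_certp_73) (allR_join _ _ _ _ (by decide) k_certp_74 k_certp_75)) (allR_join _ _ _ _ (by decide) (allR_join _ _ _ _ (by decide) k_certp_76 k_certp_77) (allR_join _ _ _ _ (by decide) k_certp_78 k_certp_79)))) (allR_join _ _ _ _ (by decide) (allR_join _ _ _ _ (by decide) (allR_join _ _ _ _ (by decide) (allR_join _ _ _ _ (by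 decide) k_certp_80 k_certp_81) (allR_join _ _ _ _ (by decide) k_certp_82 k_certp_83)) (allR_join _ _ _ _ (by decide) (allR_join _ _ _ _ (by decide) k_certp_84 k_certp_85) (allR_join _ _ _ _ (by decide) k_certp_86 k_certp_87))) (allR_join _ _ _ _ (by decide) (allR_join _ _ _ _ (by decide) (allR_join _ _ _ _ (by decide) k_certp_88 k_certp_89) (allR_join _ _ _ _ (by decide) k_certp_90 k_certp_91)) (allR_join _ _ _ _ (by decide) (allR_join _ _ _ _ (by decide) k_certp_92 k_certp_93) (allR_join _ _ _ _ (by decide) k_certp_94 k_certp_95))))) (allR_join _ _ _ _ (by decide) (allR_join _ _ _ _ (by decide) (allR_join _ _ _ _ (by decide) (allR_join _ _ _ _ (by decide) (allR_join _ _ _ _ (by decide) k_certp_96 k_certp_97) (allR_join _ _ _ _ (by decide) k_certp_98 k_certp_99)) (allR_join _ _ _ _ (by decide) (allR_join _ _ _ _ (by decide) k_certp_100 k_certp_101) (allR_join _ _ _ _ (by decide) k_certp_102 k_certp_103))) (allR_join _ _ _ _ (by decide) (allR_join _ _ _ _ (by decide) (allR_join _ _ _ _ (by decide) k_certp_104 k_certp_105)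 (allR_join _ _ _ _ (by decide) k_certp_106 k_certp_107)) (allR_join _ _ _ _ (by decide) (allR_join _ _ _ _ (by decide) k_certp_108 k_certp_109) (allR_join _ _ _ _ (by decide) k_certp_110 k_certp_111)))) (allR_join _ _ _ _ (by decide) (allR_join _ _ _ _ (by decide) (allR_join _ _ _ _ (by decide) (allR_join _ _ _ _ (by decide) k_certp_112 k_certp_113) (allR_join _ _ _ _ (by decide) k_certp_114 k_certp_115)) (allR_join _ _ _ _ (by decide) (allR_join _ _ _ _ (by decide) k_certp_116 k_certp_117) (allR_join _ _ _ _ (by decide) k_certp_118 k_certp_119))) (allR_join _ _ _ _ (by decide) (allR_join _ _ _ _ (by decide) (allR_join _ _ _ _ (by decide) k_certp_120 k_certp_121) (allR_join _ _ _ _ (by decide) k_certp_122 k_certp_123)) (allR_join _ _ _ _ (by decide) (allR_join _ _ _ _ (by decide) k_certp_124 k_certp_125) (allR_join _ _ _ _ (by decide) k_certp_126 k_certp_127))))))) (allR_join _ _ _ _ (by decide) (allR_join _ _ _ _ (by decide) (allR_join _ _ _ _ (by decide) (allR_join _ _ _ _ (by decide) (allR_join _ _ _ _ (by decide)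 (allR_join _ _ _ _ (by decide) (allR_join _ _ _ _ (by decide) k_certp_128 k_certp_129) (allR_join _ _ _ _ (by decide) k_certp_130 k_certp_131)) (allR_join _ _ _ _ (by decide) (allR_join _ _ _ _ (by decide) k_certp_132 k_certp_133) (allR_join _ _ _ _ (by decide) k_certp_134 k_certp_135))) (allR_join _ _ _ _ (by decide) (allR_join _ _ _ _ (by decide) (allR_join _ _ _ _ (by decide) k_certp_136 k_certp_137) (allR_join _ _ _ _ (by decide) k_certp_138 k_certp_139)) (allR_join _ _ _ _ (by decide) (allR_join _ _ _ _ (by decide) k_certp_140 k_certp_141) (allR_join _ _ _ _ (by decide) k_certp_142 k_certp_143)))) (allR_join _ _ _ _ (by decide) (allR_join _ _ _ _ (by decide) (allR_join _ _ _ _ (by decide) (allR_join _ _ _ _ (by decide) k_certp_144 k_certp_145) (allR_join _ _ _ _ (by decide) k_certp_146 k_certp_147)) (allR_join _ _ _ _ (by decide) (allR_join _ _ _ _ (by decide) k_certp_148 k_certp_149) (allR_join _ _ _ _ (by decide) k_certp_150 k_certp_151))) (allR_join _ _ _ _ (by decide) (allR_join _ _ _ _ (by decide) (allR_join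 _ _ _ _ (by decide) k_certp_152 k_certp_153) (allR_join _ _ _ _ (by decide) k_certp_154 k_certp_155)) (allR_join _ _ _ _ (by decide) (allR_join _ _ _ _ (by decide) k_certp_156 k_certp_157) (allR_join _ _ _ _ (by decide) k_certp_158 k_certp_159))))) (allR_join _ _ _ _ (by decide) (allR_join _ _ _ _ (by decide) (allR_join _ _ _ _ (by decide) (allR_join _ _ _ _ (by decide) (allR_join _ _ _ _ (by decide) k_certp_160 k_certp_161) (allR_join _ _ _ _ (by decide) k_certp_162 k_certp_163)) (allR_join _ _ _ _ (by decide) (allR_join _ _ _ _ (by decide) k_certp_164 k_certp_165) (allR_join _ _ _ _ (by decide) k_certp_166 k_certp_167))) (allR_join _ _ _ _ (by decide) (allR_join _ _ _ _ (by decide) (allR_join _ _ _ _ (by decide) k_certp_168 k_certp_169) (allR_join _ _ _ _ (by decide) k_certp_170 k_certp_171)) (allR_join _ _ _ _ (by decide) (allR_join _ _ _ _ (by decide) k_certp_172 k_certp_173) (allR_join _ _ _ _ (by decide) k_certp_174 k_certp_175)))) (allR_join _ _ _ _ (by decide) (allR_join _ _ _ _ (by decide) (allR_join _ _ _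 _ (by decide) (allR_join _ _ _ _ (by decide) k_certp_176 k_certp_177) (allR_join _ _ _ _ (by decide) k_certp_178 k_certp_179)) (allR_join _ _ _ _ (by decide) (allR_join _ _ _ _ (by decide) k_certp_180 k_certp_181) (allR_join _ _ _ _ (by decide) k_certp_182 k_certp_183))) (allR_join _ _ _ _ (by decide) (allR_join _ _ _ _ (by decide) (allR_join _ _ _ _ (by decide) k_certp_184 k_certp_185) (allR_join _ _ _ _ (by decide) k_certp_186 k_certp_187)) (allR_join _ _ _ _ (by decide) (allR_join _ _ _ _ (by decide) k_certp_188 k_certp_189) (allR_join _ _ _ _ (by decide) k_certp_190 k_certp_191)))))) (allR_join _ _ _ _ (by decide) (allR_join _ _ _ _ (by decide) (allR_join _ _ _ _ (by decide) (allR_join _ _ _ _ (by decide) (allR_join _ _ _ _ (by decide) (allR_join _ _ _ _ (by decide) k_certp_192 k_certp_193) (allR_join _ _ _ _ (by decide) k_certp_194 k_certp_195)) (allR_join _ _ _ _ (by decide) (allR_join _ _ _ _ (by decide) k_certp_196 k_certp_197) (allR_join _ _ _ _ (by decide) k_certp_198 k_certp_199))) (allR_join _ _ _ _ (by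 decide) (allR_join _ _ _ _ (by decide) (allR_join _ _ _ _ (by decide) k_certp_200 k_certp_201) (allR_join _ _ _ _ (by decide) k_certp_202 k_certp_203)) (allR_join _ _ _ _ (by decide) (allR_join _ _ _ _ (by decide) k_certp_204 k_certp_205) (allR_join _ _ _ _ (by decide) k_certp_206 k_certp_207)))) (allR_join _ _ _ _ (by decide) (allR_join _ _ _ _ (by decide) (allR_join _ _ _ _ (by decide) (allR_join _ _ _ _ (by decide) k_certp_208 k_certp_209) (allR_join _ _ _ _ (by decide) k_certp_210 k_certp_211)) (allR_join _ _ _ _ (by decide) (allR_join _ _ _ _ (by decide) k_certp_212 k_certp_213) (allR_join _ _ _ _ (by decide) k_certp_214 k_certp_215))) (allR_join _ _ _ _ (by decide) (allR_join _ _ _ _ (by decide) (allR_join _ _ _ _ (by decide) k_certp_216 k_certp_217) (allR_join _ _ _ _ (by decide) k_certp_218 k_certp_219)) (allR_join _ _ _ _ (by decide) (allR_join _ _ _ _ (by decide) k_certp_220 k_certp_221) (allR_join _ _ _ _ (by decide) k_certp_222 k_certp_223))))) (allR_join _ _ _ _ (by decide) (allR_join _ _ _ _ (by decide)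 (allR_join _ _ _ _ (by decide) (allR_join _ _ _ _ (by decide) (allR_join _ _ _ _ (by decide) k_certp_224 k_certp_225) (allR_join _ _ _ _ (by decide) k_certp_226 k_certp_227)) (allR_join _ _ _ _ (by decide) (allR_join _ _ _ _ (by decide) k_certp_228 k_certp_229) (allR_join _ _ _ _ (by decide) k_certp_230 k_certp_231))) (allR_join _ _ _ _ (by decide) (allR_join _ _ _ _ (by decide) (allR_join _ _ _ _ (by decide) k_certp_232 k_certp_233) (allR_join _ _ _ _ (by decide) k_certp_234 k_certp_235)) (allR_join _ _ _ _ (by decide) (allR_join _ _ _ _ (by decide) k_certp_236 k_certp_237) (allR_join _ _ _ _ (by decide) k_certp_238 k_certp_239)))) (allR_join _ _ _ _ (by decide) (allR_join _ _ _ _ (by decide) (allR_join _ _ _ _ (by decide) (allR_join _ _ _ _ (by decide) k_certp_240 k_certp_241) (allR_join _ _ _ _ (by decide) k_certp_242 k_certp_243)) (allR_join _ _ _ _ (by decide) (allR_join _ _ _ _ (by decide) k_certp_244 k_certp_245) (allR_join _ _ _ _ (by decide) k_certp_246 k_certp_247))) (allR_join _ _ _ _ (by decide) (allR_join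 _ _ _ _ (by decide) (allR_join _ _ _ _ (by decide) k_certp_248 k_certp_249) (allR_join _ _ _ _ (by decide) k_certp_250 k_certp_251)) (allR_join _ _ _ _ (by decide) (allR_join _ _ _ _ (by decide) k_certp_252 k_certp_253) (allR_join _ _ _ _ (by decide) k_certp_254 k_certp_255)))))))) (allR_join _ _ _ _ (by decide) (allR_join _ _ _ _ (by decide) (allR_join _ _ _ _ (by decide) (allR_join _ _ _ _ (by decide) (allR_join _ _ _ _ (by decide) (allR_join _ _ _ _ (by decide) (allR_join _ _ _ _ (by decide) (allR_join _ _ _ _ (by decide) k_certp_256 k_certp_257) (allR_join _ _ _ _ (by decide) k_certp_258 k_certp_259)) (allR_join _ _ _ _ (by decide) (allR_join _ _ _ _ (by decide) k_certp_260 k_certp_261) (allR_join _ _ _ _ (by decide) k_certp_262 k_certp_263))) (allR_join _ _ _ _ (by decide) (allR_join _ _ _ _ (by decide) (allR_join _ _ _ _ (by decide) k_certp_264 k_certp_265) (allR_join _ _ _ _ (by decide) k_certp_266 k_certp_267)) (allR_join _ _ _ _ (by decide) (allR_join _ _ _ _ (by decide) k_certp_268 k_certp_269) (allR_join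 _ _ _ _ (by decide) k_certp_270 k_certp_271)))) (allR_join _ _ _ _ (by decide) (allR_join _ _ _ _ (by decide) (allR_join _ _ _ _ (by decide) (allR_join _ _ _ _ (by decide) k_certp_272 k_certp_273) (allR_join _ _ _ _ (by decide) k_certp_274 k_certp_275)) (allR_join _ _ _ _ (by decide) (allR_join _ _ _ _ (by decide) k_certp_276 k_certp_277) (allR_join _ _ _ _ (by decide) k_certp_278 k_certp_279))) (allR_join _ _ _ _ (by decide) (allR_join _ _ _ _ (by decide) (allR_join _ _ _ _ (by decide) k_certp_280 k_certp_281) (allR_join _ _ _ _ (by decide) k_certp_282 k_certp_283)) (allR_join _ _ _ _ (by decide) (allR_join _ _ _ _ (by decide) k_certp_284 k_certp_285) (allR_join _ _ _ _ (by decide) k_certp_286 k_certp_287))))) (allR_join _ _ _ _ (by decide) (allR_join _ _ _ _ (by decide) (allR_join _ _ _ _ (by decide) (allR_join _ _ _ _ (by decide) (allR_join _ _ _ _ (by decide) k_certp_288 k_certp_289) (allR_join _ _ _ _ (by decide) k_certp_290 k_certp_291)) (allR_join _ _ _ _ (by decide) (allR_join _ _ _ _ (by decide) k_certp_292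 k_certp_293) (allR_join _ _ _ _ (by decide) k_certp_294 k_certp_295))) (allR_join _ _ _ _ (by decide) (allR_join _ _ _ _ (by decide) (allR_join _ _ _ _ (by decide) k_certp_296 k_certp_297) (allR_join _ _ _ _ (by decide) k_certp_298 k_certp_299)) (allR_join _ _ _ _ (by decide) (allR_join _ _ _ _ (by decide) k_certp_300 k_certp_301) (allR_join _ _ _ _ (by decide) k_certp_302 k_certp_303)))) (allR_join _ _ _ _ (by decide) (allR_join _ _ _ _ (by decide) (allR_join _ _ _ _ (by decide) (allR_join _ _ _ _ (by decide) k_certp_304 k_certp_305) (allR_join _ _ _ _ (by decide) k_certp_306 k_certp_307)) (allR_join _ _ _ _ (by decide) (allR_join _ _ _ _ (by decide) k_certp_308 k_certp_309) (allR_join _ _ _ _ (by decide) k_certp_310 k_certp_311))) (allR_join _ _ _ _ (by decide) (allR_join _ _ _ _ (by decide) (allR_join _ _ _ _ (by decide) k_certp_312 k_certp_313) (allR_join _ _ _ _ (by decide) k_certp_314 k_certp_315)) (allR_join _ _ _ _ (by decide) (allR_join _ _ _ _ (by decide) k_certp_316 k_certp_317) (allR_join _ _ _ _ (by decide)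 k_certp_318 k_certp_319)))))) (allR_join _ _ _ _ (by decide) (allR_join _ _ _ _ (by decide) (allR_join _ _ _ _ (by decide) (allR_join _ _ _ _ (by decide) (allR_join _ _ _ _ (by decide) (allR_join _ _ _ _ (by decide) k_certp_320 k_certp_321) (allR_join _ _ _ _ (by decide) k_certp_322 k_certp_323)) (allR_join _ _ _ _ (by decide) (allR_join _ _ _ _ (by decide) k_certp_324 k_certp_325) (allR_join _ _ _ _ (by decide) k_certp_326 k_certp_327))) (allR_join _ _ _ _ (by decide) (allR_join _ _ _ _ (by decide) (allR_join _ _ _ _ (by decide) k_certp_328 k_certp_329) (allR_join _ _ _ _ (by decide) k_certp_330 k_certp_331)) (allR_join _ _ _ _ (by decide) (allR_join _ _ _ _ (by decide) k_certp_332 k_certp_333) (allR_join _ _ _ _ (by decide) k_certp_334 k_certp_335)))) (allR_join _ _ _ _ (by decide) (allR_join _ _ _ _ (by decide) (allR_join _ _ _ _ (by decide) (allR_join _ _ _ _ (by decide) k_certp_336 k_certp_337) (allR_join _ _ _ _ (by decide) k_certp_338 k_certp_339)) (allR_join _ _ _ _ (by decide) (allR_join _ _ _ _ (by decide)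 k_certp_340 k_certp_341) (allR_join _ _ _ _ (by decide) k_certp_342 k_certp_343))) (allR_join _ _ _ _ (by decide) (allR_join _ _ _ _ (by decide) (allR_join _ _ _ _ (by decide) k_certp_344 k_certp_345) (allR_join _ _ _ _ (by decide) k_certp_346 k_certp_347)) (allR_join _ _ _ _ (by decide) (allR_join _ _ _ _ (by decide) k_certp_348 k_certp_349) (allR_join _ _ _ _ (by decide) k_certp_350 k_certp_351))))) (allR_join _ _ _ _ (by decide) (allR_join _ _ _ _ (by decide) (allR_join _ _ _ _ (by decide) (allR_join _ _ _ _ (by decide) (allR_join _ _ _ _ (by decide) k_certp_352 k_certp_353) (allR_join _ _ _ _ (by decide) k_certp_354 k_certp_355)) (allR_join _ _ _ _ (by decide) (allR_join _ _ _ _ (by decide) k_certp_356 k_certp_357) (allR_join _ _ _ _ (by decide) k_certp_358 k_certp_359))) (allR_join _ _ _ _ (by decide) (allR_join _ _ _ _ (by decide) (allR_join _ _ _ _ (by decide) k_certp_360 k_certp_361) (allR_join _ _ _ _ (by decide) k_certp_362 k_certp_363)) (allR_join _ _ _ _ (by decide) (allR_join _ _ _ _ (by decide) k_certp_364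 k_certp_365) (allR_join _ _ _ _ (by decide) k_certp_366 k_certp_367)))) (allR_join _ _ _ _ (by decide) (allR_join _ _ _ _ (by decide) (allR_join _ _ _ _ (by decide) (allR_join _ _ _ _ (by decide) k_certp_368 k_certp_369) (allR_join _ _ _ _ (by decide) k_certp_370 k_certp_371)) (allR_join _ _ _ _ (by decide) (allR_join _ _ _ _ (by decide) k_certp_372 k_certp_373) (allR_join _ _ _ _ (by decide) k_certp_374 k_certp_375))) (allR_join _ _ _ _ (by decide) (allR_join _ _ _ _ (by decide) (allR_join _ _ _ _ (by decide) k_certp_376 k_certp_377) (allR_join _ _ _ _ (by decide) k_certp_378 k_certp_379)) (allR_join _ _ _ _ (by decide) (allR_join _ _ _ _ (by decide) k_certp_380 k_certp_381) (allR_join _ _ _ _ (by decide) k_certp_382 k_certp_383))))))) (allR_join _ _ _ _ (by decide) (allR_join _ _ _ _ (by decide) (allR_join _ _ _ _ (by decide) (allR_join _ _ _ _ (by decide) (allR_join _ _ _ _ (by decide) (allR_join _ _ _ _ (by decide) (allR_join _ _ _ _ (by decide) k_certp_384 k_certp_385) (allR_join _ _ _ _ (by decide) k_certp_386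 k_certp_387)) (allR_join _ _ _ _ (by decide) (allR_join _ _ _ _ (by decide) k_certp_388 k_certp_389) (allR_join _ _ _ _ (by decide) k_certp_390 k_certp_391))) (allR_join _ _ _ _ (by decide) (allR_join _ _ _ _ (by decide) (allR_join _ _ _ _ (by decide) k_certp_392 k_certp_393) (allR_join _ _ _ _ (by decide) k_certp_394 k_certp_395)) (allR_join _ _ _ _ (by decide) (allR_join _ _ _ _ (by decide) k_certp_396 k_certp_397) (allR_join _ _ _ _ (by decide) k_certp_398 k_certp_399)))) (allR_join _ _ _ _ (by decide) (allR_join _ _ _ _ (by decide) (allR_join _ _ _ _ (by decide) (allR_join _ _ _ _ (by decide) k_certp_400 k_certp_401) (allR_join _ _ _ _ (by decide) k_certp_402 k_certp_403)) (allR_join _ _ _ _ (by decide) (allR_join _ _ _ _ (by decide) k_certp_404 k_certp_405) (allR_join _ _ _ _ (by decide) k_certp_406 k_certp_407))) (allR_join _ _ _ _ (by decide) (allR_join _ _ _ _ (by decide) (allR_join _ _ _ _ (by decide) k_certp_408 k_certp_409) (allR_join _ _ _ _ (by decide) k_certp_410 k_certp_411)) (allR_join _ _ _ _ (by decide)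 (allR_join _ _ _ _ (by decide) k_certp_412 k_certp_413) (allR_join _ _ _ _ (by decide) k_certp_414 k_certp_415))))) (allR_join _ _ _ _ (by decide) (allR_join _ _ _ _ (by decide) (allR_join _ _ _ _ (by decide) (allR_join _ _ _ _ (by decide) (allR_join _ _ _ _ (by decide) k_certp_416 k_certp_417) (allR_join _ _ _ _ (by decide) k_certp_418 k_certp_419)) (allR_join _ _ _ _ (by decide) (allR_join _ _ _ _ (by decide) k_certp_420 k_certp_421) (allR_join _ _ _ _ (by decide) k_certp_422 k_certp_423))) (allR_join _ _ _ _ (by decide) (allR_join _ _ _ _ (by decide) (allR_join _ _ _ _ (by decide) k_certp_424 k_certp_425) (allR_join _ _ _ _ (by decide) k_certp_426 k_certp_427)) (allR_join _ _ _ _ (by decide) (allR_join _ _ _ _ (by decide) k_certp_428 k_certp_429) (allR_join _ _ _ _ (by decide) k_certp_430 k_certp_431)))) (allR_join _ _ _ _ (by decide) (allR_join _ _ _ _ (by decide) (allR_join _ _ _ _ (by decide) (allR_join _ _ _ _ (by decide) k_certp_432 k_certp_433) (allR_join _ _ _ _ (by decide) k_certp_434 k_certp_435)) (allR_join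 _ _ _ _ (by decide) (allR_join _ _ _ _ (by decide) k_certp_436 k_certp_437) (allR_join _ _ _ _ (by decide) k_certp_438 k_certp_439))) (allR_join _ _ _ _ (by decide) (allR_join _ _ _ _ (by decide) (allR_join _ _ _ _ (by decide) k_certp_440 k_certp_441) (allR_join _ _ _ _ (by decide) k_certp_442 k_certp_443)) (allR_join _ _ _ _ (by decide) (allR_join _ _ _ _ (by decide) k_certp_444 k_certp_445) (allR_join _ _ _ _ (by decide) k_certp_446 k_certp_447)))))) (allR_join _ _ _ _ (by decide) (allR_join _ _ _ _ (by decide) (allR_join _ _ _ _ (by decide) (allR_join _ _ _ _ (by decide) (allR_join _ _ _ _ (by decide) (allR_join _ _ _ _ (by decide) k_certp_448 k_certp_449) (allR_join _ _ _ _ (by decide) k_certp_450 k_certp_451)) (allR_join _ _ _ _ (by decide) (allR_join _ _ _ _ (by decide) k_certp_452 k_certp_453) (allR_join _ _ _ _ (by decide) k_certp_454 k_certp_455))) (allR_join _ _ _ _ (by decide) (allR_join _ _ _ _ (by decide) (allR_join _ _ _ _ (by decide) k_certp_456 k_certp_457) (allR_join _ _ _ _ (by decide) k_certp_458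 k_certp_459)) (allR_join _ _ _ _ (by decide) (allR_join _ _ _ _ (by decide) k_certp_460 k_certp_461) (allR_join _ _ _ _ (by decide) k_certp_462 k_certp_463)))) (allR_join _ _ _ _ (by decide) (allR_join _ _ _ _ (by decide) (allR_join _ _ _ _ (by decide) (allR_join _ _ _ _ (by decide) k_certp_464 k_certp_465) (allR_join _ _ _ _ (by decide) k_certp_466 k_certp_467)) (allR_join _ _ _ _ (by decide) (allR_join _ _ _ _ (by decide) k_certp_468 k_certp_469) (allR_join _ _ _ _ (by decide) k_certp_470 k_certp_471))) (allR_join _ _ _ _ (by decide) (allR_join _ _ _ _ (by decide) (allR_join _ _ _ _ (by decide) k_certp_472 k_certp_473) (allR_join _ _ _ _ (by decide) k_certp_474 k_certp_475)) (allR_join _ _ _ _ (by decide) (allR_join _ _ _ _ (by decide) k_certp_476 k_certp_477) (allR_join _ _ _ _ (by decide) k_certp_478 k_certp_479))))) (allR_join _ _ _ _ (by decide) (allR_join _ _ _ _ (by decide) (allR_join _ _ _ _ (by decide) (allR_join _ _ _ _ (by decide) (allR_join _ _ _ _ (by decide) k_certp_480 k_certp_481) (allR_join _ _ _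 _ (by decide) k_certp_482 k_certp_483)) (allR_join _ _ _ _ (by decide) (allR_join _ _ _ _ (by decide) k_certp_484 k_certp_485) (allR_join _ _ _ _ (by decide) k_certp_486 k_certp_487))) (allR_join _ _ _ _ (by decide) (allR_join _ _ _ _ (by decide) (allR_join _ _ _ _ (by decide) k_certp_488 k_certp_489) (allR_join _ _ _ _ (by decide) k_certp_490 k_certp_491)) (allR_join _ _ _ _ (by decide) (allR_join _ _ _ _ (by decide) k_certp_492 k_certp_493) (allR_join _ _ _ _ (by decide) k_certp_494 k_certp_495)))) (allR_join _ _ _ _ (by decide) (allR_join _ _ _ _ (by decide) (allR_join _ _ _ _ (by decide) (allR_join _ _ _ _ (by decide) k_certp_496 k_certp_497) (allR_join _ _ _ _ (by decide) k_certp_498 k_certp_499)) (allR_join _ _ _ _ (by decide) (allR_join _ _ _ _ (by decide) k_certp_500 k_certp_501) (allR_join _ _ _ _ (by decide) k_certp_502 k_certp_503))) (allR_join _ _ _ _ (by decide) (allR_join _ _ _ _ (by decide) (allR_join _ _ _ _ (by decide) k_certp_504 k_certp_505) (allR_join _ _ _ _ (by decide) k_certp_506 k_certp_507))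 (allR_join _ _ _ _ (by decide) (allR_join _ _ _ _ (by decide) k_certp_508 k_certp_509) (allR_join _ _ _ _ (by decide) k_certp_510 k_certp_511))))))))) (allR_join _ _ _ _ (by decide) (allR_join _ _ _ _ (by decide) (allR_join _ _ _ _ (by decide) (allR_join _ _ _ _ (by decide) (allR_join _ _ _ _ (by decide) (allR_join _ _ _ _ (by decide) (allR_join _ _ _ _ (by decide) (allR_join _ _ _ _ (by decide) (allR_join _ _ _ _ (by decide) k_certp_512 k_certp_513) (allR_join _ _ _ _ (by decide) k_certp_514 k_certp_515)) (allR_join _ _ _ _ (by decide) (allR_join _ _ _ _ (by decide) k_certp_516 k_certp_517) (allR_join _ _ _ _ (by decide) k_certp_518 k_certp_519))) (allR_join _ _ _ _ (by decide) (allR_join _ _ _ _ (by decide) (allR_join _ _ _ _ (by decide) k_certp_520 k_certp_521) (allR_join _ _ _ _ (by decide) k_certp_522 k_certp_523)) (allR_join _ _ _ _ (by decide) (allR_join _ _ _ _ (by decide) k_certp_524 k_certp_525) (allR_join _ _ _ _ (by decide) k_certp_526 k_certp_527)))) (allR_join _ _ _ _ (by decide) (allR_join _ _ _ _ (by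 decide) (allR_join _ _ _ _ (by decide) (allR_join _ _ _ _ (by decide) k_certp_528 k_certp_529) (allR_join _ _ _ _ (by decide) k_certp_530 k_certp_531)) (allR_join _ _ _ _ (by decide) (allR_join _ _ _ _ (by decide) k_certp_532 k_certp_533) (allR_join _ _ _ _ (by decide) k_certp_534 k_certp_535))) (allR_join _ _ _ _ (by decide) (allR_join _ _ _ _ (by decide) (allR_join _ _ _ _ (by decide) k_certp_536 k_certp_537) (allR_join _ _ _ _ (by decide) k_certp_538 k_certp_539)) (allR_join _ _ _ _ (by decide) (allR_join _ _ _ _ (by decide) k_certp_540 k_certp_541) (allR_join _ _ _ _ (by decide) k_certp_542 k_certp_543))))) (allR_join _ _ _ _ (by decide) (allR_join _ _ _ _ (by decide) (allR_join _ _ _ _ (by decide) (allR_join _ _ _ _ (by decide) (allR_join _ _ _ _ (by decide) k_certp_544 k_certp_545) (allR_join _ _ _ _ (by decide) k_certp_546 k_certp_547)) (allR_join _ _ _ _ (by decide) (allR_join _ _ _ _ (by decide) k_certp_548 k_certp_549) (allR_join _ _ _ _ (by decide) k_certp_550 k_certp_551))) (allR_join _ _ _ _ (by decide)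 (allR_join _ _ _ _ (by decide) (allR_join _ _ _ _ (by decide) k_certp_552 k_certp_553) (allR_join _ _ _ _ (by decide) k_certp_554 k_certp_555)) (allR_join _ _ _ _ (by decide) (allR_join _ _ _ _ (by decide) k_certp_556 k_certp_557) (allR_join _ _ _ _ (by decide) k_certp_558 k_certp_559)))) (allR_join _ _ _ _ (by decide) (allR_join _ _ _ _ (by decide) (allR_join _ _ _ _ (by decide) (allR_join _ _ _ _ (by decide) k_certp_560 k_certp_561) (allR_join _ _ _ _ (by decide) k_certp_562 k_certp_563)) (allR_join _ _ _ _ (by decide) (allR_join _ _ _ _ (by decide) k_certp_564 k_certp_565) (allR_join _ _ _ _ (by decide) k_certp_566 k_certp_567))) (allR_join _ _ _ _ (by decide) (allR_join _ _ _ _ (by decide) (allR_join _ _ _ _ (by decide) k_certp_568 k_certp_569) (allR_join _ _ _ _ (by decide) k_certp_570 k_certp_571)) (allR_join _ _ _ _ (by decide) (allR_join _ _ _ _ (by decide) k_certp_572 k_certp_573) (allR_join _ _ _ _ (by decide) k_certp_574 k_certp_575)))))) (allR_join _ _ _ _ (by decide) (allR_join _ _ _ _ (by decide) (allR_join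 _ _ _ _ (by decide) (allR_join _ _ _ _ (by decide) (allR_join _ _ _ _ (by decide) (allR_join _ _ _ _ (by decide) k_certp_576 k_certp_577) (allR_join _ _ _ _ (by decide) k_certp_578 k_certp_579)) (allR_join _ _ _ _ (by decide) (allR_join _ _ _ _ (by decide) k_certp_580 k_certp_581) (allR_join _ _ _ _ (by decide) k_certp_582 k_certp_583))) (allR_join _ _ _ _ (by decide) (allR_join _ _ _ _ (by decide) (allR_join _ _ _ _ (by decide) k_certp_584 k_certp_585) (allR_join _ _ _ _ (by decide) k_certp_586 k_certp_587)) (allR_join _ _ _ _ (by decide) (allR_join _ _ _ _ (by decide) k_certp_588 k_certp_589) (allR_join _ _ _ _ (by decide) k_certp_590 k_certp_591)))) (allR_join _ _ _ _ (by decide) (allR_join _ _ _ _ (by decide) (allR_join _ _ _ _ (by decide) (allR_join _ _ _ _ (by decide) k_certp_592 k_certp_593) (allR_join _ _ _ _ (by decide) k_certp_594 k_certp_595)) (allR_join _ _ _ _ (by decide) (allR_join _ _ _ _ (by decide) k_certp_596 k_certp_597) (allR_join _ _ _ _ (by decide) k_certp_598 k_certp_599))) (allR_join _ _ _ _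 (by decide) (allR_join _ _ _ _ (by decide) (allR_join _ _ _ _ (by decide) k_certp_600 k_certp_601) (allR_join _ _ _ _ (by decide) k_certp_602 k_certp_603)) (allR_join _ _ _ _ (by decide) (allR_join _ _ _ _ (by decide) k_certp_604 k_certp_605) (allR_join _ _ _ _ (by decide) k_certp_606 k_certp_607))))) (allR_join _ _ _ _ (by decide) (allR_join _ _ _ _ (by decide) (allR_join _ _ _ _ (by decide) (allR_join _ _ _ _ (by decide) (allR_join _ _ _ _ (by decide) k_certp_608 k_certp_609) (allR_join _ _ _ _ (by decide) k_certp_610 k_certp_611)) (allR_join _ _ _ _ (by decide) (allR_join _ _ _ _ (by decide) k_certp_612 k_certp_613) (allR_join _ _ _ _ (by decide) k_certp_614 k_certp_615))) (allR_join _ _ _ _ (by decide) (allR_join _ _ _ _ (by decide) (allR_join _ _ _ _ (by decide) k_certp_616 k_certp_617) (allR_join _ _ _ _ (by decide) k_certp_618 k_certp_619)) (allR_join _ _ _ _ (by decide) (allR_join _ _ _ _ (by decide) k_certp_620 k_certp_621) (allR_join _ _ _ _ (by decide) k_certp_622 k_certp_623)))) (allR_join _ _ _ _ (by decide)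 (allR_join _ _ _ _ (by decide) (allR_join _ _ _ _ (by decide) (allR_join _ _ _ _ (by decide) k_certp_624 k_certp_625) (allR_join _ _ _ _ (by decide) k_certp_626 k_certp_627)) (allR_join _ _ _ _ (by decide) (allR_join _ _ _ _ (by decide) k_certp_628 k_certp_629) (allR_join _ _ _ _ (by decide) k_certp_630 k_certp_631))) (allR_join _ _ _ _ (by decide) (allR_join _ _ _ _ (by decide) (allR_join _ _ _ _ (by decide) k_certp_632 k_certp_633) (allR_join _ _ _ _ (by decide) k_certp_634 k_certp_635)) (allR_join _ _ _ _ (by decide) (allR_join _ _ _ _ (by decide) k_certp_636 k_certp_637) (allR_join _ _ _ _ (by decide) k_certp_638 k_certp_639))))))) (allR_join _ _ _ _ (by decide) (allR_join _ _ _ _ (by decide) (allR_join _ _ _ _ (by decide) (allR_join _ _ _ _ (by decide) (allR_join _ _ _ _ (by decide) (allR_join _ _ _ _ (by decide) (allR_join _ _ _ _ (by decide) k_certp_640 k_certp_641) (allR_join _ _ _ _ (by decide) k_certp_642 k_certp_643)) (allR_join _ _ _ _ (by decide) (allR_join _ _ _ _ (by decide) k_certp_644 k_certp_645)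 (allR_join _ _ _ _ (by decide) k_certp_646 k_certp_647))) (allR_join _ _ _ _ (by decide) (allR_join _ _ _ _ (by decide) (allR_join _ _ _ _ (by decide) k_certp_648 k_certp_649) (allR_join _ _ _ _ (by decide) k_certp_650 k_certp_651)) (allR_join _ _ _ _ (by decide) (allR_join _ _ _ _ (by decide) k_certp_652 k_certp_653) (allR_join _ _ _ _ (by decide) k_certp_654 k_certp_655)))) (allR_join _ _ _ _ (by decide) (allR_join _ _ _ _ (by decide) (allR_join _ _ _ _ (by decide) (allR_join _ _ _ _ (by decide) k_certp_656 k_certp_657) (allR_join _ _ _ _ (by decide) k_certp_658 k_certp_659)) (allR_join _ _ _ _ (by decide) (allR_join _ _ _ _ (by decide) k_certp_660 k_certp_661) (allR_join _ _ _ _ (by decide) k_certp_662 k_certp_663))) (allR_join _ _ _ _ (by decide) (allR_join _ _ _ _ (by decide) (allR_join _ _ _ _ (by decide) k_certp_664 k_certp_665) (allR_join _ _ _ _ (by decide) k_certp_666 k_certp_667)) (allR_join _ _ _ _ (by decide) (allR_join _ _ _ _ (by decide) k_certp_668 k_certp_669) (allR_join _ _ _ _ (by decide) k_certp_670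 k_certp_671))))) (allR_join _ _ _ _ (by decide) (allR_join _ _ _ _ (by decide) (allR_join _ _ _ _ (by decide) (allR_join _ _ _ _ (by decide) (allR_join _ _ _ _ (by decide) k_certp_672 k_certp_673) (allR_join _ _ _ _ (by decide) k_certp_674 k_certp_675)) (allR_join _ _ _ _ (by decide) (allR_join _ _ _ _ (by decide) k_certp_676 k_certp_677) (allR_join _ _ _ _ (by decide) k_certp_678 k_certp_679))) (allR_join _ _ _ _ (by decide) (allR_join _ _ _ _ (by decide) (allR_join _ _ _ _ (by decide) k_certp_680 k_certp_681) (allR_join _ _ _ _ (by decide) k_certp_682 k_certp_683)) (allR_join _ _ _ _ (by decide) (allR_join _ _ _ _ (by decide) k_certp_684 k_certp_685) (allR_join _ _ _ _ (by decide) k_certp_686 k_certp_687)))) (allR_join _ _ _ _ (by decide) (allR_join _ _ _ _ (by decide) (allR_join _ _ _ _ (by decide) (allR_join _ _ _ _ (by decide) k_certp_688 k_certp_689) (allR_join _ _ _ _ (by decide) k_certp_690 k_certp_691)) (allR_join _ _ _ _ (by decide) (allR_join _ _ _ _ (by decide) k_certp_692 k_certp_693) (allR_join _ _ _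 _ (by decide) k_certp_694 k_certp_695))) (allR_join _ _ _ _ (by decide) (allR_join _ _ _ _ (by decide) (allR_join _ _ _ _ (by decide) k_certp_696 k_certp_697) (allR_join _ _ _ _ (by decide) k_certp_698 k_certp_699)) (allR_join _ _ _ _ (by decide) (allR_join _ _ _ _ (by decide) k_certp_700 k_certp_701) (allR_join _ _ _ _ (by decide) k_certp_702 k_certp_703)))))) (allR_join _ _ _ _ (by decide) (allR_join _ _ _ _ (by decide) (allR_join _ _ _ _ (by decide) (allR_join _ _ _ _ (by decide) (allR_join _ _ _ _ (by decide) (allR_join _ _ _ _ (by decide) k_certp_704 k_certp_705) (allR_join _ _ _ _ (by decide) k_certp_706 k_certp_707)) (allR_join _ _ _ _ (by decide) (allR_join _ _ _ _ (by decide) k_certp_708 k_certp_709) (allR_join _ _ _ _ (by decide) k_certp_710 k_certp_711))) (allR_join _ _ _ _ (by decide) (allR_join _ _ _ _ (by decide) (allR_join _ _ _ _ (by decide) k_certp_712 k_certp_713) (allR_join _ _ _ _ (by decide) k_certp_714 k_certp_715)) (allR_join _ _ _ _ (by decide) (allR_join _ _ _ _ (by decide) k_certp_716 k_certp_717)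 (allR_join _ _ _ _ (by decide) k_certp_718 k_certp_719)))) (allR_join _ _ _ _ (by decide) (allR_join _ _ _ _ (by decide) (allR_join _ _ _ _ (by decide) (allR_join _ _ _ _ (by decide) k_certp_720 k_certp_721) (allR_join _ _ _ _ (by decide) k_certp_722 k_certp_723)) (allR_join _ _ _ _ (by decide) (allR_join _ _ _ _ (by decide) k_certp_724 k_certp_725) (allR_join _ _ _ _ (by decide) k_certp_726 k_certp_727))) (allR_join _ _ _ _ (by decide) (allR_join _ _ _ _ (by decide) (allR_join _ _ _ _ (by decide) k_certp_728 k_certp_729) (allR_join _ _ _ _ (by decide) k_certp_730 k_certp_731)) (allR_join _ _ _ _ (by decide) (allR_join _ _ _ _ (by decide) k_certp_732 k_certp_733) (allR_join _ _ _ _ (by decide) k_certp_734 k_certp_735))))) (allR_join _ _ _ _ (by decide) (allR_join _ _ _ _ (by decide) (allR_join _ _ _ _ (by decide) (allR_join _ _ _ _ (by decide) (allR_join _ _ _ _ (by decide) k_certp_736 k_certp_737) (allR_join _ _ _ _ (by decide) k_certp_738 k_certp_739)) (allR_join _ _ _ _ (by decide) (allR_join _ _ _ _ (by decide)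 k_certp_740 k_certp_741) (allR_join _ _ _ _ (by decide) k_certp_742 k_certp_743))) (allR_join _ _ _ _ (by decide) (allR_join _ _ _ _ (by decide) (allR_join _ _ _ _ (by decide) k_certp_744 k_certp_745) (allR_join _ _ _ _ (by decide) k_certp_746 k_certp_747)) (allR_join _ _ _ _ (by decide) (allR_join _ _ _ _ (by decide) k_certp_748 k_certp_749) (allR_join _ _ _ _ (by decide) k_certp_750 k_certp_751)))) (allR_join _ _ _ _ (by decide) (allR_join _ _ _ _ (by decide) (allR_join _ _ _ _ (by decide) (allR_join _ _ _ _ (by decide) k_certp_752 k_certp_753) (allR_join _ _ _ _ (by decide) k_certp_754 k_certp_755)) (allR_join _ _ _ _ (by decide) (allR_join _ _ _ _ (by decide) k_certp_756 k_certp_757) (allR_join _ _ _ _ (by decide) k_certp_758 k_certp_759))) (allR_join _ _ _ _ (by decide) (allR_join _ _ _ _ (by decide) (allR_join _ _ _ _ (by decide) k_certp_760 k_certp_761) (allR_join _ _ _ _ (by decide) k_certp_762 k_certp_763)) (allR_join _ _ _ _ (by decide) (allR_join _ _ _ _ (by decide) k_certp_764 k_certp_765) (allR_join _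 _ _ _ (by decide) k_certp_766 k_certp_767)))))))) (allR_join _ _ _ _ (by decide) (allR_join _ _ _ _ (by decide) (allR_join _ _ _ _ (by decide) (allR_join _ _ _ _ (by decide) (allR_join _ _ _ _ (by decide) (allR_join _ _ _ _ (by decide) (allR_join _ _ _ _ (by decide) (allR_join _ _ _ _ (by decide) k_certp_768 k_certp_769) (allR_join _ _ _ _ (by decide) k_certp_770 k_certp_771)) (allR_join _ _ _ _ (by decide) (allR_join _ _ _ _ (by decide) k_certp_772 k_certp_773) (allR_join _ _ _ _ (by decide) k_certp_774 k_certp_775))) (allR_join _ _ _ _ (by decide) (allR_join _ _ _ _ (by decide) (allR_join _ _ _ _ (by decide) k_certp_776 k_certp_777) (allR_join _ _ _ _ (by decide) k_certp_778 k_certp_779)) (allR_join _ _ _ _ (by decide) (allR_join _ _ _ _ (by decide) k_certp_780 k_certp_781) (allR_join _ _ _ _ (by decide) k_certp_782 k_certp_783)))) (allR_join _ _ _ _ (by decide) (allR_join _ _ _ _ (by decide) (allR_join _ _ _ _ (by decide) (allR_join _ _ _ _ (by decide) k_certp_784 k_certp_785) (allR_join _ _ _ _ (by decide) k_certp_786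 k_certp_787)) (allR_join _ _ _ _ (by decide) (allR_join _ _ _ _ (by decide) k_certp_788 k_certp_789) (allR_join _ _ _ _ (by decide) k_certp_790 k_certp_791))) (allR_join _ _ _ _ (by decide) (allR_join _ _ _ _ (by decide) (allR_join _ _ _ _ (by decide) k_certp_792 k_certp_793) (allR_join _ _ _ _ (by decide) k_certp_794 k_certp_795)) (allR_join _ _ _ _ (by decide) (allR_join _ _ _ _ (by decide) k_certp_796 k_certp_797) (allR_join _ _ _ _ (by decide) k_certp_798 k_certp_799))))) (allR_join _ _ _ _ (by decide) (allR_join _ _ _ _ (by decide) (allR_join _ _ _ _ (by decide) (allR_join _ _ _ _ (by decide) (allR_join _ _ _ _ (by decide) k_certp_800 k_certp_801) (allR_join _ _ _ _ (by decide) k_certp_802 k_certp_803)) (allR_join _ _ _ _ (by decide) (allR_join _ _ _ _ (by decide) k_certp_804 k_certp_805) (allR_join _ _ _ _ (by decide) k_certp_806 k_certp_807))) (allR_join _ _ _ _ (by decide) (allR_join _ _ _ _ (by decide) (allR_join _ _ _ _ (by decide) k_certp_808 k_certp_809) (allR_join _ _ _ _ (by decide) k_certp_810 k_certp_811))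 (allR_join _ _ _ _ (by decide) (allR_join _ _ _ _ (by decide) k_certp_812 k_certp_813) (allR_join _ _ _ _ (by decide) k_certp_814 k_certp_815)))) (allR_join _ _ _ _ (by decide) (allR_join _ _ _ _ (by decide) (allR_join _ _ _ _ (by decide) (allR_join _ _ _ _ (by decide) k_certp_816 k_certp_817) (allR_join _ _ _ _ (by decide) k_certp_818 k_certp_819)) (allR_join _ _ _ _ (by decide) (allR_join _ _ _ _ (by decide) k_certp_820 k_certp_821) (allR_join _ _ _ _ (by decide) k_certp_822 k_certp_823))) (allR_join _ _ _ _ (by decide) (allR_join _ _ _ _ (by decide) (allR_join _ _ _ _ (by decide) k_certp_824 k_certp_825) (allR_join _ _ _ _ (by decide) k_certp_826 k_certp_827)) (allR_join _ _ _ _ (by decide) (allR_join _ _ _ _ (by decide) k_certp_828 k_certp_829) (allR_join _ _ _ _ (by decide) k_certp_830 k_certp_831)))))) (allR_join _ _ _ _ (by decide) (allR_join _ _ _ _ (by decide) (allR_join _ _ _ _ (by decide) (allR_join _ _ _ _ (by decide) (allR_join _ _ _ _ (by decide) (allR_join _ _ _ _ (by decide) k_certp_832 k_certp_833)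 (allR_join _ _ _ _ (by decide) k_certp_834 k_certp_835)) (allR_join _ _ _ _ (by decide) (allR_join _ _ _ _ (by decide) k_certp_836 k_certp_837) (allR_join _ _ _ _ (by decide) k_certp_838 k_certp_839))) (allR_join _ _ _ _ (by decide) (allR_join _ _ _ _ (by decide) (allR_join _ _ _ _ (by decide) k_certp_840 k_certp_841) (allR_join _ _ _ _ (by decide) k_certp_842 k_certp_843)) (allR_join _ _ _ _ (by decide) (allR_join _ _ _ _ (by decide) k_certp_844 k_certp_845) (allR_join _ _ _ _ (by decide) k_certp_846 k_certp_847)))) (allR_join _ _ _ _ (by decide) (allR_join _ _ _ _ (by decide) (allR_join _ _ _ _ (by decide) (allR_join _ _ _ _ (by decide) k_certp_848 k_certp_849) (allR_join _ _ _ _ (by decide) k_certp_850 k_certp_851)) (allR_join _ _ _ _ (by decide) (allR_join _ _ _ _ (by decide) k_certp_852 k_certp_853) (allR_join _ _ _ _ (by decide) k_certp_854 k_certp_855))) (allR_join _ _ _ _ (by decide) (allR_join _ _ _ _ (by decide) (allR_join _ _ _ _ (by decide) k_certp_856 k_certp_857) (allR_join _ _ _ _ (by decide) k_certp_858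 k_certp_859)) (allR_join _ _ _ _ (by decide) (allR_join _ _ _ _ (by decide) k_certp_860 k_certp_861) (allR_join _ _ _ _ (by decide) k_certp_862 k_certp_863))))) (allR_join _ _ _ _ (by decide) (allR_join _ _ _ _ (by decide) (allR_join _ _ _ _ (by decide) (allR_join _ _ _ _ (by decide) (allR_join _ _ _ _ (by decide) k_certp_864 k_certp_865) (allR_join _ _ _ _ (by decide) k_certp_866 k_certp_867)) (allR_join _ _ _ _ (by decide) (allR_join _ _ _ _ (by decide) k_certp_868 k_certp_869) (allR_join _ _ _ _ (by decide) k_certp_870 k_certp_871))) (allR_join _ _ _ _ (by decide) (allR_join _ _ _ _ (by decide) (allR_join _ _ _ _ (by decide) k_certp_872 k_certp_873) (allR_join _ _ _ _ (by decide) k_certp_874 k_certp_875)) (allR_join _ _ _ _ (by decide) (allR_join _ _ _ _ (by decide) k_certp_876 k_certp_877) (allR_join _ _ _ _ (by decide) k_certp_878 k_certp_879)))) (allR_join _ _ _ _ (by decide) (allR_join _ _ _ _ (by decide) (allR_join _ _ _ _ (by decide) (allR_join _ _ _ _ (by decide) k_certp_880 k_certp_881) (allR_join _ _ _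 _ (by decide) k_certp_882 k_certp_883)) (allR_join _ _ _ _ (by decide) (allR_join _ _ _ _ (by decide) k_certp_884 k_certp_885) (allR_join _ _ _ _ (by decide) k_certp_886 k_certp_887))) (allR_join _ _ _ _ (by decide) (allR_join _ _ _ _ (by decide) (allR_join _ _ _ _ (by decide) k_certp_888 k_certp_889) (allR_join _ _ _ _ (by decide) k_certp_890 k_certp_891)) (allR_join _ _ _ _ (by decide) (allR_join _ _ _ _ (by decide) k_certp_892 k_certp_893) (allR_join _ _ _ _ (by decide) k_certp_894 k_certp_895))))))) (allR_join _ _ _ _ (by decide) (allR_join _ _ _ _ (by decide) (allR_join _ _ _ _ (by decide) (allR_join _ _ _ _ (by decide) (allR_join _ _ _ _ (by decide) (allR_join _ _ _ _ (by decide) (allR_join _ _ _ _ (by decide) k_certp_896 k_certp_897) (allR_join _ _ _ _ (by decide) k_certp_898 k_certp_899)) (allR_join _ _ _ _ (by decide) (allR_join _ _ _ _ (by decide) k_certp_900 k_certp_901) (allR_join _ _ _ _ (by decide) k_certp_902 k_certp_903))) (allR_join _ _ _ _ (by decide) (allR_join _ _ _ _ (by decide) (allR_join _ _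 _ _ (by decide) k_certp_904 k_certp_905) (allR_join _ _ _ _ (by decide) k_certp_906 k_certp_907)) (allR_join _ _ _ _ (by decide) (allR_join _ _ _ _ (by decide) k_certp_908 k_certp_909) (allR_join _ _ _ _ (by decide) k_certp_910 k_certp_911)))) (allR_join _ _ _ _ (by decide) (allR_join _ _ _ _ (by decide) (allR_join _ _ _ _ (by decide) (allR_join _ _ _ _ (by decide) k_certp_912 k_certp_913) (allR_join _ _ _ _ (by decide) k_certp_914 k_certp_915)) (allR_join _ _ _ _ (by decide) (allR_join _ _ _ _ (by decide) k_certp_916 k_certp_917) (allR_join _ _ _ _ (by decide) k_certp_918 k_certp_919))) (allR_join _ _ _ _ (by decide) (allR_join _ _ _ _ (by decide) (allR_join _ _ _ _ (by decide) k_certp_920 k_certp_921) (allR_join _ _ _ _ (by decide) k_certp_922 k_certp_923)) (allR_join _ _ _ _ (by decide) (allR_join _ _ _ _ (by decide) k_certp_924 k_certp_925) (allR_join _ _ _ _ (by decide) k_certp_926 k_certp_927))))) (allR_join _ _ _ _ (by decide) (allR_join _ _ _ _ (by decide) (allR_join _ _ _ _ (by decide) (allR_join _ _ _ _ (by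 decide) (allR_join _ _ _ _ (by decide) k_certp_928 k_certp_929) (allR_join _ _ _ _ (by decide) k_certp_930 k_certp_931)) (allR_join _ _ _ _ (by decide) (allR_join _ _ _ _ (by decide) k_certp_932 k_certp_933) (allR_join _ _ _ _ (by decide) k_certp_934 k_certp_935))) (allR_join _ _ _ _ (by decide) (allR_join _ _ _ _ (by decide) (allR_join _ _ _ _ (by decide) k_certp_936 k_certp_937) (allR_join _ _ _ _ (by decide) k_certp_938 k_certp_939)) (allR_join _ _ _ _ (by decide) (allR_join _ _ _ _ (by decide) k_certp_940 k_certp_941) (allR_join _ _ _ _ (by decide) k_certp_942 k_certp_943)))) (allR_join _ _ _ _ (by decide) (allR_join _ _ _ _ (by decide) (allR_join _ _ _ _ (by decide) (allR_join _ _ _ _ (by decide) k_certp_944 k_certp_945) (allR_join _ _ _ _ (by decide) k_certp_946 k_certp_947)) (allR_join _ _ _ _ (by decide) (allR_join _ _ _ _ (by decide) k_certp_948 k_certp_949) (allR_join _ _ _ _ (by decide) k_certp_950 k_certp_951))) (allR_join _ _ _ _ (by decide) (allR_join _ _ _ _ (by decide) (allR_join _ _ _ _ (by decide)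 k_certp_952 k_certp_953) (allR_join _ _ _ _ (by decide) k_certp_954 k_certp_955)) (allR_join _ _ _ _ (by decide) (allR_join _ _ _ _ (by decide) k_certp_956 k_certp_957) (allR_join _ _ _ _ (by decide) k_certp_958 k_certp_959)))))) (allR_join _ _ _ _ (by decide) (allR_join _ _ _ _ (by decide) (allR_join _ _ _ _ (by decide) (allR_join _ _ _ _ (by decide) (allR_join _ _ _ _ (by decide) (allR_join _ _ _ _ (by decide) k_certp_960 k_certp_961) (allR_join _ _ _ _ (by decide) k_certp_962 k_certp_963)) (allR_join _ _ _ _ (by decide) (allR_join _ _ _ _ (by decide) k_certp_964 k_certp_965) (allR_join _ _ _ _ (by decide) k_certp_966 k_certp_967))) (allR_join _ _ _ _ (by decide) (allR_join _ _ _ _ (by decide) (allR_join _ _ _ _ (by decide) k_certp_968 k_certp_969) (allR_join _ _ _ _ (by decide) k_certp_970 k_certp_971)) (allR_join _ _ _ _ (by decide) (allR_join _ _ _ _ (by decide) k_certp_972 k_certp_973) (allR_join _ _ _ _ (by decide) k_certp_974 k_certp_975)))) (allR_join _ _ _ _ (by decide) (allR_join _ _ _ _ (by decide) (allR_join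 _ _ _ _ (by decide) (allR_join _ _ _ _ (by decide) k_certp_976 k_certp_977) (allR_join _ _ _ _ (by decide) k_certp_978 k_certp_979)) (allR_join _ _ _ _ (by decide) (allR_join _ _ _ _ (by decide) k_certp_980 k_certp_981) (allR_join _ _ _ _ (by decide) k_certp_982 k_certp_983))) (allR_join _ _ _ _ (by decide) (allR_join _ _ _ _ (by decide) (allR_join _ _ _ _ (by decide) k_certp_984 k_certp_985) (allR_join _ _ _ _ (by decide) k_certp_986 k_certp_987)) (allR_join _ _ _ _ (by decide) (allR_join _ _ _ _ (by decide) k_certp_988 k_certp_989) (allR_join _ _ _ _ (by decide) k_certp_990 k_certp_991))))) (allR_join _ _ _ _ (by decide) (allR_join _ _ _ _ (by decide) (allR_join _ _ _ _ (by decide) (allR_join _ _ _ _ (by decide) (allR_join _ _ _ _ (by decide) k_certp_992 k_certp_993) (allR_join _ _ _ _ (by decide) k_certp_994 k_certp_995)) (allR_join _ _ _ _ (by decide) (allR_join _ _ _ _ (by decide) k_certp_996 k_certp_997) (allR_join _ _ _ _ (by decide) k_certp_998 k_certp_999))) (allR_join _ _ _ _ (by decide) (allR_join _ _ _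 _ (by decide) (allR_join _ _ _ _ (by decide) k_certp_1000 k_certp_1001) (allR_join _ _ _ _ (by decide) k_certp_1002 k_certp_1003)) (allR_join _ _ _ _ (by decide) (allR_join _ _ _ _ (by decide) k_certp_1004 k_certp_1005) (allR_join _ _ _ _ (by decide) k_certp_1006 k_certp_1007)))) (allR_join _ _ _ _ (by decide) (allR_join _ _ _ _ (by decide) (allR_join _ _ _ _ (by decide) (allR_join _ _ _ _ (by decide) k_certp_1008 k_certp_1009) (allR_join _ _ _ _ (by decide) k_certp_1010 k_certp_1011)) (allR_join _ _ _ _ (by decide) (allR_join _ _ _ _ (by decide) k_certp_1012 k_certp_1013) (allR_join _ _ _ _ (by decide) k_certp_1014 k_certp_1015))) (allR_join _ _ _ _ (by decide) (allR_join _ _ _ _ (by decide) (allR_join _ _ _ _ (by decide) k_certp_1016 k_certp_1017) (allR_join _ _ _ _ (by decide) k_certp_1018 k_certp_1019)) (allR_join _ _ _ _ (by decide) (allR_join _ _ _ _ (by decide) k_certp_1020 k_certp_1021) (allR_join _ _ _ _ (by decide) k_certp_1022 k_certp_1023))))))))))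

theorem k_fin : allR (ckFin C 4 nn nF can fin T) 15 0 = true := (allR_join _ _ _ _ (by decide) (allR_join _ _ _ _ (by decide) (allR_join _ _ _ _ (by decide) (allR_join _ _ _ _ (by decide) (allR_join _ _ _ _ (by decide) k_finp_0 k_finp_1) (allR_join _ _ _ _ (by decide) k_finp_2 k_finp_3)) (allR_join _ _ _ _ (by decide) (allR_join _ _ _ _ (by decide) k_finp_4 k_finp_5) (allR_join _ _ _ _ (by decide) k_finp_6 k_finp_7))) (allR_join _ _ _ _ (by decide) (allR_join _ _ _ _ (by decide) (allR_join _ _ _ _ (by decide) k_finp_8 k_finp_9) (allR_join _ _ _ _ (by decide) k_finp_10 k_finp_11)) (allR_join _ _ _ _ (by decide) (allR_join _ _ _ _ (by decide) k_finp_12 k_finp_13) (allR_join _ _ _ _ (by decide) k_finp_14 k_finp_15)))) (allR_join _ _ _ _ (by decide) (allR_join _ _ _ _ (by decide) (allR_join _ _ _ _ (by decide) (allR_join _ _ _ _ (by decide) k_finp_16 k_finp_17) (allR_join _ _ _ _ (by decide) k_finp_18 k_finp_19)) (allR_join _ _ _ _ (by decide) (allR_join _ _ _ _ (by decide) k_finp_20 k_finp_21) (allR_join _ _ _ _ (by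 decide) k_finp_22 k_finp_23))) (allR_join _ _ _ _ (by decide) (allR_join _ _ _ _ (by decide) (allR_join _ _ _ _ (by decide) k_finp_24 k_finp_25) (allR_join _ _ _ _ (by decide) k_finp_26 k_finp_27)) (allR_join _ _ _ _ (by decide) (allR_join _ _ _ _ (by decide) k_finp_28 k_finp_29) (allR_join _ _ _ _ (by decide) k_finp_30 k_finp_31)))))

theorem k_tbl : allR (ckTbl 4 nn T) 15 0 = true := (allR_join _ _ _ _ (by decide) (allR_join _ _ _ _ (by decide) (allR_join _ _ _ _ (by decide) (allR_join _ _ _ _ (by decide) (allR_join _ _ _ _ (by decide) k_tblp_0 k_tblp_1) (allR_join _ _ _ _ (by decide) k_tblp_2 k_tblp_3)) (allR_join _ _ _ _ (by decide) (allR_join _ _ _ _ (by decide) k_tblp_4 k_tblp_5) (allR_join _ _ _ _ (by decide) k_tblp_6 k_tblp_7))) (allR_join _ _ _ _ (by decide) (allR_join _ _ _ _ (by decide) (allR_join _ _ _ _ (by decide) k_tblp_8 k_tblp_9) (allR_join _ _ _ _ (by decide) k_tblp_10 k_tblp_11)) (allR_join _ _ _ _ (by decide) (allR_join _ _ _ _ (by decide) k_tblp_12 k_tblp_13) (allR_join _ _ _ _ (by decide) k_tblp_14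 k_tblp_15)))) (allR_join _ _ _ _ (by decide) (allR_join _ _ _ _ (by decide) (allR_join _ _ _ _ (by decide) (allR_join _ _ _ _ (by decide) k_tblp_16 k_tblp_17) (allR_join _ _ _ _ (by decide) k_tblp_18 k_tblp_19)) (allR_join _ _ _ _ (by decide) (allR_join _ _ _ _ (by decide) k_tblp_20 k_tblp_21) (allR_join _ _ _ _ (by decide) k_tblp_22 k_tblp_23))) (allR_join _ _ _ _ (by decide) (allR_join _ _ _ _ (by decide) (allR_join _ _ _ _ (by decide) k_tblp_24 k_tblp_25) (allR_join _ _ _ _ (by decide) k_tblp_26 k_tblp_27)) (allR_join _ _ _ _ (by decide) (allR_join _ _ _ _ (by decide) k_tblp_28 k_tblp_29) (allR_join _ _ _ _ (by decide) k_tblp_30 k_tblp_31)))))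

theorem cyc_sub : ∀ ρ < cycW.length, ρ < 3 → cycW.getD ρ [] ∈ subW := by decide +kernel

theorem cyc_rel : ∀ ρ < cycW.length, 3 ≤ ρ → cycW.getD ρ [] ∈ mkRel 4 exactW centW false := by
  decide +kernel


theorem letters_lt : (∀ w ∈ exactW, ∀ x ∈ w, x < 4) ∧ (∀ w ∈ centW, ∀ x ∈ w, x < 4) ∧ (∀ w ∈ subW, ∀ x ∈ w, x < 4) := by decide +kernel
theorem nn_pos : 0 < nn := by decide

/-- The coset table is sound for every group with involutive generators satisfying the relators. -/
theorem tableHyp {G : Type*} [Group G] (gen : Nat → G) (H : Subgroup G)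
    (hinv : ∀ x, gen x * gen x = 1)
    (hgen : Subgroup.closure {g : G | ∃ x < 4, g = gen x} = ⊤)
    (hrel : ∀ w ∈ mkRel 4 exactW centW false, evr gen w = 1)
    (hsub : ∀ w ∈ subW, evr gen w ∈ H) :
    TableHyp gen H 4 nn T (fun i => rep gen C (can i)) :=
  tableHyp_of_checks gen H C 4 nn nF can fin T hinv hgen
    (fun ρ h1 h2 => hrel _ (cyc_rel ρ h2 h1))
    (fun ρ h1 => hsub _ (cyc_sub ρ (lt_of_lt_of_le h1 (by decide)) h1))
    (all_lt_pow _ nF 18 (by decide) k_cert)
    (all_lt_pow _ nn 15 (by decide) k_fin)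
    (all_lt_pow _ nn 15 (by decide) k_tbl)
    (by decide +kernel)

end Cfsg.Agent.Lib.Helper77.TCS.H3
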