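import Cfsg.Agent.Lib.Helper77.J3SchurK
import Cfsg.Agent.Lib.Helper77.TCSH2I
import Cfsg.Agent.Lib.Helper77.TCSH3I

set_option autoImplicit false
set_option linter.style.haveILetI false
set_option linter.unusedSectionVars false
set_option maxRecDepth 100000

/-! Stem extensions of a group with the presentation data of `J3`: the kernel has order 1 or 3. -/

namespace Cfsg.Agent.Lib.Helper77.SchurLift

open Cfsg.Agent.Lib.Helper25.TC Cfsg.Agent.Lib.Helper77.SchurTC Cfsg.Agent.Lib.Helper77.SchurWords
open Cfsg.Agent.Lib.Helper77.TCS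

/-- The facts about the target group. -/
structure Target {G : Type*} [Group G] (gen : Nat → G) : Prop where
  rels : ∀ w ∈ allRelW, evr gen w = 1
  triv : ∀ x, 4 ≤ x → gen x = 1
  gens : Subgroup.closure {g : G | ∃ x < 4, g = gen x} = ⊤
  ord : ∀ x < 4, orderOf (gen x) = 2
  ab : gen 0 * gen 1 ≠ 1
  conj : ∀ s t : G, orderOf s = 2 → orderOf t = 2 → IsConj s t
  e8 : ∃ s t u : G, orderOf s = 2 ∧ orderOf t = 2 ∧ orderOf u = 2 ∧ s * t = t * s ∧
    s * u = u * s ∧ t * u = u * t ∧ s ≠ t ∧ s * t ≠ u ∧ s ≠ u ∧ t ≠ u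

section main
variable {Γ : Type*} {G : Type*} [Group Γ] [Group G] [Finite Γ] (σ : Γ →* G)
  (hσ : Cfsg.IsStemExtension σ) (gen : Nat → G) (hT : Target gen)

include hT in
theorem gen_sq (x : Nat) : gen x * gen x = 1 := by
  by_cases hx : x < 4
  · have := pow_orderOf_eq_one (gen x)
    rwa [hT.ord x hx, pow_two] at this
  · rw [hT.triv x (by omega), one_mul]

include hσ hT in
/-- Lifts by involutions generate. -/
theorem lifts_gen (g : Nat → Γ) (hg : Good σ gen g) :
    Subgroup.closure {y : Γ | ∃ x < 4, y = g x} = ⊤ := by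
  apply closure_lifts_eq_top σ hσ.2.1 hσ.2.2
  rw [← hT.gens]
  congr 1
  ext y
  constructor
  · rintro ⟨_, ⟨x, hx, rfl⟩, rfl⟩
    exact ⟨x, hx, hg.2 x⟩
  · rintro ⟨x, hx, rfl⟩
    exact ⟨g x, ⟨x, hx, rfl⟩, hg.2 x⟩

include hT in
/-- The value of a relator on lifts lies in the kernel. -/
theorem rel_mem_ker (g : Nat → Γ) (hg : Good σ gen g) (w : List Nat) (hw : w ∈ allRelW) :
    evr g w ∈ σ.ker := by
  rw [MonoidHom.mem_ker, map_evr]
  have : (fun x => σ (g x)) = gen := funext hg.2
  rw [this, hT.rels w hw]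

include hσ hT in
theorem rel_central (g : Nat → Γ) (hg : Good σ gen g) (w : List Nat) (hw : w ∈ allRelW)
    (y : Γ) : evr g w * y = y * evr g w :=
  (Subgroup.mem_center_iff.mp (hσ.2.1 (rel_mem_ker σ gen hT g hg w hw)) y).symm

include hσ hT in
/-- Kernel of exponent two: the extension is not bigger than `6156 * 8160`. -/
theorem thmA (hZ2 : ∀ z ∈ σ.ker, z * z = 1) : Nat.card Γ ≤ 6156 * (480 * 17) := by
  obtain ⟨hs, hc, hcomm⟩ := hσ
  obtain ⟨s, t, u, hs2, ht2, hu2, hst, hsu, htu, hn1, hn2, hn3, hn4⟩ := hT.e8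
  -- lifts
  have hl : ∀ x, ∃ r : Γ, σ r = gen x ∧ r * r = 1 := by
    intro x
    by_cases hx : x < 4
    · exact lift_invol_two σ hs hc hZ2 hT.conj s t u hs2 ht2 hu2 hst hsu htu hn1 hn2 hn3 hn4
        (gen x) (hT.ord x hx)
    · exact ⟨1, by rw [map_one, hT.triv x (by omega)], one_mul 1⟩
  choose g₀ hg₀ using hl
  have hG0 : Good σ gen g₀ := ⟨fun x => (hg₀ x).2, fun x => (hg₀ x).1⟩
  have hrel : ∀ w ∈ allRelW, evr gen w = 1 := hT.rels
  -- four adjustments
  obtain ⟨g₁, hG1, h1a, -⟩ := fix_step σ hc hZ2 gen g₀ hG0 0 wE3 (by decide)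
    (hrel _ (by decide)) [] (by simp)
  obtain ⟨g₂, hG2, h2a, h2b⟩ := fix_step σ hc hZ2 gen g₁ hG1 1 wAB (by decide)
    (hrel _ (by decide)) [wE3] (by
      intro w hw
      have : w = wE3 := by simpa using hw
      subst this
      exact ⟨by decide, h1a⟩)
  obtain ⟨g₃, hG3, h3a, h3b⟩ := fix_step σ hc hZ2 gen g₂ hG2 3 wE9 (by decide)
    (hrel _ (by decide)) [wE3, wAB] (by
      intro w hw
      simp only [List.mem_cons, List.not_mem_nil, or_false] at hw
      rcases hw with rfl | rfl
      · exact ⟨by decide, h2b _ (by simp)⟩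
      · exact ⟨by decide, h2a⟩)
  obtain ⟨f, hG, h4a, h4b⟩ := fix_step σ hc hZ2 gen g₃ hG3 2 wCD (by decide)
    (hrel _ (by decide)) [wE3, wAB, wE9] (by
      intro w hw
      simp only [List.mem_cons, List.not_mem_nil, or_false] at hw
      rcases hw with rfl | rfl | rfl
      · exact ⟨by decide, h3b _ (by simp)⟩
      · exact ⟨by decide, h3b _ (by simp)⟩
      · exact ⟨by decide, h3a⟩)
  have hinv : ∀ x, f x * f x = 1 := hG.1
  have hE3 : evr f wE3 = 1 := h4b _ (by simp)
  have hAB : evr f wAB = 1 := h4b _ (by simp)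
  have hE9 : evr f wE9 = 1 := h4b _ (by simp)
  have hCD : evr f wCD = 1 := h4a
  have hsq : ∀ x, evr f (sq x) = 1 := by
    intro x
    show evr f [x, x] = 1
    simp only [evr, one_mul]
    exact hinv x
  have hker : ∀ w ∈ allRelW, evr f w ∈ σ.ker := rel_mem_ker σ gen hT f hG
  have hcen : ∀ w ∈ allRelW, ∀ y : Γ, evr f w * y = y * evr f w :=
    fun w hw y => (Subgroup.mem_center_iff.mp (hc (hker w hw)) y).symm
  -- the subgroup level
  have hK := exactK_two f hinv (by
      intro w hw
      simp only [List.mem_cons, List.not_mem_nil, or_false] at hw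
      rcases hw with rfl | rfl | rfl | rfl | rfl
      · exact hsq 0
      · exact hsq 1
      · exact hsq 2
      · exact hAB
      · exact hE3)
    (by
      intro ra hra
      have hm : ra ∈ allRelW := by
        simp only [List.mem_cons, List.not_mem_nil, or_false] at hra
        rcases hra with rfl | rfl | rfl | rfl <;> decide
      exact ⟨hcen ra hm, hZ2 _ (hker ra hm)⟩)
  have hexK : ∀ w ∈ [sq 0, sq 1, sq 2, wAB, wAC, wBC, wE1, wE2, wE3], evr f w = 1 := by
    intro w hw
    simp only [List.mem_cons, List.not_mem_nil, or_false] at hw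
    rcases hw with rfl | rfl | rfl | rfl | rfl | rfl | rfl | rfl | rfl
    · exact hsq 0
    · exact hsq 1
    · exact hsq 2
    · exact hAB
    · exact hK _ (by simp)
    · exact hK _ (by simp)
    · exact hK _ (by simp)
    · exact hK _ (by simp)
    · exact hE3
  have hcardK := cardK_le f hinv hexK
  -- the top level
  have hexW : H2.exactW = [sq 0, sq 1, sq 2, sq 3, wAB, wAC, wBC, wE1, wE2, wE3, wCD, wE9] := by
    decide
  have hceW : H2.centW = [wAD, wBD, wE4, wE5, wE6, wE7, wE8, wE10] := by decide
  have hh := H2.tableHyp f (subK f 3) hinv (lifts_gen σ ⟨hs, hc, hcomm⟩ gen hT f hG)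
    (rel_of f hinv 4 H2.exactW H2.centW true
      (by
        intro w hw
        rw [hexW] at hw
        simp only [List.mem_cons, List.not_mem_nil, or_false] at hw
        rcases hw with rfl | rfl | rfl | rfl | rfl | rfl | rfl | rfl | rfl | rfl | rfl | rfl
        · exact hsq 0
        · exact hsq 1
        · exact hsq 2
        · exact hsq 3
        · exact hAB
        · exact hexK _ (by simp)
        · exact hexK _ (by simp)
        · exact hexK _ (by simp)
        · exact hexK _ (by simp)
        · exact hE3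
        · exact hCD
        · exact hE9)
      (by
        intro ra hra
        rw [hceW] at hra
        have hm : ra ∈ allRelW := by
          simp only [List.mem_cons, List.not_mem_nil, or_false] at hra
          rcases hra with rfl | rfl | rfl | rfl | rfl | rfl | rfl | rfl <;> decide
        exact ⟨fun x _ => hcen ra hm (f x), fun _ => hZ2 _ (hker ra hm)⟩))
    (by
      intro w hw
      have : w = [0] ∨ w = [1] ∨ w = [2] := by simpa [H2.subW] using hw
      rcases this with rfl | rfl | rfl
      · simp only [evr, one_mul]; exact Subgroup.subset_closure ⟨0, by norm_num, rfl⟩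
      · simp only [evr, one_mul]; exact Subgroup.subset_closure ⟨1, by norm_num, rfl⟩
      · simp only [evr, one_mul]; exact Subgroup.subset_closure ⟨2, by norm_num, rfl⟩)
  have h1 := card_le_of_tableHyp hh H2.nn_pos
  calc Nat.card Γ ≤ H2.nn * Nat.card (subK f 3) := h1
    _ ≤ 6156 * (480 * 17) := Nat.mul_le_mul (by decide) hcardK

include hσ hT in
/-- Kernel of odd order: the extension is not bigger than `18468 * 8160`. -/
theorem thmB (hodd : Odd (Nat.card σ.ker)) : Nat.card Γ ≤ 18468 * (480 * 17) := by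
  obtain ⟨hs, hc, hcomm⟩ := hσ
  have hl : ∀ x, ∃ r : Γ, σ r = gen x ∧ r * r = 1 :=
    fun x => lift_invol_odd σ hs hc hodd (gen x) (gen_sq gen hT x)
  choose f hf using hl
  have hG : Good σ gen f := ⟨fun x => (hf x).2, fun x => (hf x).1⟩
  have hinv : ∀ x, f x * f x = 1 := hG.1
  have hsq : ∀ x, evr f (SchurWords.sq x) = 1 := by
    intro x
    show evr f [x, x] = 1
    simp only [evr, one_mul]
    exact hinv x
  have hker : ∀ w ∈ allRelW, evr f w ∈ σ.ker := rel_mem_ker σ gen hT f hG
  have hcen : ∀ w ∈ allRelW, ∀ y : Γ, evr f w * y = y * evr f w :=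
    fun w hw y => (Subgroup.mem_center_iff.mp (hc (hker w hw)) y).symm
  have hpal : ∀ (w : List Nat) (i : Nat), w ∈ allRelW → w.reverse = w.drop i ++ w.take i →
      evr f w = 1 := by
    intro w i hm hrev
    have e : w.take i ++ w.drop i = w := List.take_append_drop i w
    have h2 := sq_eq_one_of_rot f hinv (w.take i) (w.drop i) (by rw [e]; exact hrev)
      (by rw [e]; exact hcen w hm)
    rw [e] at h2
    exact eq_one_of_sq_of_odd σ.ker hodd _ (hker w hm) h2
  have hAB : evr f wAB = 1 := hpal wAB 1 (by decide) (by decide)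
  have hAC : evr f wAC = 1 := hpal wAC 1 (by decide) (by decide)
  have hAD : evr f wAD = 1 := hpal wAD 1 (by decide) (by decide)
  have hBC : evr f wBC = 1 := hpal wBC 1 (by decide) (by decide)
  have hBD : evr f wBD = 1 := hpal wBD 1 (by decide) (by decide)
  have hCD : evr f wCD = 1 := hpal wCD 1 (by decide) (by decide)
  have hE1 : evr f wE1 = 1 := hpal wE1 1 (by decide) (by decide)
  have hE2 : evr f wE2 = 1 := hpal wE2 5 (by decide) (by decide)
  have hE5 : evr f wE5 = 1 := hpal wE5 9 (by decide) (by decide)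
  have hE6 : evr f wE6 = 1 := hpal wE6 9 (by decide) (by decide)
  have hE9 : evr f wE9 = 1 := hpal wE9 11 (by decide) (by decide)
  have hE10 : evr f wE10 = 1 := hpal wE10 11 (by decide) (by decide)
  -- the third extra relator
  have hE3 : evr f wE3 = 1 := by
    obtain ⟨j, hj⟩ := sqK_odd f hinv (by
        intro w hw
        simp only [List.mem_cons, List.not_mem_nil, or_false] at hw
        rcases hw with rfl | rfl | rfl | rfl | rfl | rfl | rfl | rfl
        · exact hsq 0
        · exact hsq 1
        · exact hsq 2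
        · exact hAB
        · exact hAC
        · exact hBC
        · exact hE1
        · exact hE2)
      (hcen wE3 (by decide))
    have hρ : evr f [1, 0] = f 0 * f 1 := by simp [evr]
    have hρ17 : (f 0 * f 1) ^ 17 = 1 := by
      rw [← hρ, ← evr_flat_rep, ← wAB_eq]; exact hAB
    have hr17 : (gen 0 * gen 1) ^ 17 = 1 := by
      have := hT.rels wAB (by decide)
      rw [wAB_eq, evr_flat_rep] at this
      simpa [evr] using this
    haveI : Fact (Nat.Prime 17) := ⟨by norm_num⟩
    have hord : orderOf (gen 0 * gen 1) = 17 := orderOf_eq_prime hr17 hT.ab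
    have hvv : evr f wE3 * evr f wE3 ∈ σ.ker :=
      σ.ker.mul_mem (hker wE3 (by decide)) (hker wE3 (by decide))
    rw [← hj, hρ, MonoidHom.mem_ker, map_zpow, map_mul, hG.2, hG.2] at hvv
    have hdvd : ((orderOf (gen 0 * gen 1) : ℕ) : ℤ) ∣ j := orderOf_dvd_iff_zpow_eq_one.mpr hvv
    rw [hord] at hdvd
    obtain ⟨m, rfl⟩ := hdvd
    have h1 : (f 0 * f 1) ^ ((17 : ℕ) * m : ℤ) = 1 := by
      rw [zpow_mul, zpow_natCast, hρ17, one_zpow]
    rw [hρ] at hj
    have h2 : evr f wE3 * evr f wE3 = 1 := by
      rw [← hj]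
      exact_mod_cast h1
    exact eq_one_of_sq_of_odd σ.ker hodd _ (hker wE3 (by decide)) h2
  have hexK : ∀ w ∈ [SchurWords.sq 0, SchurWords.sq 1, SchurWords.sq 2, wAB, wAC, wBC, wE1, wE2,
      wE3], evr f w = 1 := by
    intro w hw
    simp only [List.mem_cons, List.not_mem_nil, or_false] at hw
    rcases hw with rfl | rfl | rfl | rfl | rfl | rfl | rfl | rfl | rfl
    · exact hsq 0
    · exact hsq 1
    · exact hsq 2
    · exact hAB
    · exact hAC
    · exact hBC
    · exact hE1
    · exact hE2
    · exact hE3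
  have hcardK := cardK_le f hinv hexK
  have hexW : H3.exactW = [SchurWords.sq 0, SchurWords.sq 1, SchurWords.sq 2, SchurWords.sq 3,
      wAB, wAC, wAD, wBC, wBD, wCD, wE1, wE2, wE3, wE5, wE6, wE9, wE10] := by decide
  have hceW : H3.centW = [wE4, wE7, wE8] := by decide
  have hh := H3.tableHyp f (subK f 3) hinv (lifts_gen σ ⟨hs, hc, hcomm⟩ gen hT f hG)
    (rel_of f hinv 4 H3.exactW H3.centW false
      (by
        intro w hw
        rw [hexW] at hw
        simp only [List.mem_cons, List.not_mem_nil, or_false] at hw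
        rcases hw with rfl | rfl | rfl | rfl | rfl | rfl | rfl | rfl | rfl | rfl | rfl | rfl |
          rfl | rfl | rfl | rfl | rfl
        · exact hsq 0
        · exact hsq 1
        · exact hsq 2
        · exact hsq 3
        · exact hAB
        · exact hAC
        · exact hAD
        · exact hBC
        · exact hBD
        · exact hCD
        · exact hE1
        · exact hE2
        · exact hE3
        · exact hE5
        · exact hE6
        · exact hE9
        · exact hE10)
      (by
        intro ra hra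
        rw [hceW] at hra
        have hm : ra ∈ allRelW := by
          simp only [List.mem_cons, List.not_mem_nil, or_false] at hra
          rcases hra with rfl | rfl | rfl <;> decide
        exact ⟨fun x _ => hcen ra hm (f x), fun h => absurd h (by simp)⟩))
    (by
      intro w hw
      have : w = [0] ∨ w = [1] ∨ w = [2] := by simpa [H3.subW] using hw
      rcases this with rfl | rfl | rfl
      · simp only [evr, one_mul]; exact Subgroup.subset_closure ⟨0, by norm_num, rfl⟩
      · simp only [evr, one_mul]; exact Subgroup.subset_closure ⟨1, by norm_num, rfl⟩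
      · simp only [evr, one_mul]; exact Subgroup.subset_closure ⟨2, by norm_num, rfl⟩)
  have h1 := card_le_of_tableHyp hh H3.nn_pos
  calc Nat.card Γ ≤ H3.nn * Nat.card (subK f 3) := h1
    _ ≤ 18468 * (480 * 17) := Nat.mul_le_mul (by decide) hcardK

end main

section final

universe u v

/-- The kernel of a finite stem extension of a group with the presentation data of `J3` and the
order of `J3` has order 1 or 3. -/
theorem card_ker_eq {Γ : Type u} {G : Type v} [Group Γ] [Group G] [Finite Γ] [Finite G]
    (σ : Γ →* G) (hσ : Cfsg.IsStemExtension σ) (gen : Nat → G) (hT : Target gen)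
    (hcard : Nat.card G = 6156 * (480 * 17)) :
    Nat.card σ.ker = 1 ∨ Nat.card σ.ker = 3 := by
  have hodd : Odd (Nat.card σ.ker) := by
    apply odd_card_ker (G := G) _ σ hσ
    intro Γ₁ _ _ τ hτ hZ2
    rw [hcard]
    exact thmA τ hτ gen hT hZ2
  have h1 := thmB σ hσ gen hT hodd
  rw [card_eq_ker_mul σ hσ.1, hcard] at h1
  have h2 : Nat.card σ.ker ≤ 3 := by omega
  have h3 : 0 < Nat.card σ.ker := Nat.card_pos
  obtain ⟨m, hm⟩ := hodd
  omega

end final

end Cfsg.Agent.Lib.Helper77.SchurLift
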