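import Cfsg.Agent.Lib.Helper77.J3SchurData
import Cfsg.Agent.Lib.Helper77.J3SchurMain
import Cfsg.Agent.Lib.Helper77.J3InvMain

set_option autoImplicit false
set_option linter.style.haveILetI false
set_option linter.unusedSectionVars false
set_option maxRecDepth 100000

/-! The group `J3` (over a field in the lowest universe) has the presentation data used for its
Schur multiplier. -/

namespace Cfsg.Agent.Lib.Helper77.J3

open Cfsg.Spor Matrix Cfsg.Agent.Lib.Helper25.TC Cfsg.Agent.Lib.Helper77.SchurLift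
  Cfsg.Agent.Lib.Helper77.SchurWords Cfsg.Agent.Lib.Helper77.CentShape

variable {F : Type} [Field F] {ω : F}

theorem sgK_lt : ∀ x, sgK.getD x oneK < 2 ^ 162 := by
  have h4 : ∀ x < 4, sgK.getD x oneK < 2 ^ 162 := by
    rw [← lim162_eq]
    decide +kernel
  intro x
  by_cases hx : x < 4
  · exact h4 x hx
  · rw [List.getD_eq_default _ _ (by simp [sgK]; omega)]
    exact scal_lt.1

theorem evK_lt (gs : List ℕ) : ∀ w : List ℕ, evK gs w < 2 ^ 162
  | [] => scal_lt.1
  | _ :: _ => mulKK_lt _ _

theorem wKey_lt (gs : List ℕ) : ∀ w : List ℕ, wKey gs w < 2 ^ 162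
  | [] => scal_lt.1
  | _ :: _ => mulKK_lt _ _

section main
variable [Finite F] (h : IsF4 F ω) (hgs : ∀ x ∈ csK, Rep (threeJ3 F ω) ω x)
  (hwK : Rep (threeJ3 F ω) ω wK)
  (hcs : ∀ z : GL F9 F, (∀ g ∈ threeJ3 F ω, g * z = z * g) → ∃ c : Fˣ, z = scU c)
  (hcen : Nat.card (Subgroup.center (threeJ3 F ω)) = 3)
  (hcard : Nat.card (threeJ3 F ω) = 150698880)
  (hle3 : threeJ3 F ω ≤ gen3GL F ω)
  (a b c d v1 v2 : threeJ3 F ω)
  (ha : ((a : GL F9 F) : Matrix F9 F9 F) = matOf ω saK)
  (hb : ((b : GL F9 F) : Matrix F9 F9 F) = matOf ω sbK)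
  (hc : ((c : GL F9 F) : Matrix F9 F9 F) = matOf ω scK)
  (hd : ((d : GL F9 F) : Matrix F9 F9 F) = matOf ω sdK)
  (hv1 : ((v1 : GL F9 F) : Matrix F9 F9 F) = matOf ω sv1K)
  (hv2 : ((v2 : GL F9 F) : Matrix F9 F9 F) = matOf ω sv2K)

local notation "π" => QuotientGroup.mk' (Subgroup.center (threeJ3 F ω))

/-- The four generators in the triple cover. -/
def eGen (a b c d : threeJ3 F ω) : ℕ → threeJ3 F ω
  | 0 => a
  | 1 => b
  | 2 => c
  | 3 => d
  | _ => 1

include ha hb hc hd in
theorem mat_eGen (x : ℕ) :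
    (((eGen a b c d x : threeJ3 F ω) : GL F9 F) : Matrix F9 F9 F) =
      matOf ω (sgK.getD x oneK) := by
  match x with
  | 0 => exact ha
  | 1 => exact hb
  | 2 => exact hc
  | 3 => exact hd
  | (n + 4) =>
    have : sgK.getD (n + 4) oneK = oneK := by
      rw [List.getD_eq_default]; simp [sgK]
    rw [this, matOf_one]
    rfl

include h ha hb hc hd in
theorem mat_evr : ∀ w : List ℕ,
    (((evr (eGen a b c d) w : threeJ3 F ω) : GL F9 F) : Matrix F9 F9 F) =
      matOf ω (evK sgK w)
  | [] => by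
    simp only [evr, evK]
    rw [matOf_one]
    rfl
  | x :: w => by
    simp only [evr, evK]
    rw [elt_mul, mat_evr w, mat_eGen a b c d ha hb hc hd x, ← matOf_mul h]

include h ha hb hc hd in
/-- The product of the generators along a word (first letter leftmost). -/
theorem mat_prod : ∀ w : List ℕ,
    ((((w.map (eGen a b c d)).prod : threeJ3 F ω) : GL F9 F) : Matrix F9 F9 F) =
      matOf ω (wKey sgK w)
  | [] => by
    simp only [List.map_nil, List.prod_nil, wKey]
    rw [matOf_one]
    rfl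
  | x :: w => by
    simp only [List.map_cons, List.prod_cons, wKey]
    rw [elt_mul, mat_prod w, mat_eGen a b c d ha hb hc hd x, ← matOf_mul h]

include h hwK hcs in
theorem pi_eq_one_iff (v : threeJ3 F ω) (k : ℕ) (hk : k < 2 ^ 162)
    (hv : ((v : GL F9 F) : Matrix F9 F9 F) = matOf ω k) : π v = 1 ↔ isScal k = true := by
  rw [QuotientGroup.mk'_apply, QuotientGroup.eq_one_iff]
  exact mem_center_iff_isScal h hwK hcs v k hk hv

include h hwK hcs in
theorem pi_ne_one (v : threeJ3 F ω) (k : ℕ) (hk : k < 2 ^ 162)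
    (hv : ((v : GL F9 F) : Matrix F9 F9 F) = matOf ω k) (hs : isScal k = false) : π v ≠ 1 := by
  intro e
  rw [pi_eq_one_iff h hwK hcs v k hk hv, hs] at e
  exact Bool.noConfusion e

include h hwK hcs in
/-- An involution of the quotient from a key. -/
theorem order_two (v : threeJ3 F ω) (k : ℕ) (hk : k < 2 ^ 162)
    (hv : ((v : GL F9 F) : Matrix F9 F9 F) = matOf ω k) (hs : isScal k = false)
    (h2 : isScal (mulKK k k) = true) : orderOf (π v) = 2 := by
  haveI : Fact (Nat.Prime 2) := ⟨Nat.prime_two⟩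
  apply orderOf_eq_prime
  · rw [pow_two, ← map_mul]
    exact (pi_eq_one_iff h hwK hcs (v * v) (mulKK k k) (mulKK_lt _ _)
      (by rw [elt_mul, hv, ← matOf_mul h])).mpr h2
  · exact pi_ne_one h hwK hcs v k hk hv hs

theorem eGen_ge (a b c d : threeJ3 F ω) (x : ℕ) (hx : 4 ≤ x) : eGen a b c d x = 1 := by
  obtain ⟨n, rfl⟩ : ∃ n, x = n + 4 := ⟨x - 4, by omega⟩
  rfl

include h hgs hwK hcs hcen hcard hle3 ha hb hc hd hv1 hv2 in
/-- The presentation data hold in `J3`. -/
theorem target : Target (fun x => π (eGen a b c d x)) := by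
  haveI : Finite (threeJ3 F ω) := Nat.finite_of_card_ne_zero (by rw [hcard]; norm_num)
  have hrD : Rep (threeJ3 F ω) ω kD := hgs _ (by rw [csK_eq]; simp [kD])
  have hrB : Rep (threeJ3 F ω) ω kB := hgs _ (by rw [csK_eq]; simp [kB])
  have hrC : Rep (threeJ3 F ω) ω kC := hgs _ (by rw [csK_eq]; simp [kC])
  refine ⟨?_, ?_, ?_, ?_, ?_, ?_, ?_⟩
  · -- relators
    intro w hw
    have e1 := map_evr π (eGen a b c d) w
    rw [← e1]
    exact (pi_eq_one_iff h hwK hcs _ _ (evK_lt sgK w) (mat_evr h a b c d ha hb hc hd w)).mpr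
      (sRel_ok w hw)
  · intro x hx
    show π (eGen a b c d x) = 1
    rw [eGen_ge a b c d x hx, map_one]
  · -- generation
    set M := Subgroup.closure {g : threeJ3 F ω ⧸ Subgroup.center (threeJ3 F ω) |
      ∃ x < 4, g = π (eGen a b c d x)} with hM
    have hgenM : ∀ x, π (eGen a b c d x) ∈ M := by
      intro x
      by_cases hx : x < 4
      · exact Subgroup.subset_closure ⟨x, hx, rfl⟩
      · rw [eGen_ge a b c d x (by omega), map_one]; exact M.one_mem
    have hprodM : ∀ w : List ℕ, π ((w.map (eGen a b c d)).prod) ∈ M := by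
      intro w
      induction w with
      | nil => simp only [List.map_nil, List.prod_nil, map_one]; exact M.one_mem
      | cons x w ih =>
        simp only [List.map_cons, List.prod_cons, map_mul]
        exact M.mul_mem (hgenM x) ih
    have hHle : gen3GL F ω ≤ threeJ3 F ω := closure_unitsOf_le hrD hrB hrC
    have key : ∀ g (hg : g ∈ gen3GL F ω), π ⟨g, hHle hg⟩ ∈ M := by
      intro g hg
      induction hg using Subgroup.closure_induction with
      | mem g hg =>
        rcases hg with e | e | e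
        · have : (⟨g, hHle (Subgroup.subset_closure (Or.inl e))⟩ : threeJ3 F ω) =
              (sdG.map (eGen a b c d)).prod :=
            elt_ext (by rw [mat_prod h a b c d ha hb hc hd, sGen_ok.1]; exact e)
          rw [this]
          exact hprodM _
        · have : (⟨g, hHle (Subgroup.subset_closure (Or.inr (Or.inl e)))⟩ : threeJ3 F ω) =
              (sbG.map (eGen a b c d)).prod :=
            elt_ext (by rw [mat_prod h a b c d ha hb hc hd, sGen_ok.2.1]; exact e)
          rw [this]
          exact hprodM _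
        · have : (⟨g, hHle (Subgroup.subset_closure (Or.inr (Or.inr e)))⟩ : threeJ3 F ω) = a :=
            elt_ext (by rw [ha, sGen_ok.2.2]; exact e)
          rw [this]
          exact hgenM 0
      | one =>
        have : (⟨1, hHle (gen3GL F ω).one_mem⟩ : threeJ3 F ω) = 1 := rfl
        rw [this, map_one]
        exact M.one_mem
      | mul x y hx hy ihx ihy =>
        have : (⟨x * y, hHle ((gen3GL F ω).mul_mem hx hy)⟩ : threeJ3 F ω) =
            ⟨x, hHle hx⟩ * ⟨y, hHle hy⟩ := rfl
        rw [this, map_mul]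
        exact M.mul_mem ihx ihy
      | inv x hx ihx =>
        have : (⟨x⁻¹, hHle ((gen3GL F ω).inv_mem hx)⟩ : threeJ3 F ω) =
            (⟨x, hHle hx⟩ : threeJ3 F ω)⁻¹ := rfl
        rw [this, map_inv]
        exact M.inv_mem ihx
    rw [eq_top_iff]
    intro s _
    obtain ⟨g, rfl⟩ := QuotientGroup.mk'_surjective (Subgroup.center (threeJ3 F ω)) s
    exact key g.1 (hle3 g.2)
  · -- orders
    intro x hx
    exact order_two h hwK hcs _ _ (sgK_lt x) (mat_eGen a b c d ha hb hc hd x) (sNe_ok.1 x hx)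
      (sSq_ok x hx)
  · -- a b ≠ 1
    rw [← map_mul]
    exact pi_ne_one h hwK hcs (a * b) (mulKK saK sbK) (mulKK_lt _ _)
      (by rw [elt_mul, ha, hb, ← matOf_mul h]) sNe_ok.2
  · -- one class of involutions
    exact (centData h hgs hcen hcard).result.1
  · -- three commuting involutions
    obtain ⟨ea, e1, e2, c1, c2, c3, na, n1, n2, n3, n4, n5, n6⟩ := sE8_ok
    have hs1 : isScal oneK = true := by decide
    have sq_one : ∀ (v : threeJ3 F ω) (k : ℕ),
        ((v : GL F9 F) : Matrix F9 F9 F) = matOf ω k → mulKK k k = oneK → v * v = 1 := by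
      intro v k hv hk
      apply elt_ext
      rw [elt_mul, hv, ← matOf_mul h, hk, matOf_one]
      rfl
    have comm_of : ∀ (v w : threeJ3 F ω) (k l : ℕ),
        ((v : GL F9 F) : Matrix F9 F9 F) = matOf ω k →
        ((w : GL F9 F) : Matrix F9 F9 F) = matOf ω l → mulKK k l = mulKK l k → v * w = w * v := by
      intro v w k l hv hw hkl
      apply elt_ext
      rw [elt_mul, elt_mul, hv, hw, ← matOf_mul h, ← matOf_mul h, hkl]
    have haa := sq_one a saK ha ea
    have h11 := sq_one v1 sv1K hv1 e1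
    have h22 := sq_one v2 sv2K hv2 e2
    have hav1 := comm_of a v1 saK sv1K ha hv1 c1
    have hav2 := comm_of a v2 saK sv2K ha hv2 c2
    have hv12 := comm_of v1 v2 sv1K sv2K hv1 hv2 c3
    refine ⟨π a, π v1, π v2, ?_, ?_, ?_, ?_, ?_, ?_, ?_, ?_, ?_, ?_⟩
    · exact order_two h hwK hcs a saK sv_lt.2.2 ha na (by rw [ea]; exact hs1)
    · exact order_two h hwK hcs v1 sv1K sv_lt.1 hv1 n1 (by rw [e1]; exact hs1)
    · exact order_two h hwK hcs v2 sv2K sv_lt.2.1 hv2 n2 (by rw [e2]; exact hs1)
    · rw [← map_mul, ← map_mul, hav1]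
    · rw [← map_mul, ← map_mul, hav2]
    · rw [← map_mul, ← map_mul, hv12]
    · intro e
      have : π (a * v1) = 1 := by rw [map_mul, e, ← map_mul, h11, map_one]
      exact pi_ne_one h hwK hcs (a * v1) (mulKK saK sv1K) (mulKK_lt _ _)
        (by rw [elt_mul, ha, hv1, ← matOf_mul h]) n3 this
    · intro e
      have : π (a * v1 * v2) = 1 := by
        rw [map_mul (π) (a * v1) v2, map_mul, e, ← map_mul, h22, map_one]
      exact pi_ne_one h hwK hcs (a * v1 * v2) (mulKK (mulKK saK sv1K) sv2K) (mulKK_lt _ _)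
        (by rw [elt_mul, elt_mul, ha, hv1, hv2, ← matOf_mul h, ← matOf_mul h]) n4 this
    · intro e
      have : π (a * v2) = 1 := by rw [map_mul, e, ← map_mul, h22, map_one]
      exact pi_ne_one h hwK hcs (a * v2) (mulKK saK sv2K) (mulKK_lt _ _)
        (by rw [elt_mul, ha, hv2, ← matOf_mul h]) n5 this
    · intro e
      have : π (v1 * v2) = 1 := by rw [map_mul, e, ← map_mul, h22, map_one]
      exact pi_ne_one h hwK hcs (v1 * v2) (mulKK sv1K sv2K) (mulKK_lt _ _)
        (by rw [elt_mul, hv1, hv2, ← matOf_mul h]) n6 this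

end main

end Cfsg.Agent.Lib.Helper77.J3
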