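import Cfsg.Agent.Lib.Helper77.TCSK2P0

set_option autoImplicit false
set_option maxRecDepth 1000000
set_option linter.unusedVariables false
set_option linter.unusedSimpArgs false

namespace Cfsg.Agent.Lib.Helper77.TCS.K2

open Cfsg.Agent.Lib.Helper25.TC Cfsg.Agent.Lib.Helper77.SchurTC

theorem k_cert : allR (ckCert C nF) 13 0 = true := (allR_join _ _ _ _ (by decide) (allR_join _ _ _ _ (by decide) (allR_join _ _ _ _ (by decide) (allR_join _ _ _ _ (by decide) k_certp_0 k_certp_1) (allR_join _ _ _ _ (by decide) k_certp_2 k_certp_3)) (allR_join _ _ _ _ (by decide) (allR_join _ _ _ _ (by decide) k_certp_4 k_certp_5) (allR_join _ _ _ _ (by decide) k_certp_6 k_certp_7))) (allR_join _ _ _ _ (by decide) (allR_join _ _ _ _ (by decide) (allR_join _ _ _ _ (by decide) k_certp_8 k_certp_9) (allR_join _ _ _ _ (by decide) k_certp_10 k_certp_11)) (allR_join _ _ _ _ (by decide) (allR_join _ _ _ _ (by decide) k_certp_12 k_certp_13) (allR_join _ _ _ _ (by decide) k_certp_14 k_certp_15))))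

theorem k_fin : allR (ckFin C 3 nn nF can fin T) 9 0 = true := k_finp_0

theorem k_tbl : allR (ckTbl 3 nn T) 9 0 = true := k_tblp_0

theorem cyc_sub : ∀ ρ < cycW.length, ρ < 1 → cycW.getD ρ [] ∈ subW := by decide +kernel

theorem cyc_rel : ∀ ρ < cycW.length, 1 ≤ ρ → cycW.getD ρ [] ∈ mkRel 3 exactW centW true := by
  decide +kernel


theorem tr_cent : ∀ w ∈ centW, tr T w 0 = 0 := by decide +kernel
theorem tr_cent_sq : ∀ w ∈ centW, tr T (w ++ w) 0 = 0 := by decide +kernel
theorem letters_lt : (∀ w ∈ exactW, ∀ x ∈ w, x < 3) ∧ (∀ w ∈ centW, ∀ x ∈ w, x < 3) ∧ (∀ w ∈ subW, ∀ x ∈ w, x < 3) := by decide +kernel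
theorem nn_pos : 0 < nn := by decide

/-- The coset table is sound for every group with involutive generators satisfying the relators. -/
theorem tableHyp {G : Type*} [Group G] (gen : Nat → G) (H : Subgroup G)
    (hinv : ∀ x, gen x * gen x = 1)
    (hgen : Subgroup.closure {g : G | ∃ x < 3, g = gen x} = ⊤)
    (hrel : ∀ w ∈ mkRel 3 exactW centW true, evr gen w = 1)
    (hsub : ∀ w ∈ subW, evr gen w ∈ H) :
    TableHyp gen H 3 nn T (fun i => rep gen C (can i)) :=
  tableHyp_of_checks gen H C 3 nn nF can fin T hinv hgen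
    (fun ρ h1 h2 => hrel _ (cyc_rel ρ h2 h1))
    (fun ρ h1 => hsub _ (cyc_sub ρ (lt_of_lt_of_le h1 (by decide)) h1))
    (all_lt_pow _ nF 13 (by decide) k_cert)
    (all_lt_pow _ nn 9 (by decide) k_fin)
    (all_lt_pow _ nn 9 (by decide) k_tbl)
    (by decide +kernel)

end Cfsg.Agent.Lib.Helper77.TCS.K2
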