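import Cfsg.Agent.Lib.Helper77.TCSL216P0

set_option autoImplicit false
set_option maxRecDepth 1000000
set_option linter.unusedVariables false
set_option linter.unusedSimpArgs false

namespace Cfsg.Agent.Lib.Helper77.TCS.L216

open Cfsg.Agent.Lib.Helper25.TC Cfsg.Agent.Lib.Helper77.SchurTC

theorem k_cert : allR (ckCert C nF) 11 0 = true := (allR_join _ _ _ _ (by decide) (allR_join _ _ _ _ (by decide) k_certp_0 k_certp_1) (allR_join _ _ _ _ (by decide) k_certp_2 k_certp_3))

theorem k_fin : allR (ckFin C 3 nn nF can fin T) 9 0 = true := k_finp_0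

theorem k_tbl : allR (ckTbl 3 nn T) 9 0 = true := k_tblp_0

theorem cyc_sub : ∀ ρ < cycW.length, ρ < 1 → cycW.getD ρ [] ∈ subW := by decide +kernel

theorem cyc_rel : ∀ ρ < cycW.length, 1 ≤ ρ → cycW.getD ρ [] ∈ mkRel 3 exactW centW false := by
  decide +kernel


theorem letters_lt : (∀ w ∈ exactW, ∀ x ∈ w, x < 3) ∧ (∀ w ∈ centW, ∀ x ∈ w, x < 3) ∧ (∀ w ∈ subW, ∀ x ∈ w, x < 3) := by decide +kernel
theorem nn_pos : 0 < nn := by decide

/-- The coset table is sound for every group with involutive generators satisfying the relators. -/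
theorem tableHyp {G : Type*} [Group G] (gen : Nat → G) (H : Subgroup G)
    (hinv : ∀ x, gen x * gen x = 1)
    (hgen : Subgroup.closure {g : G | ∃ x < 3, g = gen x} = ⊤)
    (hrel : ∀ w ∈ mkRel 3 exactW centW false, evr gen w = 1)
    (hsub : ∀ w ∈ subW, evr gen w ∈ H) :
    TableHyp gen H 3 nn T (fun i => rep gen C (can i)) :=
  tableHyp_of_checks gen H C 3 nn nF can fin T hinv hgen
    (fun ρ h1 h2 => hrel _ (cyc_rel ρ h2 h1))
    (fun ρ h1 => hsub _ (cyc_sub ρ (lt_of_lt_of_le h1 (by decide)) h1))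
    (all_lt_pow _ nF 11 (by decide) k_cert)
    (all_lt_pow _ nn 9 (by decide) k_fin)
    (all_lt_pow _ nn 9 (by decide) k_tbl)
    (by decide +kernel)

end Cfsg.Agent.Lib.Helper77.TCS.L216
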