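import Cfsg.Agent.Lib.Helper77.J3SchurSub
import Cfsg.Agent.Lib.Helper77.TCSK2I
import Cfsg.Agent.Lib.Helper77.TCSK3I
import Cfsg.Agent.Lib.Helper77.TCSL216I

set_option autoImplicit false
set_option linter.style.haveILetI false
set_option maxRecDepth 100000
set_option linter.unusedSectionVars false

/-! The subgroup `L2(16):2` generated by three involutions in a central extension: from the
relators that hold only up to central elements to the exact relators, and the order bound. -/

namespace Cfsg.Agent.Lib.Helper77.SchurLift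

open Cfsg.Agent.Lib.Helper25.TC Cfsg.Agent.Lib.Helper77.SchurTC Cfsg.Agent.Lib.Helper77.SchurWords
open Cfsg.Agent.Lib.Helper77.TCS

theorem evr_flat_rep {G : Type*} [Group G] (gen : Nat → G) (w : List Nat) (m : Nat) :
    evr gen (List.replicate m w).flatten = (evr gen w) ^ m := by
  induction m with
  | zero => simp [evr]
  | succ m ih =>
    rw [List.replicate_succ, List.flatten_cons, evr_append, ih, pow_succ]

theorem wAB_eq : wAB = (List.replicate 17 [1, 0]).flatten := by decide

section klevel
variable {Γ : Type*} [Group Γ] [Finite Γ] (f : Nat → Γ)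

/-- The rotation `a b` in the subgroup has order dividing 17. -/
theorem rho_pow (hAB : evr f wAB = 1) : (evr (fSub f 3) [1, 0]) ^ 17 = 1 := by
  rw [← evr_flat_rep, ← wAB_eq]
  apply Subtype.ext
  rw [coe_evr_fSub f 3 wAB (by decide), hAB]
  rfl

theorem card_zpowers_rho_le (hAB : evr f wAB = 1) :
    Nat.card (Subgroup.zpowers (evr (fSub f 3) [1, 0])) ≤ 17 := by
  rw [Nat.card_zpowers]
  exact Nat.le_of_dvd (by norm_num) (orderOf_dvd_of_pow_eq_one (rho_pow f hAB))

/-- All relators exact: the subgroup has order at most 8160. -/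
theorem cardK_le (hinv : ∀ x, f x * f x = 1)
    (hex : ∀ w ∈ [sq 0, sq 1, sq 2, wAB, wAC, wBC, wE1, wE2, wE3], evr f w = 1) :
    Nat.card (subK f 3) ≤ 480 * 17 := by
  have hAB : evr f wAB = 1 := hex _ (by simp)
  have hh := L216.tableHyp (fSub f 3) (Subgroup.zpowers (evr (fSub f 3) [1, 0]))
    (fSub_inv f 3 hinv) (closure_fSub f 3)
    (rel_of_sub f 3 hinv L216.exactW L216.centW false L216.letters_lt.1 L216.letters_lt.2.1
      (by
        intro w hw
        apply hex
        have : L216.exactW = [sq 0, sq 1, sq 2, wAB, wAC, wBC, wE1, wE2, wE3] := by decide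
        rwa [this] at hw)
      (by intro ra hra; exact absurd hra (by simp [L216.centW])))
    (by
      intro w hw
      have : w = [1, 0] := by simpa [L216.subW] using hw
      rw [this]
      exact Subgroup.mem_zpowers _)
  have h1 := card_le_of_tableHyp hh L216.nn_pos
  calc Nat.card (subK f 3) ≤ L216.nn * Nat.card (Subgroup.zpowers (evr (fSub f 3) [1, 0])) := h1
    _ ≤ 480 * 17 := Nat.mul_le_mul (by decide) (card_zpowers_rho_le f hAB)

/-- An element of the cyclic group generated by the rotation whose square is one is trivial. -/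
theorem eq_one_of_mem_zpowers_rho (hAB : evr f wAB = 1) (v : subK f 3)
    (hv : v ∈ Subgroup.zpowers (evr (fSub f 3) [1, 0])) (h2 : v * v = 1) : v = 1 := by
  obtain ⟨j, rfl⟩ := Subgroup.mem_zpowers_iff.mp hv
  set ρ := evr (fSub f 3) [1, 0] with hρ
  have h17 : ρ ^ (17 : ℤ) = 1 := by
    have := rho_pow f hAB
    rw [← hρ] at this
    exact_mod_cast this
  have h2' : ρ ^ (2 * j) = 1 := by
    rw [two_mul, zpow_add]; exact h2
  have : ρ ^ j = (ρ ^ (17 : ℤ)) ^ j * ((ρ ^ (2 * j)) ^ (8 : ℤ))⁻¹ := by
    rw [← zpow_mul, ← zpow_mul, ← zpow_neg, ← zpow_add]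
    congr 1
    ring
  rw [this, h17, h2', one_zpow, one_zpow, inv_one, mul_one]

/-- Exponent two kernel: with `(ab)^17` and the third extra relator exact and the other four
relators central of square one, all relators of the subgroup are exact. -/
theorem exactK_two (hinv : ∀ x, f x * f x = 1)
    (hex : ∀ w ∈ [sq 0, sq 1, sq 2, wAB, wE3], evr f w = 1)
    (hce : ∀ ra ∈ [wAC, wBC, wE1, wE2], (∀ y : Γ, evr f ra * y = y * evr f ra) ∧
      evr f ra * evr f ra = 1) :
    ∀ w ∈ [wAC, wBC, wE1, wE2], evr f w = 1 := by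
  have hAB : evr f wAB = 1 := hex _ (by simp)
  have hexW : K2.exactW = [sq 0, sq 1, sq 2, wAB, wE3] := by decide
  have hceW : K2.centW = [wAC, wBC, wE1, wE2] := by decide
  have hh := K2.tableHyp (fSub f 3) (Subgroup.zpowers (evr (fSub f 3) [1, 0]))
    (fSub_inv f 3 hinv) (closure_fSub f 3)
    (rel_of_sub f 3 hinv K2.exactW K2.centW true K2.letters_lt.1 K2.letters_lt.2.1
      (by intro w hw; apply hex; rwa [hexW] at hw)
      (by
        intro ra hra
        rw [hceW] at hra
        exact ⟨(hce ra hra).1, fun _ => (hce ra hra).2⟩))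
    (by
      intro w hw
      have : w = [1, 0] := by simpa [K2.subW] using hw
      rw [this]
      exact Subgroup.mem_zpowers _)
  intro w hw
  have hw' : w ∈ K2.centW := by rw [hceW]; exact hw
  have hl := K2.letters_lt.2.1 w hw'
  have hmem := evr_mem_of_tr hh K2.nn_pos w hl (K2.tr_cent w hw')
  have h2 : evr (fSub f 3) w * evr (fSub f 3) w = 1 := by
    apply Subtype.ext
    rw [Subgroup.coe_mul, coe_evr_fSub f 3 w hl, (hce w hw).2]
    rfl
  have := eq_one_of_mem_zpowers_rho f hAB _ hmem h2
  have h3 := congrArg (fun v : subK f 3 => (v : Γ)) this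
  simp only [coe_evr_fSub f 3 w hl] at h3
  exact h3

/-- Odd kernel: with all relators but the third extra one exact, and that one central with a
value `v` such that the only power of the rotation that is a power of `v` is trivial, `v² = 1`. -/
theorem sqK_odd (hinv : ∀ x, f x * f x = 1)
    (hex : ∀ w ∈ [sq 0, sq 1, sq 2, wAB, wAC, wBC, wE1, wE2], evr f w = 1)
    (hce : ∀ y : Γ, evr f wE3 * y = y * evr f wE3) :
    ∃ j : ℤ, (evr f [1, 0]) ^ j = evr f wE3 * evr f wE3 := by
  have hexW : K3.exactW = [sq 0, sq 1, sq 2, wAB, wAC, wBC, wE1, wE2] := by decide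
  have hceW : K3.centW = [wE3] := by decide
  have hh := K3.tableHyp (fSub f 3) (Subgroup.zpowers (evr (fSub f 3) [1, 0]))
    (fSub_inv f 3 hinv) (closure_fSub f 3)
    (rel_of_sub f 3 hinv K3.exactW K3.centW false K3.letters_lt.1 K3.letters_lt.2.1
      (by intro w hw; apply hex; rwa [hexW] at hw)
      (by
        intro ra hra
        rw [hceW] at hra
        have : ra = wE3 := by simpa using hra
        subst this
        exact ⟨hce, fun h => absurd h (by simp)⟩))
    (by
      intro w hw
      have : w = [1, 0] := by simpa [K3.subW] using hw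
      rw [this]
      exact Subgroup.mem_zpowers _)
  have hw' : wE3 ∈ K3.centW := by rw [hceW]; simp
  have hl : ∀ x ∈ wE3 ++ wE3, x < 3 := by decide
  have hmem := evr_mem_of_tr hh K3.nn_pos (wE3 ++ wE3) hl (K3.tr_cent_sq wE3 hw')
  obtain ⟨j, hj⟩ := Subgroup.mem_zpowers_iff.mp hmem
  refine ⟨j, ?_⟩
  have h3 := congrArg (fun v : subK f 3 => (v : Γ)) hj
  simp only [Subgroup.coe_zpow, coe_evr_fSub f 3 (wE3 ++ wE3) hl,
    coe_evr_fSub f 3 [1, 0] (by decide)] at h3
  rw [h3, evr_append]

end klevel

end Cfsg.Agent.Lib.Helper77.SchurLift
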