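import Mathlib
import Cfsg.Agent.Lib.Helper25.TCMain

set_option autoImplicit false
set_option linter.style.haveILetI false

/-! Glue on top of the coset-enumeration certificates of `Lib/Helper25` (involutive generators):
relator lists with commutator relators (for relators that are only known to be central),
membership in the subgroup of a word whose trace returns to the first coset, and the resulting
bound for the order of the group. -/

namespace Cfsg.Agent.Lib.Helper77.SchurTC

open Cfsg.Agent.Lib.Helper25.TC

/-- The commutator word of a word (acting order) and a generator. -/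
def cWord (ra : List Nat) (x : Nat) : List Nat := x :: (ra.reverse ++ x :: ra)

/-- The relator list: the exact relators, then for every central relator its commutator words with
the generators and possibly its square. -/
def mkRel (k : Nat) (ex ce : List (List Nat)) (sq : Bool) : List (List Nat) :=
  ex ++ ce.flatMap (fun ra => (List.range k).map (cWord ra) ++ (bif sq then [ra ++ ra] else []))

section Group
variable {G : Type*} [Group G] (gen : Nat → G)

theorem evr_singleton' (x : Nat) : evr gen [x] = gen x := by simp [evr]

theorem evr_reverse (hinv : ∀ x, gen x * gen x = 1) :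
    ∀ w : List Nat, evr gen w.reverse = (evr gen w)⁻¹ := by
  intro w
  induction w with
  | nil => simp [evr]
  | cons x a ih =>
    rw [List.reverse_cons, evr_append, ih, evr_singleton']
    simp only [evr, mul_inv_rev]
    rw [inv_eq_of_mul_eq_one_left (hinv x)]

theorem evr_cWord (hinv : ∀ x, gen x * gen x = 1) (ra : List Nat) (x : Nat) :
    evr gen (cWord ra x) = evr gen ra * gen x * (evr gen ra)⁻¹ * gen x := by
  unfold cWord
  have e : x :: (ra.reverse ++ x :: ra) = [x] ++ (ra.reverse ++ ([x] ++ ra)) := rfl
  rw [e, evr_append, evr_append, evr_append, evr_reverse gen hinv, evr_singleton']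

/-- Relators of the list hold when the exact ones hold and the central ones are central. -/
theorem rel_of (hinv : ∀ x, gen x * gen x = 1) (k : Nat) (ex ce : List (List Nat)) (sq : Bool)
    (hex : ∀ w ∈ ex, evr gen w = 1)
    (hce : ∀ ra ∈ ce, (∀ x < k, evr gen ra * gen x = gen x * evr gen ra) ∧
      (sq = true → evr gen ra * evr gen ra = 1)) :
    ∀ w ∈ mkRel k ex ce sq, evr gen w = 1 := by
  intro w hw
  unfold mkRel at hw
  rcases List.mem_append.mp hw with h | h
  · exact hex w h
  · obtain ⟨ra, hra, hw2⟩ := List.mem_flatMap.mp h
    obtain ⟨hc, hs⟩ := hce ra hra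
    rcases List.mem_append.mp hw2 with h2 | h2
    · obtain ⟨x, hx, rfl⟩ := List.mem_map.mp h2
      rw [evr_cWord gen hinv, hc x (List.mem_range.mp hx), mul_assoc (gen x), mul_inv_cancel,
        mul_one, hinv]
    · cases sq with
      | false => simp at h2
      | true =>
        simp only [cond_true, List.mem_singleton] at h2
        rw [h2, evr_append]
        exact hs rfl

variable (H : Subgroup G)

/-- The hypotheses of the coset table from the Boolean checks. -/
theorem tableHyp_of_checks (C : Cert) (k n nF : Nat) (can : Nat → Nat) (fin T : Nat → Nat → Nat)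
    (hinv : ∀ x, gen x * gen x = 1)
    (hgen : Subgroup.closure {g : G | ∃ x < k, g = gen x} = ⊤)
    (hrel : ∀ ρ, C.ns ≤ ρ → ρ < C.cyc.length → evr gen (C.cyc.getD ρ []) = 1)
    (hsub : ∀ ρ, ρ < C.ns → evr gen (C.cyc.getD ρ []) ∈ H)
    (hcert : ∀ f < nF, ckCert C nF f = true)
    (hfin : ∀ i < n, ckFin C k n nF can fin T i = true)
    (htbl : ∀ i < n, ckTbl k n T i = true)
    (hcan : can 0 = 0) :
    TableHyp gen H k n T (fun i => rep gen C (can i)) := by
  apply tableHyp_of_cert gen C H k n nF can fin T hinv hgen hrel hsub
  · intro f hf
    have := hcert f hf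
    simp only [ckCert, Bool.or_eq_true] at this
    rcases this with h | h
    · have := Nat.le_of_ble_eq_true h; omega
    · exact chkFactFast_sound C f h
  · intro x hx i hi
    have h := htbl i hi
    simp only [ckTbl, Bool.or_eq_true] at h
    rcases h with h | h
    · have := Nat.le_of_ble_eq_true h; omega
    · have := allLt_spec k _ h x hx
      simp only [Bool.and_eq_true] at this
      exact Nat.le_of_ble_eq_true this.1
  · exact hcan
  · intro x hx i hi
    have h := hfin i hi
    simp only [ckFin, Bool.or_eq_true] at h
    rcases h with h | h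
    · have := Nat.le_of_ble_eq_true h; omega
    · exact allLt_spec k _ h x hx

variable {gen H} {k n : Nat} {T : Nat → Nat → Nat} {R : Nat → G}

/-- Tracing a word through the table. -/
theorem trace_mem (hh : TableHyp gen H k n T R) :
    ∀ (w : List Nat), (∀ x ∈ w, x < k) → ∀ i < n,
      tr T w i < n ∧ (R (tr T w i))⁻¹ * evr gen w * R i ∈ H := by
  intro w
  induction w with
  | nil =>
    intro _ i hi
    refine ⟨hi, ?_⟩
    simp [tr, evr]
  | cons x a ih =>
    intro hw i hi
    have hx : x < k := hw x List.mem_cons_self
    have ha : ∀ y ∈ a, y < k := fun y hy => hw y (List.mem_cons_of_mem _ hy)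
    have h1 := hh.hval x hx i hi
    have hi' := hh.hT x hx i hi
    obtain ⟨h2, h3⟩ := ih ha (T x i) hi'
    refine ⟨h2, ?_⟩
    have := H.mul_mem h3 h1
    have e : (R (tr T a (T x i)))⁻¹ * evr gen a * R (T x i) * ((R (T x i))⁻¹ * gen x * R i) =
        (R (tr T (x :: a) i))⁻¹ * evr gen (x :: a) * R i := by
      simp only [tr, evr]
      group
    rwa [e] at this

/-- A word whose trace from the first coset returns to it lies in the subgroup. -/
theorem evr_mem_of_tr (hh : TableHyp gen H k n T R) (hn : 0 < n) (w : List Nat)
    (hw : ∀ x ∈ w, x < k) (h0 : tr T w 0 = 0) : evr gen w ∈ H := by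
  have := (trace_mem hh w hw 0 hn).2
  rwa [h0, hh.hR0, inv_one, one_mul, mul_one] at this

/-- The order of the group is at most the number of rows times the order of the subgroup. -/
theorem card_le_of_tableHyp [Finite G] (hh : TableHyp gen H k n T R) (hn : 0 < n) :
    Nat.card G ≤ n * Nat.card H := by
  have hsurj : Function.Surjective (fun j : Fin n => ((R j.val : G) : G ⧸ H)) := by
    intro q
    obtain ⟨j, hj, e⟩ := surj_cosets hh hn q
    exact ⟨⟨j, hj⟩, e.symm⟩
  have h1 : Nat.card (G ⧸ H) ≤ n := by
    have := Nat.card_le_card_of_surjective _ hsurj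
    rwa [Nat.card_fin] at this
  rw [Subgroup.card_eq_card_quotient_mul_card_subgroup H]
  exact Nat.mul_le_mul_right _ h1

end Group

end Cfsg.Agent.Lib.Helper77.SchurTC
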