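import Mathlib
import Cfsg.Prelude.Def_KGroupFacts
import Cfsg.Agent.Lib.Helper77.J3SchurTC

set_option autoImplicit false
set_option linter.style.haveILetI false

/-! General lemmas on central extensions `σ : Γ →* G` used for the Schur multiplier of `J3`:
lifting involutions, adjusting lifts by central elements, generation by lifts, relators that are
inverted by a rotation, and the quotient of a stem extension by a subgroup of its kernel. -/

namespace Cfsg.Agent.Lib.Helper77.SchurLift

open Cfsg.Agent.Lib.Helper25.TC Cfsg.Agent.Lib.Helper77.SchurTC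

section basic
variable {Γ : Type*} {G : Type*} [Group Γ] [Group G]

theorem map_evr (σ : Γ →* G) (g : Nat → Γ) : ∀ w : List Nat, σ (evr g w) = evr (fun x => σ (g x)) w
  | [] => by simp [evr]
  | x :: a => by simp only [evr, map_mul, map_evr σ g a]

/-- Changing one generator by a central element. -/
theorem evr_update (g : Nat → Γ) (x₀ : Nat) (z : Γ) (hz : ∀ y : Γ, z * y = y * z) :
    ∀ w : List Nat, evr (Function.update g x₀ (g x₀ * z)) w = evr g w * z ^ (w.count x₀)
  | [] => by simp [evr]
  | x :: a => by
    simp only [evr, evr_update g x₀ z hz a, List.count_cons]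
    by_cases hx : x = x₀
    · subst hx
      simp only [Function.update_self, beq_self_eq_true, if_true, pow_succ]
      have h1 : z ^ List.count x a * (g x * z) = g x * (z ^ List.count x a * z) := by
        rw [← mul_assoc, ← mul_assoc]
        congr 1
        exact ((Commute.pow_left (show Commute z (g x) from hz _) _)).eq
      rw [mul_assoc, h1, ← mul_assoc]
    · have hne : (x == x₀) = false := by simpa using hx
      simp only [Function.update_of_ne hx, hne, Bool.false_eq_true, if_false, add_zero]
      have h1 : z ^ List.count x₀ a * g x = g x * z ^ List.count x₀ a :=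
        ((Commute.pow_left (show Commute z (g x) from hz _) _)).eq
      rw [mul_assoc, h1, ← mul_assoc]

theorem pow_of_sq_one {z : Γ} (hz : z * z = 1) (n : ℕ) : z ^ n = z ^ (n % 2) := by
  have h2 : z ^ 2 = 1 := by rw [pow_two]; exact hz
  conv_lhs => rw [← Nat.div_add_mod n 2, pow_add, pow_mul, h2, one_pow, one_mul]

end basic

section lifts
variable {Γ : Type*} {G : Type*} [Group Γ] [Group G] (σ : Γ →* G)

/-- Lifts of a family of involutions by involutions. -/
def Good (gen : Nat → G) (g : Nat → Γ) : Prop :=
  (∀ x, g x * g x = 1) ∧ ∀ x, σ (g x) = gen x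

/-- One adjustment step: make one more relator exact, keeping those in which the adjusted
generator occurs an even number of times. -/
theorem fix_step (hc : σ.ker ≤ Subgroup.center Γ) (hZ2 : ∀ z ∈ σ.ker, z * z = 1)
    (gen : Nat → G) (g : Nat → Γ) (hg : Good σ gen g) (x₀ : Nat) (w₀ : List Nat)
    (hodd : w₀.count x₀ % 2 = 1) (hw₀ : evr gen w₀ = 1) (ws : List (List Nat))
    (hws : ∀ w ∈ ws, w.count x₀ % 2 = 0 ∧ evr g w = 1) :
    ∃ g' : Nat → Γ, Good σ gen g' ∧ evr g' w₀ = 1 ∧ ∀ w ∈ ws, evr g' w = 1 := by
  set z := evr g w₀ with hzdef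
  have hzker : z ∈ σ.ker := by
    rw [MonoidHom.mem_ker, map_evr]
    have : (fun x => σ (g x)) = gen := funext hg.2
    rw [this, hw₀]
  have hzc : ∀ y : Γ, z * y = y * z := fun y => (Subgroup.mem_center_iff.mp (hc hzker) y).symm
  have hz2 : z * z = 1 := hZ2 z hzker
  refine ⟨Function.update g x₀ (g x₀ * z), ⟨?_, ?_⟩, ?_, ?_⟩
  · intro x
    by_cases hx : x = x₀
    · subst hx
      rw [Function.update_self]
      have : g x * z * (g x * z) = g x * g x * (z * z) := by
        rw [mul_assoc, ← mul_assoc z, hzc (g x)]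
        group
      rw [this, hg.1, hz2, one_mul]
    · rw [Function.update_of_ne hx]; exact hg.1 x
  · intro x
    by_cases hx : x = x₀
    · subst hx
      rw [Function.update_self, map_mul, hg.2, MonoidHom.mem_ker.mp hzker, mul_one]
    · rw [Function.update_of_ne hx]; exact hg.2 x
  · rw [evr_update g x₀ z hzc, pow_of_sq_one hz2, hodd, pow_one, ← hzdef, hz2]
  · intro w hw
    obtain ⟨h1, h2⟩ := hws w hw
    rw [evr_update g x₀ z hzc, pow_of_sq_one hz2, h1, pow_zero, mul_one, h2]

/-- Involutions lift to involutions when the kernel is central of odd order. -/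
theorem lift_invol_odd [Finite Γ] (hs : Function.Surjective σ) (hc : σ.ker ≤ Subgroup.center Γ)
    (hodd : Odd (Nat.card σ.ker)) (u : G) (hu : u * u = 1) : ∃ t : Γ, σ t = u ∧ t * t = 1 := by
  obtain ⟨t₀, ht₀⟩ := hs u
  set z := t₀ * t₀ with hz
  have hzker : z ∈ σ.ker := by
    rw [MonoidHom.mem_ker, hz, map_mul, ht₀, hu]
  obtain ⟨m, hm⟩ := hodd
  have hzpow : z ^ (2 * m + 1) = 1 := by
    have h1 : (⟨z, hzker⟩ : σ.ker) ^ Nat.card σ.ker = 1 := pow_card_eq_one'
    rw [hm] at h1
    have := congrArg (fun v : σ.ker => (v : Γ)) h1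
    simpa using this
  have hzc : ∀ y : Γ, z * y = y * z := fun y => (Subgroup.mem_center_iff.mp (hc hzker) y).symm
  -- y = z^m, z = (z^(m+1))^2 so take t = t₀ * z^m: t^2 = t₀^2 z^(2m) = z^(2m+1) = 1
  refine ⟨t₀ * z ^ m, ?_, ?_⟩
  · rw [map_mul, map_pow, MonoidHom.mem_ker.mp hzker, one_pow, mul_one, ht₀]
  · have hcm : z ^ m * t₀ = t₀ * z ^ m := ((Commute.pow_left (show Commute z t₀ from hzc _) _)).eq
    have : t₀ * z ^ m * (t₀ * z ^ m) = t₀ * t₀ * (z ^ m * z ^ m) := by
      rw [mul_assoc, ← mul_assoc (z ^ m), hcm]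
      group
    rw [this, ← hz, ← pow_add, ← pow_succ', ← hzpow]
    congr 1
    omega

/-- With a kernel of exponent two, a single class of involutions and three independent commuting
involutions, every involution lifts to an involution. -/
theorem lift_invol_two (hs : Function.Surjective σ) (hc : σ.ker ≤ Subgroup.center Γ)
    (hZ2 : ∀ z ∈ σ.ker, z * z = 1)
    (hconj : ∀ s t : G, orderOf s = 2 → orderOf t = 2 → IsConj s t)
    (s t u : G) (hs2 : orderOf s = 2) (ht2 : orderOf t = 2) (hu2 : orderOf u = 2)
    (hst : s * t = t * s) (hsu : s * u = u * s) (htu : t * u = u * t)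
    (hne1 : s ≠ t) (hne2 : s * t ≠ u) (hne3 : s ≠ u) (hne4 : t ≠ u)
    (v : G) (hv : orderOf v = 2) : ∃ r : Γ, σ r = v ∧ r * r = 1 := by
  have sq_of : ∀ {x : G}, orderOf x = 2 → x * x = 1 := by
    intro x hx
    have := pow_orderOf_eq_one x
    rwa [hx, pow_two] at this
  have hcen : ∀ z ∈ σ.ker, ∀ y : Γ, z * y = y * z :=
    fun z hz y => (Subgroup.mem_center_iff.mp (hc hz) y).symm
  obtain ⟨s', hs'⟩ := hs s
  set q := s' * s' with hq
  have hqker : q ∈ σ.ker := by rw [MonoidHom.mem_ker, hq, map_mul, hs', sq_of hs2]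
  -- every lift of every involution has square `q`
  have key : ∀ (x : G), orderOf x = 2 → ∀ x' : Γ, σ x' = x → x' * x' = q := by
    intro x hx x' hx'
    obtain ⟨c, hcx⟩ := isConj_iff.mp (hconj s x hs2 hx)
    obtain ⟨c', hc'⟩ := hs c
    set y := c' * s' * c'⁻¹ with hy
    have hy1 : σ y = x := by rw [hy, map_mul, map_mul, map_inv, hc', hs', hcx]
    set z := y⁻¹ * x' with hz
    have hzker : z ∈ σ.ker := by
      rw [MonoidHom.mem_ker, hz, map_mul, map_inv, hy1, hx', inv_mul_cancel]
    have hx'e : x' = y * z := by rw [hz]; group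
    have hyy : y * y = q := by
      have : y * y = c' * (s' * s') * c'⁻¹ := by rw [hy]; group
      rw [this, ← hq, ← hcen q hqker c']
      group
    rw [hx'e]
    have : y * z * (y * z) = y * y * (z * z) := by
      rw [mul_assoc, ← mul_assoc z, hcen z hzker y]
      group
    rw [this, hyy, hZ2 z hzker, mul_one]
  have hq2 : q * q = 1 := hZ2 q hqker
  -- lifts of two distinct commuting involutions commute up to `q`
  have comm2 : ∀ (x y : G), orderOf x = 2 → orderOf y = 2 → x * y = y * x → x ≠ y →
      ∀ x' y' : Γ, σ x' = x → σ y' = y → y' * x' = x' * y' * q := by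
    intro x y hx hy hxy hne x' y' hx' hy'
    have hxy2 : orderOf (x * y) = 2 := by
      apply orderOf_eq_prime
      · rw [pow_two]
        have : x * y * (x * y) = x * x * (y * y) := by
          rw [mul_assoc, ← mul_assoc y, ← hxy]
          group
        rw [this, sq_of hx, sq_of hy, one_mul]
      · intro h1
        apply hne
        have hxi : x⁻¹ = x := inv_eq_of_mul_eq_one_left (sq_of hx)
        have : y = x⁻¹ := (inv_eq_of_mul_eq_one_right h1).symm
        rw [this, hxi]
    have h1 := key (x * y) hxy2 (x' * y') (by rw [map_mul, hx', hy'])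
    have hxx := key x hx x' hx'
    have hyy := key y hy y' hy'
    -- c := (x' y')⁻¹ y' x' is in the kernel
    set c := (x' * y')⁻¹ * (y' * x') with hcdef
    have hcker : c ∈ σ.ker := by
      rw [MonoidHom.mem_ker, hcdef, map_mul, map_inv, map_mul, map_mul, hx', hy', ← hxy,
        inv_mul_cancel]
    have hyx : y' * x' = x' * y' * c := by rw [hcdef]; group
    have h2 : x' * y' * (x' * y') = x' * x' * (y' * y') * c := by
      have : x' * y' * (x' * y') = x' * (y' * x') * y' := by group
      rw [this, hyx]
      have : x' * (x' * y' * c) * y' = x' * x' * y' * (c * y') := by group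
      rw [this, hcen c hcker y']
      group
    rw [h2, hxx, hyy, hq2, one_mul] at h1
    rw [hyx, h1]
  by_contra hcon
  have hq1 : q ≠ 1 := by
    intro hq1
    apply hcon
    obtain ⟨v', hv'⟩ := hs v
    exact ⟨v', hv', by rw [key v hv v' hv', hq1]⟩
  apply hq1
  obtain ⟨t', ht'⟩ := hs t
  obtain ⟨u', hu'⟩ := hs u
  have hst2 : orderOf (s * t) = 2 := by
    apply orderOf_eq_prime
    · rw [pow_two]
      have : s * t * (s * t) = s * s * (t * t) := by
        rw [mul_assoc, ← mul_assoc t, ← hst]
        group
      rw [this, sq_of hs2, sq_of ht2, one_mul]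
    · intro h1
      apply hne1
      have hsi : s⁻¹ = s := inv_eq_of_mul_eq_one_left (sq_of hs2)
      have : t = s⁻¹ := (inv_eq_of_mul_eq_one_right h1).symm
      rw [this, hsi]
  have hstu : s * t * u = u * (s * t) := by
    rw [mul_assoc, htu, ← mul_assoc, hsu, mul_assoc]
  have e1 := comm2 s u hs2 hu2 hsu hne3 s' u' hs' hu'
  have e2 := comm2 t u ht2 hu2 htu hne4 t' u' ht' hu'
  have e3 := comm2 (s * t) u hst2 hu2 hstu hne2 (s' * t') u' (by rw [map_mul, hs', ht']) hu'
  have e4 : u' * (s' * t') = s' * t' * u' * (q * q) := by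
    have : u' * (s' * t') = u' * s' * t' := by group
    rw [this, e1]
    have : s' * u' * q * t' = s' * (u' * (q * t')) := by group
    rw [this, hcen q hqker t']
    have : s' * (u' * (t' * q)) = s' * (u' * t') * q := by group
    rw [this, e2]
    group
  rw [hq2, mul_one] at e4
  rw [e4] at e3
  have := mul_left_cancel (a := s' * t' * u') (b := 1) (c := q) (by rw [mul_one]; exact e3)
  exact this.symm

end lifts

end Cfsg.Agent.Lib.Helper77.SchurLift
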