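import Cfsg.Agent.Lib.Helper77.J3SchurLift

set_option autoImplicit false
set_option linter.style.haveILetI false

/-! More lemmas on central extensions: generation by lifts, relators inverted by a rotation,
the quotient by the squares of the kernel. -/

namespace Cfsg.Agent.Lib.Helper77.SchurLift

open Cfsg.Agent.Lib.Helper25.TC Cfsg.Agent.Lib.Helper77.SchurTC
open scoped commutatorElement

section gen
variable {Γ : Type*} {G : Type*} [Group Γ] [Group G] (σ : Γ →* G)

theorem comm_mul_cen_left (a b z : Γ) (hz : ∀ y : Γ, z * y = y * z) : ⁅a * z, b⁆ = ⁅a, b⁆ := by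
  rw [commutatorElement_def, commutatorElement_def, mul_inv_rev]
  have h1 : a * z * b * (z⁻¹ * a⁻¹) * b⁻¹ = a * (z * b * z⁻¹) * a⁻¹ * b⁻¹ := by group
  rw [h1, hz b]
  group

theorem comm_mul_cen_right (a b z : Γ) (hz : ∀ y : Γ, z * y = y * z) : ⁅a, b * z⁆ = ⁅a, b⁆ := by
  rw [commutatorElement_def, commutatorElement_def, mul_inv_rev]
  have h1 : a * (b * z) * a⁻¹ * (z⁻¹ * b⁻¹) = a * b * (z * a⁻¹ * z⁻¹) * b⁻¹ := by group
  rw [h1, hz a⁻¹]
  group

/-- Lifts of generators generate a stem extension. -/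
theorem closure_lifts_eq_top (hc : σ.ker ≤ Subgroup.center Γ) (hcomm : σ.ker ≤ commutator Γ)
    (S : Set Γ) (hS : Subgroup.closure (σ '' S) = ⊤) : Subgroup.closure S = ⊤ := by
  set M := Subgroup.closure S with hM
  have hmap : M.map σ = ⊤ := by rw [hM, MonoidHom.map_closure, hS]
  have hdec : ∀ g : Γ, ∃ m ∈ M, ∃ z ∈ σ.ker, g = m * z := by
    intro g
    have : σ g ∈ M.map σ := by rw [hmap]; trivial
    obtain ⟨m, hm, hmg⟩ := this
    refine ⟨m, hm, m⁻¹ * g, ?_, by group⟩
    rw [MonoidHom.mem_ker, map_mul, map_inv, hmg, inv_mul_cancel]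
  have hcen : ∀ z ∈ σ.ker, ∀ y : Γ, z * y = y * z :=
    fun z hz y => (Subgroup.mem_center_iff.mp (hc hz) y).symm
  have hcm : commutator Γ ≤ M := by
    rw [commutator_eq_closure, Subgroup.closure_le]
    rintro _ ⟨a, b, rfl⟩
    obtain ⟨m, hm, z, hz, rfl⟩ := hdec a
    obtain ⟨m', hm', z', hz', rfl⟩ := hdec b
    rw [comm_mul_cen_left _ _ _ (hcen z hz), comm_mul_cen_right _ _ _ (hcen z' hz')]
    rw [commutatorElement_def]
    exact M.mul_mem (M.mul_mem (M.mul_mem hm hm') (M.inv_mem hm)) (M.inv_mem hm')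
  rw [eq_top_iff]
  intro g _
  obtain ⟨m, hm, z, hz, rfl⟩ := hdec g
  exact M.mul_mem hm (hcm (hcomm hz))

end gen

section rot
variable {Γ : Type*} [Group Γ]

/-- A central relator value which is inverted by a rotation of the word has square one. -/
theorem sq_eq_one_of_rot (g : Nat → Γ) (hinv : ∀ x, g x * g x = 1) (p q : List Nat)
    (hrev : (p ++ q).reverse = q ++ p) (hcen : ∀ y : Γ, evr g (p ++ q) * y = y * evr g (p ++ q)) :
    evr g (p ++ q) * evr g (p ++ q) = 1 := by
  have h1 : evr g (q ++ p) = evr g (p ++ q) := by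
    rw [evr_append, evr_append]
    have : evr g p * evr g q = evr g p * (evr g q * evr g p) * (evr g p)⁻¹ := by group
    rw [this, ← evr_append, ← hcen]
    group
  have h2 := evr_reverse g hinv (p ++ q)
  rw [hrev, h1] at h2
  calc evr g (p ++ q) * evr g (p ++ q) = evr g (p ++ q) * (evr g (p ++ q))⁻¹ := by rw [← h2]
    _ = 1 := mul_inv_cancel _

theorem eq_one_of_sq_of_odd [Finite Γ] (K : Subgroup Γ) (hodd : Odd (Nat.card K)) (z : Γ)
    (hz : z ∈ K) (h2 : z * z = 1) : z = 1 := by
  have h1 : orderOf z ∣ 2 := orderOf_dvd_of_pow_eq_one (by rw [pow_two]; exact h2)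
  have h3 : orderOf z ∣ Nat.card K := by
    have := orderOf_dvd_natCard (⟨z, hz⟩ : K)
    rwa [Subgroup.orderOf_mk] at this
  have h4 : orderOf z = 1 := by
    rcases (Nat.dvd_prime Nat.prime_two).mp h1 with h | h
    · exact h
    · exfalso
      rw [h] at h3
      exact (Nat.not_even_iff_odd.mpr hodd) (even_iff_two_dvd.mpr h3)
  exact orderOf_eq_one_iff.mp h4

end rot

section card
variable {Γ : Type*} {G : Type*} [Group Γ] [Group G] (σ : Γ →* G)

theorem card_eq_ker_mul [Finite Γ] (hs : Function.Surjective σ) :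
    Nat.card Γ = Nat.card G * Nat.card σ.ker := by
  rw [Subgroup.card_eq_card_quotient_mul_card_subgroup σ.ker,
    Nat.card_congr (QuotientGroup.quotientKerEquivOfSurjective σ hs).toEquiv]

end card

end Cfsg.Agent.Lib.Helper77.SchurLift
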