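import Cfsg.Agent.Lib.Helper77.J3SchurLift2

set_option autoImplicit false
set_option linter.style.haveILetI false

/-! The quotient of a stem extension by the squares of its kernel is a stem extension whose
kernel has exponent two; if all such extensions of `G` are trivial, kernels have odd order. -/

namespace Cfsg.Agent.Lib.Helper77.SchurLift

universe u v

section quot
variable {Γ : Type u} {G : Type v} [Group Γ] [Group G] (σ : Γ →* G)

/-- Squaring on the centre. -/
def sqHom (Γ : Type u) [Group Γ] : Subgroup.center Γ →* Γ where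
  toFun c := (c : Γ) * (c : Γ)
  map_one' := by simp
  map_mul' a b := by
    have h := Subgroup.mem_center_iff.mp b.2 (a : Γ)
    simp only [Subgroup.coe_mul]
    have : (a : Γ) * b * (a * b) = a * (b * a) * b := by group
    rw [this, ← h]
    group

/-- The squares of the elements of the kernel. -/
def sqKer : Subgroup Γ :=
  ((σ.ker).comap (Subgroup.center Γ).subtype).map (sqHom Γ)

theorem mem_sqKer (hc : σ.ker ≤ Subgroup.center Γ) (s : Γ) :
    s ∈ sqKer σ ↔ ∃ z ∈ σ.ker, z * z = s := by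
  unfold sqKer
  constructor
  · rintro ⟨c, hcm, rfl⟩
    exact ⟨(c : Γ), hcm, rfl⟩
  · rintro ⟨z, hz, rfl⟩
    exact ⟨⟨z, hc hz⟩, hz, rfl⟩

theorem sqKer_le (hc : σ.ker ≤ Subgroup.center Γ) : sqKer σ ≤ σ.ker := by
  intro s hs
  obtain ⟨z, hz, rfl⟩ := (mem_sqKer σ hc s).mp hs
  exact σ.ker.mul_mem hz hz

theorem sqKer_normal (hc : σ.ker ≤ Subgroup.center Γ) : (sqKer σ).Normal := by
  constructor
  intro s hs g
  have hcen := Subgroup.mem_center_iff.mp (hc (sqKer_le σ hc hs)) g
  have : g * s * g⁻¹ = s := by rw [hcen]; group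
  rw [this]
  exact hs

/-- The quotient of a stem extension by a normal subgroup of its kernel. -/
theorem stem_quot (hσ : Cfsg.IsStemExtension σ) (S : Subgroup Γ) [S.Normal] (hS : S ≤ σ.ker) :
    Cfsg.IsStemExtension (QuotientGroup.lift S σ hS) ∧
      ∀ x ∈ (QuotientGroup.lift S σ hS).ker, ∃ z ∈ σ.ker, x = (z : Γ ⧸ S) := by
  obtain ⟨hs, hc, hcomm⟩ := hσ
  have hker : ∀ x ∈ (QuotientGroup.lift S σ hS).ker, ∃ z ∈ σ.ker, x = (z : Γ ⧸ S) := by
    intro x hx
    induction x using QuotientGroup.induction_on with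
    | H z =>
      refine ⟨z, ?_, rfl⟩
      rw [MonoidHom.mem_ker] at hx ⊢
      simpa using hx
  refine ⟨⟨?_, ?_, ?_⟩, hker⟩
  · intro g
    obtain ⟨x, hx⟩ := hs g
    exact ⟨(x : Γ ⧸ S), by simpa using hx⟩
  · intro x hx
    obtain ⟨z, hz, rfl⟩ := hker x hx
    rw [Subgroup.mem_center_iff]
    intro y
    induction y using QuotientGroup.induction_on with
    | H y =>
      have := Subgroup.mem_center_iff.mp (hc hz) y
      rw [← QuotientGroup.mk_mul, ← QuotientGroup.mk_mul, this]
  · intro x hx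
    obtain ⟨z, hz, rfl⟩ := hker x hx
    have h1 : z ∈ commutator Γ := hcomm hz
    have h2 : (QuotientGroup.mk' S) z ∈ (commutator Γ).map (QuotientGroup.mk' S) :=
      Subgroup.mem_map_of_mem _ h1
    rw [commutator_def, Subgroup.map_commutator] at h2
    exact Subgroup.commutator_mono le_top le_top h2

end quot

section odd
variable {Γ : Type u} {G : Type v} [Group Γ] [Group G] [Finite Γ] [Finite G]

/-- If stem extensions of `G` with kernel of exponent two are not bigger than `G`, then the kernel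
of every finite stem extension has odd order. -/
theorem odd_card_ker
    (hA : ∀ (Γ₁ : Type u) [Group Γ₁] [Finite Γ₁] (τ : Γ₁ →* G), Cfsg.IsStemExtension τ →
      (∀ z ∈ τ.ker, z * z = 1) → Nat.card Γ₁ ≤ Nat.card G)
    (σ : Γ →* G) (hσ : Cfsg.IsStemExtension σ) : Odd (Nat.card σ.ker) := by
  obtain ⟨hs, hc, hcomm⟩ := hσ
  haveI := sqKer_normal σ hc
  obtain ⟨hst, hk⟩ := stem_quot σ ⟨hs, hc, hcomm⟩ (sqKer σ) (sqKer_le σ hc)
  have h1 := hA (Γ ⧸ sqKer σ) (QuotientGroup.lift (sqKer σ) σ (sqKer_le σ hc)) hst (by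
    intro x hx
    obtain ⟨z, hz, rfl⟩ := hk x hx
    rw [← QuotientGroup.mk_mul, QuotientGroup.eq_one_iff]
    exact (mem_sqKer σ hc _).mpr ⟨z, hz, rfl⟩)
  have h2 := Subgroup.card_eq_card_quotient_mul_card_subgroup (sqKer σ)
  have h3 := card_eq_ker_mul σ hs
  have hGpos : 0 < Nat.card G := Nat.card_pos
  have h4 : Nat.card σ.ker ≤ Nat.card (sqKer σ) := by
    have : Nat.card G * Nat.card σ.ker ≤ Nat.card G * Nat.card (sqKer σ) := by
      rw [← h3, h2]
      exact Nat.mul_le_mul_right _ h1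
    exact Nat.le_of_mul_le_mul_left this hGpos
  have heq : sqKer σ = σ.ker := Subgroup.eq_of_le_of_card_ge (sqKer_le σ hc) h4
  by_contra hodd
  have heven : 2 ∣ Nat.card σ.ker := even_iff_two_dvd.mp (Nat.not_odd_iff_even.mp hodd)
  haveI : Fact (Nat.Prime 2) := ⟨Nat.prime_two⟩
  obtain ⟨z₀, hz₀⟩ := exists_prime_orderOf_dvd_card' (G := σ.ker) 2 heven
  set f : σ.ker → σ.ker := fun z => z * z with hf
  have hsurj : Function.Surjective f := by
    intro y
    have : (y : Γ) ∈ sqKer σ := by rw [heq]; exact y.2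
    obtain ⟨z, hz, hzz⟩ := (mem_sqKer σ hc _).mp this
    exact ⟨⟨z, hz⟩, Subtype.ext hzz⟩
  have hinj := Finite.injective_iff_surjective.mpr hsurj
  have h5 : f z₀ = f 1 := by
    simp only [hf, mul_one]
    have := pow_orderOf_eq_one z₀
    rwa [hz₀, pow_two] at this
  have h6 := hinj h5
  rw [h6, orderOf_one] at hz₀
  exact absurd hz₀ (by norm_num)

end odd

end Cfsg.Agent.Lib.Helper77.SchurLift
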