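import Cfsg.Agent.Lib.Helper77.J3SchurQuot
import Cfsg.Agent.Lib.Helper77.J3SchurWords

set_option autoImplicit false
set_option linter.style.haveILetI false

/-! The subgroup generated by the first `k` generators, as a group with generators. -/

namespace Cfsg.Agent.Lib.Helper77.SchurLift

open Cfsg.Agent.Lib.Helper25.TC Cfsg.Agent.Lib.Helper77.SchurTC

section sub
variable {Γ : Type*} [Group Γ] (f : Nat → Γ) (k : Nat)

/-- The subgroup generated by the first `k` generators. -/
def subK : Subgroup Γ := Subgroup.closure {g | ∃ x < k, g = f x}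

/-- The first `k` generators as elements of that subgroup. -/
noncomputable def fSub : Nat → subK f k := fun x =>
  if h : x < k then ⟨f x, Subgroup.subset_closure ⟨x, h, rfl⟩⟩ else 1

theorem coe_fSub (x : Nat) (hx : x < k) : ((fSub f k x : subK f k) : Γ) = f x := by
  unfold fSub
  rw [dif_pos hx]

theorem coe_evr_fSub : ∀ w : List Nat, (∀ x ∈ w, x < k) →
    ((evr (fSub f k) w : subK f k) : Γ) = evr f w
  | [], _ => by simp [evr]
  | x :: a, hw => by
    have hx : x < k := hw x List.mem_cons_self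
    have ha : ∀ y ∈ a, y < k := fun y hy => hw y (List.mem_cons_of_mem _ hy)
    simp only [evr, Subgroup.coe_mul, coe_evr_fSub a ha, coe_fSub f k x hx]

theorem fSub_inv (hinv : ∀ x, f x * f x = 1) (x : Nat) : fSub f k x * fSub f k x = 1 := by
  by_cases hx : x < k
  · apply Subtype.ext
    rw [Subgroup.coe_mul, coe_fSub f k x hx, hinv]
    rfl
  · unfold fSub
    rw [dif_neg hx, one_mul]

theorem closure_fSub :
    Subgroup.closure {g : subK f k | ∃ x < k, g = fSub f k x} = ⊤ := by
  apply Subgroup.map_injective (subK f k).subtype_injective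
  rw [MonoidHom.map_closure, ← MonoidHom.range_eq_map, Subgroup.range_subtype]
  unfold subK
  congr 1
  ext g
  constructor
  · rintro ⟨y, ⟨x, hx, rfl⟩, rfl⟩
    exact ⟨x, hx, coe_fSub f k x hx⟩
  · rintro ⟨x, hx, rfl⟩
    exact ⟨fSub f k x, ⟨x, hx, rfl⟩, coe_fSub f k x hx⟩

/-- Relators of a list hold in the subgroup when they hold (exactly or centrally) in the group. -/
theorem rel_of_sub (hinv : ∀ x, f x * f x = 1) (ex ce : List (List Nat)) (sq : Bool)
    (hlex : ∀ w ∈ ex, ∀ x ∈ w, x < k) (hlce : ∀ w ∈ ce, ∀ x ∈ w, x < k)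
    (hex : ∀ w ∈ ex, evr f w = 1)
    (hce : ∀ ra ∈ ce, (∀ y : Γ, evr f ra * y = y * evr f ra) ∧
      (sq = true → evr f ra * evr f ra = 1)) :
    ∀ w ∈ mkRel k ex ce sq, evr (fSub f k) w = 1 := by
  apply rel_of (fSub f k) (fSub_inv f k hinv) k ex ce sq
  · intro w hw
    apply Subtype.ext
    rw [coe_evr_fSub f k w (hlex w hw), hex w hw]
    rfl
  · intro ra hra
    obtain ⟨h1, h2⟩ := hce ra hra
    refine ⟨?_, ?_⟩
    · intro x _
      apply Subtype.ext
      rw [Subgroup.coe_mul, Subgroup.coe_mul, coe_evr_fSub f k ra (hlce ra hra)]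
      exact h1 _
    · intro hs
      apply Subtype.ext
      rw [Subgroup.coe_mul, coe_evr_fSub f k ra (hlce ra hra), h2 hs]
      rfl

end sub

end Cfsg.Agent.Lib.Helper77.SchurLift
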