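import Cfsg.Agent.Lib.Helper77.J3Fast

set_option autoImplicit false
set_option linter.style.haveILetI false

/-! Search trees and row checks for the orbit tables of the triple cover of J3. -/

namespace Cfsg.Agent.Lib.Helper77.J3

/-- A binary search tree with keys and depths. -/
inductive Tr where
  | leaf : Tr
  | node : Tr → ℕ → ℕ → Tr → Tr

namespace Tr

/-- Lookup: the depth plus one, or zero if the key is absent. -/
def get : Tr → ℕ → ℕ
  | leaf, _ => 0
  | node l k d r, x =>
    bif Nat.beq x k then Nat.succ d else bif Nat.blt x k then l.get x else r.get x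

/-- In-order list of the entries, with an accumulator. -/
def toListAux : Tr → List (ℕ × ℕ) → List (ℕ × ℕ)
  | leaf, acc => acc
  | node l k d r, acc => l.toListAux ((k, d) :: r.toListAux acc)

/-- In-order list of the entries. -/
def toList (t : Tr) : List (ℕ × ℕ) := t.toListAux []

theorem subset_toListAux (t : Tr) : ∀ (acc : List (ℕ × ℕ)), ∀ x ∈ acc, x ∈ t.toListAux acc := by
  induction t with
  | leaf => intro acc x hx; exact hx
  | node l k d r ihl ihr =>
    intro acc x hx
    unfold toListAux
    exact ihl _ x (List.mem_cons_of_mem _ (ihr acc x hx))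

theorem get_mem_aux (t : Tr) : ∀ (x d : ℕ), t.get x = d + 1 → ∀ acc, (x, d) ∈ t.toListAux acc := by
  induction t with
  | leaf => intro x d h; simp [get] at h
  | node l k d' r ihl ihr =>
    intro x d h acc
    unfold get at h
    unfold toListAux
    cases h1 : Nat.beq x k
    · rw [h1, cond_false] at h
      cases h2 : Nat.blt x k
      · rw [h2, cond_false] at h
        exact subset_toListAux l _ _ (List.mem_cons_of_mem _ (ihr x d h acc))
      · rw [h2, cond_true] at h
        exact ihl x d h _
    · rw [h1, cond_true] at h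
      have hx : x = k := Nat.eq_of_beq_eq_true h1
      have : d' = d := by
        have : d'.succ = d + 1 := h
        omega
      subst this; subst hx
      exact subset_toListAux l _ _ List.mem_cons_self

theorem get_mem (t : Tr) (x d : ℕ) (h : t.get x = d + 1) : (x, d) ∈ t.toList :=
  get_mem_aux t x d h []

end Tr

/-- The packed identity matrix. -/
def pOne : P9 := pk M9.one

/-- The bitmap of a list of keys. -/
def bmOf (l : List ℕ) : ℕ := l.foldl (fun acc k => Nat.lor acc (Nat.shiftLeft 1 k)) 0

/-- Bitmap lookup. -/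
def bmGet (bm i : ℕ) : Bool := Nat.beq (Nat.mod (Nat.shiftRight bm i) 2) 1

theorem bmGet_eq (bm i : ℕ) : bmGet bm i = bm.testBit i := by
  unfold bmGet
  have h : Nat.mod (Nat.shiftRight bm i) 2 = (bm.testBit i).toNat := by
    rw [Nat.toNat_testBit]
    show (bm >>> i) % 2 = _
    rw [Nat.shiftRight_eq_div_pow]
  rw [h]
  cases bm.testBit i <;> rfl

theorem testBit_foldl (l : List ℕ) (acc i : ℕ) :
    (l.foldl (fun acc k => Nat.lor acc (Nat.shiftLeft 1 k)) acc).testBit i =
      (acc.testBit i || decide (i ∈ l)) := by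
  induction l generalizing acc with
  | nil => simp
  | cons k l ih =>
    rw [List.foldl_cons, ih]
    have h1 : Nat.lor acc (Nat.shiftLeft 1 k) = acc ||| (1 <<< k) := rfl
    rw [h1, Nat.testBit_or, Nat.one_shiftLeft, Nat.testBit_two_pow]
    by_cases hik : k = i
    · subst hik; simp
    · have : ¬ i = k := fun e => hik e.symm
      simp [hik, this]

theorem bmOf_spec (l : List ℕ) (i : ℕ) (h : bmGet (bmOf l) i = true) : i ∈ l := by
  rw [bmGet_eq] at h
  unfold bmOf at h
  rw [testBit_foldl] at h
  simpa using h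

/-- All images under the listed matrices are in the bitmap. -/
def closBP (bm : ℕ) (gl : List P9) (n : ℕ) : Bool :=
  gl.all fun M => bmGet bm (stepKeyP M n)

/-- The check of a row `(key, depth, parent key, generator)` of an orbit table. -/
def rowBP (t : Tr) (gLit : List P9) (root : ℕ) (r : ℕ × ℕ × ℕ × ℕ) : Bool :=
  Nat.blt r.1 262144 && Nat.beq (leadP r.1) 1 &&
  (bif Nat.beq r.2.1 0 then Nat.beq r.1 root else
    (Nat.beq (t.get r.2.2.1) r.2.1 && decide (validJ r.2.2.2) &&
      Nat.beq (stepKeyP (gLit.getD r.2.2.2 pOne) r.2.2.1) r.1))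

/-- The row check together with the closure check. -/
def rowBP1 (t : Tr) (bm : ℕ) (gLit gl : List P9) (root : ℕ) (r : ℕ × ℕ × ℕ × ℕ) : Bool :=
  rowBP t gLit root r && closBP bm gl r.1

/-- Parity of the number of nonzero coordinates (specification). -/
def evenW (m : ℕ) : Bool :=
  ((m.testBit 0).toNat + (m.testBit 1).toNat + (m.testBit 2).toNat + (m.testBit 3).toNat +
    (m.testBit 4).toNat + (m.testBit 5).toNat + (m.testBit 6).toNat + (m.testBit 7).toNat +
    (m.testBit 8).toNat) % 2 == 0

/-- Parity of the number of one bits, fast. -/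
def parP (m : ℕ) : ℕ :=
  Nat.land (Nat.xor (Nat.xor (Nat.xor (Nat.xor m (Nat.shiftRight m 8)) (Nat.shiftRight m 4))
    (Nat.xor (Nat.shiftRight m 2) (Nat.shiftRight m 6)))
    (Nat.xor (Nat.xor (Nat.shiftRight m 1) (Nat.shiftRight m 3))
      (Nat.xor (Nat.shiftRight m 5) (Nat.shiftRight m 7)))) 1

theorem parP_spec : ∀ m < 512, (Nat.beq (parP m) 0) = evenW m := by decide +kernel

/-- The completeness check at the vector with masks `a`, `b`. -/
def compBP (bm : ℕ) (a b : ℕ) : Bool :=
  Nat.beq (Nat.lor a b) 0 || !(Nat.beq (parP (Nat.lor a b)) 0) ||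
    bmGet bm (normP (Nat.add a (Nat.mul 512 b)))

theorem rowBP_spec (t : Tr) (gLit : List P9) (root : ℕ) (k d p j : ℕ)
    (h : rowBP t gLit root (k, d, p, j) = true) :
    k < 262144 ∧ leadP k = 1 ∧
      ((d = 0 ∧ k = root) ∨ (d ≠ 0 ∧ t.get p = d ∧ validJ j ∧
        stepKeyP (gLit.getD j pOne) p = k)) := by
  unfold rowBP at h
  simp only [Bool.and_eq_true, Nat.blt_eq] at h
  obtain ⟨⟨h1, h2⟩, h3⟩ := h
  refine ⟨h1, Nat.eq_of_beq_eq_true h2, ?_⟩
  cases hd : Nat.beq d 0
  · rw [hd, cond_false] at h3
    simp only [Bool.and_eq_true, decide_eq_true_eq] at h3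
    have hd' : d ≠ 0 := by
      intro e
      rw [e] at hd
      exact absurd hd (by decide)
    exact Or.inr ⟨hd', Nat.eq_of_beq_eq_true h3.1.1, h3.1.2, Nat.eq_of_beq_eq_true h3.2⟩
  · rw [hd, cond_true] at h3
    exact Or.inl ⟨Nat.eq_of_beq_eq_true hd, Nat.eq_of_beq_eq_true h3⟩

theorem closBP_spec (bm : ℕ) (gl : List P9) (n : ℕ) (h : closBP bm gl n = true) (M : P9)
    (hM : M ∈ gl) : bmGet bm (stepKeyP M n) = true := by
  unfold closBP at h
  rw [List.all_eq_true] at h
  exact h M hM

/-- Strictly increasing list of naturals (boolean check). -/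
def isIncr3 : List ℕ → Bool
  | a :: b :: l => Nat.blt a b && isIncr3 (b :: l)
  | _ => true

theorem isIncr3_pairwise : ∀ l : List ℕ, isIncr3 l = true → l.Pairwise (· < ·)
  | [], _ => List.Pairwise.nil
  | [a], _ => List.pairwise_singleton _ _
  | a :: b :: l, h => by
    unfold isIncr3 at h
    rw [Bool.and_eq_true] at h
    have hab : a < b := by
      have := h.1
      rwa [Nat.blt_eq] at this
    have ih := isIncr3_pairwise (b :: l) h.2
    rw [List.pairwise_cons] at ih ⊢
    refine ⟨?_, List.pairwise_cons.mpr ⟨ih.1, ih.2⟩⟩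
    intro x hx
    rcases List.mem_cons.mp hx with rfl | hx
    · exact hab
    · exact lt_trans hab (ih.1 x hx)

end Cfsg.Agent.Lib.Helper77.J3
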