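import Cfsg.Agent.Lib.Helper77.J3TransC0
import Cfsg.Agent.Lib.Helper77.J3TransC1
import Cfsg.Agent.Lib.Helper77.J3TransC2
import Cfsg.Agent.Lib.Helper77.J3TransC3

set_option autoImplicit false
set_option linter.style.haveILetI false
set_option maxRecDepth 100000
set_option Elab.async false

/-! The transversal table of the stabilizer of the first basis line in the triple cover of J3,
assembled (generated by a script, checked by the kernel). -/

namespace Cfsg.Agent.Lib.Helper77.J3

/-- All rows of the transversal table. -/
def urows : List (ℕ × ℕ × ℕ × ℕ × ℕ × ℕ × ℕ × ℕ) :=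
  urows0 ++ urows1 ++ urows2 ++ urows3

theorem chk_urows : ∀ r ∈ urows, rowU uT kI sP1 sP2 sP3 r = true := by
  intro r hr
  unfold urows at hr
  simp only [List.mem_append, or_assoc] at hr
  rcases hr with hr | hr | hr | hr
  · exact chk_urows0 r hr
  · exact chk_urows1 r hr
  · exact chk_urows2 r hr
  · exact chk_urows3 r hr

theorem uT_toList : uT.toList = urows.map (fun r => (r.1, r.2.1)) := by decide +kernel

theorem urows_length : urows.length = 23256 := by decide +kernel

end Cfsg.Agent.Lib.Helper77.J3
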