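import Mathlib
import Cfsg.Prelude.Def_Spor_J3

set_option autoImplicit false
set_option linter.style.haveILetI false

/-! Kernel-friendly vectors and matrices over the field with four elements (bit-sliced: a vector
of length 9 is a pair of 9-bit masks), with the bridge to an abstract field `F` with four elements
and a root `ω` of `X² + X + 1`. Used for the orbits of the triple cover of the Janko group J3. -/

namespace Cfsg.Agent.Lib.Helper77.J3

open Cfsg.Spor

/-- The facts about a field with four elements and a primitive cube root of unity we use. -/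
structure IsF4 (F : Type) [Field F] (ω : F) : Prop where
  add_self : ∀ x : F, x + x = 0
  sq : ω * ω = 1 + ω
  ne0 : ω ≠ 0
  ne1 : ω ≠ 1
  surj : ∀ x : F, x = 0 ∨ x = 1 ∨ x = ω ∨ x = 1 + ω

theorem isF4_of {F : Type} [Field F] [Fintype F] (hF : Fintype.card F = 4) (ω : F)
    (hω : ω ^ 2 + ω + 1 = 0) : IsF4 F ω := by
  have h2 : (2 : F) = 0 := by
    have h4 : ((Fintype.card F : ℕ) : F) = 0 := Nat.cast_card_eq_zero F
    rw [hF] at h4
    have : (2 : F) * 2 = 0 := by
      have e : ((4 : ℕ) : F) = 2 * 2 := by norm_num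
      rw [← e]; exact h4
    exact mul_self_eq_zero.mp this
  have hadd : ∀ x : F, x + x = 0 := by
    intro x
    have : x + x = 2 * x := by ring
    rw [this, h2, zero_mul]
  have hneg : ∀ x : F, -x = x := fun x => neg_eq_of_add_eq_zero_left (hadd x)
  have hsq : ω * ω = 1 + ω := by
    have : ω * ω = -(ω + 1) := by
      have e : ω * ω + (ω + 1) = 0 := by rw [← hω]; ring
      exact eq_neg_of_add_eq_zero_left e
    rw [this, hneg]; ring
  have hne0 : ω ≠ 0 := by
    rintro rfl
    simp at hω
  have hne1 : ω ≠ 1 := by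
    rintro rfl
    have : (1 : F) ^ 2 + 1 + 1 = 1 := by
      have := hadd 1
      calc (1 : F) ^ 2 + 1 + 1 = 1 + (1 + 1) := by ring
        _ = 1 := by rw [this, add_zero]
    rw [this] at hω
    exact one_ne_zero hω
  refine ⟨hadd, hsq, hne0, hne1, ?_⟩
  -- the four elements are distinct, hence everything
  have hne2 : (1 : F) + ω ≠ 0 := by
    intro h
    have : ω = -1 := eq_neg_of_add_eq_zero_right h
    rw [hneg] at this
    exact hne1 this
  have hne3 : (1 : F) + ω ≠ 1 := by
    intro h
    exact hne0 (by simp at h; exact h)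
  have hne4 : (1 : F) + ω ≠ ω := by
    intro h
    have : (1 : F) = 0 := by simpa using h
    exact one_ne_zero this
  let f : Fin 4 → F := ![0, 1, ω, 1 + ω]
  have hinj : Function.Injective f := by
    intro i j hij
    fin_cases i <;> fin_cases j <;> simp [f] at hij ⊢ <;>
      first
      | exact absurd hij hne0 | exact absurd hij.symm hne0
      | exact absurd hij hne1 | exact absurd hij.symm hne1
      | exact absurd hij hne2 | exact absurd hij.symm hne2
  have hbij : Function.Bijective f := by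
    rw [Fintype.bijective_iff_injective_and_card]
    exact ⟨hinj, by rw [hF]; rfl⟩
  intro x
  obtain ⟨i, rfl⟩ := hbij.2 x
  fin_cases i <;> simp [f]


section enc
variable {F : Type} [Field F] {ω : F}

/-- The field element with the given two bits: `a + b ω`. -/
def encB (ω : F) (a b : Bool) : F := (if a then 1 else 0) + (if b then ω else 0)

theorem encB_xor (h : IsF4 F ω) (a b a' b' : Bool) :
    encB ω (a ^^ a') (b ^^ b') = encB ω a b + encB ω a' b' := by
  have h1 := h.add_self 1
  have h2 := h.add_self ω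
  cases a <;> cases b <;> cases a' <;> cases b' <;> simp [encB] <;>
    first
    | ring1
    | linear_combination -h1
    | linear_combination h1
    | linear_combination -h2
    | linear_combination h2
    | linear_combination -h1 - h2

theorem encB_mulw (h : IsF4 F ω) (a b : Bool) : encB ω b (a ^^ b) = ω * encB ω a b := by
  have h2 := h.add_self ω
  have hs := h.sq
  cases a <;> cases b <;> simp [encB] <;>
    first
    | ring1
    | linear_combination -hs
    | linear_combination hs
    | linear_combination -hs - h2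

theorem encB_eq_zero (h : IsF4 F ω) (a b : Bool) : encB ω a b = 0 ↔ a = false ∧ b = false := by
  cases a <;> cases b <;> simp [encB]
  · exact h.ne0
  · intro e
    have : ω = 1 := by
      have h1 := h.add_self 1
      calc ω = (1 + 1) + ω := by rw [h1, zero_add]
        _ = 1 + (1 + ω) := by ring
        _ = 1 := by rw [e, add_zero]
    exact h.ne1 this

theorem encB_inj (h : IsF4 F ω) (a b a' b' : Bool) (e : encB ω a b = encB ω a' b') :
    a = a' ∧ b = b' := by
  have e2 : encB ω (a ^^ a') (b ^^ b') = 0 := by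
    rw [encB_xor h, e, h.add_self]
  rw [encB_eq_zero h] at e2
  constructor
  · cases a <;> cases a' <;> simp_all
  · cases b <;> cases b' <;> simp_all

theorem encB_surj (h : IsF4 F ω) (x : F) : ∃ a b, x = encB ω a b := by
  rcases h.surj x with rfl | rfl | rfl | rfl
  · exact ⟨false, false, by simp [encB]⟩
  · exact ⟨true, false, by simp [encB]⟩
  · exact ⟨false, true, by simp [encB]⟩
  · exact ⟨true, true, by simp [encB]⟩

theorem encB_cube (h : IsF4 F ω) (a b : Bool) :
    encB ω a b ^ 3 = if (a || b) then 1 else 0 := by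
  have hw3 : ω ^ 3 = 1 := by
    have : ω ^ 3 = ω * (ω * ω) := by ring
    rw [this, h.sq, mul_add, mul_one, h.sq, ← add_assoc, add_comm ω 1, add_assoc, h.add_self,
      add_zero]
  cases a <;> cases b <;> simp [encB]
  · exact hw3
  · have : (1 + ω) ^ 3 = (ω ^ 3) ^ 2 := by
      rw [← h.sq]; ring
    rw [this, hw3, one_pow]

end enc

/-- The index of a coordinate. -/
def idx (z : F9) : ℕ := 3 * z.1.val + z.2.val

/-- The coordinates in index order. -/
def allZ : List F9 := [(0, 0), (0, 1), (0, 2), (1, 0), (1, 1), (1, 2), (2, 0), (2, 1), (2, 2)]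

theorem sum_F9 {M : Type*} [AddCommMonoid M] (f : F9 → M) :
    ∑ z, f z = f (0, 0) + f (0, 1) + f (0, 2) + f (1, 0) + f (1, 1) + f (1, 2) + f (2, 0) +
      f (2, 1) + f (2, 2) := by
  rw [Fintype.sum_prod_type]
  change ∑ x : Fin 3, ∑ y : Fin 3, f (x, y) = _
  simp only [Fin.sum_univ_three]
  simp only [add_assoc]
  rfl

theorem idx_lt (z : F9) : idx z < 9 := by
  obtain ⟨x, y⟩ := z
  have hx : x.val < 3 := ZMod.val_lt x
  have hy : y.val < 3 := ZMod.val_lt y
  unfold idx
  simp only
  omega

theorem idx_inj {z w : F9} (h : idx z = idx w) : z = w := by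
  obtain ⟨x, y⟩ := z
  obtain ⟨x', y'⟩ := w
  have hx : x.val < 3 := ZMod.val_lt x
  have hy : y.val < 3 := ZMod.val_lt y
  have hx' : x'.val < 3 := ZMod.val_lt x'
  have hy' : y'.val < 3 := ZMod.val_lt y'
  unfold idx at h
  simp only at h
  have h1 : x.val = x'.val := by omega
  have h2 : y.val = y'.val := by omega
  rw [Prod.mk.injEq]
  exact ⟨ZMod.val_injective 3 h1, ZMod.val_injective 3 h2⟩

/-- A bit-sliced vector of length 9 over the field with four elements. -/
structure V9 where
  lo : ℕ
  hi : ℕ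
  deriving DecidableEq

/-- A 9 x 9 matrix, stored by columns (the images of the basis vectors). -/
structure M9 where
  c0 : V9
  c1 : V9
  c2 : V9
  c3 : V9
  c4 : V9
  c5 : V9
  c6 : V9
  c7 : V9
  c8 : V9
  deriving DecidableEq

namespace V9

/-- The zero vector. -/
def zero : V9 := ⟨0, 0⟩

/-- Sum of vectors. -/
def add (u v : V9) : V9 := ⟨u.lo ^^^ v.lo, u.hi ^^^ v.hi⟩

/-- Multiplication by `ω`. -/
def mulw (v : V9) : V9 := ⟨v.hi, v.lo ^^^ v.hi⟩

/-- Conditional. -/
def sel (b : Bool) (u : V9) : V9 := bif b then u else zero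

/-- The contribution of column `c` for the coordinate `i` of `v`. -/
def term (c v : V9) (i : ℕ) : V9 := (sel (v.lo.testBit i) c).add (sel (v.hi.testBit i) c.mulw)

end V9

namespace M9

/-- Matrix times column vector. -/
def apply (M : M9) (v : V9) : V9 :=
  (V9.term M.c0 v 0).add ((V9.term M.c1 v 1).add ((V9.term M.c2 v 2).add ((V9.term M.c3 v 3).add
    ((V9.term M.c4 v 4).add ((V9.term M.c5 v 5).add ((V9.term M.c6 v 6).add
      ((V9.term M.c7 v 7).add (V9.term M.c8 v 8))))))))

/-- Column selection. -/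
def col (M : M9) : ℕ → V9
  | 0 => M.c0
  | 1 => M.c1
  | 2 => M.c2
  | 3 => M.c3
  | 4 => M.c4
  | 5 => M.c5
  | 6 => M.c6
  | 7 => M.c7
  | 8 => M.c8
  | _ => V9.zero

/-- Matrix product. -/
def mul (M N : M9) : M9 :=
  ⟨M.apply N.c0, M.apply N.c1, M.apply N.c2, M.apply N.c3, M.apply N.c4, M.apply N.c5,
    M.apply N.c6, M.apply N.c7, M.apply N.c8⟩

/-- The identity matrix. -/
def one : M9 := ⟨⟨1, 0⟩, ⟨2, 0⟩, ⟨4, 0⟩, ⟨8, 0⟩, ⟨16, 0⟩, ⟨32, 0⟩, ⟨64, 0⟩, ⟨128, 0⟩, ⟨256, 0⟩⟩

end M9

section dec
variable {F : Type} [Field F] {ω : F}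

/-- The vector over `F` encoded by a bit-sliced vector. -/
def dec (ω : F) (v : V9) : F9 → F := fun z => encB ω (v.lo.testBit (idx z)) (v.hi.testBit (idx z))

/-- The matrix over `F` encoded by a concrete matrix. -/
def toMat (ω : F) (M : M9) : Matrix F9 F9 F := Matrix.of fun w z => dec ω (M.col (idx z)) w

theorem dec_zero : dec ω V9.zero = 0 := by
  funext z
  simp [dec, V9.zero, encB]

theorem dec_add (h : IsF4 F ω) (u v : V9) : dec ω (u.add v) = dec ω u + dec ω v := by
  funext z
  simp only [dec, V9.add, Nat.testBit_xor, Pi.add_apply]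
  exact encB_xor h _ _ _ _

theorem dec_mulw (h : IsF4 F ω) (v : V9) : dec ω v.mulw = ω • dec ω v := by
  funext z
  simp only [dec, V9.mulw, Nat.testBit_xor, Pi.smul_apply, smul_eq_mul]
  exact encB_mulw h _ _

theorem dec_term (h : IsF4 F ω) (c v : V9) (i : ℕ) (w : F9) :
    dec ω (V9.term c v i) w = dec ω c w * encB ω (v.lo.testBit i) (v.hi.testBit i) := by
  unfold V9.term
  rw [dec_add h]
  cases h1 : v.lo.testBit i <;> cases h2 : v.hi.testBit i <;>
    simp [V9.sel, dec_zero, dec_mulw h, encB, mul_comm] <;> ring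

theorem dec_apply (h : IsF4 F ω) (M : M9) (v : V9) :
    dec ω (M.apply v) = Matrix.mulVec (toMat ω M) (dec ω v) := by
  funext w
  simp only [Matrix.mulVec, dotProduct]
  rw [sum_F9]
  unfold M9.apply
  simp only [dec_add h, Pi.add_apply, dec_term h]
  simp only [toMat, Matrix.of_apply]
  have e0 : idx (0, 0) = 0 := rfl
  have e1 : idx (0, 1) = 1 := rfl
  have e2 : idx (0, 2) = 2 := rfl
  have e3 : idx (1, 0) = 3 := rfl
  have e4 : idx (1, 1) = 4 := rfl
  have e5 : idx (1, 2) = 5 := rfl
  have e6 : idx (2, 0) = 6 := rfl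
  have e7 : idx (2, 1) = 7 := rfl
  have e8 : idx (2, 2) = 8 := rfl
  have d : ∀ z : F9, dec ω v z = encB ω (v.lo.testBit (idx z)) (v.hi.testBit (idx z)) :=
    fun z => rfl
  simp only [d, e0, e1, e2, e3, e4, e5, e6, e7, e8, M9.col]
  ring

theorem col_mul (M N : M9) (i : ℕ) (hi : i < 9) : (M.mul N).col i = M.apply (N.col i) := by
  interval_cases i <;> rfl

theorem toMat_mul (h : IsF4 F ω) (M N : M9) : toMat ω (M.mul N) = toMat ω M * toMat ω N := by
  ext w z
  rw [Matrix.mul_apply]
  have e1 : toMat ω (M.mul N) w z = dec ω (M.apply (N.col (idx z))) w := by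
    simp only [toMat, Matrix.of_apply]
    rw [col_mul M N _ (idx_lt z)]
  rw [e1, dec_apply h]
  simp only [Matrix.mulVec, dotProduct]
  rfl

theorem col_one (i : ℕ) (hi : i < 9) : M9.one.col i = ⟨2 ^ i, 0⟩ := by
  interval_cases i <;> rfl

theorem toMat_one : toMat ω M9.one = (1 : Matrix F9 F9 F) := by
  ext w z
  simp only [toMat, Matrix.of_apply, dec]
  rw [col_one _ (idx_lt z)]
  simp only [Nat.testBit_two_pow, Nat.zero_testBit, Matrix.one_apply]
  by_cases hwz : w = z
  · subst hwz
    simp [encB]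
  · have : idx z ≠ idx w := fun e => hwz (idx_inj e).symm
    simp [encB, this, hwz]

end dec

/-- The number with the given list of bits (lowest first). -/
def bitsL : List Bool → ℕ
  | [] => 0
  | b :: l => b.toNat + 2 * bitsL l

theorem testBit_bitsL : ∀ (l : List Bool) (i : ℕ), (bitsL l).testBit i = l.getD i false
  | [], i => by simp [bitsL]
  | b :: l, 0 => by
    cases b <;> simp [bitsL, Nat.testBit_zero] <;> omega
  | b :: l, i + 1 => by
    rw [Nat.testBit_succ]
    have : (bitsL (b :: l)) / 2 = bitsL l := by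
      cases b <;> simp [bitsL] <;> omega
    rw [this, testBit_bitsL l i]
    simp

theorem allZ_getD (f : F9 → Bool) (w : F9) : (allZ.map f).getD (idx w) false = f w := by
  obtain ⟨x, y⟩ := w
  fin_cases x <;> fin_cases y <;> rfl

/-- The column with the given codes. -/
def colOf (g : F9 → ℕ) : V9 :=
  ⟨bitsL (allZ.map fun w => (g w).testBit 0), bitsL (allZ.map fun w => (g w).testBit 1)⟩

/-- The matrix with the given codes. -/
def ofCode (f : F9 → F9 → ℕ) : M9 :=
  ⟨colOf (fun w => f w (0, 0)), colOf (fun w => f w (0, 1)), colOf (fun w => f w (0, 2)),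
    colOf (fun w => f w (1, 0)), colOf (fun w => f w (1, 1)), colOf (fun w => f w (1, 2)),
    colOf (fun w => f w (2, 0)), colOf (fun w => f w (2, 1)), colOf (fun w => f w (2, 2))⟩

theorem col_ofCode (f : F9 → F9 → ℕ) (z : F9) :
    (ofCode f).col (idx z) = colOf (fun w => f w z) := by
  obtain ⟨x, y⟩ := z
  fin_cases x <;> fin_cases y <;> rfl

section gens
variable {F : Type} [Field F] {ω : F}

/-- The field element with the given code (0, 1, 2 = ω, 3 = 1 + ω). -/
def encC (ω : F) (c : ℕ) : F := encB ω (c.testBit 0) (c.testBit 1)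

theorem encC_zero : encC ω 0 = 0 := by simp [encC, encB]

theorem encC_one : encC ω 1 = 1 := by
  have h0 : Nat.testBit 1 0 = true := by decide
  have h1 : Nat.testBit 1 1 = false := by decide
  simp [encC, encB, h0, h1]

theorem encC_two : encC ω 2 = ω := by
  have h0 : Nat.testBit 2 0 = false := by decide
  have h1 : Nat.testBit 2 1 = true := by decide
  simp [encC, encB, h0, h1]

theorem encC_three : encC ω 3 = 1 + ω := by
  have h0 : Nat.testBit 3 0 = true := by decide
  have h1 : Nat.testBit 3 1 = true := by decide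
  simp [encC, encB, h0, h1]

theorem dec_colOf (g : F9 → ℕ) (w : F9) : dec ω (colOf g) w = encC ω (g w) := by
  simp only [dec, colOf, testBit_bitsL, allZ_getD, encC]

theorem toMat_ofCode (f : F9 → F9 → ℕ) (w z : F9) : toMat ω (ofCode f) w z = encC ω (f w z) := by
  simp only [toMat, Matrix.of_apply, col_ofCode, dec_colOf]

/-- The code of `ω ^ n`. -/
def wcode (n : ZMod 3) : ℕ := if n = 0 then 1 else if n = 1 then 2 else 3

theorem encC_wcode (h : IsF4 F ω) (n : ZMod 3) : encC ω (wcode n) = omegaPow F ω n := by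
  unfold omegaPow
  have hn : n = 0 ∨ n = 1 ∨ n = 2 := by revert n; decide
  rcases hn with rfl | rfl | rfl
  · have hv : ((0 : ZMod 3)).val = 0 := rfl
    have hw : wcode 0 = 1 := by decide
    rw [hv, hw, pow_zero, encC_one]
  · have hv : ((1 : ZMod 3)).val = 1 := rfl
    have hw : wcode 1 = 2 := by decide
    rw [hv, hw, pow_one, encC_two]
  · have hv : ((2 : ZMod 3)).val = 2 := rfl
    have hw : wcode 2 = 3 := by decide
    rw [hv, hw, pow_two, h.sq, encC_three]

/-- Codes of `A_Z`. -/
def codeA (Z w z : F9) : ℕ := if w = z then wcode (Z.1 * w.1 + Z.2 * w.2) else 0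

/-- Codes of `E_Z`. -/
def codeE (Z w z : F9) : ℕ := if w = z then wcode ((Z.1 - w.1) ^ 2 + (Z.2 - w.2) ^ 2) else 0

/-- Code of the coefficient of `D_Z`. -/
def lamC (Z z : F9) : ℕ :=
  if z = 0 then 1
  else if F9.div Z z = F9.I - F9.one then 2
  else if F9.div Z z = -F9.I - F9.one then 3
  else 1

/-- Codes of `D_Z`. -/
def codeD (Z w z : F9) : ℕ := if w = z + Z then lamC Z z else 0

/-- Codes of `B_Z`. -/
def codeB (Z w z : F9) : ℕ := if w = F9.mul Z z then 1 else 0

/-- Codes of `C_Z`. -/
def codeC (Z w z : F9) : ℕ :=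
  if z = 0 then (if w = 0 then 1 else 0)
  else if w = -F9.div Z z ∨ w = F9.mul F9.I (F9.div Z z) ∨ w = -F9.mul F9.I (F9.div Z z) then 1
  else 0

theorem bridgeA (h : IsF4 F ω) (Z : F9) : toMat ω (ofCode (codeA Z)) = j3A F ω Z := by
  ext w z
  rw [toMat_ofCode]
  unfold codeA j3A
  rw [Matrix.diagonal_apply]
  by_cases hwz : w = z
  · rw [if_pos hwz, if_pos hwz, encC_wcode h]
  · rw [if_neg hwz, if_neg hwz, encC_zero]

theorem bridgeE (h : IsF4 F ω) (Z : F9) : toMat ω (ofCode (codeE Z)) = j3E F ω Z := by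
  ext w z
  rw [toMat_ofCode]
  unfold codeE j3E
  rw [Matrix.diagonal_apply]
  by_cases hwz : w = z
  · rw [if_pos hwz, if_pos hwz, encC_wcode h]
  · rw [if_neg hwz, if_neg hwz, encC_zero]

theorem encC_lamC (h : IsF4 F ω) (Z z : F9) : encC ω (lamC Z z) = j3Lam F ω Z z := by
  unfold lamC j3Lam
  split_ifs
  · exact encC_one
  · exact encC_two
  · rw [encC_three, pow_two, h.sq]
  · exact encC_one

theorem bridgeD (h : IsF4 F ω) (Z : F9) : toMat ω (ofCode (codeD Z)) = j3D F ω Z := by
  ext w z
  rw [toMat_ofCode]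
  unfold codeD j3D
  rw [Matrix.of_apply]
  by_cases hwz : w = z + Z
  · rw [if_pos hwz, if_pos hwz, encC_lamC h]
  · rw [if_neg hwz, if_neg hwz, encC_zero]

theorem bridgeB (Z : F9) : toMat ω (ofCode (codeB Z)) = j3B F Z := by
  ext w z
  rw [toMat_ofCode]
  unfold codeB j3B
  rw [Matrix.of_apply]
  by_cases hwz : w = F9.mul Z z
  · rw [if_pos hwz, if_pos hwz, encC_one]
  · rw [if_neg hwz, if_neg hwz, encC_zero]

theorem bridgeC (Z : F9) : toMat ω (ofCode (codeC Z)) = j3C F Z := by
  ext w z
  rw [toMat_ofCode]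
  unfold codeC j3C
  rw [Matrix.of_apply]
  split_ifs <;> first | exact encC_one | exact encC_zero

/-- The coordinate with a given index. -/
def zOf (i : ℕ) : F9 := allZ.getD i (0, 0)

theorem zOf_idx (z : F9) : zOf (idx z) = z := by
  obtain ⟨x, y⟩ := z
  fin_cases x <;> fin_cases y <;> rfl

/-- Codes of the generator number `j` (family `j / 9`, parameter number `j % 9`). -/
def codeFn (j : ℕ) : F9 → F9 → ℕ :=
  match j / 9 with
  | 0 => codeA (zOf (j % 9))
  | 1 => codeE (zOf (j % 9))
  | 2 => codeD (zOf (j % 9))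
  | 3 => codeB (zOf (j % 9))
  | _ => codeC (zOf (j % 9))

/-- The concrete matrix of the generator number `j`. -/
def gM (j : ℕ) : M9 := ofCode (codeFn j)

/-- The generator numbers in use. -/
def validJ (j : ℕ) : Prop := j < 45 ∧ j ≠ 27 ∧ j ≠ 36

instance (j : ℕ) : Decidable (validJ j) := by unfold validJ; infer_instance

theorem gens_cover (h : IsF4 F ω) (M : Matrix F9 F9 F) (hM : M ∈ j3Gens F ω) :
    ∃ j, validJ j ∧ M = toMat ω (gM j) := by
  unfold j3Gens at hM
  simp only [Set.mem_union, Set.mem_range, Set.mem_ofPred_eq] at hM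
  have key : ∀ (k : ℕ) (Z : F9), (9 * k + idx Z) / 9 = k ∧ zOf ((9 * k + idx Z) % 9) = Z := by
    intro k Z
    have := idx_lt Z
    constructor
    · omega
    · have e : (9 * k + idx Z) % 9 = idx Z := by omega
      rw [e, zOf_idx]
  have hidx0 : ∀ Z : F9, Z ≠ 0 → idx Z ≠ 0 := by
    intro Z hZ e
    apply hZ
    have : idx Z = idx (0 : F9) := by rw [e]; rfl
    exact idx_inj this
  rcases hM with (((⟨Z, rfl⟩ | ⟨Z, rfl⟩) | ⟨Z, rfl⟩) | ⟨Z, hZ, rfl⟩) | ⟨Z, hZ, rfl⟩
  · refine ⟨9 * 0 + idx Z, ⟨by have := idx_lt Z; omega, by have := idx_lt Z; omega,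
      by have := idx_lt Z; omega⟩, ?_⟩
    obtain ⟨k1, k2⟩ := key 0 Z
    unfold gM codeFn
    rw [k1, k2]
    exact (bridgeA h Z).symm
  · refine ⟨9 * 1 + idx Z, ⟨by have := idx_lt Z; omega, by have := idx_lt Z; omega,
      by have := idx_lt Z; omega⟩, ?_⟩
    obtain ⟨k1, k2⟩ := key 1 Z
    unfold gM codeFn
    rw [k1, k2]
    exact (bridgeE h Z).symm
  · refine ⟨9 * 2 + idx Z, ⟨by have := idx_lt Z; omega, by have := idx_lt Z; omega,
      by have := idx_lt Z; omega⟩, ?_⟩
    obtain ⟨k1, k2⟩ := key 2 Z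
    unfold gM codeFn
    rw [k1, k2]
    exact (bridgeD h Z).symm
  · refine ⟨9 * 3 + idx Z, ⟨by have := idx_lt Z; omega, by have := hidx0 Z hZ; omega,
      by have := idx_lt Z; omega⟩, ?_⟩
    obtain ⟨k1, k2⟩ := key 3 Z
    unfold gM codeFn
    rw [k1, k2]
    exact (bridgeB Z).symm
  · refine ⟨9 * 4 + idx Z, ⟨by have := idx_lt Z; omega, by have := idx_lt Z; omega,
      by have := hidx0 Z hZ; omega⟩, ?_⟩
    obtain ⟨k1, k2⟩ := key 4 Z
    unfold gM codeFn
    rw [k1, k2]
    exact (bridgeC Z).symm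

theorem gens_mem (h : IsF4 F ω) (j : ℕ) (hj : validJ j) : toMat ω (gM j) ∈ j3Gens F ω := by
  obtain ⟨h45, h27, h36⟩ := hj
  unfold j3Gens
  simp only [Set.mem_union, Set.mem_range, Set.mem_ofPred_eq]
  have hz0 : ∀ i, i < 9 → i ≠ 0 → zOf i ≠ 0 := by
    intro i hi hi0 e
    have : ∀ i < 9, i ≠ 0 → zOf i ≠ 0 := by decide
    exact this i hi hi0 e
  unfold gM codeFn
  have hlt : j / 9 < 5 := by omega
  interval_cases hk : j / 9
  · exact Or.inl (Or.inl (Or.inl (Or.inl ⟨zOf (j % 9), (bridgeA h _).symm⟩)))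
  · exact Or.inl (Or.inl (Or.inl (Or.inr ⟨zOf (j % 9), (bridgeE h _).symm⟩)))
  · exact Or.inl (Or.inl (Or.inr ⟨zOf (j % 9), (bridgeD h _).symm⟩))
  · exact Or.inl (Or.inr ⟨zOf (j % 9), hz0 _ (by omega) (by omega), bridgeB _⟩)
  · exact Or.inr ⟨zOf (j % 9), hz0 _ (by omega) (by omega), bridgeC _⟩

end gens

/-! ### Validity, keys and normalization -/

namespace V9

/-- Both masks have 9 bits. -/
def Valid (v : V9) : Prop := v.lo < 512 ∧ v.hi < 512

instance (v : V9) : Decidable v.Valid := by unfold Valid; infer_instance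

theorem xor_lt {a b : ℕ} (ha : a < 512) (hb : b < 512) : a ^^^ b < 512 :=
  Nat.xor_lt_two_pow (n := 9) ha hb

theorem valid_zero : zero.Valid := by unfold Valid zero; simp

theorem valid_add {u v : V9} (hu : u.Valid) (hv : v.Valid) : (u.add v).Valid :=
  ⟨xor_lt hu.1 hv.1, xor_lt hu.2 hv.2⟩

theorem valid_mulw {v : V9} (hv : v.Valid) : v.mulw.Valid := ⟨hv.2, xor_lt hv.1 hv.2⟩

theorem valid_sel (b : Bool) {u : V9} (hu : u.Valid) : (sel b u).Valid := by
  cases b
  · exact valid_zero
  · exact hu

theorem valid_term {c : V9} (hc : c.Valid) (v : V9) (i : ℕ) : (term c v i).Valid :=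
  valid_add (valid_sel _ hc) (valid_sel _ (valid_mulw hc))

/-- The code (0, 1, 2, 3) of the coordinate `i`. -/
def code (v : V9) (i : ℕ) : ℕ := (v.lo.testBit i).toNat + 2 * (v.hi.testBit i).toNat

/-- The first nonzero code along a list of indices. -/
def leadL (v : V9) : List ℕ → ℕ
  | [] => 0
  | i :: l => if v.code i ≠ 0 then v.code i else leadL v l

/-- The first nonzero code. -/
def lead (v : V9) : ℕ := v.leadL [0, 1, 2, 3, 4, 5, 6, 7, 8]

/-- Scalar multiplication by the element with code `c`. -/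
def smul (c : ℕ) (v : V9) : V9 :=
  if c = 1 then v else if c = 2 then v.mulw else if c = 3 then v.mulw.mulw else zero

/-- The packed key. -/
def key (v : V9) : ℕ := v.lo + 512 * v.hi

end V9

/-- Code of the inverse. -/
def invC (c : ℕ) : ℕ := if c = 2 then 3 else if c = 3 then 2 else c

/-- Scale so that the first nonzero coordinate is 1. -/
def V9.normalize (v : V9) : V9 := V9.smul (invC v.lead) v

/-- Unpack a key. -/
def unkey (k : ℕ) : V9 := ⟨k % 512, k / 512⟩

theorem unkey_key {v : V9} (hv : v.Valid) : unkey v.key = v := by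
  obtain ⟨lo, hi⟩ := v
  obtain ⟨h1, h2⟩ := hv
  simp only at h1 h2
  unfold unkey V9.key
  simp only
  congr 1 <;> omega

theorem valid_unkey {k : ℕ} (hk : k < 262144) : (unkey k).Valid := by
  unfold unkey V9.Valid
  simp only
  omega

theorem key_unkey (k : ℕ) : (unkey k).key = k := by
  unfold unkey V9.key
  simp only
  omega

namespace M9

/-- All columns are valid. -/
def Valid (M : M9) : Prop :=
  M.c0.Valid ∧ M.c1.Valid ∧ M.c2.Valid ∧ M.c3.Valid ∧ M.c4.Valid ∧ M.c5.Valid ∧ M.c6.Valid ∧
    M.c7.Valid ∧ M.c8.Valid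

instance (M : M9) : Decidable M.Valid := by unfold Valid; infer_instance

theorem valid_apply {M : M9} (hM : M.Valid) (v : V9) : (M.apply v).Valid := by
  obtain ⟨h0, h1, h2, h3, h4, h5, h6, h7, h8⟩ := hM
  unfold apply
  exact V9.valid_add (V9.valid_term h0 _ _) (V9.valid_add (V9.valid_term h1 _ _)
    (V9.valid_add (V9.valid_term h2 _ _) (V9.valid_add (V9.valid_term h3 _ _)
    (V9.valid_add (V9.valid_term h4 _ _) (V9.valid_add (V9.valid_term h5 _ _)
    (V9.valid_add (V9.valid_term h6 _ _) (V9.valid_add (V9.valid_term h7 _ _)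
    (V9.valid_term h8 _ _))))))))

end M9

theorem V9.valid_smul (c : ℕ) {v : V9} (hv : v.Valid) : (V9.smul c v).Valid := by
  unfold V9.smul
  split_ifs
  · exact hv
  · exact V9.valid_mulw hv
  · exact V9.valid_mulw (V9.valid_mulw hv)
  · exact V9.valid_zero

theorem V9.valid_normalize {v : V9} (hv : v.Valid) : v.normalize.Valid := V9.valid_smul _ hv

section norm
variable {F : Type} [Field F] {ω : F}

theorem encB_eq_encC (a b : Bool) : encB ω a b = encC ω (a.toNat + 2 * b.toNat) := by
  cases a <;> cases b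
  · show encB ω false false = encC ω 0
    rw [encC_zero]; simp [encB]
  · show encB ω false true = encC ω 2
    rw [encC_two]; simp [encB]
  · show encB ω true false = encC ω 1
    rw [encC_one]; simp [encB]
  · show encB ω true true = encC ω 3
    rw [encC_three]; simp [encB]

theorem dec_eq_code (v : V9) (z : F9) : dec ω v z = encC ω (v.code (idx z)) := by
  unfold dec V9.code
  exact encB_eq_encC _ _

theorem code_lt (v : V9) (i : ℕ) : v.code i < 4 := by
  unfold V9.code
  cases v.lo.testBit i <;> cases v.hi.testBit i <;> simp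

theorem encC_eq_zero (h : IsF4 F ω) {c : ℕ} (hc : c < 4) : encC ω c = 0 ↔ c = 0 := by
  interval_cases c
  · simp [encC_zero]
  · simp [encC_one]
  · simp [encC_two, h.ne0]
  · rw [encC_three]
    simp only [OfNat.ofNat_ne_zero, iff_false]
    intro e
    have := (encB_eq_zero h true true).mp (by simpa [encB] using e)
    simp at this

open scoped Classical in
/-- The first nonzero value along a list of coordinates. -/
noncomputable def leadF (f : F9 → F) : List F9 → F
  | [] => 0
  | z :: l => if f z ≠ 0 then f z else leadF f l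

theorem leadF_smul (c : F) (hc : c ≠ 0) (f : F9 → F) (l : List F9) :
    leadF (c • f) l = c * leadF f l := by
  induction l with
  | nil => simp [leadF]
  | cons z l ih =>
    unfold leadF
    by_cases hz : f z = 0
    · have : (c • f) z = 0 := by simp [hz]
      rw [if_neg (not_not.mpr hz), if_neg (not_not.mpr this), ih]
    · have : (c • f) z ≠ 0 := by simp [hz, hc]
      rw [if_pos hz, if_pos this]
      rfl

theorem leadL_bridge (h : IsF4 F ω) (v : V9) (l : List F9) :
    encC ω (v.leadL (l.map idx)) = leadF (dec ω v) l := by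
  induction l with
  | nil => simp [V9.leadL, leadF, encC_zero]
  | cons z l ih =>
    rw [List.map_cons]
    unfold V9.leadL leadF
    by_cases hz : v.code (idx z) = 0
    · have : dec ω v z = 0 := by rw [dec_eq_code, hz, encC_zero]
      rw [if_neg (not_not.mpr hz), if_neg (not_not.mpr this), ih]
    · have : dec ω v z ≠ 0 := by
        rw [dec_eq_code]
        intro e
        exact hz ((encC_eq_zero h (code_lt v _)).mp e)
      rw [if_pos hz, if_pos this, dec_eq_code]

theorem lead_bridge (h : IsF4 F ω) (v : V9) : encC ω v.lead = leadF (dec ω v) allZ :=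
  leadL_bridge h v allZ

/-- Two normalized vectors on the same line are equal. -/
theorem scalar_eq_one (h : IsF4 F ω) {u v : V9} (hu : u.lead = 1) (hv : v.lead = 1) (c : F)
    (hc : c ≠ 0) (e : dec ω u = c • dec ω v) : c = 1 := by
  have h1 := lead_bridge (ω := ω) h u
  have h2 := lead_bridge (ω := ω) h v
  rw [hu, encC_one] at h1
  rw [hv, encC_one] at h2
  rw [e, leadF_smul c hc, ← h2, mul_one] at h1
  exact h1.symm

theorem dec_injective (h : IsF4 F ω) {u v : V9} (hu : u.Valid) (hv : v.Valid)
    (e : dec ω u = dec ω v) : u = v := by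
  have hbits : ∀ i, u.lo.testBit i = v.lo.testBit i ∧ u.hi.testBit i = v.hi.testBit i := by
    intro i
    by_cases hi : i < 9
    · have e1 := congrFun e (zOf i)
      have hz : idx (zOf i) = i := by
        have : ∀ i < 9, idx (zOf i) = i := by decide
        exact this i hi
      simp only [dec, hz] at e1
      exact encB_inj h _ _ _ _ e1
    · have hp : (512 : ℕ) ≤ 2 ^ i := by
        have : (2 : ℕ) ^ 9 ≤ 2 ^ i := Nat.pow_le_pow_right (by norm_num) (by omega)
        simpa using this
      have f1 := Nat.testBit_lt_two_pow (lt_of_lt_of_le hu.1 hp)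
      have f2 := Nat.testBit_lt_two_pow (lt_of_lt_of_le hu.2 hp)
      have f3 := Nat.testBit_lt_two_pow (lt_of_lt_of_le hv.1 hp)
      have f4 := Nat.testBit_lt_two_pow (lt_of_lt_of_le hv.2 hp)
      rw [f1, f2, f3, f4]
      exact ⟨rfl, rfl⟩
  obtain ⟨ulo, uhi⟩ := u
  obtain ⟨vlo, vhi⟩ := v
  have e1 : ulo = vlo := Nat.eq_of_testBit_eq fun i => (hbits i).1
  have e2 : uhi = vhi := Nat.eq_of_testBit_eq fun i => (hbits i).2
  rw [e1, e2]

theorem dec_smul (h : IsF4 F ω) (c : ℕ) (hc : c = 1 ∨ c = 2 ∨ c = 3) (v : V9) :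
    dec ω (V9.smul c v) = encC ω c • dec ω v := by
  rcases hc with rfl | rfl | rfl
  · simp [V9.smul, encC_one]
  · simp [V9.smul, encC_two, dec_mulw h]
  · have : V9.smul 3 v = v.mulw.mulw := by simp [V9.smul]
    rw [this, dec_mulw h, dec_mulw h, encC_three, smul_smul, h.sq]

theorem lead_lt (v : V9) : v.lead < 4 := by
  unfold V9.lead
  generalize [0, 1, 2, 3, 4, 5, 6, 7, 8] = l
  induction l with
  | nil => simp [V9.leadL]
  | cons i l ih =>
    unfold V9.leadL
    split_ifs
    · exact code_lt v i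
    · exact ih

/-- If the first nonzero code is nonzero, the vector is a nonzero multiple of its
normalization. -/
theorem dec_normalize (h : IsF4 F ω) (v : V9) (hv : v.lead ≠ 0) :
    ∃ c : F, c ≠ 0 ∧ dec ω v = c • dec ω v.normalize := by
  have hlt := lead_lt v
  have hc : invC v.lead = 1 ∨ invC v.lead = 2 ∨ invC v.lead = 3 := by
    unfold invC
    interval_cases v.lead <;> simp_all
  have hne : encC ω (invC v.lead) ≠ 0 := by
    intro e
    rw [encC_eq_zero h (by rcases hc with h' | h' | h' <;> omega)] at e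
    rcases hc with h' | h' | h' <;> omega
  refine ⟨(encC ω (invC v.lead))⁻¹, inv_ne_zero hne, ?_⟩
  unfold V9.normalize
  rw [dec_smul h _ hc, smul_smul, inv_mul_cancel₀ hne, one_smul]

end norm

end Cfsg.Agent.Lib.Helper77.J3
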