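import Mathlib
import Cfsg.Prelude.Def_Classical
import Cfsg.Agent.Lib.Helper77.J3Vec

set_option autoImplicit false
set_option linter.style.haveILetI false
set_option maxRecDepth 100000

/-! The generators of the triple cover of J3 are unitary for the standard Hermitian form, so the
group embeds in the special unitary group of dimension 9 over the field with four elements. -/

namespace Cfsg.Agent.Lib.Helper77.J3

open Cfsg.Spor
open scoped MatrixGroups Matrix

/-- Conjugate transpose on concrete matrices. -/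
def ctM (M : M9) : M9 := ofCode fun w z => invC ((M.col (idx w)).code (idx z))

theorem gens_unitary : ∀ j < 45, validJ j → (ctM (gM j)).mul (gM j) = M9.one := by decide +kernel

section
variable {F : Type} [Field F] {ω : F}

theorem encC_invC (h : IsF4 F ω) {c : ℕ} (hc : c < 4) : encC ω (invC c) = encC ω c ^ 2 := by
  have h1 := h.add_self 1
  have h2 := h.add_self ω
  have hs := h.sq
  interval_cases c
  · simp [invC, encC_zero]
  · simp [invC, encC_one]
  · have : invC 2 = 3 := by decide
    rw [this, encC_three, encC_two, pow_two, h.sq]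
  · have : invC 3 = 2 := by decide
    rw [this, encC_three, encC_two]
    linear_combination (-1 : F) * hs - h1 - h2

theorem toMat_ctM (h : IsF4 F ω) (M : M9) (w z : F9) :
    toMat ω (ctM M) w z = (toMat ω M z w) ^ 2 := by
  unfold ctM
  rw [toMat_ofCode, encC_invC h (code_lt _ _)]
  simp only [toMat, Matrix.of_apply, dec_eq_code]

/-- The standard Hermitian form on vectors indexed by the field with nine elements. -/
def herm9 (u v : F9 → F) : F := ∑ z, u z * v z ^ 2

theorem charP_two (h : IsF4 F ω) : CharP F 2 := by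
  apply CharTwo.of_one_ne_zero_of_two_eq_zero one_ne_zero
  have := h.add_self 1
  rw [← this]
  norm_num

theorem herm9_of_ct (h : IsF4 F ω) (A B : Matrix F9 F9 F) (hB : ∀ w z, B w z = A z w ^ 2)
    (hBA : B * A = 1) (u v : F9 → F) : herm9 (A *ᵥ u) (A *ᵥ v) = herm9 u v := by
  haveI : CharP F 2 := charP_two h
  have hA2 : Aᵀ * A.map (frobenius F 2) = 1 := by
    have e : B = (A.map (frobenius F 2))ᵀ := by
      ext w z
      simp [hB, frobenius_def]
    rw [e] at hBA
    have := congrArg Matrix.transpose hBA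
    rwa [Matrix.transpose_mul, Matrix.transpose_transpose, Matrix.transpose_one] at this
  have hv : (fun z => (A *ᵥ v) z ^ 2) = A.map (frobenius F 2) *ᵥ (frobenius F 2 ∘ v) := by
    funext z
    rw [← RingHom.map_mulVec, frobenius_def]
  unfold herm9
  show (A *ᵥ u) ⬝ᵥ (fun z => (A *ᵥ v) z ^ 2) = u ⬝ᵥ (fun z => v z ^ 2)
  rw [hv, ← Matrix.vecMul_transpose, ← Matrix.dotProduct_mulVec, Matrix.mulVec_mulVec, hA2,
    Matrix.one_mulVec]
  rfl

theorem threeJ3_le_preserving (h : IsF4 F ω) :
    threeJ3 F ω ≤ Cfsg.preserving (Units.coeHom (Matrix F9 F9 F)) herm9 := by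
  unfold threeJ3
  rw [Subgroup.closure_le]
  intro g hg
  obtain ⟨j, hj, e⟩ := gens_cover h _ hg
  intro u v
  show herm9 ((g : Matrix F9 F9 F) *ᵥ u) ((g : Matrix F9 F9 F) *ᵥ v) = herm9 u v
  rw [e]
  apply herm9_of_ct h (toMat ω (gM j)) (toMat ω (ctM (gM j))) (toMat_ctM h _)
  rw [← toMat_mul h, gens_unitary j hj.1 hj, toMat_one]

theorem herm9_mem (h : IsF4 F ω) (g : threeJ3 F ω) (u v : F9 → F) :
    herm9 (((g : GL F9 F) : Matrix F9 F9 F) *ᵥ u) (((g : GL F9 F) : Matrix F9 F9 F) *ᵥ v) =
      herm9 u v :=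
  threeJ3_le_preserving h g.2 u v

/-- An identification of the index set with `Fin 9`. -/
noncomputable def e9 : F9 ≃ Fin 9 := Fintype.equivFinOfCardEq (by decide)

theorem herm_reindex (A : Matrix F9 F9 F)
    (hA : ∀ u v, herm9 (A *ᵥ u) (A *ᵥ v) = herm9 u v) (u v : Fin 9 → F) :
    Cfsg.hermForm 9 F 2 (Matrix.reindex e9 e9 A *ᵥ u) (Matrix.reindex e9 e9 A *ᵥ v) =
      Cfsg.hermForm 9 F 2 u v := by
  unfold Cfsg.hermForm
  simp only [Matrix.reindex_apply, Matrix.submatrix_mulVec_equiv, Equiv.symm_symm,
    Function.comp]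
  rw [Equiv.sum_comp e9.symm (fun z => (A *ᵥ (u ∘ e9)) z * (A *ᵥ (v ∘ e9)) z ^ 2)]
  have := hA (u ∘ e9) (v ∘ e9)
  unfold herm9 at this
  rw [this]
  exact Equiv.sum_comp e9 (fun i => u i * v i ^ 2)

theorem det_eq_one (hperf : commutator (threeJ3 F ω) = ⊤) (g : threeJ3 F ω) :
    Matrix.det ((g : GL F9 F) : Matrix F9 F9 F) = 1 := by
  let f : threeJ3 F ω →* Fˣ := (Matrix.GeneralLinearGroup.det).comp (threeJ3 F ω).subtype
  have hk : g ∈ f.ker := by
    have := Abelianization.commutator_subset_ker f
    rw [hperf] at this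
    exact this (Subgroup.mem_top g)
  rw [MonoidHom.mem_ker] at hk
  have := congrArg Units.val hk
  simpa [f] using this

/-- The embedding into the special linear group on `Fin 9`. -/
noncomputable def toSL (hperf : commutator (threeJ3 F ω) = ⊤) :
    threeJ3 F ω →* Matrix.SpecialLinearGroup (Fin 9) F where
  toFun g := ⟨Matrix.reindex e9 e9 ((g : GL F9 F) : Matrix F9 F9 F), by
    rw [Matrix.det_reindex_self]; exact det_eq_one hperf g⟩
  map_one' := by
    apply Subtype.ext
    simp
  map_mul' := fun a b => by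
    apply Subtype.ext
    show Matrix.reindex e9 e9 (((a : GL F9 F) : Matrix F9 F9 F) * ((b : GL F9 F) : Matrix F9 F9 F))
      = Matrix.reindex e9 e9 ((a : GL F9 F) : Matrix F9 F9 F) *
        Matrix.reindex e9 e9 ((b : GL F9 F) : Matrix F9 F9 F)
    simp only [Matrix.reindex_apply]
    rw [Matrix.submatrix_mul_equiv]

theorem toSL_injective (hperf : commutator (threeJ3 F ω) = ⊤) :
    Function.Injective (toSL (ω := ω) hperf) := by
  intro a b hab
  have this : Matrix.reindex e9 e9 ((a : GL F9 F) : Matrix F9 F9 F) =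
      Matrix.reindex e9 e9 ((b : GL F9 F) : Matrix F9 F9 F) := congrArg Subtype.val hab
  have e := (Matrix.reindex e9 e9).injective this
  exact Subtype.ext (Units.ext e)

theorem toSL_mem (h : IsF4 F ω) (hperf : commutator (threeJ3 F ω) = ⊤) (g : threeJ3 F ω) :
    toSL hperf g ∈ Cfsg.SU 9 F 2 := by
  intro u v
  exact herm_reindex _ (herm9_mem h g) u v

theorem exists_SU (h : IsF4 F ω) (hperf : commutator (threeJ3 F ω) = ⊤) :
    ∃ H : Subgroup (Cfsg.SU 9 F 2), Nonempty (threeJ3 F ω ≃* H) := by
  let φ : threeJ3 F ω →* Cfsg.SU 9 F 2 := (toSL hperf).codRestrict _ (toSL_mem h hperf)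
  have hinj : Function.Injective φ := by
    intro a b hab
    apply toSL_injective hperf
    exact congrArg Subtype.val hab
  exact ⟨φ.range, ⟨MonoidHom.ofInjective hinj⟩⟩

end

/-- Transport of the centre, simplicity and order of the central quotient along an
isomorphism. -/
theorem center_transport {G K : Type*} [Group G] [Group K] (e : G ≃* K) :
    Nat.card (Subgroup.center K) = Nat.card (Subgroup.center G) ∧
    Nat.card (K ⧸ Subgroup.center K) = Nat.card (G ⧸ Subgroup.center G) ∧
    (IsSimpleGroup (G ⧸ Subgroup.center G) → IsSimpleGroup (K ⧸ Subgroup.center K)) := by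
  have hmap : (Subgroup.center G).map (e : G →* K) = Subgroup.center K := by
    ext x
    simp only [Subgroup.mem_map, Subgroup.mem_center_iff]
    constructor
    · rintro ⟨y, hy, rfl⟩ k
      obtain ⟨k', rfl⟩ := e.surjective k
      show e k' * e y = e y * e k'
      rw [← map_mul, ← map_mul, hy]
    · intro hx
      refine ⟨e.symm x, fun g => ?_, e.apply_symm_apply x⟩
      apply e.injective
      rw [map_mul, map_mul, e.apply_symm_apply]
      exact hx (e g)
  let q : G ⧸ Subgroup.center G ≃* K ⧸ Subgroup.center K := QuotientGroup.congr _ _ e hmap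
  refine ⟨Nat.card_congr (Subgroup.centerCongr e).symm.toEquiv, Nat.card_congr q.symm.toEquiv, ?_⟩
  intro hs
  exact q.symm.isSimpleGroup

end Cfsg.Agent.Lib.Helper77.J3
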