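import Cfsg.Agent.Lib.Helper69.OPbDefs
import Cfsg.Agent.Lib.Helper63.OhA
import Cfsg.Agent.Lib.Helper98.Os3
import Cfsg.Agent.Lib.Helper50.GeoBridge
import Cfsg.Agent.Lib.Helper63.OPb0
import Cfsg.Agent.Lib.Helper13.OPb15
import Cfsg.Agent.Lib.Helper87.OMb11
import Cfsg.Agent.Lib.Helper78.OMb14

/-!
# K-OMb-15 (keystone 599115, pack of helper32 for S5991): the core of the glue

`d` even: a unipotent element of Jordan type `(1, 3, 2^(d-2))` of `Ω(Q)` whose fixed vectors have norms in the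
wrong square class fixes no nondegenerate `m`-space (`m` odd) isometric to `W₀`.  Generic in the index
type and the form; the leaves 12, 13 and the unipotent element with class control are hypotheses here.
-/

set_option autoImplicit false
set_option linter.style.haveILetI false
set_option linter.unusedVariables false
set_option linter.unusedSectionVars false

namespace Cfsg.Agent.Lib.Helper77.OMb

open Module Cfsg.Agent.Lib.Helper98.Elus Cfsg.Agent.Lib.Helper98.Sy Cfsg.Agent.Lib.Helper98.Oh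
  Cfsg.Agent.Lib.Helper69.OPb
open scoped MatrixGroups

universe u
variable {F : Type u} [Field F] {V : Type u} [AddCommGroup V] [Module F V]

section abstract

variable [FiniteDimensional F V] (B : LinearMap.BilinForm F V) (hS : ∀ a b, B a b = B b a)
include hS

/-- an isometry of a nondegenerate form is injective -/
theorem iso_injective (hV : NonDeg B ⊤) (u : V →ₗ[F] V) (hiso : Iso B u) :
    Function.Injective u := by
  rw [← LinearMap.ker_eq_bot, LinearMap.ker_eq_bot']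
  intro v hv
  apply hV v Submodule.mem_top
  intro w _
  rw [← hiso v w, hv, map_zero, LinearMap.zero_apply]

/-- the orthogonal complement of an invariant subspace is invariant under an isometry -/
theorem inv_orthogonal (hV : NonDeg B ⊤) (u : V →ₗ[F] V) (hiso : Iso B u) (W : Submodule F V)
    (hW : Inv u W) : Inv u (B.orthogonal W) := by
  have hinj := iso_injective B hS hV u hiso
  have hle : W.map u ≤ W := by
    rintro _ ⟨w, hw, rfl⟩
    exact hW w hw
  have hfr : finrank F ↥(W.map u) = finrank F W :=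
    (Submodule.equivMapOfInjective u hinj W).finrank_eq.symm
  have heq : W.map u = W := Submodule.eq_of_le_of_finrank_eq hle hfr
  intro y hy
  rw [LinearMap.BilinForm.mem_orthogonal_iff] at hy ⊢
  intro n hn
  rw [← heq] at hn
  obtain ⟨n', hn', rfl⟩ := hn
  show B (u n') (u y) = 0
  rw [hiso]
  exact hy n' hn'

theorem nonDeg_orthogonal (hV : NonDeg B ⊤) (W : Submodule F V) (hW : NonDeg B W) :
    NonDeg B (B.orthogonal W) ∧ finrank F W + finrank F ↥(B.orthogonal W) = finrank F V := by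
  have hR := Cfsg.Agent.Lib.Helper98.Os.isRefl_of_symm hS
  obtain ⟨-, -, h3, h4⟩ := Cfsg.Agent.Lib.Helper98.Os.compl_props hR W ⊤ hW le_top hV
  rw [inf_top_eq] at h3 h4
  rw [finrank_top] at h4
  exact ⟨h3, h4⟩

end abstract

/-- sums over the Jordan type `(1, 3, 2^n)` -/
theorem sum_min_type (n j : ℕ) :
    (((1 : ℕ) ::ₘ 3 ::ₘ Multiset.replicate n 2).map (fun e => min e j)).sum =
      min 1 j + min 3 j + n * min 2 j := by
  simp only [Multiset.map_cons, Multiset.sum_cons, Multiset.map_replicate, Multiset.sum_replicate,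
    smul_eq_mul]
  ring

/-- sums over the Jordan type `(1, 2^n)` -/
theorem sum_min_type' (n j : ℕ) :
    (((1 : ℕ) ::ₘ Multiset.replicate n 2).map (fun e => min e j)).sum = min 1 j + n * min 2 j := by
  simp only [Multiset.map_cons, Multiset.sum_cons, Multiset.map_replicate, Multiset.sum_replicate,
    smul_eq_mul]

section core

variable [Fintype F] {ι : Type} [Fintype ι] [DecidableEq ι]

/-- **Core of K-OMb-15.** -/
theorem case_p_even_core (h2 : (2 : F) ≠ 0) (Q : QuadraticForm F (ι → F))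
    (hQ : (QuadraticMap.polarBilin Q).Nondegenerate) (p d m : ℕ)
    (hcard : finrank F (ι → F) = 2 * d) (hde : Even d) (hm : Odd m) (hmd : m < d)
    (W₀ : Submodule F (ι → F)) (hW₀d : finrank F ↥W₀ = m)
    (hW₀ : Cfsg.Geo.IsNondegenerateOn (QuadraticMap.polar ⇑Q) W₀)
    (H12 : ∀ (u : (ι → F) →ₗ[F] (ι → F)) (hiso : Iso (QuadraticMap.polarBilin Q) u)
      (W : Submodule F (ι → F)) (hW : Inv u W) (hWnd : NonDeg (QuadraticMap.polarBilin Q) W) (j : ℕ)
      (hd : finrank F W = 4 * j + 1)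
      (hk1 : finrank F ↥(W ⊓ LinearMap.ker (u - 1)) = 2 * j + 1)
      (hk2 : finrank F ↥(W ⊓ LinearMap.ker ((u - 1) ^ 2)) = 4 * j + 1)
      (w : ι → F) (hwW : w ∈ W) (hw : u w = w) (hww : QuadraticMap.polarBilin Q w w ≠ 0)
      (n : ℕ) (b : Basis (Fin n) F W),
      IsSquare ((Matrix.of fun i j => QuadraticMap.polarBilin Q (b i : ι → F) (b j : ι → F)).det *
        QuadraticMap.polarBilin Q w w))
    (H13 : ∀ W W' : Submodule F (ι → F), IsoCls (QuadraticMap.polarBilin Q) W W' →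
      IsoCls (QuadraticMap.polarBilin Q)
        (LinearMap.BilinForm.orthogonal (QuadraticMap.polarBilin Q) W)
        (LinearMap.BilinForm.orthogonal (QuadraticMap.polarBilin Q) W'))
    (HU : ∀ τ : F, τ ≠ 0 → ∃ x : GL ι F, x ∈ Cfsg.Geo.omegaGL ⇑Q ∧
      ((x ^ p : GL ι F) : Matrix ι ι F) = (1 : F) • (1 : Matrix ι ι F) ∧
      (∀ z : F, (x : Matrix ι ι F) ≠ z • (1 : Matrix ι ι F)) ∧
      (∀ j : ℕ, finrank F (LinearMap.ker ((Matrix.toLin' (x : Matrix ι ι F) - 1) ^ j)) =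
        (((1 : ℕ) ::ₘ 3 ::ₘ Multiset.replicate (d - 2) 2).map (fun e => min e j)).sum) ∧
      (∀ W : Submodule F (ι → F), Cfsg.Geo.IsNondegenerateOn (QuadraticMap.polar ⇑Q) W →
        W.map (Matrix.toLin' (x : Matrix ι ι F)) ≤ W →
        ∃ ν : Multiset ℕ, ν ≤ (1 : ℕ) ::ₘ 3 ::ₘ Multiset.replicate (d - 2) 2 ∧ ν.sum = finrank F W ∧
          (∀ e : ℕ, Even e → Even (ν.count e)) ∧
          ∀ j : ℕ, finrank F ↥(W ⊓ LinearMap.ker ((Matrix.toLin' (x : Matrix ι ι F) - 1) ^ j)) =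
            (ν.map (fun e => min e j)).sum) ∧
      ∃ v : ι → F, Matrix.toLin' (x : Matrix ι ι F) v = v ∧ QuadraticMap.polar ⇑Q v v = τ) :
    ∃ x : GL ι F, x ∈ Cfsg.Geo.omegaGL ⇑Q ∧
      ((x ^ p : GL ι F) : Matrix ι ι F) = (1 : F) • (1 : Matrix ι ι F) ∧
      (∀ z : F, (x : Matrix ι ι F) ≠ z • (1 : Matrix ι ι F)) ∧
      ∀ W : Submodule F (ι → F), Module.finrank F ↥W = m →
        Cfsg.Geo.IsNondegenerateOn (QuadraticMap.polar ⇑Q) W →
        Cfsg.Geo.AreIsometricFor ⇑Q W W₀ →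
        ¬ W.map (Matrix.toLin' (x : Matrix ι ι F)) ≤ W := by
  classical
  set B : LinearMap.BilinForm F (ι → F) := QuadraticMap.polarBilin Q with hB
  have hS : ∀ a b, B a b = B b a := Cfsg.Agent.Lib.Helper13.OPb.polarBilin_symm Q
  have hV : NonDeg B ⊤ := Cfsg.Agent.Lib.Helper13.OPb.nonDeg_top_of_nondegenerate Q hQ
  have hd2 : 2 ≤ d := by
    have := hm.pos
    omega
  -- the subspace whose dimension is `1` modulo `4`
  let pick : Submodule F (ι → F) → Submodule F (ι → F) :=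
    fun W => if m % 4 = 1 then W else LinearMap.BilinForm.orthogonal B W
  have hp1 : m % 4 = 1 → ∀ W : Submodule F (ι → F), pick W = W := fun h W => if_pos h
  have hp3 : ¬ m % 4 = 1 → ∀ W : Submodule F (ι → F), pick W = LinearMap.BilinForm.orthogonal B W :=
    fun h W => if_neg h
  have hpick_nd : ∀ W : Submodule F (ι → F), NonDeg B W → NonDeg B (pick W) := by
    intro W hW
    by_cases h : m % 4 = 1
    · rw [hp1 h]; exact hW
    · rw [hp3 h]; exact (nonDeg_orthogonal B hS hV W hW).1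
  have hpick_dim : ∀ W : Submodule F (ι → F), NonDeg B W → finrank F W = m →
      finrank F ↥(pick W) % 4 = 1 := by
    intro W hW hWm
    by_cases h : m % 4 = 1
    · rw [hp1 h]; omega
    · rw [hp3 h]
      have := (nonDeg_orthogonal B hS hV W hW).2
      obtain ⟨k, rfl⟩ := hde
      obtain ⟨t, rfl⟩ := hm
      omega
  have hpick_iso : ∀ W W' : Submodule F (ι → F), IsoCls B W W' → IsoCls B (pick W) (pick W') := by
    intro W W' hWW'
    by_cases h : m % 4 = 1
    · rw [hp1 h, hp1 h]; exact hWW'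
    · rw [hp3 h, hp3 h]; exact H13 W W' hWW'
  have hpick_inv : ∀ (u : (ι → F) →ₗ[F] (ι → F)), Iso B u → ∀ W : Submodule F (ι → F), Inv u W →
      Inv u (pick W) := by
    intro u hu W hW
    by_cases h : m % 4 = 1
    · rw [hp1 h]; exact hW
    · rw [hp3 h]; exact inv_orthogonal B hS hV u hu W hW
  have hW₀' : NonDeg B W₀ := (Cfsg.Agent.Lib.Helper13.OPb.nonDeg_polarBilin_iff Q W₀).2 hW₀
  -- the reference Gram determinant
  have hW1nd : NonDeg B (pick W₀) := hpick_nd W₀ hW₀'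
  let b₀ : Basis (Fin (finrank F ↥(pick W₀))) F ↥(pick W₀) := Module.finBasis F _
  set g₀ : F := (Matrix.of fun i j => B (b₀ i : ι → F) (b₀ j : ι → F)).det with hg₀
  have hg₀0 : g₀ ≠ 0 := Cfsg.Agent.Lib.Helper63.Oh.gram_det_ne_zero B hS (pick W₀) hW1nd b₀
  -- a non-square
  obtain ⟨ζ, hζ⟩ := FiniteField.exists_nonsquare (F := F) (by
    intro hch
    apply h2
    have : CharP F 2 := by rw [← hch]; exact ringChar.charP F
    exact CharTwo.two_eq_zero)
  have hζ0 : ζ ≠ 0 := by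
    rintro rfl
    exact hζ ⟨0, by ring⟩
  obtain ⟨x, hxΩ, hxp, hxns, hchain, hclause, v₀, hv₀fix, hv₀τ⟩ := HU (ζ * g₀) (mul_ne_zero hζ0 hg₀0)
  refine ⟨x, hxΩ, hxp, hxns, ?_⟩
  intro W hWm hWnd hWiso hWfix
  set u := Matrix.toLin' (x : Matrix ι ι F) with hu
  have hxiso : x ∈ Cfsg.isometryGroup F ⇑Q :=
    ((Cfsg.Agent.Lib.Helper50.mem_omegaGL_iff ⇑Q x).1 hxΩ).1
  have hiso : Iso B u := Cfsg.Agent.Lib.Helper13.OPb.iso_toLin'_of_mem Q x hxiso
  set N : (ι → F) →ₗ[F] (ι → F) := u - 1 with hN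
  have hNfix : ∀ y, N y = 0 ↔ u y = y := by
    intro y
    rw [hN, LinearMap.sub_apply, Module.End.one_apply, sub_eq_zero]
  have hNorth : ∀ a y, N y = 0 → B (N a) y = 0 := by
    intro a y hy
    have hy' := (hNfix y).1 hy
    rw [hN, LinearMap.sub_apply, Module.End.one_apply, map_sub, LinearMap.sub_apply]
    nth_rewrite 1 [← hy']
    rw [hiso, sub_self]
  -- all fixed vectors have norm in the class of `τ`
  have hktop : 2 * finrank F ↥((⊤ : Submodule F (ι → F)) ⊓ LinearMap.ker N) =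
      finrank F ↥((⊤ : Submodule F (ι → F)) ⊓ LinearMap.ker (N ^ 2)) + 1 := by
    rw [top_inf_eq, top_inf_eq]
    have h1 := hchain 1
    have h2' := hchain 2
    rw [pow_one, sum_min_type] at h1
    rw [sum_min_type] at h2'
    rw [h1, h2']
    simp
    omega
  obtain ⟨w, -, hw0, hww, hall⟩ := Cfsg.Agent.Lib.Helper87.OMb.exists_fixed_norm h2 B hS N hNorth ⊤
    (fun _ _ => Submodule.mem_top) hV hktop
  obtain ⟨α₀, hα₀⟩ := hall v₀ Submodule.mem_top ((hNfix v₀).2 hv₀fix)
  have hτ : ζ * g₀ = α₀ ^ 2 * B w w := by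
    rw [← hα₀, hB, QuadraticMap.polarBilin_apply_apply, hv₀τ]
  -- the fixed member
  have hWnd' : NonDeg B W := (Cfsg.Agent.Lib.Helper13.OPb.nonDeg_polarBilin_iff Q W).2 hWnd
  have hWinv : Inv u W := (Cfsg.Agent.Lib.Helper13.OPb.inv_toLin'_iff _ W).2 hWfix
  have hWcls : IsoCls B W W₀ := (Cfsg.Agent.Lib.Helper13.OPb.isoCls_polarBilin_iff h2 Q W W₀).2 hWiso
  have hW1 : NonDeg B (pick W) := hpick_nd W hWnd'
  have hW1inv : Inv u (pick W) := hpick_inv u hiso W hWinv
  have hW1cls : IsoCls B (pick W) (pick W₀) := hpick_iso W W₀ hWcls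
  have hW1dim : finrank F ↥(pick W) % 4 = 1 := hpick_dim W hWnd' hWm
  obtain ⟨ν, hνle, hνsum, hνeven, hνchain⟩ := hclause (pick W)
    ((Cfsg.Agent.Lib.Helper13.OPb.nonDeg_polarBilin_iff Q (pick W)).1 hW1)
    ((Cfsg.Agent.Lib.Helper13.OPb.inv_toLin'_iff _ (pick W)).1 hW1inv)
  obtain ⟨j, rfl⟩ := Cfsg.Agent.Lib.Helper78.OMb.type_of_mod_four d ν hνle hνeven (by rw [hνsum]; exact hW1dim)
  have hdimW1 : finrank F ↥(pick W) = 4 * j + 1 := by
    rw [← hνsum]
    simp only [Multiset.sum_cons, Multiset.sum_replicate, smul_eq_mul]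
    ring
  have hk1 : finrank F ↥(pick W ⊓ LinearMap.ker (u - 1)) = 2 * j + 1 := by
    have := hνchain 1
    rw [pow_one, sum_min_type'] at this
    rw [this]
    simp
    ring
  have hk2 : finrank F ↥(pick W ⊓ LinearMap.ker ((u - 1) ^ 2)) = 4 * j + 1 := by
    have := hνchain 2
    rw [sum_min_type'] at this
    rw [this]
    simp
    ring
  have hkW1 : 2 * finrank F ↥(pick W ⊓ LinearMap.ker N) =
      finrank F ↥(pick W ⊓ LinearMap.ker (N ^ 2)) + 1 := by
    rw [hN, hk1, hk2]; ring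
  obtain ⟨w₁, hw₁W, hw₁0, hw₁w₁, -⟩ := Cfsg.Agent.Lib.Helper87.OMb.exists_fixed_norm h2 B hS N hNorth
    (pick W) (fun y hy => by
      rw [hN, LinearMap.sub_apply, Module.End.one_apply]
      exact Submodule.sub_mem _ (hW1inv y hy) hy) hW1 hkW1
  obtain ⟨α₁, hα₁⟩ := hall w₁ Submodule.mem_top hw₁0
  -- the transported basis
  obtain ⟨e, he⟩ := Cfsg.Agent.Lib.Helper63.OPb.isoCls_polar h2 hS hW1cls
  let b : Basis (Fin (finrank F ↥(pick W₀))) F ↥(pick W) := b₀.map e.symm
  have hgram : (Matrix.of fun i j => B (b i : ι → F) (b j : ι → F)) =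
      Matrix.of fun i j => B (b₀ i : ι → F) (b₀ j : ι → F) := by
    ext i j
    simp only [Matrix.of_apply, b, Basis.map_apply]
    rw [← he (e.symm (b₀ i)) (e.symm (b₀ j)), LinearEquiv.apply_symm_apply,
      LinearEquiv.apply_symm_apply]
  have hsq := H12 u hiso (pick W) hW1inv hW1 j hdimW1 hk1 hk2 w₁ hw₁W ((hNfix w₁).1 hw₁0) hw₁w₁ _ b
  rw [hgram, ← hg₀, hα₁] at hsq
  obtain ⟨s, hs⟩ := hsq
  have hα₁0 : α₁ ≠ 0 := by
    rintro rfl
    apply hw₁w₁
    rw [hα₁]; ring
  apply hζ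
  refine ⟨α₀ * s / (α₁ * g₀), ?_⟩
  field_simp
  have e1 : ζ * g₀ * g₀ * α₁ ^ 2 = α₀ ^ 2 * (g₀ * (α₁ ^ 2 * B w w)) := by
    rw [hτ]; ring
  rw [hs] at e1
  linear_combination e1

end core

end Cfsg.Agent.Lib.Helper77.OMb
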