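import Cfsg.Agent.Lib.Helper77.OMb15Core
import Cfsg.Agent.Lib.Helper50.MinusLang

/-!
# K-OMb-15 (keystone 599115): `case_p_minus_even`, with the leaves 12, 13 and `exists_unipotent_minus`
(keystones 599112, 599113, 599100) as hypotheses in their spec form for the concrete minus space.
-/

set_option autoImplicit false
set_option linter.style.haveILetI false
set_option linter.unusedVariables false
set_option linter.unusedSectionVars false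

namespace Cfsg.Agent.Lib.Helper77.OMb

open Module Cfsg.Agent.Lib.Helper98.Elus Cfsg.Agent.Lib.Helper98.Sy Cfsg.Agent.Lib.Helper98.Oh
  Cfsg.Agent.Lib.Helper69.OPb
open scoped MatrixGroups

universe u
variable {F : Type u} [Field F]

theorem two_ne_zero_of_odd [Fintype F] (hodd : Odd (Fintype.card F)) : (2 : F) ≠ 0 := by
  apply Ring.two_ne_zero
  intro h
  rw [FiniteField.even_card_iff_char_two] at h
  rw [Nat.odd_iff] at hodd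
  omega

/-- **K-OMb-15**, with the three leaves not yet on main as hypotheses. -/
theorem case_p_minus_even_of [Fintype F] {p : ℕ} [Fact p.Prime] [CharP F p] (hodd : Odd (Fintype.card F))
    (d m : ℕ) (hd : 4 ≤ d) (hde : Even d) (hm : Odd m) (hmd : m < d) (a b : F) (hab : ∀ x y : F, x ^ 2 + a * x * y + b * y ^ 2 = 0 → x = 0 ∧ y = 0)
    (W₀ : Submodule F (((Fin (d - 1) ⊕ Fin (d - 1)) ⊕ Fin 2) → F))
    (hW₀ : Module.finrank F ↥W₀ = m ∧ Cfsg.Geo.IsNondegenerateOn (QuadraticMap.polar (Cfsg.quadFormMinus (d - 1) F a b)) W₀)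
    -- LEAF 12 for the concrete space
    (H12 : ∀ (B : LinearMap.BilinForm F (((Fin (d - 1) ⊕ Fin (d - 1)) ⊕ Fin 2) → F)) (hS : ∀ a b, B a b = B b a)
      (u : (((Fin (d - 1) ⊕ Fin (d - 1)) ⊕ Fin 2) → F) →ₗ[F] (((Fin (d - 1) ⊕ Fin (d - 1)) ⊕ Fin 2) → F)) (hiso : Iso B u)
      (W : Submodule F (((Fin (d - 1) ⊕ Fin (d - 1)) ⊕ Fin 2) → F)) (hW : Inv u W) (hWnd : NonDeg B W) (j : ℕ) (hd : finrank F W = 4 * j + 1)
      (hk1 : finrank F ↥(W ⊓ LinearMap.ker (u - 1)) = 2 * j + 1)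
      (hk2 : finrank F ↥(W ⊓ LinearMap.ker ((u - 1) ^ 2)) = 4 * j + 1)
      (w : ((Fin (d - 1) ⊕ Fin (d - 1)) ⊕ Fin 2) → F) (hwW : w ∈ W) (hw : u w = w) (hww : B w w ≠ 0)
      {ι : Type} [Fintype ι] [DecidableEq ι] (b : Basis ι F W),
      IsSquare ((Matrix.of fun i j => B (b i : ((Fin (d - 1) ⊕ Fin (d - 1)) ⊕ Fin 2) → F) (b j : ((Fin (d - 1) ⊕ Fin (d - 1)) ⊕ Fin 2) → F)).det * B w w))
    -- LEAF 13 for the concrete space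
    (H13 : ∀ (B : LinearMap.BilinForm F (((Fin (d - 1) ⊕ Fin (d - 1)) ⊕ Fin 2) → F)) (hS : ∀ a b, B a b = B b a) (hV : NonDeg B ⊤)
      (W W' : Submodule F (((Fin (d - 1) ⊕ Fin (d - 1)) ⊕ Fin 2) → F)) (h : IsoCls B W W'),
      IsoCls B (B.orthogonal W) (B.orthogonal W'))
    -- `exists_unipotent_minus` for this `d`, `a`, `b`
    (HU : ∀ (μ' : Multiset ℕ) (k k' : ℕ) (hμ'1 : ∀ e ∈ μ', 0 < e ∧ e ≤ p) (hμ'2 : ∀ e : ℕ, Even e → Even (μ'.count e))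
      (hk : 2 * k + 1 ≤ p) (hk' : 2 * k' + 1 ≤ p) (hsum : μ'.sum + (2 * k + 1) + (2 * k' + 1) = 2 * d)
      (hne : ∃ e ∈ (2 * k + 1) ::ₘ (2 * k' + 1) ::ₘ μ', e ≠ 1) (τ : F) (hτ : τ ≠ 0),
      ∃ x : GL ((Fin (d - 1) ⊕ Fin (d - 1)) ⊕ Fin 2) F, x ∈ Cfsg.Geo.omegaGL (Cfsg.quadFormMinus (d - 1) F a b) ∧
      ((x ^ p : GL ((Fin (d - 1) ⊕ Fin (d - 1)) ⊕ Fin 2) F) : Matrix ((Fin (d - 1) ⊕ Fin (d - 1)) ⊕ Fin 2) ((Fin (d - 1) ⊕ Fin (d - 1)) ⊕ Fin 2) F) = (1 : F) • (1 : Matrix ((Fin (d - 1) ⊕ Fin (d - 1)) ⊕ Fin 2) ((Fin (d - 1) ⊕ Fin (d - 1)) ⊕ Fin 2) F) ∧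
      (∀ z : F, (x : Matrix ((Fin (d - 1) ⊕ Fin (d - 1)) ⊕ Fin 2) ((Fin (d - 1) ⊕ Fin (d - 1)) ⊕ Fin 2) F) ≠ z • (1 : Matrix ((Fin (d - 1) ⊕ Fin (d - 1)) ⊕ Fin 2) ((Fin (d - 1) ⊕ Fin (d - 1)) ⊕ Fin 2) F)) ∧
      (∀ j : ℕ, finrank F (LinearMap.ker ((Matrix.toLin' (x : Matrix ((Fin (d - 1) ⊕ Fin (d - 1)) ⊕ Fin 2) ((Fin (d - 1) ⊕ Fin (d - 1)) ⊕ Fin 2) F) - 1) ^ j)) =
        (((2 * k + 1) ::ₘ (2 * k' + 1) ::ₘ μ').map (fun e => min e j)).sum) ∧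
      (∀ W : Submodule F (((Fin (d - 1) ⊕ Fin (d - 1)) ⊕ Fin 2) → F), Cfsg.Geo.IsNondegenerateOn (QuadraticMap.polar (Cfsg.quadFormMinus (d - 1) F a b)) W →
        W.map (Matrix.toLin' (x : Matrix ((Fin (d - 1) ⊕ Fin (d - 1)) ⊕ Fin 2) ((Fin (d - 1) ⊕ Fin (d - 1)) ⊕ Fin 2) F)) ≤ W →
        ∃ ν : Multiset ℕ, ν ≤ (2 * k + 1) ::ₘ (2 * k' + 1) ::ₘ μ' ∧ ν.sum = finrank F W ∧
          (∀ e : ℕ, Even e → Even (ν.count e)) ∧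
          ∀ j : ℕ, finrank F ↥(W ⊓ LinearMap.ker ((Matrix.toLin' (x : Matrix ((Fin (d - 1) ⊕ Fin (d - 1)) ⊕ Fin 2) ((Fin (d - 1) ⊕ Fin (d - 1)) ⊕ Fin 2) F) - 1) ^ j)) =
            (ν.map (fun e => min e j)).sum) ∧
      (k = 0 → 0 < k' → (∀ e ∈ μ', e ≠ 1) →
        ∃ v : (((Fin (d - 1) ⊕ Fin (d - 1)) ⊕ Fin 2) → F), Matrix.toLin' (x : Matrix ((Fin (d - 1) ⊕ Fin (d - 1)) ⊕ Fin 2) ((Fin (d - 1) ⊕ Fin (d - 1)) ⊕ Fin 2) F) v = v ∧ QuadraticMap.polar (Cfsg.quadFormMinus (d - 1) F a b) v v = τ)) :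
    ∃ x : GL ((Fin (d - 1) ⊕ Fin (d - 1)) ⊕ Fin 2) F, x ∈ Cfsg.Geo.omegaGL (Cfsg.quadFormMinus (d - 1) F a b) ∧
      ((x ^ p : GL ((Fin (d - 1) ⊕ Fin (d - 1)) ⊕ Fin 2) F) : Matrix ((Fin (d - 1) ⊕ Fin (d - 1)) ⊕ Fin 2) ((Fin (d - 1) ⊕ Fin (d - 1)) ⊕ Fin 2) F) = (1 : F) • (1 : Matrix ((Fin (d - 1) ⊕ Fin (d - 1)) ⊕ Fin 2) ((Fin (d - 1) ⊕ Fin (d - 1)) ⊕ Fin 2) F) ∧
      (∀ z : F, (x : Matrix ((Fin (d - 1) ⊕ Fin (d - 1)) ⊕ Fin 2) ((Fin (d - 1) ⊕ Fin (d - 1)) ⊕ Fin 2) F) ≠ z • (1 : Matrix ((Fin (d - 1) ⊕ Fin (d - 1)) ⊕ Fin 2) ((Fin (d - 1) ⊕ Fin (d - 1)) ⊕ Fin 2) F)) ∧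
      ∀ W : Submodule F (((Fin (d - 1) ⊕ Fin (d - 1)) ⊕ Fin 2) → F), Module.finrank F ↥W = m →
        Cfsg.Geo.IsNondegenerateOn (QuadraticMap.polar (Cfsg.quadFormMinus (d - 1) F a b)) W →
        Cfsg.Geo.AreIsometricFor (Cfsg.quadFormMinus (d - 1) F a b) W W₀ →
        ¬ W.map (Matrix.toLin' (x : Matrix ((Fin (d - 1) ⊕ Fin (d - 1)) ⊕ Fin 2) ((Fin (d - 1) ⊕ Fin (d - 1)) ⊕ Fin 2) F)) ≤ W := by
  classical
  have h2 : (2 : F) ≠ 0 := two_ne_zero_of_odd hodd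
  have hp2 : p ≠ 2 := by
    rintro rfl
    apply h2
    exact_mod_cast CharP.cast_eq_zero F 2
  have hp3 : 3 ≤ p := by
    have := (Fact.out : p.Prime).two_le
    omega
  set Q := Cfsg.Agent.Lib.Helper50.QMinus (d - 1) F a b with hQdef
  have hQ : (QuadraticMap.polarBilin Q).Nondegenerate :=
    Cfsg.Agent.Lib.Helper50.QMinus_nondeg_of_anis (d - 1) a b hab
  have hcard : finrank F (((Fin (d - 1) ⊕ Fin (d - 1)) ⊕ Fin 2) → F) = 2 * d := by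
    rw [Module.finrank_fintype_fun_eq_card, Cfsg.Agent.Lib.Helper50.card_minus_index]
    omega
  have hS : ∀ a b, QuadraticMap.polarBilin Q a b = QuadraticMap.polarBilin Q b a :=
    Cfsg.Agent.Lib.Helper13.OPb.polarBilin_symm Q
  have hV : NonDeg (QuadraticMap.polarBilin Q) ⊤ :=
    Cfsg.Agent.Lib.Helper13.OPb.nonDeg_top_of_nondegenerate Q hQ
  refine case_p_even_core h2 Q hQ p d m hcard hde hm hmd W₀ hW₀.1 hW₀.2 ?_ ?_ ?_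
  · intro u hiso W hW hWnd j hdW hk1 hk2 w hwW hw hww n b
    exact H12 (QuadraticMap.polarBilin Q) hS u hiso W hW hWnd j hdW hk1 hk2 w hwW hw hww b
  · intro W W' h
    exact H13 (QuadraticMap.polarBilin Q) hS hV W W' h
  · intro τ hτ
    have hmem : ∀ e ∈ Multiset.replicate (d - 2) 2, e = 2 := fun e he => Multiset.eq_of_mem_replicate he
    obtain ⟨x, h1, h2', h3, h4, h5, h6⟩ := HU (Multiset.replicate (d - 2) 2) 0 1
      (fun e he => by rw [hmem e he]; omega)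
      (fun e he => by
        rw [Multiset.count_replicate]
        split_ifs with h
        · obtain ⟨k, rfl⟩ := hde
          exact ⟨k - 1, by omega⟩
        · exact ⟨0, rfl⟩)
      (by omega) (by omega)
      (by rw [Multiset.sum_replicate, smul_eq_mul]; omega)
      ⟨3, by simp, by norm_num⟩ τ hτ
    refine ⟨x, h1, h2', h3, h4, h5, ?_⟩
    exact h6 rfl (by norm_num) (fun e he => by rw [hmem e he]; norm_num)

end Cfsg.Agent.Lib.Helper77.OMb
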