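import Mathlib
import Cfsg.Agent.Lib.Helper98.SL2Borel

/-!
# K-SNC leaf 9 (keystone 407309, S4073 converse half, architect helper72):
in `PSL₂(F)`, char 2, a subgroup `K` of the normalizer of a Sylow 2-subgroup `P` has `|K : P ∩ K|` dividing `q - 1`
-/

set_option autoImplicit false

namespace Cfsg.Agent.Lib.Helper77.SNC

open Cfsg.Agent.Lib.Helper98.SL2Borel Matrix

/-- the upper triangular subgroup of `SL₂(F)` -/
def snc9Borel (F : Type) [Field F] : Subgroup (Matrix.SpecialLinearGroup (Fin 2) F) where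
  carrier := {Z | Z.1 1 0 = 0}
  one_mem' := by simp
  mul_mem' := by
    intro A B hA hB
    show (A * B).1 1 0 = 0
    rw [(mul_entries A B).2.2.1, show A.1 1 0 = 0 from hA, show B.1 1 0 = 0 from hB]
    ring
  inv_mem' := by
    intro A hA
    show (A⁻¹).1 1 0 = 0
    rw [coe_inv_apply]
    simp [show A.1 1 0 = 0 from hA]

theorem snc9_diag {F : Type} [Field F] (Z : snc9Borel F) : Z.1.1 0 0 * Z.1.1 1 1 = 1 := by
  have h := det_eq Z.1
  rw [show Z.1.1 1 0 = 0 from Z.2, mul_zero, sub_zero] at h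
  exact h

/-- the diagonal entry, a homomorphism from the upper triangular subgroup to `Fˣ` -/
def snc9Diag (F : Type) [Field F] : snc9Borel F →* Fˣ where
  toFun Z := ⟨Z.1.1 0 0, Z.1.1 1 1, snc9_diag Z, by rw [mul_comm]; exact snc9_diag Z⟩
  map_one' := by
    apply Units.ext
    simp
  map_mul' A B := by
    apply Units.ext
    show (A.1 * B.1).1 0 0 = A.1.1 0 0 * B.1.1 0 0
    rw [(mul_entries A.1 B.1).1, show B.1.1 1 0 = 0 from B.2]
    ring

/-- **SNC-9 (407309)** -/
theorem index_subgroupOf_sylow_dvd {F : Type} [Field F] [Fintype F] [CharP F 2]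
    (P : Sylow 2 (Matrix.ProjectiveSpecialLinearGroup (Fin 2) F))
    (K : Subgroup (Matrix.ProjectiveSpecialLinearGroup (Fin 2) F))
    (hK : K ≤ Subgroup.normalizer ((P : Subgroup (Matrix.ProjectiveSpecialLinearGroup (Fin 2) F)) :
      Set (Matrix.ProjectiveSpecialLinearGroup (Fin 2) F))) :
    ((P : Subgroup (Matrix.ProjectiveSpecialLinearGroup (Fin 2) F)).subgroupOf K).index ∣ Fintype.card F - 1 := by
  classical
  have h2 : (2 : F) = 0 := CharTwo.two_eq_zero
  -- the centre of `SL₂(F)` is trivial in characteristic 2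
  have hcen : Subgroup.center (Matrix.SpecialLinearGroup (Fin 2) F) = ⊥ := by
    rw [eq_bot_iff]
    intro A hA
    rw [mem_center_iff'] at hA
    obtain ⟨h01, h10, h00⟩ := hA
    have hd := det_eq A
    rw [h01, zero_mul, sub_zero, ← h00] at hd
    have h1 : (A.1 0 0 - 1) ^ 2 = 0 := by
      have h3 : (A.1 0 0 - 1) ^ 2 = A.1 0 0 * A.1 0 0 - 2 * A.1 0 0 + 1 := by ring
      rw [h3, hd, h2]
      linear_combination h2
    have ha : A.1 0 0 = 1 := sub_eq_zero.mp ((pow_eq_zero_iff (two_ne_zero)).mp h1)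
    rw [Subgroup.mem_bot]
    apply ext_entries
    · simpa using ha
    · simpa using h01
    · simpa using h10
    · rw [← h00]; simpa using ha
  have hinj : Function.Injective
      (QuotientGroup.mk' (Subgroup.center (Matrix.SpecialLinearGroup (Fin 2) F))) := by
    rw [← MonoidHom.ker_eq_bot_iff, QuotientGroup.ker_mk', hcen]
  let e : Matrix.SpecialLinearGroup (Fin 2) F ≃* Matrix.ProjectiveSpecialLinearGroup (Fin 2) F :=
    MulEquiv.ofBijective (QuotientGroup.mk' (Subgroup.center (Matrix.SpecialLinearGroup (Fin 2) F)))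
      ⟨hinj, QuotientGroup.mk'_surjective _⟩
  have he : ∀ Y : Matrix.SpecialLinearGroup (Fin 2) F,
      e Y = (QuotientGroup.mk Y : Matrix.ProjectiveSpecialLinearGroup (Fin 2) F) := fun _ => rfl
  -- `P` is a conjugate of the standard Sylow subgroup
  obtain ⟨g, hg⟩ := MulAction.exists_smul_eq (Matrix.ProjectiveSpecialLinearGroup (Fin 2) F)
    (sylUBar (F := F) 2) P
  obtain ⟨X, rfl⟩ := QuotientGroup.mk_surjective g
  have hP : ∀ y : Matrix.ProjectiveSpecialLinearGroup (Fin 2) F,
      y ∈ (P : Subgroup (Matrix.ProjectiveSpecialLinearGroup (Fin 2) F)) ↔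
        ∃ x : F, y = QuotientGroup.mk (X * uMat x * X⁻¹) := by
    intro y
    rw [← hg, Sylow.coe_subgroup_smul, Subgroup.mem_smul_pointwise_iff_exists]
    constructor
    · rintro ⟨u, hu, rfl⟩
      have hu' : u ∈ (uBarHom : Multiplicative F →* _).range := hu
      obtain ⟨x, rfl⟩ := (mem_uBar_range u).mp hu'
      refine ⟨x, ?_⟩
      rw [MulAut.smul_def, MulAut.conj_apply]
      rfl
    · rintro ⟨x, rfl⟩
      refine ⟨QuotientGroup.mk (uMat x), ?_, ?_⟩
      · exact (mem_uBar_range _).mpr ⟨x, rfl⟩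
      · rw [MulAut.smul_def, MulAut.conj_apply]
        rfl
  -- the conjugated lift
  let Zh : Matrix.ProjectiveSpecialLinearGroup (Fin 2) F →* Matrix.SpecialLinearGroup (Fin 2) F :=
    (MulAut.conj X⁻¹).toMonoidHom.comp e.symm.toMonoidHom
  have hZ : ∀ y : Matrix.ProjectiveSpecialLinearGroup (Fin 2) F, Zh y = X⁻¹ * e.symm y * X := by
    intro y
    show (MulAut.conj X⁻¹) (e.symm y) = _
    rw [MulAut.conj_apply, inv_inv]
  have hZmk : ∀ Y : Matrix.SpecialLinearGroup (Fin 2) F,
      Zh (QuotientGroup.mk Y) = X⁻¹ * Y * X := by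
    intro Y
    rw [hZ, ← he, MulEquiv.symm_apply_apply]
  have hZP : ∀ x : F, Zh (QuotientGroup.mk (X * uMat x * X⁻¹)) = uMat x := by
    intro x
    rw [hZmk]
    group
  have hB : ∀ k : K, (Zh.comp K.subtype) k ∈ snc9Borel F := by
    intro k
    have hv : (QuotientGroup.mk (X * uMat 1 * X⁻¹) : Matrix.ProjectiveSpecialLinearGroup (Fin 2) F)
        ∈ (P : Subgroup (Matrix.ProjectiveSpecialLinearGroup (Fin 2) F)) := (hP _).mpr ⟨1, rfl⟩
    have hkv := (Subgroup.mem_normalizer_iff.mp (hK k.2) _).mp hv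
    obtain ⟨x', hx'⟩ := (hP _).mp hkv
    have h3 := congrArg Zh hx'
    rw [map_mul, map_mul, map_inv, hZP, hZP] at h3
    have h4 : (Zh (k : Matrix.ProjectiveSpecialLinearGroup (Fin 2) F) * uMat 1 *
        (Zh (k : Matrix.ProjectiveSpecialLinearGroup (Fin 2) F))⁻¹).1 1 0 = 0 := by
      rw [h3]; simp
    exact (conj_uMat_one_lower_iff _).mp h4
  let φ : K →* Fˣ := (snc9Diag F).comp ((Zh.comp K.subtype).codRestrict (snc9Borel F) hB)
  have hφ : ∀ k : K, ((φ k : Fˣ) : F) =
      (Zh (k : Matrix.ProjectiveSpecialLinearGroup (Fin 2) F)).1 0 0 := fun _ => rfl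
  have hker : φ.ker = (P : Subgroup (Matrix.ProjectiveSpecialLinearGroup (Fin 2) F)).subgroupOf K := by
    ext k
    rw [MonoidHom.mem_ker, Subgroup.mem_subgroupOf]
    constructor
    · intro h
      have h00 : (Zh (k : Matrix.ProjectiveSpecialLinearGroup (Fin 2) F)).1 0 0 = 1 := by
        rw [← hφ, h]; rfl
      have h10 : (Zh (k : Matrix.ProjectiveSpecialLinearGroup (Fin 2) F)).1 1 0 = 0 := hB k
      have h11 : (Zh (k : Matrix.ProjectiveSpecialLinearGroup (Fin 2) F)).1 1 1 = 1 := by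
        have h5 := det_eq (Zh (k : Matrix.ProjectiveSpecialLinearGroup (Fin 2) F))
        rw [h10, mul_zero, sub_zero, h00, one_mul] at h5
        exact h5
      have hZu : Zh (k : Matrix.ProjectiveSpecialLinearGroup (Fin 2) F) =
          uMat ((Zh (k : Matrix.ProjectiveSpecialLinearGroup (Fin 2) F)).1 0 1) := by
        apply ext_entries <;> simp [h00, h10, h11]
      rw [hP]
      refine ⟨(Zh (k : Matrix.ProjectiveSpecialLinearGroup (Fin 2) F)).1 0 1, ?_⟩
      have h5 : e.symm (k : Matrix.ProjectiveSpecialLinearGroup (Fin 2) F) =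
          X * Zh (k : Matrix.ProjectiveSpecialLinearGroup (Fin 2) F) * X⁻¹ := by
        rw [hZ]; group
      have h6 : (k : Matrix.ProjectiveSpecialLinearGroup (Fin 2) F) =
          e (e.symm (k : Matrix.ProjectiveSpecialLinearGroup (Fin 2) F)) :=
        (e.apply_symm_apply _).symm
      calc (k : Matrix.ProjectiveSpecialLinearGroup (Fin 2) F)
          = e (e.symm (k : Matrix.ProjectiveSpecialLinearGroup (Fin 2) F)) := h6
        _ = QuotientGroup.mk (X * Zh (k : Matrix.ProjectiveSpecialLinearGroup (Fin 2) F) * X⁻¹) := by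
            rw [h5, he]
        _ = _ := congrArg (fun Z : Matrix.SpecialLinearGroup (Fin 2) F =>
            (QuotientGroup.mk (X * Z * X⁻¹) : Matrix.ProjectiveSpecialLinearGroup (Fin 2) F)) hZu
    · intro h
      obtain ⟨x, hx⟩ := (hP _).mp h
      apply Units.ext
      rw [hφ, hx, hZP]
      simp
  have h7 : ((P : Subgroup (Matrix.ProjectiveSpecialLinearGroup (Fin 2) F)).subgroupOf K).index =
      Nat.card φ.range := by
    rw [← hker]
    exact Subgroup.index_ker φ
  rw [h7]
  have h8 : Nat.card φ.range ∣ Nat.card Fˣ := Subgroup.card_subgroup_dvd_card _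
  have h9 : Nat.card Fˣ = Fintype.card F - 1 := by
    rw [Nat.card_eq_fintype_card, Fintype.card_units]
  rwa [h9] at h8

end Cfsg.Agent.Lib.Helper77.SNC
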