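import Mathlib
import Cfsg.Prelude.Def_GeometricClasses
import Cfsg.Agent.Lib.Helper87.SU3Defs

/-!
# Keystone 577810 (K-SU3-A3) of helper87's pack for S5778

An element of `SU_3(5)` outside the stabiliser of the 630 vectors `InX5`, and the half-turn `r5m` is not monomial.
-/

set_option autoImplicit false
set_option linter.style.haveILetI false
set_option linter.unusedSectionVars false

namespace Cfsg.Agent.Lib.Helper77.SU3K

open Cfsg Cfsg.Geo Matrix Cfsg.Agent.Lib.Helper87.SU3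

variable {F : Type*} [Field F] [Fintype F]

local notation "M3" => Matrix (Fin 3) (Fin 3) F
local notation "G3" => GL (Fin 3) F

theorem charP_five (hF : Fintype.card F = 25) : CharP F 5 := by
  obtain ⟨p, hp⟩ := CharP.exists F
  haveI := hp
  obtain ⟨n, hprime, hcard⟩ := FiniteField.card F p
  have h : p ^ (n : ℕ) = 5 ^ 2 := by rw [← hcard, hF]; norm_num
  have hp5 : p = 5 := by
    have h1 : p ∣ 5 ^ 2 := by rw [← h]; exact dvd_pow_self p n.ne_zero
    exact (Nat.prime_dvd_prime_iff_eq hprime (by norm_num)).1 (hprime.dvd_of_dvd_pow h1)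
  subst hp5
  exact hp

theorem five_eq_zero (hF : Fintype.card F = 25) : (5 : F) = 0 := by
  haveI := charP_five hF
  have := CharP.cast_eq_zero F 5
  exact_mod_cast this

theorem exists_omega (hF : Fintype.card F = 25) : ∃ ω : F, ω ^ 2 + ω + 1 = 0 := by
  classical
  obtain ⟨ζ, hζ⟩ := IsCyclic.exists_generator (α := Fˣ)
  have hord : orderOf ζ = 24 := by
    rw [orderOf_eq_card_of_forall_mem_zpowers hζ, Nat.card_eq_fintype_card, Fintype.card_units, hF]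
  have h3 : ((ζ ^ 8 : Fˣ) : F) ^ 3 = 1 := by
    have h24 : ζ ^ 24 = 1 := by rw [← hord]; exact pow_orderOf_eq_one ζ
    have : (ζ ^ 8) ^ 3 = 1 := by rw [← pow_mul]; exact h24
    rw [← Units.val_pow_eq_pow_val, this, Units.val_one]
  have h1 : ((ζ ^ 8 : Fˣ) : F) ≠ 1 := by
    intro h
    have h8 : ζ ^ 8 = 1 := Units.ext h
    have := orderOf_dvd_of_pow_eq_one h8
    rw [hord] at this
    omega
  refine ⟨((ζ ^ 8 : Fˣ) : F), ?_⟩
  have hm : (((ζ ^ 8 : Fˣ) : F) - 1) * (((ζ ^ 8 : Fˣ) : F) ^ 2 + ((ζ ^ 8 : Fˣ) : F) + 1) = 0 := by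
    linear_combination h3
  exact (mul_eq_zero.1 hm).resolve_left (sub_ne_zero.2 h1)

/-- the half-turn `r5m` as an element of `GL_3(F)`. -/
def rGL (hF : Fintype.card F = 25) : G3 :=
  ⟨r5m, r5m, by
    have h5 := five_eq_zero hF
    ext i j
    fin_cases i <;> fin_cases j <;> simp [r5m, Matrix.mul_apply, Fin.sum_univ_three] <;>
      linear_combination (8 : F) * h5, by
    have h5 := five_eq_zero hF
    ext i j
    fin_cases i <;> fin_cases j <;> simp [r5m, Matrix.mul_apply, Fin.sum_univ_three] <;>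
      linear_combination (8 : F) * h5⟩

/-- `diag(ω, 1, 1)` as an element of `GL_3(F)`. -/
def dGL (ω : F) (hω : ω ^ 2 + ω + 1 = 0) : G3 :=
  ⟨!![ω, 0, 0; 0, 1, 0; 0, 0, 1], !![ω ^ 2, 0, 0; 0, 1, 0; 0, 0, 1], by
    ext i j
    fin_cases i <;> fin_cases j <;> simp [Matrix.mul_apply, Fin.sum_univ_three]
    linear_combination (ω - 1) * hω, by
    ext i j
    fin_cases i <;> fin_cases j <;> simp [Matrix.mul_apply, Fin.sum_univ_three]
    linear_combination (ω - 1) * hω⟩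

theorem r5m_mulVec (x : Fin 3 → F) :
    ((r5m : M3) *ᵥ x) 0 = 3 * x 0 + 4 * x 1 + 4 * x 2 ∧
    ((r5m : M3) *ᵥ x) 1 = 4 * x 0 + 3 * x 1 + 4 * x 2 ∧
    ((r5m : M3) *ᵥ x) 2 = 4 * x 0 + 4 * x 1 + 3 * x 2 := by
  refine ⟨?_, ?_, ?_⟩ <;> simp [r5m, Matrix.mulVec, dotProduct, Fin.sum_univ_three]

theorem rGL_mem_GU (hF : Fintype.card F = 25) : rGL hF ∈ GU 3 F 5 := by
  haveI := charP_five hF
  haveI : Fact (Nat.Prime 5) := ⟨by norm_num⟩
  have h5 := five_eq_zero hF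
  intro u v
  show hermForm 3 F 5 (r5m *ᵥ u) (r5m *ᵥ v) = hermForm 3 F 5 u v
  simp only [hermForm, Fin.sum_univ_three, (r5m_mulVec u).1, (r5m_mulVec u).2.1, (r5m_mulVec u).2.2,
    (r5m_mulVec v).1, (r5m_mulVec v).2.1, (r5m_mulVec v).2.2]
  simp only [← frobenius_def (R := F) 5, map_add, map_mul, map_ofNat]
  linear_combination (8 * (u 0 + u 1 + u 2) *
    (frobenius F 5 (v 0) + frobenius F 5 (v 1) + frobenius F 5 (v 2))) * h5

theorem dmat_mulVec (ω : F) (x : Fin 3 → F) :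
    ((!![ω, 0, 0; 0, 1, 0; 0, 0, 1] : M3) *ᵥ x) 0 = ω * x 0 ∧
    ((!![ω, 0, 0; 0, 1, 0; 0, 0, 1] : M3) *ᵥ x) 1 = x 1 ∧
    ((!![ω, 0, 0; 0, 1, 0; 0, 0, 1] : M3) *ᵥ x) 2 = x 2 := by
  refine ⟨?_, ?_, ?_⟩ <;> simp [Matrix.mulVec, dotProduct, Fin.sum_univ_three]

theorem dGL_mem_GU (ω : F) (hω : ω ^ 2 + ω + 1 = 0) : dGL ω hω ∈ GU 3 F 5 := by
  intro u v
  show hermForm 3 F 5 ((!![ω, 0, 0; 0, 1, 0; 0, 0, 1] : M3) *ᵥ u)
    ((!![ω, 0, 0; 0, 1, 0; 0, 0, 1] : M3) *ᵥ v) = hermForm 3 F 5 u v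
  simp only [hermForm, Fin.sum_univ_three, (dmat_mulVec ω u).1, (dmat_mulVec ω u).2.1,
    (dmat_mulVec ω u).2.2, (dmat_mulVec ω v).1, (dmat_mulVec ω v).2.1, (dmat_mulVec ω v).2.2]
  linear_combination (u 0 * v 0 ^ 5 * (ω - 1) * (ω ^ 3 + 1)) * hω

theorem rGL_det (hF : Fintype.card F = 25) : rGL hF ∈ specialLinear (Fin 3) F := by
  have h5 := five_eq_zero hF
  show Matrix.GeneralLinearGroup.det (rGL hF) = 1
  apply Units.ext
  rw [Matrix.GeneralLinearGroup.val_det_apply]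
  show (r5m : M3).det = 1
  rw [Matrix.det_fin_three]
  simp [r5m]
  linear_combination (2 : F) * h5

theorem dinv_mulVec (ω : F) (x : Fin 3 → F) :
    ((!![ω ^ 2, 0, 0; 0, 1, 0; 0, 0, 1] : M3) *ᵥ x) 0 = ω ^ 2 * x 0 ∧
    ((!![ω ^ 2, 0, 0; 0, 1, 0; 0, 0, 1] : M3) *ᵥ x) 1 = x 1 ∧
    ((!![ω ^ 2, 0, 0; 0, 1, 0; 0, 0, 1] : M3) *ᵥ x) 2 = x 2 := by
  refine ⟨?_, ?_, ?_⟩ <;> simp [Matrix.mulVec, dotProduct, Fin.sum_univ_three]

/-- 577810 K-SU3-A3. -/
theorem a7_small (hF : Fintype.card F = 25) :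
    (∃ s ∈ SU3 F 5, s ∉ stab InX5) ∧
    (∀ g : G3, (g : M3) = r5m → g ∉ decompositionStabilizer (stdFrame F)) := by
  have h5 := five_eq_zero hF
  have h2 : (2 : F) ≠ 0 := by
    intro h
    have : (1 : F) = 0 := by linear_combination h5 - 2 * h
    exact one_ne_zero this
  refine ⟨?_, ?_⟩
  · obtain ⟨ω, hω⟩ := exists_omega hF
    refine ⟨dGL ω hω * rGL hF * (dGL ω hω)⁻¹, ⟨?_, ?_⟩, ?_⟩
    · exact Subgroup.mul_mem _ (Subgroup.mul_mem _ (dGL_mem_GU ω hω) (rGL_mem_GU hF))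
        (Subgroup.inv_mem _ (dGL_mem_GU ω hω))
    · have hr : Matrix.GeneralLinearGroup.det (rGL hF) = 1 := rGL_det hF
      show Matrix.GeneralLinearGroup.det (dGL ω hω * rGL hF * (dGL ω hω)⁻¹) = 1
      rw [map_mul, map_mul, map_inv, hr, mul_one, mul_inv_cancel]
    · intro hs
      have he : InX5 (![1, 0, 0] : Fin 3 → F) := by
        refine ⟨by simp [nrm], Or.inl ⟨by simp [prd], by simp [sg2]⟩⟩
      have hw := (hs ![1, 0, 0]).2 he
      have hval : ((dGL ω hω * rGL hF * (dGL ω hω)⁻¹ : G3) : M3) *ᵥ (![1, 0, 0] : Fin 3 → F) =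
          ![ω * (3 * ω ^ 2), 4 * ω ^ 2, 4 * ω ^ 2] := by
        have e : ((dGL ω hω * rGL hF * (dGL ω hω)⁻¹ : G3) : M3) =
            (!![ω, 0, 0; 0, 1, 0; 0, 0, 1] : M3) * r5m * (!![ω ^ 2, 0, 0; 0, 1, 0; 0, 0, 1] : M3) := rfl
        rw [e, ← Matrix.mulVec_mulVec, ← Matrix.mulVec_mulVec]
        funext i
        fin_cases i
        · show ((!![ω, 0, 0; 0, 1, 0; 0, 0, 1] : M3) *ᵥ _) 0 = _
          rw [(dmat_mulVec ω _).1, (r5m_mulVec _).1, (dinv_mulVec ω _).1, (dinv_mulVec ω _).2.1,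
            (dinv_mulVec ω _).2.2]
          simp
        · show ((!![ω, 0, 0; 0, 1, 0; 0, 0, 1] : M3) *ᵥ _) 1 = _
          rw [(dmat_mulVec ω _).2.1, (r5m_mulVec _).2.1, (dinv_mulVec ω _).1, (dinv_mulVec ω _).2.1,
            (dinv_mulVec ω _).2.2]
          simp
        · show ((!![ω, 0, 0; 0, 1, 0; 0, 0, 1] : M3) *ᵥ _) 2 = _
          rw [(dmat_mulVec ω _).2.2, (r5m_mulVec _).2.2, (dinv_mulVec ω _).1, (dinv_mulVec ω _).2.1,
            (dinv_mulVec ω _).2.2]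
          simp
      rw [hval] at hw
      have hprd : prd (![ω * (3 * ω ^ 2), 4 * ω ^ 2, 4 * ω ^ 2] : Fin 3 → F) =
          ω * (3 * ω ^ 2) * (4 * ω ^ 2) * (4 * ω ^ 2) := by simp [prd]
      obtain ⟨-, h | h⟩ := hw
      · have h0 := h.1
        rw [hprd] at h0
        have : (1 : F) = 0 := by
          linear_combination (2 * ω ^ 2) * h0 + ((96) + (-96) * ω + (96) * ω ^ 3 + (-96) * ω ^ 4 + (96) * ω ^ 6 + (-96) * ω ^ 7) * hω + ((-19)) * h5
        exact one_ne_zero this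
      · have h0 := h.2
        rw [hprd] at h0
        have : (2 : F) = 0 := by
          linear_combination h0 + ((2304) + (5308416) * ω + (-5310720) * ω ^ 2 + (2304) * ω ^ 3 + (5308416) * ω ^ 4 + (-5310720) * ω ^ 5 + (2304) * ω ^ 6 + (5308416) * ω ^ 7 + (-5310720) * ω ^ 8 + (2304) * ω ^ 9 + (5308416) * ω ^ 10 + (-5310720) * ω ^ 11 + (2304) * ω ^ 12 + (5308416) * ω ^ 13 + (-5308416) * ω ^ 14 + (5308416) * ω ^ 16 + (-5308416) * ω ^ 17 + (5308416) * ω ^ 19 + (-5308416) * ω ^ 20 + (5308416) * ω ^ 22 + (-5308416) * ω ^ 23 + (5308416) * ω ^ 25 + (-5308416) * ω ^ 26) * hω + ((-460) + (-1062144) * ω) * h5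
        exact h2 this
  · intro g hg hmem
    obtain ⟨σ, hσ⟩ := hmem
    have h3 : (3 : F) ≠ 0 := by
      intro h
      have : (1 : F) = 0 := by linear_combination 2 * h - h5
      exact one_ne_zero this
    have h4 : (4 : F) ≠ 0 := by
      intro h
      have : (1 : F) = 0 := by linear_combination h5 - h
      exact one_ne_zero this
    have hmem0 : (Pi.single 0 1 : Fin 3 → F) ∈ stdFrame F 0 :=
      Submodule.subset_span (Set.mem_singleton _)
    have hin : Matrix.toLin' (g : M3) (Pi.single 0 1) ∈ stdFrame F (σ 0) := by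
      rw [← hσ 0]
      exact Submodule.mem_map_of_mem hmem0
    rw [Matrix.toLin'_apply, hg] at hin
    obtain ⟨c, hc⟩ := Submodule.mem_span_singleton.1 hin
    obtain ⟨k, hk⟩ := exists_ne (σ 0)
    have hck := congrFun hc k
    rw [Pi.smul_apply, Pi.single_eq_of_ne hk, smul_zero] at hck
    obtain ⟨e0, e1, e2⟩ := r5m_mulVec (F := F) (Pi.single 0 1)
    fin_cases k
    · rw [show ((⟨0, by omega⟩ : Fin 3)) = 0 from rfl, e0] at hck
      simp at hck
      exact h3 hck.symm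
    · rw [show ((⟨1, by omega⟩ : Fin 3)) = 1 from rfl, e1] at hck
      simp at hck
      exact h4 hck.symm
    · rw [show ((⟨2, by omega⟩ : Fin 3)) = 2 from rfl, e2] at hck
      simp at hck
      exact h4 hck.symm

end Cfsg.Agent.Lib.Helper77.SU3K
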