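import Mathlib
import Cfsg.Prelude.Def_LieExceptional

/-!
# K-StO leaf A5: a (B,N)-pair restricts to a normal subgroup `H` with `H (B ⊓ N) = G`
-/

namespace Cfsg.Agent.Lib.Helper77.StO

variable {G : Type*} [Group G]

theorem a5_T_conj (P : Cfsg.BNPair G) {n t : G} (hn : n ∈ P.N) (ht : t ∈ P.B ⊓ P.N) :
    n * t * n⁻¹ ∈ P.B ⊓ P.N :=
  ⟨P.conj_mem n hn t ht, P.N.mul_mem (P.N.mul_mem hn ht.2) (P.N.inv_mem hn)⟩

theorem a5_T_conj' (P : Cfsg.BNPair G) {n t : G} (hn : n ∈ P.N) (ht : t ∈ P.B ⊓ P.N) :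
    n⁻¹ * t * n ∈ P.B ⊓ P.N := by
  simpa using a5_T_conj P (P.N.inv_mem hn) ht

theorem a5_N_le_normalizer (P : Cfsg.BNPair G) :
    P.N ≤ Subgroup.normalizer ((P.B ⊓ P.N : Subgroup G) : Set G) := by
  intro n hn
  rw [Subgroup.mem_normalizer_iff]
  intro t
  constructor
  · exact fun ht => a5_T_conj P hn ht
  · intro ht
    have := a5_T_conj' P hn ht
    simpa [mul_assoc] using this

theorem a5_decomp (H T : Subgroup G) [H.Normal] (hHT : H ⊔ T = ⊤) (g : G) :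
    ∃ t ∈ T, g * t ∈ H := by
  have hg : g ∈ ((H ⊔ T : Subgroup G) : Set G) := by rw [hHT]; trivial
  rw [Subgroup.normal_mul] at hg
  obtain ⟨h, hh, t, ht, rfl⟩ := Set.mem_mul.mp hg
  exact ⟨t⁻¹, T.inv_mem ht, by simpa using hh⟩

/-- the chosen correction `t_g ∈ T` with `g * t_g ∈ H` -/
noncomputable def a5_tau (H T : Subgroup G) [H.Normal] (hHT : H ⊔ T = ⊤) (g : G) : G :=
  Classical.choose (a5_decomp H T hHT g)

theorem a5_tau_mem (H T : Subgroup G) [H.Normal] (hHT : H ⊔ T = ⊤) (g : G) :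
    a5_tau H T hHT g ∈ T :=
  (Classical.choose_spec (a5_decomp H T hHT g)).1

theorem a5_mul_tau_mem (H T : Subgroup G) [H.Normal] (hHT : H ⊔ T = ⊤) (g : G) :
    g * a5_tau H T hHT g ∈ H :=
  (Classical.choose_spec (a5_decomp H T hHT g)).2

/-- `sup_eq_top` for the restricted pair -/
theorem a5_sup_eq_top (P : Cfsg.BNPair G) (H : Subgroup G) [hHn : H.Normal]
    (hHT : H ⊔ (P.B ⊓ P.N) = ⊤) :
    P.B.subgroupOf H ⊔ P.N.subgroupOf H = ⊤ := by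
  have hKH : (P.B ⊓ H) ⊔ (P.N ⊓ H) ≤ H := sup_le inf_le_right inf_le_right
  have key : ∀ t ∈ P.B ⊓ P.N,
      ((P.B ⊓ H) ⊔ (P.N ⊓ H)).map (MulAut.conj t).toMonoidHom ≤ (P.B ⊓ H) ⊔ (P.N ⊓ H) := by
    intro t ht
    rw [Subgroup.map_sup]
    refine sup_le_sup ?_ ?_
    · rw [Subgroup.map_le_iff_le_comap]
      intro x hx
      exact ⟨P.B.mul_mem (P.B.mul_mem ht.1 hx.1) (P.B.inv_mem ht.1), hHn.conj_mem x hx.2 t⟩
    · rw [Subgroup.map_le_iff_le_comap]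
      intro x hx
      exact ⟨P.N.mul_mem (P.N.mul_mem ht.2 hx.1) (P.N.inv_mem ht.2), hHn.conj_mem x hx.2 t⟩
  have hTK : P.B ⊓ P.N ≤ Subgroup.normalizer (((P.B ⊓ H) ⊔ (P.N ⊓ H) : Subgroup G) : Set G) := by
    intro t ht
    rw [Subgroup.mem_normalizer_iff]
    intro k
    constructor
    · intro hk
      exact key t ht (Subgroup.mem_map_of_mem _ hk)
    · intro hk
      have := key t⁻¹ ((P.B ⊓ P.N).inv_mem ht) (Subgroup.mem_map_of_mem _ hk)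
      simpa [mul_assoc] using this
  have hBKT : P.B ≤ ((P.B ⊓ H) ⊔ (P.N ⊓ H)) ⊔ (P.B ⊓ P.N) := by
    intro b hb
    obtain ⟨t, ht, hbt⟩ := a5_decomp H (P.B ⊓ P.N) hHT b
    have hb' : b = (b * t) * t⁻¹ := by group
    rw [hb']
    refine Subgroup.mul_mem _ ?_ ?_
    · exact le_sup_left (a := (P.B ⊓ H) ⊔ (P.N ⊓ H))
        (le_sup_left (a := P.B ⊓ H) ⟨P.B.mul_mem hb ht.1, hbt⟩)
    · exact le_sup_right (a := (P.B ⊓ H) ⊔ (P.N ⊓ H)) ((P.B ⊓ P.N).inv_mem ht)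
  have hNKT : P.N ≤ ((P.B ⊓ H) ⊔ (P.N ⊓ H)) ⊔ (P.B ⊓ P.N) := by
    intro b hb
    obtain ⟨t, ht, hbt⟩ := a5_decomp H (P.B ⊓ P.N) hHT b
    have hb' : b = (b * t) * t⁻¹ := by group
    rw [hb']
    refine Subgroup.mul_mem _ ?_ ?_
    · exact le_sup_left (a := (P.B ⊓ H) ⊔ (P.N ⊓ H))
        (le_sup_right (a := P.B ⊓ H) ⟨P.N.mul_mem hb ht.2, hbt⟩)
    · exact le_sup_right (a := (P.B ⊓ H) ⊔ (P.N ⊓ H)) ((P.B ⊓ P.N).inv_mem ht)
  have hKT : ((P.B ⊓ H) ⊔ (P.N ⊓ H)) ⊔ (P.B ⊓ P.N) = ⊤ :=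
    top_le_iff.mp (P.sup_eq_top ▸ sup_le hBKT hNKT)
  have hHK : H ≤ (P.B ⊓ H) ⊔ (P.N ⊓ H) := by
    intro h hh
    have hmem : h ∈ ((((P.B ⊓ H) ⊔ (P.N ⊓ H)) ⊔ (P.B ⊓ P.N) : Subgroup G) : Set G) := by
      rw [hKT]; trivial
    rw [Subgroup.coe_mul_of_right_le_normalizer_left _ _ hTK] at hmem
    obtain ⟨k, hk, t, ht, rfl⟩ := Set.mem_mul.mp hmem
    have htH : t ∈ H := by
      have : t = k⁻¹ * (k * t) := by group
      rw [this]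
      exact H.mul_mem (H.inv_mem (hKH hk)) hh
    exact Subgroup.mul_mem _ hk (le_sup_left (a := P.B ⊓ H) ⟨ht.1, htH⟩)
  apply Subgroup.map_injective H.subtype_injective
  rw [Subgroup.map_sup, Subgroup.subgroupOf_map_subtype, Subgroup.subgroupOf_map_subtype,
    ← MonoidHom.range_eq_map, Subgroup.range_subtype]
  exact le_antisymm hKH hHK

/-- the new distinguished representatives, inside `H` -/
def a5_S (P : Cfsg.BNPair G) (H : Subgroup G) [H.Normal] (hHT : H ⊔ (P.B ⊓ P.N) = ⊤) : Set ↥H :=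
  {x | ∃ s ∈ P.S, (x : G) = s * a5_tau H (P.B ⊓ P.N) hHT s}

theorem a5_closure_sup (P : Cfsg.BNPair G) (H : Subgroup G) [hHn : H.Normal]
    (hHT : H ⊔ (P.B ⊓ P.N) = ⊤) :
    Subgroup.closure (a5_S P H hHT) ⊔ (P.B.subgroupOf H ⊓ P.N.subgroupOf H)
      = P.N.subgroupOf H := by
  apply le_antisymm
  · refine sup_le ?_ inf_le_right
    rw [Subgroup.closure_le]
    rintro x ⟨s, hs, hx⟩
    show (x : G) ∈ P.N
    rw [hx]
    exact P.N.mul_mem (P.subset hs) (a5_tau_mem H (P.B ⊓ P.N) hHT s).2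
  · intro n hn
    have hCH : (Subgroup.closure (a5_S P H hHT)).map H.subtype ≤ H := by
      rintro _ ⟨y, _, rfl⟩
      exact y.2
    have hCN : (Subgroup.closure (a5_S P H hHT)).map H.subtype ≤ P.N := by
      rw [Subgroup.map_le_iff_le_comap, Subgroup.closure_le]
      rintro x ⟨s, hs, hx⟩
      show (x : G) ∈ P.N
      rw [hx]
      exact P.N.mul_mem (P.subset hs) (a5_tau_mem H (P.B ⊓ P.N) hHT s).2
    have hCnorm : (Subgroup.closure (a5_S P H hHT)).map H.subtype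
        ≤ Subgroup.normalizer ((P.B ⊓ P.N : Subgroup G) : Set G) :=
      hCN.trans (a5_N_le_normalizer P)
    have hS : Subgroup.closure P.S
        ≤ (Subgroup.closure (a5_S P H hHT)).map H.subtype ⊔ (P.B ⊓ P.N) := by
      rw [Subgroup.closure_le]
      intro s hs
      have h1 : s * a5_tau H (P.B ⊓ P.N) hHT s
          ∈ (Subgroup.closure (a5_S P H hHT)).map H.subtype :=
        ⟨⟨s * a5_tau H (P.B ⊓ P.N) hHT s, a5_mul_tau_mem H (P.B ⊓ P.N) hHT s⟩,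
          Subgroup.subset_closure ⟨s, hs, rfl⟩, rfl⟩
      have hmem : s * a5_tau H (P.B ⊓ P.N) hHT s * (a5_tau H (P.B ⊓ P.N) hHT s)⁻¹
          ∈ (Subgroup.closure (a5_S P H hHT)).map H.subtype ⊔ (P.B ⊓ P.N) :=
        Subgroup.mul_mem _ (le_sup_left (b := P.B ⊓ P.N) h1)
          (le_sup_right (a := (Subgroup.closure (a5_S P H hHT)).map H.subtype)
            ((P.B ⊓ P.N).inv_mem (a5_tau_mem H (P.B ⊓ P.N) hHT s)))
      simpa using hmem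
    have hNle : P.N ≤ (Subgroup.closure (a5_S P H hHT)).map H.subtype ⊔ (P.B ⊓ P.N) :=
      calc P.N = Subgroup.closure P.S ⊔ (P.B ⊓ P.N) := P.closure_sup.symm
        _ ≤ _ := sup_le hS le_sup_right
    have hnmem : (n : G) ∈ (((Subgroup.closure (a5_S P H hHT)).map H.subtype ⊔ (P.B ⊓ P.N)
        : Subgroup G) : Set G) := hNle hn
    rw [Subgroup.coe_mul_of_left_le_normalizer_right _ _ hCnorm] at hnmem
    obtain ⟨c, hc, t, ht, hct⟩ := Set.mem_mul.mp hnmem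
    have htH : t ∈ H := by
      have : t = c⁻¹ * (n : G) := by rw [← hct]; group
      rw [this]
      exact H.mul_mem (H.inv_mem (hCH hc)) n.2
    obtain ⟨y, hy, hyc⟩ := hc
    have hn' : n = y * ⟨t, htH⟩ := by
      apply Subtype.ext
      rw [Subgroup.coe_mul, ← hct, ← hyc]
      rfl
    rw [hn']
    exact Subgroup.mul_mem _ (le_sup_left (b := P.B.subgroupOf H ⊓ P.N.subgroupOf H) hy)
      (le_sup_right (a := Subgroup.closure (a5_S P H hHT)) ⟨ht.1, ht.2⟩)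

theorem a5_dc_lift (P : Cfsg.BNPair G) (H : Subgroup G) [hHn : H.Normal]
    (hHT : H ⊔ (P.B ⊓ P.N) = ⊤) {y z b₁ b₂ : G} (hy : y ∈ P.N) (hyH : y ∈ H) (hz : z ∈ H)
    (hb₁ : b₁ ∈ P.B) (hb₂ : b₂ ∈ P.B) (hzeq : z = b₁ * y * b₂) :
    ∃ h₁ ∈ P.B ⊓ H, ∃ h₂ ∈ P.B ⊓ H, z = h₁ * y * h₂ := by
  obtain ⟨t, ht, hbt⟩ := a5_decomp H (P.B ⊓ P.N) hHT b₁
  refine ⟨b₁ * t, ⟨P.B.mul_mem hb₁ ht.1, hbt⟩, (y⁻¹ * t⁻¹ * y) * b₂, ⟨?_, ?_⟩, ?_⟩
  · exact P.B.mul_mem (a5_T_conj' P hy ((P.B ⊓ P.N).inv_mem ht)).1 hb₂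
  · have : y⁻¹ * t⁻¹ * y * b₂ = y⁻¹ * (b₁ * t)⁻¹ * z := by rw [hzeq]; group
    rw [this]
    exact H.mul_mem (H.mul_mem (H.inv_mem hyH) (H.inv_mem hbt)) hz
  · rw [hzeq]; group

theorem a5_mul_mem_union (P : Cfsg.BNPair G) (H : Subgroup G) [hHn : H.Normal]
    (hHT : H ⊔ (P.B ⊓ P.N) = ⊤) :
    ∀ x ∈ a5_S P H hHT, ∀ n ∈ P.N.subgroupOf H, ∀ b ∈ P.B.subgroupOf H,
      x * b * n ∈ DoubleCoset.doubleCoset (x * n) (P.B.subgroupOf H : Set ↥H) (P.B.subgroupOf H)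
        ∪ DoubleCoset.doubleCoset n (P.B.subgroupOf H : Set ↥H) (P.B.subgroupOf H) := by
  rintro x ⟨s, hs, hx⟩ n hn b hb
  have hτ := a5_tau_mem H (P.B ⊓ P.N) hHT s
  have hsN : s ∈ P.N := P.subset hs
  have hxN : (x : G) ∈ P.N := by rw [hx]; exact P.N.mul_mem hsN hτ.2
  have hnN : (n : G) ∈ P.N := hn
  have hbB : (b : G) ∈ P.B := hb
  have hz : ((x * b * n : ↥H) : G) = s * (a5_tau H (P.B ⊓ P.N) hHT s * b) * n := by
    simp [hx, mul_assoc]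
  rcases P.mul_mem_union s hs n hnN (a5_tau H (P.B ⊓ P.N) hHT s * b)
    (P.B.mul_mem hτ.1 hbB) with h | h
  · left
    obtain ⟨b₁, hb₁, b₂, hb₂, heq⟩ := DoubleCoset.mem_doubleCoset.mp h
    have hsn : s * n = ((x * n : ↥H) : G)
        * ((n : G)⁻¹ * (a5_tau H (P.B ⊓ P.N) hHT s)⁻¹ * n) := by
      rw [Subgroup.coe_mul, hx]; group
    obtain ⟨h₁, hh₁, h₂, hh₂, hfin⟩ := a5_dc_lift P H hHT (y := ((x * n : ↥H) : G))
      (z := ((x * b * n : ↥H) : G)) (b₁ := b₁)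
      (b₂ := ((n : G)⁻¹ * (a5_tau H (P.B ⊓ P.N) hHT s)⁻¹ * n) * b₂)
      (P.N.mul_mem hxN hnN) (x * n).2 (x * b * n).2 hb₁
      (P.B.mul_mem (a5_T_conj' P hnN ((P.B ⊓ P.N).inv_mem hτ)).1 hb₂)
      (by rw [hz, heq, hsn]; simp only [mul_assoc])
    rw [DoubleCoset.mem_doubleCoset]
    exact ⟨⟨h₁, hh₁.2⟩, hh₁.1, ⟨h₂, hh₂.2⟩, hh₂.1, Subtype.ext hfin⟩
  · right
    obtain ⟨b₁, hb₁, b₂, hb₂, heq⟩ := DoubleCoset.mem_doubleCoset.mp h
    obtain ⟨h₁, hh₁, h₂, hh₂, hfin⟩ := a5_dc_lift P H hHT (y := (n : G))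
      (z := ((x * b * n : ↥H) : G)) (b₁ := b₁) (b₂ := b₂)
      hnN n.2 (x * b * n).2 hb₁ hb₂ (by rw [hz, heq])
    rw [DoubleCoset.mem_doubleCoset]
    exact ⟨⟨h₁, hh₁.2⟩, hh₁.1, ⟨h₂, hh₂.2⟩, hh₂.1, Subtype.ext hfin⟩

theorem a5_conj_ne [Finite G] (P : Cfsg.BNPair G) (H : Subgroup G) [hHn : H.Normal]
    (hHT : H ⊔ (P.B ⊓ P.N) = ⊤) :
    ∀ x ∈ a5_S P H hHT, (fun b : ↥H => x * b * x) '' (P.B.subgroupOf H : Set ↥H)
      ≠ (P.B.subgroupOf H : Set ↥H) := by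
  rintro x ⟨s, hs, hx⟩ heq
  apply P.conj_ne s hs
  have hτ := a5_tau_mem H (P.B ⊓ P.N) hHT s
  have hxN : (x : G) ∈ P.N := by rw [hx]; exact P.N.mul_mem (P.subset hs) hτ.2
  have hsub : (fun b : G => s * b * s) '' (P.B : Set G) ⊆ P.B := by
    rintro _ ⟨b, hb, rfl⟩
    obtain ⟨t, ht, hbt⟩ := a5_decomp H (P.B ⊓ P.N) hHT ((a5_tau H (P.B ⊓ P.N) hHT s)⁻¹ * b)
    have hh : (⟨(a5_tau H (P.B ⊓ P.N) hHT s)⁻¹ * b * t, hbt⟩ : ↥H) ∈ P.B.subgroupOf H :=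
      P.B.mul_mem (P.B.mul_mem (P.B.inv_mem hτ.1) hb) ht.1
    have hxhx : x * ⟨(a5_tau H (P.B ⊓ P.N) hHT s)⁻¹ * b * t, hbt⟩ * x ∈ P.B.subgroupOf H := by
      have h1 : (fun b : ↥H => x * b * x) ⟨(a5_tau H (P.B ⊓ P.N) hHT s)⁻¹ * b * t, hbt⟩
          ∈ (fun b : ↥H => x * b * x) '' (P.B.subgroupOf H : Set ↥H) :=
        Set.mem_image_of_mem _ hh
      rw [heq] at h1
      exact h1
    have hxhx' : (x : G) * ((a5_tau H (P.B ⊓ P.N) hHT s)⁻¹ * b * t) * x ∈ P.B := hxhx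
    have hform : s * b * s = ((x : G) * ((a5_tau H (P.B ⊓ P.N) hHT s)⁻¹ * b * t) * x)
        * ((x : G)⁻¹ * t⁻¹ * x) * (a5_tau H (P.B ⊓ P.N) hHT s)⁻¹ := by
      rw [hx]; group
    show s * b * s ∈ P.B
    rw [hform]
    exact P.B.mul_mem (P.B.mul_mem hxhx' (a5_T_conj' P hxN ((P.B ⊓ P.N).inv_mem ht)).1)
      (P.B.inv_mem hτ.1)
  refine Set.eq_of_subset_of_ncard_le hsub ?_ (Set.toFinite _)
  rw [Set.ncard_image_of_injective]
  intro a b hab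
  simpa using hab

/-- **K-StO leaf A5** -/
theorem exists_bnPair_subgroupOf {G : Type*} [Group G] [Finite G] (P : Cfsg.BNPair G)
    (H : Subgroup G) [H.Normal] (hHT : H ⊔ (P.B ⊓ P.N) = ⊤) :
    ∃ P' : Cfsg.BNPair ↥H, P'.B = P.B.subgroupOf H ∧ P'.N = P.N.subgroupOf H := by
  refine ⟨{ B := P.B.subgroupOf H
            N := P.N.subgroupOf H
            S := a5_S P H hHT
            sup_eq_top := a5_sup_eq_top P H hHT
            conj_mem := ?_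
            subset := ?_
            sq_mem := ?_
            inj := ?_
            closure_sup := a5_closure_sup P H hHT
            mul_mem_union := a5_mul_mem_union P H hHT
            conj_ne := a5_conj_ne P H hHT }, rfl, rfl⟩
  · intro n hn t ht
    exact P.conj_mem n hn t ⟨ht.1, ht.2⟩
  · rintro x ⟨s, hs, hx⟩
    show (x : G) ∈ P.N
    rw [hx]
    exact P.N.mul_mem (P.subset hs) (a5_tau_mem H (P.B ⊓ P.N) hHT s).2
  · rintro x ⟨s, hs, hx⟩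
    show ((x * x : ↥H) : G) ∈ P.B
    have hτ := a5_tau_mem H (P.B ⊓ P.N) hHT s
    have hform : ((x * x : ↥H) : G) = (s * s) * (s⁻¹ * a5_tau H (P.B ⊓ P.N) hHT s * s)
        * a5_tau H (P.B ⊓ P.N) hHT s := by
      rw [Subgroup.coe_mul, hx]; group
    rw [hform]
    exact P.B.mul_mem (P.B.mul_mem (P.sq_mem s hs) (a5_T_conj' P (P.subset hs) hτ).1) hτ.1
  · rintro x ⟨s, hs, hx⟩ x' ⟨s', hs', hx'⟩ hB
    have hτ := a5_tau_mem H (P.B ⊓ P.N) hHT s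
    have hτ' := a5_tau_mem H (P.B ⊓ P.N) hHT s'
    have hB' : (x : G)⁻¹ * x' ∈ P.B := hB
    have hss : s⁻¹ * s' ∈ P.B := by
      have hform : s⁻¹ * s' = a5_tau H (P.B ⊓ P.N) hHT s * ((x : G)⁻¹ * x')
          * (a5_tau H (P.B ⊓ P.N) hHT s')⁻¹ := by
        rw [hx, hx']; group
      rw [hform]
      exact P.B.mul_mem (P.B.mul_mem hτ.1 hB') (P.B.inv_mem hτ'.1)
    have hseq : s = s' := P.inj s hs s' hs' hss
    apply Subtype.ext
    rw [hx, hx', hseq]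

end Cfsg.Agent.Lib.Helper77.StO
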