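import Cfsg.Agent.Lib.Helper49.StOpDefs

/-!
# K-StOp-M1 (keystone 254813, S2548, architect helper49): the elements of `N = ⟨S⟩ T` are monomial

Core: everything except the matrices of the two kinds of reflections (leaf R0a), which enter
as hypotheses in `exists_monWith_of`.  Port of `Lib/Helper42/StOM1.lean`.
-/

set_option autoImplicit false
set_option linter.unusedSectionVars false
set_option linter.unusedVariables false

namespace Cfsg.Agent.Lib.Helper77.StOp

open Cfsg Cfsg.Agent.Lib.Helper49.StOp

variable {m : ℕ} {F : Type*} [Field F]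

theorem monWith_one : MonWith m F (1 : OG m F) 1 := by
  refine ⟨fun a b => ?_, fun a => rfl⟩
  rw [mat_one, Matrix.one_apply]
  show (if a = b then (1 : F) else 0) ≠ 0 ↔ a = b
  split_ifs with h
  · exact ⟨fun _ => h, fun _ => one_ne_zero⟩
  · exact ⟨fun h0 => absurd rfl h0, fun h1 => absurd h1 h⟩

theorem monWith_mul {n n' : OG m F} {σ σ' : Equiv.Perm (OI m)}
    (h : MonWith m F n σ) (h' : MonWith m F n' σ') : MonWith m F (n * n') (σ * σ') := by
  refine ⟨fun a b => ?_, fun a => ?_⟩
  · show mat (n * n') a b ≠ 0 ↔ a = σ (σ' b)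
    rw [mat_mul, Matrix.mul_apply]
    have e1 : ∑ c, mat n a c * mat n' c b = mat n a (σ' b) * mat n' (σ' b) b := by
      refine Finset.sum_eq_single (σ' b) (fun c _ hc => ?_) (fun hb => absurd (Finset.mem_univ _) hb)
      have h0 : mat n' c b = 0 := by
        by_contra h0
        exact hc ((h'.1 c b).1 h0)
      rw [h0, mul_zero]
    rw [e1]
    have h1 : mat n' (σ' b) b ≠ 0 := (h'.1 _ _).2 rfl
    rw [← h.1 a (σ' b)]
    constructor
    · intro h2 h3
      exact h2 (by rw [h3, zero_mul])
    · intro h2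
      exact mul_ne_zero h2 h1
  · show σ (σ' (dualE m a)) = dualE m (σ (σ' a))
    rw [h'.2, h.2]

theorem monWith_inv {n : OG m F} {σ : Equiv.Perm (OI m)}
    (h : MonWith m F n σ) : MonWith m F n⁻¹ σ⁻¹ := by
  have key : mat n⁻¹ * mat n = 1 := mat_inv_mul_mat n
  have ent : ∀ a b, mat n⁻¹ a (σ b) * mat n (σ b) b = (1 : Matrix (OI m) (OI m) F) a b := by
    intro a b
    have hc := congrFun (congrFun key a) b
    rw [Matrix.mul_apply] at hc
    rw [← hc]
    symm
    refine Finset.sum_eq_single (σ b) (fun c _ hc' => ?_) (fun hb => absurd (Finset.mem_univ _) hb)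
    have h0 : mat n c b = 0 := by
      by_contra h0
      exact hc' ((h.1 c b).1 h0)
    rw [h0, mul_zero]
  refine ⟨fun a c => ?_, fun a => ?_⟩
  · obtain ⟨b, rfl⟩ := σ.surjective c
    have h1 : mat n (σ b) b ≠ 0 := (h.1 _ _).2 rfl
    have h2 := ent a b
    rw [Matrix.one_apply] at h2
    rw [Equiv.Perm.coe_inv, Equiv.symm_apply_apply]
    constructor
    · intro h3
      by_contra hab
      rw [if_neg hab] at h2
      rcases mul_eq_zero.1 h2 with h4 | h4
      · exact h3 h4
      · exact h1 h4
    · intro hab h3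
      rw [if_pos hab, h3, zero_mul] at h2
      exact zero_ne_one h2
  · apply σ.injective
    rw [h.2]
    simp only [Equiv.Perm.coe_inv, Equiv.apply_symm_apply]

/-- diagonal isometries are monomial -/
theorem monWith_of_mem_T {t : OG m F} (ht : t ∈ Tsub m F) : MonWith m F t 1 := by
  rw [mem_Tsub_iff] at ht
  refine ⟨fun a b => ?_, fun a => rfl⟩
  show mat t a b ≠ 0 ↔ a = b
  constructor
  · intro h
    by_contra hab
    exact h (ht a b hab)
  · rintro rfl h0
    have key : mat t * mat t⁻¹ = 1 := mat_mul_mat_inv t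
    have hc := congrFun (congrFun key a) a
    rw [Matrix.mul_apply, Matrix.one_apply_eq] at hc
    have : ∑ c, mat t a c * mat t⁻¹ c a = 0 := by
      refine Finset.sum_eq_zero fun c _ => ?_
      by_cases hca : a = c
      · subst hca
        rw [h0, zero_mul]
      · rw [ht a c hca, zero_mul]
    rw [this] at hc
    exact zero_ne_one hc

/-- an element whose matrix is a permutation matrix (of a permutation commuting with the duality)
is monomial -/
theorem monWith_of_permMatrix (n : OG m F) (σ : Equiv.Perm (OI m))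
    (h : mat n = σ.permMatrix F) (hd : ∀ a, σ (dualE m a) = dualE m (σ a)) :
    MonWith m F n σ⁻¹ := by
  refine ⟨fun a b => ?_, fun a => ?_⟩
  · rw [h]
    simp only [Equiv.Perm.permMatrix, PEquiv.toMatrix_apply, Equiv.toPEquiv_apply,
      Option.mem_def, Option.some.injEq]
    rw [Equiv.Perm.eq_inv_iff_eq]
    split_ifs with h1
    · exact ⟨fun _ => h1, fun _ => one_ne_zero⟩
    · exact ⟨fun h0 => absurd rfl h0, fun h2 => absurd h2 h1⟩
  · apply σ.injective
    rw [hd]
    simp only [Equiv.Perm.coe_inv, Equiv.apply_symm_apply]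

theorem swapE_dualE (i j : Fin m) (a : OI m) :
    swapE m i j (dualE m a) = dualE m (swapE m i j a) := by
  rcases a with a | a <;> rfl

theorem dualE_conj_swap (a b c : OI m) :
    dualE m (Equiv.swap a b c) = Equiv.swap (dualE m a) (dualE m b) (dualE m c) := by
  rw [Equiv.swap_apply_apply]
  simp only [Equiv.Perm.mul_apply, Equiv.Perm.coe_inv, Equiv.symm_apply_apply]

theorem crossE_dualE (i j : Fin m) (a : OI m) :
    crossE m i j (dualE m a) = dualE m (crossE m i j a) := by
  by_cases hij : i = j
  · subst hij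
    have : crossE m i i = 1 := by
      unfold crossE
      exact Equiv.swap_mul_self _ _
    rw [this]
    rfl
  · have hdisj : Equiv.swap (eI i) (fI j) * Equiv.swap (eI j) (fI i)
        = Equiv.swap (eI j) (fI i) * Equiv.swap (eI i) (fI j) := by
      apply Equiv.Perm.Disjoint.commute
      rw [Equiv.Perm.disjoint_iff_disjoint_support]
      rw [Equiv.Perm.support_swap (by simp), Equiv.Perm.support_swap (by simp)]
      simp only [Finset.disjoint_insert_left, Finset.mem_insert, Finset.mem_singleton,
        Finset.disjoint_singleton_left, Sum.inl.injEq, Sum.inr.injEq, reduceCtorEq, or_false,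
        false_or]
      exact ⟨hij, fun h => hij h.symm⟩
    show (Equiv.swap (eI i) (fI j) * Equiv.swap (eI j) (fI i)) (dualE m a)
      = dualE m ((Equiv.swap (eI i) (fI j) * Equiv.swap (eI j) (fI i)) a)
    conv_rhs => rw [hdisj]
    simp only [Equiv.Perm.mul_apply]
    rw [dualE_conj_swap, dualE_conj_swap]
    simp only [dualE_eI, dualE_fI]
    rw [Equiv.swap_comm (fI j) (eI i), Equiv.swap_comm (fI i) (eI j)]

/-- the subgroup of monomial elements -/
def monSub (m : ℕ) (F : Type*) [Field F] : Subgroup (OG m F) where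
  carrier := {n | ∃ σ : Equiv.Perm (OI m), MonWith m F n σ}
  mul_mem' := by
    rintro a b ⟨σ, h⟩ ⟨σ', h'⟩
    exact ⟨σ * σ', monWith_mul h h'⟩
  one_mem' := ⟨1, monWith_one⟩
  inv_mem' := by
    rintro a ⟨σ, h⟩
    exact ⟨σ⁻¹, monWith_inv h⟩

/-- **LEAF M1 (254813)**, with the matrices of the reflections (leaf R0a) as hypotheses. -/
theorem exists_monWith_of
    (hS : ∀ i j : Fin m, mat (sShort m F i j) = sShortMat m F i j)
    (hC : ∀ i j : Fin m, mat (sCross m F i j) = sCrossMat m F i j)
    (n : OG m F) (hn : n ∈ Nsub m F) :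
    ∃ σ : Equiv.Perm (OI m), MonWith m F n σ := by
  have hle : Nsub m F ≤ monSub m F := by
    unfold Nsub
    apply sup_le
    · rw [Subgroup.closure_le]
      rintro s (⟨i, hi, rfl⟩ | ⟨hm, rfl⟩)
      · exact ⟨_, monWith_of_permMatrix _ _ (hS i (nxt i hi)) (swapE_dualE i (nxt i hi))⟩
      · exact ⟨_, monWith_of_permMatrix _ _ (hC (prevF hm) (lastF (by omega)))
          (crossE_dualE (prevF hm) (lastF (by omega)))⟩
    · intro t ht
      exact ⟨1, monWith_of_mem_T ht⟩
  exact hle hn

end Cfsg.Agent.Lib.Helper77.StOp
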