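import Mathlib
import Cfsg.Agent.Lib.Helper12.Supersolvable
import Cfsg.Agent.Lib.Helper14.Eigen

/-!
# Normal `q`-subgroups on which the group acts "strictly `q`-closed"

If `Q ⊴ G` is a `q`-group and `B ⊴ G` is such that `G/B` is abelian of exponent dividing `q - 1`
and all `q'`-elements of `B` centralize `Q`, then there is a chain of normal subgroups of `G`
from `1` to `Q` with cyclic steps.
-/

set_option autoImplicit false

namespace Cfsg.Agent.Lib.Helper77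

open Subgroup Cfsg.Agent.Lib.Helper12 Cfsg.Agent.Lib.Helper14

universe u

/-- If `G` acts on a nontrivial normal elementary abelian `p`-subgroup `N` through an abelian
group of exponent dividing `p - 1`, then some nontrivial element of `N` generates a normal
subgroup. -/
theorem exists_normal_zpowers_le {G : Type*} [Group G] [Finite G] {p : ℕ} [Fact p.Prime]
    (N : Subgroup G) [hNn : N.Normal] (hN : N ≠ ⊥) (hcomm : ∀ a ∈ N, ∀ b ∈ N, a * b = b * a)
    (hexp : ∀ a ∈ N, a ^ p = 1)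
    (hc : ∀ g h : G, ∀ n ∈ N, (g * h * g⁻¹ * h⁻¹) * n * (g * h * g⁻¹ * h⁻¹)⁻¹ = n)
    (hpow : ∀ g : G, ∀ n ∈ N, g ^ (p - 1) * n * (g ^ (p - 1))⁻¹ = n) :
    ∃ x ∈ N, x ≠ 1 ∧ (Subgroup.zpowers x).Normal := by
  classical
  obtain ⟨N₀, hN₀⟩ := Set.Finite.exists_minimal
    (s := {S : Subgroup G | S.Normal ∧ S ≠ ⊥ ∧ S ≤ N}) (Set.toFinite _) ⟨N, hNn, hN, le_refl _⟩
  obtain ⟨hN₀n, hN₀ne, hN₀N⟩ := hN₀.1
  have hmin : ∀ S : Subgroup G, S.Normal → S ≠ ⊥ → S ≤ N₀ → N₀ ≤ S :=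
    fun S h1 h2 h3 => hN₀.2 ⟨h1, h2, h3.trans hN₀N⟩ h3
  have hstep : ∀ g : G, ∃ k : ℕ, ∀ n ∈ N₀, g * n * g⁻¹ = n ^ k := by
    intro g
    let _ : CommGroup ↥N₀ :=
      { (inferInstance : Group ↥N₀) with
        mul_comm := fun a b => Subtype.ext (hcomm a (hN₀N a.2) b (hN₀N b.2)) }
    have hnt : Nontrivial ↥N₀ := (Subgroup.nontrivial_iff_ne_bot N₀).mpr hN₀ne
    let T : ↥N₀ →* ↥N₀ := (MulAut.conjNormal g : MulAut N₀).toMonoidHom
    have hTcoe : ∀ n : ↥N₀, ((T n : ↥N₀) : G) = g * n * g⁻¹ := fun n => rfl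
    have hexp' : ∀ n : ↥N₀, n ^ p = 1 := fun n => Subtype.ext (hexp n (hN₀N n.2))
    have hiter : ∀ (j : ℕ) (n : ↥N₀), ((T^[j] n : ↥N₀) : G) = g ^ j * n * (g ^ j)⁻¹ := by
      intro j
      induction j with
      | zero => intro n; simp
      | succ j ih =>
        intro n
        rw [Function.iterate_succ_apply', hTcoe, ih, pow_succ']; group
    have hT : ∀ n : ↥N₀, T^[p - 1] n = n := by
      intro n
      apply Subtype.ext
      rw [hiter]
      exact hpow g n (hN₀N n.2)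
    obtain ⟨k, n₁, hn₁, hTn₁⟩ := exists_pow_eigen hexp' T hT
    refine ⟨k, ?_⟩
    let E : Subgroup G :=
      { carrier := {n | n ∈ N₀ ∧ g * n * g⁻¹ = n ^ k}
        one_mem' := ⟨one_mem _, by simp⟩
        mul_mem' := by
          rintro a b ⟨ha, ha'⟩ ⟨hb, hb'⟩
          refine ⟨mul_mem ha hb, ?_⟩
          have hcab : Commute a b := hcomm a (hN₀N ha) b (hN₀N hb)
          rw [hcab.mul_pow, ← ha', ← hb']; group
        inv_mem' := by
          rintro a ⟨ha, ha'⟩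
          refine ⟨inv_mem ha, ?_⟩
          rw [inv_pow, ← ha']; group }
    have hEn : E.Normal := by
      constructor
      rintro n ⟨hn, hn'⟩ h
      refine ⟨hN₀n.conj_mem n hn h, ?_⟩
      have hcc := hc g⁻¹ h⁻¹ n (hN₀N hn)
      have e1 : g * (h * n * h⁻¹) * g⁻¹ =
          h * (g * ((g⁻¹ * h⁻¹ * g⁻¹⁻¹ * h⁻¹⁻¹) * n * (g⁻¹ * h⁻¹ * g⁻¹⁻¹ * h⁻¹⁻¹)⁻¹) * g⁻¹) * h⁻¹ := by
        group
      rw [e1, hcc, hn', conj_pow]
    have hEne : E ≠ ⊥ := by
      intro hbot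
      have hmem : (n₁ : G) ∈ E := by
        refine ⟨n₁.2, ?_⟩
        have := congrArg (Subtype.val) hTn₁
        rw [hTcoe] at this
        rw [this]; rfl
      rw [hbot, Subgroup.mem_bot] at hmem
      exact hn₁ (Subtype.ext hmem)
    have hEle : E ≤ N₀ := fun n hn => hn.1
    intro n hn
    exact (hmin E hEn hEne hEle hn).2
  obtain ⟨n₀, hn₀, hn₀1⟩ : ∃ n₀ ∈ N₀, n₀ ≠ 1 := by
    obtain ⟨n, hn⟩ := (Subgroup.ne_bot_iff_exists_ne_one).mp hN₀ne
    exact ⟨(n : G), n.2, fun h1 => hn (Subtype.ext h1)⟩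
  refine ⟨n₀, hN₀N hn₀, hn₀1, ?_⟩
  constructor
  intro y hy g
  obtain ⟨i, rfl⟩ := Subgroup.mem_zpowers_iff.mp hy
  obtain ⟨k, hk⟩ := hstep g
  have h1 : g * n₀ ^ i * g⁻¹ = (g * n₀ * g⁻¹) ^ i := by rw [conj_zpow]
  rw [h1, hk n₀ hn₀]
  exact Subgroup.zpow_mem _ (Subgroup.pow_mem _ (Subgroup.mem_zpowers n₀) k) i

section fixed

variable {G : Type*} [Group G]

/-- Some `q`-power of any element of a finite group has order prime to `q`. -/
theorem exists_pow_prime_pow_coprime [Finite G] {q : ℕ} [hq : Fact q.Prime] (b : G) :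
    ∃ k : ℕ, (orderOf (b ^ q ^ k)).Coprime q := by
  obtain ⟨e, m, hm, hob⟩ := Nat.exists_eq_pow_mul_and_not_dvd (orderOf_pos b).ne' q hq.out.ne_one
  refine ⟨e, ?_⟩
  have h1 : (b ^ q ^ e) ^ m = 1 := by rw [← pow_mul, ← hob, pow_orderOf_eq_one]
  have h2 : orderOf (b ^ q ^ e) ∣ m := orderOf_dvd_of_pow_eq_one h1
  have h3 : m.Coprime q := ((Nat.Prime.coprime_iff_not_dvd hq.out).mpr hm).symm
  exact Nat.Coprime.coprime_dvd_left h2 h3

/-- `Ω₁(Z(Q))`. -/
def omegaZ (q : ℕ) (Q : Subgroup G) : Subgroup G where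
  carrier := {x | x ∈ Q ∧ (∀ y ∈ Q, x * y = y * x) ∧ x ^ q = 1}
  one_mem' := ⟨one_mem _, fun y _ => by rw [one_mul, mul_one], one_pow _⟩
  mul_mem' := by
    rintro x y ⟨hx1, hx2, hx3⟩ ⟨hy1, hy2, hy3⟩
    refine ⟨mul_mem hx1 hy1, fun z hz => ?_, ?_⟩
    · rw [mul_assoc, hy2 z hz, ← mul_assoc, hx2 z hz, mul_assoc]
    · have hc : Commute x y := hx2 y hy1
      rw [hc.mul_pow, hx3, hy3, one_mul]
  inv_mem' := by
    rintro x ⟨hx1, hx2, hx3⟩
    refine ⟨inv_mem hx1, fun z hz => ?_, by rw [inv_pow, hx3, inv_one]⟩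
    have h := hx2 z hz
    have h1 : x⁻¹ * z = x⁻¹ * (z * x) * x⁻¹ := by group
    rw [h1, ← h]; group

theorem omegaZ_le (q : ℕ) (Q : Subgroup G) : omegaZ q Q ≤ Q := fun _ hx => hx.1

theorem omegaZ_normal (q : ℕ) (Q : Subgroup G) [hQ : Q.Normal] : (omegaZ q Q).Normal := by
  constructor
  rintro x ⟨hx1, hx2, hx3⟩ g
  refine ⟨hQ.conj_mem x hx1 g, fun y hy => ?_, by rw [conj_pow, hx3]; group⟩
  have h1 := hx2 (g⁻¹ * y * g) (by
    have := hQ.conj_mem y hy g⁻¹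
    simpa using this)
  have h2 : g * x * g⁻¹ * y = g * (x * (g⁻¹ * y * g)) * g⁻¹ := by group
  rw [h2, h1]; group

theorem omegaZ_ne_bot {q : ℕ} [Fact q.Prime] {Q : Subgroup G} [Finite Q]
    (hQq : IsPGroup q Q) (hQ : Q ≠ ⊥) : omegaZ q Q ≠ ⊥ := by
  have hnt : Nontrivial Q := (Subgroup.nontrivial_iff_ne_bot Q).mpr hQ
  have hcn : Nontrivial (Subgroup.center Q) := hQq.center_nontrivial
  have hcard : q ∣ Nat.card (Subgroup.center Q) := by
    obtain ⟨k, hk⟩ := IsPGroup.iff_card.mp (hQq.to_subgroup (Subgroup.center Q))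
    rw [hk]
    apply dvd_pow_self
    rintro rfl
    rw [pow_zero] at hk
    have := Finite.one_lt_card_iff_nontrivial.mpr hcn
    omega
  obtain ⟨z, hz⟩ := exists_prime_orderOf_dvd_card' q hcard
  intro hbot
  have hzmem : ((z : Q) : G) ∈ omegaZ q Q := by
    refine ⟨(z : Q).2, ?_, ?_⟩
    · intro y hy
      have := Subgroup.mem_center_iff.mp z.2 ⟨y, hy⟩
      exact (congrArg Subtype.val this).symm
    · have h1 : z ^ q = 1 := by rw [← hz]; exact pow_orderOf_eq_one z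
      have h2 := congrArg (fun w : Subgroup.center Q => ((w : Q) : G)) h1
      simpa using h2
  rw [hbot, Subgroup.mem_bot] at hzmem
  have hz1 : z = 1 := by
    apply Subtype.ext
    apply Subtype.ext
    exact hzmem
  rw [hz1, orderOf_one] at hz
  exact (Fact.out : q.Prime).one_lt.ne hz

/-- A group `B` all of whose elements act on the nontrivial normal `q`-subgroup `Z` with
`q`-power order fixes a nontrivial element of `Z`. -/
theorem exists_fixed_ne_one [Finite G] {q : ℕ} [hq : Fact q.Prime] (Z B : Subgroup G)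
    [hZ : Z.Normal] (hZq : IsPGroup q Z) (hZne : Z ≠ ⊥)
    (hB : ∀ b ∈ B, ∃ k : ℕ, ∀ x ∈ Z, b ^ q ^ k * x = x * b ^ q ^ k) :
    ∃ x ∈ Z, x ≠ 1 ∧ ∀ b ∈ B, b * x = x * b := by
  let φ : ↥B →* MulAut ↥Z := (MulAut.conjNormal (H := Z)).comp B.subtype
  have hφ : ∀ (b : ↥B) (x : ↥Z), ((φ b x : ↥Z) : G) = (b : G) * x * (b : G)⁻¹ := fun b x => rfl
  have hA : IsPGroup q ↥φ.range := by
    rintro ⟨σ, b, rfl⟩
    obtain ⟨k, hk⟩ := hB b b.2
    refine ⟨k, ?_⟩
    apply Subtype.ext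
    show (φ b) ^ q ^ k = 1
    rw [← map_pow]
    ext x
    rw [hφ, MulAut.one_apply]
    have h1 := hk x x.2
    have h2 : ((b ^ q ^ k : ↥B) : G) = (b : G) ^ q ^ k := by simp
    rw [h2, h1]; group
  have hmod := hA.card_modEq_card_fixedPoints ↥Z
  have hqZ : q ∣ Nat.card ↥Z := by
    obtain ⟨m, hm⟩ := IsPGroup.iff_card.mp hZq
    rw [hm]
    apply dvd_pow_self
    rintro rfl
    rw [pow_zero] at hm
    exact hZne (Subgroup.eq_bot_of_card_eq Z hm)
  have hqF : q ∣ Nat.card (MulAction.fixedPoints ↥φ.range ↥Z) := by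
    rw [← Nat.modEq_zero_iff_dvd]
    exact hmod.symm.trans (Nat.modEq_zero_iff_dvd.mpr hqZ)
  have h1mem : (1 : ↥Z) ∈ MulAction.fixedPoints ↥φ.range ↥Z := by
    rintro ⟨σ, hσ⟩
    show σ 1 = 1
    exact map_one σ
  have hnt : Nontrivial (MulAction.fixedPoints ↥φ.range ↥Z) := by
    rw [← Finite.one_lt_card_iff_nontrivial]
    have hpos : 0 < Nat.card (MulAction.fixedPoints ↥φ.range ↥Z) :=
      Nat.card_pos_iff.mpr ⟨⟨⟨1, h1mem⟩⟩, inferInstance⟩
    have := Nat.le_of_dvd hpos hqF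
    have := hq.out.two_le
    omega
  obtain ⟨⟨x, hx⟩, hx1⟩ := exists_ne (⟨1, h1mem⟩ : MulAction.fixedPoints ↥φ.range ↥Z)
  refine ⟨(x : G), x.2, fun h => hx1 (Subtype.ext (Subtype.ext h)), fun b hb => ?_⟩
  have h2 := hx ⟨φ ⟨b, hb⟩, ⟨b, hb⟩, rfl⟩
  have h3 : φ ⟨b, hb⟩ x = x := h2
  have h4 := congrArg Subtype.val h3
  rw [hφ] at h4
  have h5 : b * (x : G) = b * (x : G) * b⁻¹ * b := by group
  rw [h5]
  exact congrArg (· * b) h4

end fixed

/-- **Chain lemma.** Let `Q ⊴ G` be a `q`-group and `B ⊴ G` with `G/B` abelian of exponent dividing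
`q - 1` such that every `q'`-element of `B` centralizes `Q`. Then there is a chain of normal
subgroups of `G` with cyclic steps from `1` to `Q`. -/
theorem chain_of_strict (q : ℕ) [hq : Fact q.Prime] : ∀ (n : ℕ) (G : Type u) [Group G] [Finite G]
    (Q B : Subgroup G), Q.Normal → B.Normal → Nat.card Q = n → IsPGroup q Q →
    (∀ g ∈ B, (orderOf g).Coprime q → ∀ x ∈ Q, g * x = x * g) →
    (∀ g h : G, g * h * g⁻¹ * h⁻¹ ∈ B) → (∀ g : G, g ^ (q - 1) ∈ B) →
    Chain (⊥ : Subgroup G) Q := by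
  intro n
  induction n using Nat.strong_induction_on with
  | _ n ih =>
  intro G _ _ Q B hQn hBn hn hQq hB1 hB2 hB3
  by_cases hQb : Q = ⊥
  · rw [hQb]; exact Chain.refl _
  haveI := hQn
  haveI := hBn
  haveI : (omegaZ q Q).Normal := omegaZ_normal q Q
  have hZ₁ne : omegaZ q Q ≠ ⊥ := omegaZ_ne_bot hQq hQb
  have hZ₁q : IsPGroup q (omegaZ q Q) := hQq.to_le (omegaZ_le q Q)
  obtain ⟨x₀, hx₀Z, hx₀1, hx₀B⟩ := exists_fixed_ne_one (omegaZ q Q) B hZ₁q hZ₁ne (by
    intro b hb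
    obtain ⟨k, hk⟩ := exists_pow_prime_pow_coprime (q := q) b
    exact ⟨k, fun x hx => hB1 _ (B.pow_mem hb _) hk x (omegaZ_le q Q hx)⟩)
  let W : Subgroup G :=
    { carrier := {x | x ∈ omegaZ q Q ∧ ∀ b ∈ B, b * x = x * b}
      one_mem' := ⟨one_mem _, fun b _ => by rw [mul_one, one_mul]⟩
      mul_mem' := by
        rintro x y ⟨hx1, hx2⟩ ⟨hy1, hy2⟩
        refine ⟨mul_mem hx1 hy1, fun b hb => ?_⟩
        rw [← mul_assoc, hx2 b hb, mul_assoc, hy2 b hb, mul_assoc]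
      inv_mem' := by
        rintro x ⟨hx1, hx2⟩
        refine ⟨inv_mem hx1, fun b hb => ?_⟩
        have h := hx2 b hb
        have h1 : b * x⁻¹ = x⁻¹ * (x * b) * x⁻¹ := by group
        rw [h1, ← h]; group }
  have hWmem : ∀ x, x ∈ W ↔ x ∈ omegaZ q Q ∧ ∀ b ∈ B, b * x = x * b := fun x => Iff.rfl
  have hWn : W.Normal := by
    constructor
    intro x hx g
    rw [hWmem] at hx ⊢
    obtain ⟨hx1, hx2⟩ := hx
    refine ⟨(omegaZ_normal q Q).conj_mem x hx1 g, fun b hb => ?_⟩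
    have h1 := hx2 (g⁻¹ * b * g) (by have := hBn.conj_mem b hb g⁻¹; simpa using this)
    have h2 : b * (g * x * g⁻¹) = g * ((g⁻¹ * b * g) * x) * g⁻¹ := by group
    rw [h2, h1]; group
  have hWne : W ≠ ⊥ := by
    intro h
    have : x₀ ∈ W := ⟨hx₀Z, hx₀B⟩
    rw [h, Subgroup.mem_bot] at this
    exact hx₀1 this
  have hWQ : W ≤ Q := fun x hx => omegaZ_le q Q hx.1
  obtain ⟨x, hxW, hx1, hxn⟩ := exists_normal_zpowers_le (p := q) W hWne
    (fun a ha b hb => ha.1.2.1 b (hWQ hb))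
    (fun a ha => ha.1.2.2)
    (fun g h n hn => by
      have := hn.2 _ (hB2 g h)
      rw [this]; group)
    (fun g n hn => by
      have := hn.2 _ (hB3 g)
      rw [this]; group)
  have hxQ : x ∈ Q := hWQ hxW
  have hNQ : Subgroup.zpowers x ≤ Q := by rw [Subgroup.zpowers_le]; exact hxQ
  haveI : (Subgroup.zpowers x).Normal := hxn
  have hf : Function.Surjective (QuotientGroup.mk' (Subgroup.zpowers x)) :=
    QuotientGroup.mk'_surjective _
  have hker : (QuotientGroup.mk' (Subgroup.zpowers x)).ker = Subgroup.zpowers x :=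
    QuotientGroup.ker_mk' _
  have hcard : Nat.card (Q.map (QuotientGroup.mk' (Subgroup.zpowers x))) *
      Nat.card (Subgroup.zpowers x) = Nat.card Q := by
    have h1 : (Q.map (QuotientGroup.mk' (Subgroup.zpowers x))).index = Q.index :=
      Subgroup.index_map_eq Q hf (by rw [hker]; exact hNQ)
    have h2 := Subgroup.card_mul_index (Q.map (QuotientGroup.mk' (Subgroup.zpowers x)))
    have h3 := Subgroup.card_mul_index Q
    have h4 : Nat.card G = Nat.card (G ⧸ Subgroup.zpowers x) * Nat.card (Subgroup.zpowers x) :=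
      Subgroup.card_eq_card_quotient_mul_card_subgroup _
    have hidx : 0 < Q.index := Nat.pos_of_ne_zero Subgroup.index_ne_zero_of_finite
    rw [h1] at h2
    have h5 : Nat.card Q * Q.index =
        (Nat.card (Q.map (QuotientGroup.mk' (Subgroup.zpowers x))) *
          Nat.card (Subgroup.zpowers x)) * Q.index := by
      rw [h3, h4, ← h2]; ring
    exact (Nat.eq_of_mul_eq_mul_right hidx h5).symm
  have hNcard : 2 ≤ Nat.card (Subgroup.zpowers x) := by
    rw [Nat.card_zpowers]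
    have h1 : orderOf x ≠ 1 := fun h => hx1 (orderOf_eq_one_iff.mp h)
    have h2 : 0 < orderOf x := orderOf_pos x
    omega
  have hlt : Nat.card (Q.map (QuotientGroup.mk' (Subgroup.zpowers x))) < n := by
    rw [← hn, ← hcard]
    have : 0 < Nat.card (Q.map (QuotientGroup.mk' (Subgroup.zpowers x))) := Nat.card_pos
    nlinarith
  have key := ih _ hlt (G ⧸ Subgroup.zpowers x) (Q.map (QuotientGroup.mk' (Subgroup.zpowers x)))
    (B.map (QuotientGroup.mk' (Subgroup.zpowers x))) (hQn.map _ hf) (hBn.map _ hf) rfl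
    (hQq.map _)
    (by
      rintro gb ⟨b, hb, rfl⟩ hgb xb ⟨y, hy, rfl⟩
      obtain ⟨k, hk⟩ := exists_pow_prime_pow_coprime (q := q) b
      have hcop : (q ^ k).Coprime (orderOf (QuotientGroup.mk' (Subgroup.zpowers x) b)) :=
        Nat.Coprime.pow_left k hgb.symm
      obtain ⟨m, hm⟩ := exists_pow_eq_self_of_coprime hcop
      have hb' : (b ^ q ^ k) ^ m ∈ B := B.pow_mem (B.pow_mem hb _) _
      have hb'o : (orderOf ((b ^ q ^ k) ^ m)).Coprime q :=
        Nat.Coprime.coprime_dvd_left (orderOf_pow_dvd m) hk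
      have hfb' : QuotientGroup.mk' (Subgroup.zpowers x) ((b ^ q ^ k) ^ m) =
          QuotientGroup.mk' (Subgroup.zpowers x) b := by
        rw [map_pow, map_pow]; exact hm
      have h1 := hB1 _ hb' hb'o y hy
      rw [← hfb', ← map_mul, ← map_mul, h1])
    (by
      intro gb hb
      obtain ⟨g, rfl⟩ := hf gb
      obtain ⟨h, rfl⟩ := hf hb
      exact ⟨g * h * g⁻¹ * h⁻¹, hB2 g h, by simp⟩)
    (by
      intro gb
      obtain ⟨g, rfl⟩ := hf gb
      exact ⟨g ^ (q - 1), hB3 g, by simp⟩)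
  have c1 : Chain (⊥ : Subgroup G) (Subgroup.zpowers x) := chain_bot_of_isCyclic _
  have c2 := key.comap (QuotientGroup.mk' (Subgroup.zpowers x)) hf
  have e1 : (⊥ : Subgroup (G ⧸ Subgroup.zpowers x)).comap
      (QuotientGroup.mk' (Subgroup.zpowers x)) = Subgroup.zpowers x := by
    rw [MonoidHom.comap_bot, hker]
  have e2 : (Q.map (QuotientGroup.mk' (Subgroup.zpowers x))).comap
      (QuotientGroup.mk' (Subgroup.zpowers x)) = Q := by
    rw [QuotientGroup.comap_map_mk', sup_eq_right.mpr hNQ]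
  rw [e1, e2] at c2
  exact c1.trans c2

/-- Consequence: with `G/Q` supersolvable, `G` is supersolvable. -/
theorem isSupersolvable_of_strict {G : Type u} [Group G] [Finite G] (q : ℕ) [hq : Fact q.Prime]
    (Q B : Subgroup G) [hQn : Q.Normal] [hBn : B.Normal] (hQq : IsPGroup q Q)
    (hB1 : ∀ g ∈ B, (orderOf g).Coprime q → ∀ x ∈ Q, g * x = x * g)
    (hB2 : ∀ g h : G, g * h * g⁻¹ * h⁻¹ ∈ B) (hB3 : ∀ g : G, g ^ (q - 1) ∈ B)
    (h : Cfsg.IsSupersolvable (G ⧸ Q)) : Cfsg.IsSupersolvable G := by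
  apply isSupersolvable_of_ker_chain (QuotientGroup.mk' Q) (QuotientGroup.mk'_surjective Q) _ h
  rw [QuotientGroup.ker_mk']
  exact chain_of_strict q _ G Q B hQn hBn rfl hQq hB1 hB2 hB3

end Cfsg.Agent.Lib.Helper77
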