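import Mathlib

set_option autoImplicit false

namespace Cfsg.Agent.Lib.Helper77

open scoped Pointwise

/-- If `H` is a normal subgroup of index prime to `p`, every Sylow `p`-subgroup lies in `H`. -/
theorem sylow_le_of_normal_of_not_dvd_index {G : Type*} [Group G] [Finite G] {p : ℕ} [Fact p.Prime]
    (H : Subgroup G) [H.Normal] (hp : ¬ p ∣ H.index) (P : Sylow p G) : (P : Subgroup G) ≤ H := by
  intro z hz
  rw [← QuotientGroup.eq_one_iff (N := H), ← orderOf_eq_one_iff]
  have h1 : orderOf (QuotientGroup.mk z : G ⧸ H) ∣ orderOf z :=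
    orderOf_dvd_of_pow_eq_one (by rw [← QuotientGroup.mk_pow, pow_orderOf_eq_one]; rfl)
  obtain ⟨k, hk⟩ := P.isPGroup' ⟨z, hz⟩
  have hk' : z ^ p ^ k = 1 := by
    have := congrArg Subtype.val hk
    simpa using this
  have h2 : orderOf (QuotientGroup.mk z : G ⧸ H) ∣ p ^ k :=
    h1.trans (orderOf_dvd_of_pow_eq_one hk')
  have h3 : orderOf (QuotientGroup.mk z : G ⧸ H) ∣ H.index := by
    have : H.index = Nat.card (G ⧸ H) := rfl
    rw [this]
    exact orderOf_dvd_natCard _
  have hcop : Nat.Coprime (p ^ k) H.index :=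
    Nat.Coprime.pow_left k ((Nat.Prime.coprime_iff_not_dvd Fact.out).mpr hp)
  exact Nat.eq_one_of_dvd_coprimes hcop h2 h3

/-- A normal subgroup of index prime to `p` has the same number of Sylow `p`-subgroups. -/
theorem card_sylow_of_normal_of_not_dvd_index {G : Type*} [Group G] [Finite G] {p : ℕ}
    [Fact p.Prime] (H : Subgroup G) [H.Normal] (hp : ¬ p ∣ H.index) :
    Nat.card (Sylow p H) = Nat.card (Sylow p G) := by
  symm
  refine Nat.card_congr (Equiv.ofBijective
    (fun P : Sylow p G => P.subtype (sylow_le_of_normal_of_not_dvd_index H hp P)) ⟨?_, ?_⟩)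
  · intro P Q h
    exact Sylow.subtype_injective h
  · intro Q
    obtain ⟨Q', hQ'⟩ := Sylow.exists_comap_subtype_eq Q
    refine ⟨Q', ?_⟩
    apply Sylow.ext
    rw [Sylow.coe_subtype]
    exact hQ'

/-- Passing to the quotient by the centre does not change the number of Sylow `p`-subgroups. -/
theorem card_sylow_quotient_center {K : Type*} [Group K] [Finite K] (p : ℕ) [Fact p.Prime] :
    Nat.card (Sylow p (K ⧸ Subgroup.center K)) = Nat.card (Sylow p K) := by
  symm
  have hf : Function.Surjective (QuotientGroup.mk' (Subgroup.center K)) :=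
    QuotientGroup.mk'_surjective _
  refine Nat.card_congr (Equiv.ofBijective
    (fun P : Sylow p K => P.mapSurjective hf) ⟨?_, Sylow.mapSurjective_surjective hf p⟩)
  intro P Q h
  have h1 : (P : Subgroup K).map (QuotientGroup.mk' (Subgroup.center K)) =
      (Q : Subgroup K).map (QuotientGroup.mk' (Subgroup.center K)) := by
    have := congrArg (fun R : Sylow p (K ⧸ Subgroup.center K) => R.toSubgroup) h
    simpa using this
  have h2 : (P : Subgroup K) ⊔ Subgroup.center K = (Q : Subgroup K) ⊔ Subgroup.center K := by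
    have := congrArg (Subgroup.comap (QuotientGroup.mk' (Subgroup.center K))) h1
    rwa [Subgroup.comap_map_eq, Subgroup.comap_map_eq, QuotientGroup.ker_mk'] at this
  -- both are Sylow subgroups of L = P ⊔ Z, and P is normal there
  have hPL : (P : Subgroup K) ≤ (P : Subgroup K) ⊔ Subgroup.center K := le_sup_left
  have hQL : (Q : Subgroup K) ≤ (P : Subgroup K) ⊔ Subgroup.center K := h2 ▸ le_sup_left
  have hLN : (P : Subgroup K) ⊔ Subgroup.center K ≤ Subgroup.normalizer ((P : Subgroup K) : Set K) := by
    refine sup_le Subgroup.le_normalizer ?_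
    intro z hz
    rw [Subgroup.mem_normalizer_iff]
    intro h
    have : z * h * z⁻¹ = h := by
      rw [(Subgroup.mem_center_iff.mp hz h).symm, mul_inv_cancel_right]
    rw [this]
  have hnormal : ((P.subtype hPL).toSubgroup).Normal := by
    rw [Sylow.coe_subtype]
    exact (Subgroup.normal_subgroupOf_iff_le_normalizer hPL).mpr hLN
  have huniq := Sylow.unique_of_normal (P.subtype hPL) hnormal
  have : P.subtype hPL = Q.subtype hQL := Subsingleton.elim _ _
  exact Sylow.subtype_injective this

end Cfsg.Agent.Lib.Helper77
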