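import Mathlib
import Cfsg.Agent.Lib.Helper77.SimpleSylow

set_option autoImplicit false

/-! A finite simple group with exactly `2 * p + 1` Sylow `p`-subgroups (`p` an odd prime):
orbit analysis of a Sylow subgroup on the set of Sylow subgroups. The Sylow subgroups have
order `p`, are self-centralizing, and the group has order `(2p+1) * p * k` with `k ∣ p - 1`. -/

namespace Cfsg.Agent.Lib.Helper77.TwoP

open Subgroup MulAction
open scoped Pointwise

variable {p : ℕ} [hpF : Fact p.Prime]

section core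

variable {S : Type*} [Group S]

/-- The orbit of the Sylow subgroup `X` under conjugation by the Sylow subgroup `P`. -/
def orb (P X : Sylow p S) : Set (Sylow p S) := MulAction.orbit (P : Subgroup S) X

theorem mem_orb {P X Y : Sylow p S} : Y ∈ orb P X ↔ ∃ b ∈ (P : Subgroup S), b • X = Y := by
  unfold orb
  rw [MulAction.mem_orbit_iff]
  constructor
  · rintro ⟨b, hb⟩
    exact ⟨b.1, b.2, hb⟩
  · rintro ⟨b, hb, h⟩
    exact ⟨⟨b, hb⟩, h⟩

theorem self_mem_orb (P X : Sylow p S) : X ∈ orb P X :=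
  mem_orb.mpr ⟨1, one_mem _, one_smul _ _⟩

theorem smul_self_of_mem {P : Sylow p S} {b : S} (hb : b ∈ (P : Subgroup S)) : b • P = P :=
  Sylow.smul_eq_iff_mem_normalizer.mpr (Subgroup.le_normalizer hb)

theorem self_notMem_orb {P X : Sylow p S} (hX : X ≠ P) : P ∉ orb P X := by
  intro h
  obtain ⟨b, hb, hbX⟩ := mem_orb.mp h
  apply hX
  have : X = b⁻¹ • P := by rw [← hbX, inv_smul_smul]
  rw [this, smul_self_of_mem (inv_mem hb)]

theorem eq_of_le {P X : Sylow p S} (h : (P : Subgroup S) ≤ X) : X = P :=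
  Sylow.ext (P.is_maximal' X.isPGroup' h)

theorem orb_eq_of_mem {P X Y : Sylow p S} (h : Y ∈ orb P X) : orb P Y = orb P X :=
  MulAction.orbit_eq_iff.mpr h

variable [Finite S]

theorem ncard_orb (hp3 : 3 ≤ p) (h15 : Nat.card (Sylow p S) = 2 * p + 1) {P X : Sylow p S} (hX : X ≠ P) :
    (orb P X).ncard = p := by
  obtain ⟨n, hn⟩ := IsPGroup.card_orbit (P.isPGroup') X
  rw [_root_.Nat.card_coe_set_eq] at hn
  change (orb P X).ncard = p ^ n at hn
  have h0 : n ≠ 0 := by
    rintro rfl
    rw [pow_zero, Set.ncard_eq_one] at hn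
    obtain ⟨a, ha⟩ := hn
    apply hX
    apply eq_of_le
    rw [← IsPGroup.sylow_mem_fixedPoints_iff P.isPGroup']
    intro b
    have h1 : b • X ∈ orb P X := mem_orb.mpr ⟨b.1, b.2, rfl⟩
    have h2 : X ∈ orb P X := self_mem_orb P X
    rw [ha, Set.mem_singleton_iff] at h1 h2
    rw [h1, h2]
  have h1 : n < 2 := by
    by_contra hcon
    push Not at hcon
    have hle : (insert P (orb P X)).ncard ≤ 2 * p + 1 := h15 ▸ Set.ncard_le_card _
    rw [Set.ncard_insert_of_notMem (self_notMem_orb hX), hn] at hle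
    have h2 : p ^ 2 ≤ p ^ n := Nat.pow_le_pow_right (by omega) hcon
    have h3 : 3 * p ≤ p ^ 2 := by rw [pow_two]; exact Nat.mul_le_mul_right p hp3
    omega
  have : n = 1 := by omega
  rw [hn, this, pow_one]

theorem three_orbits (hp3 : 3 ≤ p) (h15 : Nat.card (Sylow p S) = 2 * p + 1) {P X Y : Sylow p S} (hX : X ≠ P)
    (hY : Y ≠ P) (hYX : Y ∉ orb P X) (Z : Sylow p S) : Z = P ∨ Z ∈ orb P X ∨ Z ∈ orb P Y := by
  have hdisj : Disjoint (orb P X) (orb P Y) := by
    rw [Set.disjoint_left]
    intro W hWX hWY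
    apply hYX
    rw [← orb_eq_of_mem hWX, orb_eq_of_mem hWY]
    exact self_mem_orb P Y
  have hP : P ∉ orb P X ∪ orb P Y := by
    rintro (h | h)
    · exact self_notMem_orb hX h
    · exact self_notMem_orb hY h
  have hcard : (insert P (orb P X ∪ orb P Y)).ncard = Nat.card (Sylow p S) := by
    rw [Set.ncard_insert_of_notMem hP, Set.ncard_union_eq hdisj, ncard_orb hp3 h15 hX,
      ncard_orb hp3 h15 hY, h15]
    ring
  have huniv := (Set.eq_univ_iff_ncard _).mpr hcard
  have hZ : Z ∈ insert P (orb P X ∪ orb P Y) := by rw [huniv]; trivial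
  rcases hZ with h | h | h
  · exact Or.inl h
  · exact Or.inr (Or.inl h)
  · exact Or.inr (Or.inr h)

theorem stabilizer_eq (P X : Sylow p S) :
    MulAction.stabilizer (↥(P : Subgroup S)) X = ((X : Subgroup S)).subgroupOf P := by
  ext b
  rw [MulAction.mem_stabilizer_iff, Subgroup.mem_subgroupOf]
  constructor
  · intro hb
    have hb' : (b : S) • X = X := hb
    have : (b : S) ∈ (P : Subgroup S) ⊓ normalizer (X : Set S) :=
      ⟨b.2, Sylow.smul_eq_iff_mem_normalizer.mp hb'⟩
    rw [IsPGroup.inf_normalizer_sylow P.isPGroup'] at this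
    exact this.2
  · intro hb
    exact smul_self_of_mem hb

theorem card_eq_p_mul (hp3 : 3 ≤ p) (h15 : Nat.card (Sylow p S) = 2 * p + 1) {P X : Sylow p S} (hX : X ≠ P) :
    Nat.card (P : Subgroup S) = p * Nat.card ((P : Subgroup S) ⊓ X : Subgroup S) := by
  have h1 := ((X : Subgroup S).subgroupOf P).card_mul_index
  have h2 : ((X : Subgroup S).subgroupOf P).index = p := by
    rw [← stabilizer_eq, MulAction.index_stabilizer]
    exact ncard_orb hp3 h15 hX
  have h3 : Nat.card ((X : Subgroup S).subgroupOf P) =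
      Nat.card ((P : Subgroup S) ⊓ X : Subgroup S) := by
    rw [← Subgroup.inf_subgroupOf_left]
    exact Nat.card_congr (Subgroup.subgroupOfEquivOfLe inf_le_left).toEquiv
  rw [h2, h3] at h1
  rw [← h1, mul_comm]

theorem index_subgroupOf (hp3 : 3 ≤ p) (h15 : Nat.card (Sylow p S) = 2 * p + 1) {P X : Sylow p S} (hX : X ≠ P) :
    ((X : Subgroup S).subgroupOf P).index = p := by
  rw [← stabilizer_eq, MulAction.index_stabilizer]
  exact ncard_orb hp3 h15 hX

theorem subgroupOf_normal (hp3 : 3 ≤ p) (h15 : Nat.card (Sylow p S) = 2 * p + 1) {P X : Sylow p S} (hX : X ≠ P) :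
    ((X : Subgroup S).subgroupOf P).Normal := by
  apply Subgroup.normal_of_index_eq_minFac_card
  rw [index_subgroupOf hp3 h15 hX]
  obtain ⟨k, hk⟩ := IsPGroup.iff_card.mp P.isPGroup'
  have hk0 : k ≠ 0 := by
    rintro rfl
    have := card_eq_p_mul hp3 h15 hX
    rw [hk, pow_zero] at this
    have h4 : p ∣ 1 := Dvd.intro _ this.symm
    have := Nat.le_of_dvd one_pos h4
    omega
  rw [hk, Nat.Prime.pow_minFac hpF.out hk0]

theorem inf_le_smul (hp3 : 3 ≤ p) (h15 : Nat.card (Sylow p S) = 2 * p + 1) {P X : Sylow p S} (hX : X ≠ P) {b : S}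
    (hb : b ∈ (P : Subgroup S)) :
    (P : Subgroup S) ⊓ X ≤ ((b • X : Sylow p S) : Subgroup S) := by
  intro y hy
  have hN := subgroupOf_normal hp3 h15 hX
  have h1 := hN.conj_mem ⟨y, hy.1⟩ (Subgroup.mem_subgroupOf.mpr hy.2) ⟨b⁻¹, inv_mem hb⟩
  rw [Subgroup.mem_subgroupOf] at h1
  rw [Sylow.coe_subgroup_smul, Subgroup.mem_pointwise_smul_iff_inv_smul_mem]
  simpa [MulAut.smul_def] using h1

theorem inf_eq_of_mem_orb (hp3 : 3 ≤ p) (h15 : Nat.card (Sylow p S) = 2 * p + 1) {P X Y : Sylow p S} (hX : X ≠ P)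
    (hY : Y ∈ orb P X) : (P : Subgroup S) ⊓ Y = (P : Subgroup S) ⊓ X := by
  obtain ⟨b, hb, rfl⟩ := mem_orb.mp hY
  have hbX : b • X ≠ P := fun h => self_notMem_orb hX (h ▸ hY)
  apply le_antisymm
  · have := inf_le_smul hp3 h15 hbX (inv_mem hb)
    rw [inv_smul_smul] at this
    exact le_inf inf_le_left this
  · exact le_inf inf_le_left (inf_le_smul hp3 h15 hX hb)

theorem card_sylow_eq (A B : Sylow p S) :
    Nat.card (A : Subgroup S) = Nat.card (B : Subgroup S) := by
  rw [Sylow.card_eq_multiplicity, Sylow.card_eq_multiplicity]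

theorem card_inf_eq (hp3 : 3 ≤ p) (h15 : Nat.card (Sylow p S) = 2 * p + 1) {A B A' B' : Sylow p S} (hAB : B ≠ A)
    (hAB' : B' ≠ A') :
    Nat.card ((A : Subgroup S) ⊓ B : Subgroup S) = Nat.card ((A' : Subgroup S) ⊓ B' : Subgroup S) := by
  have h1 := card_eq_p_mul hp3 h15 hAB
  have h2 := card_eq_p_mul hp3 h15 hAB'
  rw [card_sylow_eq A A', h2] at h1
  exact (Nat.eq_of_mul_eq_mul_left (by omega) h1).symm

theorem inf_eq_of_le (hp3 : 3 ≤ p) (h15 : Nat.card (Sylow p S) = 2 * p + 1) {A B A' B' : Sylow p S} (hAB : B ≠ A)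
    (hAB' : B' ≠ A') (hle : (A : Subgroup S) ⊓ B ≤ (A' : Subgroup S) ⊓ B') :
    (A : Subgroup S) ⊓ B = (A' : Subgroup S) ⊓ B' :=
  Subgroup.eq_of_le_of_card_ge hle (card_inf_eq hp3 h15 hAB' hAB).le

/-- All the intersections `P ⊓ Y`, `Y ≠ P`, coincide. -/
theorem inf_const (hp3 : 3 ≤ p) (h15 : Nat.card (Sylow p S) = 2 * p + 1) {P Q : Sylow p S} (hQ : Q ≠ P)
    (Y : Sylow p S) (hY : Y ≠ P) : (P : Subgroup S) ⊓ Y = (P : Subgroup S) ⊓ Q := by
  by_contra hD
  -- a second Sylow subgroup `Z` in the orbit of `Y`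
  obtain ⟨Z, hZorb, hZY⟩ := Set.exists_ne_of_one_lt_ncard
    (by rw [ncard_orb hp3 h15 hY]; omega : 1 < (orb P Y).ncard) Y
  have hZP : Z ≠ P := fun h => self_notMem_orb hY (h ▸ hZorb)
  have hZ : (P : Subgroup S) ⊓ Z = (P : Subgroup S) ⊓ Y := inf_eq_of_mem_orb hp3 h15 hY hZorb
  have hYQ : Y ≠ Q := fun h => hD (by rw [h])
  have hZQ : Z ≠ Q := fun h => hD (by rw [← hZ, h])
  have hPQ : P ≠ Q := fun h => hQ h.symm
  -- neither `Y` nor `Z` is in the `Q`-orbit of `P`
  have key : ∀ W : Sylow p S, W ≠ P → (P : Subgroup S) ⊓ W = (P : Subgroup S) ⊓ Y →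
      W ∉ orb Q P := by
    intro W hWP hW hmem
    have h1 : (Q : Subgroup S) ⊓ W = (Q : Subgroup S) ⊓ P := inf_eq_of_mem_orb hp3 h15 hPQ hmem
    apply hD
    symm
    rw [← hW]
    apply inf_eq_of_le hp3 h15 hQ hWP
    refine le_inf inf_le_left ?_
    have : (Q : Subgroup S) ⊓ P ≤ W := h1 ▸ inf_le_right
    rwa [inf_comm] at this
  have hYn : Y ∉ orb Q P := key Y hY rfl
  have hZn : Z ∉ orb Q P := key Z hZP hZ
  rcases three_orbits hp3 h15 hPQ hYQ hYn Z with h | h | h
  · exact hZQ h
  · exact hZn h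
  · have hE : (Q : Subgroup S) ⊓ Z = (Q : Subgroup S) ⊓ Y := inf_eq_of_mem_orb hp3 h15 hYQ h
    -- `P ⊓ Y = Y ⊓ Z`
    have h1 : (P : Subgroup S) ⊓ Y = (Y : Subgroup S) ⊓ Z := by
      apply inf_eq_of_le hp3 h15 hY hZY
      refine le_inf inf_le_right ?_
      rw [← hZ]
      exact inf_le_right
    -- `Q ⊓ Y = Y ⊓ Z`
    have h2 : (Q : Subgroup S) ⊓ Y = (Y : Subgroup S) ⊓ Z := by
      apply inf_eq_of_le hp3 h15 hYQ hZY
      refine le_inf inf_le_right ?_
      rw [← hE]
      exact inf_le_right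
    apply hD
    apply inf_eq_of_le hp3 h15 hY hQ
    refine le_inf inf_le_left ?_
    rw [h1, ← h2]
    exact inf_le_left

section simple

variable [IsSimpleGroup S]

theorem card_ne_one (hp3 : 3 ≤ p) (h15 : Nat.card (Sylow p S) = 2 * p + 1) : Nat.card (Sylow p S) ≠ 1 := by
  rw [h15]; omega

theorem exists_ne (hp3 : 3 ≤ p) (h15 : Nat.card (Sylow p S) = 2 * p + 1) (P : Sylow p S) : ∃ Q : Sylow p S, Q ≠ P := by
  by_contra hcon
  push Not at hcon
  apply card_ne_one hp3 h15
  exact Nat.card_eq_one_iff_unique.mpr ⟨⟨fun a b => (hcon a).trans (hcon b).symm⟩, ⟨P⟩⟩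

theorem card_sylow_eq_p (hp3 : 3 ≤ p) (h15 : Nat.card (Sylow p S) = 2 * p + 1) (P : Sylow p S) :
    Nat.card (P : Subgroup S) = p := by
  obtain ⟨Q, hQ⟩ := exists_ne hp3 h15 P
  have hbot : (P : Subgroup S) ⊓ Q = ⊥ := by
    apply Lib.Helper77.eq_bot_of_le_all_sylow p (card_ne_one hp3 h15)
    intro X
    by_cases hX : X = P
    · rw [hX]; exact inf_le_left
    · rw [← inf_const hp3 h15 hQ X hX]; exact inf_le_right
  have := card_eq_p_mul hp3 h15 hQ
  rw [hbot, Subgroup.card_bot, mul_one] at this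
  exact this

theorem inf_eq_bot (hp3 : 3 ≤ p) (h15 : Nat.card (Sylow p S) = 2 * p + 1) {P Q : Sylow p S} (hQ : Q ≠ P) :
    (P : Subgroup S) ⊓ Q = ⊥ := by
  have := card_eq_p_mul hp3 h15 hQ
  rw [card_sylow_eq_p hp3 h15 P] at this
  refine Subgroup.eq_bot_of_card_eq _ ?_
  have h2 : p * 1 = p * Nat.card ((P : Subgroup S) ⊓ Q : Subgroup S) := by rw [mul_one]; exact this
  exact (Nat.eq_of_mul_eq_mul_left (by omega) h2).symm

theorem pow_smul_of_smul {x : S} {Z : Sylow p S} (h : x • Z = Z) (n : ℕ) : x ^ n • Z = Z := by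
  induction n with
  | zero => rw [pow_zero, one_smul]
  | succ k ih => rw [pow_succ, mul_smul, h, ih]

theorem mem_of_pow_p {x : S} (hx : x ^ p = 1) {Q : Sylow p S} (hQ : x • Q = Q) :
    x ∈ (Q : Subgroup S) := by
  have hp : IsPGroup p (Subgroup.zpowers x) := by
    have hdvd : orderOf x ∣ p := orderOf_dvd_of_pow_eq_one hx
    rcases (Nat.dvd_prime hpF.out).mp hdvd with h | h
    · exact IsPGroup.of_card (n := 0) (by rw [Nat.card_zpowers, h, pow_zero])
    · exact IsPGroup.of_card (n := 1) (by rw [Nat.card_zpowers, h, pow_one])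
  have : x ∈ Subgroup.zpowers x ⊓ normalizer (Q : Set S) :=
    ⟨Subgroup.mem_zpowers x, Sylow.smul_eq_iff_mem_normalizer.mp hQ⟩
  rw [IsPGroup.inf_normalizer_sylow hp] at this
  exact this.2

theorem eq_one_of_centralizer_of_fix (hp3 : 3 ≤ p) (h15 : Nat.card (Sylow p S) = 2 * p + 1) {P Q : Sylow p S}
    (hQ : Q ≠ P) {x : S} (hxC : x ∈ centralizer ((P : Subgroup S) : Set S)) (hxQ : x • Q = Q) :
    x = 1 := by
  have hcomm : ∀ b ∈ (P : Subgroup S), ∀ Z : Sylow p S, x • b • Z = b • x • Z := by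
    intro b hb Z
    rw [smul_smul, smul_smul, Subgroup.mem_centralizer_iff.mp hxC b hb]
  have hxP : x • P = P :=
    Sylow.smul_eq_iff_mem_normalizer.mpr (Subgroup.centralizer_le_normalizer _ hxC)
  have hfixorb : ∀ Z ∈ orb P Q, x • Z = Z := by
    intro Z hZ
    obtain ⟨b, hb, rfl⟩ := mem_orb.mp hZ
    rw [hcomm b hb, hxQ]
  have hstep : ∀ Z : Sylow p S, Z ≠ P → x • Z ∈ orb P Z := by
    intro Z hZP
    by_cases hZ : Z ∈ orb P Q
    · rw [hfixorb Z hZ]; exact self_mem_orb P Z
    · rcases three_orbits hp3 h15 hQ hZP hZ (x • Z) with h | h | h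
      · exfalso
        apply hZP
        have h1 : Z = x⁻¹ • P := by rw [← h, inv_smul_smul]
        have h2 : x⁻¹ • P = P := by
          conv_lhs => rw [← hxP]
          rw [inv_smul_smul]
        rw [h1, h2]
      · exfalso
        apply hZ
        have h1 := hfixorb _ h
        have h2 : x • Z = Z := MulAction.injective x h1
        rwa [h2] at h
      · exact h
  have hpow : ∀ Z : Sylow p S, ∀ b ∈ (P : Subgroup S), x • Z = b • Z →
      ∀ n : ℕ, x ^ n • Z = b ^ n • Z := by
    intro Z b hb h n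
    induction n with
    | zero => rw [pow_zero, pow_zero]
    | succ k ih =>
      rw [pow_succ', mul_smul, ih, hcomm _ (pow_mem hb k), h, ← mul_smul, ← pow_succ]
  have h7 : ∀ Z : Sylow p S, x ^ p • Z = Z := by
    intro Z
    by_cases hZP : Z = P
    · rw [hZP]; exact pow_smul_of_smul hxP p
    · obtain ⟨b, hb, hbZ⟩ := mem_orb.mp (hstep Z hZP)
      rw [hpow Z b hb hbZ.symm p]
      have : b ^ p = 1 := by
        have h1 := Subgroup.orderOf_dvd_natCard (P : Subgroup S) hb
        rw [card_sylow_eq_p hp3 h15 P] at h1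
        exact orderOf_dvd_iff_pow_eq_one.mp h1
      rw [this, one_smul]
  have hx7 : x ^ p = 1 := Lib.Helper77.sylow_faithful p (card_ne_one hp3 h15) _ h7
  have hmem : x ∈ (P : Subgroup S) ⊓ Q := ⟨mem_of_pow_p hx7 hxP, mem_of_pow_p hx7 hxQ⟩
  rw [inf_eq_bot hp3 h15 hQ] at hmem
  exact Subgroup.mem_bot.mp hmem

theorem le_centralizer (hp3 : 3 ≤ p) (h15 : Nat.card (Sylow p S) = 2 * p + 1) (P : Sylow p S) :
    (P : Subgroup S) ≤ centralizer ((P : Subgroup S) : Set S) := by
  haveI : IsCyclic (P : Subgroup S) := isCyclic_of_prime_card (card_sylow_eq_p hp3 h15 P)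
  intro x hx y hy
  have := (IsCyclic.isMulCommutative.is_comm.comm (⟨x, hx⟩ : (P : Subgroup S)) ⟨y, hy⟩)
  exact (congrArg Subtype.val this).symm

theorem smul_of_mem_centralizer {P : Sylow p S} {c : S}
    (hc : c ∈ centralizer ((P : Subgroup S) : Set S)) : c • P = P :=
  Sylow.smul_eq_iff_mem_normalizer.mpr (Subgroup.centralizer_le_normalizer _ hc)

theorem smul_ne_of_mem_centralizer {P Q : Sylow p S} (hQ : Q ≠ P) {c : S}
    (hc : c ∈ centralizer ((P : Subgroup S) : Set S)) : c • Q ≠ P := by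
  intro h
  apply hQ
  have h1 : Q = c⁻¹ • P := by rw [← h, inv_smul_smul]
  rw [h1, smul_of_mem_centralizer (inv_mem hc)]

theorem card_centralizer_le (hp3 : 3 ≤ p) (h15 : Nat.card (Sylow p S) = 2 * p + 1) (P : Sylow p S) :
    Nat.card (centralizer ((P : Subgroup S) : Set S)) ≤ 2 * p := by
  obtain ⟨Q, hQ⟩ := exists_ne hp3 h15 P
  let f : Option (centralizer ((P : Subgroup S) : Set S)) → Sylow p S :=
    fun o => o.elim P (fun c => (c : S) • Q)
  have hf : Function.Injective f := by
    intro a b hab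
    cases a with
    | none =>
      cases b with
      | none => rfl
      | some c =>
        exfalso
        exact smul_ne_of_mem_centralizer hQ c.2 hab.symm
    | some c =>
      cases b with
      | none =>
        exfalso
        exact smul_ne_of_mem_centralizer hQ c.2 hab
      | some c' =>
        have h1 : (c : S) • Q = (c' : S) • Q := hab
        have h2 : ((c' : S)⁻¹ * (c : S)) • Q = Q := by
          rw [mul_smul, h1, inv_smul_smul]
        have h3 := eq_one_of_centralizer_of_fix hp3 h15 hQ (mul_mem (inv_mem c'.2) c.2) h2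
        have h4 : (c : S) = (c' : S) := by
          rw [inv_mul_eq_one] at h3
          exact h3.symm
        rw [Subtype.ext h4]
  have := Nat.card_le_card_of_injective f hf
  rw [Finite.card_option, h15] at this
  omega

theorem card_centralizer_ne_two_p (hp3 : 3 ≤ p) (h15 : Nat.card (Sylow p S) = 2 * p + 1)
    (P : Sylow p S) : Nat.card (centralizer ((P : Subgroup S) : Set S)) ≠ 2 * p := by
  intro h14
  have hpodd : Odd p := hpF.out.odd_of_ne_two (by omega)
  haveI : Fact (Nat.Prime 2) := ⟨Nat.prime_two⟩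
  obtain ⟨u, hu⟩ := exists_prime_orderOf_dvd_card' (G := centralizer ((P : Subgroup S) : Set S)) 2
    (by rw [h14]; exact Dvd.intro _ rfl)
  have hvC : (u : S) ∈ centralizer ((P : Subgroup S) : Set S) := u.2
  have hord : orderOf (u : S) = 2 := by rw [Subgroup.orderOf_coe, hu]
  have hv2 : (u : S) ^ 2 = 1 := by rw [← hord]; exact pow_orderOf_eq_one _
  have hv1 : (u : S) ≠ 1 := by
    intro h
    rw [h, orderOf_one] at hord
    omega
  have hvP : (u : S) • P = P := smul_of_mem_centralizer hvC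
  have hvfix : ∀ Z : Sylow p S, (u : S) • Z = Z → Z = P := by
    intro Z hZ
    by_contra hZP
    exact hv1 (eq_one_of_centralizer_of_fix hp3 h15 hZP hvC hZ)
  classical
  haveI : Fintype (Sylow p S) := Fintype.ofFinite _
  set σ : Equiv.Perm (Sylow p S) := MulAction.toPermHom S (Sylow p S) (u : S) with hσdef
  have hσapp : ∀ Z : Sylow p S, σ Z = (u : S) • Z := fun Z => rfl
  have hσ2 : σ ^ 2 = 1 := by rw [hσdef, ← map_pow, hv2, map_one]
  have hσ1 : σ ≠ 1 := by
    intro h
    apply hv1
    apply Lib.Helper77.sylow_faithful p (card_ne_one hp3 h15)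
    intro X
    rw [← hσapp, h, Equiv.Perm.one_apply]
  have hordσ : orderOf σ = 2 := orderOf_eq_prime hσ2 hσ1
  have hsupp : σ.support = Finset.univ.erase P := by
    ext Z
    rw [Equiv.Perm.mem_support, Finset.mem_erase, hσapp]
    constructor
    · intro h
      refine ⟨fun hZP => h ?_, Finset.mem_univ _⟩
      rw [hZP]; exact hvP
    · intro h hfix
      exact h.1 (hvfix Z hfix)
  have hsuppcard : σ.support.card = 2 * p := by
    rw [hsupp, Finset.card_erase_of_mem (Finset.mem_univ _), Finset.card_univ,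
      ← Nat.card_eq_fintype_card, h15]
    omega
  obtain ⟨n, hn⟩ := Equiv.Perm.cycleType_prime_order (σ := σ) (by rw [hordσ]; exact Nat.prime_two)
  rw [hordσ] at hn
  have hsum := Equiv.Perm.sum_cycleType σ
  rw [hn, Multiset.sum_replicate, hsuppcard, smul_eq_mul] at hsum
  have hn6 : n + 1 = p := by omega
  have hsign : Equiv.Perm.sign σ = -1 := by
    rw [Equiv.Perm.sign_of_cycleType, hn, hn6, Multiset.sum_replicate, Multiset.card_replicate,
      smul_eq_mul]
    exact ((even_two.mul_left p).add_odd hpodd).neg_one_pow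
  let φ : S →* ℤˣ := Equiv.Perm.sign.comp (MulAction.toPermHom S (Sylow p S))
  have hφv : φ (u : S) = -1 := hsign
  rcases (MonoidHom.normal_ker φ).eq_bot_or_eq_top with h | h
  · have hsq : ∀ g : S, g ^ 2 = 1 := by
      intro g
      have : g ^ 2 ∈ φ.ker := by
        rw [MonoidHom.mem_ker, map_pow]
        exact Int.units_sq _
      rw [h] at this
      exact Subgroup.mem_bot.mp this
    have h7 : p ∣ Nat.card S := by
      have := Subgroup.card_subgroup_dvd_card (P : Subgroup S)
      rwa [card_sylow_eq_p hp3 h15 P] at this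
    obtain ⟨a, ha⟩ := exists_prime_orderOf_dvd_card' (G := S) p h7
    have := orderOf_dvd_of_pow_eq_one (hsq a)
    rw [ha] at this
    have := Nat.le_of_dvd (by norm_num) this
    omega
  · have : (u : S) ∈ φ.ker := by rw [h]; trivial
    rw [MonoidHom.mem_ker, hφv] at this
    exact absurd this (by decide)

theorem card_centralizer_eq (hp3 : 3 ≤ p) (h15 : Nat.card (Sylow p S) = 2 * p + 1) (P : Sylow p S) :
    Nat.card (centralizer ((P : Subgroup S) : Set S)) = p := by
  have h1 := card_centralizer_le hp3 h15 P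
  have h2 := card_centralizer_ne_two_p hp3 h15 P
  have h3 : p ∣ Nat.card (centralizer ((P : Subgroup S) : Set S)) := by
    have := Subgroup.card_dvd_of_le (le_centralizer hp3 h15 P)
    rwa [card_sylow_eq_p hp3 h15 P] at this
  have h4 : Nat.card (centralizer ((P : Subgroup S) : Set S)) ≠ 0 := Nat.card_pos.ne'
  obtain ⟨t, ht⟩ := h3
  rw [ht] at h1 h2 h4 ⊢
  have ht0 : t ≠ 0 := by rintro rfl; exact h4 (mul_zero p)
  have ht2 : t ≠ 2 := by rintro rfl; exact h2 (mul_comm p 2)
  have ht3 : t ≤ 2 := by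
    by_contra hcon
    push Not at hcon
    have : p * 3 ≤ p * t := Nat.mul_le_mul_left p hcon
    omega
  have : t = 1 := by omega
  rw [this, mul_one]

theorem centralizer_eq (hp3 : 3 ≤ p) (h15 : Nat.card (Sylow p S) = 2 * p + 1) (P : Sylow p S) :
    centralizer ((P : Subgroup S) : Set S) = (P : Subgroup S) :=
  (Subgroup.eq_of_le_of_card_ge (le_centralizer hp3 h15 P)
    (by rw [card_centralizer_eq hp3 h15 P, card_sylow_eq_p hp3 h15 P])).symm

/-- The order of the group is `(2p+1) * p * k` where `k = [N(P) : C(P)]` divides `p - 1`. -/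
theorem card_eq (hp3 : 3 ≤ p) (h15 : Nat.card (Sylow p S) = 2 * p + 1) (P : Sylow p S) :
    (centralizer ((P : Subgroup S) : Set S)).relIndex (normalizer ((P : Subgroup S) : Set S)) ∣ p - 1 ∧
    Nat.card (normalizer ((P : Subgroup S) : Set S)) = p *
      (centralizer ((P : Subgroup S) : Set S)).relIndex (normalizer ((P : Subgroup S) : Set S)) ∧
    Nat.card S = (2 * p + 1) * (p *
      (centralizer ((P : Subgroup S) : Set S)).relIndex (normalizer ((P : Subgroup S) : Set S))) := by
  haveI : IsCyclic (P : Subgroup S) := isCyclic_of_prime_card (card_sylow_eq_p hp3 h15 P)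
  have h1 := Lib.Helper77.relIndex_centralizer_normalizer_dvd_totient (P : Subgroup S)
  rw [card_sylow_eq_p hp3 h15 P, Nat.totient_prime hpF.out] at h1
  have h2 : Nat.card (centralizer ((P : Subgroup S) : Set S)) *
      (centralizer ((P : Subgroup S) : Set S)).relIndex (normalizer ((P : Subgroup S) : Set S)) =
      Nat.card (normalizer ((P : Subgroup S) : Set S)) := by
    have := ((centralizer ((P : Subgroup S) : Set S)).subgroupOf
      (normalizer ((P : Subgroup S) : Set S))).card_mul_index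
    rw [← this, Subgroup.relIndex]
    congr 1
    exact (Nat.card_congr (Subgroup.subgroupOfEquivOfLe
      (Subgroup.centralizer_le_normalizer _)).toEquiv).symm
  have h3 := (normalizer ((P : Subgroup S) : Set S)).card_mul_index
  have h4 : (normalizer ((P : Subgroup S) : Set S)).index = 2 * p + 1 := by
    rw [← h15]; exact (Sylow.card_eq_index_normalizer P).symm
  rw [card_centralizer_eq hp3 h15 P] at h2
  refine ⟨h1, h2.symm, ?_⟩
  rw [← h3, ← h2, h4]
  ring

/-- The group is not commutative. -/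
theorem not_comm (hp3 : 3 ≤ p) (h15 : Nat.card (Sylow p S) = 2 * p + 1) :
    ∃ a b : S, a * b ≠ b * a := by
  by_contra hcon
  push Not at hcon
  exact card_ne_one hp3 h15 (Lib.Helper77.card_sylow_eq_one_of_comm p hcon)

theorem index_normalizer (h15 : Nat.card (Sylow p S) = 2 * p + 1) (P : Sylow p S) :
    (normalizer ((P : Subgroup S) : Set S)).index = 2 * p + 1 := by
  rw [← h15]; exact (Sylow.card_eq_index_normalizer P).symm

end simple

end core

section cyclic

variable {S : Type*} [Group S] [Finite S] [IsSimpleGroup S]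

/-- The automorphism group of a group of prime order is cyclic. -/
theorem isCyclic_mulAut_of_prime_card {P : Type*} [Group P] (h : Nat.card P = p) :
    IsCyclic (MulAut P) := by
  haveI : IsCyclic P := isCyclic_of_prime_card h
  haveI : IsCyclic (ZMod (Nat.card P))ˣ := by
    rw [h]
    exact ZMod.isCyclic_units_prime hpF.out
  exact isCyclic_of_injective (IsCyclic.mulAutMulEquiv P).toMonoidHom
    (IsCyclic.mulAutMulEquiv P).injective

/-- A finite simple noncommutative group of even order has no self-centralizing Sylow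
`p`-subgroup of odd prime order `p` whose normalizer has odd index. -/
theorem false_of_even_of_self_centralizing (hG : ∃ a b : S, a * b ≠ b * a) (hp2 : p ≠ 2)
    (P : Sylow p S) (hP : Nat.card (P : Subgroup S) = p)
    (hC : centralizer ((P : Subgroup S) : Set S) = (P : Subgroup S))
    (hidx : ¬ 2 ∣ (normalizer ((P : Subgroup S) : Set S)).index) (heven : 2 ∣ Nat.card S) :
    False := by
  haveI : Fact (Nat.Prime 2) := ⟨Nat.prime_two⟩
  obtain ⟨T₀⟩ : Nonempty (Sylow 2 ↥(normalizer ((P : Subgroup S) : Set S))) := inferInstance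
  haveI hcycA : IsCyclic (MulAut ↥(P : Subgroup S)) := isCyclic_mulAut_of_prime_card hP
  -- `T₀` embeds in the automorphism group of `P`
  have hker : ((P : Subgroup S).normalizerMonoidHom).ker =
      (P : Subgroup S).subgroupOf (normalizer ((P : Subgroup S) : Set S)) := by
    rw [Subgroup.normalizerMonoidHom_ker, hC]
  have hdisj : Disjoint (T₀ : Subgroup ↥(normalizer ((P : Subgroup S) : Set S)))
      ((P : Subgroup S).subgroupOf (normalizer ((P : Subgroup S) : Set S))) := by
    apply IsPGroup.disjoint_of_ne 2 p (Ne.symm hp2) _ _ T₀.isPGroup'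
    exact P.isPGroup'.comap_subtype
  have hinj : Function.Injective (((P : Subgroup S).normalizerMonoidHom).comp
      (T₀ : Subgroup ↥(normalizer ((P : Subgroup S) : Set S))).subtype) := by
    rw [injective_iff_map_eq_one]
    intro x hx
    have h1 : (x : ↥(normalizer ((P : Subgroup S) : Set S))) ∈
        ((P : Subgroup S).normalizerMonoidHom).ker := hx
    rw [hker] at h1
    have h2 := hdisj.le_bot ⟨x.2, h1⟩
    exact Subtype.ext (Subgroup.mem_bot.mp h2)
  haveI hcyc0 : IsCyclic ↥(T₀ : Subgroup ↥(normalizer ((P : Subgroup S) : Set S))) :=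
    isCyclic_of_injective _ hinj
  -- the image of `T₀` in `S` is a Sylow 2-subgroup of `S`
  have hT1 : IsPGroup 2 ↥((T₀ : Subgroup ↥(normalizer ((P : Subgroup S) : Set S))).map
      (normalizer ((P : Subgroup S) : Set S)).subtype) := T₀.isPGroup'.map _
  have hidx1 : ¬ 2 ∣ ((T₀ : Subgroup ↥(normalizer ((P : Subgroup S) : Set S))).map
      (normalizer ((P : Subgroup S) : Set S)).subtype).index := by
    rw [Subgroup.index_map_subtype]
    intro h
    rcases (Nat.Prime.dvd_mul Nat.prime_two).mp h with h | h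
    · exact T₀.not_dvd_index h
    · exact hidx h
  let Tc : Sylow 2 S := hT1.toSylow hidx1
  have hcycT : IsCyclic ↥(Tc : Subgroup S) := by
    have e := (T₀ : Subgroup ↥(normalizer ((P : Subgroup S) : Set S))).equivMapOfInjective
      (normalizer ((P : Subgroup S) : Set S)).subtype (Subgroup.subtype_injective _)
    exact isCyclic_of_surjective e e.surjective
  have hmin : (Nat.card S).minFac = 2 := (Nat.minFac_eq_two_iff _).mpr heven
  exact Lib.Helper77.false_of_normalizer_le_centralizer hG 2 Tc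
    (IsCyclic.normalizer_le_centralizer hmin hcycT) (Tc.ne_bot_of_dvd_card heven)

end cyclic

end Cfsg.Agent.Lib.Helper77.TwoP
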