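import Cfsg.Agent.Lib.Helper77.TCSH2T

set_option autoImplicit false
set_option maxRecDepth 1000000
set_option linter.unusedVariables false
set_option Elab.async false

namespace Cfsg.Agent.Lib.Helper77.TCS.H2

open Cfsg.Agent.Lib.Helper25.TC

theorem k_certp_364 : allR (ckCert C nF) 9 186368 = true := by decide +kernel
theorem k_certp_365 : allR (ckCert C nF) 9 186880 = true := by decide +kernel
theorem k_certp_366 : allR (ckCert C nF) 9 187392 = true := by decide +kernel
theorem k_certp_367 : allR (ckCert C nF) 9 187904 = true := by decide +kernel
theorem k_certp_368 : allR (ckCert C nF) 9 188416 = true := by decide +kernel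
theorem k_certp_369 : allR (ckCert C nF) 9 188928 = true := by decide +kernel
theorem k_certp_370 : allR (ckCert C nF) 9 189440 = true := by decide +kernel
theorem k_certp_371 : allR (ckCert C nF) 9 189952 = true := by decide +kernel
theorem k_certp_372 : allR (ckCert C nF) 9 190464 = true := by decide +kernel
theorem k_certp_373 : allR (ckCert C nF) 9 190976 = true := by decide +kernel
theorem k_certp_374 : allR (ckCert C nF) 9 191488 = true := by decide +kernel
theorem k_certp_375 : allR (ckCert C nF) 9 192000 = true := by decide +kernel
theorem k_certp_376 : allR (ckCert C nF) 9 192512 = true := by decide +kernel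
theorem k_certp_377 : allR (ckCert C nF) 9 193024 = true := by decide +kernel
theorem k_certp_378 : allR (ckCert C nF) 9 193536 = true := by decide +kernel
theorem k_certp_379 : allR (ckCert C nF) 9 194048 = true := by decide +kernel
theorem k_certp_380 : allR (ckCert C nF) 9 194560 = true := by decide +kernel
theorem k_certp_381 : allR (ckCert C nF) 9 195072 = true := by decide +kernel
theorem k_certp_382 : allR (ckCert C nF) 9 195584 = true := by decide +kernel
theorem k_certp_383 : allR (ckCert C nF) 9 196096 = true := by decide +kernel
theorem k_certp_384 : allR (ckCert C nF) 9 196608 = true := by decide +kernel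
theorem k_certp_385 : allR (ckCert C nF) 9 197120 = true := by decide +kernel
theorem k_certp_386 : allR (ckCert C nF) 9 197632 = true := by decide +kernel
theorem k_certp_387 : allR (ckCert C nF) 9 198144 = true := by decide +kernel
theorem k_certp_388 : allR (ckCert C nF) 9 198656 = true := by decide +kernel
theorem k_certp_389 : allR (ckCert C nF) 9 199168 = true := by decide +kernel
theorem k_certp_390 : allR (ckCert C nF) 9 199680 = true := by decide +kernel
theorem k_certp_391 : allR (ckCert C nF) 9 200192 = true := by decide +kernel

end Cfsg.Agent.Lib.Helper77.TCS.H2
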