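import Cfsg.Agent.Lib.Helper77.TCSH2D0
import Cfsg.Agent.Lib.Helper77.TCSH2D1
import Cfsg.Agent.Lib.Helper77.TCSH2D2
import Cfsg.Agent.Lib.Helper77.TCSH2D3
import Cfsg.Agent.Lib.Helper77.TCSH2D4
import Cfsg.Agent.Lib.Helper77.TCSH2D5
import Cfsg.Agent.Lib.Helper77.TCSH2D6
import Cfsg.Agent.Lib.Helper77.TCSH2D7
import Cfsg.Agent.Lib.Helper25.TCMain
import Cfsg.Agent.Lib.Helper77.J3SchurTC

set_option autoImplicit false
set_option maxRecDepth 1000000
set_option linter.unusedVariables false

namespace Cfsg.Agent.Lib.Helper77.TCS.H2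

open Cfsg.Agent.Lib.Helper25.TC Cfsg.Agent.Lib.Helper77.SchurTC

def sFP_0_0 (c : Nat) : Nat := (bif Nat.ble 8 c then (bif Nat.ble 12 c then (bif Nat.ble 14 c then (bif Nat.ble 15 c then cFP_15 else cFP_14) else (bif Nat.ble 13 c then cFP_13 else cFP_12)) else (bif Nat.ble 10 c then (bif Nat.ble 11 c then cFP_11 else cFP_10) else (bif Nat.ble 9 c then cFP_9 else cFP_8))) else (bif Nat.ble 4 c then (bif Nat.ble 6 c then (bif Nat.ble 7 c then cFP_7 else cFP_6) else (bif Nat.ble 5 c then cFP_5 else cFP_4)) else (bif Nat.ble 2 c then (bif Nat.ble 3 c then cFP_3 else cFP_2) else (bif Nat.ble 1 c then cFP_1 else cFP_0))))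
def sFP_0_1 (c : Nat) : Nat := (bif Nat.ble 24 c then (bif Nat.ble 28 c then (bif Nat.ble 30 c then (bif Nat.ble 31 c then cFP_31 else cFP_30) else (bif Nat.ble 29 c then cFP_29 else cFP_28)) else (bif Nat.ble 26 c then (bif Nat.ble 27 c then cFP_27 else cFP_26) else (bif Nat.ble 25 c then cFP_25 else cFP_24))) else (bif Nat.ble 20 c then (bif Nat.ble 22 c then (bif Nat.ble 23 c then cFP_23 else cFP_22) else (bif Nat.ble 21 c then cFP_21 else cFP_20)) else (bif Nat.ble 18 c then (bif Nat.ble 19 c then cFP_19 else cFP_18) else (bif Nat.ble 17 c then cFP_17 else cFP_16))))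
def sFP_0_2 (c : Nat) : Nat := (bif Nat.ble 40 c then (bif Nat.ble 44 c then (bif Nat.ble 46 c then (bif Nat.ble 47 c then cFP_47 else cFP_46) else (bif Nat.ble 45 c then cFP_45 else cFP_44)) else (bif Nat.ble 42 c then (bif Nat.ble 43 c then cFP_43 else cFP_42) else (bif Nat.ble 41 c then cFP_41 else cFP_40))) else (bif Nat.ble 36 c then (bif Nat.ble 38 c then (bif Nat.ble 39 c then cFP_39 else cFP_38) else (bif Nat.ble 37 c then cFP_37 else cFP_36)) else (bif Nat.ble 34 c then (bif Nat.ble 35 c then cFP_35 else cFP_34) else (bif Nat.ble 33 c then cFP_33 else cFP_32))))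
def sFP_0_3 (c : Nat) : Nat := (bif Nat.ble 56 c then (bif Nat.ble 60 c then (bif Nat.ble 62 c then (bif Nat.ble 63 c then cFP_63 else cFP_62) else (bif Nat.ble 61 c then cFP_61 else cFP_60)) else (bif Nat.ble 58 c then (bif Nat.ble 59 c then cFP_59 else cFP_58) else (bif Nat.ble 57 c then cFP_57 else cFP_56))) else (bif Nat.ble 52 c then (bif Nat.ble 54 c then (bif Nat.ble 55 c then cFP_55 else cFP_54) else (bif Nat.ble 53 c then cFP_53 else cFP_52)) else (bif Nat.ble 50 c then (bif Nat.ble 51 c then cFP_51 else cFP_50) else (bif Nat.ble 49 c then cFP_49 else cFP_48))))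
def sFP_0_4 (c : Nat) : Nat := (bif Nat.ble 72 c then (bif Nat.ble 76 c then (bif Nat.ble 78 c then (bif Nat.ble 79 c then cFP_79 else cFP_78) else (bif Nat.ble 77 c then cFP_77 else cFP_76)) else (bif Nat.ble 74 c then (bif Nat.ble 75 c then cFP_75 else cFP_74) else (bif Nat.ble 73 c then cFP_73 else cFP_72))) else (bif Nat.ble 68 c then (bif Nat.ble 70 c then (bif Nat.ble 71 c then cFP_71 else cFP_70) else (bif Nat.ble 69 c then cFP_69 else cFP_68)) else (bif Nat.ble 66 c then (bif Nat.ble 67 c then cFP_67 else cFP_66) else (bif Nat.ble 65 c then cFP_65 else cFP_64))))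
def sFP_0_5 (c : Nat) : Nat := (bif Nat.ble 88 c then (bif Nat.ble 92 c then (bif Nat.ble 94 c then (bif Nat.ble 95 c then cFP_95 else cFP_94) else (bif Nat.ble 93 c then cFP_93 else cFP_92)) else (bif Nat.ble 90 c then (bif Nat.ble 91 c then cFP_91 else cFP_90) else (bif Nat.ble 89 c then cFP_89 else cFP_88))) else (bif Nat.ble 84 c then (bif Nat.ble 86 c then (bif Nat.ble 87 c then cFP_87 else cFP_86) else (bif Nat.ble 85 c then cFP_85 else cFP_84)) else (bif Nat.ble 82 c then (bif Nat.ble 83 c then cFP_83 else cFP_82) else (bif Nat.ble 81 c then cFP_81 else cFP_80))))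
def sFP_0_6 (c : Nat) : Nat := (bif Nat.ble 104 c then (bif Nat.ble 108 c then (bif Nat.ble 110 c then (bif Nat.ble 111 c then cFP_111 else cFP_110) else (bif Nat.ble 109 c then cFP_109 else cFP_108)) else (bif Nat.ble 106 c then (bif Nat.ble 107 c then cFP_107 else cFP_106) else (bif Nat.ble 105 c then cFP_105 else cFP_104))) else (bif Nat.ble 100 c then (bif Nat.ble 102 c then (bif Nat.ble 103 c then cFP_103 else cFP_102) else (bif Nat.ble 101 c then cFP_101 else cFP_100)) else (bif Nat.ble 98 c then (bif Nat.ble 99 c then cFP_99 else cFP_98) else (bif Nat.ble 97 c then cFP_97 else cFP_96))))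
def sFP_0_7 (c : Nat) : Nat := (bif Nat.ble 120 c then (bif Nat.ble 124 c then (bif Nat.ble 126 c then (bif Nat.ble 127 c then cFP_127 else cFP_126) else (bif Nat.ble 125 c then cFP_125 else cFP_124)) else (bif Nat.ble 122 c then (bif Nat.ble 123 c then cFP_123 else cFP_122) else (bif Nat.ble 121 c then cFP_121 else cFP_120))) else (bif Nat.ble 116 c then (bif Nat.ble 118 c then (bif Nat.ble 119 c then cFP_119 else cFP_118) else (bif Nat.ble 117 c then cFP_117 else cFP_116)) else (bif Nat.ble 114 c then (bif Nat.ble 115 c then cFP_115 else cFP_114) else (bif Nat.ble 113 c then cFP_113 else cFP_112))))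
def sFP_0_8 (c : Nat) : Nat := (bif Nat.ble 136 c then (bif Nat.ble 140 c then (bif Nat.ble 142 c then (bif Nat.ble 143 c then cFP_143 else cFP_142) else (bif Nat.ble 141 c then cFP_141 else cFP_140)) else (bif Nat.ble 138 c then (bif Nat.ble 139 c then cFP_139 else cFP_138) else (bif Nat.ble 137 c then cFP_137 else cFP_136))) else (bif Nat.ble 132 c then (bif Nat.ble 134 c then (bif Nat.ble 135 c then cFP_135 else cFP_134) else (bif Nat.ble 133 c then cFP_133 else cFP_132)) else (bif Nat.ble 130 c then (bif Nat.ble 131 c then cFP_131 else cFP_130) else (bif Nat.ble 129 c then cFP_129 else cFP_128))))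
def sFP_0_9 (c : Nat) : Nat := (bif Nat.ble 152 c then (bif Nat.ble 156 c then (bif Nat.ble 158 c then (bif Nat.ble 159 c then cFP_159 else cFP_158) else (bif Nat.ble 157 c then cFP_157 else cFP_156)) else (bif Nat.ble 154 c then (bif Nat.ble 155 c then cFP_155 else cFP_154) else (bif Nat.ble 153 c then cFP_153 else cFP_152))) else (bif Nat.ble 148 c then (bif Nat.ble 150 c then (bif Nat.ble 151 c then cFP_151 else cFP_150) else (bif Nat.ble 149 c then cFP_149 else cFP_148)) else (bif Nat.ble 146 c then (bif Nat.ble 147 c then cFP_147 else cFP_146) else (bif Nat.ble 145 c then cFP_145 else cFP_144))))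
def sFP_0_10 (c : Nat) : Nat := (bif Nat.ble 168 c then (bif Nat.ble 172 c then (bif Nat.ble 174 c then (bif Nat.ble 175 c then cFP_175 else cFP_174) else (bif Nat.ble 173 c then cFP_173 else cFP_172)) else (bif Nat.ble 170 c then (bif Nat.ble 171 c then cFP_171 else cFP_170) else (bif Nat.ble 169 c then cFP_169 else cFP_168))) else (bif Nat.ble 164 c then (bif Nat.ble 166 c then (bif Nat.ble 167 c then cFP_167 else cFP_166) else (bif Nat.ble 165 c then cFP_165 else cFP_164)) else (bif Nat.ble 162 c then (bif Nat.ble 163 c then cFP_163 else cFP_162) else (bif Nat.ble 161 c then cFP_161 else cFP_160))))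
def sFP_0_11 (c : Nat) : Nat := (bif Nat.ble 184 c then (bif Nat.ble 188 c then (bif Nat.ble 190 c then (bif Nat.ble 191 c then cFP_191 else cFP_190) else (bif Nat.ble 189 c then cFP_189 else cFP_188)) else (bif Nat.ble 186 c then (bif Nat.ble 187 c then cFP_187 else cFP_186) else (bif Nat.ble 185 c then cFP_185 else cFP_184))) else (bif Nat.ble 180 c then (bif Nat.ble 182 c then (bif Nat.ble 183 c then cFP_183 else cFP_182) else (bif Nat.ble 181 c then cFP_181 else cFP_180)) else (bif Nat.ble 178 c then (bif Nat.ble 179 c then cFP_179 else cFP_178) else (bif Nat.ble 177 c then cFP_177 else cFP_176))))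
def sFP_0_12 (c : Nat) : Nat := (bif Nat.ble 200 c then (bif Nat.ble 204 c then (bif Nat.ble 206 c then (bif Nat.ble 207 c then cFP_207 else cFP_206) else (bif Nat.ble 205 c then cFP_205 else cFP_204)) else (bif Nat.ble 202 c then (bif Nat.ble 203 c then cFP_203 else cFP_202) else (bif Nat.ble 201 c then cFP_201 else cFP_200))) else (bif Nat.ble 196 c then (bif Nat.ble 198 c then (bif Nat.ble 199 c then cFP_199 else cFP_198) else (bif Nat.ble 197 c then cFP_197 else cFP_196)) else (bif Nat.ble 194 c then (bif Nat.ble 195 c then cFP_195 else cFP_194) else (bif Nat.ble 193 c then cFP_193 else cFP_192))))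
def sFP_0_13 (c : Nat) : Nat := (bif Nat.ble 216 c then (bif Nat.ble 220 c then (bif Nat.ble 222 c then (bif Nat.ble 223 c then cFP_223 else cFP_222) else (bif Nat.ble 221 c then cFP_221 else cFP_220)) else (bif Nat.ble 218 c then (bif Nat.ble 219 c then cFP_219 else cFP_218) else (bif Nat.ble 217 c then cFP_217 else cFP_216))) else (bif Nat.ble 212 c then (bif Nat.ble 214 c then (bif Nat.ble 215 c then cFP_215 else cFP_214) else (bif Nat.ble 213 c then cFP_213 else cFP_212)) else (bif Nat.ble 210 c then (bif Nat.ble 211 c then cFP_211 else cFP_210) else (bif Nat.ble 209 c then cFP_209 else cFP_208))))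
def sFP_0_14 (c : Nat) : Nat := (bif Nat.ble 232 c then (bif Nat.ble 236 c then (bif Nat.ble 238 c then (bif Nat.ble 239 c then cFP_239 else cFP_238) else (bif Nat.ble 237 c then cFP_237 else cFP_236)) else (bif Nat.ble 234 c then (bif Nat.ble 235 c then cFP_235 else cFP_234) else (bif Nat.ble 233 c then cFP_233 else cFP_232))) else (bif Nat.ble 228 c then (bif Nat.ble 230 c then (bif Nat.ble 231 c then cFP_231 else cFP_230) else (bif Nat.ble 229 c then cFP_229 else cFP_228)) else (bif Nat.ble 226 c then (bif Nat.ble 227 c then cFP_227 else cFP_226) else (bif Nat.ble 225 c then cFP_225 else cFP_224))))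
def sFP_0_15 (c : Nat) : Nat := (bif Nat.ble 248 c then (bif Nat.ble 252 c then (bif Nat.ble 254 c then (bif Nat.ble 255 c then cFP_255 else cFP_254) else (bif Nat.ble 253 c then cFP_253 else cFP_252)) else (bif Nat.ble 250 c then (bif Nat.ble 251 c then cFP_251 else cFP_250) else (bif Nat.ble 249 c then cFP_249 else cFP_248))) else (bif Nat.ble 244 c then (bif Nat.ble 246 c then (bif Nat.ble 247 c then cFP_247 else cFP_246) else (bif Nat.ble 245 c then cFP_245 else cFP_244)) else (bif Nat.ble 242 c then (bif Nat.ble 243 c then cFP_243 else cFP_242) else (bif Nat.ble 241 c then cFP_241 else cFP_240))))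
def sFP_0_16 (c : Nat) : Nat := (bif Nat.ble 264 c then (bif Nat.ble 268 c then (bif Nat.ble 270 c then (bif Nat.ble 271 c then cFP_271 else cFP_270) else (bif Nat.ble 269 c then cFP_269 else cFP_268)) else (bif Nat.ble 266 c then (bif Nat.ble 267 c then cFP_267 else cFP_266) else (bif Nat.ble 265 c then cFP_265 else cFP_264))) else (bif Nat.ble 260 c then (bif Nat.ble 262 c then (bif Nat.ble 263 c then cFP_263 else cFP_262) else (bif Nat.ble 261 c then cFP_261 else cFP_260)) else (bif Nat.ble 258 c then (bif Nat.ble 259 c then cFP_259 else cFP_258) else (bif Nat.ble 257 c then cFP_257 else cFP_256))))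
def sFP_0_17 (c : Nat) : Nat := (bif Nat.ble 280 c then (bif Nat.ble 284 c then (bif Nat.ble 286 c then (bif Nat.ble 287 c then cFP_287 else cFP_286) else (bif Nat.ble 285 c then cFP_285 else cFP_284)) else (bif Nat.ble 282 c then (bif Nat.ble 283 c then cFP_283 else cFP_282) else (bif Nat.ble 281 c then cFP_281 else cFP_280))) else (bif Nat.ble 276 c then (bif Nat.ble 278 c then (bif Nat.ble 279 c then cFP_279 else cFP_278) else (bif Nat.ble 277 c then cFP_277 else cFP_276)) else (bif Nat.ble 274 c then (bif Nat.ble 275 c then cFP_275 else cFP_274) else (bif Nat.ble 273 c then cFP_273 else cFP_272))))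
def sFP_0_18 (c : Nat) : Nat := (bif Nat.ble 296 c then (bif Nat.ble 300 c then (bif Nat.ble 302 c then (bif Nat.ble 303 c then cFP_303 else cFP_302) else (bif Nat.ble 301 c then cFP_301 else cFP_300)) else (bif Nat.ble 298 c then (bif Nat.ble 299 c then cFP_299 else cFP_298) else (bif Nat.ble 297 c then cFP_297 else cFP_296))) else (bif Nat.ble 292 c then (bif Nat.ble 294 c then (bif Nat.ble 295 c then cFP_295 else cFP_294) else (bif Nat.ble 293 c then cFP_293 else cFP_292)) else (bif Nat.ble 290 c then (bif Nat.ble 291 c then cFP_291 else cFP_290) else (bif Nat.ble 289 c then cFP_289 else cFP_288))))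
def sFP_0_19 (c : Nat) : Nat := (bif Nat.ble 312 c then (bif Nat.ble 316 c then (bif Nat.ble 318 c then (bif Nat.ble 319 c then cFP_319 else cFP_318) else (bif Nat.ble 317 c then cFP_317 else cFP_316)) else (bif Nat.ble 314 c then (bif Nat.ble 315 c then cFP_315 else cFP_314) else (bif Nat.ble 313 c then cFP_313 else cFP_312))) else (bif Nat.ble 308 c then (bif Nat.ble 310 c then (bif Nat.ble 311 c then cFP_311 else cFP_310) else (bif Nat.ble 309 c then cFP_309 else cFP_308)) else (bif Nat.ble 306 c then (bif Nat.ble 307 c then cFP_307 else cFP_306) else (bif Nat.ble 305 c then cFP_305 else cFP_304))))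
def sFP_0_20 (c : Nat) : Nat := (bif Nat.ble 328 c then (bif Nat.ble 332 c then (bif Nat.ble 334 c then (bif Nat.ble 335 c then cFP_335 else cFP_334) else (bif Nat.ble 333 c then cFP_333 else cFP_332)) else (bif Nat.ble 330 c then (bif Nat.ble 331 c then cFP_331 else cFP_330) else (bif Nat.ble 329 c then cFP_329 else cFP_328))) else (bif Nat.ble 324 c then (bif Nat.ble 326 c then (bif Nat.ble 327 c then cFP_327 else cFP_326) else (bif Nat.ble 325 c then cFP_325 else cFP_324)) else (bif Nat.ble 322 c then (bif Nat.ble 323 c then cFP_323 else cFP_322) else (bif Nat.ble 321 c then cFP_321 else cFP_320))))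
def sFP_0_21 (c : Nat) : Nat := (bif Nat.ble 344 c then (bif Nat.ble 348 c then (bif Nat.ble 350 c then (bif Nat.ble 351 c then cFP_351 else cFP_350) else (bif Nat.ble 349 c then cFP_349 else cFP_348)) else (bif Nat.ble 346 c then (bif Nat.ble 347 c then cFP_347 else cFP_346) else (bif Nat.ble 345 c then cFP_345 else cFP_344))) else (bif Nat.ble 340 c then (bif Nat.ble 342 c then (bif Nat.ble 343 c then cFP_343 else cFP_342) else (bif Nat.ble 341 c then cFP_341 else cFP_340)) else (bif Nat.ble 338 c then (bif Nat.ble 339 c then cFP_339 else cFP_338) else (bif Nat.ble 337 c then cFP_337 else cFP_336))))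
def sFP_0_22 (c : Nat) : Nat := (bif Nat.ble 360 c then (bif Nat.ble 364 c then (bif Nat.ble 366 c then (bif Nat.ble 367 c then cFP_367 else cFP_366) else (bif Nat.ble 365 c then cFP_365 else cFP_364)) else (bif Nat.ble 362 c then (bif Nat.ble 363 c then cFP_363 else cFP_362) else (bif Nat.ble 361 c then cFP_361 else cFP_360))) else (bif Nat.ble 356 c then (bif Nat.ble 358 c then (bif Nat.ble 359 c then cFP_359 else cFP_358) else (bif Nat.ble 357 c then cFP_357 else cFP_356)) else (bif Nat.ble 354 c then (bif Nat.ble 355 c then cFP_355 else cFP_354) else (bif Nat.ble 353 c then cFP_353 else cFP_352))))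
def sFP_0_23 (c : Nat) : Nat := (bif Nat.ble 376 c then (bif Nat.ble 380 c then (bif Nat.ble 382 c then (bif Nat.ble 383 c then cFP_383 else cFP_382) else (bif Nat.ble 381 c then cFP_381 else cFP_380)) else (bif Nat.ble 378 c then (bif Nat.ble 379 c then cFP_379 else cFP_378) else (bif Nat.ble 377 c then cFP_377 else cFP_376))) else (bif Nat.ble 372 c then (bif Nat.ble 374 c then (bif Nat.ble 375 c then cFP_375 else cFP_374) else (bif Nat.ble 373 c then cFP_373 else cFP_372)) else (bif Nat.ble 370 c then (bif Nat.ble 371 c then cFP_371 else cFP_370) else (bif Nat.ble 369 c then cFP_369 else cFP_368))))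
def sFP_0_24 (c : Nat) : Nat := (bif Nat.ble 392 c then (bif Nat.ble 396 c then (bif Nat.ble 398 c then (bif Nat.ble 399 c then cFP_399 else cFP_398) else (bif Nat.ble 397 c then cFP_397 else cFP_396)) else (bif Nat.ble 394 c then (bif Nat.ble 395 c then cFP_395 else cFP_394) else (bif Nat.ble 393 c then cFP_393 else cFP_392))) else (bif Nat.ble 388 c then (bif Nat.ble 390 c then (bif Nat.ble 391 c then cFP_391 else cFP_390) else (bif Nat.ble 389 c then cFP_389 else cFP_388)) else (bif Nat.ble 386 c then (bif Nat.ble 387 c then cFP_387 else cFP_386) else (bif Nat.ble 385 c then cFP_385 else cFP_384))))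
def sFP_0_25 (c : Nat) : Nat := (bif Nat.ble 408 c then (bif Nat.ble 412 c then (bif Nat.ble 414 c then (bif Nat.ble 415 c then cFP_415 else cFP_414) else (bif Nat.ble 413 c then cFP_413 else cFP_412)) else (bif Nat.ble 410 c then (bif Nat.ble 411 c then cFP_411 else cFP_410) else (bif Nat.ble 409 c then cFP_409 else cFP_408))) else (bif Nat.ble 404 c then (bif Nat.ble 406 c then (bif Nat.ble 407 c then cFP_407 else cFP_406) else (bif Nat.ble 405 c then cFP_405 else cFP_404)) else (bif Nat.ble 402 c then (bif Nat.ble 403 c then cFP_403 else cFP_402) else (bif Nat.ble 401 c then cFP_401 else cFP_400))))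
def sFP_0_26 (c : Nat) : Nat := (bif Nat.ble 424 c then (bif Nat.ble 428 c then (bif Nat.ble 430 c then (bif Nat.ble 431 c then cFP_431 else cFP_430) else (bif Nat.ble 429 c then cFP_429 else cFP_428)) else (bif Nat.ble 426 c then (bif Nat.ble 427 c then cFP_427 else cFP_426) else (bif Nat.ble 425 c then cFP_425 else cFP_424))) else (bif Nat.ble 420 c then (bif Nat.ble 422 c then (bif Nat.ble 423 c then cFP_423 else cFP_422) else (bif Nat.ble 421 c then cFP_421 else cFP_420)) else (bif Nat.ble 418 c then (bif Nat.ble 419 c then cFP_419 else cFP_418) else (bif Nat.ble 417 c then cFP_417 else cFP_416))))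
def sFP_0_27 (c : Nat) : Nat := (bif Nat.ble 440 c then (bif Nat.ble 444 c then (bif Nat.ble 446 c then (bif Nat.ble 447 c then cFP_447 else cFP_446) else (bif Nat.ble 445 c then cFP_445 else cFP_444)) else (bif Nat.ble 442 c then (bif Nat.ble 443 c then cFP_443 else cFP_442) else (bif Nat.ble 441 c then cFP_441 else cFP_440))) else (bif Nat.ble 436 c then (bif Nat.ble 438 c then (bif Nat.ble 439 c then cFP_439 else cFP_438) else (bif Nat.ble 437 c then cFP_437 else cFP_436)) else (bif Nat.ble 434 c then (bif Nat.ble 435 c then cFP_435 else cFP_434) else (bif Nat.ble 433 c then cFP_433 else cFP_432))))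
def sFP_0_28 (c : Nat) : Nat := (bif Nat.ble 456 c then (bif Nat.ble 460 c then (bif Nat.ble 462 c then (bif Nat.ble 463 c then cFP_463 else cFP_462) else (bif Nat.ble 461 c then cFP_461 else cFP_460)) else (bif Nat.ble 458 c then (bif Nat.ble 459 c then cFP_459 else cFP_458) else (bif Nat.ble 457 c then cFP_457 else cFP_456))) else (bif Nat.ble 452 c then (bif Nat.ble 454 c then (bif Nat.ble 455 c then cFP_455 else cFP_454) else (bif Nat.ble 453 c then cFP_453 else cFP_452)) else (bif Nat.ble 450 c then (bif Nat.ble 451 c then cFP_451 else cFP_450) else (bif Nat.ble 449 c then cFP_449 else cFP_448))))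
def sFP_0_29 (c : Nat) : Nat := (bif Nat.ble 472 c then (bif Nat.ble 476 c then (bif Nat.ble 478 c then (bif Nat.ble 479 c then cFP_479 else cFP_478) else (bif Nat.ble 477 c then cFP_477 else cFP_476)) else (bif Nat.ble 474 c then (bif Nat.ble 475 c then cFP_475 else cFP_474) else (bif Nat.ble 473 c then cFP_473 else cFP_472))) else (bif Nat.ble 468 c then (bif Nat.ble 470 c then (bif Nat.ble 471 c then cFP_471 else cFP_470) else (bif Nat.ble 469 c then cFP_469 else cFP_468)) else (bif Nat.ble 466 c then (bif Nat.ble 467 c then cFP_467 else cFP_466) else (bif Nat.ble 465 c then cFP_465 else cFP_464))))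
def sFP_0_30 (c : Nat) : Nat := (bif Nat.ble 488 c then (bif Nat.ble 492 c then (bif Nat.ble 494 c then (bif Nat.ble 495 c then cFP_495 else cFP_494) else (bif Nat.ble 493 c then cFP_493 else cFP_492)) else (bif Nat.ble 490 c then (bif Nat.ble 491 c then cFP_491 else cFP_490) else (bif Nat.ble 489 c then cFP_489 else cFP_488))) else (bif Nat.ble 484 c then (bif Nat.ble 486 c then (bif Nat.ble 487 c then cFP_487 else cFP_486) else (bif Nat.ble 485 c then cFP_485 else cFP_484)) else (bif Nat.ble 482 c then (bif Nat.ble 483 c then cFP_483 else cFP_482) else (bif Nat.ble 481 c then cFP_481 else cFP_480))))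
def sFP_0_31 (c : Nat) : Nat := (bif Nat.ble 504 c then (bif Nat.ble 508 c then (bif Nat.ble 510 c then (bif Nat.ble 511 c then cFP_511 else cFP_510) else (bif Nat.ble 509 c then cFP_509 else cFP_508)) else (bif Nat.ble 506 c then (bif Nat.ble 507 c then cFP_507 else cFP_506) else (bif Nat.ble 505 c then cFP_505 else cFP_504))) else (bif Nat.ble 500 c then (bif Nat.ble 502 c then (bif Nat.ble 503 c then cFP_503 else cFP_502) else (bif Nat.ble 501 c then cFP_501 else cFP_500)) else (bif Nat.ble 498 c then (bif Nat.ble 499 c then cFP_499 else cFP_498) else (bif Nat.ble 497 c then cFP_497 else cFP_496))))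
def sFP_0_32 (c : Nat) : Nat := (bif Nat.ble 520 c then (bif Nat.ble 524 c then (bif Nat.ble 526 c then (bif Nat.ble 527 c then cFP_527 else cFP_526) else (bif Nat.ble 525 c then cFP_525 else cFP_524)) else (bif Nat.ble 522 c then (bif Nat.ble 523 c then cFP_523 else cFP_522) else (bif Nat.ble 521 c then cFP_521 else cFP_520))) else (bif Nat.ble 516 c then (bif Nat.ble 518 c then (bif Nat.ble 519 c then cFP_519 else cFP_518) else (bif Nat.ble 517 c then cFP_517 else cFP_516)) else (bif Nat.ble 514 c then (bif Nat.ble 515 c then cFP_515 else cFP_514) else (bif Nat.ble 513 c then cFP_513 else cFP_512))))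
def sFP_0_33 (c : Nat) : Nat := (bif Nat.ble 536 c then (bif Nat.ble 540 c then (bif Nat.ble 542 c then (bif Nat.ble 543 c then cFP_543 else cFP_542) else (bif Nat.ble 541 c then cFP_541 else cFP_540)) else (bif Nat.ble 538 c then (bif Nat.ble 539 c then cFP_539 else cFP_538) else (bif Nat.ble 537 c then cFP_537 else cFP_536))) else (bif Nat.ble 532 c then (bif Nat.ble 534 c then (bif Nat.ble 535 c then cFP_535 else cFP_534) else (bif Nat.ble 533 c then cFP_533 else cFP_532)) else (bif Nat.ble 530 c then (bif Nat.ble 531 c then cFP_531 else cFP_530) else (bif Nat.ble 529 c then cFP_529 else cFP_528))))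
def sFP_0_34 (c : Nat) : Nat := (bif Nat.ble 552 c then (bif Nat.ble 556 c then (bif Nat.ble 558 c then (bif Nat.ble 559 c then cFP_559 else cFP_558) else (bif Nat.ble 557 c then cFP_557 else cFP_556)) else (bif Nat.ble 554 c then (bif Nat.ble 555 c then cFP_555 else cFP_554) else (bif Nat.ble 553 c then cFP_553 else cFP_552))) else (bif Nat.ble 548 c then (bif Nat.ble 550 c then (bif Nat.ble 551 c then cFP_551 else cFP_550) else (bif Nat.ble 549 c then cFP_549 else cFP_548)) else (bif Nat.ble 546 c then (bif Nat.ble 547 c then cFP_547 else cFP_546) else (bif Nat.ble 545 c then cFP_545 else cFP_544))))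
def sFP_0_35 (c : Nat) : Nat := (bif Nat.ble 568 c then (bif Nat.ble 572 c then (bif Nat.ble 574 c then (bif Nat.ble 575 c then cFP_575 else cFP_574) else (bif Nat.ble 573 c then cFP_573 else cFP_572)) else (bif Nat.ble 570 c then (bif Nat.ble 571 c then cFP_571 else cFP_570) else (bif Nat.ble 569 c then cFP_569 else cFP_568))) else (bif Nat.ble 564 c then (bif Nat.ble 566 c then (bif Nat.ble 567 c then cFP_567 else cFP_566) else (bif Nat.ble 565 c then cFP_565 else cFP_564)) else (bif Nat.ble 562 c then (bif Nat.ble 563 c then cFP_563 else cFP_562) else (bif Nat.ble 561 c then cFP_561 else cFP_560))))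
def sFP_0_36 (c : Nat) : Nat := (bif Nat.ble 584 c then (bif Nat.ble 588 c then (bif Nat.ble 590 c then (bif Nat.ble 591 c then cFP_591 else cFP_590) else (bif Nat.ble 589 c then cFP_589 else cFP_588)) else (bif Nat.ble 586 c then (bif Nat.ble 587 c then cFP_587 else cFP_586) else (bif Nat.ble 585 c then cFP_585 else cFP_584))) else (bif Nat.ble 580 c then (bif Nat.ble 582 c then (bif Nat.ble 583 c then cFP_583 else cFP_582) else (bif Nat.ble 581 c then cFP_581 else cFP_580)) else (bif Nat.ble 578 c then (bif Nat.ble 579 c then cFP_579 else cFP_578) else (bif Nat.ble 577 c then cFP_577 else cFP_576))))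
def sFP_0_37 (c : Nat) : Nat := (bif Nat.ble 600 c then (bif Nat.ble 604 c then (bif Nat.ble 606 c then (bif Nat.ble 607 c then cFP_607 else cFP_606) else (bif Nat.ble 605 c then cFP_605 else cFP_604)) else (bif Nat.ble 602 c then (bif Nat.ble 603 c then cFP_603 else cFP_602) else (bif Nat.ble 601 c then cFP_601 else cFP_600))) else (bif Nat.ble 596 c then (bif Nat.ble 598 c then (bif Nat.ble 599 c then cFP_599 else cFP_598) else (bif Nat.ble 597 c then cFP_597 else cFP_596)) else (bif Nat.ble 594 c then (bif Nat.ble 595 c then cFP_595 else cFP_594) else (bif Nat.ble 593 c then cFP_593 else cFP_592))))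
def sFP_0_38 (c : Nat) : Nat := (bif Nat.ble 616 c then (bif Nat.ble 620 c then (bif Nat.ble 622 c then (bif Nat.ble 623 c then cFP_623 else cFP_622) else (bif Nat.ble 621 c then cFP_621 else cFP_620)) else (bif Nat.ble 618 c then (bif Nat.ble 619 c then cFP_619 else cFP_618) else (bif Nat.ble 617 c then cFP_617 else cFP_616))) else (bif Nat.ble 612 c then (bif Nat.ble 614 c then (bif Nat.ble 615 c then cFP_615 else cFP_614) else (bif Nat.ble 613 c then cFP_613 else cFP_612)) else (bif Nat.ble 610 c then (bif Nat.ble 611 c then cFP_611 else cFP_610) else (bif Nat.ble 609 c then cFP_609 else cFP_608))))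
def sFP_0_39 (c : Nat) : Nat := (bif Nat.ble 632 c then (bif Nat.ble 636 c then (bif Nat.ble 638 c then (bif Nat.ble 639 c then cFP_639 else cFP_638) else (bif Nat.ble 637 c then cFP_637 else cFP_636)) else (bif Nat.ble 634 c then (bif Nat.ble 635 c then cFP_635 else cFP_634) else (bif Nat.ble 633 c then cFP_633 else cFP_632))) else (bif Nat.ble 628 c then (bif Nat.ble 630 c then (bif Nat.ble 631 c then cFP_631 else cFP_630) else (bif Nat.ble 629 c then cFP_629 else cFP_628)) else (bif Nat.ble 626 c then (bif Nat.ble 627 c then cFP_627 else cFP_626) else (bif Nat.ble 625 c then cFP_625 else cFP_624))))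
def sFP_0_40 (c : Nat) : Nat := (bif Nat.ble 648 c then (bif Nat.ble 652 c then (bif Nat.ble 654 c then (bif Nat.ble 655 c then cFP_655 else cFP_654) else (bif Nat.ble 653 c then cFP_653 else cFP_652)) else (bif Nat.ble 650 c then (bif Nat.ble 651 c then cFP_651 else cFP_650) else (bif Nat.ble 649 c then cFP_649 else cFP_648))) else (bif Nat.ble 644 c then (bif Nat.ble 646 c then (bif Nat.ble 647 c then cFP_647 else cFP_646) else (bif Nat.ble 645 c then cFP_645 else cFP_644)) else (bif Nat.ble 642 c then (bif Nat.ble 643 c then cFP_643 else cFP_642) else (bif Nat.ble 641 c then cFP_641 else cFP_640))))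
def sFP_0_41 (c : Nat) : Nat := (bif Nat.ble 664 c then (bif Nat.ble 668 c then (bif Nat.ble 670 c then (bif Nat.ble 671 c then cFP_671 else cFP_670) else (bif Nat.ble 669 c then cFP_669 else cFP_668)) else (bif Nat.ble 666 c then (bif Nat.ble 667 c then cFP_667 else cFP_666) else (bif Nat.ble 665 c then cFP_665 else cFP_664))) else (bif Nat.ble 660 c then (bif Nat.ble 662 c then (bif Nat.ble 663 c then cFP_663 else cFP_662) else (bif Nat.ble 661 c then cFP_661 else cFP_660)) else (bif Nat.ble 658 c then (bif Nat.ble 659 c then cFP_659 else cFP_658) else (bif Nat.ble 657 c then cFP_657 else cFP_656))))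
def sFP_0_42 (c : Nat) : Nat := (bif Nat.ble 680 c then (bif Nat.ble 684 c then (bif Nat.ble 686 c then (bif Nat.ble 687 c then cFP_687 else cFP_686) else (bif Nat.ble 685 c then cFP_685 else cFP_684)) else (bif Nat.ble 682 c then (bif Nat.ble 683 c then cFP_683 else cFP_682) else (bif Nat.ble 681 c then cFP_681 else cFP_680))) else (bif Nat.ble 676 c then (bif Nat.ble 678 c then (bif Nat.ble 679 c then cFP_679 else cFP_678) else (bif Nat.ble 677 c then cFP_677 else cFP_676)) else (bif Nat.ble 674 c then (bif Nat.ble 675 c then cFP_675 else cFP_674) else (bif Nat.ble 673 c then cFP_673 else cFP_672))))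
def sFP_0_43 (c : Nat) : Nat := (bif Nat.ble 696 c then (bif Nat.ble 700 c then (bif Nat.ble 702 c then (bif Nat.ble 703 c then cFP_703 else cFP_702) else (bif Nat.ble 701 c then cFP_701 else cFP_700)) else (bif Nat.ble 698 c then (bif Nat.ble 699 c then cFP_699 else cFP_698) else (bif Nat.ble 697 c then cFP_697 else cFP_696))) else (bif Nat.ble 692 c then (bif Nat.ble 694 c then (bif Nat.ble 695 c then cFP_695 else cFP_694) else (bif Nat.ble 693 c then cFP_693 else cFP_692)) else (bif Nat.ble 690 c then (bif Nat.ble 691 c then cFP_691 else cFP_690) else (bif Nat.ble 689 c then cFP_689 else cFP_688))))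
def sFP_0_44 (c : Nat) : Nat := (bif Nat.ble 712 c then (bif Nat.ble 716 c then (bif Nat.ble 718 c then (bif Nat.ble 719 c then cFP_719 else cFP_718) else (bif Nat.ble 717 c then cFP_717 else cFP_716)) else (bif Nat.ble 714 c then (bif Nat.ble 715 c then cFP_715 else cFP_714) else (bif Nat.ble 713 c then cFP_713 else cFP_712))) else (bif Nat.ble 708 c then (bif Nat.ble 710 c then (bif Nat.ble 711 c then cFP_711 else cFP_710) else (bif Nat.ble 709 c then cFP_709 else cFP_708)) else (bif Nat.ble 706 c then (bif Nat.ble 707 c then cFP_707 else cFP_706) else (bif Nat.ble 705 c then cFP_705 else cFP_704))))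
def sFP_0_45 (c : Nat) : Nat := (bif Nat.ble 728 c then (bif Nat.ble 732 c then (bif Nat.ble 734 c then (bif Nat.ble 735 c then cFP_735 else cFP_734) else (bif Nat.ble 733 c then cFP_733 else cFP_732)) else (bif Nat.ble 730 c then (bif Nat.ble 731 c then cFP_731 else cFP_730) else (bif Nat.ble 729 c then cFP_729 else cFP_728))) else (bif Nat.ble 724 c then (bif Nat.ble 726 c then (bif Nat.ble 727 c then cFP_727 else cFP_726) else (bif Nat.ble 725 c then cFP_725 else cFP_724)) else (bif Nat.ble 722 c then (bif Nat.ble 723 c then cFP_723 else cFP_722) else (bif Nat.ble 721 c then cFP_721 else cFP_720))))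
def sFP_0_46 (c : Nat) : Nat := (bif Nat.ble 744 c then (bif Nat.ble 748 c then (bif Nat.ble 750 c then (bif Nat.ble 751 c then cFP_751 else cFP_750) else (bif Nat.ble 749 c then cFP_749 else cFP_748)) else (bif Nat.ble 746 c then (bif Nat.ble 747 c then cFP_747 else cFP_746) else (bif Nat.ble 745 c then cFP_745 else cFP_744))) else (bif Nat.ble 740 c then (bif Nat.ble 742 c then (bif Nat.ble 743 c then cFP_743 else cFP_742) else (bif Nat.ble 741 c then cFP_741 else cFP_740)) else (bif Nat.ble 738 c then (bif Nat.ble 739 c then cFP_739 else cFP_738) else (bif Nat.ble 737 c then cFP_737 else cFP_736))))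
def sFP_0_47 (c : Nat) : Nat := (bif Nat.ble 760 c then (bif Nat.ble 764 c then (bif Nat.ble 766 c then (bif Nat.ble 767 c then cFP_767 else cFP_766) else (bif Nat.ble 765 c then cFP_765 else cFP_764)) else (bif Nat.ble 762 c then (bif Nat.ble 763 c then cFP_763 else cFP_762) else (bif Nat.ble 761 c then cFP_761 else cFP_760))) else (bif Nat.ble 756 c then (bif Nat.ble 758 c then (bif Nat.ble 759 c then cFP_759 else cFP_758) else (bif Nat.ble 757 c then cFP_757 else cFP_756)) else (bif Nat.ble 754 c then (bif Nat.ble 755 c then cFP_755 else cFP_754) else (bif Nat.ble 753 c then cFP_753 else cFP_752))))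
def sFP_0_48 (c : Nat) : Nat := (bif Nat.ble 776 c then (bif Nat.ble 780 c then (bif Nat.ble 782 c then (bif Nat.ble 783 c then cFP_783 else cFP_782) else (bif Nat.ble 781 c then cFP_781 else cFP_780)) else (bif Nat.ble 778 c then (bif Nat.ble 779 c then cFP_779 else cFP_778) else (bif Nat.ble 777 c then cFP_777 else cFP_776))) else (bif Nat.ble 772 c then (bif Nat.ble 774 c then (bif Nat.ble 775 c then cFP_775 else cFP_774) else (bif Nat.ble 773 c then cFP_773 else cFP_772)) else (bif Nat.ble 770 c then (bif Nat.ble 771 c then cFP_771 else cFP_770) else (bif Nat.ble 769 c then cFP_769 else cFP_768))))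
def sFP_0_49 (c : Nat) : Nat := (bif Nat.ble 792 c then (bif Nat.ble 796 c then (bif Nat.ble 798 c then (bif Nat.ble 799 c then cFP_799 else cFP_798) else (bif Nat.ble 797 c then cFP_797 else cFP_796)) else (bif Nat.ble 794 c then (bif Nat.ble 795 c then cFP_795 else cFP_794) else (bif Nat.ble 793 c then cFP_793 else cFP_792))) else (bif Nat.ble 788 c then (bif Nat.ble 790 c then (bif Nat.ble 791 c then cFP_791 else cFP_790) else (bif Nat.ble 789 c then cFP_789 else cFP_788)) else (bif Nat.ble 786 c then (bif Nat.ble 787 c then cFP_787 else cFP_786) else (bif Nat.ble 785 c then cFP_785 else cFP_784))))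
def sFP_0_50 (c : Nat) : Nat := (bif Nat.ble 808 c then (bif Nat.ble 812 c then (bif Nat.ble 814 c then (bif Nat.ble 815 c then cFP_815 else cFP_814) else (bif Nat.ble 813 c then cFP_813 else cFP_812)) else (bif Nat.ble 810 c then (bif Nat.ble 811 c then cFP_811 else cFP_810) else (bif Nat.ble 809 c then cFP_809 else cFP_808))) else (bif Nat.ble 804 c then (bif Nat.ble 806 c then (bif Nat.ble 807 c then cFP_807 else cFP_806) else (bif Nat.ble 805 c then cFP_805 else cFP_804)) else (bif Nat.ble 802 c then (bif Nat.ble 803 c then cFP_803 else cFP_802) else (bif Nat.ble 801 c then cFP_801 else cFP_800))))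
def sFP_0_51 (c : Nat) : Nat := (bif Nat.ble 824 c then (bif Nat.ble 828 c then (bif Nat.ble 830 c then (bif Nat.ble 831 c then cFP_831 else cFP_830) else (bif Nat.ble 829 c then cFP_829 else cFP_828)) else (bif Nat.ble 826 c then (bif Nat.ble 827 c then cFP_827 else cFP_826) else (bif Nat.ble 825 c then cFP_825 else cFP_824))) else (bif Nat.ble 820 c then (bif Nat.ble 822 c then (bif Nat.ble 823 c then cFP_823 else cFP_822) else (bif Nat.ble 821 c then cFP_821 else cFP_820)) else (bif Nat.ble 818 c then (bif Nat.ble 819 c then cFP_819 else cFP_818) else (bif Nat.ble 817 c then cFP_817 else cFP_816))))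
def sFP_0_52 (c : Nat) : Nat := (bif Nat.ble 840 c then (bif Nat.ble 844 c then (bif Nat.ble 846 c then (bif Nat.ble 847 c then cFP_847 else cFP_846) else (bif Nat.ble 845 c then cFP_845 else cFP_844)) else (bif Nat.ble 842 c then (bif Nat.ble 843 c then cFP_843 else cFP_842) else (bif Nat.ble 841 c then cFP_841 else cFP_840))) else (bif Nat.ble 836 c then (bif Nat.ble 838 c then (bif Nat.ble 839 c then cFP_839 else cFP_838) else (bif Nat.ble 837 c then cFP_837 else cFP_836)) else (bif Nat.ble 834 c then (bif Nat.ble 835 c then cFP_835 else cFP_834) else (bif Nat.ble 833 c then cFP_833 else cFP_832))))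
def sFP_0_53 (c : Nat) : Nat := (bif Nat.ble 856 c then (bif Nat.ble 860 c then (bif Nat.ble 862 c then (bif Nat.ble 863 c then cFP_863 else cFP_862) else (bif Nat.ble 861 c then cFP_861 else cFP_860)) else (bif Nat.ble 858 c then (bif Nat.ble 859 c then cFP_859 else cFP_858) else (bif Nat.ble 857 c then cFP_857 else cFP_856))) else (bif Nat.ble 852 c then (bif Nat.ble 854 c then (bif Nat.ble 855 c then cFP_855 else cFP_854) else (bif Nat.ble 853 c then cFP_853 else cFP_852)) else (bif Nat.ble 850 c then (bif Nat.ble 851 c then cFP_851 else cFP_850) else (bif Nat.ble 849 c then cFP_849 else cFP_848))))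
def sFP_0_54 (c : Nat) : Nat := cFP_864
def sFP_1_0 (c : Nat) : Nat := (bif Nat.ble 128 c then (bif Nat.ble 192 c then (bif Nat.ble 224 c then (bif Nat.ble 240 c then sFP_0_15 c else sFP_0_14 c) else (bif Nat.ble 208 c then sFP_0_13 c else sFP_0_12 c)) else (bif Nat.ble 160 c then (bif Nat.ble 176 c then sFP_0_11 c else sFP_0_10 c) else (bif Nat.ble 144 c then sFP_0_9 c else sFP_0_8 c))) else (bif Nat.ble 64 c then (bif Nat.ble 96 c then (bif Nat.ble 112 c then sFP_0_7 c else sFP_0_6 c) else (bif Nat.ble 80 c then sFP_0_5 c else sFP_0_4 c)) else (bif Nat.ble 32 c then (bif Nat.ble 48 c then sFP_0_3 c else sFP_0_2 c) else (bif Nat.ble 16 c then sFP_0_1 c else sFP_0_0 c))))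
def sFP_1_1 (c : Nat) : Nat := (bif Nat.ble 384 c then (bif Nat.ble 448 c then (bif Nat.ble 480 c then (bif Nat.ble 496 c then sFP_0_31 c else sFP_0_30 c) else (bif Nat.ble 464 c then sFP_0_29 c else sFP_0_28 c)) else (bif Nat.ble 416 c then (bif Nat.ble 432 c then sFP_0_27 c else sFP_0_26 c) else (bif Nat.ble 400 c then sFP_0_25 c else sFP_0_24 c))) else (bif Nat.ble 320 c then (bif Nat.ble 352 c then (bif Nat.ble 368 c then sFP_0_23 c else sFP_0_22 c) else (bif Nat.ble 336 c then sFP_0_21 c else sFP_0_20 c)) else (bif Nat.ble 288 c then (bif Nat.ble 304 c then sFP_0_19 c else sFP_0_18 c) else (bif Nat.ble 272 c then sFP_0_17 c else sFP_0_16 c))))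
def sFP_1_2 (c : Nat) : Nat := (bif Nat.ble 640 c then (bif Nat.ble 704 c then (bif Nat.ble 736 c then (bif Nat.ble 752 c then sFP_0_47 c else sFP_0_46 c) else (bif Nat.ble 720 c then sFP_0_45 c else sFP_0_44 c)) else (bif Nat.ble 672 c then (bif Nat.ble 688 c then sFP_0_43 c else sFP_0_42 c) else (bif Nat.ble 656 c then sFP_0_41 c else sFP_0_40 c))) else (bif Nat.ble 576 c then (bif Nat.ble 608 c then (bif Nat.ble 624 c then sFP_0_39 c else sFP_0_38 c) else (bif Nat.ble 592 c then sFP_0_37 c else sFP_0_36 c)) else (bif Nat.ble 544 c then (bif Nat.ble 560 c then sFP_0_35 c else sFP_0_34 c) else (bif Nat.ble 528 c then sFP_0_33 c else sFP_0_32 c))))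
def sFP_1_3 (c : Nat) : Nat := (bif Nat.ble 832 c then (bif Nat.ble 864 c then sFP_0_54 c else (bif Nat.ble 848 c then sFP_0_53 c else sFP_0_52 c)) else (bif Nat.ble 800 c then (bif Nat.ble 816 c then sFP_0_51 c else sFP_0_50 c) else (bif Nat.ble 784 c then sFP_0_49 c else sFP_0_48 c)))
def sFP (c : Nat) : Nat := (bif Nat.ble 512 c then (bif Nat.ble 768 c then sFP_1_3 c else sFP_1_2 c) else (bif Nat.ble 256 c then sFP_1_1 c else sFP_1_0 c))
def gFP (i : Nat) : Nat := Nat.land (Nat.shiftRight (sFP (Nat.shiftRight i 8)) (Nat.mul 39 (Nat.land i 255))) 549755813887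
def sFJ_0_0 (c : Nat) : Nat := (bif Nat.ble 8 c then (bif Nat.ble 12 c then (bif Nat.ble 14 c then (bif Nat.ble 15 c then cFJ_15 else cFJ_14) else (bif Nat.ble 13 c then cFJ_13 else cFJ_12)) else (bif Nat.ble 10 c then (bif Nat.ble 11 c then cFJ_11 else cFJ_10) else (bif Nat.ble 9 c then cFJ_9 else cFJ_8))) else (bif Nat.ble 4 c then (bif Nat.ble 6 c then (bif Nat.ble 7 c then cFJ_7 else cFJ_6) else (bif Nat.ble 5 c then cFJ_5 else cFJ_4)) else (bif Nat.ble 2 c then (bif Nat.ble 3 c then cFJ_3 else cFJ_2) else (bif Nat.ble 1 c then cFJ_1 else cFJ_0))))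
def sFJ_0_1 (c : Nat) : Nat := (bif Nat.ble 24 c then (bif Nat.ble 28 c then (bif Nat.ble 30 c then (bif Nat.ble 31 c then cFJ_31 else cFJ_30) else (bif Nat.ble 29 c then cFJ_29 else cFJ_28)) else (bif Nat.ble 26 c then (bif Nat.ble 27 c then cFJ_27 else cFJ_26) else (bif Nat.ble 25 c then cFJ_25 else cFJ_24))) else (bif Nat.ble 20 c then (bif Nat.ble 22 c then (bif Nat.ble 23 c then cFJ_23 else cFJ_22) else (bif Nat.ble 21 c then cFJ_21 else cFJ_20)) else (bif Nat.ble 18 c then (bif Nat.ble 19 c then cFJ_19 else cFJ_18) else (bif Nat.ble 17 c then cFJ_17 else cFJ_16))))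
def sFJ_0_2 (c : Nat) : Nat := (bif Nat.ble 40 c then (bif Nat.ble 44 c then (bif Nat.ble 46 c then (bif Nat.ble 47 c then cFJ_47 else cFJ_46) else (bif Nat.ble 45 c then cFJ_45 else cFJ_44)) else (bif Nat.ble 42 c then (bif Nat.ble 43 c then cFJ_43 else cFJ_42) else (bif Nat.ble 41 c then cFJ_41 else cFJ_40))) else (bif Nat.ble 36 c then (bif Nat.ble 38 c then (bif Nat.ble 39 c then cFJ_39 else cFJ_38) else (bif Nat.ble 37 c then cFJ_37 else cFJ_36)) else (bif Nat.ble 34 c then (bif Nat.ble 35 c then cFJ_35 else cFJ_34) else (bif Nat.ble 33 c then cFJ_33 else cFJ_32))))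
def sFJ_0_3 (c : Nat) : Nat := (bif Nat.ble 56 c then (bif Nat.ble 60 c then (bif Nat.ble 62 c then (bif Nat.ble 63 c then cFJ_63 else cFJ_62) else (bif Nat.ble 61 c then cFJ_61 else cFJ_60)) else (bif Nat.ble 58 c then (bif Nat.ble 59 c then cFJ_59 else cFJ_58) else (bif Nat.ble 57 c then cFJ_57 else cFJ_56))) else (bif Nat.ble 52 c then (bif Nat.ble 54 c then (bif Nat.ble 55 c then cFJ_55 else cFJ_54) else (bif Nat.ble 53 c then cFJ_53 else cFJ_52)) else (bif Nat.ble 50 c then (bif Nat.ble 51 c then cFJ_51 else cFJ_50) else (bif Nat.ble 49 c then cFJ_49 else cFJ_48))))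
def sFJ_0_4 (c : Nat) : Nat := (bif Nat.ble 72 c then (bif Nat.ble 76 c then (bif Nat.ble 78 c then (bif Nat.ble 79 c then cFJ_79 else cFJ_78) else (bif Nat.ble 77 c then cFJ_77 else cFJ_76)) else (bif Nat.ble 74 c then (bif Nat.ble 75 c then cFJ_75 else cFJ_74) else (bif Nat.ble 73 c then cFJ_73 else cFJ_72))) else (bif Nat.ble 68 c then (bif Nat.ble 70 c then (bif Nat.ble 71 c then cFJ_71 else cFJ_70) else (bif Nat.ble 69 c then cFJ_69 else cFJ_68)) else (bif Nat.ble 66 c then (bif Nat.ble 67 c then cFJ_67 else cFJ_66) else (bif Nat.ble 65 c then cFJ_65 else cFJ_64))))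
def sFJ_0_5 (c : Nat) : Nat := (bif Nat.ble 88 c then (bif Nat.ble 92 c then (bif Nat.ble 94 c then (bif Nat.ble 95 c then cFJ_95 else cFJ_94) else (bif Nat.ble 93 c then cFJ_93 else cFJ_92)) else (bif Nat.ble 90 c then (bif Nat.ble 91 c then cFJ_91 else cFJ_90) else (bif Nat.ble 89 c then cFJ_89 else cFJ_88))) else (bif Nat.ble 84 c then (bif Nat.ble 86 c then (bif Nat.ble 87 c then cFJ_87 else cFJ_86) else (bif Nat.ble 85 c then cFJ_85 else cFJ_84)) else (bif Nat.ble 82 c then (bif Nat.ble 83 c then cFJ_83 else cFJ_82) else (bif Nat.ble 81 c then cFJ_81 else cFJ_80))))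
def sFJ_0_6 (c : Nat) : Nat := (bif Nat.ble 104 c then (bif Nat.ble 108 c then (bif Nat.ble 110 c then (bif Nat.ble 111 c then cFJ_111 else cFJ_110) else (bif Nat.ble 109 c then cFJ_109 else cFJ_108)) else (bif Nat.ble 106 c then (bif Nat.ble 107 c then cFJ_107 else cFJ_106) else (bif Nat.ble 105 c then cFJ_105 else cFJ_104))) else (bif Nat.ble 100 c then (bif Nat.ble 102 c then (bif Nat.ble 103 c then cFJ_103 else cFJ_102) else (bif Nat.ble 101 c then cFJ_101 else cFJ_100)) else (bif Nat.ble 98 c then (bif Nat.ble 99 c then cFJ_99 else cFJ_98) else (bif Nat.ble 97 c then cFJ_97 else cFJ_96))))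
def sFJ_0_7 (c : Nat) : Nat := (bif Nat.ble 120 c then (bif Nat.ble 124 c then (bif Nat.ble 126 c then (bif Nat.ble 127 c then cFJ_127 else cFJ_126) else (bif Nat.ble 125 c then cFJ_125 else cFJ_124)) else (bif Nat.ble 122 c then (bif Nat.ble 123 c then cFJ_123 else cFJ_122) else (bif Nat.ble 121 c then cFJ_121 else cFJ_120))) else (bif Nat.ble 116 c then (bif Nat.ble 118 c then (bif Nat.ble 119 c then cFJ_119 else cFJ_118) else (bif Nat.ble 117 c then cFJ_117 else cFJ_116)) else (bif Nat.ble 114 c then (bif Nat.ble 115 c then cFJ_115 else cFJ_114) else (bif Nat.ble 113 c then cFJ_113 else cFJ_112))))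
def sFJ_0_8 (c : Nat) : Nat := (bif Nat.ble 136 c then (bif Nat.ble 140 c then (bif Nat.ble 142 c then (bif Nat.ble 143 c then cFJ_143 else cFJ_142) else (bif Nat.ble 141 c then cFJ_141 else cFJ_140)) else (bif Nat.ble 138 c then (bif Nat.ble 139 c then cFJ_139 else cFJ_138) else (bif Nat.ble 137 c then cFJ_137 else cFJ_136))) else (bif Nat.ble 132 c then (bif Nat.ble 134 c then (bif Nat.ble 135 c then cFJ_135 else cFJ_134) else (bif Nat.ble 133 c then cFJ_133 else cFJ_132)) else (bif Nat.ble 130 c then (bif Nat.ble 131 c then cFJ_131 else cFJ_130) else (bif Nat.ble 129 c then cFJ_129 else cFJ_128))))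
def sFJ_0_9 (c : Nat) : Nat := (bif Nat.ble 152 c then (bif Nat.ble 156 c then (bif Nat.ble 158 c then (bif Nat.ble 159 c then cFJ_159 else cFJ_158) else (bif Nat.ble 157 c then cFJ_157 else cFJ_156)) else (bif Nat.ble 154 c then (bif Nat.ble 155 c then cFJ_155 else cFJ_154) else (bif Nat.ble 153 c then cFJ_153 else cFJ_152))) else (bif Nat.ble 148 c then (bif Nat.ble 150 c then (bif Nat.ble 151 c then cFJ_151 else cFJ_150) else (bif Nat.ble 149 c then cFJ_149 else cFJ_148)) else (bif Nat.ble 146 c then (bif Nat.ble 147 c then cFJ_147 else cFJ_146) else (bif Nat.ble 145 c then cFJ_145 else cFJ_144))))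
def sFJ_0_10 (c : Nat) : Nat := (bif Nat.ble 168 c then (bif Nat.ble 172 c then (bif Nat.ble 174 c then (bif Nat.ble 175 c then cFJ_175 else cFJ_174) else (bif Nat.ble 173 c then cFJ_173 else cFJ_172)) else (bif Nat.ble 170 c then (bif Nat.ble 171 c then cFJ_171 else cFJ_170) else (bif Nat.ble 169 c then cFJ_169 else cFJ_168))) else (bif Nat.ble 164 c then (bif Nat.ble 166 c then (bif Nat.ble 167 c then cFJ_167 else cFJ_166) else (bif Nat.ble 165 c then cFJ_165 else cFJ_164)) else (bif Nat.ble 162 c then (bif Nat.ble 163 c then cFJ_163 else cFJ_162) else (bif Nat.ble 161 c then cFJ_161 else cFJ_160))))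
def sFJ_0_11 (c : Nat) : Nat := (bif Nat.ble 184 c then (bif Nat.ble 188 c then (bif Nat.ble 190 c then (bif Nat.ble 191 c then cFJ_191 else cFJ_190) else (bif Nat.ble 189 c then cFJ_189 else cFJ_188)) else (bif Nat.ble 186 c then (bif Nat.ble 187 c then cFJ_187 else cFJ_186) else (bif Nat.ble 185 c then cFJ_185 else cFJ_184))) else (bif Nat.ble 180 c then (bif Nat.ble 182 c then (bif Nat.ble 183 c then cFJ_183 else cFJ_182) else (bif Nat.ble 181 c then cFJ_181 else cFJ_180)) else (bif Nat.ble 178 c then (bif Nat.ble 179 c then cFJ_179 else cFJ_178) else (bif Nat.ble 177 c then cFJ_177 else cFJ_176))))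
def sFJ_0_12 (c : Nat) : Nat := (bif Nat.ble 200 c then (bif Nat.ble 204 c then (bif Nat.ble 206 c then (bif Nat.ble 207 c then cFJ_207 else cFJ_206) else (bif Nat.ble 205 c then cFJ_205 else cFJ_204)) else (bif Nat.ble 202 c then (bif Nat.ble 203 c then cFJ_203 else cFJ_202) else (bif Nat.ble 201 c then cFJ_201 else cFJ_200))) else (bif Nat.ble 196 c then (bif Nat.ble 198 c then (bif Nat.ble 199 c then cFJ_199 else cFJ_198) else (bif Nat.ble 197 c then cFJ_197 else cFJ_196)) else (bif Nat.ble 194 c then (bif Nat.ble 195 c then cFJ_195 else cFJ_194) else (bif Nat.ble 193 c then cFJ_193 else cFJ_192))))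
def sFJ_0_13 (c : Nat) : Nat := (bif Nat.ble 216 c then (bif Nat.ble 220 c then (bif Nat.ble 222 c then (bif Nat.ble 223 c then cFJ_223 else cFJ_222) else (bif Nat.ble 221 c then cFJ_221 else cFJ_220)) else (bif Nat.ble 218 c then (bif Nat.ble 219 c then cFJ_219 else cFJ_218) else (bif Nat.ble 217 c then cFJ_217 else cFJ_216))) else (bif Nat.ble 212 c then (bif Nat.ble 214 c then (bif Nat.ble 215 c then cFJ_215 else cFJ_214) else (bif Nat.ble 213 c then cFJ_213 else cFJ_212)) else (bif Nat.ble 210 c then (bif Nat.ble 211 c then cFJ_211 else cFJ_210) else (bif Nat.ble 209 c then cFJ_209 else cFJ_208))))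
def sFJ_0_14 (c : Nat) : Nat := (bif Nat.ble 232 c then (bif Nat.ble 236 c then (bif Nat.ble 238 c then (bif Nat.ble 239 c then cFJ_239 else cFJ_238) else (bif Nat.ble 237 c then cFJ_237 else cFJ_236)) else (bif Nat.ble 234 c then (bif Nat.ble 235 c then cFJ_235 else cFJ_234) else (bif Nat.ble 233 c then cFJ_233 else cFJ_232))) else (bif Nat.ble 228 c then (bif Nat.ble 230 c then (bif Nat.ble 231 c then cFJ_231 else cFJ_230) else (bif Nat.ble 229 c then cFJ_229 else cFJ_228)) else (bif Nat.ble 226 c then (bif Nat.ble 227 c then cFJ_227 else cFJ_226) else (bif Nat.ble 225 c then cFJ_225 else cFJ_224))))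
def sFJ_0_15 (c : Nat) : Nat := (bif Nat.ble 248 c then (bif Nat.ble 252 c then (bif Nat.ble 254 c then (bif Nat.ble 255 c then cFJ_255 else cFJ_254) else (bif Nat.ble 253 c then cFJ_253 else cFJ_252)) else (bif Nat.ble 250 c then (bif Nat.ble 251 c then cFJ_251 else cFJ_250) else (bif Nat.ble 249 c then cFJ_249 else cFJ_248))) else (bif Nat.ble 244 c then (bif Nat.ble 246 c then (bif Nat.ble 247 c then cFJ_247 else cFJ_246) else (bif Nat.ble 245 c then cFJ_245 else cFJ_244)) else (bif Nat.ble 242 c then (bif Nat.ble 243 c then cFJ_243 else cFJ_242) else (bif Nat.ble 241 c then cFJ_241 else cFJ_240))))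
def sFJ_0_16 (c : Nat) : Nat := (bif Nat.ble 264 c then (bif Nat.ble 268 c then (bif Nat.ble 270 c then (bif Nat.ble 271 c then cFJ_271 else cFJ_270) else (bif Nat.ble 269 c then cFJ_269 else cFJ_268)) else (bif Nat.ble 266 c then (bif Nat.ble 267 c then cFJ_267 else cFJ_266) else (bif Nat.ble 265 c then cFJ_265 else cFJ_264))) else (bif Nat.ble 260 c then (bif Nat.ble 262 c then (bif Nat.ble 263 c then cFJ_263 else cFJ_262) else (bif Nat.ble 261 c then cFJ_261 else cFJ_260)) else (bif Nat.ble 258 c then (bif Nat.ble 259 c then cFJ_259 else cFJ_258) else (bif Nat.ble 257 c then cFJ_257 else cFJ_256))))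
def sFJ_0_17 (c : Nat) : Nat := (bif Nat.ble 280 c then (bif Nat.ble 284 c then (bif Nat.ble 286 c then (bif Nat.ble 287 c then cFJ_287 else cFJ_286) else (bif Nat.ble 285 c then cFJ_285 else cFJ_284)) else (bif Nat.ble 282 c then (bif Nat.ble 283 c then cFJ_283 else cFJ_282) else (bif Nat.ble 281 c then cFJ_281 else cFJ_280))) else (bif Nat.ble 276 c then (bif Nat.ble 278 c then (bif Nat.ble 279 c then cFJ_279 else cFJ_278) else (bif Nat.ble 277 c then cFJ_277 else cFJ_276)) else (bif Nat.ble 274 c then (bif Nat.ble 275 c then cFJ_275 else cFJ_274) else (bif Nat.ble 273 c then cFJ_273 else cFJ_272))))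
def sFJ_0_18 (c : Nat) : Nat := (bif Nat.ble 296 c then (bif Nat.ble 300 c then (bif Nat.ble 302 c then (bif Nat.ble 303 c then cFJ_303 else cFJ_302) else (bif Nat.ble 301 c then cFJ_301 else cFJ_300)) else (bif Nat.ble 298 c then (bif Nat.ble 299 c then cFJ_299 else cFJ_298) else (bif Nat.ble 297 c then cFJ_297 else cFJ_296))) else (bif Nat.ble 292 c then (bif Nat.ble 294 c then (bif Nat.ble 295 c then cFJ_295 else cFJ_294) else (bif Nat.ble 293 c then cFJ_293 else cFJ_292)) else (bif Nat.ble 290 c then (bif Nat.ble 291 c then cFJ_291 else cFJ_290) else (bif Nat.ble 289 c then cFJ_289 else cFJ_288))))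
def sFJ_0_19 (c : Nat) : Nat := (bif Nat.ble 312 c then (bif Nat.ble 316 c then (bif Nat.ble 318 c then (bif Nat.ble 319 c then cFJ_319 else cFJ_318) else (bif Nat.ble 317 c then cFJ_317 else cFJ_316)) else (bif Nat.ble 314 c then (bif Nat.ble 315 c then cFJ_315 else cFJ_314) else (bif Nat.ble 313 c then cFJ_313 else cFJ_312))) else (bif Nat.ble 308 c then (bif Nat.ble 310 c then (bif Nat.ble 311 c then cFJ_311 else cFJ_310) else (bif Nat.ble 309 c then cFJ_309 else cFJ_308)) else (bif Nat.ble 306 c then (bif Nat.ble 307 c then cFJ_307 else cFJ_306) else (bif Nat.ble 305 c then cFJ_305 else cFJ_304))))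
def sFJ_0_20 (c : Nat) : Nat := (bif Nat.ble 328 c then (bif Nat.ble 332 c then (bif Nat.ble 334 c then (bif Nat.ble 335 c then cFJ_335 else cFJ_334) else (bif Nat.ble 333 c then cFJ_333 else cFJ_332)) else (bif Nat.ble 330 c then (bif Nat.ble 331 c then cFJ_331 else cFJ_330) else (bif Nat.ble 329 c then cFJ_329 else cFJ_328))) else (bif Nat.ble 324 c then (bif Nat.ble 326 c then (bif Nat.ble 327 c then cFJ_327 else cFJ_326) else (bif Nat.ble 325 c then cFJ_325 else cFJ_324)) else (bif Nat.ble 322 c then (bif Nat.ble 323 c then cFJ_323 else cFJ_322) else (bif Nat.ble 321 c then cFJ_321 else cFJ_320))))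
def sFJ_0_21 (c : Nat) : Nat := (bif Nat.ble 344 c then (bif Nat.ble 348 c then (bif Nat.ble 350 c then (bif Nat.ble 351 c then cFJ_351 else cFJ_350) else (bif Nat.ble 349 c then cFJ_349 else cFJ_348)) else (bif Nat.ble 346 c then (bif Nat.ble 347 c then cFJ_347 else cFJ_346) else (bif Nat.ble 345 c then cFJ_345 else cFJ_344))) else (bif Nat.ble 340 c then (bif Nat.ble 342 c then (bif Nat.ble 343 c then cFJ_343 else cFJ_342) else (bif Nat.ble 341 c then cFJ_341 else cFJ_340)) else (bif Nat.ble 338 c then (bif Nat.ble 339 c then cFJ_339 else cFJ_338) else (bif Nat.ble 337 c then cFJ_337 else cFJ_336))))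
def sFJ_0_22 (c : Nat) : Nat := (bif Nat.ble 360 c then (bif Nat.ble 364 c then (bif Nat.ble 366 c then (bif Nat.ble 367 c then cFJ_367 else cFJ_366) else (bif Nat.ble 365 c then cFJ_365 else cFJ_364)) else (bif Nat.ble 362 c then (bif Nat.ble 363 c then cFJ_363 else cFJ_362) else (bif Nat.ble 361 c then cFJ_361 else cFJ_360))) else (bif Nat.ble 356 c then (bif Nat.ble 358 c then (bif Nat.ble 359 c then cFJ_359 else cFJ_358) else (bif Nat.ble 357 c then cFJ_357 else cFJ_356)) else (bif Nat.ble 354 c then (bif Nat.ble 355 c then cFJ_355 else cFJ_354) else (bif Nat.ble 353 c then cFJ_353 else cFJ_352))))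
def sFJ_0_23 (c : Nat) : Nat := (bif Nat.ble 376 c then (bif Nat.ble 380 c then (bif Nat.ble 382 c then (bif Nat.ble 383 c then cFJ_383 else cFJ_382) else (bif Nat.ble 381 c then cFJ_381 else cFJ_380)) else (bif Nat.ble 378 c then (bif Nat.ble 379 c then cFJ_379 else cFJ_378) else (bif Nat.ble 377 c then cFJ_377 else cFJ_376))) else (bif Nat.ble 372 c then (bif Nat.ble 374 c then (bif Nat.ble 375 c then cFJ_375 else cFJ_374) else (bif Nat.ble 373 c then cFJ_373 else cFJ_372)) else (bif Nat.ble 370 c then (bif Nat.ble 371 c then cFJ_371 else cFJ_370) else (bif Nat.ble 369 c then cFJ_369 else cFJ_368))))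
def sFJ_0_24 (c : Nat) : Nat := (bif Nat.ble 392 c then (bif Nat.ble 396 c then (bif Nat.ble 398 c then (bif Nat.ble 399 c then cFJ_399 else cFJ_398) else (bif Nat.ble 397 c then cFJ_397 else cFJ_396)) else (bif Nat.ble 394 c then (bif Nat.ble 395 c then cFJ_395 else cFJ_394) else (bif Nat.ble 393 c then cFJ_393 else cFJ_392))) else (bif Nat.ble 388 c then (bif Nat.ble 390 c then (bif Nat.ble 391 c then cFJ_391 else cFJ_390) else (bif Nat.ble 389 c then cFJ_389 else cFJ_388)) else (bif Nat.ble 386 c then (bif Nat.ble 387 c then cFJ_387 else cFJ_386) else (bif Nat.ble 385 c then cFJ_385 else cFJ_384))))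
def sFJ_0_25 (c : Nat) : Nat := (bif Nat.ble 408 c then (bif Nat.ble 412 c then (bif Nat.ble 414 c then (bif Nat.ble 415 c then cFJ_415 else cFJ_414) else (bif Nat.ble 413 c then cFJ_413 else cFJ_412)) else (bif Nat.ble 410 c then (bif Nat.ble 411 c then cFJ_411 else cFJ_410) else (bif Nat.ble 409 c then cFJ_409 else cFJ_408))) else (bif Nat.ble 404 c then (bif Nat.ble 406 c then (bif Nat.ble 407 c then cFJ_407 else cFJ_406) else (bif Nat.ble 405 c then cFJ_405 else cFJ_404)) else (bif Nat.ble 402 c then (bif Nat.ble 403 c then cFJ_403 else cFJ_402) else (bif Nat.ble 401 c then cFJ_401 else cFJ_400))))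
def sFJ_0_26 (c : Nat) : Nat := (bif Nat.ble 424 c then (bif Nat.ble 428 c then (bif Nat.ble 430 c then (bif Nat.ble 431 c then cFJ_431 else cFJ_430) else (bif Nat.ble 429 c then cFJ_429 else cFJ_428)) else (bif Nat.ble 426 c then (bif Nat.ble 427 c then cFJ_427 else cFJ_426) else (bif Nat.ble 425 c then cFJ_425 else cFJ_424))) else (bif Nat.ble 420 c then (bif Nat.ble 422 c then (bif Nat.ble 423 c then cFJ_423 else cFJ_422) else (bif Nat.ble 421 c then cFJ_421 else cFJ_420)) else (bif Nat.ble 418 c then (bif Nat.ble 419 c then cFJ_419 else cFJ_418) else (bif Nat.ble 417 c then cFJ_417 else cFJ_416))))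
def sFJ_0_27 (c : Nat) : Nat := (bif Nat.ble 440 c then (bif Nat.ble 444 c then (bif Nat.ble 446 c then (bif Nat.ble 447 c then cFJ_447 else cFJ_446) else (bif Nat.ble 445 c then cFJ_445 else cFJ_444)) else (bif Nat.ble 442 c then (bif Nat.ble 443 c then cFJ_443 else cFJ_442) else (bif Nat.ble 441 c then cFJ_441 else cFJ_440))) else (bif Nat.ble 436 c then (bif Nat.ble 438 c then (bif Nat.ble 439 c then cFJ_439 else cFJ_438) else (bif Nat.ble 437 c then cFJ_437 else cFJ_436)) else (bif Nat.ble 434 c then (bif Nat.ble 435 c then cFJ_435 else cFJ_434) else (bif Nat.ble 433 c then cFJ_433 else cFJ_432))))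
def sFJ_0_28 (c : Nat) : Nat := (bif Nat.ble 456 c then (bif Nat.ble 460 c then (bif Nat.ble 462 c then (bif Nat.ble 463 c then cFJ_463 else cFJ_462) else (bif Nat.ble 461 c then cFJ_461 else cFJ_460)) else (bif Nat.ble 458 c then (bif Nat.ble 459 c then cFJ_459 else cFJ_458) else (bif Nat.ble 457 c then cFJ_457 else cFJ_456))) else (bif Nat.ble 452 c then (bif Nat.ble 454 c then (bif Nat.ble 455 c then cFJ_455 else cFJ_454) else (bif Nat.ble 453 c then cFJ_453 else cFJ_452)) else (bif Nat.ble 450 c then (bif Nat.ble 451 c then cFJ_451 else cFJ_450) else (bif Nat.ble 449 c then cFJ_449 else cFJ_448))))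
def sFJ_0_29 (c : Nat) : Nat := (bif Nat.ble 472 c then (bif Nat.ble 476 c then (bif Nat.ble 478 c then (bif Nat.ble 479 c then cFJ_479 else cFJ_478) else (bif Nat.ble 477 c then cFJ_477 else cFJ_476)) else (bif Nat.ble 474 c then (bif Nat.ble 475 c then cFJ_475 else cFJ_474) else (bif Nat.ble 473 c then cFJ_473 else cFJ_472))) else (bif Nat.ble 468 c then (bif Nat.ble 470 c then (bif Nat.ble 471 c then cFJ_471 else cFJ_470) else (bif Nat.ble 469 c then cFJ_469 else cFJ_468)) else (bif Nat.ble 466 c then (bif Nat.ble 467 c then cFJ_467 else cFJ_466) else (bif Nat.ble 465 c then cFJ_465 else cFJ_464))))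
def sFJ_0_30 (c : Nat) : Nat := (bif Nat.ble 488 c then (bif Nat.ble 492 c then (bif Nat.ble 494 c then (bif Nat.ble 495 c then cFJ_495 else cFJ_494) else (bif Nat.ble 493 c then cFJ_493 else cFJ_492)) else (bif Nat.ble 490 c then (bif Nat.ble 491 c then cFJ_491 else cFJ_490) else (bif Nat.ble 489 c then cFJ_489 else cFJ_488))) else (bif Nat.ble 484 c then (bif Nat.ble 486 c then (bif Nat.ble 487 c then cFJ_487 else cFJ_486) else (bif Nat.ble 485 c then cFJ_485 else cFJ_484)) else (bif Nat.ble 482 c then (bif Nat.ble 483 c then cFJ_483 else cFJ_482) else (bif Nat.ble 481 c then cFJ_481 else cFJ_480))))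
def sFJ_0_31 (c : Nat) : Nat := (bif Nat.ble 504 c then (bif Nat.ble 508 c then (bif Nat.ble 510 c then (bif Nat.ble 511 c then cFJ_511 else cFJ_510) else (bif Nat.ble 509 c then cFJ_509 else cFJ_508)) else (bif Nat.ble 506 c then (bif Nat.ble 507 c then cFJ_507 else cFJ_506) else (bif Nat.ble 505 c then cFJ_505 else cFJ_504))) else (bif Nat.ble 500 c then (bif Nat.ble 502 c then (bif Nat.ble 503 c then cFJ_503 else cFJ_502) else (bif Nat.ble 501 c then cFJ_501 else cFJ_500)) else (bif Nat.ble 498 c then (bif Nat.ble 499 c then cFJ_499 else cFJ_498) else (bif Nat.ble 497 c then cFJ_497 else cFJ_496))))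
def sFJ_0_32 (c : Nat) : Nat := (bif Nat.ble 520 c then (bif Nat.ble 524 c then (bif Nat.ble 526 c then (bif Nat.ble 527 c then cFJ_527 else cFJ_526) else (bif Nat.ble 525 c then cFJ_525 else cFJ_524)) else (bif Nat.ble 522 c then (bif Nat.ble 523 c then cFJ_523 else cFJ_522) else (bif Nat.ble 521 c then cFJ_521 else cFJ_520))) else (bif Nat.ble 516 c then (bif Nat.ble 518 c then (bif Nat.ble 519 c then cFJ_519 else cFJ_518) else (bif Nat.ble 517 c then cFJ_517 else cFJ_516)) else (bif Nat.ble 514 c then (bif Nat.ble 515 c then cFJ_515 else cFJ_514) else (bif Nat.ble 513 c then cFJ_513 else cFJ_512))))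
def sFJ_0_33 (c : Nat) : Nat := (bif Nat.ble 536 c then (bif Nat.ble 540 c then (bif Nat.ble 542 c then (bif Nat.ble 543 c then cFJ_543 else cFJ_542) else (bif Nat.ble 541 c then cFJ_541 else cFJ_540)) else (bif Nat.ble 538 c then (bif Nat.ble 539 c then cFJ_539 else cFJ_538) else (bif Nat.ble 537 c then cFJ_537 else cFJ_536))) else (bif Nat.ble 532 c then (bif Nat.ble 534 c then (bif Nat.ble 535 c then cFJ_535 else cFJ_534) else (bif Nat.ble 533 c then cFJ_533 else cFJ_532)) else (bif Nat.ble 530 c then (bif Nat.ble 531 c then cFJ_531 else cFJ_530) else (bif Nat.ble 529 c then cFJ_529 else cFJ_528))))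
def sFJ_0_34 (c : Nat) : Nat := (bif Nat.ble 552 c then (bif Nat.ble 556 c then (bif Nat.ble 558 c then (bif Nat.ble 559 c then cFJ_559 else cFJ_558) else (bif Nat.ble 557 c then cFJ_557 else cFJ_556)) else (bif Nat.ble 554 c then (bif Nat.ble 555 c then cFJ_555 else cFJ_554) else (bif Nat.ble 553 c then cFJ_553 else cFJ_552))) else (bif Nat.ble 548 c then (bif Nat.ble 550 c then (bif Nat.ble 551 c then cFJ_551 else cFJ_550) else (bif Nat.ble 549 c then cFJ_549 else cFJ_548)) else (bif Nat.ble 546 c then (bif Nat.ble 547 c then cFJ_547 else cFJ_546) else (bif Nat.ble 545 c then cFJ_545 else cFJ_544))))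
def sFJ_0_35 (c : Nat) : Nat := (bif Nat.ble 568 c then (bif Nat.ble 572 c then (bif Nat.ble 574 c then (bif Nat.ble 575 c then cFJ_575 else cFJ_574) else (bif Nat.ble 573 c then cFJ_573 else cFJ_572)) else (bif Nat.ble 570 c then (bif Nat.ble 571 c then cFJ_571 else cFJ_570) else (bif Nat.ble 569 c then cFJ_569 else cFJ_568))) else (bif Nat.ble 564 c then (bif Nat.ble 566 c then (bif Nat.ble 567 c then cFJ_567 else cFJ_566) else (bif Nat.ble 565 c then cFJ_565 else cFJ_564)) else (bif Nat.ble 562 c then (bif Nat.ble 563 c then cFJ_563 else cFJ_562) else (bif Nat.ble 561 c then cFJ_561 else cFJ_560))))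
def sFJ_0_36 (c : Nat) : Nat := (bif Nat.ble 584 c then (bif Nat.ble 588 c then (bif Nat.ble 590 c then (bif Nat.ble 591 c then cFJ_591 else cFJ_590) else (bif Nat.ble 589 c then cFJ_589 else cFJ_588)) else (bif Nat.ble 586 c then (bif Nat.ble 587 c then cFJ_587 else cFJ_586) else (bif Nat.ble 585 c then cFJ_585 else cFJ_584))) else (bif Nat.ble 580 c then (bif Nat.ble 582 c then (bif Nat.ble 583 c then cFJ_583 else cFJ_582) else (bif Nat.ble 581 c then cFJ_581 else cFJ_580)) else (bif Nat.ble 578 c then (bif Nat.ble 579 c then cFJ_579 else cFJ_578) else (bif Nat.ble 577 c then cFJ_577 else cFJ_576))))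
def sFJ_0_37 (c : Nat) : Nat := (bif Nat.ble 600 c then (bif Nat.ble 604 c then (bif Nat.ble 606 c then (bif Nat.ble 607 c then cFJ_607 else cFJ_606) else (bif Nat.ble 605 c then cFJ_605 else cFJ_604)) else (bif Nat.ble 602 c then (bif Nat.ble 603 c then cFJ_603 else cFJ_602) else (bif Nat.ble 601 c then cFJ_601 else cFJ_600))) else (bif Nat.ble 596 c then (bif Nat.ble 598 c then (bif Nat.ble 599 c then cFJ_599 else cFJ_598) else (bif Nat.ble 597 c then cFJ_597 else cFJ_596)) else (bif Nat.ble 594 c then (bif Nat.ble 595 c then cFJ_595 else cFJ_594) else (bif Nat.ble 593 c then cFJ_593 else cFJ_592))))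
def sFJ_0_38 (c : Nat) : Nat := (bif Nat.ble 616 c then (bif Nat.ble 620 c then (bif Nat.ble 622 c then (bif Nat.ble 623 c then cFJ_623 else cFJ_622) else (bif Nat.ble 621 c then cFJ_621 else cFJ_620)) else (bif Nat.ble 618 c then (bif Nat.ble 619 c then cFJ_619 else cFJ_618) else (bif Nat.ble 617 c then cFJ_617 else cFJ_616))) else (bif Nat.ble 612 c then (bif Nat.ble 614 c then (bif Nat.ble 615 c then cFJ_615 else cFJ_614) else (bif Nat.ble 613 c then cFJ_613 else cFJ_612)) else (bif Nat.ble 610 c then (bif Nat.ble 611 c then cFJ_611 else cFJ_610) else (bif Nat.ble 609 c then cFJ_609 else cFJ_608))))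
def sFJ_0_39 (c : Nat) : Nat := (bif Nat.ble 632 c then (bif Nat.ble 636 c then (bif Nat.ble 638 c then (bif Nat.ble 639 c then cFJ_639 else cFJ_638) else (bif Nat.ble 637 c then cFJ_637 else cFJ_636)) else (bif Nat.ble 634 c then (bif Nat.ble 635 c then cFJ_635 else cFJ_634) else (bif Nat.ble 633 c then cFJ_633 else cFJ_632))) else (bif Nat.ble 628 c then (bif Nat.ble 630 c then (bif Nat.ble 631 c then cFJ_631 else cFJ_630) else (bif Nat.ble 629 c then cFJ_629 else cFJ_628)) else (bif Nat.ble 626 c then (bif Nat.ble 627 c then cFJ_627 else cFJ_626) else (bif Nat.ble 625 c then cFJ_625 else cFJ_624))))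
def sFJ_0_40 (c : Nat) : Nat := (bif Nat.ble 648 c then (bif Nat.ble 652 c then (bif Nat.ble 654 c then (bif Nat.ble 655 c then cFJ_655 else cFJ_654) else (bif Nat.ble 653 c then cFJ_653 else cFJ_652)) else (bif Nat.ble 650 c then (bif Nat.ble 651 c then cFJ_651 else cFJ_650) else (bif Nat.ble 649 c then cFJ_649 else cFJ_648))) else (bif Nat.ble 644 c then (bif Nat.ble 646 c then (bif Nat.ble 647 c then cFJ_647 else cFJ_646) else (bif Nat.ble 645 c then cFJ_645 else cFJ_644)) else (bif Nat.ble 642 c then (bif Nat.ble 643 c then cFJ_643 else cFJ_642) else (bif Nat.ble 641 c then cFJ_641 else cFJ_640))))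
def sFJ_0_41 (c : Nat) : Nat := (bif Nat.ble 664 c then (bif Nat.ble 668 c then (bif Nat.ble 670 c then (bif Nat.ble 671 c then cFJ_671 else cFJ_670) else (bif Nat.ble 669 c then cFJ_669 else cFJ_668)) else (bif Nat.ble 666 c then (bif Nat.ble 667 c then cFJ_667 else cFJ_666) else (bif Nat.ble 665 c then cFJ_665 else cFJ_664))) else (bif Nat.ble 660 c then (bif Nat.ble 662 c then (bif Nat.ble 663 c then cFJ_663 else cFJ_662) else (bif Nat.ble 661 c then cFJ_661 else cFJ_660)) else (bif Nat.ble 658 c then (bif Nat.ble 659 c then cFJ_659 else cFJ_658) else (bif Nat.ble 657 c then cFJ_657 else cFJ_656))))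
def sFJ_0_42 (c : Nat) : Nat := (bif Nat.ble 680 c then (bif Nat.ble 684 c then (bif Nat.ble 686 c then (bif Nat.ble 687 c then cFJ_687 else cFJ_686) else (bif Nat.ble 685 c then cFJ_685 else cFJ_684)) else (bif Nat.ble 682 c then (bif Nat.ble 683 c then cFJ_683 else cFJ_682) else (bif Nat.ble 681 c then cFJ_681 else cFJ_680))) else (bif Nat.ble 676 c then (bif Nat.ble 678 c then (bif Nat.ble 679 c then cFJ_679 else cFJ_678) else (bif Nat.ble 677 c then cFJ_677 else cFJ_676)) else (bif Nat.ble 674 c then (bif Nat.ble 675 c then cFJ_675 else cFJ_674) else (bif Nat.ble 673 c then cFJ_673 else cFJ_672))))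
def sFJ_0_43 (c : Nat) : Nat := (bif Nat.ble 696 c then (bif Nat.ble 700 c then (bif Nat.ble 702 c then (bif Nat.ble 703 c then cFJ_703 else cFJ_702) else (bif Nat.ble 701 c then cFJ_701 else cFJ_700)) else (bif Nat.ble 698 c then (bif Nat.ble 699 c then cFJ_699 else cFJ_698) else (bif Nat.ble 697 c then cFJ_697 else cFJ_696))) else (bif Nat.ble 692 c then (bif Nat.ble 694 c then (bif Nat.ble 695 c then cFJ_695 else cFJ_694) else (bif Nat.ble 693 c then cFJ_693 else cFJ_692)) else (bif Nat.ble 690 c then (bif Nat.ble 691 c then cFJ_691 else cFJ_690) else (bif Nat.ble 689 c then cFJ_689 else cFJ_688))))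
def sFJ_0_44 (c : Nat) : Nat := (bif Nat.ble 712 c then (bif Nat.ble 716 c then (bif Nat.ble 718 c then (bif Nat.ble 719 c then cFJ_719 else cFJ_718) else (bif Nat.ble 717 c then cFJ_717 else cFJ_716)) else (bif Nat.ble 714 c then (bif Nat.ble 715 c then cFJ_715 else cFJ_714) else (bif Nat.ble 713 c then cFJ_713 else cFJ_712))) else (bif Nat.ble 708 c then (bif Nat.ble 710 c then (bif Nat.ble 711 c then cFJ_711 else cFJ_710) else (bif Nat.ble 709 c then cFJ_709 else cFJ_708)) else (bif Nat.ble 706 c then (bif Nat.ble 707 c then cFJ_707 else cFJ_706) else (bif Nat.ble 705 c then cFJ_705 else cFJ_704))))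
def sFJ_0_45 (c : Nat) : Nat := (bif Nat.ble 728 c then (bif Nat.ble 732 c then (bif Nat.ble 734 c then (bif Nat.ble 735 c then cFJ_735 else cFJ_734) else (bif Nat.ble 733 c then cFJ_733 else cFJ_732)) else (bif Nat.ble 730 c then (bif Nat.ble 731 c then cFJ_731 else cFJ_730) else (bif Nat.ble 729 c then cFJ_729 else cFJ_728))) else (bif Nat.ble 724 c then (bif Nat.ble 726 c then (bif Nat.ble 727 c then cFJ_727 else cFJ_726) else (bif Nat.ble 725 c then cFJ_725 else cFJ_724)) else (bif Nat.ble 722 c then (bif Nat.ble 723 c then cFJ_723 else cFJ_722) else (bif Nat.ble 721 c then cFJ_721 else cFJ_720))))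
def sFJ_0_46 (c : Nat) : Nat := (bif Nat.ble 744 c then (bif Nat.ble 748 c then (bif Nat.ble 750 c then (bif Nat.ble 751 c then cFJ_751 else cFJ_750) else (bif Nat.ble 749 c then cFJ_749 else cFJ_748)) else (bif Nat.ble 746 c then (bif Nat.ble 747 c then cFJ_747 else cFJ_746) else (bif Nat.ble 745 c then cFJ_745 else cFJ_744))) else (bif Nat.ble 740 c then (bif Nat.ble 742 c then (bif Nat.ble 743 c then cFJ_743 else cFJ_742) else (bif Nat.ble 741 c then cFJ_741 else cFJ_740)) else (bif Nat.ble 738 c then (bif Nat.ble 739 c then cFJ_739 else cFJ_738) else (bif Nat.ble 737 c then cFJ_737 else cFJ_736))))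
def sFJ_0_47 (c : Nat) : Nat := (bif Nat.ble 760 c then (bif Nat.ble 764 c then (bif Nat.ble 766 c then (bif Nat.ble 767 c then cFJ_767 else cFJ_766) else (bif Nat.ble 765 c then cFJ_765 else cFJ_764)) else (bif Nat.ble 762 c then (bif Nat.ble 763 c then cFJ_763 else cFJ_762) else (bif Nat.ble 761 c then cFJ_761 else cFJ_760))) else (bif Nat.ble 756 c then (bif Nat.ble 758 c then (bif Nat.ble 759 c then cFJ_759 else cFJ_758) else (bif Nat.ble 757 c then cFJ_757 else cFJ_756)) else (bif Nat.ble 754 c then (bif Nat.ble 755 c then cFJ_755 else cFJ_754) else (bif Nat.ble 753 c then cFJ_753 else cFJ_752))))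
def sFJ_0_48 (c : Nat) : Nat := (bif Nat.ble 776 c then (bif Nat.ble 780 c then (bif Nat.ble 782 c then (bif Nat.ble 783 c then cFJ_783 else cFJ_782) else (bif Nat.ble 781 c then cFJ_781 else cFJ_780)) else (bif Nat.ble 778 c then (bif Nat.ble 779 c then cFJ_779 else cFJ_778) else (bif Nat.ble 777 c then cFJ_777 else cFJ_776))) else (bif Nat.ble 772 c then (bif Nat.ble 774 c then (bif Nat.ble 775 c then cFJ_775 else cFJ_774) else (bif Nat.ble 773 c then cFJ_773 else cFJ_772)) else (bif Nat.ble 770 c then (bif Nat.ble 771 c then cFJ_771 else cFJ_770) else (bif Nat.ble 769 c then cFJ_769 else cFJ_768))))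
def sFJ_0_49 (c : Nat) : Nat := (bif Nat.ble 792 c then (bif Nat.ble 796 c then (bif Nat.ble 798 c then (bif Nat.ble 799 c then cFJ_799 else cFJ_798) else (bif Nat.ble 797 c then cFJ_797 else cFJ_796)) else (bif Nat.ble 794 c then (bif Nat.ble 795 c then cFJ_795 else cFJ_794) else (bif Nat.ble 793 c then cFJ_793 else cFJ_792))) else (bif Nat.ble 788 c then (bif Nat.ble 790 c then (bif Nat.ble 791 c then cFJ_791 else cFJ_790) else (bif Nat.ble 789 c then cFJ_789 else cFJ_788)) else (bif Nat.ble 786 c then (bif Nat.ble 787 c then cFJ_787 else cFJ_786) else (bif Nat.ble 785 c then cFJ_785 else cFJ_784))))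
def sFJ_0_50 (c : Nat) : Nat := (bif Nat.ble 808 c then (bif Nat.ble 812 c then (bif Nat.ble 814 c then (bif Nat.ble 815 c then cFJ_815 else cFJ_814) else (bif Nat.ble 813 c then cFJ_813 else cFJ_812)) else (bif Nat.ble 810 c then (bif Nat.ble 811 c then cFJ_811 else cFJ_810) else (bif Nat.ble 809 c then cFJ_809 else cFJ_808))) else (bif Nat.ble 804 c then (bif Nat.ble 806 c then (bif Nat.ble 807 c then cFJ_807 else cFJ_806) else (bif Nat.ble 805 c then cFJ_805 else cFJ_804)) else (bif Nat.ble 802 c then (bif Nat.ble 803 c then cFJ_803 else cFJ_802) else (bif Nat.ble 801 c then cFJ_801 else cFJ_800))))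
def sFJ_0_51 (c : Nat) : Nat := (bif Nat.ble 824 c then (bif Nat.ble 828 c then (bif Nat.ble 830 c then (bif Nat.ble 831 c then cFJ_831 else cFJ_830) else (bif Nat.ble 829 c then cFJ_829 else cFJ_828)) else (bif Nat.ble 826 c then (bif Nat.ble 827 c then cFJ_827 else cFJ_826) else (bif Nat.ble 825 c then cFJ_825 else cFJ_824))) else (bif Nat.ble 820 c then (bif Nat.ble 822 c then (bif Nat.ble 823 c then cFJ_823 else cFJ_822) else (bif Nat.ble 821 c then cFJ_821 else cFJ_820)) else (bif Nat.ble 818 c then (bif Nat.ble 819 c then cFJ_819 else cFJ_818) else (bif Nat.ble 817 c then cFJ_817 else cFJ_816))))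
def sFJ_0_52 (c : Nat) : Nat := (bif Nat.ble 840 c then (bif Nat.ble 844 c then (bif Nat.ble 846 c then (bif Nat.ble 847 c then cFJ_847 else cFJ_846) else (bif Nat.ble 845 c then cFJ_845 else cFJ_844)) else (bif Nat.ble 842 c then (bif Nat.ble 843 c then cFJ_843 else cFJ_842) else (bif Nat.ble 841 c then cFJ_841 else cFJ_840))) else (bif Nat.ble 836 c then (bif Nat.ble 838 c then (bif Nat.ble 839 c then cFJ_839 else cFJ_838) else (bif Nat.ble 837 c then cFJ_837 else cFJ_836)) else (bif Nat.ble 834 c then (bif Nat.ble 835 c then cFJ_835 else cFJ_834) else (bif Nat.ble 833 c then cFJ_833 else cFJ_832))))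
def sFJ_0_53 (c : Nat) : Nat := (bif Nat.ble 856 c then (bif Nat.ble 860 c then (bif Nat.ble 862 c then (bif Nat.ble 863 c then cFJ_863 else cFJ_862) else (bif Nat.ble 861 c then cFJ_861 else cFJ_860)) else (bif Nat.ble 858 c then (bif Nat.ble 859 c then cFJ_859 else cFJ_858) else (bif Nat.ble 857 c then cFJ_857 else cFJ_856))) else (bif Nat.ble 852 c then (bif Nat.ble 854 c then (bif Nat.ble 855 c then cFJ_855 else cFJ_854) else (bif Nat.ble 853 c then cFJ_853 else cFJ_852)) else (bif Nat.ble 850 c then (bif Nat.ble 851 c then cFJ_851 else cFJ_850) else (bif Nat.ble 849 c then cFJ_849 else cFJ_848))))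
def sFJ_0_54 (c : Nat) : Nat := cFJ_864
def sFJ_1_0 (c : Nat) : Nat := (bif Nat.ble 128 c then (bif Nat.ble 192 c then (bif Nat.ble 224 c then (bif Nat.ble 240 c then sFJ_0_15 c else sFJ_0_14 c) else (bif Nat.ble 208 c then sFJ_0_13 c else sFJ_0_12 c)) else (bif Nat.ble 160 c then (bif Nat.ble 176 c then sFJ_0_11 c else sFJ_0_10 c) else (bif Nat.ble 144 c then sFJ_0_9 c else sFJ_0_8 c))) else (bif Nat.ble 64 c then (bif Nat.ble 96 c then (bif Nat.ble 112 c then sFJ_0_7 c else sFJ_0_6 c) else (bif Nat.ble 80 c then sFJ_0_5 c else sFJ_0_4 c)) else (bif Nat.ble 32 c then (bif Nat.ble 48 c then sFJ_0_3 c else sFJ_0_2 c) else (bif Nat.ble 16 c then sFJ_0_1 c else sFJ_0_0 c))))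
def sFJ_1_1 (c : Nat) : Nat := (bif Nat.ble 384 c then (bif Nat.ble 448 c then (bif Nat.ble 480 c then (bif Nat.ble 496 c then sFJ_0_31 c else sFJ_0_30 c) else (bif Nat.ble 464 c then sFJ_0_29 c else sFJ_0_28 c)) else (bif Nat.ble 416 c then (bif Nat.ble 432 c then sFJ_0_27 c else sFJ_0_26 c) else (bif Nat.ble 400 c then sFJ_0_25 c else sFJ_0_24 c))) else (bif Nat.ble 320 c then (bif Nat.ble 352 c then (bif Nat.ble 368 c then sFJ_0_23 c else sFJ_0_22 c) else (bif Nat.ble 336 c then sFJ_0_21 c else sFJ_0_20 c)) else (bif Nat.ble 288 c then (bif Nat.ble 304 c then sFJ_0_19 c else sFJ_0_18 c) else (bif Nat.ble 272 c then sFJ_0_17 c else sFJ_0_16 c))))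
def sFJ_1_2 (c : Nat) : Nat := (bif Nat.ble 640 c then (bif Nat.ble 704 c then (bif Nat.ble 736 c then (bif Nat.ble 752 c then sFJ_0_47 c else sFJ_0_46 c) else (bif Nat.ble 720 c then sFJ_0_45 c else sFJ_0_44 c)) else (bif Nat.ble 672 c then (bif Nat.ble 688 c then sFJ_0_43 c else sFJ_0_42 c) else (bif Nat.ble 656 c then sFJ_0_41 c else sFJ_0_40 c))) else (bif Nat.ble 576 c then (bif Nat.ble 608 c then (bif Nat.ble 624 c then sFJ_0_39 c else sFJ_0_38 c) else (bif Nat.ble 592 c then sFJ_0_37 c else sFJ_0_36 c)) else (bif Nat.ble 544 c then (bif Nat.ble 560 c then sFJ_0_35 c else sFJ_0_34 c) else (bif Nat.ble 528 c then sFJ_0_33 c else sFJ_0_32 c))))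
def sFJ_1_3 (c : Nat) : Nat := (bif Nat.ble 832 c then (bif Nat.ble 864 c then sFJ_0_54 c else (bif Nat.ble 848 c then sFJ_0_53 c else sFJ_0_52 c)) else (bif Nat.ble 800 c then (bif Nat.ble 816 c then sFJ_0_51 c else sFJ_0_50 c) else (bif Nat.ble 784 c then sFJ_0_49 c else sFJ_0_48 c)))
def sFJ (c : Nat) : Nat := (bif Nat.ble 512 c then (bif Nat.ble 768 c then sFJ_1_3 c else sFJ_1_2 c) else (bif Nat.ble 256 c then sFJ_1_1 c else sFJ_1_0 c))
def gFJ (i : Nat) : Nat := Nat.land (Nat.shiftRight (sFJ (Nat.shiftRight i 8)) (Nat.mul 55 (Nat.land i 255))) 36028797018963967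
def sST_0_0 (c : Nat) : Nat := (bif Nat.ble 8 c then (bif Nat.ble 12 c then (bif Nat.ble 14 c then (bif Nat.ble 15 c then cST_15 else cST_14) else (bif Nat.ble 13 c then cST_13 else cST_12)) else (bif Nat.ble 10 c then (bif Nat.ble 11 c then cST_11 else cST_10) else (bif Nat.ble 9 c then cST_9 else cST_8))) else (bif Nat.ble 4 c then (bif Nat.ble 6 c then (bif Nat.ble 7 c then cST_7 else cST_6) else (bif Nat.ble 5 c then cST_5 else cST_4)) else (bif Nat.ble 2 c then (bif Nat.ble 3 c then cST_3 else cST_2) else (bif Nat.ble 1 c then cST_1 else cST_0))))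
def sST_0_1 (c : Nat) : Nat := (bif Nat.ble 24 c then (bif Nat.ble 28 c then (bif Nat.ble 30 c then (bif Nat.ble 31 c then cST_31 else cST_30) else (bif Nat.ble 29 c then cST_29 else cST_28)) else (bif Nat.ble 26 c then (bif Nat.ble 27 c then cST_27 else cST_26) else (bif Nat.ble 25 c then cST_25 else cST_24))) else (bif Nat.ble 20 c then (bif Nat.ble 22 c then (bif Nat.ble 23 c then cST_23 else cST_22) else (bif Nat.ble 21 c then cST_21 else cST_20)) else (bif Nat.ble 18 c then (bif Nat.ble 19 c then cST_19 else cST_18) else (bif Nat.ble 17 c then cST_17 else cST_16))))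
def sST_0_2 (c : Nat) : Nat := (bif Nat.ble 40 c then (bif Nat.ble 44 c then (bif Nat.ble 46 c then (bif Nat.ble 47 c then cST_47 else cST_46) else (bif Nat.ble 45 c then cST_45 else cST_44)) else (bif Nat.ble 42 c then (bif Nat.ble 43 c then cST_43 else cST_42) else (bif Nat.ble 41 c then cST_41 else cST_40))) else (bif Nat.ble 36 c then (bif Nat.ble 38 c then (bif Nat.ble 39 c then cST_39 else cST_38) else (bif Nat.ble 37 c then cST_37 else cST_36)) else (bif Nat.ble 34 c then (bif Nat.ble 35 c then cST_35 else cST_34) else (bif Nat.ble 33 c then cST_33 else cST_32))))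
def sST_0_3 (c : Nat) : Nat := (bif Nat.ble 56 c then (bif Nat.ble 60 c then (bif Nat.ble 62 c then (bif Nat.ble 63 c then cST_63 else cST_62) else (bif Nat.ble 61 c then cST_61 else cST_60)) else (bif Nat.ble 58 c then (bif Nat.ble 59 c then cST_59 else cST_58) else (bif Nat.ble 57 c then cST_57 else cST_56))) else (bif Nat.ble 52 c then (bif Nat.ble 54 c then (bif Nat.ble 55 c then cST_55 else cST_54) else (bif Nat.ble 53 c then cST_53 else cST_52)) else (bif Nat.ble 50 c then (bif Nat.ble 51 c then cST_51 else cST_50) else (bif Nat.ble 49 c then cST_49 else cST_48))))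
def sST_0_4 (c : Nat) : Nat := (bif Nat.ble 72 c then (bif Nat.ble 76 c then (bif Nat.ble 78 c then (bif Nat.ble 79 c then cST_79 else cST_78) else (bif Nat.ble 77 c then cST_77 else cST_76)) else (bif Nat.ble 74 c then (bif Nat.ble 75 c then cST_75 else cST_74) else (bif Nat.ble 73 c then cST_73 else cST_72))) else (bif Nat.ble 68 c then (bif Nat.ble 70 c then (bif Nat.ble 71 c then cST_71 else cST_70) else (bif Nat.ble 69 c then cST_69 else cST_68)) else (bif Nat.ble 66 c then (bif Nat.ble 67 c then cST_67 else cST_66) else (bif Nat.ble 65 c then cST_65 else cST_64))))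
def sST_0_5 (c : Nat) : Nat := (bif Nat.ble 88 c then (bif Nat.ble 92 c then (bif Nat.ble 94 c then (bif Nat.ble 95 c then cST_95 else cST_94) else (bif Nat.ble 93 c then cST_93 else cST_92)) else (bif Nat.ble 90 c then (bif Nat.ble 91 c then cST_91 else cST_90) else (bif Nat.ble 89 c then cST_89 else cST_88))) else (bif Nat.ble 84 c then (bif Nat.ble 86 c then (bif Nat.ble 87 c then cST_87 else cST_86) else (bif Nat.ble 85 c then cST_85 else cST_84)) else (bif Nat.ble 82 c then (bif Nat.ble 83 c then cST_83 else cST_82) else (bif Nat.ble 81 c then cST_81 else cST_80))))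
def sST_0_6 (c : Nat) : Nat := (bif Nat.ble 104 c then (bif Nat.ble 108 c then (bif Nat.ble 110 c then (bif Nat.ble 111 c then cST_111 else cST_110) else (bif Nat.ble 109 c then cST_109 else cST_108)) else (bif Nat.ble 106 c then (bif Nat.ble 107 c then cST_107 else cST_106) else (bif Nat.ble 105 c then cST_105 else cST_104))) else (bif Nat.ble 100 c then (bif Nat.ble 102 c then (bif Nat.ble 103 c then cST_103 else cST_102) else (bif Nat.ble 101 c then cST_101 else cST_100)) else (bif Nat.ble 98 c then (bif Nat.ble 99 c then cST_99 else cST_98) else (bif Nat.ble 97 c then cST_97 else cST_96))))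
def sST_0_7 (c : Nat) : Nat := (bif Nat.ble 120 c then (bif Nat.ble 124 c then (bif Nat.ble 126 c then (bif Nat.ble 127 c then cST_127 else cST_126) else (bif Nat.ble 125 c then cST_125 else cST_124)) else (bif Nat.ble 122 c then (bif Nat.ble 123 c then cST_123 else cST_122) else (bif Nat.ble 121 c then cST_121 else cST_120))) else (bif Nat.ble 116 c then (bif Nat.ble 118 c then (bif Nat.ble 119 c then cST_119 else cST_118) else (bif Nat.ble 117 c then cST_117 else cST_116)) else (bif Nat.ble 114 c then (bif Nat.ble 115 c then cST_115 else cST_114) else (bif Nat.ble 113 c then cST_113 else cST_112))))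
def sST_0_8 (c : Nat) : Nat := (bif Nat.ble 136 c then (bif Nat.ble 140 c then (bif Nat.ble 142 c then (bif Nat.ble 143 c then cST_143 else cST_142) else (bif Nat.ble 141 c then cST_141 else cST_140)) else (bif Nat.ble 138 c then (bif Nat.ble 139 c then cST_139 else cST_138) else (bif Nat.ble 137 c then cST_137 else cST_136))) else (bif Nat.ble 132 c then (bif Nat.ble 134 c then (bif Nat.ble 135 c then cST_135 else cST_134) else (bif Nat.ble 133 c then cST_133 else cST_132)) else (bif Nat.ble 130 c then (bif Nat.ble 131 c then cST_131 else cST_130) else (bif Nat.ble 129 c then cST_129 else cST_128))))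
def sST_0_9 (c : Nat) : Nat := (bif Nat.ble 152 c then (bif Nat.ble 156 c then (bif Nat.ble 158 c then (bif Nat.ble 159 c then cST_159 else cST_158) else (bif Nat.ble 157 c then cST_157 else cST_156)) else (bif Nat.ble 154 c then (bif Nat.ble 155 c then cST_155 else cST_154) else (bif Nat.ble 153 c then cST_153 else cST_152))) else (bif Nat.ble 148 c then (bif Nat.ble 150 c then (bif Nat.ble 151 c then cST_151 else cST_150) else (bif Nat.ble 149 c then cST_149 else cST_148)) else (bif Nat.ble 146 c then (bif Nat.ble 147 c then cST_147 else cST_146) else (bif Nat.ble 145 c then cST_145 else cST_144))))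
def sST_0_10 (c : Nat) : Nat := (bif Nat.ble 168 c then (bif Nat.ble 172 c then (bif Nat.ble 174 c then (bif Nat.ble 175 c then cST_175 else cST_174) else (bif Nat.ble 173 c then cST_173 else cST_172)) else (bif Nat.ble 170 c then (bif Nat.ble 171 c then cST_171 else cST_170) else (bif Nat.ble 169 c then cST_169 else cST_168))) else (bif Nat.ble 164 c then (bif Nat.ble 166 c then (bif Nat.ble 167 c then cST_167 else cST_166) else (bif Nat.ble 165 c then cST_165 else cST_164)) else (bif Nat.ble 162 c then (bif Nat.ble 163 c then cST_163 else cST_162) else (bif Nat.ble 161 c then cST_161 else cST_160))))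
def sST_0_11 (c : Nat) : Nat := (bif Nat.ble 184 c then (bif Nat.ble 188 c then (bif Nat.ble 190 c then (bif Nat.ble 191 c then cST_191 else cST_190) else (bif Nat.ble 189 c then cST_189 else cST_188)) else (bif Nat.ble 186 c then (bif Nat.ble 187 c then cST_187 else cST_186) else (bif Nat.ble 185 c then cST_185 else cST_184))) else (bif Nat.ble 180 c then (bif Nat.ble 182 c then (bif Nat.ble 183 c then cST_183 else cST_182) else (bif Nat.ble 181 c then cST_181 else cST_180)) else (bif Nat.ble 178 c then (bif Nat.ble 179 c then cST_179 else cST_178) else (bif Nat.ble 177 c then cST_177 else cST_176))))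
def sST_0_12 (c : Nat) : Nat := (bif Nat.ble 200 c then (bif Nat.ble 204 c then (bif Nat.ble 206 c then (bif Nat.ble 207 c then cST_207 else cST_206) else (bif Nat.ble 205 c then cST_205 else cST_204)) else (bif Nat.ble 202 c then (bif Nat.ble 203 c then cST_203 else cST_202) else (bif Nat.ble 201 c then cST_201 else cST_200))) else (bif Nat.ble 196 c then (bif Nat.ble 198 c then (bif Nat.ble 199 c then cST_199 else cST_198) else (bif Nat.ble 197 c then cST_197 else cST_196)) else (bif Nat.ble 194 c then (bif Nat.ble 195 c then cST_195 else cST_194) else (bif Nat.ble 193 c then cST_193 else cST_192))))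
def sST_0_13 (c : Nat) : Nat := (bif Nat.ble 216 c then (bif Nat.ble 220 c then (bif Nat.ble 222 c then (bif Nat.ble 223 c then cST_223 else cST_222) else (bif Nat.ble 221 c then cST_221 else cST_220)) else (bif Nat.ble 218 c then (bif Nat.ble 219 c then cST_219 else cST_218) else (bif Nat.ble 217 c then cST_217 else cST_216))) else (bif Nat.ble 212 c then (bif Nat.ble 214 c then (bif Nat.ble 215 c then cST_215 else cST_214) else (bif Nat.ble 213 c then cST_213 else cST_212)) else (bif Nat.ble 210 c then (bif Nat.ble 211 c then cST_211 else cST_210) else (bif Nat.ble 209 c then cST_209 else cST_208))))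
def sST_0_14 (c : Nat) : Nat := (bif Nat.ble 232 c then (bif Nat.ble 236 c then (bif Nat.ble 238 c then (bif Nat.ble 239 c then cST_239 else cST_238) else (bif Nat.ble 237 c then cST_237 else cST_236)) else (bif Nat.ble 234 c then (bif Nat.ble 235 c then cST_235 else cST_234) else (bif Nat.ble 233 c then cST_233 else cST_232))) else (bif Nat.ble 228 c then (bif Nat.ble 230 c then (bif Nat.ble 231 c then cST_231 else cST_230) else (bif Nat.ble 229 c then cST_229 else cST_228)) else (bif Nat.ble 226 c then (bif Nat.ble 227 c then cST_227 else cST_226) else (bif Nat.ble 225 c then cST_225 else cST_224))))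
def sST_0_15 (c : Nat) : Nat := (bif Nat.ble 248 c then (bif Nat.ble 252 c then (bif Nat.ble 254 c then (bif Nat.ble 255 c then cST_255 else cST_254) else (bif Nat.ble 253 c then cST_253 else cST_252)) else (bif Nat.ble 250 c then (bif Nat.ble 251 c then cST_251 else cST_250) else (bif Nat.ble 249 c then cST_249 else cST_248))) else (bif Nat.ble 244 c then (bif Nat.ble 246 c then (bif Nat.ble 247 c then cST_247 else cST_246) else (bif Nat.ble 245 c then cST_245 else cST_244)) else (bif Nat.ble 242 c then (bif Nat.ble 243 c then cST_243 else cST_242) else (bif Nat.ble 241 c then cST_241 else cST_240))))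
def sST_0_16 (c : Nat) : Nat := (bif Nat.ble 264 c then (bif Nat.ble 268 c then (bif Nat.ble 270 c then (bif Nat.ble 271 c then cST_271 else cST_270) else (bif Nat.ble 269 c then cST_269 else cST_268)) else (bif Nat.ble 266 c then (bif Nat.ble 267 c then cST_267 else cST_266) else (bif Nat.ble 265 c then cST_265 else cST_264))) else (bif Nat.ble 260 c then (bif Nat.ble 262 c then (bif Nat.ble 263 c then cST_263 else cST_262) else (bif Nat.ble 261 c then cST_261 else cST_260)) else (bif Nat.ble 258 c then (bif Nat.ble 259 c then cST_259 else cST_258) else (bif Nat.ble 257 c then cST_257 else cST_256))))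
def sST_0_17 (c : Nat) : Nat := (bif Nat.ble 280 c then (bif Nat.ble 284 c then (bif Nat.ble 286 c then (bif Nat.ble 287 c then cST_287 else cST_286) else (bif Nat.ble 285 c then cST_285 else cST_284)) else (bif Nat.ble 282 c then (bif Nat.ble 283 c then cST_283 else cST_282) else (bif Nat.ble 281 c then cST_281 else cST_280))) else (bif Nat.ble 276 c then (bif Nat.ble 278 c then (bif Nat.ble 279 c then cST_279 else cST_278) else (bif Nat.ble 277 c then cST_277 else cST_276)) else (bif Nat.ble 274 c then (bif Nat.ble 275 c then cST_275 else cST_274) else (bif Nat.ble 273 c then cST_273 else cST_272))))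
def sST_0_18 (c : Nat) : Nat := (bif Nat.ble 296 c then (bif Nat.ble 300 c then (bif Nat.ble 302 c then (bif Nat.ble 303 c then cST_303 else cST_302) else (bif Nat.ble 301 c then cST_301 else cST_300)) else (bif Nat.ble 298 c then (bif Nat.ble 299 c then cST_299 else cST_298) else (bif Nat.ble 297 c then cST_297 else cST_296))) else (bif Nat.ble 292 c then (bif Nat.ble 294 c then (bif Nat.ble 295 c then cST_295 else cST_294) else (bif Nat.ble 293 c then cST_293 else cST_292)) else (bif Nat.ble 290 c then (bif Nat.ble 291 c then cST_291 else cST_290) else (bif Nat.ble 289 c then cST_289 else cST_288))))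
def sST_0_19 (c : Nat) : Nat := (bif Nat.ble 312 c then (bif Nat.ble 316 c then (bif Nat.ble 318 c then (bif Nat.ble 319 c then cST_319 else cST_318) else (bif Nat.ble 317 c then cST_317 else cST_316)) else (bif Nat.ble 314 c then (bif Nat.ble 315 c then cST_315 else cST_314) else (bif Nat.ble 313 c then cST_313 else cST_312))) else (bif Nat.ble 308 c then (bif Nat.ble 310 c then (bif Nat.ble 311 c then cST_311 else cST_310) else (bif Nat.ble 309 c then cST_309 else cST_308)) else (bif Nat.ble 306 c then (bif Nat.ble 307 c then cST_307 else cST_306) else (bif Nat.ble 305 c then cST_305 else cST_304))))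
def sST_0_20 (c : Nat) : Nat := (bif Nat.ble 328 c then (bif Nat.ble 332 c then (bif Nat.ble 334 c then (bif Nat.ble 335 c then cST_335 else cST_334) else (bif Nat.ble 333 c then cST_333 else cST_332)) else (bif Nat.ble 330 c then (bif Nat.ble 331 c then cST_331 else cST_330) else (bif Nat.ble 329 c then cST_329 else cST_328))) else (bif Nat.ble 324 c then (bif Nat.ble 326 c then (bif Nat.ble 327 c then cST_327 else cST_326) else (bif Nat.ble 325 c then cST_325 else cST_324)) else (bif Nat.ble 322 c then (bif Nat.ble 323 c then cST_323 else cST_322) else (bif Nat.ble 321 c then cST_321 else cST_320))))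
def sST_0_21 (c : Nat) : Nat := (bif Nat.ble 344 c then (bif Nat.ble 348 c then (bif Nat.ble 350 c then (bif Nat.ble 351 c then cST_351 else cST_350) else (bif Nat.ble 349 c then cST_349 else cST_348)) else (bif Nat.ble 346 c then (bif Nat.ble 347 c then cST_347 else cST_346) else (bif Nat.ble 345 c then cST_345 else cST_344))) else (bif Nat.ble 340 c then (bif Nat.ble 342 c then (bif Nat.ble 343 c then cST_343 else cST_342) else (bif Nat.ble 341 c then cST_341 else cST_340)) else (bif Nat.ble 338 c then (bif Nat.ble 339 c then cST_339 else cST_338) else (bif Nat.ble 337 c then cST_337 else cST_336))))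
def sST_0_22 (c : Nat) : Nat := (bif Nat.ble 360 c then (bif Nat.ble 364 c then (bif Nat.ble 366 c then (bif Nat.ble 367 c then cST_367 else cST_366) else (bif Nat.ble 365 c then cST_365 else cST_364)) else (bif Nat.ble 362 c then (bif Nat.ble 363 c then cST_363 else cST_362) else (bif Nat.ble 361 c then cST_361 else cST_360))) else (bif Nat.ble 356 c then (bif Nat.ble 358 c then (bif Nat.ble 359 c then cST_359 else cST_358) else (bif Nat.ble 357 c then cST_357 else cST_356)) else (bif Nat.ble 354 c then (bif Nat.ble 355 c then cST_355 else cST_354) else (bif Nat.ble 353 c then cST_353 else cST_352))))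
def sST_0_23 (c : Nat) : Nat := (bif Nat.ble 376 c then (bif Nat.ble 380 c then (bif Nat.ble 382 c then (bif Nat.ble 383 c then cST_383 else cST_382) else (bif Nat.ble 381 c then cST_381 else cST_380)) else (bif Nat.ble 378 c then (bif Nat.ble 379 c then cST_379 else cST_378) else (bif Nat.ble 377 c then cST_377 else cST_376))) else (bif Nat.ble 372 c then (bif Nat.ble 374 c then (bif Nat.ble 375 c then cST_375 else cST_374) else (bif Nat.ble 373 c then cST_373 else cST_372)) else (bif Nat.ble 370 c then (bif Nat.ble 371 c then cST_371 else cST_370) else (bif Nat.ble 369 c then cST_369 else cST_368))))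
def sST_0_24 (c : Nat) : Nat := (bif Nat.ble 392 c then (bif Nat.ble 396 c then (bif Nat.ble 398 c then (bif Nat.ble 399 c then cST_399 else cST_398) else (bif Nat.ble 397 c then cST_397 else cST_396)) else (bif Nat.ble 394 c then (bif Nat.ble 395 c then cST_395 else cST_394) else (bif Nat.ble 393 c then cST_393 else cST_392))) else (bif Nat.ble 388 c then (bif Nat.ble 390 c then (bif Nat.ble 391 c then cST_391 else cST_390) else (bif Nat.ble 389 c then cST_389 else cST_388)) else (bif Nat.ble 386 c then (bif Nat.ble 387 c then cST_387 else cST_386) else (bif Nat.ble 385 c then cST_385 else cST_384))))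
def sST_0_25 (c : Nat) : Nat := (bif Nat.ble 408 c then (bif Nat.ble 412 c then (bif Nat.ble 414 c then (bif Nat.ble 415 c then cST_415 else cST_414) else (bif Nat.ble 413 c then cST_413 else cST_412)) else (bif Nat.ble 410 c then (bif Nat.ble 411 c then cST_411 else cST_410) else (bif Nat.ble 409 c then cST_409 else cST_408))) else (bif Nat.ble 404 c then (bif Nat.ble 406 c then (bif Nat.ble 407 c then cST_407 else cST_406) else (bif Nat.ble 405 c then cST_405 else cST_404)) else (bif Nat.ble 402 c then (bif Nat.ble 403 c then cST_403 else cST_402) else (bif Nat.ble 401 c then cST_401 else cST_400))))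
def sST_0_26 (c : Nat) : Nat := (bif Nat.ble 424 c then (bif Nat.ble 428 c then (bif Nat.ble 430 c then (bif Nat.ble 431 c then cST_431 else cST_430) else (bif Nat.ble 429 c then cST_429 else cST_428)) else (bif Nat.ble 426 c then (bif Nat.ble 427 c then cST_427 else cST_426) else (bif Nat.ble 425 c then cST_425 else cST_424))) else (bif Nat.ble 420 c then (bif Nat.ble 422 c then (bif Nat.ble 423 c then cST_423 else cST_422) else (bif Nat.ble 421 c then cST_421 else cST_420)) else (bif Nat.ble 418 c then (bif Nat.ble 419 c then cST_419 else cST_418) else (bif Nat.ble 417 c then cST_417 else cST_416))))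
def sST_0_27 (c : Nat) : Nat := (bif Nat.ble 440 c then (bif Nat.ble 444 c then (bif Nat.ble 446 c then (bif Nat.ble 447 c then cST_447 else cST_446) else (bif Nat.ble 445 c then cST_445 else cST_444)) else (bif Nat.ble 442 c then (bif Nat.ble 443 c then cST_443 else cST_442) else (bif Nat.ble 441 c then cST_441 else cST_440))) else (bif Nat.ble 436 c then (bif Nat.ble 438 c then (bif Nat.ble 439 c then cST_439 else cST_438) else (bif Nat.ble 437 c then cST_437 else cST_436)) else (bif Nat.ble 434 c then (bif Nat.ble 435 c then cST_435 else cST_434) else (bif Nat.ble 433 c then cST_433 else cST_432))))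
def sST_0_28 (c : Nat) : Nat := (bif Nat.ble 456 c then (bif Nat.ble 460 c then (bif Nat.ble 462 c then (bif Nat.ble 463 c then cST_463 else cST_462) else (bif Nat.ble 461 c then cST_461 else cST_460)) else (bif Nat.ble 458 c then (bif Nat.ble 459 c then cST_459 else cST_458) else (bif Nat.ble 457 c then cST_457 else cST_456))) else (bif Nat.ble 452 c then (bif Nat.ble 454 c then (bif Nat.ble 455 c then cST_455 else cST_454) else (bif Nat.ble 453 c then cST_453 else cST_452)) else (bif Nat.ble 450 c then (bif Nat.ble 451 c then cST_451 else cST_450) else (bif Nat.ble 449 c then cST_449 else cST_448))))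
def sST_0_29 (c : Nat) : Nat := (bif Nat.ble 472 c then (bif Nat.ble 476 c then (bif Nat.ble 478 c then (bif Nat.ble 479 c then cST_479 else cST_478) else (bif Nat.ble 477 c then cST_477 else cST_476)) else (bif Nat.ble 474 c then (bif Nat.ble 475 c then cST_475 else cST_474) else (bif Nat.ble 473 c then cST_473 else cST_472))) else (bif Nat.ble 468 c then (bif Nat.ble 470 c then (bif Nat.ble 471 c then cST_471 else cST_470) else (bif Nat.ble 469 c then cST_469 else cST_468)) else (bif Nat.ble 466 c then (bif Nat.ble 467 c then cST_467 else cST_466) else (bif Nat.ble 465 c then cST_465 else cST_464))))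
def sST_0_30 (c : Nat) : Nat := (bif Nat.ble 488 c then (bif Nat.ble 492 c then (bif Nat.ble 494 c then (bif Nat.ble 495 c then cST_495 else cST_494) else (bif Nat.ble 493 c then cST_493 else cST_492)) else (bif Nat.ble 490 c then (bif Nat.ble 491 c then cST_491 else cST_490) else (bif Nat.ble 489 c then cST_489 else cST_488))) else (bif Nat.ble 484 c then (bif Nat.ble 486 c then (bif Nat.ble 487 c then cST_487 else cST_486) else (bif Nat.ble 485 c then cST_485 else cST_484)) else (bif Nat.ble 482 c then (bif Nat.ble 483 c then cST_483 else cST_482) else (bif Nat.ble 481 c then cST_481 else cST_480))))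
def sST_0_31 (c : Nat) : Nat := (bif Nat.ble 504 c then (bif Nat.ble 508 c then (bif Nat.ble 510 c then (bif Nat.ble 511 c then cST_511 else cST_510) else (bif Nat.ble 509 c then cST_509 else cST_508)) else (bif Nat.ble 506 c then (bif Nat.ble 507 c then cST_507 else cST_506) else (bif Nat.ble 505 c then cST_505 else cST_504))) else (bif Nat.ble 500 c then (bif Nat.ble 502 c then (bif Nat.ble 503 c then cST_503 else cST_502) else (bif Nat.ble 501 c then cST_501 else cST_500)) else (bif Nat.ble 498 c then (bif Nat.ble 499 c then cST_499 else cST_498) else (bif Nat.ble 497 c then cST_497 else cST_496))))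
def sST_0_32 (c : Nat) : Nat := (bif Nat.ble 520 c then (bif Nat.ble 524 c then (bif Nat.ble 526 c then (bif Nat.ble 527 c then cST_527 else cST_526) else (bif Nat.ble 525 c then cST_525 else cST_524)) else (bif Nat.ble 522 c then (bif Nat.ble 523 c then cST_523 else cST_522) else (bif Nat.ble 521 c then cST_521 else cST_520))) else (bif Nat.ble 516 c then (bif Nat.ble 518 c then (bif Nat.ble 519 c then cST_519 else cST_518) else (bif Nat.ble 517 c then cST_517 else cST_516)) else (bif Nat.ble 514 c then (bif Nat.ble 515 c then cST_515 else cST_514) else (bif Nat.ble 513 c then cST_513 else cST_512))))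
def sST_0_33 (c : Nat) : Nat := (bif Nat.ble 536 c then (bif Nat.ble 540 c then (bif Nat.ble 542 c then (bif Nat.ble 543 c then cST_543 else cST_542) else (bif Nat.ble 541 c then cST_541 else cST_540)) else (bif Nat.ble 538 c then (bif Nat.ble 539 c then cST_539 else cST_538) else (bif Nat.ble 537 c then cST_537 else cST_536))) else (bif Nat.ble 532 c then (bif Nat.ble 534 c then (bif Nat.ble 535 c then cST_535 else cST_534) else (bif Nat.ble 533 c then cST_533 else cST_532)) else (bif Nat.ble 530 c then (bif Nat.ble 531 c then cST_531 else cST_530) else (bif Nat.ble 529 c then cST_529 else cST_528))))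
def sST_0_34 (c : Nat) : Nat := (bif Nat.ble 552 c then (bif Nat.ble 556 c then (bif Nat.ble 558 c then (bif Nat.ble 559 c then cST_559 else cST_558) else (bif Nat.ble 557 c then cST_557 else cST_556)) else (bif Nat.ble 554 c then (bif Nat.ble 555 c then cST_555 else cST_554) else (bif Nat.ble 553 c then cST_553 else cST_552))) else (bif Nat.ble 548 c then (bif Nat.ble 550 c then (bif Nat.ble 551 c then cST_551 else cST_550) else (bif Nat.ble 549 c then cST_549 else cST_548)) else (bif Nat.ble 546 c then (bif Nat.ble 547 c then cST_547 else cST_546) else (bif Nat.ble 545 c then cST_545 else cST_544))))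
def sST_0_35 (c : Nat) : Nat := (bif Nat.ble 568 c then (bif Nat.ble 572 c then (bif Nat.ble 574 c then (bif Nat.ble 575 c then cST_575 else cST_574) else (bif Nat.ble 573 c then cST_573 else cST_572)) else (bif Nat.ble 570 c then (bif Nat.ble 571 c then cST_571 else cST_570) else (bif Nat.ble 569 c then cST_569 else cST_568))) else (bif Nat.ble 564 c then (bif Nat.ble 566 c then (bif Nat.ble 567 c then cST_567 else cST_566) else (bif Nat.ble 565 c then cST_565 else cST_564)) else (bif Nat.ble 562 c then (bif Nat.ble 563 c then cST_563 else cST_562) else (bif Nat.ble 561 c then cST_561 else cST_560))))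
def sST_0_36 (c : Nat) : Nat := (bif Nat.ble 584 c then (bif Nat.ble 588 c then (bif Nat.ble 590 c then (bif Nat.ble 591 c then cST_591 else cST_590) else (bif Nat.ble 589 c then cST_589 else cST_588)) else (bif Nat.ble 586 c then (bif Nat.ble 587 c then cST_587 else cST_586) else (bif Nat.ble 585 c then cST_585 else cST_584))) else (bif Nat.ble 580 c then (bif Nat.ble 582 c then (bif Nat.ble 583 c then cST_583 else cST_582) else (bif Nat.ble 581 c then cST_581 else cST_580)) else (bif Nat.ble 578 c then (bif Nat.ble 579 c then cST_579 else cST_578) else (bif Nat.ble 577 c then cST_577 else cST_576))))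
def sST_0_37 (c : Nat) : Nat := (bif Nat.ble 600 c then (bif Nat.ble 604 c then (bif Nat.ble 606 c then (bif Nat.ble 607 c then cST_607 else cST_606) else (bif Nat.ble 605 c then cST_605 else cST_604)) else (bif Nat.ble 602 c then (bif Nat.ble 603 c then cST_603 else cST_602) else (bif Nat.ble 601 c then cST_601 else cST_600))) else (bif Nat.ble 596 c then (bif Nat.ble 598 c then (bif Nat.ble 599 c then cST_599 else cST_598) else (bif Nat.ble 597 c then cST_597 else cST_596)) else (bif Nat.ble 594 c then (bif Nat.ble 595 c then cST_595 else cST_594) else (bif Nat.ble 593 c then cST_593 else cST_592))))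
def sST_0_38 (c : Nat) : Nat := (bif Nat.ble 616 c then (bif Nat.ble 620 c then (bif Nat.ble 622 c then (bif Nat.ble 623 c then cST_623 else cST_622) else (bif Nat.ble 621 c then cST_621 else cST_620)) else (bif Nat.ble 618 c then (bif Nat.ble 619 c then cST_619 else cST_618) else (bif Nat.ble 617 c then cST_617 else cST_616))) else (bif Nat.ble 612 c then (bif Nat.ble 614 c then (bif Nat.ble 615 c then cST_615 else cST_614) else (bif Nat.ble 613 c then cST_613 else cST_612)) else (bif Nat.ble 610 c then (bif Nat.ble 611 c then cST_611 else cST_610) else (bif Nat.ble 609 c then cST_609 else cST_608))))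
def sST_0_39 (c : Nat) : Nat := (bif Nat.ble 632 c then (bif Nat.ble 636 c then (bif Nat.ble 638 c then (bif Nat.ble 639 c then cST_639 else cST_638) else (bif Nat.ble 637 c then cST_637 else cST_636)) else (bif Nat.ble 634 c then (bif Nat.ble 635 c then cST_635 else cST_634) else (bif Nat.ble 633 c then cST_633 else cST_632))) else (bif Nat.ble 628 c then (bif Nat.ble 630 c then (bif Nat.ble 631 c then cST_631 else cST_630) else (bif Nat.ble 629 c then cST_629 else cST_628)) else (bif Nat.ble 626 c then (bif Nat.ble 627 c then cST_627 else cST_626) else (bif Nat.ble 625 c then cST_625 else cST_624))))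
def sST_0_40 (c : Nat) : Nat := (bif Nat.ble 648 c then (bif Nat.ble 652 c then (bif Nat.ble 654 c then (bif Nat.ble 655 c then cST_655 else cST_654) else (bif Nat.ble 653 c then cST_653 else cST_652)) else (bif Nat.ble 650 c then (bif Nat.ble 651 c then cST_651 else cST_650) else (bif Nat.ble 649 c then cST_649 else cST_648))) else (bif Nat.ble 644 c then (bif Nat.ble 646 c then (bif Nat.ble 647 c then cST_647 else cST_646) else (bif Nat.ble 645 c then cST_645 else cST_644)) else (bif Nat.ble 642 c then (bif Nat.ble 643 c then cST_643 else cST_642) else (bif Nat.ble 641 c then cST_641 else cST_640))))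
def sST_0_41 (c : Nat) : Nat := (bif Nat.ble 664 c then (bif Nat.ble 668 c then (bif Nat.ble 670 c then (bif Nat.ble 671 c then cST_671 else cST_670) else (bif Nat.ble 669 c then cST_669 else cST_668)) else (bif Nat.ble 666 c then (bif Nat.ble 667 c then cST_667 else cST_666) else (bif Nat.ble 665 c then cST_665 else cST_664))) else (bif Nat.ble 660 c then (bif Nat.ble 662 c then (bif Nat.ble 663 c then cST_663 else cST_662) else (bif Nat.ble 661 c then cST_661 else cST_660)) else (bif Nat.ble 658 c then (bif Nat.ble 659 c then cST_659 else cST_658) else (bif Nat.ble 657 c then cST_657 else cST_656))))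
def sST_0_42 (c : Nat) : Nat := (bif Nat.ble 680 c then (bif Nat.ble 684 c then (bif Nat.ble 686 c then (bif Nat.ble 687 c then cST_687 else cST_686) else (bif Nat.ble 685 c then cST_685 else cST_684)) else (bif Nat.ble 682 c then (bif Nat.ble 683 c then cST_683 else cST_682) else (bif Nat.ble 681 c then cST_681 else cST_680))) else (bif Nat.ble 676 c then (bif Nat.ble 678 c then (bif Nat.ble 679 c then cST_679 else cST_678) else (bif Nat.ble 677 c then cST_677 else cST_676)) else (bif Nat.ble 674 c then (bif Nat.ble 675 c then cST_675 else cST_674) else (bif Nat.ble 673 c then cST_673 else cST_672))))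
def sST_0_43 (c : Nat) : Nat := (bif Nat.ble 696 c then (bif Nat.ble 700 c then (bif Nat.ble 702 c then (bif Nat.ble 703 c then cST_703 else cST_702) else (bif Nat.ble 701 c then cST_701 else cST_700)) else (bif Nat.ble 698 c then (bif Nat.ble 699 c then cST_699 else cST_698) else (bif Nat.ble 697 c then cST_697 else cST_696))) else (bif Nat.ble 692 c then (bif Nat.ble 694 c then (bif Nat.ble 695 c then cST_695 else cST_694) else (bif Nat.ble 693 c then cST_693 else cST_692)) else (bif Nat.ble 690 c then (bif Nat.ble 691 c then cST_691 else cST_690) else (bif Nat.ble 689 c then cST_689 else cST_688))))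
def sST_0_44 (c : Nat) : Nat := (bif Nat.ble 712 c then (bif Nat.ble 716 c then (bif Nat.ble 718 c then (bif Nat.ble 719 c then cST_719 else cST_718) else (bif Nat.ble 717 c then cST_717 else cST_716)) else (bif Nat.ble 714 c then (bif Nat.ble 715 c then cST_715 else cST_714) else (bif Nat.ble 713 c then cST_713 else cST_712))) else (bif Nat.ble 708 c then (bif Nat.ble 710 c then (bif Nat.ble 711 c then cST_711 else cST_710) else (bif Nat.ble 709 c then cST_709 else cST_708)) else (bif Nat.ble 706 c then (bif Nat.ble 707 c then cST_707 else cST_706) else (bif Nat.ble 705 c then cST_705 else cST_704))))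
def sST_0_45 (c : Nat) : Nat := (bif Nat.ble 728 c then (bif Nat.ble 732 c then (bif Nat.ble 734 c then (bif Nat.ble 735 c then cST_735 else cST_734) else (bif Nat.ble 733 c then cST_733 else cST_732)) else (bif Nat.ble 730 c then (bif Nat.ble 731 c then cST_731 else cST_730) else (bif Nat.ble 729 c then cST_729 else cST_728))) else (bif Nat.ble 724 c then (bif Nat.ble 726 c then (bif Nat.ble 727 c then cST_727 else cST_726) else (bif Nat.ble 725 c then cST_725 else cST_724)) else (bif Nat.ble 722 c then (bif Nat.ble 723 c then cST_723 else cST_722) else (bif Nat.ble 721 c then cST_721 else cST_720))))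
def sST_0_46 (c : Nat) : Nat := (bif Nat.ble 744 c then (bif Nat.ble 748 c then (bif Nat.ble 750 c then (bif Nat.ble 751 c then cST_751 else cST_750) else (bif Nat.ble 749 c then cST_749 else cST_748)) else (bif Nat.ble 746 c then (bif Nat.ble 747 c then cST_747 else cST_746) else (bif Nat.ble 745 c then cST_745 else cST_744))) else (bif Nat.ble 740 c then (bif Nat.ble 742 c then (bif Nat.ble 743 c then cST_743 else cST_742) else (bif Nat.ble 741 c then cST_741 else cST_740)) else (bif Nat.ble 738 c then (bif Nat.ble 739 c then cST_739 else cST_738) else (bif Nat.ble 737 c then cST_737 else cST_736))))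
def sST_0_47 (c : Nat) : Nat := (bif Nat.ble 760 c then (bif Nat.ble 764 c then (bif Nat.ble 766 c then (bif Nat.ble 767 c then cST_767 else cST_766) else (bif Nat.ble 765 c then cST_765 else cST_764)) else (bif Nat.ble 762 c then (bif Nat.ble 763 c then cST_763 else cST_762) else (bif Nat.ble 761 c then cST_761 else cST_760))) else (bif Nat.ble 756 c then (bif Nat.ble 758 c then (bif Nat.ble 759 c then cST_759 else cST_758) else (bif Nat.ble 757 c then cST_757 else cST_756)) else (bif Nat.ble 754 c then (bif Nat.ble 755 c then cST_755 else cST_754) else (bif Nat.ble 753 c then cST_753 else cST_752))))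
def sST_0_48 (c : Nat) : Nat := (bif Nat.ble 776 c then (bif Nat.ble 780 c then (bif Nat.ble 782 c then (bif Nat.ble 783 c then cST_783 else cST_782) else (bif Nat.ble 781 c then cST_781 else cST_780)) else (bif Nat.ble 778 c then (bif Nat.ble 779 c then cST_779 else cST_778) else (bif Nat.ble 777 c then cST_777 else cST_776))) else (bif Nat.ble 772 c then (bif Nat.ble 774 c then (bif Nat.ble 775 c then cST_775 else cST_774) else (bif Nat.ble 773 c then cST_773 else cST_772)) else (bif Nat.ble 770 c then (bif Nat.ble 771 c then cST_771 else cST_770) else (bif Nat.ble 769 c then cST_769 else cST_768))))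
def sST_0_49 (c : Nat) : Nat := (bif Nat.ble 792 c then (bif Nat.ble 796 c then (bif Nat.ble 798 c then (bif Nat.ble 799 c then cST_799 else cST_798) else (bif Nat.ble 797 c then cST_797 else cST_796)) else (bif Nat.ble 794 c then (bif Nat.ble 795 c then cST_795 else cST_794) else (bif Nat.ble 793 c then cST_793 else cST_792))) else (bif Nat.ble 788 c then (bif Nat.ble 790 c then (bif Nat.ble 791 c then cST_791 else cST_790) else (bif Nat.ble 789 c then cST_789 else cST_788)) else (bif Nat.ble 786 c then (bif Nat.ble 787 c then cST_787 else cST_786) else (bif Nat.ble 785 c then cST_785 else cST_784))))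
def sST_0_50 (c : Nat) : Nat := (bif Nat.ble 808 c then (bif Nat.ble 812 c then (bif Nat.ble 814 c then (bif Nat.ble 815 c then cST_815 else cST_814) else (bif Nat.ble 813 c then cST_813 else cST_812)) else (bif Nat.ble 810 c then (bif Nat.ble 811 c then cST_811 else cST_810) else (bif Nat.ble 809 c then cST_809 else cST_808))) else (bif Nat.ble 804 c then (bif Nat.ble 806 c then (bif Nat.ble 807 c then cST_807 else cST_806) else (bif Nat.ble 805 c then cST_805 else cST_804)) else (bif Nat.ble 802 c then (bif Nat.ble 803 c then cST_803 else cST_802) else (bif Nat.ble 801 c then cST_801 else cST_800))))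
def sST_0_51 (c : Nat) : Nat := (bif Nat.ble 824 c then (bif Nat.ble 828 c then (bif Nat.ble 830 c then (bif Nat.ble 831 c then cST_831 else cST_830) else (bif Nat.ble 829 c then cST_829 else cST_828)) else (bif Nat.ble 826 c then (bif Nat.ble 827 c then cST_827 else cST_826) else (bif Nat.ble 825 c then cST_825 else cST_824))) else (bif Nat.ble 820 c then (bif Nat.ble 822 c then (bif Nat.ble 823 c then cST_823 else cST_822) else (bif Nat.ble 821 c then cST_821 else cST_820)) else (bif Nat.ble 818 c then (bif Nat.ble 819 c then cST_819 else cST_818) else (bif Nat.ble 817 c then cST_817 else cST_816))))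
def sST_0_52 (c : Nat) : Nat := (bif Nat.ble 840 c then (bif Nat.ble 844 c then (bif Nat.ble 846 c then (bif Nat.ble 847 c then cST_847 else cST_846) else (bif Nat.ble 845 c then cST_845 else cST_844)) else (bif Nat.ble 842 c then (bif Nat.ble 843 c then cST_843 else cST_842) else (bif Nat.ble 841 c then cST_841 else cST_840))) else (bif Nat.ble 836 c then (bif Nat.ble 838 c then (bif Nat.ble 839 c then cST_839 else cST_838) else (bif Nat.ble 837 c then cST_837 else cST_836)) else (bif Nat.ble 834 c then (bif Nat.ble 835 c then cST_835 else cST_834) else (bif Nat.ble 833 c then cST_833 else cST_832))))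
def sST_0_53 (c : Nat) : Nat := (bif Nat.ble 856 c then (bif Nat.ble 860 c then (bif Nat.ble 862 c then (bif Nat.ble 863 c then cST_863 else cST_862) else (bif Nat.ble 861 c then cST_861 else cST_860)) else (bif Nat.ble 858 c then (bif Nat.ble 859 c then cST_859 else cST_858) else (bif Nat.ble 857 c then cST_857 else cST_856))) else (bif Nat.ble 852 c then (bif Nat.ble 854 c then (bif Nat.ble 855 c then cST_855 else cST_854) else (bif Nat.ble 853 c then cST_853 else cST_852)) else (bif Nat.ble 850 c then (bif Nat.ble 851 c then cST_851 else cST_850) else (bif Nat.ble 849 c then cST_849 else cST_848))))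
def sST_0_54 (c : Nat) : Nat := (bif Nat.ble 872 c then (bif Nat.ble 876 c then (bif Nat.ble 878 c then (bif Nat.ble 879 c then cST_879 else cST_878) else (bif Nat.ble 877 c then cST_877 else cST_876)) else (bif Nat.ble 874 c then (bif Nat.ble 875 c then cST_875 else cST_874) else (bif Nat.ble 873 c then cST_873 else cST_872))) else (bif Nat.ble 868 c then (bif Nat.ble 870 c then (bif Nat.ble 871 c then cST_871 else cST_870) else (bif Nat.ble 869 c then cST_869 else cST_868)) else (bif Nat.ble 866 c then (bif Nat.ble 867 c then cST_867 else cST_866) else (bif Nat.ble 865 c then cST_865 else cST_864))))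
def sST_0_55 (c : Nat) : Nat := (bif Nat.ble 888 c then (bif Nat.ble 892 c then (bif Nat.ble 894 c then (bif Nat.ble 895 c then cST_895 else cST_894) else (bif Nat.ble 893 c then cST_893 else cST_892)) else (bif Nat.ble 890 c then (bif Nat.ble 891 c then cST_891 else cST_890) else (bif Nat.ble 889 c then cST_889 else cST_888))) else (bif Nat.ble 884 c then (bif Nat.ble 886 c then (bif Nat.ble 887 c then cST_887 else cST_886) else (bif Nat.ble 885 c then cST_885 else cST_884)) else (bif Nat.ble 882 c then (bif Nat.ble 883 c then cST_883 else cST_882) else (bif Nat.ble 881 c then cST_881 else cST_880))))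
def sST_0_56 (c : Nat) : Nat := (bif Nat.ble 904 c then (bif Nat.ble 908 c then (bif Nat.ble 910 c then (bif Nat.ble 911 c then cST_911 else cST_910) else (bif Nat.ble 909 c then cST_909 else cST_908)) else (bif Nat.ble 906 c then (bif Nat.ble 907 c then cST_907 else cST_906) else (bif Nat.ble 905 c then cST_905 else cST_904))) else (bif Nat.ble 900 c then (bif Nat.ble 902 c then (bif Nat.ble 903 c then cST_903 else cST_902) else (bif Nat.ble 901 c then cST_901 else cST_900)) else (bif Nat.ble 898 c then (bif Nat.ble 899 c then cST_899 else cST_898) else (bif Nat.ble 897 c then cST_897 else cST_896))))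
def sST_0_57 (c : Nat) : Nat := (bif Nat.ble 920 c then (bif Nat.ble 924 c then (bif Nat.ble 926 c then (bif Nat.ble 927 c then cST_927 else cST_926) else (bif Nat.ble 925 c then cST_925 else cST_924)) else (bif Nat.ble 922 c then (bif Nat.ble 923 c then cST_923 else cST_922) else (bif Nat.ble 921 c then cST_921 else cST_920))) else (bif Nat.ble 916 c then (bif Nat.ble 918 c then (bif Nat.ble 919 c then cST_919 else cST_918) else (bif Nat.ble 917 c then cST_917 else cST_916)) else (bif Nat.ble 914 c then (bif Nat.ble 915 c then cST_915 else cST_914) else (bif Nat.ble 913 c then cST_913 else cST_912))))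
def sST_0_58 (c : Nat) : Nat := (bif Nat.ble 936 c then (bif Nat.ble 940 c then (bif Nat.ble 942 c then (bif Nat.ble 943 c then cST_943 else cST_942) else (bif Nat.ble 941 c then cST_941 else cST_940)) else (bif Nat.ble 938 c then (bif Nat.ble 939 c then cST_939 else cST_938) else (bif Nat.ble 937 c then cST_937 else cST_936))) else (bif Nat.ble 932 c then (bif Nat.ble 934 c then (bif Nat.ble 935 c then cST_935 else cST_934) else (bif Nat.ble 933 c then cST_933 else cST_932)) else (bif Nat.ble 930 c then (bif Nat.ble 931 c then cST_931 else cST_930) else (bif Nat.ble 929 c then cST_929 else cST_928))))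
def sST_0_59 (c : Nat) : Nat := (bif Nat.ble 952 c then (bif Nat.ble 956 c then (bif Nat.ble 958 c then (bif Nat.ble 959 c then cST_959 else cST_958) else (bif Nat.ble 957 c then cST_957 else cST_956)) else (bif Nat.ble 954 c then (bif Nat.ble 955 c then cST_955 else cST_954) else (bif Nat.ble 953 c then cST_953 else cST_952))) else (bif Nat.ble 948 c then (bif Nat.ble 950 c then (bif Nat.ble 951 c then cST_951 else cST_950) else (bif Nat.ble 949 c then cST_949 else cST_948)) else (bif Nat.ble 946 c then (bif Nat.ble 947 c then cST_947 else cST_946) else (bif Nat.ble 945 c then cST_945 else cST_944))))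
def sST_0_60 (c : Nat) : Nat := (bif Nat.ble 968 c then (bif Nat.ble 972 c then (bif Nat.ble 974 c then (bif Nat.ble 975 c then cST_975 else cST_974) else (bif Nat.ble 973 c then cST_973 else cST_972)) else (bif Nat.ble 970 c then (bif Nat.ble 971 c then cST_971 else cST_970) else (bif Nat.ble 969 c then cST_969 else cST_968))) else (bif Nat.ble 964 c then (bif Nat.ble 966 c then (bif Nat.ble 967 c then cST_967 else cST_966) else (bif Nat.ble 965 c then cST_965 else cST_964)) else (bif Nat.ble 962 c then (bif Nat.ble 963 c then cST_963 else cST_962) else (bif Nat.ble 961 c then cST_961 else cST_960))))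
def sST_0_61 (c : Nat) : Nat := (bif Nat.ble 984 c then (bif Nat.ble 988 c then (bif Nat.ble 990 c then (bif Nat.ble 991 c then cST_991 else cST_990) else (bif Nat.ble 989 c then cST_989 else cST_988)) else (bif Nat.ble 986 c then (bif Nat.ble 987 c then cST_987 else cST_986) else (bif Nat.ble 985 c then cST_985 else cST_984))) else (bif Nat.ble 980 c then (bif Nat.ble 982 c then (bif Nat.ble 983 c then cST_983 else cST_982) else (bif Nat.ble 981 c then cST_981 else cST_980)) else (bif Nat.ble 978 c then (bif Nat.ble 979 c then cST_979 else cST_978) else (bif Nat.ble 977 c then cST_977 else cST_976))))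
def sST_0_62 (c : Nat) : Nat := (bif Nat.ble 1000 c then (bif Nat.ble 1004 c then (bif Nat.ble 1006 c then (bif Nat.ble 1007 c then cST_1007 else cST_1006) else (bif Nat.ble 1005 c then cST_1005 else cST_1004)) else (bif Nat.ble 1002 c then (bif Nat.ble 1003 c then cST_1003 else cST_1002) else (bif Nat.ble 1001 c then cST_1001 else cST_1000))) else (bif Nat.ble 996 c then (bif Nat.ble 998 c then (bif Nat.ble 999 c then cST_999 else cST_998) else (bif Nat.ble 997 c then cST_997 else cST_996)) else (bif Nat.ble 994 c then (bif Nat.ble 995 c then cST_995 else cST_994) else (bif Nat.ble 993 c then cST_993 else cST_992))))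
def sST_0_63 (c : Nat) : Nat := (bif Nat.ble 1016 c then (bif Nat.ble 1020 c then (bif Nat.ble 1022 c then (bif Nat.ble 1023 c then cST_1023 else cST_1022) else (bif Nat.ble 1021 c then cST_1021 else cST_1020)) else (bif Nat.ble 1018 c then (bif Nat.ble 1019 c then cST_1019 else cST_1018) else (bif Nat.ble 1017 c then cST_1017 else cST_1016))) else (bif Nat.ble 1012 c then (bif Nat.ble 1014 c then (bif Nat.ble 1015 c then cST_1015 else cST_1014) else (bif Nat.ble 1013 c then cST_1013 else cST_1012)) else (bif Nat.ble 1010 c then (bif Nat.ble 1011 c then cST_1011 else cST_1010) else (bif Nat.ble 1009 c then cST_1009 else cST_1008))))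
def sST_0_64 (c : Nat) : Nat := (bif Nat.ble 1032 c then (bif Nat.ble 1036 c then (bif Nat.ble 1038 c then (bif Nat.ble 1039 c then cST_1039 else cST_1038) else (bif Nat.ble 1037 c then cST_1037 else cST_1036)) else (bif Nat.ble 1034 c then (bif Nat.ble 1035 c then cST_1035 else cST_1034) else (bif Nat.ble 1033 c then cST_1033 else cST_1032))) else (bif Nat.ble 1028 c then (bif Nat.ble 1030 c then (bif Nat.ble 1031 c then cST_1031 else cST_1030) else (bif Nat.ble 1029 c then cST_1029 else cST_1028)) else (bif Nat.ble 1026 c then (bif Nat.ble 1027 c then cST_1027 else cST_1026) else (bif Nat.ble 1025 c then cST_1025 else cST_1024))))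
def sST_0_65 (c : Nat) : Nat := (bif Nat.ble 1048 c then (bif Nat.ble 1052 c then (bif Nat.ble 1054 c then (bif Nat.ble 1055 c then cST_1055 else cST_1054) else (bif Nat.ble 1053 c then cST_1053 else cST_1052)) else (bif Nat.ble 1050 c then (bif Nat.ble 1051 c then cST_1051 else cST_1050) else (bif Nat.ble 1049 c then cST_1049 else cST_1048))) else (bif Nat.ble 1044 c then (bif Nat.ble 1046 c then (bif Nat.ble 1047 c then cST_1047 else cST_1046) else (bif Nat.ble 1045 c then cST_1045 else cST_1044)) else (bif Nat.ble 1042 c then (bif Nat.ble 1043 c then cST_1043 else cST_1042) else (bif Nat.ble 1041 c then cST_1041 else cST_1040))))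
def sST_0_66 (c : Nat) : Nat := (bif Nat.ble 1064 c then (bif Nat.ble 1068 c then (bif Nat.ble 1070 c then (bif Nat.ble 1071 c then cST_1071 else cST_1070) else (bif Nat.ble 1069 c then cST_1069 else cST_1068)) else (bif Nat.ble 1066 c then (bif Nat.ble 1067 c then cST_1067 else cST_1066) else (bif Nat.ble 1065 c then cST_1065 else cST_1064))) else (bif Nat.ble 1060 c then (bif Nat.ble 1062 c then (bif Nat.ble 1063 c then cST_1063 else cST_1062) else (bif Nat.ble 1061 c then cST_1061 else cST_1060)) else (bif Nat.ble 1058 c then (bif Nat.ble 1059 c then cST_1059 else cST_1058) else (bif Nat.ble 1057 c then cST_1057 else cST_1056))))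
def sST_0_67 (c : Nat) : Nat := (bif Nat.ble 1080 c then (bif Nat.ble 1084 c then (bif Nat.ble 1086 c then (bif Nat.ble 1087 c then cST_1087 else cST_1086) else (bif Nat.ble 1085 c then cST_1085 else cST_1084)) else (bif Nat.ble 1082 c then (bif Nat.ble 1083 c then cST_1083 else cST_1082) else (bif Nat.ble 1081 c then cST_1081 else cST_1080))) else (bif Nat.ble 1076 c then (bif Nat.ble 1078 c then (bif Nat.ble 1079 c then cST_1079 else cST_1078) else (bif Nat.ble 1077 c then cST_1077 else cST_1076)) else (bif Nat.ble 1074 c then (bif Nat.ble 1075 c then cST_1075 else cST_1074) else (bif Nat.ble 1073 c then cST_1073 else cST_1072))))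
def sST_0_68 (c : Nat) : Nat := (bif Nat.ble 1096 c then (bif Nat.ble 1100 c then (bif Nat.ble 1102 c then (bif Nat.ble 1103 c then cST_1103 else cST_1102) else (bif Nat.ble 1101 c then cST_1101 else cST_1100)) else (bif Nat.ble 1098 c then (bif Nat.ble 1099 c then cST_1099 else cST_1098) else (bif Nat.ble 1097 c then cST_1097 else cST_1096))) else (bif Nat.ble 1092 c then (bif Nat.ble 1094 c then (bif Nat.ble 1095 c then cST_1095 else cST_1094) else (bif Nat.ble 1093 c then cST_1093 else cST_1092)) else (bif Nat.ble 1090 c then (bif Nat.ble 1091 c then cST_1091 else cST_1090) else (bif Nat.ble 1089 c then cST_1089 else cST_1088))))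
def sST_0_69 (c : Nat) : Nat := (bif Nat.ble 1112 c then (bif Nat.ble 1116 c then (bif Nat.ble 1118 c then (bif Nat.ble 1119 c then cST_1119 else cST_1118) else (bif Nat.ble 1117 c then cST_1117 else cST_1116)) else (bif Nat.ble 1114 c then (bif Nat.ble 1115 c then cST_1115 else cST_1114) else (bif Nat.ble 1113 c then cST_1113 else cST_1112))) else (bif Nat.ble 1108 c then (bif Nat.ble 1110 c then (bif Nat.ble 1111 c then cST_1111 else cST_1110) else (bif Nat.ble 1109 c then cST_1109 else cST_1108)) else (bif Nat.ble 1106 c then (bif Nat.ble 1107 c then cST_1107 else cST_1106) else (bif Nat.ble 1105 c then cST_1105 else cST_1104))))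
def sST_0_70 (c : Nat) : Nat := (bif Nat.ble 1128 c then (bif Nat.ble 1132 c then (bif Nat.ble 1134 c then (bif Nat.ble 1135 c then cST_1135 else cST_1134) else (bif Nat.ble 1133 c then cST_1133 else cST_1132)) else (bif Nat.ble 1130 c then (bif Nat.ble 1131 c then cST_1131 else cST_1130) else (bif Nat.ble 1129 c then cST_1129 else cST_1128))) else (bif Nat.ble 1124 c then (bif Nat.ble 1126 c then (bif Nat.ble 1127 c then cST_1127 else cST_1126) else (bif Nat.ble 1125 c then cST_1125 else cST_1124)) else (bif Nat.ble 1122 c then (bif Nat.ble 1123 c then cST_1123 else cST_1122) else (bif Nat.ble 1121 c then cST_1121 else cST_1120))))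
def sST_0_71 (c : Nat) : Nat := (bif Nat.ble 1144 c then (bif Nat.ble 1148 c then (bif Nat.ble 1150 c then (bif Nat.ble 1151 c then cST_1151 else cST_1150) else (bif Nat.ble 1149 c then cST_1149 else cST_1148)) else (bif Nat.ble 1146 c then (bif Nat.ble 1147 c then cST_1147 else cST_1146) else (bif Nat.ble 1145 c then cST_1145 else cST_1144))) else (bif Nat.ble 1140 c then (bif Nat.ble 1142 c then (bif Nat.ble 1143 c then cST_1143 else cST_1142) else (bif Nat.ble 1141 c then cST_1141 else cST_1140)) else (bif Nat.ble 1138 c then (bif Nat.ble 1139 c then cST_1139 else cST_1138) else (bif Nat.ble 1137 c then cST_1137 else cST_1136))))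
def sST_0_72 (c : Nat) : Nat := (bif Nat.ble 1160 c then (bif Nat.ble 1164 c then (bif Nat.ble 1166 c then (bif Nat.ble 1167 c then cST_1167 else cST_1166) else (bif Nat.ble 1165 c then cST_1165 else cST_1164)) else (bif Nat.ble 1162 c then (bif Nat.ble 1163 c then cST_1163 else cST_1162) else (bif Nat.ble 1161 c then cST_1161 else cST_1160))) else (bif Nat.ble 1156 c then (bif Nat.ble 1158 c then (bif Nat.ble 1159 c then cST_1159 else cST_1158) else (bif Nat.ble 1157 c then cST_1157 else cST_1156)) else (bif Nat.ble 1154 c then (bif Nat.ble 1155 c then cST_1155 else cST_1154) else (bif Nat.ble 1153 c then cST_1153 else cST_1152))))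
def sST_0_73 (c : Nat) : Nat := (bif Nat.ble 1176 c then (bif Nat.ble 1180 c then (bif Nat.ble 1182 c then (bif Nat.ble 1183 c then cST_1183 else cST_1182) else (bif Nat.ble 1181 c then cST_1181 else cST_1180)) else (bif Nat.ble 1178 c then (bif Nat.ble 1179 c then cST_1179 else cST_1178) else (bif Nat.ble 1177 c then cST_1177 else cST_1176))) else (bif Nat.ble 1172 c then (bif Nat.ble 1174 c then (bif Nat.ble 1175 c then cST_1175 else cST_1174) else (bif Nat.ble 1173 c then cST_1173 else cST_1172)) else (bif Nat.ble 1170 c then (bif Nat.ble 1171 c then cST_1171 else cST_1170) else (bif Nat.ble 1169 c then cST_1169 else cST_1168))))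
def sST_0_74 (c : Nat) : Nat := (bif Nat.ble 1192 c then (bif Nat.ble 1196 c then (bif Nat.ble 1198 c then (bif Nat.ble 1199 c then cST_1199 else cST_1198) else (bif Nat.ble 1197 c then cST_1197 else cST_1196)) else (bif Nat.ble 1194 c then (bif Nat.ble 1195 c then cST_1195 else cST_1194) else (bif Nat.ble 1193 c then cST_1193 else cST_1192))) else (bif Nat.ble 1188 c then (bif Nat.ble 1190 c then (bif Nat.ble 1191 c then cST_1191 else cST_1190) else (bif Nat.ble 1189 c then cST_1189 else cST_1188)) else (bif Nat.ble 1186 c then (bif Nat.ble 1187 c then cST_1187 else cST_1186) else (bif Nat.ble 1185 c then cST_1185 else cST_1184))))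
def sST_0_75 (c : Nat) : Nat := (bif Nat.ble 1208 c then (bif Nat.ble 1212 c then (bif Nat.ble 1214 c then (bif Nat.ble 1215 c then cST_1215 else cST_1214) else (bif Nat.ble 1213 c then cST_1213 else cST_1212)) else (bif Nat.ble 1210 c then (bif Nat.ble 1211 c then cST_1211 else cST_1210) else (bif Nat.ble 1209 c then cST_1209 else cST_1208))) else (bif Nat.ble 1204 c then (bif Nat.ble 1206 c then (bif Nat.ble 1207 c then cST_1207 else cST_1206) else (bif Nat.ble 1205 c then cST_1205 else cST_1204)) else (bif Nat.ble 1202 c then (bif Nat.ble 1203 c then cST_1203 else cST_1202) else (bif Nat.ble 1201 c then cST_1201 else cST_1200))))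
def sST_0_76 (c : Nat) : Nat := (bif Nat.ble 1219 c then (bif Nat.ble 1220 c then cST_1220 else cST_1219) else (bif Nat.ble 1218 c then cST_1218 else (bif Nat.ble 1217 c then cST_1217 else cST_1216)))
def sST_1_0 (c : Nat) : Nat := (bif Nat.ble 128 c then (bif Nat.ble 192 c then (bif Nat.ble 224 c then (bif Nat.ble 240 c then sST_0_15 c else sST_0_14 c) else (bif Nat.ble 208 c then sST_0_13 c else sST_0_12 c)) else (bif Nat.ble 160 c then (bif Nat.ble 176 c then sST_0_11 c else sST_0_10 c) else (bif Nat.ble 144 c then sST_0_9 c else sST_0_8 c))) else (bif Nat.ble 64 c then (bif Nat.ble 96 c then (bif Nat.ble 112 c then sST_0_7 c else sST_0_6 c) else (bif Nat.ble 80 c then sST_0_5 c else sST_0_4 c)) else (bif Nat.ble 32 c then (bif Nat.ble 48 c then sST_0_3 c else sST_0_2 c) else (bif Nat.ble 16 c then sST_0_1 c else sST_0_0 c))))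
def sST_1_1 (c : Nat) : Nat := (bif Nat.ble 384 c then (bif Nat.ble 448 c then (bif Nat.ble 480 c then (bif Nat.ble 496 c then sST_0_31 c else sST_0_30 c) else (bif Nat.ble 464 c then sST_0_29 c else sST_0_28 c)) else (bif Nat.ble 416 c then (bif Nat.ble 432 c then sST_0_27 c else sST_0_26 c) else (bif Nat.ble 400 c then sST_0_25 c else sST_0_24 c))) else (bif Nat.ble 320 c then (bif Nat.ble 352 c then (bif Nat.ble 368 c then sST_0_23 c else sST_0_22 c) else (bif Nat.ble 336 c then sST_0_21 c else sST_0_20 c)) else (bif Nat.ble 288 c then (bif Nat.ble 304 c then sST_0_19 c else sST_0_18 c) else (bif Nat.ble 272 c then sST_0_17 c else sST_0_16 c))))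
def sST_1_2 (c : Nat) : Nat := (bif Nat.ble 640 c then (bif Nat.ble 704 c then (bif Nat.ble 736 c then (bif Nat.ble 752 c then sST_0_47 c else sST_0_46 c) else (bif Nat.ble 720 c then sST_0_45 c else sST_0_44 c)) else (bif Nat.ble 672 c then (bif Nat.ble 688 c then sST_0_43 c else sST_0_42 c) else (bif Nat.ble 656 c then sST_0_41 c else sST_0_40 c))) else (bif Nat.ble 576 c then (bif Nat.ble 608 c then (bif Nat.ble 624 c then sST_0_39 c else sST_0_38 c) else (bif Nat.ble 592 c then sST_0_37 c else sST_0_36 c)) else (bif Nat.ble 544 c then (bif Nat.ble 560 c then sST_0_35 c else sST_0_34 c) else (bif Nat.ble 528 c then sST_0_33 c else sST_0_32 c))))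
def sST_1_3 (c : Nat) : Nat := (bif Nat.ble 896 c then (bif Nat.ble 960 c then (bif Nat.ble 992 c then (bif Nat.ble 1008 c then sST_0_63 c else sST_0_62 c) else (bif Nat.ble 976 c then sST_0_61 c else sST_0_60 c)) else (bif Nat.ble 928 c then (bif Nat.ble 944 c then sST_0_59 c else sST_0_58 c) else (bif Nat.ble 912 c then sST_0_57 c else sST_0_56 c))) else (bif Nat.ble 832 c then (bif Nat.ble 864 c then (bif Nat.ble 880 c then sST_0_55 c else sST_0_54 c) else (bif Nat.ble 848 c then sST_0_53 c else sST_0_52 c)) else (bif Nat.ble 800 c then (bif Nat.ble 816 c then sST_0_51 c else sST_0_50 c) else (bif Nat.ble 784 c then sST_0_49 c else sST_0_48 c))))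
def sST_1_4 (c : Nat) : Nat := (bif Nat.ble 1136 c then (bif Nat.ble 1184 c then (bif Nat.ble 1216 c then sST_0_76 c else (bif Nat.ble 1200 c then sST_0_75 c else sST_0_74 c)) else (bif Nat.ble 1168 c then sST_0_73 c else (bif Nat.ble 1152 c then sST_0_72 c else sST_0_71 c))) else (bif Nat.ble 1088 c then (bif Nat.ble 1120 c then sST_0_70 c else (bif Nat.ble 1104 c then sST_0_69 c else sST_0_68 c)) else (bif Nat.ble 1056 c then (bif Nat.ble 1072 c then sST_0_67 c else sST_0_66 c) else (bif Nat.ble 1040 c then sST_0_65 c else sST_0_64 c))))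
def sST (c : Nat) : Nat := (bif Nat.ble 768 c then (bif Nat.ble 1024 c then sST_1_4 c else sST_1_3 c) else (bif Nat.ble 512 c then sST_1_2 c else (bif Nat.ble 256 c then sST_1_1 c else sST_1_0 c)))
def gST (i : Nat) : Nat := Nat.land (Nat.shiftRight (sST (Nat.shiftRight i 9)) (Nat.mul 19 (Nat.land i 511))) 524287
def sND_0_0 (c : Nat) : Nat := (bif Nat.ble 8 c then (bif Nat.ble 12 c then (bif Nat.ble 14 c then (bif Nat.ble 15 c then cND_15 else cND_14) else (bif Nat.ble 13 c then cND_13 else cND_12)) else (bif Nat.ble 10 c then (bif Nat.ble 11 c then cND_11 else cND_10) else (bif Nat.ble 9 c then cND_9 else cND_8))) else (bif Nat.ble 4 c then (bif Nat.ble 6 c then (bif Nat.ble 7 c then cND_7 else cND_6) else (bif Nat.ble 5 c then cND_5 else cND_4)) else (bif Nat.ble 2 c then (bif Nat.ble 3 c then cND_3 else cND_2) else (bif Nat.ble 1 c then cND_1 else cND_0))))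
def sND_0_1 (c : Nat) : Nat := (bif Nat.ble 24 c then (bif Nat.ble 28 c then (bif Nat.ble 30 c then (bif Nat.ble 31 c then cND_31 else cND_30) else (bif Nat.ble 29 c then cND_29 else cND_28)) else (bif Nat.ble 26 c then (bif Nat.ble 27 c then cND_27 else cND_26) else (bif Nat.ble 25 c then cND_25 else cND_24))) else (bif Nat.ble 20 c then (bif Nat.ble 22 c then (bif Nat.ble 23 c then cND_23 else cND_22) else (bif Nat.ble 21 c then cND_21 else cND_20)) else (bif Nat.ble 18 c then (bif Nat.ble 19 c then cND_19 else cND_18) else (bif Nat.ble 17 c then cND_17 else cND_16))))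
def sND_0_2 (c : Nat) : Nat := (bif Nat.ble 40 c then (bif Nat.ble 44 c then (bif Nat.ble 46 c then (bif Nat.ble 47 c then cND_47 else cND_46) else (bif Nat.ble 45 c then cND_45 else cND_44)) else (bif Nat.ble 42 c then (bif Nat.ble 43 c then cND_43 else cND_42) else (bif Nat.ble 41 c then cND_41 else cND_40))) else (bif Nat.ble 36 c then (bif Nat.ble 38 c then (bif Nat.ble 39 c then cND_39 else cND_38) else (bif Nat.ble 37 c then cND_37 else cND_36)) else (bif Nat.ble 34 c then (bif Nat.ble 35 c then cND_35 else cND_34) else (bif Nat.ble 33 c then cND_33 else cND_32))))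
def sND_0_3 (c : Nat) : Nat := (bif Nat.ble 56 c then (bif Nat.ble 60 c then (bif Nat.ble 62 c then (bif Nat.ble 63 c then cND_63 else cND_62) else (bif Nat.ble 61 c then cND_61 else cND_60)) else (bif Nat.ble 58 c then (bif Nat.ble 59 c then cND_59 else cND_58) else (bif Nat.ble 57 c then cND_57 else cND_56))) else (bif Nat.ble 52 c then (bif Nat.ble 54 c then (bif Nat.ble 55 c then cND_55 else cND_54) else (bif Nat.ble 53 c then cND_53 else cND_52)) else (bif Nat.ble 50 c then (bif Nat.ble 51 c then cND_51 else cND_50) else (bif Nat.ble 49 c then cND_49 else cND_48))))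
def sND_0_4 (c : Nat) : Nat := (bif Nat.ble 72 c then (bif Nat.ble 76 c then (bif Nat.ble 78 c then (bif Nat.ble 79 c then cND_79 else cND_78) else (bif Nat.ble 77 c then cND_77 else cND_76)) else (bif Nat.ble 74 c then (bif Nat.ble 75 c then cND_75 else cND_74) else (bif Nat.ble 73 c then cND_73 else cND_72))) else (bif Nat.ble 68 c then (bif Nat.ble 70 c then (bif Nat.ble 71 c then cND_71 else cND_70) else (bif Nat.ble 69 c then cND_69 else cND_68)) else (bif Nat.ble 66 c then (bif Nat.ble 67 c then cND_67 else cND_66) else (bif Nat.ble 65 c then cND_65 else cND_64))))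
def sND_0_5 (c : Nat) : Nat := (bif Nat.ble 88 c then (bif Nat.ble 92 c then (bif Nat.ble 94 c then (bif Nat.ble 95 c then cND_95 else cND_94) else (bif Nat.ble 93 c then cND_93 else cND_92)) else (bif Nat.ble 90 c then (bif Nat.ble 91 c then cND_91 else cND_90) else (bif Nat.ble 89 c then cND_89 else cND_88))) else (bif Nat.ble 84 c then (bif Nat.ble 86 c then (bif Nat.ble 87 c then cND_87 else cND_86) else (bif Nat.ble 85 c then cND_85 else cND_84)) else (bif Nat.ble 82 c then (bif Nat.ble 83 c then cND_83 else cND_82) else (bif Nat.ble 81 c then cND_81 else cND_80))))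
def sND_0_6 (c : Nat) : Nat := (bif Nat.ble 104 c then (bif Nat.ble 108 c then (bif Nat.ble 110 c then (bif Nat.ble 111 c then cND_111 else cND_110) else (bif Nat.ble 109 c then cND_109 else cND_108)) else (bif Nat.ble 106 c then (bif Nat.ble 107 c then cND_107 else cND_106) else (bif Nat.ble 105 c then cND_105 else cND_104))) else (bif Nat.ble 100 c then (bif Nat.ble 102 c then (bif Nat.ble 103 c then cND_103 else cND_102) else (bif Nat.ble 101 c then cND_101 else cND_100)) else (bif Nat.ble 98 c then (bif Nat.ble 99 c then cND_99 else cND_98) else (bif Nat.ble 97 c then cND_97 else cND_96))))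
def sND_0_7 (c : Nat) : Nat := (bif Nat.ble 120 c then (bif Nat.ble 124 c then (bif Nat.ble 126 c then (bif Nat.ble 127 c then cND_127 else cND_126) else (bif Nat.ble 125 c then cND_125 else cND_124)) else (bif Nat.ble 122 c then (bif Nat.ble 123 c then cND_123 else cND_122) else (bif Nat.ble 121 c then cND_121 else cND_120))) else (bif Nat.ble 116 c then (bif Nat.ble 118 c then (bif Nat.ble 119 c then cND_119 else cND_118) else (bif Nat.ble 117 c then cND_117 else cND_116)) else (bif Nat.ble 114 c then (bif Nat.ble 115 c then cND_115 else cND_114) else (bif Nat.ble 113 c then cND_113 else cND_112))))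
def sND_0_8 (c : Nat) : Nat := (bif Nat.ble 136 c then (bif Nat.ble 140 c then (bif Nat.ble 142 c then (bif Nat.ble 143 c then cND_143 else cND_142) else (bif Nat.ble 141 c then cND_141 else cND_140)) else (bif Nat.ble 138 c then (bif Nat.ble 139 c then cND_139 else cND_138) else (bif Nat.ble 137 c then cND_137 else cND_136))) else (bif Nat.ble 132 c then (bif Nat.ble 134 c then (bif Nat.ble 135 c then cND_135 else cND_134) else (bif Nat.ble 133 c then cND_133 else cND_132)) else (bif Nat.ble 130 c then (bif Nat.ble 131 c then cND_131 else cND_130) else (bif Nat.ble 129 c then cND_129 else cND_128))))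
def sND_0_9 (c : Nat) : Nat := (bif Nat.ble 152 c then (bif Nat.ble 156 c then (bif Nat.ble 158 c then (bif Nat.ble 159 c then cND_159 else cND_158) else (bif Nat.ble 157 c then cND_157 else cND_156)) else (bif Nat.ble 154 c then (bif Nat.ble 155 c then cND_155 else cND_154) else (bif Nat.ble 153 c then cND_153 else cND_152))) else (bif Nat.ble 148 c then (bif Nat.ble 150 c then (bif Nat.ble 151 c then cND_151 else cND_150) else (bif Nat.ble 149 c then cND_149 else cND_148)) else (bif Nat.ble 146 c then (bif Nat.ble 147 c then cND_147 else cND_146) else (bif Nat.ble 145 c then cND_145 else cND_144))))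
def sND_0_10 (c : Nat) : Nat := (bif Nat.ble 168 c then (bif Nat.ble 172 c then (bif Nat.ble 174 c then (bif Nat.ble 175 c then cND_175 else cND_174) else (bif Nat.ble 173 c then cND_173 else cND_172)) else (bif Nat.ble 170 c then (bif Nat.ble 171 c then cND_171 else cND_170) else (bif Nat.ble 169 c then cND_169 else cND_168))) else (bif Nat.ble 164 c then (bif Nat.ble 166 c then (bif Nat.ble 167 c then cND_167 else cND_166) else (bif Nat.ble 165 c then cND_165 else cND_164)) else (bif Nat.ble 162 c then (bif Nat.ble 163 c then cND_163 else cND_162) else (bif Nat.ble 161 c then cND_161 else cND_160))))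
def sND_0_11 (c : Nat) : Nat := (bif Nat.ble 182 c then (bif Nat.ble 185 c then (bif Nat.ble 187 c then cND_187 else (bif Nat.ble 186 c then cND_186 else cND_185)) else (bif Nat.ble 184 c then cND_184 else (bif Nat.ble 183 c then cND_183 else cND_182))) else (bif Nat.ble 179 c then (bif Nat.ble 181 c then cND_181 else (bif Nat.ble 180 c then cND_180 else cND_179)) else (bif Nat.ble 178 c then cND_178 else (bif Nat.ble 177 c then cND_177 else cND_176))))
def sND (c : Nat) : Nat := (bif Nat.ble 96 c then (bif Nat.ble 144 c then (bif Nat.ble 176 c then sND_0_11 c else (bif Nat.ble 160 c then sND_0_10 c else sND_0_9 c)) else (bif Nat.ble 128 c then sND_0_8 c else (bif Nat.ble 112 c then sND_0_7 c else sND_0_6 c))) else (bif Nat.ble 48 c then (bif Nat.ble 80 c then sND_0_5 c else (bif Nat.ble 64 c then sND_0_4 c else sND_0_3 c)) else (bif Nat.ble 32 c then sND_0_2 c else (bif Nat.ble 16 c then sND_0_1 c else sND_0_0 c))))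
def gND (i : Nat) : Nat := Nat.land (Nat.shiftRight (sND (Nat.shiftRight i 9)) (Nat.mul 21 (Nat.land i 511))) 2097151
def sFIN_0_0 (c : Nat) : Nat := (bif Nat.ble 8 c then (bif Nat.ble 12 c then (bif Nat.ble 14 c then (bif Nat.ble 15 c then cFIN_15 else cFIN_14) else (bif Nat.ble 13 c then cFIN_13 else cFIN_12)) else (bif Nat.ble 10 c then (bif Nat.ble 11 c then cFIN_11 else cFIN_10) else (bif Nat.ble 9 c then cFIN_9 else cFIN_8))) else (bif Nat.ble 4 c then (bif Nat.ble 6 c then (bif Nat.ble 7 c then cFIN_7 else cFIN_6) else (bif Nat.ble 5 c then cFIN_5 else cFIN_4)) else (bif Nat.ble 2 c then (bif Nat.ble 3 c then cFIN_3 else cFIN_2) else (bif Nat.ble 1 c then cFIN_1 else cFIN_0))))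
def sFIN_0_1 (c : Nat) : Nat := (bif Nat.ble 24 c then (bif Nat.ble 28 c then (bif Nat.ble 30 c then (bif Nat.ble 31 c then cFIN_31 else cFIN_30) else (bif Nat.ble 29 c then cFIN_29 else cFIN_28)) else (bif Nat.ble 26 c then (bif Nat.ble 27 c then cFIN_27 else cFIN_26) else (bif Nat.ble 25 c then cFIN_25 else cFIN_24))) else (bif Nat.ble 20 c then (bif Nat.ble 22 c then (bif Nat.ble 23 c then cFIN_23 else cFIN_22) else (bif Nat.ble 21 c then cFIN_21 else cFIN_20)) else (bif Nat.ble 18 c then (bif Nat.ble 19 c then cFIN_19 else cFIN_18) else (bif Nat.ble 17 c then cFIN_17 else cFIN_16))))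
def sFIN_0_2 (c : Nat) : Nat := (bif Nat.ble 40 c then (bif Nat.ble 44 c then (bif Nat.ble 46 c then (bif Nat.ble 47 c then cFIN_47 else cFIN_46) else (bif Nat.ble 45 c then cFIN_45 else cFIN_44)) else (bif Nat.ble 42 c then (bif Nat.ble 43 c then cFIN_43 else cFIN_42) else (bif Nat.ble 41 c then cFIN_41 else cFIN_40))) else (bif Nat.ble 36 c then (bif Nat.ble 38 c then (bif Nat.ble 39 c then cFIN_39 else cFIN_38) else (bif Nat.ble 37 c then cFIN_37 else cFIN_36)) else (bif Nat.ble 34 c then (bif Nat.ble 35 c then cFIN_35 else cFIN_34) else (bif Nat.ble 33 c then cFIN_33 else cFIN_32))))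
def sFIN_0_3 (c : Nat) : Nat := cFIN_48
def sFIN (c : Nat) : Nat := (bif Nat.ble 32 c then (bif Nat.ble 48 c then sFIN_0_3 c else sFIN_0_2 c) else (bif Nat.ble 16 c then sFIN_0_1 c else sFIN_0_0 c))
def gFIN (i : Nat) : Nat := Nat.land (Nat.shiftRight (sFIN (Nat.shiftRight i 9)) (Nat.mul 19 (Nat.land i 511))) 524287
def sCAN (c : Nat) : Nat := (bif Nat.ble 7 c then (bif Nat.ble 10 c then (bif Nat.ble 12 c then cCAN_12 else (bif Nat.ble 11 c then cCAN_11 else cCAN_10)) else (bif Nat.ble 9 c then cCAN_9 else (bif Nat.ble 8 c then cCAN_8 else cCAN_7))) else (bif Nat.ble 4 c then (bif Nat.ble 6 c then cCAN_6 else (bif Nat.ble 5 c then cCAN_5 else cCAN_4)) else (bif Nat.ble 2 c then (bif Nat.ble 3 c then cCAN_3 else cCAN_2) else (bif Nat.ble 1 c then cCAN_1 else cCAN_0))))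
def gCAN (i : Nat) : Nat := Nat.land (Nat.shiftRight (sCAN (Nat.shiftRight i 9)) (Nat.mul 17 (Nat.land i 511))) 131071
def sTT0 (c : Nat) : Nat := (bif Nat.ble 2 c then (bif Nat.ble 3 c then cTT0_3 else cTT0_2) else (bif Nat.ble 1 c then cTT0_1 else cTT0_0))
def T0 (i : Nat) : Nat := Nat.land (Nat.shiftRight (sTT0 (Nat.shiftRight i 11)) (Nat.mul 13 (Nat.land i 2047))) 8191
def sTT1 (c : Nat) : Nat := (bif Nat.ble 2 c then (bif Nat.ble 3 c then cTT1_3 else cTT1_2) else (bif Nat.ble 1 c then cTT1_1 else cTT1_0))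
def T1 (i : Nat) : Nat := Nat.land (Nat.shiftRight (sTT1 (Nat.shiftRight i 11)) (Nat.mul 13 (Nat.land i 2047))) 8191
def sTT2 (c : Nat) : Nat := (bif Nat.ble 2 c then (bif Nat.ble 3 c then cTT2_3 else cTT2_2) else (bif Nat.ble 1 c then cTT2_1 else cTT2_0))
def T2 (i : Nat) : Nat := Nat.land (Nat.shiftRight (sTT2 (Nat.shiftRight i 11)) (Nat.mul 13 (Nat.land i 2047))) 8191
def sTT3 (c : Nat) : Nat := (bif Nat.ble 2 c then (bif Nat.ble 3 c then cTT3_3 else cTT3_2) else (bif Nat.ble 1 c then cTT3_1 else cTT3_0))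
def T3 (i : Nat) : Nat := Nat.land (Nat.shiftRight (sTT3 (Nat.shiftRight i 11)) (Nat.mul 13 (Nat.land i 2047))) 8191

def nn : Nat := 6156
def nF : Nat := 221407
def subW : List (List Nat) := [[0], [1], [2]]
def exactW : List (List Nat) := [[0, 0], [1, 1], [2, 2], [3, 3], [1, 0, 1, 0, 1, 0, 1, 0, 1, 0, 1, 0, 1, 0, 1, 0, 1, 0, 1, 0, 1, 0, 1, 0, 1, 0, 1, 0, 1, 0, 1, 0, 1, 0], [2, 0, 2, 0, 2, 0, 2, 0, 2, 0, 2, 0, 2, 0, 2, 0, 2, 0, 2, 0], [2, 1, 2, 1, 2, 1, 2, 1], [0, 2, 1, 2, 0, 2, 1, 2, 0, 2, 1, 2], [0, 1, 2, 1, 0, 2, 0, 1, 2, 1, 0, 2], [0, 1, 0, 2, 0, 1, 2, 0, 1, 0, 2, 0, 1, 2, 0, 1, 0, 2, 0, 1, 2], [3, 2, 3, 2, 3, 2, 3, 2, 3, 2, 3, 2, 3, 2, 3, 2, 3, 2, 3, 2, 3, 2, 3, 2, 3, 2, 3, 2, 3, 2], [3, 2, 1, 0, 1, 3, 1, 0, 1, 2, 3, 0, 1, 2, 0, 2, 1, 0]]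
def centW : List (List Nat) := [[3, 0, 3, 0, 3, 0, 3, 0, 3, 0, 3, 0, 3, 0, 3, 0, 3, 0, 3, 0], [3, 1, 3, 1, 3, 1, 3, 1, 3, 1, 3, 1, 3, 1, 3, 1, 3, 1, 3, 1, 3, 1, 3, 1], [3, 1, 0, 2, 1, 0, 2, 3, 1, 0, 2, 1, 0, 2], [3, 0, 1, 2, 3, 2, 1, 0, 3, 1, 0, 1, 0, 1, 2, 0, 1, 0, 1, 0, 2, 1, 0, 1, 0, 1], [3, 0, 3, 0, 3, 0, 3, 0, 3, 1, 0, 1, 0, 1, 2, 1, 0, 1, 0, 1], [3, 0, 2, 1, 3, 1, 3, 2, 0, 2, 1, 3, 2, 0, 1, 0, 2, 1, 0, 1, 0, 2, 1, 0, 1], [3, 1, 0, 1, 3, 2, 0, 1, 2, 1, 3, 2, 0, 1, 2, 0, 2, 1, 0, 2], [3, 2, 1, 0, 3, 2, 3, 0, 1, 2, 3, 0, 1, 2, 0, 1, 2, 0, 2, 1, 0, 2, 1, 0]]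
def cycW : List (List Nat) := [[0], [1], [2], [0, 0], [1, 1], [2, 2], [3, 3], [1, 0, 1, 0, 1, 0, 1, 0, 1, 0, 1, 0, 1, 0, 1, 0, 1, 0, 1, 0, 1, 0, 1, 0, 1, 0, 1, 0, 1, 0, 1, 0, 1, 0], [2, 0, 2, 0, 2, 0, 2, 0, 2, 0, 2, 0, 2, 0, 2, 0, 2, 0, 2, 0], [2, 1, 2, 1, 2, 1, 2, 1], [0, 2, 1, 2, 0, 2, 1, 2, 0, 2, 1, 2], [0, 1, 2, 1, 0, 2, 0, 1, 2, 1, 0, 2], [0, 1, 0, 2, 0, 1, 2, 0, 1, 0, 2, 0, 1, 2, 0, 1, 0, 2, 0, 1, 2], [3, 2, 3, 2, 3, 2, 3, 2, 3, 2, 3, 2, 3, 2, 3, 2, 3, 2, 3, 2, 3, 2, 3, 2, 3, 2, 3, 2, 3, 2], [3, 2, 1, 0, 1, 3, 1, 0, 1, 2, 3, 0, 1, 2, 0, 2, 1, 0], [0, 0, 3, 0, 3, 0, 3, 0, 3, 0, 3, 0, 3, 0, 3, 0, 3, 0, 3, 0, 3, 0, 3, 0, 3, 0, 3, 0, 3, 0, 3, 0, 3, 0, 3, 0, 3, 0, 3, 0, 3, 0], [1, 0, 3, 0, 3, 0, 3, 0, 3, 0, 3, 0, 3, 0, 3, 0, 3, 0, 3, 0, 3, 1, 3, 0, 3, 0, 3, 0, 3, 0, 3, 0, 3, 0, 3, 0, 3, 0, 3, 0, 3, 0], [2, 0, 3, 0, 3, 0, 3, 0, 3, 0, 3, 0, 3, 0, 3, 0, 3, 0, 3, 0, 3, 2, 3, 0, 3, 0, 3, 0, 3, 0, 3, 0, 3, 0, 3, 0, 3, 0, 3, 0, 3, 0], [3, 0, 3, 0, 3, 0, 3, 0, 3, 0, 3, 0, 3, 0, 3, 0, 3, 0, 3, 0, 3, 3,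 3, 0, 3, 0, 3, 0, 3, 0, 3, 0, 3, 0, 3, 0, 3, 0, 3, 0, 3, 0], [3, 0, 3, 0, 3, 0, 3, 0, 3, 0, 3, 0, 3, 0, 3, 0, 3, 0, 3, 0, 3, 0, 3, 0, 3, 0, 3, 0, 3, 0, 3, 0, 3, 0, 3, 0, 3, 0, 3, 0], [0, 1, 3, 1, 3, 1, 3, 1, 3, 1, 3, 1, 3, 1, 3, 1, 3, 1, 3, 1, 3, 1, 3, 1, 3, 0, 3, 1, 3, 1, 3, 1, 3, 1, 3, 1, 3, 1, 3, 1, 3, 1, 3, 1, 3, 1, 3, 1, 3, 1], [1, 1, 3, 1, 3, 1, 3, 1, 3, 1, 3, 1, 3, 1, 3, 1, 3, 1, 3, 1, 3, 1, 3, 1, 3, 1, 3, 1, 3, 1, 3, 1, 3, 1, 3, 1, 3, 1, 3, 1, 3, 1, 3, 1, 3, 1, 3, 1, 3, 1], [2, 1, 3, 1, 3, 1, 3, 1, 3, 1, 3, 1, 3, 1, 3, 1, 3, 1, 3, 1, 3, 1, 3, 1, 3, 2, 3, 1, 3, 1, 3, 1, 3, 1, 3, 1, 3, 1, 3, 1, 3, 1, 3, 1, 3, 1, 3, 1, 3, 1], [3, 1, 3, 1, 3, 1, 3, 1, 3, 1, 3, 1, 3, 1, 3, 1, 3, 1, 3, 1, 3, 1, 3, 1, 3, 3, 3, 1, 3, 1, 3, 1, 3, 1, 3, 1, 3, 1, 3, 1, 3, 1, 3, 1, 3, 1, 3, 1, 3, 1], [3, 1, 3, 1, 3, 1, 3, 1, 3, 1, 3, 1, 3, 1, 3, 1, 3, 1, 3, 1, 3, 1, 3, 1, 3, 1, 3, 1, 3, 1, 3, 1, 3, 1, 3, 1, 3, 1, 3, 1, 3, 1, 3, 1, 3, 1, 3, 1], [0, 2, 0, 1, 2, 0, 1, 3, 2, 0, 1, 2, 0, 1, 3, 0, 3, 1, 0, 2, 1, 0, 2, 3,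 1, 0, 2, 1, 0, 2], [1, 2, 0, 1, 2, 0, 1, 3, 2, 0, 1, 2, 0, 1, 3, 1, 3, 1, 0, 2, 1, 0, 2, 3, 1, 0, 2, 1, 0, 2], [2, 2, 0, 1, 2, 0, 1, 3, 2, 0, 1, 2, 0, 1, 3, 2, 3, 1, 0, 2, 1, 0, 2, 3, 1, 0, 2, 1, 0, 2], [3, 2, 0, 1, 2, 0, 1, 3, 2, 0, 1, 2, 0, 1, 3, 3, 3, 1, 0, 2, 1, 0, 2, 3, 1, 0, 2, 1, 0, 2], [3, 1, 0, 2, 1, 0, 2, 3, 1, 0, 2, 1, 0, 2, 3, 1, 0, 2, 1, 0, 2, 3, 1, 0, 2, 1, 0, 2], [0, 1, 0, 1, 0, 1, 2, 0, 1, 0, 1, 0, 2, 1, 0, 1, 0, 1, 3, 0, 1, 2, 3, 2, 1, 0, 3, 0, 3, 0, 1, 2, 3, 2, 1, 0, 3, 1, 0, 1, 0, 1, 2, 0, 1, 0, 1, 0, 2, 1, 0, 1, 0, 1], [1, 1, 0, 1, 0, 1, 2, 0, 1, 0, 1, 0, 2, 1, 0, 1, 0, 1, 3, 0, 1, 2, 3, 2, 1, 0, 3, 1, 3, 0, 1, 2, 3, 2, 1, 0, 3, 1, 0, 1, 0, 1, 2, 0, 1, 0, 1, 0, 2, 1, 0, 1, 0, 1], [2, 1, 0, 1, 0, 1, 2, 0, 1, 0, 1, 0, 2, 1, 0, 1, 0, 1, 3, 0, 1, 2, 3, 2, 1, 0, 3, 2, 3, 0, 1, 2, 3, 2, 1, 0, 3, 1, 0, 1, 0, 1, 2, 0, 1, 0, 1, 0, 2, 1, 0, 1, 0, 1], [3, 1, 0, 1, 0, 1, 2, 0, 1, 0, 1, 0, 2, 1, 0, 1, 0, 1, 3, 0, 1, 2, 3, 2, 1, 0, 3, 3, 3, 0, 1, 2, 3, 2, 1, 0, 3, 1, 0, 1, 0, 1, 2, 0, 1,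 0, 1, 0, 2, 1, 0, 1, 0, 1], [3, 0, 1, 2, 3, 2, 1, 0, 3, 1, 0, 1, 0, 1, 2, 0, 1, 0, 1, 0, 2, 1, 0, 1, 0, 1, 3, 0, 1, 2, 3, 2, 1, 0, 3, 1, 0, 1, 0, 1, 2, 0, 1, 0, 1, 0, 2, 1, 0, 1, 0, 1], [0, 1, 0, 1, 0, 1, 2, 1, 0, 1, 0, 1, 3, 0, 3, 0, 3, 0, 3, 0, 3, 0, 3, 0, 3, 0, 3, 0, 3, 0, 3, 1, 0, 1, 0, 1, 2, 1, 0, 1, 0, 1], [1, 1, 0, 1, 0, 1, 2, 1, 0, 1, 0, 1, 3, 0, 3, 0, 3, 0, 3, 0, 3, 1, 3, 0, 3, 0, 3, 0, 3, 0, 3, 1, 0, 1, 0, 1, 2, 1, 0, 1, 0, 1], [2, 1, 0, 1, 0, 1, 2, 1, 0, 1, 0, 1, 3, 0, 3, 0, 3, 0, 3, 0, 3, 2, 3, 0, 3, 0, 3, 0, 3, 0, 3, 1, 0, 1, 0, 1, 2, 1, 0, 1, 0, 1], [3, 1, 0, 1, 0, 1, 2, 1, 0, 1, 0, 1, 3, 0, 3, 0, 3, 0, 3, 0, 3, 3, 3, 0, 3, 0, 3, 0, 3, 0, 3, 1, 0, 1, 0, 1, 2, 1, 0, 1, 0, 1], [3, 0, 3, 0, 3, 0, 3, 0, 3, 1, 0, 1, 0, 1, 2, 1, 0, 1, 0, 1, 3, 0, 3, 0, 3, 0, 3, 0, 3, 1, 0, 1, 0, 1, 2, 1, 0, 1, 0, 1], [0, 1, 0, 1, 2, 0, 1, 0, 1, 2, 0, 1, 0, 2, 3, 1, 2, 0, 2, 3, 1, 3, 1, 2, 0, 3, 0, 3, 0, 2, 1, 3, 1, 3, 2, 0, 2, 1, 3, 2, 0, 1, 0, 2, 1, 0, 1, 0, 2, 1, 0, 1], [1, 1, 0, 1, 2, 0, 1, 0, 1, 2,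 0, 1, 0, 2, 3, 1, 2, 0, 2, 3, 1, 3, 1, 2, 0, 3, 1, 3, 0, 2, 1, 3, 1, 3, 2, 0, 2, 1, 3, 2, 0, 1, 0, 2, 1, 0, 1, 0, 2, 1, 0, 1], [2, 1, 0, 1, 2, 0, 1, 0, 1, 2, 0, 1, 0, 2, 3, 1, 2, 0, 2, 3, 1, 3, 1, 2, 0, 3, 2, 3, 0, 2, 1, 3, 1, 3, 2, 0, 2, 1, 3, 2, 0, 1, 0, 2, 1, 0, 1, 0, 2, 1, 0, 1], [3, 1, 0, 1, 2, 0, 1, 0, 1, 2, 0, 1, 0, 2, 3, 1, 2, 0, 2, 3, 1, 3, 1, 2, 0, 3, 3, 3, 0, 2, 1, 3, 1, 3, 2, 0, 2, 1, 3, 2, 0, 1, 0, 2, 1, 0, 1, 0, 2, 1, 0, 1], [3, 0, 2, 1, 3, 1, 3, 2, 0, 2, 1, 3, 2, 0, 1, 0, 2, 1, 0, 1, 0, 2, 1, 0, 1, 3, 0, 2, 1, 3, 1, 3, 2, 0, 2, 1, 3, 2, 0, 1, 0, 2, 1, 0, 1, 0, 2, 1, 0, 1], [0, 2, 0, 1, 2, 0, 2, 1, 0, 2, 3, 1, 2, 1, 0, 2, 3, 1, 0, 1, 3, 0, 3, 1, 0, 1, 3, 2, 0, 1, 2, 1, 3, 2, 0, 1, 2, 0, 2, 1, 0, 2], [1, 2, 0, 1, 2, 0, 2, 1, 0, 2, 3, 1, 2, 1, 0, 2, 3, 1, 0, 1, 3, 1, 3, 1, 0, 1, 3, 2, 0, 1, 2, 1, 3, 2, 0, 1, 2, 0, 2, 1, 0, 2], [2, 2, 0, 1, 2, 0, 2, 1, 0, 2, 3, 1, 2, 1, 0, 2, 3, 1, 0, 1, 3, 2, 3, 1, 0, 1, 3, 2, 0, 1, 2, 1, 3, 2, 0, 1, 2, 0, 2, 1, 0, 2], [3, 2, 0, 1, 2, 0, 2, 1, 0, 2,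 3, 1, 2, 1, 0, 2, 3, 1, 0, 1, 3, 3, 3, 1, 0, 1, 3, 2, 0, 1, 2, 1, 3, 2, 0, 1, 2, 0, 2, 1, 0, 2], [3, 1, 0, 1, 3, 2, 0, 1, 2, 1, 3, 2, 0, 1, 2, 0, 2, 1, 0, 2, 3, 1, 0, 1, 3, 2, 0, 1, 2, 1, 3, 2, 0, 1, 2, 0, 2, 1, 0, 2], [0, 0, 1, 2, 0, 1, 2, 0, 2, 1, 0, 2, 1, 0, 3, 2, 1, 0, 3, 2, 3, 0, 1, 2, 3, 0, 3, 2, 1, 0, 3, 2, 3, 0, 1, 2, 3, 0, 1, 2, 0, 1, 2, 0, 2, 1, 0, 2, 1, 0], [1, 0, 1, 2, 0, 1, 2, 0, 2, 1, 0, 2, 1, 0, 3, 2, 1, 0, 3, 2, 3, 0, 1, 2, 3, 1, 3, 2, 1, 0, 3, 2, 3, 0, 1, 2, 3, 0, 1, 2, 0, 1, 2, 0, 2, 1, 0, 2, 1, 0], [2, 0, 1, 2, 0, 1, 2, 0, 2, 1, 0, 2, 1, 0, 3, 2, 1, 0, 3, 2, 3, 0, 1, 2, 3, 2, 3, 2, 1, 0, 3, 2, 3, 0, 1, 2, 3, 0, 1, 2, 0, 1, 2, 0, 2, 1, 0, 2, 1, 0], [3, 0, 1, 2, 0, 1, 2, 0, 2, 1, 0, 2, 1, 0, 3, 2, 1, 0, 3, 2, 3, 0, 1, 2, 3, 3, 3, 2, 1, 0, 3, 2, 3, 0, 1, 2, 3, 0, 1, 2, 0, 1, 2, 0, 2, 1, 0, 2, 1, 0], [3, 2, 1, 0, 3, 2, 3, 0, 1, 2, 3, 0, 1, 2, 0, 1, 2, 0, 2, 1, 0, 2, 1, 0, 3, 2, 1, 0, 3, 2, 3, 0, 1, 2, 3, 0, 1, 2, 0, 1, 2, 0, 2, 1, 0, 2, 1, 0]]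
def T (x i : Nat) : Nat :=
  match x with
  | 0 => T0 i
  | 1 => T1 i
  | 2 => T2 i
  | 3 => T3 i
  | _ => 0
def fin (x i : Nat) : Nat := gFIN (Nat.add (Nat.shiftLeft i 2) x)
def can (i : Nat) : Nat := gCAN i
def C : Cert where
  cyc := cycW
  ns := 3
  nd := gND
  fp := gFP
  fj := gFJ
  st := gST
  wN := 17
  wR := 6
  wL := 6
  wO := 20

end Cfsg.Agent.Lib.Helper77.TCS.H2
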