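import Cfsg.Agent.Lib.Helper77.TCSH3T

set_option autoImplicit false
set_option maxRecDepth 1000000
set_option linter.unusedVariables false
set_option Elab.async false

namespace Cfsg.Agent.Lib.Helper77.TCS.H3

open Cfsg.Agent.Lib.Helper25.TC

theorem k_certp_0 : allR (ckCert C nF) 8 0 = true := by decide +kernel
theorem k_certp_1 : allR (ckCert C nF) 8 256 = true := by decide +kernel
theorem k_certp_2 : allR (ckCert C nF) 8 512 = true := by decide +kernel
theorem k_certp_3 : allR (ckCert C nF) 8 768 = true := by decide +kernel
theorem k_certp_4 : allR (ckCert C nF) 8 1024 = true := by decide +kernel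
theorem k_certp_5 : allR (ckCert C nF) 8 1280 = true := by decide +kernel
theorem k_certp_6 : allR (ckCert C nF) 8 1536 = true := by decide +kernel
theorem k_certp_7 : allR (ckCert C nF) 8 1792 = true := by decide +kernel
theorem k_certp_8 : allR (ckCert C nF) 8 2048 = true := by decide +kernel
theorem k_certp_9 : allR (ckCert C nF) 8 2304 = true := by decide +kernel
theorem k_certp_10 : allR (ckCert C nF) 8 2560 = true := by decide +kernel
theorem k_certp_11 : allR (ckCert C nF) 8 2816 = true := by decide +kernel
theorem k_certp_12 : allR (ckCert C nF) 8 3072 = true := by decide +kernel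
theorem k_certp_13 : allR (ckCert C nF) 8 3328 = true := by decide +kernel
theorem k_certp_14 : allR (ckCert C nF) 8 3584 = true := by decide +kernel
theorem k_certp_15 : allR (ckCert C nF) 8 3840 = true := by decide +kernel
theorem k_certp_16 : allR (ckCert C nF) 8 4096 = true := by decide +kernel
theorem k_certp_17 : allR (ckCert C nF) 8 4352 = true := by decide +kernel
theorem k_certp_18 : allR (ckCert C nF) 8 4608 = true := by decide +kernel
theorem k_certp_19 : allR (ckCert C nF) 8 4864 = true := by decide +kernel
theorem k_certp_20 : allR (ckCert C nF) 8 5120 = true := by decide +kernel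
theorem k_certp_21 : allR (ckCert C nF) 8 5376 = true := by decide +kernel
theorem k_certp_22 : allR (ckCert C nF) 8 5632 = true := by decide +kernel
theorem k_certp_23 : allR (ckCert C nF) 8 5888 = true := by decide +kernel
theorem k_certp_24 : allR (ckCert C nF) 8 6144 = true := by decide +kernel
theorem k_certp_25 : allR (ckCert C nF) 8 6400 = true := by decide +kernel
theorem k_certp_26 : allR (ckCert C nF) 8 6656 = true := by decide +kernel
theorem k_certp_27 : allR (ckCert C nF) 8 6912 = true := by decide +kernel
theorem k_certp_28 : allR (ckCert C nF) 8 7168 = true := by decide +kernel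
theorem k_certp_29 : allR (ckCert C nF) 8 7424 = true := by decide +kernel
theorem k_certp_30 : allR (ckCert C nF) 8 7680 = true := by decide +kernel
theorem k_certp_31 : allR (ckCert C nF) 8 7936 = true := by decide +kernel
theorem k_certp_32 : allR (ckCert C nF) 8 8192 = true := by decide +kernel
theorem k_certp_33 : allR (ckCert C nF) 8 8448 = true := by decide +kernel

end Cfsg.Agent.Lib.Helper77.TCS.H3
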