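import Cfsg.Agent.Lib.Helper77.TCSH3T

set_option autoImplicit false
set_option maxRecDepth 1000000
set_option linter.unusedVariables false
set_option Elab.async false

namespace Cfsg.Agent.Lib.Helper77.TCS.H3

open Cfsg.Agent.Lib.Helper25.TC

theorem k_certp_442 : allR (ckCert C nF) 8 113152 = true := by decide +kernel
theorem k_certp_443 : allR (ckCert C nF) 8 113408 = true := by decide +kernel
theorem k_certp_444 : allR (ckCert C nF) 8 113664 = true := by decide +kernel
theorem k_certp_445 : allR (ckCert C nF) 8 113920 = true := by decide +kernel
theorem k_certp_446 : allR (ckCert C nF) 8 114176 = true := by decide +kernel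
theorem k_certp_447 : allR (ckCert C nF) 8 114432 = true := by decide +kernel
theorem k_certp_448 : allR (ckCert C nF) 8 114688 = true := by decide +kernel
theorem k_certp_449 : allR (ckCert C nF) 8 114944 = true := by decide +kernel
theorem k_certp_450 : allR (ckCert C nF) 8 115200 = true := by decide +kernel
theorem k_certp_451 : allR (ckCert C nF) 8 115456 = true := by decide +kernel
theorem k_certp_452 : allR (ckCert C nF) 8 115712 = true := by decide +kernel
theorem k_certp_453 : allR (ckCert C nF) 8 115968 = true := by decide +kernel
theorem k_certp_454 : allR (ckCert C nF) 8 116224 = true := by decide +kernel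
theorem k_certp_455 : allR (ckCert C nF) 8 116480 = true := by decide +kernel
theorem k_certp_456 : allR (ckCert C nF) 8 116736 = true := by decide +kernel
theorem k_certp_457 : allR (ckCert C nF) 8 116992 = true := by decide +kernel
theorem k_certp_458 : allR (ckCert C nF) 8 117248 = true := by decide +kernel
theorem k_certp_459 : allR (ckCert C nF) 8 117504 = true := by decide +kernel
theorem k_certp_460 : allR (ckCert C nF) 8 117760 = true := by decide +kernel
theorem k_certp_461 : allR (ckCert C nF) 8 118016 = true := by decide +kernel
theorem k_certp_462 : allR (ckCert C nF) 8 118272 = true := by decide +kernel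
theorem k_certp_463 : allR (ckCert C nF) 8 118528 = true := by decide +kernel
theorem k_certp_464 : allR (ckCert C nF) 8 118784 = true := by decide +kernel
theorem k_certp_465 : allR (ckCert C nF) 8 119040 = true := by decide +kernel
theorem k_certp_466 : allR (ckCert C nF) 8 119296 = true := by decide +kernel
theorem k_certp_467 : allR (ckCert C nF) 8 119552 = true := by decide +kernel
theorem k_certp_468 : allR (ckCert C nF) 8 119808 = true := by decide +kernel
theorem k_certp_469 : allR (ckCert C nF) 8 120064 = true := by decide +kernel
theorem k_certp_470 : allR (ckCert C nF) 8 120320 = true := by decide +kernel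
theorem k_certp_471 : allR (ckCert C nF) 8 120576 = true := by decide +kernel
theorem k_certp_472 : allR (ckCert C nF) 8 120832 = true := by decide +kernel
theorem k_certp_473 : allR (ckCert C nF) 8 121088 = true := by decide +kernel
theorem k_certp_474 : allR (ckCert C nF) 8 121344 = true := by decide +kernel
theorem k_certp_475 : allR (ckCert C nF) 8 121600 = true := by decide +kernel

end Cfsg.Agent.Lib.Helper77.TCS.H3
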