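import Cfsg.Agent.Lib.Helper77.TCSK3D0
import Cfsg.Agent.Lib.Helper25.TCMain
import Cfsg.Agent.Lib.Helper77.J3SchurTC

set_option autoImplicit false
set_option maxRecDepth 1000000
set_option linter.unusedVariables false

namespace Cfsg.Agent.Lib.Helper77.TCS.K3

open Cfsg.Agent.Lib.Helper25.TC Cfsg.Agent.Lib.Helper77.SchurTC

def sFP (c : Nat) : Nat := (bif Nat.ble 7 c then (bif Nat.ble 10 c then (bif Nat.ble 12 c then cFP_12 else (bif Nat.ble 11 c then cFP_11 else cFP_10)) else (bif Nat.ble 9 c then cFP_9 else (bif Nat.ble 8 c then cFP_8 else cFP_7))) else (bif Nat.ble 4 c then (bif Nat.ble 6 c then cFP_6 else (bif Nat.ble 5 c then cFP_5 else cFP_4)) else (bif Nat.ble 2 c then (bif Nat.ble 3 c then cFP_3 else cFP_2) else (bif Nat.ble 1 c then cFP_1 else cFP_0))))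
def gFP (i : Nat) : Nat := Nat.land (Nat.shiftRight (sFP (Nat.shiftRight i 9)) (Nat.mul 29 (Nat.land i 511))) 536870911
def sFJ_0_0 (c : Nat) : Nat := (bif Nat.ble 8 c then (bif Nat.ble 12 c then (bif Nat.ble 14 c then (bif Nat.ble 15 c then cFJ_15 else cFJ_14) else (bif Nat.ble 13 c then cFJ_13 else cFJ_12)) else (bif Nat.ble 10 c then (bif Nat.ble 11 c then cFJ_11 else cFJ_10) else (bif Nat.ble 9 c then cFJ_9 else cFJ_8))) else (bif Nat.ble 4 c then (bif Nat.ble 6 c then (bif Nat.ble 7 c then cFJ_7 else cFJ_6) else (bif Nat.ble 5 c then cFJ_5 else cFJ_4)) else (bif Nat.ble 2 c then (bif Nat.ble 3 c then cFJ_3 else cFJ_2) else (bif Nat.ble 1 c then cFJ_1 else cFJ_0))))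
def sFJ_0_1 (c : Nat) : Nat := (bif Nat.ble 21 c then (bif Nat.ble 23 c then (bif Nat.ble 24 c then cFJ_24 else cFJ_23) else (bif Nat.ble 22 c then cFJ_22 else cFJ_21)) else (bif Nat.ble 19 c then (bif Nat.ble 20 c then cFJ_20 else cFJ_19) else (bif Nat.ble 18 c then cFJ_18 else (bif Nat.ble 17 c then cFJ_17 else cFJ_16))))
def sFJ (c : Nat) : Nat := (bif Nat.ble 16 c then sFJ_0_1 c else sFJ_0_0 c)
def gFJ (i : Nat) : Nat := Nat.land (Nat.shiftRight (sFJ (Nat.shiftRight i 8)) (Nat.mul 42 (Nat.land i 255))) 4398046511103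
def sST (c : Nat) : Nat := (bif Nat.ble 8 c then (bif Nat.ble 12 c then (bif Nat.ble 14 c then (bif Nat.ble 15 c then cST_15 else cST_14) else (bif Nat.ble 13 c then cST_13 else cST_12)) else (bif Nat.ble 10 c then (bif Nat.ble 11 c then cST_11 else cST_10) else (bif Nat.ble 9 c then cST_9 else cST_8))) else (bif Nat.ble 4 c then (bif Nat.ble 6 c then (bif Nat.ble 7 c then cST_7 else cST_6) else (bif Nat.ble 5 c then cST_5 else cST_4)) else (bif Nat.ble 2 c then (bif Nat.ble 3 c then cST_3 else cST_2) else (bif Nat.ble 1 c then cST_1 else cST_0))))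
def gST (i : Nat) : Nat := Nat.land (Nat.shiftRight (sST (Nat.shiftRight i 10)) (Nat.mul 14 (Nat.land i 1023))) 16383
def sND (c : Nat) : Nat := (bif Nat.ble 2 c then (bif Nat.ble 3 c then cND_3 else cND_2) else (bif Nat.ble 1 c then cND_1 else cND_0))
def gND (i : Nat) : Nat := Nat.land (Nat.shiftRight (sND (Nat.shiftRight i 10)) (Nat.mul 16 (Nat.land i 1023))) 65535
def sFIN (c : Nat) : Nat := (bif Nat.ble 2 c then (bif Nat.ble 3 c then cFIN_3 else cFIN_2) else (bif Nat.ble 1 c then cFIN_1 else cFIN_0))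
def gFIN (i : Nat) : Nat := Nat.land (Nat.shiftRight (sFIN (Nat.shiftRight i 10)) (Nat.mul 14 (Nat.land i 1023))) 16383
def sCAN (c : Nat) : Nat := cCAN_0
def gCAN (i : Nat) : Nat := Nat.land (Nat.shiftRight (sCAN (Nat.shiftRight i 10)) (Nat.mul 12 (Nat.land i 1023))) 4095
def sTT0 (c : Nat) : Nat := cTT0_0
def T0 (i : Nat) : Nat := Nat.land (Nat.shiftRight (sTT0 (Nat.shiftRight i 11)) (Nat.mul 10 (Nat.land i 2047))) 1023
def sTT1 (c : Nat) : Nat := cTT1_0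
def T1 (i : Nat) : Nat := Nat.land (Nat.shiftRight (sTT1 (Nat.shiftRight i 11)) (Nat.mul 10 (Nat.land i 2047))) 1023
def sTT2 (c : Nat) : Nat := cTT2_0
def T2 (i : Nat) : Nat := Nat.land (Nat.shiftRight (sTT2 (Nat.shiftRight i 11)) (Nat.mul 10 (Nat.land i 2047))) 1023

def nn : Nat := 960
def nF : Nat := 6345
def subW : List (List Nat) := [[1, 0]]
def exactW : List (List Nat) := [[0, 0], [1, 1], [2, 2], [1, 0, 1, 0, 1, 0, 1, 0, 1, 0, 1, 0, 1, 0, 1, 0, 1, 0, 1, 0, 1, 0, 1, 0, 1, 0, 1, 0, 1, 0, 1, 0, 1, 0], [2, 0, 2, 0, 2, 0, 2, 0, 2, 0, 2, 0, 2, 0, 2, 0, 2, 0, 2, 0], [2, 1, 2, 1, 2, 1, 2, 1], [0, 2, 1, 2, 0, 2, 1, 2, 0, 2, 1, 2], [0, 1, 2, 1, 0, 2, 0, 1, 2, 1, 0, 2]]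
def centW : List (List Nat) := [[0, 1, 0, 2, 0, 1, 2, 0, 1, 0, 2, 0, 1, 2, 0, 1, 0, 2, 0, 1, 2]]
def cycW : List (List Nat) := [[1, 0], [0, 0], [1, 1], [2, 2], [1, 0, 1, 0, 1, 0, 1, 0, 1, 0, 1, 0, 1, 0, 1, 0, 1, 0, 1, 0, 1, 0, 1, 0, 1, 0, 1, 0, 1, 0, 1, 0, 1, 0], [2, 0, 2, 0, 2, 0, 2, 0, 2, 0, 2, 0, 2, 0, 2, 0, 2, 0, 2, 0], [2, 1, 2, 1, 2, 1, 2, 1], [0, 2, 1, 2, 0, 2, 1, 2, 0, 2, 1, 2], [0, 1, 2, 1, 0, 2, 0, 1, 2, 1, 0, 2], [0, 2, 1, 0, 2, 0, 1, 0, 2, 1, 0, 2, 0, 1, 0, 2, 1, 0, 2, 0, 1, 0, 0, 0, 1, 0, 2, 0, 1, 2, 0, 1, 0, 2, 0, 1, 2, 0, 1, 0, 2, 0, 1, 2], [1, 2, 1, 0, 2, 0, 1, 0, 2, 1, 0, 2, 0, 1, 0, 2, 1, 0, 2, 0, 1, 0, 1, 0, 1, 0, 2, 0, 1, 2, 0, 1, 0, 2, 0, 1, 2, 0, 1, 0, 2, 0, 1, 2], [2, 2, 1, 0, 2, 0, 1, 0, 2, 1, 0, 2, 0, 1, 0, 2, 1, 0, 2, 0, 1, 0, 2, 0, 1, 0, 2, 0, 1, 2, 0, 1, 0, 2, 0, 1, 2, 0, 1, 0, 2, 0, 1, 2]]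
def T (x i : Nat) : Nat :=
  match x with
  | 0 => T0 i
  | 1 => T1 i
  | 2 => T2 i
  | _ => 0
def fin (x i : Nat) : Nat := gFIN (Nat.add (Nat.shiftLeft i 2) x)
def can (i : Nat) : Nat := gCAN i
def C : Cert where
  cyc := cycW
  ns := 1
  nd := gND
  fp := gFP
  fj := gFJ
  st := gST
  wN := 12
  wR := 4
  wL := 6
  wO := 14

end Cfsg.Agent.Lib.Helper77.TCS.K3
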